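import Mathlib

/-!
# Borel–Tits (S2154): matrices graded by a real weight

`UW ω`: unipotent of step `≥ 1`; `U0W ω`: unipotent of step `> 0`; `PW ω`: preserving the filtration;
`TrW ω ω'`: carrying the grading `ω` to the grading `ω'`.
-/

set_option autoImplicit false

namespace Cfsg.Agent.Lib.H29.BT

variable {ι : Type*} [Fintype ι] [DecidableEq ι] {F : Type*} [Field F]

/-- unipotent of step `≥ 1` for the grading `ω` -/
def UW (ω : ι → ℝ) : Set (Matrix ι ι F) :=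
  {M | (∀ a, M a a = 1) ∧ ∀ a b, a ≠ b → M a b ≠ 0 → ω b + 1 ≤ ω a}
/-- unipotent of step `> 0` for the grading `ω` -/
def U0W (ω : ι → ℝ) : Set (Matrix ι ι F) :=
  {M | (∀ a, M a a = 1) ∧ ∀ a b, a ≠ b → M a b ≠ 0 → ω b < ω a}
/-- preserving the filtration of `ω` -/
def PW (ω : ι → ℝ) : Set (Matrix ι ι F) := {M | ∀ a b, M a b ≠ 0 → ω b ≤ ω a}
/-- carrying the grading `ω` to the grading `ω'` -/
def TrW (ω ω' : ι → ℝ) : Set (Matrix ι ι F) := {M | ∀ a b, M a b ≠ 0 → ω' a = ω b}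

end Cfsg.Agent.Lib.H29.BT
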