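import Mathlib
import Cfsg.Agent.Lib.H29.BtDefs
import Cfsg.Agent.Lib.H24.BtGRD1
import Cfsg.Agent.Lib.H8.BtGRD2
import Cfsg.Agent.Lib.H24.BtCLOSED
import Cfsg.Agent.Lib.H8.BtOPT

/-! # Borel–Tits (S2154): the generic pieces (bridge to the farmed files)

GRD1, CLOSED: helper24; GRD2, OPT: helper8 (twins by helper27, helper2, helper16). -/

set_option autoImplicit false

namespace Cfsg.Agent.Lib.H29.BT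

variable {ι : Type*} [Fintype ι] [DecidableEq ι] {F : Type*} [Field F]

/-! ## piece GRD1 : monoid facts -/
theorem UW_one (ω : ι → ℝ) : (1 : Matrix ι ι F) ∈ UW ω := Cfsg.Agent.Lib.H24.BT.UW_one ω
theorem UW_mul (ω : ι → ℝ) (M N : Matrix ι ι F) (hM : M ∈ UW ω) (hN : N ∈ UW ω) : M * N ∈ UW ω :=
  Cfsg.Agent.Lib.H24.BT.UW_mul ω M N hM hN
theorem U0W_one (ω : ι → ℝ) : (1 : Matrix ι ι F) ∈ U0W ω := Cfsg.Agent.Lib.H24.BT.U0W_one ω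
theorem U0W_mul (ω : ι → ℝ) (M N : Matrix ι ι F) (hM : M ∈ U0W ω) (hN : N ∈ U0W ω) : M * N ∈ U0W ω :=
  Cfsg.Agent.Lib.H24.BT.U0W_mul ω M N hM hN
theorem PW_one (ω : ι → ℝ) : (1 : Matrix ι ι F) ∈ PW ω := Cfsg.Agent.Lib.H24.BT.PW_one ω
theorem PW_mul (ω : ι → ℝ) (M N : Matrix ι ι F) (hM : M ∈ PW ω) (hN : N ∈ PW ω) : M * N ∈ PW ω :=
  Cfsg.Agent.Lib.H24.BT.PW_mul ω M N hM hN
theorem TrW_one (ω : ι → ℝ) : (1 : Matrix ι ι F) ∈ TrW ω ω := Cfsg.Agent.Lib.H24.BT.TrW_one ω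
/-- `M` carries `ω` to `ω'`, `N` carries `ω'` to `ω''`: `N * M` carries `ω` to `ω''` -/
theorem TrW_mul (ω ω' ω'' : ι → ℝ) (M N : Matrix ι ι F) (hM : M ∈ TrW ω ω') (hN : N ∈ TrW ω' ω'') :
    N * M ∈ TrW ω ω'' := Cfsg.Agent.Lib.H24.BT.TrW_mul ω ω' ω'' M N hM hN
theorem UW_sub_U0W (ω : ι → ℝ) : (UW ω : Set (Matrix ι ι F)) ⊆ U0W ω := Cfsg.Agent.Lib.H24.BT.UW_sub_U0W ω
theorem U0W_sub_PW (ω : ι → ℝ) : (U0W ω : Set (Matrix ι ι F)) ⊆ PW ω := Cfsg.Agent.Lib.H24.BT.U0W_sub_PW ω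
theorem TrW_sub_PW (ω : ι → ℝ) : (TrW ω ω : Set (Matrix ι ι F)) ⊆ PW ω := Cfsg.Agent.Lib.H24.BT.TrW_sub_PW ω

/-! ## piece GRD2 : midpoint, `Z ∩ U = 1`, conjugation, rows -/
theorem UW_mid (ω₁ ω₂ : ι → ℝ) (M : Matrix ι ι F) (h1 : M ∈ UW ω₁) (h2 : M ∈ UW ω₂) :
    M ∈ UW (fun a => (ω₁ a + ω₂ a) / 2) := Cfsg.Agent.Lib.H8.BT.UW_mid ω₁ ω₂ M h1 h2
theorem eq_one_of_TrW_U0W (ω : ι → ℝ) (M : Matrix ι ι F) (h1 : M ∈ TrW ω ω) (h2 : M ∈ U0W ω) : M = 1 :=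
  Cfsg.Agent.Lib.H8.BT.eq_one_of_TrW_U0W ω M h1 h2
/-- `UW ω₀ = {1}` for the zero grading -/
theorem eq_one_of_UW_zero (M : Matrix ι ι F) (h : M ∈ UW (fun _ : ι => (0 : ℝ))) : M = 1 :=
  Cfsg.Agent.Lib.H8.BT.eq_one_of_UW_zero M h
theorem conj_UW_of_TrW (ω ω' : ι → ℝ) (n n' M : Matrix ι ι F) (h1 : n * n' = 1) (hn : n ∈ TrW ω ω')
    (hn' : n' ∈ TrW ω' ω) (hM : M ∈ UW ω) : n * M * n' ∈ UW ω' :=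
  Cfsg.Agent.Lib.H8.BT.conj_UW_of_TrW ω ω' n n' M h1 hn hn' hM
theorem conj_UW_of_PW (ω : ι → ℝ) (h h' M : Matrix ι ι F) (h1 : h * h' = 1) (hh : h ∈ PW ω) (hh' : h' ∈ PW ω)
    (hM : M ∈ UW ω) : h * M * h' ∈ UW ω := Cfsg.Agent.Lib.H8.BT.conj_UW_of_PW ω h h' M h1 hh hh' hM
theorem conj_U0W_of_PW (ω : ι → ℝ) (h h' M : Matrix ι ι F) (h1 : h * h' = 1) (hh : h ∈ PW ω) (hh' : h' ∈ PW ω)
    (hM : M ∈ U0W ω) : h * M * h' ∈ U0W ω := Cfsg.Agent.Lib.H8.BT.conj_U0W_of_PW ω h h' M h1 hh hh' hM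
theorem exists_row_ne_zero (g : GL ι F) (a : ι) : ∃ b, (g : Matrix ι ι F) a b ≠ 0 :=
  Cfsg.Agent.Lib.H8.BT.exists_row_ne_zero g a
theorem le_of_TrW_PW (ω ω' : ι → ℝ) (g : GL ι F) (h1 : (g : Matrix ι ι F) ∈ TrW ω ω')
    (h2 : (g : Matrix ι ι F) ∈ PW ω) (a : ι) : ω' a ≤ ω a :=
  Cfsg.Agent.Lib.H8.BT.le_of_TrW_PW ω ω' g h1 h2 a

/-! ## piece CLOSED -/
theorem isClosed_UW (l : ℕ) (ω : (Fin l → ℝ) → ι → ℝ) (hω : ∀ a, Continuous fun x => ω x a) (M : Matrix ι ι F) :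
    IsClosed {x : Fin l → ℝ | M ∈ UW (ω x)} := Cfsg.Agent.Lib.H24.BT.isClosed_UW l ω hω M

/-! ## piece OPT -/
theorem exists_min (l : ℕ) (Q : (Fin l → ℝ) → ℝ) (hQc : Continuous Q) (hQ : ∀ x j, (x j) ^ 2 ≤ Q x)
    (S : Set (Fin l → ℝ)) (hS : IsClosed S) (hne : S.Nonempty) : ∃ x ∈ S, ∀ y ∈ S, Q x ≤ Q y :=
  Cfsg.Agent.Lib.H8.BT.exists_min l Q hQc hQ S hS hne

end Cfsg.Agent.Lib.H29.BT
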