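import Mathlib
import Cfsg.Agent.Lib.H29.BtBridge

/-!
# Borel–Tits (S2154): the graded subgroups of the general linear group over a finite field
-/

set_option autoImplicit false
set_option linter.unusedSectionVars false

namespace Cfsg.Agent.Lib.H29.BT

theorem inv_mem_of_submonoid {G : Type*} [Group G] [Finite G] (S : Submonoid G) {g : G} (hg : g ∈ S) :
    g⁻¹ ∈ S := by
  have h1 : g ^ orderOf g = 1 := pow_orderOf_eq_one g
  have hpos : 0 < orderOf g := orderOf_pos g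
  have h2 : g⁻¹ = g ^ (orderOf g - 1) := by
    apply inv_eq_of_mul_eq_one_right
    rw [← pow_succ', Nat.sub_add_cancel hpos, h1]
  rw [h2]
  exact pow_mem hg _

variable {ι : Type*} [Fintype ι] [DecidableEq ι] {F : Type*} [Field F] [Finite F]

/-- the submonoid of `GL` attached to a multiplicative set of matrices -/
def mkSubmonoid (S : Set (Matrix ι ι F)) (h1 : (1 : Matrix ι ι F) ∈ S)
    (hm : ∀ M N, M ∈ S → N ∈ S → M * N ∈ S) : Submonoid (GL ι F) where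
  carrier := {g | (g : Matrix ι ι F) ∈ S}
  one_mem' := by simpa using h1
  mul_mem' := by
    intro a b ha hb
    simp only [Set.mem_ofPred_eq, Units.val_mul] at *
    exact hm _ _ ha hb

/-- the subgroup of `GL` attached to a multiplicative set of matrices -/
def mkSubgroup (S : Set (Matrix ι ι F)) (h1 : (1 : Matrix ι ι F) ∈ S)
    (hm : ∀ M N, M ∈ S → N ∈ S → M * N ∈ S) : Subgroup (GL ι F) where
  toSubmonoid := mkSubmonoid S h1 hm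
  inv_mem' := by
    intro g hg
    exact inv_mem_of_submonoid (mkSubmonoid S h1 hm) hg

theorem mem_mkSubgroup (S : Set (Matrix ι ι F)) (h1 : (1 : Matrix ι ι F) ∈ S)
    (hm : ∀ M N, M ∈ S → N ∈ S → M * N ∈ S) (g : GL ι F) :
    g ∈ mkSubgroup S h1 hm ↔ (g : Matrix ι ι F) ∈ S := Iff.rfl

def UWG (ω : ι → ℝ) : Subgroup (GL ι F) := mkSubgroup (UW ω) (UW_one ω) (UW_mul ω)
def U0WG (ω : ι → ℝ) : Subgroup (GL ι F) := mkSubgroup (U0W ω) (U0W_one ω) (U0W_mul ω)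
def PWG (ω : ι → ℝ) : Subgroup (GL ι F) := mkSubgroup (PW ω) (PW_one ω) (PW_mul ω)
def ZWG (ω : ι → ℝ) : Subgroup (GL ι F) :=
  mkSubgroup (TrW ω ω) (TrW_one ω) (fun M N hM hN => TrW_mul ω ω ω N M hN hM)

theorem mem_UWG (ω : ι → ℝ) (g : GL ι F) : g ∈ UWG ω ↔ (g : Matrix ι ι F) ∈ UW ω := Iff.rfl
theorem mem_U0WG (ω : ι → ℝ) (g : GL ι F) : g ∈ U0WG ω ↔ (g : Matrix ι ι F) ∈ U0W ω := Iff.rfl
theorem mem_PWG (ω : ι → ℝ) (g : GL ι F) : g ∈ PWG ω ↔ (g : Matrix ι ι F) ∈ PW ω := Iff.rfl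
theorem mem_ZWG (ω : ι → ℝ) (g : GL ι F) : g ∈ ZWG ω ↔ (g : Matrix ι ι F) ∈ TrW ω ω := Iff.rfl

theorem UWG_le_U0WG (ω : ι → ℝ) : (UWG ω : Subgroup (GL ι F)) ≤ U0WG ω := fun _ hg => UW_sub_U0W ω hg
theorem U0WG_le_PWG (ω : ι → ℝ) : (U0WG ω : Subgroup (GL ι F)) ≤ PWG ω := fun _ hg => U0W_sub_PW ω hg
theorem ZWG_le_PWG (ω : ι → ℝ) : (ZWG ω : Subgroup (GL ι F)) ≤ PWG ω := fun _ hg => TrW_sub_PW ω hg

theorem eq_one_of_ZWG_U0WG (ω : ι → ℝ) (g : GL ι F) (h1 : g ∈ ZWG ω) (h2 : g ∈ U0WG ω) : g = 1 :=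
  Units.ext (eq_one_of_TrW_U0W ω _ h1 h2)

theorem eq_one_of_UWG_zero (g : GL ι F) (h : g ∈ UWG (fun _ : ι => (0 : ℝ))) : g = 1 :=
  Units.ext (eq_one_of_UW_zero _ h)

theorem UWG_mid (ω₁ ω₂ : ι → ℝ) (g : GL ι F) (h1 : g ∈ UWG ω₁) (h2 : g ∈ UWG ω₂) :
    g ∈ UWG (fun a => (ω₁ a + ω₂ a) / 2) := UW_mid ω₁ ω₂ _ h1 h2

theorem conj_mem_UWG_of_PWG (ω : ι → ℝ) (h g : GL ι F) (hh : h ∈ PWG ω) (hg : g ∈ UWG ω) :
    h * g * h⁻¹ ∈ UWG ω := by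
  rw [mem_UWG, Units.val_mul, Units.val_mul]
  exact conj_UW_of_PW ω _ _ _ (by rw [← Units.val_mul, mul_inv_cancel, Units.val_one]) hh (inv_mem hh) hg

theorem conj_mem_U0WG_of_PWG (ω : ι → ℝ) (h g : GL ι F) (hh : h ∈ PWG ω) (hg : g ∈ U0WG ω) :
    h * g * h⁻¹ ∈ U0WG ω := by
  rw [mem_U0WG, Units.val_mul, Units.val_mul]
  exact conj_U0W_of_PW ω _ _ _ (by rw [← Units.val_mul, mul_inv_cancel, Units.val_one]) hh (inv_mem hh) hg

theorem conj_mem_UWG_of_TrW (ω ω' : ι → ℝ) (n g : GL ι F) (hn : (n : Matrix ι ι F) ∈ TrW ω ω')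
    (hn' : ((n⁻¹ : GL ι F) : Matrix ι ι F) ∈ TrW ω' ω) (hg : g ∈ UWG ω) : n * g * n⁻¹ ∈ UWG ω' := by
  rw [mem_UWG, Units.val_mul, Units.val_mul]
  exact conj_UW_of_TrW ω ω' _ _ _ (by rw [← Units.val_mul, mul_inv_cancel, Units.val_one]) hn hn' hg

/-- odd powers of a matrix exchanging two gradings exchange them -/
theorem TrW_pow_odd (ω ω' : ι → ℝ) (M : Matrix ι ι F) (h1 : M ∈ TrW ω ω') (h2 : M ∈ TrW ω' ω) (k : ℕ) :
    M ^ (2 * k + 1) ∈ TrW ω ω' ∧ M ^ (2 * k + 1) ∈ TrW ω' ω := by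
  induction k with
  | zero => simpa using ⟨h1, h2⟩
  | succ k ih =>
    have e : M ^ (2 * (k + 1) + 1) = M * (M * M ^ (2 * k + 1)) := by
      rw [← pow_succ', ← pow_succ']
      congr 1
    rw [e]
    constructor
    · exact TrW_mul ω ω ω' _ _ (TrW_mul ω ω' ω _ _ ih.1 h2) h1
    · exact TrW_mul ω' ω' ω _ _ (TrW_mul ω' ω ω' _ _ ih.2 h1) h2

theorem TrW_inv_of_both (ω ω' : ι → ℝ) (g : GL ι F) (h1 : (g : Matrix ι ι F) ∈ TrW ω ω')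
    (h2 : (g : Matrix ι ι F) ∈ TrW ω' ω) :
    ((g⁻¹ : GL ι F) : Matrix ι ι F) ∈ TrW ω' ω ∧ ((g⁻¹ : GL ι F) : Matrix ι ι F) ∈ TrW ω ω' := by
  have hpos : 0 < orderOf g := orderOf_pos g
  have e : g⁻¹ = g ^ (2 * (orderOf g - 1) + 1) := by
    apply inv_eq_of_mul_eq_one_right
    rw [← pow_succ']
    have : 2 * (orderOf g - 1) + 1 + 1 = 2 * orderOf g := by omega
    rw [this, mul_comm, pow_mul, pow_orderOf_eq_one, one_pow]
  rw [e, Units.val_pow_eq_pow_val]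
  exact (TrW_pow_odd ω ω' _ h1 h2 _).symm

end Cfsg.Agent.Lib.H29.BT
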