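import Mathlib

/-!
# Sparse integer vectors and matrices given by column functions

A sparse vector is a list of pairs (index, value), indices being natural numbers; a sparse matrix is a
function sending a column index to a sparse vector. These evaluate quickly in the kernel and are linked to dense
matrices over a `Fintype` through an injective coding of the index type into `ℕ`.
-/

set_option autoImplicit false

namespace Cfsg.Agent.Lib.H29.Chev

/-- sparse vectors: lists of (index, value) -/
abbrev SV := List (ℕ × ℤ)

/-- the coefficient of index `i` in a sparse vector -/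
def SV.get : SV → ℕ → ℤ
  | [], _ => 0
  | p :: v, i => (if p.1 = i then p.2 else 0) + SV.get v i

@[simp] theorem SV.get_nil (i : ℕ) : SV.get [] i = 0 := rfl
@[simp] theorem SV.get_cons (p : ℕ × ℤ) (v : SV) (i : ℕ) :
    SV.get (p :: v) i = (if p.1 = i then p.2 else 0) + SV.get v i := rfl

theorem SV.get_append (v w : SV) (i : ℕ) : SV.get (v ++ w) i = SV.get v i + SV.get w i := by
  induction v with
  | nil => simp
  | cons p v ih => simp [ih, add_assoc]

theorem SV.get_eq_zero_of_not_mem (v : SV) (i : ℕ) (h : i ∉ v.map Prod.fst) : SV.get v i = 0 := by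
  induction v with
  | nil => rfl
  | cons p v ih =>
    simp only [List.map_cons, List.mem_cons, not_or] at h
    simp [ih h.2, Ne.symm h.1]

/-- scaling a sparse vector -/
def SV.smul (a : ℤ) (v : SV) : SV := v.map fun p => (p.1, p.2 * a)

theorem SV.get_smul (a : ℤ) (v : SV) (i : ℕ) : SV.get (SV.smul a v) i = SV.get v i * a := by
  induction v with
  | nil => simp [SV.smul]
  | cons p v ih =>
    simp only [SV.smul, List.map_cons, SV.get_cons] at ih ⊢
    rw [ih]; split_ifs <;> ring

/-- sparse matrices: column functions -/
abbrev SM := ℕ → SV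

/-- apply a sparse matrix to a sparse vector -/
def SM.apply (M : SM) (v : SV) : SV := v.flatMap fun p => SV.smul p.2 (M p.1)

theorem SM.get_apply (M : SM) (v : SV) (i : ℕ) :
    SV.get (SM.apply M v) i = (v.map fun p => SV.get (M p.1) i * p.2).sum := by
  induction v with
  | nil => simp [SM.apply]
  | cons p v ih =>
    simp only [SM.apply, List.flatMap_cons, List.map_cons, List.sum_cons] at ih ⊢
    rw [SV.get_append, ih, SV.get_smul]

/-- product of sparse matrices -/
def SM.mul (M N : SM) : SM := fun c => SM.apply M (N c)

/-- Boolean equality test of two sparse vectors as functions -/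
def SV.beq (v w : SV) : Bool :=
  (v.map Prod.fst ++ w.map Prod.fst).all fun i => SV.get v i == SV.get w i

theorem SV.eq_of_beq {v w : SV} (h : SV.beq v w = true) (i : ℕ) : SV.get v i = SV.get w i := by
  by_cases hi : i ∈ v.map Prod.fst ++ w.map Prod.fst
  · simp only [SV.beq, List.all_eq_true] at h
    simpa using h i hi
  · rw [List.mem_append, not_or] at hi
    rw [SV.get_eq_zero_of_not_mem v i hi.1, SV.get_eq_zero_of_not_mem w i hi.2]

/-- all indices of a sparse vector are below `N` -/
def SV.bdd (N : ℕ) (v : SV) : Bool := v.all fun p => decide (p.1 < N)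

section Dense

variable {ι : Type*} [Fintype ι] [DecidableEq ι] (code : ι → ℕ) (hcode : Function.Injective code)

/-- the dense matrix of a sparse matrix, through a coding of the index type -/
def SM.dens (M : SM) : Matrix ι ι ℤ := fun i j => SV.get (M (code j)) (code i)

omit [DecidableEq ι] in
theorem SM.dens_apply (M : SM) (i j : ι) : SM.dens code M i j = SV.get (M (code j)) (code i) := rfl

include hcode in
theorem SV.sum_code (N : ℕ) (hN : ∀ k < N, ∃ i, code i = k) (f : ℕ → ℤ) (v : SV) (hv : SV.bdd N v = true) :
    ∑ m : ι, f (code m) * SV.get v (code m) = (v.map fun p => f p.1 * p.2).sum := by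
  induction v with
  | nil => simp
  | cons p v ih =>
    simp only [SV.bdd, List.all_cons, Bool.and_eq_true, decide_eq_true_eq] at hv
    have ih' := ih (by simpa [SV.bdd] using hv.2)
    simp only [SV.get_cons, List.map_cons, List.sum_cons, mul_add, Finset.sum_add_distrib, ih']
    congr 1
    obtain ⟨i0, hi0⟩ := hN p.1 hv.1
    rw [Finset.sum_eq_single i0]
    · simp [hi0]
    · intro b _ hb
      have : p.1 ≠ code b := fun h => hb (hcode (by rw [hi0, h]))
      simp [this]
    · intro h; exact absurd (Finset.mem_univ _) h

include hcode in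
theorem SM.dens_mul (N : ℕ) (hN : ∀ k < N, ∃ i, code i = k) (M P : SM)
    (hP : ∀ j : ι, SV.bdd N (P (code j)) = true) :
    SM.dens code M * SM.dens code P = SM.dens code (SM.mul M P) := by
  ext i j
  rw [Matrix.mul_apply]
  simp only [SM.dens_apply, SM.mul, SM.get_apply]
  exact SV.sum_code code hcode N hN (fun m => SV.get (M m) (code i)) (P (code j)) (hP j)

omit [Fintype ι] [DecidableEq ι] in
theorem SM.dens_eq_of_beq (M P : SM) (h : ∀ j : ι, SV.beq (M (code j)) (P (code j)) = true) :
    SM.dens code M = SM.dens code P := by
  ext i j
  exact SV.eq_of_beq (h j) (code i)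

end Dense

end Cfsg.Agent.Lib.H29.Chev
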