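import Mathlib
import Cfsg.Prelude.Def_ChevStructure
import Cfsg.Agent.Lib.H29.ChevSparse

/-!
# The columns of the coefficient matrices of `x_r(t)` for a Chevalley datum, as sparse vectors

`x_r(t) = ∑_{k<4} t^k A_r^{(k)}` with integer matrices `A_r^{(k)}` whose columns are read off the tables of the datum.
-/

set_option autoImplicit false
set_option linter.unusedSectionVars false

namespace Cfsg.Agent.Lib.H29.Chev

open Cfsg.Lie Matrix

variable (D : ChevalleyDatum)

/-- coding of the index set: `h_i ↦ i`, `e_s ↦ rank + s` -/
def code : D.Idx → ℕ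
  | Sum.inl i => i.val
  | Sum.inr s => D.rank + s.val

theorem code_inl (i : Fin D.rank) : code D (Sum.inl i) = i.val := rfl
theorem code_inr (s : Fin D.nroots) : code D (Sum.inr s) = D.rank + s.val := rfl

theorem code_injective : Function.Injective (code D) := by
  intro a b h
  rcases a with i | s <;> rcases b with j | u <;> simp only [code] at h
  · exact congrArg _ (Fin.ext h)
  · have := i.isLt; omega
  · have := j.isLt; omega
  · exact congrArg _ (Fin.ext (by omega))

theorem code_lt (a : D.Idx) : code D a < D.rank + D.nroots := by
  rcases a with i | s <;> simp only [code]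
  · have := i.isLt; omega
  · have := s.isLt; omega

theorem code_surj (k : ℕ) (hk : k < D.rank + D.nroots) : ∃ a : D.Idx, code D a = k := by
  by_cases h : k < D.rank
  · exact ⟨Sum.inl ⟨k, h⟩, rfl⟩
  · exact ⟨Sum.inr ⟨k - D.rank, by omega⟩, by simp only [code]; omega⟩

/-- the entries `((index of k r + s, M_{r,s,k}), k - 1)` of the chain table for the pair `(r, s)` -/
def chainE (r s : ℕ) : List ((ℕ × ℤ) × ℕ) :=
  ((D.chain.getD r #[]).toList.filter (fun e => e.1 = s)).flatMap fun e => e.2.toList.zipIdx

theorem chainCoeff_eq (r s u : ℕ) :
    D.chainCoeff r s u = ((chainE D r s).filter (fun q => q.1.1 = u)).map fun q => (q.2 + 1, q.1.2) := by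
  unfold ChevalleyDatum.chainCoeff chainE
  rw [List.filter_flatMap, List.map_flatMap]

/-- the column with code `c` of the coefficient matrix `A_r^{(k)}` of `t^k` in `x_r(t)` -/
def colA (r k c : ℕ) : SV :=
  if k = 0 then [(c, 1)] else
  if c < D.rank then (if k = 1 then [(D.rank + r, - ((D.cartanSR.getD c #[]).getD r 0))] else [])
  else
    if c - D.rank = r then []
    else if c - D.rank = D.negIdx.getD r 0 then
      (if k = 1 then (List.range D.rank).map (fun i => (i, (D.coroot.getD r #[]).getD i 0))
       else if k = 2 then [(D.rank + r, -1)] else [])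
    else ((chainE D r (c - D.rank)).filter (fun q => q.2 + 1 = k)).map (fun q => (D.rank + q.1.1, q.1.2))

/-- the integer matrix `A_r^{(k)}` -/
def Ak (r k : ℕ) : Matrix D.Idx D.Idx ℤ := SM.dens (code D) (colA D r k)

theorem SV.get_range_map (n : ℕ) (f : ℕ → ℤ) (j : ℕ) :
    SV.get ((List.range n).map fun i => (i, f i)) j = if j < n then f j else 0 := by
  induction n with
  | zero => simp
  | succ n ih =>
    rw [List.range_succ, List.map_append, SV.get_append, ih]
    simp only [List.map_cons, List.map_nil, SV.get_cons, SV.get_nil, add_zero]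
    by_cases h1 : j < n
    · have : n ≠ j := by omega
      have h2 : j < n + 1 := by omega
      simp [h1, this, h2]
    · by_cases h2 : n = j
      · subst h2; simp
      · have : ¬ j < n + 1 := by omega
        simp [h1, h2, this]

theorem SV.get_map_ge (m : ℕ) {α : Type*} (l : List α) (f : α → ℕ) (g : α → ℤ) (j : ℕ) (hj : j < m) :
    SV.get (l.map fun q => (m + f q, g q)) j = 0 := by
  apply SV.get_eq_zero_of_not_mem
  simp only [List.map_map, List.mem_map, Function.comp, not_exists, not_and]
  intro q _ h
  omega

variable {F : Type*} [Field F]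

/-- the sum over the chain coefficient list, regrouped by exponent -/
theorem chain_sum (m : ℕ) (t : F) (E : List ((ℕ × ℤ) × ℕ)) (hE : ∀ q ∈ E, q.2 + 1 < 4) (u : ℕ) :
    ((((E.filter (fun q => q.1.1 = u)).map fun q => (q.2 + 1, q.1.2)).map
        fun km : ℕ × ℤ => ((km.2 : ℤ) : F) * t ^ km.1).sum) =
      ∑ k ∈ Finset.range 4, ((SV.get (((E.filter (fun q => q.2 + 1 = k)).map
        (fun q => (m + q.1.1, q.1.2)))) (m + u) : ℤ) : F) * t ^ k := by
  induction E with
  | nil => simp
  | cons q E ih =>
    have ih' := ih (fun q' hq' => hE q' (List.mem_cons_of_mem _ hq'))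
    have hq : q.2 + 1 < 4 := hE q List.mem_cons_self
    have hq' : q.2 + 1 ∈ Finset.range 4 := Finset.mem_range.mpr hq
    have key : ∀ k ∈ Finset.range 4, ((SV.get (((((q :: E).filter (fun q => q.2 + 1 = k)).map
        (fun q => (m + q.1.1, q.1.2)))) ) (m + u) : ℤ) : F) * t ^ k =
        (if q.2 + 1 = k then (if q.1.1 = u then ((q.1.2 : ℤ) : F) * t ^ k else 0) else 0) +
        ((SV.get (((E.filter (fun q => q.2 + 1 = k)).map
        (fun q => (m + q.1.1, q.1.2)))) (m + u) : ℤ) : F) * t ^ k := by
      intro k _
      by_cases h1 : q.2 + 1 = k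
      · simp only [List.filter_cons, h1, decide_true, if_true, List.map_cons, SV.get_cons]
        by_cases h2 : q.1.1 = u
        · simp [h2, add_mul]
        · have : m + q.1.1 ≠ m + u := by omega
          simp [h2, this]
      · simp [List.filter_cons, h1]
    rw [Finset.sum_congr rfl key, Finset.sum_add_distrib, ← ih', Finset.sum_ite_eq (Finset.range 4) (q.2 + 1)]
    simp only [hq', if_true]
    by_cases h2 : q.1.1 = u
    · simp [List.filter_cons, h2]
    · simp [List.filter_cons, h2]

/-- all chain entries of the root `r` have length at most 3 -/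
def ChainShort (r : ℕ) : Prop := ∀ s, ∀ q ∈ chainE D r s, q.2 + 1 < 4

theorem xMat_apply (r : Fin D.nroots) (hr : ChainShort D r.val) (t : F) (row col : D.Idx) :
    D.xMat F r t row col = ∑ k ∈ Finset.range 4, ((Ak D r.val k row col : ℤ) : F) * t ^ k := by
  have e4 : ∀ f : ℕ → F, ∑ k ∈ Finset.range 4, f k = f 0 + f 1 + f 2 + f 3 := by
    intro f; simp [Finset.sum_range_succ]
  have n10 : (1 : ℕ) ≠ 0 := by decide
  have n20 : (2 : ℕ) ≠ 0 := by decide
  have n30 : (3 : ℕ) ≠ 0 := by decide
  have n21 : (2 : ℕ) ≠ 1 := by decide
  have n31 : (3 : ℕ) ≠ 1 := by decide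
  have n32 : (3 : ℕ) ≠ 2 := by decide
  rcases col with i | s
  · rcases row with i' | u
    · rw [e4]
      have hi := i.isLt
      have hi' := i'.isLt
      have h1 : D.rank + r.val ≠ i'.val := by omega
      simp only [Ak, SM.dens_apply, colA, n10, n20, n30, n21, n31, n32, code_inl, hi, if_true]
      simp only [ChevalleyDatum.xMat, Matrix.of_apply]
      by_cases h : i' = i
      · subst h; simp [h1]
      · have : i.val ≠ i'.val := fun h' => h (Fin.ext h'.symm)
        simp [h, this, h1]
    · rw [e4]
      have hi := i.isLt
      have h1 : i.val ≠ D.rank + u.val := by omega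
      simp only [Ak, SM.dens_apply, colA, n10, n20, n30, n21, n31, n32, code_inl, code_inr, hi, if_true]
      simp only [ChevalleyDatum.xMat, Matrix.of_apply]
      by_cases h : u = r
      · subst h; simp [h1]
      · have : D.rank + r.val ≠ D.rank + u.val := fun h' => h (Fin.ext (by omega))
        have this' : r.val ≠ u.val := fun h' => h (Fin.ext h'.symm)
        simp [h, this, this', h1]
  · have hs1 : ¬ (D.rank + s.val < D.rank) := by omega
    have hs2 : D.rank + s.val - D.rank = s.val := by omega
    by_cases hsr : s = r
    · subst hsr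
      rw [e4]
      simp only [Ak, SM.dens_apply, colA, n10, n20, n30, n21, n31, n32, code_inr, hs1, hs2, if_true, if_false]
      simp only [ChevalleyDatum.xMat, Matrix.of_apply, if_true]
      rcases row with i' | u
      · have : D.rank + s.val ≠ code D (Sum.inl i') := by
          have := i'.isLt; simp only [code_inl]; omega
        simp [this]
      · by_cases h : u = s
        · subst h; simp [code_inr]
        · have : D.rank + s.val ≠ D.rank + u.val := fun h' => h (Fin.ext (by omega))
          have this' : s.val ≠ u.val := fun h' => h (Fin.ext h'.symm)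
          simp [h, code_inr, this, this']
    · have hsr' : s.val ≠ r.val := fun h => hsr (Fin.ext h)
      by_cases hneg : s.val = D.negIdx.getD r.val 0
      · rw [e4]
        simp only [Ak, SM.dens_apply, colA, n10, n20, n30, n21, n31, n32, code_inr, hs1, hs2, hsr', ← hneg,
          if_true, if_false]
        simp only [ChevalleyDatum.xMat, Matrix.of_apply, hsr, if_false, ← hneg, if_true]
        rcases row with i' | u
        · have hi' := i'.isLt
          have h1 : D.rank + s.val ≠ i'.val := by omega
          have h2 : D.rank + r.val ≠ i'.val := by omega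
          simp only [code_inl]
          rw [SV.get_range_map]
          simp [h1, h2, hi']
        · simp only [code_inr]
          rw [SV.get_range_map]
          have h0 : ¬ (D.rank + u.val < D.rank) := by omega
          by_cases h : u = s
          · subst h
            have h3 : r.val ≠ u.val := fun h' => hsr' h'.symm
            simp [h0, h3]
          · have h1 : s.val ≠ u.val := fun h' => h (Fin.ext h'.symm)
            by_cases h' : u = r
            · subst h'; simp [h, h0, h1]
            · have h2 : r.val ≠ u.val := fun h'' => h' (Fin.ext h''.symm)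
              simp [h, h', h0, h1, h2]
      · simp only [ChevalleyDatum.xMat, Matrix.of_apply, hsr, if_false, hneg]
        rcases row with i' | u
        · rw [e4]
          have hi' := i'.isLt
          have h1 : D.rank + s.val ≠ i'.val := by omega
          simp only [Ak, SM.dens_apply, colA, n10, n20, n30, n21, n31, n32, code_inr, code_inl, hs1, hs2, hsr',
            hneg, if_true, if_false]
          rw [SV.get_map_ge _ _ _ _ _ hi', SV.get_map_ge _ _ _ _ _ hi', SV.get_map_ge _ _ _ _ _ hi']
          simp [h1]
        · show (if u = s then (1:F) else 0) +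
            ((D.chainCoeff r.val s.val u.val).map fun km => ((km.2 : ℤ) : F) * t ^ km.1).sum = _
          rw [chainCoeff_eq, chain_sum D.rank t _ (hr s.val) u.val]
          rw [e4, e4]
          simp only [Ak, SM.dens_apply, colA, n10, n20, n30, n21, n31, n32, code_inr, hs1, hs2, hsr', hneg,
            if_true, if_false]
          have h0 : ∀ (l : List ((ℕ × ℤ) × ℕ)), (l.filter (fun q => q.2 + 1 = 0)) = [] := by
            intro l; simp
          rw [h0]
          by_cases h : u = s
          · subst h; simp; ring
          · have h1 : s.val ≠ u.val := fun h' => h (Fin.ext h'.symm)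
            simp [h, h1]

end Cfsg.Agent.Lib.H29.Chev
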