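import Mathlib
import Cfsg.Prelude.Def_ChevStructure
import Cfsg.Agent.Lib.H29.ChevCol

/-!
# Tables of a Chevalley datum packed into natural numbers

The kernel evaluates bit operations on natural number literals in one step, so the tables of a datum are packed into
a few large numbers; `Agrees D fd` says that the packed tables `fd` reproduce the tables of `D`, and is checked once
per datum by evaluation. All later checks are run on the packed tables.
-/

set_option autoImplicit false
set_option linter.unusedSectionVars false
set_option linter.unusedSimpArgs false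

namespace Cfsg.Agent.Lib.H29.Chev

open Cfsg.Lie Matrix

/-- packed tables: `car`, `cor` hold 4-bit fields (value + 8); `t1 t2 t3` give for each root `r` a row of
16-bit fields (0 if absent, else `u + 256 * (M + 8)`), one literal per row to keep intermediate numbers small -/
structure FD where
  l : ℕ
  n : ℕ
  car : ℕ
  cor : ℕ
  t1 : ℕ → ℕ
  t2 : ℕ → ℕ
  t3 : ℕ → ℕ
  simples : List ℕ

namespace FD

variable (fd : FD)

def carZ (i r : ℕ) : ℤ := (((fd.car >>> (4 * (i * fd.n + r))) &&& 15 : ℕ) : ℤ) - 8
def corZ (r i : ℕ) : ℤ := (((fd.cor >>> (4 * (r * fd.l + i))) &&& 15 : ℕ) : ℤ) - 8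
def ent (_fd : FD) (T : ℕ → ℕ) (r s : ℕ) : ℕ := (T r >>> (16 * s)) &&& 65535
def d1 (w : ℕ) : List (ℕ × ℤ) := if w = 0 then [] else [(w &&& 255, (((w >>> 8 : ℕ)) : ℤ) - 8)]
/-- the chain `[(r+s, M₁), (2r+s, M₂), …]` of the pair `(r, s)` -/
def chainL (r s : ℕ) : List (ℕ × ℤ) :=
  d1 (fd.ent fd.t1 r s) ++ d1 (fd.ent fd.t2 r s) ++ d1 (fd.ent fd.t3 r s)

/-- the row of the chain table regenerated from the packed tables -/
def genRow (r : ℕ) : List (ℕ × List (ℕ × ℤ)) :=
  (List.range fd.n).filterMap fun s => if fd.chainL r s = [] then none else some (s, fd.chainL r s)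

/-- column `c` of the coefficient matrix of `t^k` in `x_r(t)`, from the packed tables -/
def colA (r k c : ℕ) : SV :=
  if k = 0 then [(c, 1)] else
  if c < fd.l then (if k = 1 then [(fd.l + r, - fd.carZ c r)] else [])
  else
    if c - fd.l = r then []
    else if c - fd.l = fd.n - 1 - r then
      (if k = 1 then (List.range fd.l).map (fun i => (i, fd.corZ r i))
       else if k = 2 then [(fd.l + r, -1)] else [])
    else match (fd.chainL r (c - fd.l))[k - 1]? with
      | some q => [(fd.l + q.1, q.2)]
      | none => []

end FD

/-- the packed tables reproduce the tables of the datum -/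
structure Agrees (D : ChevalleyDatum) (fd : FD) : Prop where
  hl : D.rank = fd.l
  hn : D.nroots = fd.n
  hneg : D.negIdx.toList = (List.range fd.n).map fun r => fd.n - 1 - r
  hsim : D.simpleIdx.toList = fd.simples
  hcar : D.cartanSR.toList.map Array.toList =
    (List.range fd.l).map fun i => (List.range fd.n).map fun r => fd.carZ i r
  hcor : D.coroot.toList.map Array.toList =
    (List.range fd.n).map fun r => (List.range fd.l).map fun i => fd.corZ r i
  hchain : D.chain.toList.map (fun row => row.toList.map fun e => (e.1, e.2.toList)) =
    (List.range fd.n).map fun r => fd.genRow r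

instance (D : ChevalleyDatum) (fd : FD) : Decidable (Agrees D fd) :=
  decidable_of_iff (D.rank = fd.l ∧ D.nroots = fd.n ∧
    D.negIdx.toList = ((List.range fd.n).map fun r => fd.n - 1 - r) ∧
    D.simpleIdx.toList = fd.simples ∧
    D.cartanSR.toList.map Array.toList =
      ((List.range fd.l).map fun i => (List.range fd.n).map fun r => fd.carZ i r) ∧
    D.coroot.toList.map Array.toList =
      ((List.range fd.n).map fun r => (List.range fd.l).map fun i => fd.corZ r i) ∧
    D.chain.toList.map (fun row => row.toList.map fun e => (e.1, e.2.toList)) =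
      ((List.range fd.n).map fun r => fd.genRow r))
    ⟨fun ⟨a, b, c, d, e, f, g⟩ => ⟨a, b, c, d, e, f, g⟩, fun ⟨a, b, c, d, e, f, g⟩ => ⟨a, b, c, d, e, f, g⟩⟩

theorem zipIdx_filter_map {α β : Type*} (f : α → β) (L : List α) (j m : ℕ) :
    ((L.zipIdx j).filter (fun q => q.2 = m)).map (fun q => f q.1) =
      if j ≤ m then (L[m - j]?).toList.map f else [] := by
  induction L generalizing j with
  | nil => simp
  | cons a L ih =>
    rw [List.zipIdx_cons, List.filter_cons]
    by_cases h : j = m
    · subst h
      have e1 : decide ((a, j).2 = j) = true := by simp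
      rw [e1]
      simp only [if_true, List.map_cons, ih, le_refl, Nat.sub_self]
      simp
    · have e1 : decide ((a, j).2 = m) = false := by simpa using h
      rw [e1]
      simp only [Bool.false_eq_true, if_false]
      rw [ih]
      by_cases h1 : j + 1 ≤ m
      · have h2 : j ≤ m := by omega
        have h3 : m - j = (m - (j + 1)) + 1 := by omega
        simp only [h1, h2, if_true, h3, List.getElem?_cons_succ]
      · have h2 : ¬ j ≤ m := by omega
        simp [h1, h2]

theorem zipIdx_filter_map' {α β : Type*} (f : α → β) (L : List α) (k : ℕ) (hk : k ≠ 0) :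
    ((L.zipIdx).filter (fun q => q.2 + 1 = k)).map (fun q => f q.1) = (L[k - 1]?).toList.map f := by
  have := zipIdx_filter_map f L 0 (k - 1)
  simp only [Nat.zero_le, if_true, Nat.sub_zero] at this
  rw [← this]
  congr 1
  apply List.filter_congr
  intro q _
  simp only [decide_eq_decide]
  omega


theorem filterMap_range_filter {β : Type*} (G : ℕ → Option (ℕ × β)) (hG : ∀ s p, G s = some p → p.1 = s)
    (n s : ℕ) :
    ((List.range n).filterMap G).filter (fun p => p.1 = s) = if s < n then (G s).toList else [] := by
  induction n with
  | zero => simp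
  | succ n ih =>
    rw [List.range_succ, List.filterMap_append, List.filter_append, ih]
    simp only [List.filterMap_cons, List.filterMap_nil]
    by_cases h1 : s < n
    · have h2 : s < n + 1 := by omega
      simp only [h1, h2, if_true]
      cases hn : G n with
      | none => simp
      | some p =>
        have := hG n p hn
        have : ¬ p.1 = s := by omega
        simp [this]
    · by_cases h2 : s = n
      · subst h2
        simp only [h1, if_false, List.nil_append, Nat.lt_succ_self, if_true]
        cases hn : G s with
        | none => simp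
        | some p =>
          have := hG s p hn
          simp [this]
      · have h3 : ¬ s < n + 1 := by omega
        simp only [h1, h3, if_false, List.nil_append]
        cases hn : G n with
        | none => simp
        | some p =>
          have := hG n p hn
          have : ¬ p.1 = s := by omega
          simp [this]

namespace Agrees

variable {D : ChevalleyDatum} {fd : FD} (h : Agrees D fd)
include h

theorem neg_eq (r : ℕ) (hr : r < fd.n) : D.negIdx.getD r 0 = fd.n - 1 - r := by
  have : D.negIdx.getD r 0 = D.negIdx.toList.getD r 0 := by
    simp [Array.getD_eq_getD_getElem?, List.getD_eq_getElem?_getD]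
  rw [this, h.hneg]
  simp [List.getD_eq_getElem?_getD, hr]

theorem car_eq (i r : ℕ) (hi : i < fd.l) (hr : r < fd.n) :
    (D.cartanSR.getD i #[]).getD r 0 = fd.carZ i r := by
  have e1 : (D.cartanSR.getD i #[]).toList = (D.cartanSR.toList.map Array.toList).getD i [] := by
    simp only [Array.getD_eq_getD_getElem?, List.getD_eq_getElem?_getD, List.getElem?_map,
      Array.getElem?_toList]
    cases h' : D.cartanSR[i]? <;> simp
  have e2 : (D.cartanSR.getD i #[]).getD r 0 = (D.cartanSR.getD i #[]).toList.getD r 0 := by
    simp [Array.getD_eq_getD_getElem?, List.getD_eq_getElem?_getD]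
  rw [e2, e1, h.hcar]
  simp [List.getD_eq_getElem?_getD, hi, hr]

theorem cor_eq (r i : ℕ) (hr : r < fd.n) (hi : i < fd.l) :
    (D.coroot.getD r #[]).getD i 0 = fd.corZ r i := by
  have e1 : (D.coroot.getD r #[]).toList = (D.coroot.toList.map Array.toList).getD r [] := by
    simp only [Array.getD_eq_getD_getElem?, List.getD_eq_getElem?_getD, List.getElem?_map,
      Array.getElem?_toList]
    cases h' : D.coroot[r]? <;> simp
  have e2 : (D.coroot.getD r #[]).getD i 0 = (D.coroot.getD r #[]).toList.getD i 0 := by
    simp [Array.getD_eq_getD_getElem?, List.getD_eq_getElem?_getD]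
  rw [e2, e1, h.hcor]
  simp [List.getD_eq_getElem?_getD, hi, hr]

theorem row_eq (r : ℕ) (hr : r < fd.n) :
    (D.chain.getD r #[]).toList.map (fun e => (e.1, e.2.toList)) = fd.genRow r := by
  have e1 : (D.chain.getD r #[]).toList.map (fun e => (e.1, e.2.toList)) =
      (D.chain.toList.map (fun row => row.toList.map fun e => (e.1, e.2.toList))).getD r [] := by
    simp only [Array.getD_eq_getD_getElem?, List.getD_eq_getElem?_getD, List.getElem?_map,
      Array.getElem?_toList]
    cases h' : D.chain[r]? <;> simp
  rw [e1, h.hchain]
  simp [List.getD_eq_getElem?_getD, hr]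

theorem chainE_eq' (r s : ℕ) (hr : r < fd.n) :
    chainE D r s = if s < fd.n then (fd.chainL r s).zipIdx else [] := by
  have e1 : chainE D r s =
      (((D.chain.getD r #[]).toList.map (fun e => (e.1, e.2.toList))).filter (fun p => p.1 = s)).flatMap
        fun p => p.2.zipIdx := by
    unfold chainE
    rw [List.filter_map, List.flatMap_map]
    rfl
  rw [e1, h.row_eq r hr]
  unfold FD.genRow
  rw [filterMap_range_filter _ _ fd.n s]
  · by_cases hs : s < fd.n
    · simp only [hs, if_true]
      by_cases h0 : fd.chainL r s = []
      · simp [h0]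
      · simp [h0]
    · simp [hs]
  · intro s' p hp
    by_cases h0 : fd.chainL r s' = []
    · simp [h0] at hp
    · simp only [h0, if_false, Option.some.injEq] at hp
      rw [← hp]

theorem chainE_eq (r s : ℕ) (hr : r < fd.n) (hs : s < fd.n) :
    chainE D r s = (fd.chainL r s).zipIdx := by
  rw [h.chainE_eq' r s hr, if_pos hs]

omit h in
theorem chainL_length (r s : ℕ) : (fd.chainL r s).length ≤ 3 := by
  unfold FD.chainL FD.d1
  simp only [List.length_append]
  split_ifs <;> simp

theorem chainShort (r : ℕ) (hr : r < fd.n) : ChainShort D r := by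
  intro s q hq
  rw [h.chainE_eq' r s hr] at hq
  by_cases hs : s < fd.n
  · rw [if_pos hs] at hq
    have := List.snd_lt_of_mem_zipIdx hq
    have := chainL_length (fd := fd) r s
    omega
  · simp [hs] at hq

theorem colA_eq (r k c : ℕ) (hr : r < fd.n) (hc : c < fd.l + fd.n) : colA D r k c = fd.colA r k c := by
  unfold colA FD.colA
  rw [h.hl]
  by_cases hk : k = 0
  · simp [hk]
  · simp only [hk, if_false]
    by_cases hcl : c < fd.l
    · simp only [hcl, if_true]
      rw [h.car_eq c r hcl hr]
    · simp only [hcl, if_false]
      by_cases h1 : c - fd.l = r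
      · simp [h1]
      · simp only [h1, if_false]
        rw [h.neg_eq r hr]
        by_cases h2 : c - fd.l = fd.n - 1 - r
        · simp only [h2, if_true]
          have : (List.range fd.l).map (fun i => (i, (D.coroot.getD r #[]).getD i 0)) =
              (List.range fd.l).map (fun i => (i, fd.corZ r i)) := by
            apply List.map_congr_left
            intro i hi
            rw [h.cor_eq r i hr (List.mem_range.mp hi)]
          rw [this]
        · simp only [h2, if_false]
          rw [h.chainE_eq r (c - fd.l) hr (by omega)]
          rw [zipIdx_filter_map' (fun q : ℕ × ℤ => (fd.l + q.1, q.2)) _ k hk]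
          cases (fd.chainL r (c - fd.l))[k - 1]? <;> simp

end Agrees

end Cfsg.Agent.Lib.H29.Chev
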