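import Mathlib
import Cfsg.Prelude.Def_ChevStructure
import Cfsg.Agent.Lib.H29.ChevFast

/-!
# Root elements of a Chevalley datum: additivity in the parameter

From a check run on the packed tables: `x_r(t) x_r(u) = x_r(t + u)`, `x_r(0) = 1`, `x_r(t) = 1 ↔ t = 0`.
-/

set_option autoImplicit false
set_option linter.unusedSectionVars false
set_option linter.unusedSimpArgs false

namespace Cfsg.Agent.Lib.H29.Chev

open Cfsg.Lie Matrix

/-- `p` holds on the interval `[lo, hi)` -/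
def allR (lo hi : ℕ) (p : ℕ → Bool) : Bool := (List.range (hi - lo)).all fun i => p (lo + i)

theorem allR_spec {lo hi : ℕ} {p : ℕ → Bool} (h : allR lo hi p = true) (r : ℕ) (h1 : lo ≤ r) (h2 : r < hi) :
    p r = true := by
  simp only [allR, List.all_eq_true, List.mem_range] at h
  have := h (r - lo) (by omega)
  rwa [show lo + (r - lo) = r by omega] at this

/-- the check for the root `r`: `A^{(1)} A^{(k)} = (k+1) A^{(k+1)}` for `k ∈ {1,2,3}`, columnwise -/
def FD.chkAddR (fd : FD) (r : ℕ) : Bool :=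
  (List.range (fd.l + fd.n)).all fun c =>
    [1, 2, 3].all fun k =>
      SV.bdd (fd.l + fd.n) (fd.colA r k c) &&
        SV.beq (SM.apply (fd.colA r 1) (fd.colA r k c)) (SV.smul ((k + 1 : ℕ) : ℤ) (fd.colA r (k + 1) c))

/-- the check for all roots -/
def FD.ChkAdd (fd : FD) : Prop := ∀ r < fd.n, fd.chkAddR r = true

theorem SM.apply_congr (M M' : SM) (v : SV) (h : ∀ p ∈ v, M p.1 = M' p.1) : SM.apply M v = SM.apply M' v := by
  unfold SM.apply
  apply List.flatMap_congr
  intro p hp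
  rw [h p hp]

variable {D : ChevalleyDatum} {fd : FD}

theorem Ak_zero (r : ℕ) : Ak D r 0 = 1 := by
  ext i j
  simp only [Ak, SM.dens_apply, colA, if_true, SV.get_cons, SV.get_nil, add_zero, Matrix.one_apply]
  by_cases h : i = j
  · subst h; simp
  · have : code D j ≠ code D i := fun h' => h (code_injective D h').symm
    simp [h, this]

theorem Ak_ge4 (r : ℕ) (hr : ChainShort D r) (k : ℕ) (hk : 4 ≤ k) : Ak D r k = 0 := by
  ext i j
  simp only [Ak, SM.dens_apply, Matrix.zero_apply]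
  have : colA D r k (code D j) = [] := by
    unfold colA
    have h0 : k ≠ 0 := by omega
    have h1 : k ≠ 1 := by omega
    have h2 : k ≠ 2 := by omega
    simp only [h0, h1, h2, if_false]
    split_ifs
    · rfl
    · rfl
    · rfl
    · rw [List.map_eq_nil_iff, List.filter_eq_nil_iff]
      intro q hq
      have := hr _ q hq
      simp only [decide_eq_true_eq]
      omega
  rw [this]; rfl

theorem Ak_mul1 (h : Agrees D fd) (hc : fd.ChkAdd) (r : ℕ) (hr : r < fd.n) (k : ℕ)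
    (hk : k = 1 ∨ k = 2 ∨ k = 3) :
    Ak D r 1 * Ak D r k = ((k + 1 : ℕ) : ℤ) • Ak D r (k + 1) := by
  have hN : ∀ m < D.rank + D.nroots, ∃ a : D.Idx, code D a = m := code_surj D
  have key : ∀ c < fd.l + fd.n, SV.bdd (fd.l + fd.n) (fd.colA r k c) = true ∧
      SV.beq (SM.apply (fd.colA r 1) (fd.colA r k c))
        (SV.smul ((k + 1 : ℕ) : ℤ) (fd.colA r (k + 1) c)) = true := by
    intro c hcn
    have hc' := hc r hr
    simp only [FD.chkAddR, List.all_eq_true, List.mem_range, Bool.and_eq_true] at hc'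
    exact hc' c hcn k (by rcases hk with rfl | rfl | rfl <;> simp)
  unfold Ak
  rw [SM.dens_mul (code D) (code_injective D) (D.rank + D.nroots) hN]
  · ext a b
    rw [Matrix.smul_apply]
    simp only [SM.dens_apply, SM.mul]
    have hb : code D b < fd.l + fd.n := by rw [← h.hl, ← h.hn]; exact code_lt D b
    obtain ⟨hbd, hbe⟩ := key (code D b) hb
    rw [h.colA_eq r k _ hr hb, h.colA_eq r (k + 1) _ hr hb]
    rw [SM.apply_congr (colA D r 1) (fd.colA r 1)]
    · rw [SV.eq_of_beq hbe, SV.get_smul]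
      simp [mul_comm]
    · intro p hp
      simp only [SV.bdd, List.all_eq_true, decide_eq_true_eq] at hbd
      exact h.colA_eq r 1 p.1 hr (hbd p hp)
  · intro b
    have hb : code D b < fd.l + fd.n := by rw [← h.hl, ← h.hn]; exact code_lt D b
    rw [h.colA_eq r k _ hr hb, h.hl, h.hn]
    exact (key (code D b) hb).1

theorem divpow_table {R : Type*} [Ring R]
    (canc : ∀ (c : ℤ) (x y : R), c ≠ 0 → c • x = c • y → x = y)
    (a1 a2 a3 : R) (h1 : a1 * a1 = (2:ℤ) • a2) (h2 : a1 * a2 = (3:ℤ) • a3) (h3 : a1 * a3 = 0) :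
    a2 * a1 = (3:ℤ) • a3 ∧ a3 * a1 = 0 ∧ a2 * a2 = 0 ∧ a2 * a3 = 0 ∧ a3 * a2 = 0 ∧ a3 * a3 = 0 := by
  have m21 : a2 * a1 = (3:ℤ) • a3 := by
    apply canc 2 _ _ (by norm_num)
    rw [← smul_mul_assoc, ← h1, mul_assoc, h1, mul_smul_comm, h2]
  have m31 : a3 * a1 = 0 := by
    apply canc 3 _ _ (by norm_num)
    rw [← smul_mul_assoc, ← h2, mul_assoc, m21, mul_smul_comm, h3]
  have m22 : a2 * a2 = 0 := by
    apply canc 2 _ _ (by norm_num)
    rw [← mul_smul_comm, ← h1, ← mul_assoc, m21, smul_mul_assoc, m31]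
    simp only [smul_zero]
  have m32 : a3 * a2 = 0 := by
    apply canc 2 _ _ (by norm_num)
    rw [← mul_smul_comm, ← h1, ← mul_assoc, m31, zero_mul]
    simp only [smul_zero]
  have m23 : a2 * a3 = 0 := by
    apply canc 3 _ _ (by norm_num)
    rw [← mul_smul_comm, ← h2, ← mul_assoc, m21, smul_mul_assoc, m32]
  have m33 : a3 * a3 = 0 := by
    apply canc 3 _ _ (by norm_num)
    rw [← mul_smul_comm, ← h2, ← mul_assoc, m31, zero_mul]
    simp only [smul_zero]
  exact ⟨m21, m31, m22, m23, m32, m33⟩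

theorem Ak_mul (h : Agrees D fd) (hc : fd.ChkAdd) (r : ℕ) (hr : r < fd.n) (j k : ℕ)
    (hj : j = 1 ∨ j = 2 ∨ j = 3) (hk : k = 1 ∨ k = 2 ∨ k = 3) :
    Ak D r j * Ak D r k = ((Nat.choose (j + k) j : ℕ) : ℤ) • Ak D r (j + k) := by
  have hs := h.chainShort r hr
  have z : ∀ m, 4 ≤ m → Ak D r m = 0 := fun m hm => Ak_ge4 r hs m hm
  have m1 := Ak_mul1 h hc r hr 1 (by simp)
  have m2 := Ak_mul1 h hc r hr 2 (by simp)
  have m3 := Ak_mul1 h hc r hr 3 (by simp)
  simp only [show (1:ℕ) + 1 = 2 by rfl, show (2:ℕ) + 1 = 3 by rfl, show (3:ℕ) + 1 = 4 by rfl, z 4 le_rfl,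
    smul_zero] at m1 m2 m3
  have canc : ∀ (c : ℤ) (M N : Matrix D.Idx D.Idx ℤ), c ≠ 0 → c • M = c • N → M = N := by
    intro c M N hc0 hMN
    ext a b
    have := congrFun (congrFun hMN a) b
    simp only [Matrix.smul_apply, smul_eq_mul] at this
    exact mul_left_cancel₀ hc0 this
  obtain ⟨m21, m31, m22, m23, m32, m33⟩ := divpow_table canc _ _ _ m1 m2 m3
  rcases hj with rfl | rfl | rfl <;> rcases hk with rfl | rfl | rfl
  · rw [m1]; rfl
  · rw [m2]; rfl
  · rw [m3, z 4 le_rfl]; simp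
  · rw [m21]; rfl
  · rw [m22, z 4 le_rfl]; simp
  · rw [m23, z 5 (by omega)]; simp
  · rw [m31, z 4 le_rfl]; simp
  · rw [m32, z 5 (by omega)]; simp
  · rw [m33, z 6 (by omega)]; simp

variable {F : Type*} [Field F]

/-- the coefficient matrices over `F` -/
def aF (D : ChevalleyDatum) (F : Type*) [Field F] (r k : ℕ) : Matrix D.Idx D.Idx F :=
  (Ak D r k).map (Int.castRingHom F)

theorem xMat_eq (r : Fin D.nroots) (hr : ChainShort D r.val) (t : F) :
    D.xMat F r t = aF D F r.val 0 + t • aF D F r.val 1 + t ^ 2 • aF D F r.val 2 + t ^ 3 • aF D F r.val 3 := by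
  ext i j
  rw [xMat_apply D r hr t i j]
  simp [Finset.sum_range_succ, aF, Matrix.add_apply, Matrix.smul_apply, mul_comm]

theorem aF_mul (h : Agrees D fd) (hc : fd.ChkAdd) (r : ℕ) (hr : r < fd.n) (j k : ℕ)
    (hj : j = 1 ∨ j = 2 ∨ j = 3) (hk : k = 1 ∨ k = 2 ∨ k = 3) :
    aF D F r j * aF D F r k = ((Nat.choose (j + k) j : ℕ) : F) • aF D F r (j + k) := by
  unfold aF
  rw [← Matrix.map_mul, Ak_mul h hc r hr j k hj hk]
  ext a b
  rw [Matrix.map_apply, Matrix.smul_apply, Matrix.smul_apply, Matrix.map_apply]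
  simp

theorem xMat_add (h : Agrees D fd) (hc : fd.ChkAdd) (r : Fin D.nroots) (t u : F) :
    D.xMat F r t * D.xMat F r u = D.xMat F r (t + u) := by
  have hr : r.val < fd.n := by rw [← h.hn]; exact r.isLt
  have hs := h.chainShort r.val hr
  rw [xMat_eq r hs, xMat_eq r hs, xMat_eq r hs]
  have a0 : aF D F r.val 0 = 1 := by simp [aF, Ak_zero]
  have z : ∀ k, 4 ≤ k → aF D F r.val k = 0 := by
    intro k hk; simp [aF, Ak_ge4 r.val hs k hk]
  have m := fun j k hj hk => aF_mul (F := F) h hc r.val hr j k hj hk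
  have m11 := m 1 1 (by simp) (by simp)
  have m12 := m 1 2 (by simp) (by simp)
  have m13 := m 1 3 (by simp) (by simp)
  have m21 := m 2 1 (by simp) (by simp)
  have m22 := m 2 2 (by simp) (by simp)
  have m23 := m 2 3 (by simp) (by simp)
  have m31 := m 3 1 (by simp) (by simp)
  have m32 := m 3 2 (by simp) (by simp)
  have m33 := m 3 3 (by simp) (by simp)
  simp only [show (1:ℕ) + 1 = 2 by rfl, show (1:ℕ) + 2 = 3 by rfl, show (2:ℕ) + 1 = 3 by rfl,
    show (1:ℕ) + 3 = 4 by rfl, show (3:ℕ) + 1 = 4 by rfl, show (2:ℕ) + 2 = 4 by rfl,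
    show (2:ℕ) + 3 = 5 by rfl, show (3:ℕ) + 2 = 5 by rfl, show (3:ℕ) + 3 = 6 by rfl,
    z 4 (by omega), z 5 (by omega), z 6 (by omega), smul_zero] at m11 m12 m13 m21 m22 m23 m31 m32 m33
  rw [a0]
  simp only [add_mul, mul_add, one_mul, mul_one, Matrix.smul_mul, Matrix.mul_smul, m11, m12, m13, m21, m22,
    m23, m31, m32, m33, smul_zero, add_zero]
  ext a b
  simp only [Matrix.add_apply, Matrix.smul_apply, Matrix.one_apply, smul_eq_mul]
  have c2 : ((Nat.choose 2 1 : ℕ) : F) = 2 := by norm_num [Nat.choose]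
  have c3 : ((Nat.choose 3 1 : ℕ) : F) = 3 := by norm_num [Nat.choose]
  have c3' : ((Nat.choose 3 2 : ℕ) : F) = 3 := by norm_num [Nat.choose]
  rw [c2, c3, c3']
  ring

theorem xMat_zero (h : Agrees D fd) (r : Fin D.nroots) : D.xMat F r 0 = 1 := by
  have hr : r.val < fd.n := by rw [← h.hn]; exact r.isLt
  rw [xMat_eq r (h.chainShort r.val hr)]
  simp [aF, Ak_zero]

end Cfsg.Agent.Lib.H29.Chev
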