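import Mathlib

/-!
# Matrices raising a level function, and the unitriangular groups they form

For a level function `lv : ι → ℕ`, `IsUp lv d M` says that `M` maps the basis vector `j` into the span of the basis
vectors of level at least `lv j + d`. The invertible matrices `g` with `g - 1` raising levels by `d ≥ 1` form a
subgroup, and for `d = 1` this group is nilpotent.
-/

set_option autoImplicit false
set_option linter.unusedSectionVars false
set_option linter.unusedVariables false

namespace Cfsg.Agent.Lib.H29.Chev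

open Matrix
open scoped commutatorElement

variable {ι R : Type*} [Fintype ι] [DecidableEq ι] [CommRing R] (lv : ι → ℕ)

/-- `M` raises levels by at least `d` -/
def IsUp (d : ℕ) (M : Matrix ι ι R) : Prop := ∀ i j, M i j ≠ 0 → lv j + d ≤ lv i

variable {lv}

theorem IsUp.zero (d : ℕ) : IsUp lv d (0 : Matrix ι ι R) := fun i j h => absurd rfl h

theorem IsUp.one : IsUp lv 0 (1 : Matrix ι ι R) := by
  intro i j h
  by_cases hij : i = j
  · subst hij; simp
  · exact absurd (Matrix.one_apply_ne hij) h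

theorem IsUp.mono {d d' : ℕ} (h : d' ≤ d) {M : Matrix ι ι R} (hM : IsUp lv d M) : IsUp lv d' M :=
  fun i j hij => by have := hM i j hij; omega

theorem IsUp.add {d : ℕ} {M N : Matrix ι ι R} (hM : IsUp lv d M) (hN : IsUp lv d N) : IsUp lv d (M + N) := by
  intro i j h
  by_cases h1 : M i j = 0
  · by_cases h2 : N i j = 0
    · exact absurd (by simp [h1, h2]) h
    · exact hN i j h2
  · exact hM i j h1

theorem IsUp.neg {d : ℕ} {M : Matrix ι ι R} (hM : IsUp lv d M) : IsUp lv d (-M) := by
  intro i j h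
  exact hM i j (by simpa using h)

theorem IsUp.sub {d : ℕ} {M N : Matrix ι ι R} (hM : IsUp lv d M) (hN : IsUp lv d N) : IsUp lv d (M - N) := by
  rw [sub_eq_add_neg]; exact hM.add hN.neg

theorem IsUp.smul {d : ℕ} (c : R) {M : Matrix ι ι R} (hM : IsUp lv d M) : IsUp lv d (c • M) := by
  intro i j h
  apply hM i j
  intro h0
  exact h (by simp [h0])

theorem IsUp.mul {d e : ℕ} {M N : Matrix ι ι R} (hM : IsUp lv d M) (hN : IsUp lv e N) :
    IsUp lv (d + e) (M * N) := by
  intro i j h
  rw [Matrix.mul_apply] at h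
  obtain ⟨m, _, hm⟩ := Finset.exists_ne_zero_of_sum_ne_zero h
  have h1 : M i m ≠ 0 := fun h0 => hm (by simp [h0])
  have h2 : N m j ≠ 0 := fun h0 => hm (by simp [h0])
  have := hM i m h1
  have := hN m j h2
  omega

theorem IsUp.pow {d : ℕ} {M : Matrix ι ι R} (hM : IsUp lv d M) (k : ℕ) : IsUp lv (d * k) (M ^ k) := by
  induction k with
  | zero => simpa using IsUp.one
  | succ k ih =>
    rw [pow_succ, Nat.mul_succ]
    exact ih.mul hM

theorem IsUp.eq_zero {N d : ℕ} (hN : ∀ i, lv i ≤ N) (hd : N < d) {M : Matrix ι ι R} (hM : IsUp lv d M) :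
    M = 0 := by
  ext i j
  by_contra h
  have := hM i j h
  have := hN i
  simp only [Matrix.zero_apply] at *
  omega

/-- if `(1 + N) * Y = 1` with `N` raising levels by `d ≥ 1`, then `Y - 1` raises levels by `d` -/
theorem IsUp.inv_aux {d : ℕ} (hd : 1 ≤ d) {N Y : Matrix ι ι R} (hN : IsUp lv d N) (h : (1 + N) * Y = 1) :
    IsUp lv d (Y - 1) := by
  have hX : Y - 1 = -N - N * (Y - 1) := by
    have : Y + N * Y = 1 := by rw [← h, add_mul, one_mul]
    rw [mul_sub, mul_one]
    rw [← this]; abel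
  have key : ∀ L i j, lv i = L → (Y - 1) i j ≠ 0 → lv j + d ≤ lv i := by
    intro L
    induction L using Nat.strong_induction_on with
    | _ L ih =>
      intro i j hi hij
      rw [hX] at hij
      by_cases h1 : N i j = 0
      · have : (N * (Y - 1)) i j ≠ 0 := by
          intro h0; apply hij; simp [Matrix.sub_apply, h1, h0]
        rw [Matrix.mul_apply] at this
        obtain ⟨m, _, hm⟩ := Finset.exists_ne_zero_of_sum_ne_zero this
        have h2 : N i m ≠ 0 := fun h0 => hm (by simp [h0])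
        have h3 : (Y - 1) m j ≠ 0 := fun h0 => hm (by simp [h0])
        have h4 := hN i m h2
        have h5 := ih (lv m) (by omega) m j rfl h3
        omega
      · exact hN i j h1
  intro i j hij
  exact key (lv i) i j rfl hij

variable (lv) in
/-- the invertible matrices `g` with `g - 1` raising levels by at least `d ≥ 1` -/
def upGroup (R : Type*) [CommRing R] (d : ℕ) (hd : 1 ≤ d) : Subgroup (GL ι R) where
  carrier := {g | IsUp lv d ((g : Matrix ι ι R) - 1)}
  one_mem' := by simp [IsUp.zero]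
  mul_mem' := by
    intro a b ha hb
    simp only [Set.mem_ofPred_eq, Units.val_mul] at *
    have : (a : Matrix ι ι R) * (b : Matrix ι ι R) - 1 =
        ((a : Matrix ι ι R) - 1) * ((b : Matrix ι ι R) - 1) + ((a : Matrix ι ι R) - 1) + ((b : Matrix ι ι R) - 1) := by
      noncomm_ring
    rw [this]
    exact ((IsUp.mono (by omega) (ha.mul hb)).add ha).add hb
  inv_mem' := by
    intro a ha
    simp only [Set.mem_ofPred_eq] at *
    apply IsUp.inv_aux hd ha
    rw [add_sub_cancel]
    exact Units.mul_inv a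

theorem mem_upGroup {d : ℕ} {hd : 1 ≤ d} (g : GL ι R) :
    g ∈ upGroup lv R d hd ↔ IsUp lv d ((g : Matrix ι ι R) - 1) := Iff.rfl

theorem IsUp.of_mem {d : ℕ} {hd : 1 ≤ d} {g : GL ι R} (hg : g ∈ upGroup lv R d hd) :
    IsUp lv 0 (g : Matrix ι ι R) := by
  have : (g : Matrix ι ι R) = ((g : Matrix ι ι R) - 1) + 1 := by abel
  rw [this]
  exact (IsUp.mono (Nat.zero_le _) hg).add IsUp.one

theorem upGroup_comm {d : ℕ} {hd : 1 ≤ d} {x g : GL ι R} (hx : x ∈ upGroup lv R d hd)
    (hg : g ∈ upGroup lv R 1 le_rfl) : ⁅x, g⁆ ∈ upGroup lv R (d + 1) (by omega) := by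
  rw [mem_upGroup]
  have e : ((⁅x, g⁆ : GL ι R) : Matrix ι ι R) - 1 =
      ((((x : Matrix ι ι R) - 1) * ((g : Matrix ι ι R) - 1) - ((g : Matrix ι ι R) - 1) * ((x : Matrix ι ι R) - 1)) *
        ((x⁻¹ : GL ι R) : Matrix ι ι R)) * ((g⁻¹ : GL ι R) : Matrix ι ι R) := by
    have h1 : (g : Matrix ι ι R) * (x : Matrix ι ι R) * ((x⁻¹ : GL ι R) : Matrix ι ι R) *
        ((g⁻¹ : GL ι R) : Matrix ι ι R) = 1 := by
      rw [Matrix.mul_assoc (g : Matrix ι ι R), ← Units.val_mul, mul_inv_cancel, Units.val_one, Matrix.mul_one,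
        ← Units.val_mul, mul_inv_cancel, Units.val_one]
    rw [commutatorElement_def]
    simp only [Units.val_mul]
    have : ((x : Matrix ι ι R) - 1) * ((g : Matrix ι ι R) - 1) - ((g : Matrix ι ι R) - 1) * ((x : Matrix ι ι R) - 1) =
        (x : Matrix ι ι R) * (g : Matrix ι ι R) - (g : Matrix ι ι R) * (x : Matrix ι ι R) := by noncomm_ring
    rw [this, sub_mul, sub_mul, h1]
  rw [e]
  have h0 := (hx.mul hg).sub (IsUp.mono (by omega) (hg.mul hx) : IsUp lv (d + 1) _)
  have := (h0.mul (IsUp.of_mem (inv_mem hx))).mul (IsUp.of_mem (inv_mem hg))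
  simpa using this

theorem upGroup_eq_bot {N d : ℕ} (hN : ∀ i, lv i ≤ N) (hd : N < d) : upGroup lv R d (by omega) = ⊥ := by
  rw [eq_bot_iff]
  intro g hg
  rw [Subgroup.mem_bot]
  have := IsUp.eq_zero hN hd hg
  apply Units.ext
  rw [Units.val_one, ← sub_eq_zero, this]

theorem upGroup_nilpotent {N : ℕ} (hN : ∀ i, lv i ≤ N) : Group.IsNilpotent (upGroup lv R 1 le_rfl) := by
  rw [Subgroup.nilpotent_iff_finite_descending_central_series]
  refine ⟨N, fun k => (upGroup lv R (k + 1) (by omega)).subgroupOf (upGroup lv R 1 le_rfl), ⟨?_, ?_⟩, ?_⟩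
  · simp
  · intro x n hx g
    rw [Subgroup.mem_subgroupOf] at hx ⊢
    exact upGroup_comm hx g.2
  · show (upGroup lv R (N + 1) (by omega)).subgroupOf (upGroup lv R 1 le_rfl) = ⊥
    rw [upGroup_eq_bot hN (Nat.lt_succ_self N)]
    simp

theorem nilpotent_of_le_upGroup {N : ℕ} (hN : ∀ i, lv i ≤ N) (K : Subgroup (GL ι R))
    (hK : K ≤ upGroup lv R 1 le_rfl) : Group.IsNilpotent K := by
  have := upGroup_nilpotent (R := R) hN
  apply Subgroup.isNilpotent_of_ker_le_center (Subgroup.inclusion hK)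
  rw [(Subgroup.inclusion hK).ker_eq_bot_iff.mpr (Subgroup.inclusion_injective hK)]
  exact bot_le

end Cfsg.Agent.Lib.H29.Chev
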