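import Mathlib
import Cfsg.Prelude.Def_ChevStructure
import Cfsg.Agent.Lib.H29.ChevGen1
import Cfsg.Agent.Lib.H29.ChevUni

/-!
# The unipotent subgroups of a Chevalley group are unitriangular for the ordering of the roots

Positive roots are those in the upper half of the index range; `x_r(t) - 1` strictly raises the level
(`index`, with the Cartan part in the middle) for positive `r` and strictly lowers it for negative `r`.
-/

set_option autoImplicit false
set_option linter.unusedSectionVars false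
set_option linter.unusedSimpArgs false

namespace Cfsg.Agent.Lib.H29.Chev

open Cfsg.Lie Matrix

/-- the level of a coded index: negative roots in order, then the Cartan part, then positive roots -/
def FD.lev (fd : FD) (c : ℕ) : ℕ :=
  if c < fd.l then fd.n / 2 else if c - fd.l < fd.n / 2 then c - fd.l else c - fd.l + 1

/-- the check for the root `r`: sign pattern of the coroot, and monotonicity of the entries of `x_r(t) - 1` -/
def FD.chkLevR (fd : FD) (r : ℕ) : Bool :=
  (decide (∀ i ∈ List.range fd.l, 0 ≤ fd.corZ r i) == decide (fd.n / 2 ≤ r)) &&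
  (decide (∀ i ∈ List.range fd.l, fd.corZ r i ≤ 0) == decide (r < fd.n / 2)) &&
  (List.range (fd.l + fd.n)).all fun c => [1, 2, 3].all fun k => (fd.colA r k c).all fun p =>
    if fd.n / 2 ≤ r then decide (fd.lev c < fd.lev p.1) else decide (fd.lev p.1 < fd.lev c)

def FD.ChkLev (fd : FD) : Prop := ∀ r < fd.n, fd.chkLevR r = true

variable {D : ChevalleyDatum} {fd : FD}

theorem Agrees.coroot_toList (h : Agrees D fd) (r : ℕ) (hr : r < fd.n) :
    (D.coroot.getD r #[]).toList = (List.range fd.l).map fun i => fd.corZ r i := by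
  have e1 : (D.coroot.getD r #[]).toList = (D.coroot.toList.map Array.toList).getD r [] := by
    simp only [Array.getD_eq_getD_getElem?, List.getD_eq_getElem?_getD, List.getElem?_map,
      Array.getElem?_toList]
    cases h' : D.coroot[r]? <;> simp
  rw [e1, h.hcor]
  simp [List.getD_eq_getElem?_getD, hr]

theorem isPos_iff (h : Agrees D fd) (hc : fd.ChkLev) (r : ℕ) :
    D.IsPosRoot r ↔ (r < fd.n ∧ fd.n / 2 ≤ r) := by
  unfold ChevalleyDatum.IsPosRoot
  rw [h.hn]
  constructor
  · rintro ⟨hr, hpos⟩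
    refine ⟨hr, ?_⟩
    have := hc r hr
    simp only [FD.chkLevR, Bool.and_eq_true, beq_iff_eq, decide_eq_decide] at this
    rw [← this.1.1]
    intro i hi
    apply hpos
    rw [h.coroot_toList r hr]
    exact List.mem_map.mpr ⟨i, hi, rfl⟩
  · rintro ⟨hr, hpos⟩
    refine ⟨hr, ?_⟩
    have := hc r hr
    simp only [FD.chkLevR, Bool.and_eq_true, beq_iff_eq, decide_eq_decide] at this
    have h2 := this.1.1.mpr hpos
    intro c hcm
    rw [h.coroot_toList r hr] at hcm
    obtain ⟨i, hi, rfl⟩ := List.mem_map.mp hcm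
    exact h2 i hi

theorem isNeg_iff (h : Agrees D fd) (hc : fd.ChkLev) (r : ℕ) :
    D.IsNegRoot r ↔ r < fd.n / 2 ∧ r < fd.n := by
  unfold ChevalleyDatum.IsNegRoot
  rw [h.hn]
  constructor
  · rintro ⟨hr, hneg⟩
    refine ⟨?_, hr⟩
    have := hc r hr
    simp only [FD.chkLevR, Bool.and_eq_true, beq_iff_eq, decide_eq_decide] at this
    rw [← this.1.2]
    intro i hi
    apply hneg
    rw [h.coroot_toList r hr]
    exact List.mem_map.mpr ⟨i, hi, rfl⟩
  · rintro ⟨hneg, hr⟩
    refine ⟨hr, ?_⟩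
    have := hc r hr
    simp only [FD.chkLevR, Bool.and_eq_true, beq_iff_eq, decide_eq_decide] at this
    have h2 := this.1.2.mpr hneg
    intro c hcm
    rw [h.coroot_toList r hr] at hcm
    obtain ⟨i, hi, rfl⟩ := List.mem_map.mp hcm
    exact h2 i hi

/-- the level function on the index type of the datum -/
def lvD (D : ChevalleyDatum) (fd : FD) : D.Idx → ℕ := fun a => fd.lev (code D a)

/-- the reversed level function -/
def lvN (D : ChevalleyDatum) (fd : FD) : D.Idx → ℕ := fun a => fd.n + 1 - fd.lev (code D a)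

theorem lev_le (fd : FD) (c : ℕ) (hc : c < fd.l + fd.n) : fd.lev c ≤ fd.n := by
  unfold FD.lev
  split_ifs <;> omega

theorem lvD_le (h : Agrees D fd) (a : D.Idx) : lvD D fd a ≤ fd.n := by
  apply lev_le
  rw [← h.hl, ← h.hn]; exact code_lt D a

theorem lvN_le (a : D.Idx) : lvN D fd a ≤ fd.n + 1 := by
  unfold lvN; omega

theorem SV.get_ne_zero_mem (v : SV) (i : ℕ) (h : SV.get v i ≠ 0) : ∃ p ∈ v, p.1 = i := by
  by_contra hc
  apply h
  apply SV.get_eq_zero_of_not_mem
  intro hm
  obtain ⟨p, hp, rfl⟩ := List.mem_map.mp hm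
  exact hc ⟨p, hp, rfl⟩

variable {F : Type*} [Field F]

theorem aF_ne_zero (h : Agrees D fd) (r : ℕ) (hr : r < fd.n) (k : ℕ) (a b : D.Idx)
    (hab : aF D F r k a b ≠ 0) : ∃ p ∈ fd.colA r k (code D b), p.1 = code D a := by
  have hb : code D b < fd.l + fd.n := by rw [← h.hl, ← h.hn]; exact code_lt D b
  rw [← h.colA_eq r k _ hr hb]
  apply SV.get_ne_zero_mem
  intro h0
  apply hab
  simp [aF, Ak, SM.dens_apply, h0]

theorem xMat_sub_one (h : Agrees D fd) (r : Fin D.nroots) (t : F) :
    D.xMat F r t - 1 = t • aF D F r.val 1 + t ^ 2 • aF D F r.val 2 + t ^ 3 • aF D F r.val 3 := by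
  have hr : r.val < fd.n := by rw [← h.hn]; exact r.isLt
  rw [xMat_eq r (h.chainShort r.val hr)]
  have a0 : aF D F r.val 0 = 1 := by simp [aF, Ak_zero]
  rw [a0]; abel

theorem xMat_isUp (h : Agrees D fd) (hc : fd.ChkLev) (r : Fin D.nroots) (hpos : fd.n / 2 ≤ r.val) (t : F) :
    IsUp (lvD D fd) 1 (D.xMat F r t - 1) := by
  have hr : r.val < fd.n := by rw [← h.hn]; exact r.isLt
  rw [xMat_sub_one h]
  have key : ∀ k, k = 1 ∨ k = 2 ∨ k = 3 → IsUp (lvD D fd) 1 (aF D F r.val k) := by
    intro k hk a b hab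
    obtain ⟨p, hp, hpa⟩ := aF_ne_zero h r.val hr k a b hab
    have hb : code D b < fd.l + fd.n := by rw [← h.hl, ← h.hn]; exact code_lt D b
    have := hc r.val hr
    simp only [FD.chkLevR, Bool.and_eq_true, List.all_eq_true, List.mem_range] at this
    have := this.2 (code D b) hb k (by rcases hk with rfl | rfl | rfl <;> simp) p hp
    rw [if_pos hpos, decide_eq_true_eq, hpa] at this
    unfold lvD
    omega
  exact (((key 1 (by simp)).smul t).add ((key 2 (by simp)).smul _)).add ((key 3 (by simp)).smul _)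

theorem xMat_isDown (h : Agrees D fd) (hc : fd.ChkLev) (r : Fin D.nroots) (hneg : r.val < fd.n / 2) (t : F) :
    IsUp (lvN D fd) 1 (D.xMat F r t - 1) := by
  have hr : r.val < fd.n := by rw [← h.hn]; exact r.isLt
  rw [xMat_sub_one h]
  have key : ∀ k, k = 1 ∨ k = 2 ∨ k = 3 → IsUp (lvN D fd) 1 (aF D F r.val k) := by
    intro k hk a b hab
    obtain ⟨p, hp, hpa⟩ := aF_ne_zero h r.val hr k a b hab
    have hb : code D b < fd.l + fd.n := by rw [← h.hl, ← h.hn]; exact code_lt D b
    have := hc r.val hr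
    simp only [FD.chkLevR, Bool.and_eq_true, List.all_eq_true, List.mem_range] at this
    have := this.2 (code D b) hb k (by rcases hk with rfl | rfl | rfl <;> simp) p hp
    rw [if_neg (by omega), decide_eq_true_eq, hpa] at this
    have hl := lev_le fd (code D b) hb
    unfold lvN
    omega
  exact (((key 1 (by simp)).smul t).add ((key 2 (by simp)).smul _)).add ((key 3 (by simp)).smul _)

theorem posUnipotent_le (h : Agrees D fd) (hc : fd.ChkLev) :
    D.posUnipotent F ≤ upGroup (lvD D fd) F 1 le_rfl := by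
  unfold ChevalleyDatum.posUnipotent
  rw [Subgroup.closure_le]
  rintro g ⟨r, t, hr, hg⟩
  rw [SetLike.mem_coe, mem_upGroup, hg]
  obtain ⟨hr1, hr2⟩ := (isPos_iff h hc r).mp hr
  have hr' : r < D.nroots := by rw [h.hn]; exact hr1
  unfold ChevalleyDatum.x
  rw [dif_pos hr']
  exact xMat_isUp h hc ⟨r, hr'⟩ hr2 t

theorem negUnipotent_le (h : Agrees D fd) (hc : fd.ChkLev) :
    D.negUnipotent F ≤ upGroup (lvN D fd) F 1 le_rfl := by
  unfold ChevalleyDatum.negUnipotent
  rw [Subgroup.closure_le]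
  rintro g ⟨r, t, hr, hg⟩
  rw [SetLike.mem_coe, mem_upGroup, hg]
  obtain ⟨hr1, hr2⟩ := (isNeg_iff h hc r).mp hr
  have hr' : r < D.nroots := by rw [h.hn]; exact hr2
  unfold ChevalleyDatum.x
  rw [dif_pos hr']
  exact xMat_isDown h hc ⟨r, hr'⟩ hr1 t

theorem posUnipotent_nilpotent (h : Agrees D fd) (hc : fd.ChkLev) : Group.IsNilpotent (D.posUnipotent F) :=
  nilpotent_of_le_upGroup (lvD_le h) _ (posUnipotent_le h hc)

theorem negUnipotent_nilpotent (h : Agrees D fd) (hc : fd.ChkLev) : Group.IsNilpotent (D.negUnipotent F) :=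
  nilpotent_of_le_upGroup (fun a => lvN_le (D := D) (fd := fd) a) _ (negUnipotent_le h hc)

theorem posUnipotent_pow (h : Agrees D fd) (hc : fd.ChkLev) (hl : 1 ≤ fd.l) (g : GL D.Idx F)
    (hg : g ∈ D.posUnipotent F) : ((g : Matrix D.Idx D.Idx F) - 1) ^ (D.rank + D.nroots) = 0 := by
  have h1 : IsUp (lvD D fd) 1 ((g : Matrix D.Idx D.Idx F) - 1) := posUnipotent_le h hc hg
  have h2 := h1.pow (D.rank + D.nroots)
  apply IsUp.eq_zero (lvD_le h) _ h2
  rw [h.hl, h.hn]; omega

end Cfsg.Agent.Lib.H29.Chev
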