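import Mathlib
import Cfsg.Agent.Lib.H29.ChevSparse

/-!
# Boolean-primitive versions of the sparse vector operations

The kernel evaluates `Nat.beq`, `Nat.blt` on literals in one step, whereas `Decidable` instances cost many
reductions. These variants are used inside the checks; each comes with a lemma back to the plain version.
-/

set_option autoImplicit false

namespace Cfsg.Agent.Lib.H29.Chev

theorem natBeq_iff (a b : ℕ) : Nat.beq a b = true ↔ a = b :=
  ⟨Nat.eq_of_beq_eq_true, fun h => h ▸ Nat.beq_refl a⟩

theorem natBlt_iff (a b : ℕ) : Nat.blt a b = true ↔ a < b := by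
  simp [Nat.blt]

/-- Boolean equality of integers through the constructors -/
def intBeq : ℤ → ℤ → Bool
  | Int.ofNat m, Int.ofNat n => Nat.beq m n
  | Int.negSucc m, Int.negSucc n => Nat.beq m n
  | _, _ => false

theorem intBeq_iff (a b : ℤ) : intBeq a b = true ↔ a = b := by
  cases a <;> cases b <;> simp [intBeq, natBeq_iff]

/-- the coefficient of index `i`, with Boolean tests -/
def SV.getB : SV → ℕ → ℤ
  | [], _ => 0
  | p :: v, i => bif Nat.beq p.1 i then p.2 + SV.getB v i else SV.getB v i

theorem SV.getB_eq (v : SV) (i : ℕ) : SV.getB v i = SV.get v i := by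
  induction v with
  | nil => rfl
  | cons p v ih =>
    simp only [SV.getB, SV.get_cons, ih]
    by_cases h : p.1 = i
    · have : Nat.beq p.1 i = true := (natBeq_iff _ _).mpr h
      simp [h, this]
    · have : Nat.beq p.1 i = false := by
        rw [← Bool.not_eq_true, natBeq_iff]; exact h
      simp [h, this]

/-- Boolean equality test of two sparse vectors as functions -/
def SV.beqB (v w : SV) : Bool :=
  (v.all fun p => intBeq (SV.getB v p.1) (SV.getB w p.1)) &&
  (w.all fun p => intBeq (SV.getB v p.1) (SV.getB w p.1))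

theorem SV.eq_of_beqB {v w : SV} (h : SV.beqB v w = true) (i : ℕ) : SV.get v i = SV.get w i := by
  simp only [SV.beqB, Bool.and_eq_true, List.all_eq_true, intBeq_iff, SV.getB_eq] at h
  by_cases h1 : i ∈ v.map Prod.fst
  · obtain ⟨p, hp, rfl⟩ := List.mem_map.mp h1
    exact h.1 p hp
  · by_cases h2 : i ∈ w.map Prod.fst
    · obtain ⟨p, hp, rfl⟩ := List.mem_map.mp h2
      exact h.2 p hp
    · rw [SV.get_eq_zero_of_not_mem v i h1, SV.get_eq_zero_of_not_mem w i h2]

/-- all indices below `N`, with Boolean tests -/
def SV.bddB (N : ℕ) (v : SV) : Bool := v.all fun p => Nat.blt p.1 N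

theorem SV.bdd_of_bddB {N : ℕ} {v : SV} (h : SV.bddB N v = true) : SV.bdd N v = true := by
  simp only [SV.bddB, SV.bdd, List.all_eq_true, decide_eq_true_eq] at h ⊢
  intro p hp
  have := h p hp
  exact (natBlt_iff _ _).mp this

end Cfsg.Agent.Lib.H29.Chev
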