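import Mathlib
import Cfsg.Prelude.Def_ChevStructure
import Cfsg.Agent.Lib.H29.ChevGen2
import Cfsg.Agent.Lib.H29.ChevSparseB

/-!
# Further packed tables of a Chevalley datum: root coordinates and the elements `n_r`

`rc` holds the coordinates of the roots on the fundamental roots, `nt` the signed permutation of the root vectors
effected by `n_r = x_r(1) x_{-r}(-1) x_r(1)`, `av` an integral functional taking the value 1 on the root.
None of these needs to agree with anything: the checks below are what makes them meaningful.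
The definitions use Boolean primitives (`Nat.beq`, `Nat.blt`), which the kernel evaluates in one step.
-/

set_option autoImplicit false
set_option linter.unusedSectionVars false
set_option linter.unusedSimpArgs false

namespace Cfsg.Agent.Lib.H29.Chev

open Cfsg.Lie Matrix

/-- extra packed tables -/
structure FX where
  rc : ℕ
  nt : ℕ → ℕ
  av : ℕ
  w0 : List ℕ

namespace FD

variable (fd : FD) (fx : FX)

/-- coordinate `j` of the root `r` on the fundamental roots -/
def rcZ (r j : ℕ) : ℤ := (((fx.rc >>> (4 * (r * fd.l + j))) &&& 15 : ℕ) : ℤ) - 8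
/-- coefficient `j` of the functional attached to the root `r` -/
def avZ (r j : ℕ) : ℤ := (((fx.av >>> (4 * (r * fd.l + j))) &&& 15 : ℕ) : ℤ) - 8
/-- coordinate `j` of the weight of the coded index `c` (zero on the Cartan part) -/
def coordZ (c j : ℕ) : ℤ := bif Nat.blt c fd.l then 0 else fd.rcZ fx (c - fd.l) j
/-- the root `w_r(s)` -/
def nw (_fd : FD) (fx : FX) (r s : ℕ) : ℕ := (fx.nt r >>> (16 * s)) &&& 255
/-- the sign `η_{r,s}` with `n_r e_s = η_{r,s} e_{w_r s}` -/
def neta (_fd : FD) (fx : FX) (r s : ℕ) : ℤ := bif Nat.beq ((fx.nt r >>> (16 * s + 8)) &&& 1) 1 then -1 else 1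
/-- the pairing `⟨s, r^∨⟩ = ∑_i c_i(r) A_{p_i, s}` -/
def pr (s r : ℕ) : ℤ := ((List.range fd.l).map fun i => fd.corZ r i * fd.carZ i s).sum
/-- a single entry, dropped if zero -/
def ent1 (i : ℕ) (a : ℤ) : SV := bif intBeq a 0 then [] else [(i, a)]
/-- the entry of the chain table `T` for `(r, s)` scaled by `a` -/
def chn (T : ℕ → ℕ) (r s : ℕ) (a : ℤ) : SV :=
  bif Nat.beq (fd.ent T r s) 0 then [] else
    [(fd.l + (fd.ent T r s &&& 255), ((((fd.ent T r s >>> 8 : ℕ)) : ℤ) - 8) * a)]
/-- column `c` of `x_r(t)` for an integer `t` -/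
def colX (r : ℕ) (t : ℤ) (c : ℕ) : SV :=
  bif Nat.blt c fd.l then (c, 1) :: ent1 (fd.l + r) (- fd.carZ c r * t)
  else bif Nat.beq (c - fd.l) r then [(c, 1)]
  else bif Nat.beq (c - fd.l) (fd.n - 1 - r) then
    (c, 1) :: (fd.l + r, - (t * t)) :: (List.range fd.l).map (fun i => (i, fd.corZ r i * t))
  else (c, 1) :: (fd.chn fd.t1 r (c - fd.l) t ++ fd.chn fd.t2 r (c - fd.l) (t * t) ++
    fd.chn fd.t3 r (c - fd.l) (t * t * t))
/-- column `c` of `n_r` -/
def ncol (r c : ℕ) : SV :=
  bif Nat.blt c fd.l then (c, 1) :: (List.range fd.l).map (fun j => (j, - fd.carZ c r * fd.corZ r j))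
  else [(fd.l + fd.nw fx r (c - fd.l), fd.neta fx r (c - fd.l))]

/-- grading of the coefficient matrices of `x_r(t)` by the root lattice -/
def chkGradR (r : ℕ) : Bool :=
  (List.range (fd.l + fd.n)).all fun c => [1, 2, 3].all fun k => (fd.colA r k c).all fun p =>
    (List.range fd.l).all fun j => intBeq (fd.coordZ fx p.1 j) (fd.coordZ fx c j + (k : ℤ) * fd.rcZ fx r j)

def ChkGrad : Prop := ∀ r < fd.n, fd.chkGradR fx r = true

/-- the Cartan integers are linear in the root coordinates; the functional `av` takes the value 1 on the root;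
`⟨r, r^∨⟩ = 2` -/
def chkLinR (r : ℕ) : Bool :=
  ((List.range fd.l).all fun i =>
    intBeq (fd.carZ i r) ((List.range fd.l).map fun j => fd.rcZ fx r j * fd.carZ i (fd.simples.getD j 0)).sum) &&
  (intBeq ((List.range fd.l).map fun j => fd.avZ fx r j * fd.rcZ fx r j).sum 1) &&
  (intBeq (fd.pr r r) 2)

def ChkLin : Prop := ∀ r < fd.n, fd.chkLinR fx r = true

/-- the fundamental roots have coordinate vectors and coroot vectors the unit vectors -/
def chkSimple : Bool :=
  (Nat.beq fd.simples.length fd.l) &&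
  (List.range fd.l).all fun i => Nat.blt (fd.simples.getD i 0) fd.n && (List.range fd.l).all fun j =>
    (intBeq (fd.rcZ fx (fd.simples.getD i 0) j) (bif Nat.beq i j then 1 else 0)) &&
    (intBeq (fd.corZ (fd.simples.getD i 0) j) (bif Nat.beq i j then 1 else 0))

/-- `x_r(-1) n_r = x_{-r}(-1) x_r(1)` for the matrix `n_r` with the columns `ncol`; weights of the permuted roots -/
def chkNR (r : ℕ) : Bool :=
  ((List.range (fd.l + fd.n)).all fun c =>
    SV.bddB (fd.l + fd.n) (fd.colX r 1 c) &&
    SV.bddB (fd.l + fd.n) (fd.ncol fx r c) &&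
    SV.beqB (SM.apply (fd.colX r (-1)) (fd.ncol fx r c))
      (SM.apply (fd.colX (fd.n - 1 - r) (-1)) (fd.colX r 1 c))) &&
  ((List.range fd.n).all fun s => Nat.blt (fd.nw fx r s) fd.n && (List.range fd.l).all fun j =>
    intBeq (fd.rcZ fx (fd.nw fx r s) j) (fd.rcZ fx s j - fd.pr s r * fd.rcZ fx r j))

def ChkN : Prop := ∀ r < fd.n, fd.chkNR fx r = true

/-- prefix-closedness of the chain tables; the coordinates of `-r` are the negatives of those of `r` -/
def chkPrefR (r : ℕ) : Bool :=
  ((List.range fd.n).all fun s =>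
    (!(Nat.beq (fd.ent fd.t1 r s) 0) || Nat.beq (fd.ent fd.t2 r s) 0) &&
    (!(Nat.beq (fd.ent fd.t2 r s) 0) || Nat.beq (fd.ent fd.t3 r s) 0)) &&
  ((List.range fd.l).all fun j => intBeq (fd.rcZ fx (fd.n - 1 - r) j) (- fd.rcZ fx r j))

def ChkPref : Prop := ∀ r < fd.n, fd.chkPrefR fx r = true

/-- the reflection in the `i`-th fundamental root, read off the chain tables the way `reflectRoot` does -/
def refl (i s : ℕ) : ℕ :=
  if s = fd.simples.getD i 0 then fd.n - 1 - fd.simples.getD i 0
  else if s = fd.n - 1 - fd.simples.getD i 0 then fd.simples.getD i 0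
  else if 0 < fd.carZ i s then
    (((fd.chainL (fd.n - 1 - fd.simples.getD i 0) s)[(fd.carZ i s).toNat - 1]?).map Prod.fst).getD s
  else if fd.carZ i s < 0 then
    (((fd.chainL (fd.simples.getD i 0) s)[(- fd.carZ i s).toNat - 1]?).map Prod.fst).getD s
  else s

/-- the fundamental reflections: agreement of `refl` with `nw`, the rules for the signs `η`, and the reflection
of the coroots -/
def chkSimR (i : ℕ) : Bool :=
  intBeq (fd.neta fx (fd.simples.getD i 0) (fd.simples.getD i 0)) (-1) &&
  intBeq (fd.neta fx (fd.simples.getD i 0) (fd.n - 1 - fd.simples.getD i 0)) (-1) &&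
  (List.range fd.n).all fun s =>
    Nat.beq (fd.refl i s) (fd.nw fx (fd.simples.getD i 0) s) &&
    intBeq (fd.neta fx (fd.simples.getD i 0) s * fd.neta fx (fd.simples.getD i 0) (fd.nw fx (fd.simples.getD i 0) s))
      ((-1) ^ (fd.carZ i s).natAbs) &&
    intBeq (fd.neta fx (fd.simples.getD i 0) s * fd.neta fx (fd.simples.getD i 0) (fd.n - 1 - s)) 1 &&
    (List.range fd.l).all fun k =>
      intBeq (fd.corZ (fd.nw fx (fd.simples.getD i 0) s) k)
        (fd.corZ s k - fd.pr (fd.simples.getD i 0) s * fd.corZ (fd.simples.getD i 0) k)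

def ChkSim : Prop := ∀ i < fd.l, fd.chkSimR fx i = true

/-- `n_p A_s^{(1)} = η_{p,s} A_{w_p s}^{(1)} n_p`, columnwise -/
def chkConj (p s : ℕ) : Bool :=
  (List.range (fd.l + fd.n)).all fun c =>
    SV.beqB (SM.apply (fd.ncol fx p) (fd.colA s 1 c))
      (SV.smul (fd.neta fx p s) (SM.apply (fd.colA (fd.nw fx p s) 1) (fd.ncol fx p c)))

/-- the relation `chkConj` for the fundamental root number `q / n` and the root `q % n` -/
def chkConjQ (q : ℕ) : Bool := fd.chkConj fx (fd.simples.getD (q / fd.n) 0) (q % fd.n)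

def ChkConj : Prop := ∀ q < fd.l * fd.n, fd.chkConjQ fx q = true

/-- `n_r A_r^{(1)} = - A_{-r}^{(1)} n_r`, columnwise -/
def chkNegR (r : ℕ) : Bool :=
  Nat.beq (fd.nw fx r r) (fd.n - 1 - r) && intBeq (fd.neta fx r r) (-1) && fd.chkConj fx r r

def ChkNeg : Prop := ∀ r < fd.n, fd.chkNegR fx r = true

/-- the action of a word in the fundamental reflections on the roots -/
def wact (w : List ℕ) (s : ℕ) : ℕ := w.foldr (fun i s => fd.nw fx (fd.simples.getD i 0) s) s

/-- the word `w0` has letters below `l`, maps the positive roots to negative roots, and every negative root is the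
image of a positive root -/
def chkW0 : Bool :=
  (fx.w0.all fun i => Nat.blt i fd.l) &&
  (List.range fd.n).all fun s =>
    (Nat.blt s (fd.n / 2) || Nat.blt (fd.wact fx fx.w0 s) (fd.n / 2)) &&
    (!(Nat.blt s (fd.n / 2)) ||
      (Nat.blt (fd.wact fx fx.w0.reverse s) fd.n && !(Nat.blt (fd.wact fx fx.w0.reverse s) (fd.n / 2)) &&
        Nat.beq (fd.wact fx fx.w0 (fd.wact fx fx.w0.reverse s)) s))

end FD

end Cfsg.Agent.Lib.H29.Chev
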