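import Mathlib
import Cfsg.Prelude.Def_ChevStructure
import Cfsg.Agent.Lib.H29.ChevFast2

/-!
# Checks for Chevalley's commutator formula

The formula for a pair of roots `(r, s)` is transported along fundamental reflections from a few base pairs, for which
it is verified by computing with vectors whose coefficients are polynomials in two variables.
`pq` holds for each pair `(r, s)` the 16-bit field `rank + 256 * (i + 1)`, where `w_i` maps the pair to a pair of
smaller rank, or `rank` alone for a base pair.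
-/

set_option autoImplicit false
set_option linter.unusedSectionVars false
set_option linter.unusedSimpArgs false

namespace Cfsg.Agent.Lib.H29.Chev

open Cfsg.Lie Matrix

structure FC where
  pq : ℕ → ℕ

/-- vectors with coefficients in `ℤ[t, u]`: entries `(index, exponent of t, exponent of u, coefficient)` -/
abbrev PV := List (ℕ × ℕ × ℕ × ℤ)

namespace FD

variable (fd : FD) (fx : FX) (fc : FC)

def cR (r s i : ℕ) : Option ℕ := ((fd.chainL r s)[i - 1]?).map Prod.fst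
def cM (r s i : ℕ) : ℤ := (((fd.chainL r s)[i - 1]?).map Prod.snd).getD 0

/-- the terms of the commutator formula, as `commTerms` computes them -/
def commT (r s : ℕ) : List (ℕ × ℤ × ℕ × ℕ) :=
  let rs := fd.cR r s 1
  let cands : List (Option ℕ × ℤ × ℕ × ℕ) :=
    [ (fd.cR r s 1, fd.cM r s 1, 1, 1),
      (fd.cR r s 2, fd.cM r s 2, 2, 1),
      (fd.cR s r 2, fd.cM s r 2, 1, 2),
      (fd.cR r s 3, fd.cM r s 3, 3, 1),
      (fd.cR s r 3, - fd.cM s r 3, 1, 3),
      ((fd.cR r s 3).bind fun k => fd.cR k s 1, (rs.map fun k => fd.cM k r 2 / 3).getD 0, 3, 2),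
      ((fd.cR s r 3).bind fun k => fd.cR k r 1, (rs.map fun k => -2 * fd.cM k s 2 / 3).getD 0, 2, 3) ]
  cands.filterMap fun c => c.1.map fun k => (k, c.2)

/-- Boolean equality of lists of terms -/
def ctBeq : List (ℕ × ℤ × ℕ × ℕ) → List (ℕ × ℤ × ℕ × ℕ) → Bool
  | [], [] => true
  | a :: l, b :: l' => Nat.beq a.1 b.1 && intBeq a.2.1 b.2.1 && Nat.beq a.2.2.1 b.2.2.1 &&
      Nat.beq a.2.2.2 b.2.2.2 && ctBeq l l'
  | _, _ => false

/-- the terms for `(w_p a, w_p b)` are those for `(a, b)` transported by `n_p` -/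
def cmpt (p a b : ℕ) : Bool :=
  FD.ctBeq (fd.commT (fd.nw fx p a) (fd.nw fx p b))
    ((fd.commT a b).map fun c => (fd.nw fx p c.1,
      fd.neta fx p c.1 * fd.neta fx p a ^ c.2.2.1 * fd.neta fx p b ^ c.2.2.2 * c.2.1, c.2.2.1, c.2.2.2))

/-- apply `x_γ(C t^a u^b)` to a polynomial vector -/
def pvX (γ : ℕ) (C : ℤ) (a b : ℕ) (v : PV) : PV :=
  v.flatMap fun e => [0, 1, 2, 3].flatMap fun k =>
    (fd.colA γ k e.1).map fun q => (q.1, e.2.1 + k * a, e.2.2.1 + k * b, e.2.2.2 * q.2 * C ^ k)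

/-- apply a word of `x_γ(C t^a u^b)`, the last letter first -/
def pvWord (w : List (ℕ × ℤ × ℕ × ℕ)) (v : PV) : PV :=
  w.foldr (fun x v => fd.pvX x.1 x.2.1 x.2.2.1 x.2.2.2 v) v

/-- the coefficient of `t^a u^b e_i` -/
def pvGet : PV → ℕ → ℕ → ℕ → ℤ
  | [], _, _, _ => 0
  | e :: v, i, a, b => (bif Nat.beq e.1 i && Nat.beq e.2.1 a && Nat.beq e.2.2.1 b then e.2.2.2 else 0) + pvGet v i a b

def pvEq (v w : PV) : Bool :=
  (v ++ w).all fun e => intBeq (pvGet v e.1 e.2.1 e.2.2.1) (pvGet w e.1 e.2.1 e.2.2.1)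

/-- the two sides of the commutator formula for `(r, s)`, as words -/
def lhsW (r s : ℕ) : List (ℕ × ℤ × ℕ × ℕ) := [(s, 1, 0, 1), (r, 1, 1, 0)]
def rhsW (r s : ℕ) : List (ℕ × ℤ × ℕ × ℕ) :=
  (r, 1, 1, 0) :: (s, 1, 0, 1) :: (fd.commT r s).map fun c => (c.1, c.2.1 * (-1) ^ c.2.2.1, c.2.2.1, c.2.2.2)

/-- direct verification of the commutator formula for `(r, s)`, column by column -/
def chkBase (r s : ℕ) : Bool :=
  ((fd.commT r s).all fun c => Nat.blt c.1 fd.n) &&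
  (List.range (fd.l + fd.n)).all fun c =>
    FD.pvEq (fd.pvWord (FD.lhsW r s) [(c, 0, 0, 1)]) (fd.pvWord (fd.rhsW r s) [(c, 0, 0, 1)])

/-- the pair `(r, s)` is the image under `w_p` of a pair of smaller rank -/
def chkStep (p r s : ℕ) : Bool :=
  Nat.blt (fd.nw fx p r) fd.n && Nat.blt (fd.nw fx p s) fd.n &&
  Nat.beq (fd.nw fx p (fd.nw fx p r)) r && Nat.beq (fd.nw fx p (fd.nw fx p s)) s &&
  !(Nat.beq (fd.nw fx p s) (fd.nw fx p r)) && !(Nat.beq (fd.nw fx p s) (fd.n - 1 - fd.nw fx p r)) &&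
  Nat.blt (fd.ent fc.pq (fd.nw fx p r) (fd.nw fx p s) &&& 255) (fd.ent fc.pq r s &&& 255) &&
  fd.cmpt fx p (fd.nw fx p r) (fd.nw fx p s)

/-- the check for the pair `(q / n, q % n)` -/
def chkCFQ (q : ℕ) : Bool :=
  bif Nat.beq (q % fd.n) (q / fd.n) || Nat.beq (q % fd.n) (fd.n - 1 - q / fd.n) then true else
  ((fd.chainL (q / fd.n) (q % fd.n)).all fun e => Nat.blt e.1 fd.n) &&
  ((fd.chainL (q % fd.n) (q / fd.n)).all fun e => Nat.blt e.1 fd.n) &&
  bif Nat.beq (fd.ent fc.pq (q / fd.n) (q % fd.n) >>> 8) 0 then fd.chkBase (q / fd.n) (q % fd.n)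
  else
    Nat.blt ((fd.ent fc.pq (q / fd.n) (q % fd.n) >>> 8) - 1) fd.l &&
    fd.chkStep fx fc (fd.simples.getD ((fd.ent fc.pq (q / fd.n) (q % fd.n) >>> 8) - 1) 0) (q / fd.n) (q % fd.n)

def ChkCF : Prop := ∀ q < fd.n * fd.n, fd.chkCFQ fx fc q = true

end FD

end Cfsg.Agent.Lib.H29.Chev
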