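import Mathlib
import Cfsg.Prelude.Def_ChevStructure
import Cfsg.Agent.Lib.H29.ChevFast5

/-!
# Checks about the coordinates of roots: signs, the terms of the commutator formula, the order of the positive roots

`bz` holds for each root `r` and each `j` a 4-bit field (offset 8): integers with `∑_j bz(r, j) c_j(r) = 1`, where
`c(r)` is the coordinate vector of the coroot of `r`.
The positive roots are indexed in lexicographic order of their coordinate vectors, which the functional `fL` with
the weights `7^(l-1-j)` detects.
-/

set_option autoImplicit false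
set_option linter.unusedSectionVars false
set_option linter.unusedSimpArgs false

namespace Cfsg.Agent.Lib.H29.Chev

open Cfsg.Lie Matrix

structure FZ where
  bz : ℕ

namespace FD

variable (fd : FD) (fx : FX) (fz : FZ)

/-- the signs of the coordinates of a root and of its coroot agree -/
def chkSgnR (r : ℕ) : Bool :=
  (List.range fd.l).all fun j =>
    (decide (0 < fd.rcZ fx r j) == decide (0 < fd.corZ r j)) &&
    (decide (fd.rcZ fx r j < 0) == decide (fd.corZ r j < 0))

def ChkSgn : Prop := ∀ r < fd.n, fd.chkSgnR fx r = true

/-- the terms of the commutator formula for `(r, s) = (q / n, q % n)`: the root of the term `(i, j)` has the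
coordinates of `i r + j s`; for positive `r ≠ s` it comes after both `r` and `s` -/
def chkLinCQ (q : ℕ) : Bool :=
  (fd.commT (q / fd.n) (q % fd.n)).all fun c =>
    Nat.blt c.1 fd.n &&
    ((List.range fd.l).all fun j =>
      intBeq (fd.rcZ fx c.1 j)
        ((c.2.2.1 : ℤ) * fd.rcZ fx (q / fd.n) j + (c.2.2.2 : ℤ) * fd.rcZ fx (q % fd.n) j)) &&
    (Nat.blt (q / fd.n) (fd.n / 2) || Nat.blt (q % fd.n) (fd.n / 2) || Nat.beq (q / fd.n) (q % fd.n) ||
      (Nat.blt (q / fd.n) c.1 && Nat.blt (q % fd.n) c.1))

def ChkLinC : Prop := ∀ q < fd.n * fd.n, fd.chkLinCQ fx q = true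

def bzZ (r j : ℕ) : ℤ := (((fz.bz >>> (4 * (r * fd.l + j))) &&& 15 : ℕ) : ℤ) - 8

/-- the weights of the lexicographic functional -/
def lexW (j : ℕ) : ℤ := ((7 ^ (fd.l - 1 - j) : ℕ) : ℤ)

/-- the lexicographic functional on the root `r` -/
def fL (r : ℕ) : ℤ := ((List.range fd.l).map fun j => fd.lexW j * fd.rcZ fx r j).sum

/-- a combination of the coordinates of the coroot equal to `1`; the lexicographic functional is positive on the
positive roots and strictly increasing along them -/
def chkFR (r : ℕ) : Bool :=
  intBeq ((List.range fd.l).map fun j => fd.bzZ fz r j * fd.corZ r j).sum 1 &&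
  (Nat.blt r (fd.n / 2) || (decide (0 < fd.fL fx r) &&
    (List.range fd.n).all fun s => !(Nat.blt r s) || decide (fd.fL fx r < fd.fL fx s)))

def ChkF : Prop := ∀ r < fd.n, fd.chkFR fx fz r = true

end FD

end Cfsg.Agent.Lib.H29.Chev
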