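import Mathlib
import Cfsg.Prelude.Def_ChevStructure
import Cfsg.Agent.Lib.H29.ChevFast8

/-!
# Checks about the distinguished coset representatives of the Weyl group

For `k < l` let `W_k` be the subgroup of the Weyl group generated by the first `k` fundamental reflections. The table
`fp` lists the elements of `W_{k+1}` which map the positive roots in the span of the first `k` fundamental roots to
positive roots (as permutations of the roots), in an order in which every element other than the first is the
product of a fundamental reflection and an earlier element.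
-/

set_option autoImplicit false
set_option linter.unusedSectionVars false
set_option linter.unusedSimpArgs false

namespace Cfsg.Agent.Lib.H29.Chev

open Cfsg.Lie Matrix

structure FP where
  /-- the number of elements -/
  dk : ℕ
  /-- the images of the roots: 8-bit fields at `8 (a n + s)` -/
  tab : ℕ
  /-- 16-bit fields at `16 a`: the reflection `i` (low byte) and the earlier element `a'` (high byte) -/
  par : ℕ
  /-- 16-bit fields at `16 (a (k+1) + i)`: low byte a value `v`, bit 8 a flag -/
  nxt : ℕ
  /-- 8-bit fields at `8 a`: the number of positive roots made negative -/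
  lens : ℕ

namespace FD

variable (fd : FD) (fx : FX) (fp : FP)

/-- the fundamental reflection `i` on the root `s` -/
def sw (i s : ℕ) : ℕ := fd.nw fx (fd.simples.getD i 0) s

/-- the image of the root `s` under the element `a` of the table -/
def dT (a s : ℕ) : ℕ := (fp.tab >>> (8 * (a * fd.n + s))) &&& 255

/-- the root `s` lies in the span of the first `k` fundamental roots -/
def inJb (k s : ℕ) : Bool := (List.range fd.l).all fun j => Nat.blt j k || intBeq (fd.rcZ fx s j) 0

def chkPar (k a : ℕ) : Bool :=
  bif Nat.beq a 0 then (List.range fd.n).all fun s => Nat.beq (fd.dT fp 0 s) s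
  else
    Nat.blt ((fp.par >>> (16 * a)) &&& 255) (k + 1) && Nat.blt ((fp.par >>> (16 * a + 8)) &&& 255) a &&
    (List.range fd.n).all fun s =>
      Nat.beq (fd.dT fp a s) (fd.sw fx ((fp.par >>> (16 * a)) &&& 255) (fd.dT fp ((fp.par >>> (16 * a + 8)) &&& 255) s))

def chkPos (k a : ℕ) : Bool :=
  (List.range fd.n).all fun s => Nat.blt s (fd.n / 2) || !(fd.inJb fx k s) || !(Nat.blt (fd.dT fp a s) (fd.n / 2))

def chkNxt (k a : ℕ) : Bool :=
  (List.range (k + 1)).all fun i =>
    bif Nat.beq ((fp.nxt >>> (16 * (a * (k + 1) + i) + 8)) &&& 1) 1 then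
      Nat.blt ((fp.nxt >>> (16 * (a * (k + 1) + i))) &&& 255) k &&
      (List.range fd.n).all fun s =>
        Nat.beq (fd.sw fx i (fd.dT fp a s)) (fd.dT fp a (fd.sw fx ((fp.nxt >>> (16 * (a * (k + 1) + i))) &&& 255) s))
    else
      Nat.blt ((fp.nxt >>> (16 * (a * (k + 1) + i))) &&& 255) fp.dk &&
      (List.range fd.n).all fun s =>
        Nat.beq (fd.sw fx i (fd.dT fp a s)) (fd.dT fp ((fp.nxt >>> (16 * (a * (k + 1) + i))) &&& 255) s)

/-- the number of positive roots made negative by the element `a` -/
def invT (a : ℕ) : ℕ :=
  ((List.range fd.n).filter fun s => !(Nat.blt s (fd.n / 2)) && Nat.blt (fd.dT fp a s) (fd.n / 2)).length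

def lenT (a : ℕ) : ℕ := (fp.lens >>> (8 * a)) &&& 255

def chkLen (a : ℕ) : Bool := Nat.beq (fd.invT fp a) (lenT fp a)

def chkDist (a : ℕ) : Bool :=
  (List.range a).all fun a' => (List.range fd.n).any fun s => !(Nat.beq (fd.dT fp a s) (fd.dT fp a' s))

def chkWA (k a : ℕ) : Bool :=
  fd.chkPar fx fp k a && fd.chkPos fx fp k a && fd.chkNxt fx fp k a && fd.chkLen fp a && fd.chkDist fp a

def ChkW (k : ℕ) : Prop := ∀ a < fp.dk, fd.chkWA fx fp k a = true

end FD

end Cfsg.Agent.Lib.H29.Chev
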