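import Mathlib
import Cfsg.Prelude.Def_LieExceptional

/-!
# A (B,N)-pair of a subgroup from data in the ambient group
-/

set_option autoImplicit false

namespace Cfsg.Agent.Lib.H29

open Subgroup

/-- a (B,N)-pair of a subgroup `G` of a group `A` from subgroups `B`, `N` and a set `S` of `A` -/
def bnOfSubgroup {A : Type*} [Group A] (G B N : Subgroup A) (S : Set A)
    (hB : B ≤ G) (hN : N ≤ G)
    (h1 : B ⊔ N = G) (h2 : ∀ n ∈ N, ∀ t ∈ B ⊓ N, n * t * n⁻¹ ∈ B) (h3 : S ⊆ (N : Set A))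
    (h4 : ∀ s ∈ S, s * s ∈ B) (h5 : ∀ s ∈ S, ∀ s' ∈ S, s⁻¹ * s' ∈ B → s = s')
    (h6 : closure S ⊔ (B ⊓ N) = N)
    (h7 : ∀ s ∈ S, ∀ n ∈ N, ∀ b ∈ B, s * b * n ∈
      DoubleCoset.doubleCoset (s * n) (B : Set A) B ∪ DoubleCoset.doubleCoset n (B : Set A) B)
    (h8 : ∀ s ∈ S, (fun b : A => s * b * s) '' (B : Set A) ≠ (B : Set A)) : Cfsg.BNPair ↥G where
  B := B.subgroupOf G
  N := N.subgroupOf G
  S := {g | (g : A) ∈ S}
  sup_eq_top := by
    rw [← subgroupOf_sup hB hN, h1, subgroupOf_self]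
  conj_mem := by
    intro n hn t ht
    rw [mem_subgroupOf] at hn ⊢
    rw [mem_inf, mem_subgroupOf, mem_subgroupOf] at ht
    simp only [coe_mul, InvMemClass.coe_inv]
    exact h2 _ hn _ (mem_inf.mpr ht)
  subset := by
    intro s hs
    exact mem_subgroupOf.mpr (h3 hs)
  sq_mem := by
    intro s hs
    rw [mem_subgroupOf]
    simp only [coe_mul]
    exact h4 _ hs
  inj := by
    intro s hs s' hs' h
    rw [mem_subgroupOf] at h
    simp only [coe_mul, InvMemClass.coe_inv] at h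
    exact Subtype.ext (h5 _ hs _ hs' h)
  closure_sup := by
    apply le_antisymm
    · apply sup_le
      · rw [closure_le]
        intro s hs
        exact mem_subgroupOf.mpr (h3 hs)
      · exact inf_le_right
    · intro g hg
      rw [mem_subgroupOf] at hg
      have key : N ≤ (closure {g : ↥G | (g : A) ∈ S} ⊔ (B.subgroupOf G ⊓ N.subgroupOf G)).map G.subtype := by
        rw [Subgroup.map_sup, MonoidHom.map_closure]
        conv_lhs => rw [← h6]
        apply sup_le_sup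
        · apply Subgroup.closure_mono
          intro s hs
          exact ⟨⟨s, hN (h3 hs)⟩, hs, rfl⟩
        · intro x hx
          rw [mem_inf] at hx
          exact ⟨⟨x, hB hx.1⟩, mem_inf.mpr ⟨mem_subgroupOf.mpr hx.1, mem_subgroupOf.mpr hx.2⟩, rfl⟩
      obtain ⟨g', hg', e⟩ := key hg
      have : g' = g := Subtype.ext e
      rw [← this]; exact hg'
  mul_mem_union := by
    intro s hs n hn b hb
    rw [mem_subgroupOf] at hn hb
    rcases h7 _ hs _ hn _ hb with h | h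
    · left
      rw [DoubleCoset.mem_doubleCoset] at h ⊢
      obtain ⟨b₁, hb₁, b₂, hb₂, e⟩ := h
      exact ⟨⟨b₁, hB hb₁⟩, mem_subgroupOf.mpr hb₁, ⟨b₂, hB hb₂⟩, mem_subgroupOf.mpr hb₂, Subtype.ext e⟩
    · right
      rw [DoubleCoset.mem_doubleCoset] at h ⊢
      obtain ⟨b₁, hb₁, b₂, hb₂, e⟩ := h
      exact ⟨⟨b₁, hB hb₁⟩, mem_subgroupOf.mpr hb₁, ⟨b₂, hB hb₂⟩, mem_subgroupOf.mpr hb₂, Subtype.ext e⟩
  conj_ne := by
    intro s hs heq
    apply h8 _ hs
    apply Set.Subset.antisymm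
    · rintro x ⟨b, hb, rfl⟩
      have : s * ⟨b, hB hb⟩ * s ∈ ((B.subgroupOf G : Subgroup ↥G) : Set ↥G) := by
        rw [← heq]; exact ⟨_, mem_subgroupOf.mpr hb, rfl⟩
      exact mem_subgroupOf.mp this
    · intro b hb
      have : (⟨b, hB hb⟩ : ↥G) ∈ ((B.subgroupOf G : Subgroup ↥G) : Set ↥G) := mem_subgroupOf.mpr hb
      rw [← heq] at this
      obtain ⟨c, hc, e⟩ := this
      exact ⟨c, mem_subgroupOf.mp hc, congrArg Subtype.val e⟩

end Cfsg.Agent.Lib.H29
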