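import Mathlib
import Cfsg.Prelude.Def_ChevStructure
import Cfsg.Agent.Lib.H29.ChevFast2

/-!
# Root elements over a commutative ring, and their columns for integer parameters

`XR D R r t = 1 + t A_r^{(1)} + t^2 A_r^{(2)} + t^3 A_r^{(3)}` over any commutative ring `R`; for a field this is
`D.x F r t`, and for `R = ℤ` its columns are the sparse vectors `fd.colX r t`.
-/

set_option autoImplicit false
set_option linter.unusedSectionVars false
set_option linter.unusedSimpArgs false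

namespace Cfsg.Agent.Lib.H29.Chev

open Cfsg.Lie Matrix

variable {D : ChevalleyDatum} {fd : FD}

/-- the coefficient matrices over a commutative ring -/
def aR (D : ChevalleyDatum) (R : Type*) [CommRing R] (r k : ℕ) : Matrix D.Idx D.Idx R :=
  (Ak D r k).map (Int.castRingHom R)

/-- `x_r(t)` over a commutative ring -/
def XR (D : ChevalleyDatum) (R : Type*) [CommRing R] (r : ℕ) (t : R) : Matrix D.Idx D.Idx R :=
  1 + t • aR D R r 1 + t ^ 2 • aR D R r 2 + t ^ 3 • aR D R r 3

theorem aR_mul {R : Type*} [CommRing R] (h : Agrees D fd) (hc : fd.ChkAdd) (r : ℕ) (hr : r < fd.n) (j k : ℕ)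
    (hj : j = 1 ∨ j = 2 ∨ j = 3) (hk : k = 1 ∨ k = 2 ∨ k = 3) :
    aR D R r j * aR D R r k = ((Nat.choose (j + k) j : ℕ) : R) • aR D R r (j + k) := by
  unfold aR
  rw [← Matrix.map_mul, Ak_mul h hc r hr j k hj hk]
  ext a b
  rw [Matrix.map_apply, Matrix.smul_apply, Matrix.smul_apply, Matrix.map_apply]
  simp

theorem XR_add {R : Type*} [CommRing R] (h : Agrees D fd) (hc : fd.ChkAdd) (r : ℕ) (hr : r < fd.n) (t u : R) :
    XR D R r t * XR D R r u = XR D R r (t + u) := by
  have hs := h.chainShort r hr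
  have z : ∀ k, 4 ≤ k → aR D R r k = 0 := by
    intro k hk; simp [aR, Ak_ge4 r hs k hk]
  have m := fun j k hj hk => aR_mul (R := R) h hc r hr j k hj hk
  have m11 := m 1 1 (by simp) (by simp)
  have m12 := m 1 2 (by simp) (by simp)
  have m13 := m 1 3 (by simp) (by simp)
  have m21 := m 2 1 (by simp) (by simp)
  have m22 := m 2 2 (by simp) (by simp)
  have m23 := m 2 3 (by simp) (by simp)
  have m31 := m 3 1 (by simp) (by simp)
  have m32 := m 3 2 (by simp) (by simp)
  have m33 := m 3 3 (by simp) (by simp)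
  simp only [show (1:ℕ) + 1 = 2 by rfl, show (1:ℕ) + 2 = 3 by rfl, show (2:ℕ) + 1 = 3 by rfl,
    show (1:ℕ) + 3 = 4 by rfl, show (3:ℕ) + 1 = 4 by rfl, show (2:ℕ) + 2 = 4 by rfl,
    show (2:ℕ) + 3 = 5 by rfl, show (3:ℕ) + 2 = 5 by rfl, show (3:ℕ) + 3 = 6 by rfl,
    z 4 (by omega), z 5 (by omega), z 6 (by omega), smul_zero] at m11 m12 m13 m21 m22 m23 m31 m32 m33
  unfold XR
  simp only [add_mul, mul_add, one_mul, mul_one, Matrix.smul_mul, Matrix.mul_smul, m11, m12, m13, m21, m22,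
    m23, m31, m32, m33, smul_zero, add_zero]
  ext a b
  simp only [Matrix.add_apply, Matrix.smul_apply, Matrix.one_apply, smul_eq_mul]
  have c2 : ((Nat.choose 2 1 : ℕ) : R) = 2 := by norm_num [Nat.choose]
  have c3 : ((Nat.choose 3 1 : ℕ) : R) = 3 := by norm_num [Nat.choose]
  have c3' : ((Nat.choose 3 2 : ℕ) : R) = 3 := by norm_num [Nat.choose]
  rw [c2, c3, c3']
  ring

theorem XR_zero {R : Type*} [CommRing R] (r : ℕ) : XR D R r 0 = 1 := by
  simp [XR]

theorem XR_neg_mul {R : Type*} [CommRing R] (h : Agrees D fd) (hc : fd.ChkAdd) (r : ℕ) (hr : r < fd.n) (t : R) :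
    XR D R r (-t) * XR D R r t = 1 := by
  rw [XR_add h hc r hr, neg_add_cancel, XR_zero]

theorem XR_mul_neg {R : Type*} [CommRing R] (h : Agrees D fd) (hc : fd.ChkAdd) (r : ℕ) (hr : r < fd.n) (t : R) :
    XR D R r t * XR D R r (-t) = 1 := by
  rw [XR_add h hc r hr, add_neg_cancel, XR_zero]

/-- `XR` commutes with ring homomorphisms from `ℤ` -/
theorem XR_map {R : Type*} [CommRing R] (r : ℕ) (t : ℤ) :
    (XR D ℤ r t).map (Int.castRingHom R) = XR D R r (t : R) := by
  ext a b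
  simp only [XR, aR, Matrix.map_apply, Matrix.add_apply, Matrix.smul_apply, Matrix.one_apply, smul_eq_mul,
    Int.coe_castRingHom, Int.cast_add, Int.cast_mul, Int.cast_pow, Int.cast_id]
  split_ifs <;> simp

theorem x_eq_XR {F : Type*} [Field F] (h : Agrees D fd) (r : ℕ) (hr : r < fd.n) (t : F) :
    D.x F r t = XR D F r t := by
  have hr' : r < D.nroots := by rw [h.hn]; exact hr
  unfold ChevalleyDatum.x
  rw [dif_pos hr', xMat_eq ⟨r, hr'⟩ (h.chainShort r hr)]
  simp [XR, aR, aF, Ak_zero]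

theorem FD.chkPref_spec {fx : FX} (hp : fd.ChkPref fx) (r s : ℕ) (hr : r < fd.n) (hs : s < fd.n) :
    (fd.ent fd.t1 r s = 0 → fd.ent fd.t2 r s = 0) ∧ (fd.ent fd.t2 r s = 0 → fd.ent fd.t3 r s = 0) := by
  have := hp r hr
  simp only [FD.chkPrefR, Bool.and_eq_true, List.all_eq_true, List.mem_range, Bool.or_eq_true,
    Bool.not_eq_true', natBeq_iff] at this
  have h1 := this.1 s hs
  constructor
  · intro h0
    rcases h1.1 with h | h
    · rw [← Bool.not_eq_true, natBeq_iff] at h; exact absurd h0 h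
    · exact h
  · intro h0
    rcases h1.2 with h | h
    · rw [← Bool.not_eq_true, natBeq_iff] at h; exact absurd h0 h
    · exact h

/-- decoding of a chain table entry -/
def FD.dec (fd : FD) (w : ℕ) : ℕ × ℤ := (w &&& 255, (((w >>> 8 : ℕ)) : ℤ) - 8)

theorem FD.chainL_get {fx : FX} (hp : fd.ChkPref fx) (r s : ℕ) (hr : r < fd.n) (hs : s < fd.n) :
    (fd.chainL r s)[0]? = (if fd.ent fd.t1 r s = 0 then none else some (fd.dec (fd.ent fd.t1 r s))) ∧
    (fd.chainL r s)[1]? = (if fd.ent fd.t2 r s = 0 then none else some (fd.dec (fd.ent fd.t2 r s))) ∧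
    (fd.chainL r s)[2]? = (if fd.ent fd.t3 r s = 0 then none else some (fd.dec (fd.ent fd.t3 r s))) := by
  obtain ⟨h12, h23⟩ := fd.chkPref_spec hp r s hr hs
  unfold FD.chainL FD.d1 FD.dec
  by_cases e1 : fd.ent fd.t1 r s = 0
  · have e2 := h12 e1
    have e3 := h23 e2
    simp [e1, e2, e3]
  · by_cases e2 : fd.ent fd.t2 r s = 0
    · have e3 := h23 e2
      simp [e1, e2, e3]
    · by_cases e3 : fd.ent fd.t3 r s = 0
      · simp [e1, e2, e3]
      · simp [e1, e2, e3]

theorem FD.get_chn (T : ℕ → ℕ) (r s : ℕ) (a : ℤ) (i : ℕ) :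
    SV.get (fd.chn T r s a) i =
      SV.get (if fd.ent T r s = 0 then ([] : SV) else [(fd.l + (fd.dec (fd.ent T r s)).1, (fd.dec (fd.ent T r s)).2)]) i * a := by
  unfold FD.chn FD.dec
  by_cases e : fd.ent T r s = 0
  · have : Nat.beq (fd.ent T r s) 0 = true := (natBeq_iff _ _).mpr e
    simp [e, this]
  · have : Nat.beq (fd.ent T r s) 0 = false := by rw [← Bool.not_eq_true, natBeq_iff]; exact e
    simp only [e, this, cond_false, if_false, SV.get_cons, SV.get_nil, add_zero]
    split_ifs <;> simp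

theorem FD.colA_chain {fx : FX} (hp : fd.ChkPref fx) (r c : ℕ) (hr : r < fd.n) (hc1 : ¬ c < fd.l)
    (hc2 : c - fd.l < fd.n) (h1 : c - fd.l ≠ r) (h2 : c - fd.l ≠ fd.n - 1 - r) :
    fd.colA r 1 c = (if fd.ent fd.t1 r (c - fd.l) = 0 then ([] : SV) else
      [(fd.l + (fd.dec (fd.ent fd.t1 r (c - fd.l))).1, (fd.dec (fd.ent fd.t1 r (c - fd.l))).2)]) ∧
    fd.colA r 2 c = (if fd.ent fd.t2 r (c - fd.l) = 0 then ([] : SV) else
      [(fd.l + (fd.dec (fd.ent fd.t2 r (c - fd.l))).1, (fd.dec (fd.ent fd.t2 r (c - fd.l))).2)]) ∧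
    fd.colA r 3 c = (if fd.ent fd.t3 r (c - fd.l) = 0 then ([] : SV) else
      [(fd.l + (fd.dec (fd.ent fd.t3 r (c - fd.l))).1, (fd.dec (fd.ent fd.t3 r (c - fd.l))).2)]) := by
  obtain ⟨g0, g1, g2⟩ := fd.chainL_get hp r (c - fd.l) hr hc2
  unfold FD.colA
  simp only [hc1, h1, h2, if_false, show (1:ℕ) ≠ 0 by decide, show (2:ℕ) ≠ 0 by decide,
    show (3:ℕ) ≠ 0 by decide, show (1:ℕ) - 1 = 0 by rfl, show (2:ℕ) - 1 = 1 by rfl,
    show (3:ℕ) - 1 = 2 by rfl, g0, g1, g2]
  refine ⟨?_, ?_, ?_⟩ <;> split_ifs <;> rfl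

/-- the columns of `x_r(t)` for an integer `t` -/
theorem FD.get_colX {fx : FX} (hp : fd.ChkPref fx) (r c : ℕ) (hr : r < fd.n) (hc : c < fd.l + fd.n) (t : ℤ)
    (i : ℕ) :
    SV.get (fd.colX r t c) i = SV.get (fd.colA r 0 c) i + SV.get (fd.colA r 1 c) i * t +
      SV.get (fd.colA r 2 c) i * t ^ 2 + SV.get (fd.colA r 3 c) i * t ^ 3 := by
  by_cases hc1 : c < fd.l
  · have b1 : Nat.blt c fd.l = true := (natBlt_iff _ _).mpr hc1
    unfold FD.colX FD.colA FD.ent1
    simp only [b1, cond_true, hc1, if_true, show (1:ℕ) ≠ 0 by decide, show (2:ℕ) ≠ 0 by decide,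
      show (3:ℕ) ≠ 0 by decide, show (2:ℕ) ≠ 1 by decide, show (3:ℕ) ≠ 1 by decide, if_false]
    by_cases hz : -fd.carZ c r * t = 0
    · have : intBeq (-fd.carZ c r * t) 0 = true := (intBeq_iff _ _).mpr hz
      simp only [this, cond_true, SV.get_cons, SV.get_nil, add_zero, zero_mul]
      split_ifs <;> simp_all
    · have : intBeq (-fd.carZ c r * t) 0 = false := by rw [← Bool.not_eq_true, intBeq_iff]; exact hz
      simp only [this, cond_false, SV.get_cons, SV.get_nil, add_zero, zero_mul]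
      split_ifs <;> simp
  · have b1 : Nat.blt c fd.l = false := by rw [← Bool.not_eq_true, natBlt_iff]; exact hc1
    by_cases h1 : c - fd.l = r
    · have b2 : Nat.beq (c - fd.l) r = true := (natBeq_iff _ _).mpr h1
      unfold FD.colX FD.colA
      simp [b1, b2, hc1, h1]
    · have b2 : Nat.beq (c - fd.l) r = false := by rw [← Bool.not_eq_true, natBeq_iff]; exact h1
      by_cases h2 : c - fd.l = fd.n - 1 - r
      · have b3 : Nat.beq (c - fd.l) (fd.n - 1 - r) = true := (natBeq_iff _ _).mpr h2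
        have a0 : fd.colA r 0 c = [(c, 1)] := by simp [FD.colA]
        have a1 : fd.colA r 1 c = (List.range fd.l).map (fun i => (i, fd.corZ r i)) := by
          unfold FD.colA
          rw [if_neg (by decide), if_neg hc1, if_neg h1, if_pos h2, if_pos rfl]
        have a2 : fd.colA r 2 c = [(fd.l + r, -1)] := by
          unfold FD.colA
          rw [if_neg (by decide), if_neg hc1, if_neg h1, if_pos h2, if_neg (by decide), if_pos rfl]
        have a3 : fd.colA r 3 c = [] := by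
          unfold FD.colA
          rw [if_neg (by decide), if_neg hc1, if_neg h1, if_pos h2, if_neg (by decide), if_neg (by decide)]
        have x : fd.colX r t c = (c, 1) :: (fd.l + r, - (t * t)) ::
            (List.range fd.l).map (fun i => (i, fd.corZ r i * t)) := by
          unfold FD.colX
          rw [b1, cond_false, b2, cond_false, b3, cond_true]
        rw [a0, a1, a2, a3, x]
        have e1 : ∀ (f : ℕ → ℤ), SV.get ((List.range fd.l).map fun i => (i, f i * t)) i =
            SV.get ((List.range fd.l).map fun i => (i, f i)) i * t := by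
          intro f
          rw [SV.get_range_map, SV.get_range_map]
          split_ifs <;> simp
        simp only [SV.get_cons, SV.get_nil, add_zero, zero_mul, e1]
        split_ifs <;> ring
      · have b3 : Nat.beq (c - fd.l) (fd.n - 1 - r) = false := by
          rw [← Bool.not_eq_true, natBeq_iff]; exact h2
        obtain ⟨g1, g2, g3⟩ := fd.colA_chain hp r c hr hc1 (by omega) h1 h2
        rw [g1, g2, g3]
        unfold FD.colX
        simp only [b1, b2, b3, cond_false, SV.get_cons, SV.get_append, FD.get_chn]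
        have : fd.colA r 0 c = [(c, 1)] := by simp [FD.colA]
        rw [this]
        simp only [SV.get_cons, SV.get_nil, add_zero]
        ring

theorem Ak_apply (h : Agrees D fd) (r k : ℕ) (hr : r < fd.n) (a b : D.Idx) :
    Ak D r k a b = SV.get (fd.colA r k (code D b)) (code D a) := by
  have hb : code D b < fd.l + fd.n := by rw [← h.hl, ← h.hn]; exact code_lt D b
  rw [← h.colA_eq r k _ hr hb]; rfl

theorem XZ_eq_dens {fx : FX} (h : Agrees D fd) (hp : fd.ChkPref fx) (r : ℕ) (hr : r < fd.n) (t : ℤ) :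
    XR D ℤ r t = SM.dens (code D) (fd.colX r t) := by
  ext a b
  have hb : code D b < fd.l + fd.n := by rw [← h.hl, ← h.hn]; exact code_lt D b
  rw [SM.dens_apply, fd.get_colX hp r _ hr hb, ← Ak_apply h r 0 hr, ← Ak_apply h r 1 hr, ← Ak_apply h r 2 hr,
    ← Ak_apply h r 3 hr, Ak_zero]
  simp only [XR, aR, Matrix.map_apply, Matrix.add_apply, Matrix.smul_apply, smul_eq_mul,
    Int.coe_castRingHom, Int.cast_id]
  ring

/-- the integer matrix with the columns `ncol` -/
def nZ (D : ChevalleyDatum) (fd : FD) (fx : FX) (r : ℕ) : Matrix D.Idx D.Idx ℤ :=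
  SM.dens (code D) (fd.ncol fx r)

theorem FD.chkN_spec {fx : FX} (hn : fd.ChkN fx) (r c : ℕ) (hr : r < fd.n) (hc : c < fd.l + fd.n) :
    SV.bdd (fd.l + fd.n) (fd.colX r 1 c) = true ∧ SV.bdd (fd.l + fd.n) (fd.ncol fx r c) = true ∧
    ∀ i, SV.get (SM.apply (fd.colX r (-1)) (fd.ncol fx r c)) i =
      SV.get (SM.apply (fd.colX (fd.n - 1 - r) (-1)) (fd.colX r 1 c)) i := by
  have := hn r hr
  simp only [FD.chkNR, Bool.and_eq_true, List.all_eq_true, List.mem_range] at this
  obtain ⟨⟨h1, h2⟩, h3⟩ := this.1 c hc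
  exact ⟨SV.bdd_of_bddB h1, SV.bdd_of_bddB h2, SV.eq_of_beqB h3⟩

theorem nZ_eq {fx : FX} (h : Agrees D fd) (hc : fd.ChkAdd) (hp : fd.ChkPref fx) (hn : fd.ChkN fx) (r : ℕ)
    (hr : r < fd.n) :
    nZ D fd fx r = XR D ℤ r 1 * XR D ℤ (fd.n - 1 - r) (-1) * XR D ℤ r 1 := by
  have hr' : fd.n - 1 - r < fd.n := by omega
  have hN : ∀ m < D.rank + D.nroots, ∃ a : D.Idx, code D a = m := code_surj D
  have hlt : ∀ b : D.Idx, code D b < fd.l + fd.n := by
    intro b; rw [← h.hl, ← h.hn]; exact code_lt D b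
  have key : XR D ℤ r (-1) * nZ D fd fx r = XR D ℤ (fd.n - 1 - r) (-1) * XR D ℤ r 1 := by
    rw [XZ_eq_dens h hp r hr, XZ_eq_dens h hp _ hr', XZ_eq_dens h hp r hr]
    unfold nZ
    rw [SM.dens_mul (code D) (code_injective D) _ hN, SM.dens_mul (code D) (code_injective D) _ hN]
    · ext a b
      simp only [SM.dens_apply, SM.mul]
      exact (fd.chkN_spec hn r _ hr (hlt b)).2.2 _
    · intro b
      rw [h.hl, h.hn]
      exact (fd.chkN_spec hn r _ hr (hlt b)).1
    · intro b
      rw [h.hl, h.hn]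
      exact (fd.chkN_spec hn r _ hr (hlt b)).2.1
  calc nZ D fd fx r = (XR D ℤ r 1 * XR D ℤ r (-1)) * nZ D fd fx r := by
        rw [XR_mul_neg h hc r hr, Matrix.one_mul]
    _ = XR D ℤ r 1 * (XR D ℤ r (-1) * nZ D fd fx r) := by rw [Matrix.mul_assoc]
    _ = _ := by rw [key, ← Matrix.mul_assoc]

/-- `n_r` over a field -/
def nF (D : ChevalleyDatum) (fd : FD) (fx : FX) (F : Type*) [Field F] (r : ℕ) : Matrix D.Idx D.Idx F :=
  (nZ D fd fx r).map (Int.castRingHom F)

theorem nF_eq {fx : FX} {F : Type*} [Field F] (h : Agrees D fd) (hc : fd.ChkAdd) (hp : fd.ChkPref fx)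
    (hn : fd.ChkN fx) (r : ℕ) (hr : r < fd.n) :
    nF D fd fx F r = XR D F r 1 * XR D F (fd.n - 1 - r) (-1) * XR D F r 1 := by
  unfold nF
  rw [nZ_eq h hc hp hn r hr, Matrix.map_mul, Matrix.map_mul, XR_map, XR_map]
  simp

theorem nMat_eq {fx : FX} {F : Type*} [Field F] (h : Agrees D fd) (hc : fd.ChkAdd) (hp : fd.ChkPref fx)
    (hn : fd.ChkN fx) (r : ℕ) (hr : r < fd.n) (c : F) :
    D.nMat F r c = XR D F r c * XR D F (fd.n - 1 - r) (-c⁻¹) * XR D F r c := by
  have hr' : fd.n - 1 - r < fd.n := by omega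
  unfold ChevalleyDatum.nMat ChevalleyDatum.wordMat ChevalleyDatum.nWord
  simp only [List.map_cons, List.map_nil, List.prod_cons, List.prod_nil, mul_one]
  have : D.neg r = fd.n - 1 - r := h.neg_eq r hr
  rw [this, x_eq_XR h r hr, x_eq_XR h _ hr', Matrix.mul_assoc]

theorem nMat_one {fx : FX} {F : Type*} [Field F] (h : Agrees D fd) (hc : fd.ChkAdd) (hp : fd.ChkPref fx)
    (hn : fd.ChkN fx) (r : ℕ) (hr : r < fd.n) : D.nMat F r 1 = nF D fd fx F r := by
  rw [nMat_eq h hc hp hn r hr, nF_eq h hc hp hn r hr, inv_one]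

end Cfsg.Agent.Lib.H29.Chev
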