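import Mathlib
import Cfsg.Prelude.Def_ChevStructure
import Cfsg.Agent.Lib.H29.ChevGen3

/-!
# Diagonal matrices attached to functionals on the root lattice, and the elements `h_r(c)`

`Td e c` is the diagonal matrix with entries `c ^ e i`. Conjugation by such matrices rescales root elements
(grading by the root lattice) and is transported by the monomial matrices `n_r`; this gives
`h_r(c) = Td ⟨·, r^∨⟩ c`.
-/

set_option autoImplicit false
set_option linter.unusedSectionVars false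
set_option linter.unusedSimpArgs false

namespace Cfsg.Agent.Lib.H29.Chev

open Cfsg.Lie Matrix

variable {D : ChevalleyDatum} {fd : FD} {fx : FX} {F : Type*} [Field F]

/-- the diagonal matrix with entries `c ^ e i` -/
def Td (e : D.Idx → ℤ) (c : F) : Matrix D.Idx D.Idx F := Matrix.diagonal fun i => c ^ e i

theorem Td_apply (e : D.Idx → ℤ) (c : F) (i j : D.Idx) : Td e c i j = if i = j then c ^ e i else 0 := by
  simp [Td, Matrix.diagonal_apply]

theorem Td_mul_Td (e e' : D.Idx → ℤ) (c : F) (hc : c ≠ 0) : Td e c * Td e' c = Td (e + e') c := by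
  unfold Td
  rw [Matrix.diagonal_mul_diagonal]
  congr 1
  funext i
  rw [Pi.add_apply, zpow_add₀ hc]

theorem Td_zero (c : F) : Td (0 : D.Idx → ℤ) c = 1 := by
  unfold Td
  simp

theorem Td_mul_neg (e : D.Idx → ℤ) (c : F) (hc : c ≠ 0) : Td e c * Td (-e) c = 1 := by
  rw [Td_mul_Td _ _ _ hc, add_neg_cancel, Td_zero]

theorem Td_neg_mul (e : D.Idx → ℤ) (c : F) (hc : c ≠ 0) : Td (-e) c * Td e c = 1 := by
  rw [Td_mul_Td _ _ _ hc, neg_add_cancel, Td_zero]

theorem Td_inv (e : D.Idx → ℤ) (c : F) : Td e c⁻¹ = Td (-e) c := by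
  unfold Td
  congr 1
  funext i
  rw [Pi.neg_apply, _root_.inv_zpow, _root_.zpow_neg]

theorem Td_mul_param (e : D.Idx → ℤ) (c c' : F) : Td e c * Td e c' = Td e (c * c') := by
  unfold Td
  rw [Matrix.diagonal_mul_diagonal]
  congr 1
  funext i
  rw [mul_zpow]

/-- a matrix whose non-zero entries `(i, j)` satisfy `e' i = e j` intertwines `Td e` and `Td e'` -/
theorem Td_mul_comm (M : Matrix D.Idx D.Idx F) (e e' : D.Idx → ℤ) (c : F)
    (hM : ∀ i j, M i j ≠ 0 → e' i = e j) : Td e' c * M = M * Td e c := by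
  ext i j
  unfold Td
  rw [Matrix.diagonal_mul, Matrix.mul_diagonal]
  by_cases h : M i j = 0
  · simp [h]
  · rw [hM i j h, mul_comm]

/-- a diagonal matrix rescales the parameter of `x_r(t)` when the coefficient matrices are graded -/
theorem Td_mul_XR (r : ℕ) (e : D.Idx → ℤ) (m : ℤ) (c : F) (hc : c ≠ 0)
    (hA : ∀ k : ℕ, k = 1 ∨ k = 2 ∨ k = 3 → ∀ i j, aR D F r k i j ≠ 0 → e i = e j + k * m) (t : F) :
    Td e c * XR D F r t = XR D F r (c ^ m * t) * Td e c := by
  have key : ∀ k : ℕ, k = 1 ∨ k = 2 ∨ k = 3 →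
      Td e c * (t ^ k • aR D F r k) = ((c ^ m * t) ^ k • aR D F r k) * Td e c := by
    intro k hk
    ext i j
    unfold Td
    rw [Matrix.diagonal_mul, Matrix.mul_diagonal, Matrix.smul_apply, Matrix.smul_apply]
    by_cases h : aR D F r k i j = 0
    · simp [h]
    · rw [hA k hk i j h, zpow_add₀ hc, mul_comm (k : ℤ) m, _root_.zpow_mul, zpow_natCast, smul_eq_mul,
        smul_eq_mul]
      ring
  have k1 := key 1 (by simp)
  have k2 := key 2 (by simp)
  have k3 := key 3 (by simp)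
  simp only [pow_one] at k1
  unfold XR
  rw [Matrix.mul_add, Matrix.mul_add, Matrix.mul_add, Matrix.add_mul, Matrix.add_mul, Matrix.add_mul, k1, k2, k3,
    Matrix.mul_one, Matrix.one_mul]

/-- the functional with coefficients `a` evaluated on the weight of the coded index `c` -/
def FD.om (fd : FD) (fx : FX) (a : ℕ → ℤ) (c : ℕ) : ℤ :=
  ((List.range fd.l).map fun j => a j * fd.coordZ fx c j).sum

/-- the functional with coefficients `a` evaluated on the root `r` -/
def FD.omr (fd : FD) (fx : FX) (a : ℕ → ℤ) (r : ℕ) : ℤ :=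
  ((List.range fd.l).map fun j => a j * fd.rcZ fx r j).sum

theorem FD.om_lt (a : ℕ → ℤ) (c : ℕ) (hc : c < fd.l) : fd.om fx a c = 0 := by
  unfold FD.om FD.coordZ
  have : Nat.blt c fd.l = true := (natBlt_iff _ _).mpr hc
  simp [this]

theorem FD.om_ge (a : ℕ → ℤ) (c : ℕ) (hc : ¬ c < fd.l) : fd.om fx a c = fd.omr fx a (c - fd.l) := by
  unfold FD.om FD.omr FD.coordZ
  have : Nat.blt c fd.l = false := by rw [← Bool.not_eq_true, natBlt_iff]; exact hc
  simp [this]

theorem sum_range_lin (l : ℕ) (a f g h : ℕ → ℤ) (k : ℤ) (hf : ∀ j < l, f j = g j + k * h j) :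
    ((List.range l).map fun j => a j * f j).sum =
      ((List.range l).map fun j => a j * g j).sum + k * ((List.range l).map fun j => a j * h j).sum := by
  induction l with
  | zero => simp
  | succ l ih =>
    rw [List.range_succ, List.map_append, List.map_append, List.map_append, List.sum_append, List.sum_append,
      List.sum_append, ih (fun j hj => hf j (by omega))]
    simp only [List.map_cons, List.map_nil, List.sum_cons, List.sum_nil, add_zero]
    rw [hf l (by omega)]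
    ring

theorem grad_spec (h : Agrees D fd) (hg : fd.ChkGrad fx) (r k : ℕ) (hr : r < fd.n)
    (hk : k = 1 ∨ k = 2 ∨ k = 3) (a b : D.Idx) (hab : Ak D r k a b ≠ 0) :
    ∀ j < fd.l, fd.coordZ fx (code D a) j = fd.coordZ fx (code D b) j + (k : ℤ) * fd.rcZ fx r j := by
  have hb : code D b < fd.l + fd.n := by rw [← h.hl, ← h.hn]; exact code_lt D b
  rw [Ak_apply h r k hr] at hab
  obtain ⟨p, hp, hpa⟩ := SV.get_ne_zero_mem _ _ hab
  have := hg r hr
  simp only [FD.chkGradR, List.all_eq_true, List.mem_range, intBeq_iff] at this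
  intro j hj
  have := this (code D b) hb k (by rcases hk with rfl | rfl | rfl <;> simp) p hp j hj
  rw [hpa] at this
  exact this

theorem om_grad (h : Agrees D fd) (hg : fd.ChkGrad fx) (r k : ℕ) (hr : r < fd.n)
    (hk : k = 1 ∨ k = 2 ∨ k = 3) (a' : ℕ → ℤ) (a b : D.Idx) (hab : aR D F r k a b ≠ 0) :
    fd.om fx a' (code D a) = fd.om fx a' (code D b) + (k : ℤ) * fd.omr fx a' r := by
  have hab' : Ak D r k a b ≠ 0 := by
    intro h0; apply hab; simp [aR, h0]
  unfold FD.om FD.omr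
  exact sum_range_lin fd.l a' _ _ _ k (grad_spec h hg r k hr hk a b hab')

/-- diagonal matrices attached to functionals rescale root elements -/
theorem Td_om_XR (h : Agrees D fd) (hg : fd.ChkGrad fx) (r : ℕ) (hr : r < fd.n) (a' : ℕ → ℤ) (c : F)
    (hc : c ≠ 0) (t : F) :
    Td (fun i => fd.om fx a' (code D i)) c * XR D F r t =
      XR D F r (c ^ (fd.omr fx a' r) * t) * Td (fun i => fd.om fx a' (code D i)) c :=
  Td_mul_XR r _ _ c hc (fun k hk i j hij => om_grad h hg r k hr hk a' i j hij) t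

theorem listsum_eq (l : ℕ) (f : ℕ → ℤ) : ((List.range l).map f).sum = ∑ i ∈ Finset.range l, f i := by
  induction l with
  | zero => simp
  | succ l ih => rw [List.range_succ, List.map_append, List.sum_append, ih, Finset.sum_range_succ]; simp

theorem nZ_support (r : ℕ) (i j : D.Idx) (hij : nZ D fd fx r i j ≠ 0) :
    (code D i < fd.l ∧ code D j < fd.l) ∨
      (¬ code D j < fd.l ∧ code D i = fd.l + fd.nw fx r (code D j - fd.l)) := by
  unfold nZ at hij
  rw [SM.dens_apply] at hij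
  obtain ⟨p, hp, hpa⟩ := SV.get_ne_zero_mem _ _ hij
  unfold FD.ncol at hp
  by_cases hc : code D j < fd.l
  · left
    refine ⟨?_, hc⟩
    have : Nat.blt (code D j) fd.l = true := (natBlt_iff _ _).mpr hc
    rw [this, cond_true, List.mem_cons] at hp
    rcases hp with rfl | hp
    · rw [← hpa]; exact hc
    · obtain ⟨j', hj', rfl⟩ := List.mem_map.mp hp
      rw [← hpa]; exact List.mem_range.mp hj'
  · right
    refine ⟨hc, ?_⟩
    have : Nat.blt (code D j) fd.l = false := by rw [← Bool.not_eq_true, natBlt_iff]; exact hc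
    rw [this, cond_false, List.mem_singleton] at hp
    rw [← hpa, hp]

theorem FD.nw_spec (hn : fd.ChkN fx) (r s : ℕ) (hr : r < fd.n) (hs : s < fd.n) :
    fd.nw fx r s < fd.n ∧
      ∀ j < fd.l, fd.rcZ fx (fd.nw fx r s) j = fd.rcZ fx s j - fd.pr s r * fd.rcZ fx r j := by
  have := hn r hr
  simp only [FD.chkNR, Bool.and_eq_true, List.all_eq_true, List.mem_range, natBlt_iff, intBeq_iff] at this
  exact this.2 s hs

theorem FD.lin_spec (hl : fd.ChkLin fx) (r : ℕ) (hr : r < fd.n) :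
    (∀ i < fd.l, fd.carZ i r =
      ((List.range fd.l).map fun j => fd.rcZ fx r j * fd.carZ i (fd.simples.getD j 0)).sum) ∧
    fd.omr fx (fd.avZ fx r) r = 1 ∧ fd.pr r r = 2 := by
  have := hl r hr
  simp only [FD.chkLinR, Bool.and_eq_true, List.all_eq_true, List.mem_range, intBeq_iff] at this
  exact ⟨this.1.1, this.1.2, this.2⟩

/-- the coefficients of the functional `⟨·, r^∨⟩` on the fundamental roots -/
def FD.prs (fd : FD) (r : ℕ) (j : ℕ) : ℤ := fd.pr (fd.simples.getD j 0) r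

theorem FD.pr_lin (hl : fd.ChkLin fx) (s r : ℕ) (hs : s < fd.n) :
    fd.pr s r = fd.omr fx (fd.prs r) s := by
  unfold FD.pr FD.omr FD.prs FD.pr
  rw [listsum_eq, listsum_eq]
  have e1 : ∀ i ∈ Finset.range fd.l, fd.corZ r i * fd.carZ i s =
      ∑ j ∈ Finset.range fd.l, fd.corZ r i * (fd.rcZ fx s j * fd.carZ i (fd.simples.getD j 0)) := by
    intro i hi
    rw [(fd.lin_spec hl s hs).1 i (Finset.mem_range.mp hi), listsum_eq, Finset.mul_sum]
  rw [Finset.sum_congr rfl e1, Finset.sum_comm]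
  apply Finset.sum_congr rfl
  intro j _
  rw [listsum_eq, Finset.sum_mul]
  apply Finset.sum_congr rfl
  intro i _
  ring

theorem FD.omr_add (a b : ℕ → ℤ) (r : ℕ) : fd.omr fx (a + b) r = fd.omr fx a r + fd.omr fx b r := by
  unfold FD.omr
  rw [listsum_eq, listsum_eq, listsum_eq, ← Finset.sum_add_distrib]
  apply Finset.sum_congr rfl
  intro j _
  simp [add_mul]

theorem FD.omr_smul (k : ℤ) (a : ℕ → ℤ) (r : ℕ) : fd.omr fx (fun j => k * a j) r = k * fd.omr fx a r := by
  unfold FD.omr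
  rw [listsum_eq, listsum_eq, Finset.mul_sum]
  apply Finset.sum_congr rfl
  intro j _
  ring

theorem FD.omr_sub_smul (a b : ℕ → ℤ) (k : ℤ) (r : ℕ) :
    fd.omr fx (fun j => a j - k * b j) r = fd.omr fx a r - k * fd.omr fx b r := by
  unfold FD.omr
  rw [listsum_eq, listsum_eq, listsum_eq, Finset.mul_sum, ← Finset.sum_sub_distrib]
  apply Finset.sum_congr rfl
  intro j _
  ring

/-- the functional with coefficients `a` on the root `w_r(s)` -/
theorem FD.omr_nw (hn : fd.ChkN fx) (a : ℕ → ℤ) (r s : ℕ) (hr : r < fd.n) (hs : s < fd.n) :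
    fd.omr fx a (fd.nw fx r s) = fd.omr fx a s - fd.pr s r * fd.omr fx a r := by
  unfold FD.omr
  rw [listsum_eq, listsum_eq, listsum_eq, Finset.mul_sum, ← Finset.sum_sub_distrib]
  apply Finset.sum_congr rfl
  intro j hj
  rw [(fd.nw_spec hn r s hr hs).2 j (Finset.mem_range.mp hj)]
  ring

theorem FD.om_sub_smul (a b : ℕ → ℤ) (k : ℤ) (c : ℕ) :
    fd.om fx (fun j => a j - k * b j) c = fd.om fx a c - k * fd.om fx b c := by
  unfold FD.om
  rw [listsum_eq, listsum_eq, listsum_eq, Finset.mul_sum, ← Finset.sum_sub_distrib]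
  apply Finset.sum_congr rfl
  intro j _
  ring

theorem nF_ne_zero (r : ℕ) (i j : D.Idx) (hij : nF D fd fx F r i j ≠ 0) : nZ D fd fx r i j ≠ 0 := by
  intro h0; apply hij; simp [nF, h0]

/-- `n_r` intertwines the diagonal matrices of a functional `a` and of `a ∘ w_r` -/
theorem nF_Td (h : Agrees D fd) (hl : fd.ChkLin fx) (hn : fd.ChkN fx) (r : ℕ) (hr : r < fd.n) (a : ℕ → ℤ)
    (c : F) :
    Td (fun i => fd.om fx (fun j => a j - fd.omr fx a r * fd.prs r j) (code D i)) c * nF D fd fx F r =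
      nF D fd fx F r * Td (fun i => fd.om fx a (code D i)) c := by
  apply Td_mul_comm
  intro i j hij
  have hj : code D j < fd.l + fd.n := by rw [← h.hl, ← h.hn]; exact code_lt D j
  rcases nZ_support r i j (nF_ne_zero r i j hij) with ⟨hi, hj'⟩ | ⟨hj', hi⟩
  · rw [fd.om_lt _ _ hi, fd.om_lt _ _ hj']
  · have hs : code D j - fd.l < fd.n := by omega
    obtain ⟨hw, _⟩ := fd.nw_spec hn r _ hr hs
    rw [fd.om_ge _ _ hj', hi, fd.om_ge _ _ (by omega), Nat.add_sub_cancel_left, fd.omr_sub_smul,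
      fd.omr_nw hn _ r _ hr hs, fd.omr_nw hn _ r _ hr hs, ← fd.pr_lin hl _ r hs, ← fd.pr_lin hl r r hr,
      (fd.lin_spec hl r hr).2.2]
    ring

theorem FD.omr_neg (hp : fd.ChkPref fx) (a : ℕ → ℤ) (r : ℕ) (hr : r < fd.n) :
    fd.omr fx a (fd.n - 1 - r) = - fd.omr fx a r := by
  have := hp r hr
  simp only [FD.chkPrefR, Bool.and_eq_true, List.all_eq_true, List.mem_range, intBeq_iff] at this
  unfold FD.omr
  rw [listsum_eq, listsum_eq, ← Finset.sum_neg_distrib]
  apply Finset.sum_congr rfl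
  intro j hj
  rw [this.2 j (Finset.mem_range.mp hj)]
  ring

theorem hMat_mul (h : Agrees D fd) (r : ℕ) (c : F) : D.hMat F r c = D.nMat F r c * D.nMat F r (-1) := by
  unfold ChevalleyDatum.hMat ChevalleyDatum.nMat ChevalleyDatum.hWord ChevalleyDatum.wordMat
  rw [List.map_append, List.prod_append]

/-- all the checks on the extra tables -/
structure Chk2 (fd : FD) (fx : FX) : Prop where
  add : fd.ChkAdd
  pref : fd.ChkPref fx
  grad : fd.ChkGrad fx
  lin : fd.ChkLin fx
  nn : fd.ChkN fx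

theorem nMat_conj (h : Agrees D fd) (hk : Chk2 fd fx) (r : ℕ) (hr : r < fd.n) (c : F) (hc0 : c ≠ 0) :
    D.nMat F r c * Td (fun i => fd.om fx (fd.avZ fx r) (code D i)) c =
      Td (fun i => fd.om fx (fd.avZ fx r) (code D i)) c * nF D fd fx F r := by
  have hr' : fd.n - 1 - r < fd.n := by omega
  have ha : fd.omr fx (fd.avZ fx r) r = 1 := (fd.lin_spec hk.lin r hr).2.1
  have ha' : fd.omr fx (fd.avZ fx r) (fd.n - 1 - r) = -1 := by rw [fd.omr_neg hk.pref _ r hr, ha]
  have t1 := fun t => Td_om_XR (F := F) h hk.grad r hr (fd.avZ fx r) c hc0 t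
  have t2 := fun t => Td_om_XR (F := F) h hk.grad _ hr' (fd.avZ fx r) c hc0 t
  rw [ha] at t1
  rw [ha'] at t2
  rw [nMat_eq h hk.add hk.pref hk.nn r hr, nF_eq h hk.add hk.pref hk.nn r hr]
  set T := Td (fun i => fd.om fx (fd.avZ fx r) (code D i)) c with hT
  have e1 : T * XR D F r 1 = XR D F r c * T := by rw [t1 1]; simp
  have e2 : T * XR D F (fd.n - 1 - r) (-1) = XR D F (fd.n - 1 - r) (-c⁻¹) * T := by
    rw [t2 (-1)]; simp [_root_.zpow_neg]
  calc XR D F r c * XR D F (fd.n - 1 - r) (-c⁻¹) * XR D F r c * T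
      = XR D F r c * XR D F (fd.n - 1 - r) (-c⁻¹) * (XR D F r c * T) := by rw [Matrix.mul_assoc]
    _ = XR D F r c * XR D F (fd.n - 1 - r) (-c⁻¹) * (T * XR D F r 1) := by rw [e1]
    _ = XR D F r c * (XR D F (fd.n - 1 - r) (-c⁻¹) * T) * XR D F r 1 := by simp only [Matrix.mul_assoc]
    _ = XR D F r c * (T * XR D F (fd.n - 1 - r) (-1)) * XR D F r 1 := by rw [e2]
    _ = (XR D F r c * T) * XR D F (fd.n - 1 - r) (-1) * XR D F r 1 := by simp only [Matrix.mul_assoc]
    _ = (T * XR D F r 1) * XR D F (fd.n - 1 - r) (-1) * XR D F r 1 := by rw [e1]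
    _ = T * (XR D F r 1 * XR D F (fd.n - 1 - r) (-1) * XR D F r 1) := by simp only [Matrix.mul_assoc]

theorem nF_mul_nMat_neg (h : Agrees D fd) (hk : Chk2 fd fx) (r : ℕ) (hr : r < fd.n) :
    nF D fd fx F r * D.nMat F r (-1) = 1 := by
  have hr' : fd.n - 1 - r < fd.n := by omega
  rw [nMat_eq h hk.add hk.pref hk.nn r hr, nF_eq h hk.add hk.pref hk.nn r hr]
  have i1 : (-(-1 : F)⁻¹) = 1 := by norm_num
  rw [i1]
  have a1 := XR_mul_neg (R := F) h hk.add r hr 1
  have a2 := XR_neg_mul (R := F) h hk.add (fd.n - 1 - r) hr' 1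
  calc XR D F r 1 * XR D F (fd.n - 1 - r) (-1) * XR D F r 1 *
        (XR D F r (-1) * XR D F (fd.n - 1 - r) 1 * XR D F r (-1))
      = XR D F r 1 * XR D F (fd.n - 1 - r) (-1) * (XR D F r 1 * XR D F r (-1)) *
          XR D F (fd.n - 1 - r) 1 * XR D F r (-1) := by simp only [Matrix.mul_assoc]
    _ = XR D F r 1 * (XR D F (fd.n - 1 - r) (-1) * XR D F (fd.n - 1 - r) 1) * XR D F r (-1) := by
        rw [a1]; simp only [Matrix.mul_assoc, Matrix.mul_one]
    _ = 1 := by rw [a2, Matrix.mul_one, a1]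

/-- `h_r(c)` is the diagonal matrix of the functional `⟨·, r^∨⟩` -/
theorem hMat_eq (h : Agrees D fd) (hk : Chk2 fd fx) (r : ℕ) (hr : r < fd.n) (c : F) (hc0 : c ≠ 0) :
    D.hMat F r c = Td (fun i => fd.om fx (fd.prs r) (code D i)) c := by
  have ha : fd.omr fx (fd.avZ fx r) r = 1 := (fd.lin_spec hk.lin r hr).2.1
  set e : D.Idx → ℤ := fun i => fd.om fx (fd.avZ fx r) (code D i) with he
  set e'' : D.Idx → ℤ := fun i => fd.om fx (fun j => fd.avZ fx r j - fd.omr fx (fd.avZ fx r) r * fd.prs r j)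
    (code D i) with he''
  have c1 : D.nMat F r c * Td e c = Td e c * nF D fd fx F r := nMat_conj h hk r hr c hc0
  have c2 : Td e'' c⁻¹ * nF D fd fx F r = nF D fd fx F r * Td e c⁻¹ :=
    nF_Td h hk.lin hk.nn r hr (fd.avZ fx r) c⁻¹
  have c3 : D.nMat F r c = Td e c * nF D fd fx F r * Td e c⁻¹ := by
    rw [← c1, Matrix.mul_assoc, Td_inv, Td_mul_neg _ _ hc0, Matrix.mul_one]
  rw [hMat_mul h, c3, Matrix.mul_assoc (Td e c), ← c2, Matrix.mul_assoc, Matrix.mul_assoc,
    nF_mul_nMat_neg h hk r hr, Matrix.mul_one, Td_inv, Td_mul_Td _ _ _ hc0]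
  congr 1
  funext i
  simp only [Pi.add_apply, Pi.neg_apply, he, he'', fd.om_sub_smul, ha]
  ring

end Cfsg.Agent.Lib.H29.Chev
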