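import Mathlib
import Cfsg.Prelude.Def_ChevStructure
import Cfsg.Agent.Lib.H29.ChevGen4

/-!
# Conjugation of root elements by the elements `n_p`

From the columnwise check `chkConj p s` (the relation `n_p A_s^{(1)} = η A_{w_p s}^{(1)} n_p` over `ℤ`) we get the
same relation for the divided powers, and then `n_p x_s(t) = x_{w_p s}(η t) n_p` over every field.
-/

set_option autoImplicit false
set_option linter.unusedSectionVars false
set_option linter.unusedSimpArgs false
set_option linter.unusedVariables false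

namespace Cfsg.Agent.Lib.H29.Chev

open Cfsg.Lie Matrix

variable {D : ChevalleyDatum} {fd : FD} {fx : FX} {F : Type*} [Field F]

theorem Ak_eq_dens (h : Agrees D fd) (r k : ℕ) (hr : r < fd.n) :
    Ak D r k = SM.dens (code D) (fd.colA r k) := by
  ext a b; exact Ak_apply h r k hr a b

theorem FD.colA_bdd (hc : fd.ChkAdd) (r k c : ℕ) (hr : r < fd.n) (hk : k = 1 ∨ k = 2 ∨ k = 3)
    (hcn : c < fd.l + fd.n) : SV.bdd (fd.l + fd.n) (fd.colA r k c) = true := by
  have hc' := hc r hr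
  simp only [FD.chkAddR, List.all_eq_true, List.mem_range, Bool.and_eq_true] at hc'
  exact (hc' c hcn k (by rcases hk with rfl | rfl | rfl <;> simp)).1

theorem FD.neta_sq (p s : ℕ) : fd.neta fx p s * fd.neta fx p s = 1 := by
  unfold FD.neta
  cases Nat.beq ((fx.nt p >>> (16 * s + 8)) &&& 1) 1 <;> simp

theorem FD.neta_cases (p s : ℕ) : fd.neta fx p s = 1 ∨ fd.neta fx p s = -1 := by
  unfold FD.neta
  cases Nat.beq ((fx.nt p >>> (16 * s + 8)) &&& 1) 1 <;> simp

/-- the relation at level 1, from the columnwise check -/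
theorem nZ_mul_Ak1 (h : Agrees D fd) (hk : Chk2 fd fx) (p s : ℕ) (hp : p < fd.n) (hs : s < fd.n)
    (hcj : fd.chkConj fx p s = true) :
    nZ D fd fx p * Ak D s 1 = fd.neta fx p s • (Ak D (fd.nw fx p s) 1 * nZ D fd fx p) := by
  have hs' : fd.nw fx p s < fd.n := (fd.nw_spec hk.nn p s hp hs).1
  have hN : ∀ m < D.rank + D.nroots, ∃ a : D.Idx, code D a = m := code_surj D
  have hlt : ∀ b : D.Idx, code D b < fd.l + fd.n := by
    intro b; rw [← h.hl, ← h.hn]; exact code_lt D b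
  rw [Ak_eq_dens h s 1 hs, Ak_eq_dens h _ 1 hs']
  unfold nZ
  rw [SM.dens_mul (code D) (code_injective D) _ hN, SM.dens_mul (code D) (code_injective D) _ hN]
  · ext a b
    rw [Matrix.smul_apply]
    simp only [SM.dens_apply, SM.mul]
    simp only [FD.chkConj, List.all_eq_true, List.mem_range] at hcj
    rw [SV.eq_of_beqB (hcj (code D b) (hlt b)), SV.get_smul, smul_eq_mul, mul_comm]
  · intro b
    rw [h.hl, h.hn]
    exact (fd.chkN_spec hk.nn p _ hp (hlt b)).2.1
  · intro b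
    rw [h.hl, h.hn]
    exact fd.colA_bdd hk.add s 1 _ hs (Or.inl rfl) (hlt b)

theorem int_smul_cancel (c : ℤ) (hc : c ≠ 0) (X Y : Matrix D.Idx D.Idx ℤ) (hXY : c • X = c • Y) : X = Y := by
  ext a b
  have := congrFun (congrFun hXY a) b
  simp only [Matrix.smul_apply, smul_eq_mul] at this
  exact mul_left_cancel₀ hc this

/-- the relation for the divided powers -/
theorem nZ_mul_Ak (h : Agrees D fd) (hk : Chk2 fd fx) (p s : ℕ) (hp : p < fd.n) (hs : s < fd.n)
    (hcj : fd.chkConj fx p s = true) :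
    nZ D fd fx p * Ak D s 2 = Ak D (fd.nw fx p s) 2 * nZ D fd fx p ∧
    nZ D fd fx p * Ak D s 3 = fd.neta fx p s • (Ak D (fd.nw fx p s) 3 * nZ D fd fx p) := by
  have hs' : fd.nw fx p s < fd.n := (fd.nw_spec hk.nn p s hp hs).1
  have k1 := nZ_mul_Ak1 h hk p s hp hs hcj
  have a11 : Ak D s 1 * Ak D s 1 = (2 : ℤ) • Ak D s 2 := Ak_mul1 h hk.add s hs 1 (Or.inl rfl)
  have a12 : Ak D s 1 * Ak D s 2 = (3 : ℤ) • Ak D s 3 := Ak_mul1 h hk.add s hs 2 (Or.inr (Or.inl rfl))
  have b11 : Ak D (fd.nw fx p s) 1 * Ak D (fd.nw fx p s) 1 = (2 : ℤ) • Ak D (fd.nw fx p s) 2 :=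
    Ak_mul1 h hk.add _ hs' 1 (Or.inl rfl)
  have b12 : Ak D (fd.nw fx p s) 1 * Ak D (fd.nw fx p s) 2 = (3 : ℤ) • Ak D (fd.nw fx p s) 3 :=
    Ak_mul1 h hk.add _ hs' 2 (Or.inr (Or.inl rfl))
  have e2 := fd.neta_sq (fx := fx) p s
  generalize fd.neta fx p s = η at *
  generalize nZ D fd fx p = N at *
  generalize Ak D s 1 = A1 at *
  generalize Ak D s 2 = A2 at *
  generalize Ak D s 3 = A3 at *
  generalize Ak D (fd.nw fx p s) 1 = B1 at *
  generalize Ak D (fd.nw fx p s) 2 = B2 at *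
  generalize Ak D (fd.nw fx p s) 3 = B3 at *
  have k2 : N * A2 = B2 * N := by
    apply int_smul_cancel 2 (by norm_num)
    rw [← Matrix.mul_smul, ← a11, ← Matrix.mul_assoc, k1, Matrix.smul_mul, Matrix.mul_assoc, k1, Matrix.mul_smul,
      smul_smul, e2, one_smul, ← Matrix.mul_assoc, b11, Matrix.smul_mul]
  refine ⟨k2, ?_⟩
  apply int_smul_cancel 3 (by norm_num)
  rw [← Matrix.mul_smul, ← a12, ← Matrix.mul_assoc, k1, Matrix.smul_mul, Matrix.mul_assoc, k2, ← Matrix.mul_assoc, b12,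
    Matrix.smul_mul, smul_comm]

/-- `n_p x_s(t) = x_{w_p s}(η t) n_p` over a field -/
theorem nF_mul_XR (h : Agrees D fd) (hk : Chk2 fd fx) (p s : ℕ) (hp : p < fd.n) (hs : s < fd.n)
    (hcj : fd.chkConj fx p s = true) (t : F) :
    nF D fd fx F p * XR D F s t = XR D F (fd.nw fx p s) (((fd.neta fx p s : ℤ) : F) * t) * nF D fd fx F p := by
  have k1 := congrArg (fun M => M.map (Int.castRingHom F)) (nZ_mul_Ak1 h hk p s hp hs hcj)
  obtain ⟨k2', k3'⟩ := nZ_mul_Ak h hk p s hp hs hcj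
  have k2 := congrArg (fun M => M.map (Int.castRingHom F)) k2'
  have k3 := congrArg (fun M => M.map (Int.castRingHom F)) k3'
  have sm : ∀ (c : ℤ) (M : Matrix D.Idx D.Idx ℤ), (c • M).map (Int.castRingHom F) =
      ((c : ℤ) : F) • M.map (Int.castRingHom F) := by
    intro c M; ext a b
    rw [Matrix.map_apply, Matrix.smul_apply, Matrix.smul_apply, Matrix.map_apply]
    simp
  simp only [Matrix.map_mul, sm] at k1 k2 k3
  have e2 : ((fd.neta fx p s : ℤ) : F) * ((fd.neta fx p s : ℤ) : F) = 1 := by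
    rw [← Int.cast_mul, fd.neta_sq, Int.cast_one]
  unfold XR nF aR
  generalize ((fd.neta fx p s : ℤ) : F) = η at *
  rw [Matrix.mul_add, Matrix.mul_add, Matrix.mul_add, Matrix.add_mul, Matrix.add_mul, Matrix.add_mul,
    Matrix.mul_one, Matrix.one_mul, Matrix.mul_smul, Matrix.mul_smul, Matrix.mul_smul, k1, k2, k3,
    Matrix.smul_mul, Matrix.smul_mul, Matrix.smul_mul, smul_smul, smul_smul]
  have p2 : (η * t) ^ 2 = t ^ 2 := by rw [mul_pow, pow_two η, e2, one_mul]
  have p3 : (η * t) ^ 3 = t ^ 3 * η := by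
    rw [mul_pow, show η ^ 3 = η * η * η by ring, e2, one_mul, mul_comm]
  rw [p2, p3, mul_comm t η]

end Cfsg.Agent.Lib.H29.Chev
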