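import Mathlib
import Cfsg.Prelude.Def_ChevStructure
import Cfsg.Agent.Lib.H29.ChevGen5

/-!
# Fundamental roots and reflections of a Chevalley datum in terms of the packed tables
-/

set_option autoImplicit false
set_option linter.unusedSectionVars false
set_option linter.unusedSimpArgs false
set_option linter.unusedVariables false

namespace Cfsg.Agent.Lib.H29.Chev

open Cfsg.Lie Matrix

variable {D : ChevalleyDatum} {fd : FD} {fx : FX} {F : Type*} [Field F]

theorem Agrees.simple_eq (h : Agrees D fd) (i : ℕ) : D.simple i = fd.simples.getD i 0 := by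
  unfold ChevalleyDatum.simple
  rw [← h.hsim]
  simp [Array.getD_eq_getD_getElem?, List.getD_eq_getElem?_getD]

theorem Agrees.cartan_eq (h : Agrees D fd) (i s : ℕ) (hi : i < fd.l) (hs : s < fd.n) :
    D.cartan i s = fd.carZ i s := h.car_eq i s hi hs

theorem Agrees.neg_eq' (h : Agrees D fd) (r : ℕ) (hr : r < fd.n) : D.neg r = fd.n - 1 - r := h.neg_eq r hr

theorem Agrees.chainEntry_eq (h : Agrees D fd) (r s : ℕ) (hr : r < fd.n) (hs : s < fd.n) :
    D.chainEntry r s = fd.chainL r s := by
  have e1 : D.chainEntry r s =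
      (((((D.chain.getD r #[]).toList.map (fun e => (e.1, e.2.toList))).find?
        (fun q => decide (q.1 = s))).map Prod.snd).getD []) := by
    unfold ChevalleyDatum.chainEntry
    rw [List.find?_map]
    have : ((fun q : ℕ × List (ℕ × ℤ) => decide (q.1 = s)) ∘ fun e : ℕ × Array (ℕ × ℤ) => (e.1, e.2.toList)) =
        fun e => decide (e.1 = s) := by
      funext e; rfl
    rw [this]
    cases (D.chain.getD r #[]).toList.find? (fun e => decide (e.1 = s)) <;> rfl
  rw [e1, h.row_eq r hr, ← List.head?_filter]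
  unfold FD.genRow
  rw [filterMap_range_filter _ _ fd.n s, if_pos hs]
  · by_cases h0 : fd.chainL r s = []
    · simp [h0]
    · simp [h0]
  · intro s' p hp
    by_cases h0 : fd.chainL r s' = []
    · simp [h0] at hp
    · simp only [h0, if_false, Option.some.injEq] at hp
      rw [← hp]

/-- what `chkSimple` says -/
theorem FD.simple_spec (hS : fd.chkSimple fx = true) (i : ℕ) (hi : i < fd.l) :
    fd.simples.getD i 0 < fd.n ∧
      (∀ j < fd.l, fd.rcZ fx (fd.simples.getD i 0) j = if i = j then 1 else 0) ∧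
      (∀ j < fd.l, fd.corZ (fd.simples.getD i 0) j = if i = j then 1 else 0) := by
  simp only [FD.chkSimple, Bool.and_eq_true, List.all_eq_true, List.mem_range, natBlt_iff, intBeq_iff,
    natBeq_iff] at hS
  obtain ⟨h1, h2⟩ := hS.2 i hi
  have conv : ∀ j, (bif Nat.beq i j then (1 : ℤ) else 0) = if i = j then 1 else 0 := by
    intro j
    by_cases hij : i = j
    · have : Nat.beq i j = true := (natBeq_iff _ _).mpr hij
      simp [this, hij]
    · have : Nat.beq i j = false := by rw [← Bool.not_eq_true, natBeq_iff]; exact hij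
      simp [this, hij]
  refine ⟨h1, fun j hj => ?_, fun j hj => ?_⟩
  · rw [(h2 j hj).1, conv]
  · rw [(h2 j hj).2, conv]

theorem Agrees.reflectRoot_eq (h : Agrees D fd) (hS : fd.chkSimple fx = true) (i s : ℕ) (hi : i < fd.l)
    (hs : s < fd.n) : D.reflectRoot i s = fd.refl i s := by
  have hp : fd.simples.getD i 0 < fd.n := (fd.simple_spec hS i hi).1
  have hp' : fd.n - 1 - fd.simples.getD i 0 < fd.n := by omega
  unfold ChevalleyDatum.reflectRoot FD.refl ChevalleyDatum.chainRoot
  simp only [h.simple_eq, h.cartan_eq i s hi hs, h.neg_eq' _ hp, h.chainEntry_eq _ s hp hs,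
    h.chainEntry_eq _ s hp' hs]

/-- what `ChkSim` says -/
theorem FD.sim_spec (hm : fd.ChkSim fx) (i s : ℕ) (hi : i < fd.l) (hs : s < fd.n) :
    fd.neta fx (fd.simples.getD i 0) (fd.simples.getD i 0) = -1 ∧
    fd.neta fx (fd.simples.getD i 0) (fd.n - 1 - fd.simples.getD i 0) = -1 ∧
    fd.refl i s = fd.nw fx (fd.simples.getD i 0) s ∧
    fd.neta fx (fd.simples.getD i 0) s * fd.neta fx (fd.simples.getD i 0) (fd.nw fx (fd.simples.getD i 0) s) =
      (-1) ^ (fd.carZ i s).natAbs ∧
    fd.neta fx (fd.simples.getD i 0) s * fd.neta fx (fd.simples.getD i 0) (fd.n - 1 - s) = 1 ∧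
    ∀ k < fd.l, fd.corZ (fd.nw fx (fd.simples.getD i 0) s) k =
      fd.corZ s k - fd.pr (fd.simples.getD i 0) s * fd.corZ (fd.simples.getD i 0) k := by
  have := hm i hi
  simp only [FD.chkSimR, Bool.and_eq_true, List.all_eq_true, List.mem_range, natBeq_iff, intBeq_iff] at this
  obtain ⟨⟨h1, h2⟩, h3⟩ := this
  obtain ⟨⟨⟨h4, h5⟩, h6⟩, h7⟩ := h3 s hs
  exact ⟨h1, h2, h4, h5, h6, h7⟩

/-- what `ChkConj` says -/
theorem FD.conj_spec (hcj : fd.ChkConj fx) (i s : ℕ) (hi : i < fd.l) (hs : s < fd.n) :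
    fd.chkConj fx (fd.simples.getD i 0) s = true := by
  have hq : i * fd.n + s < fd.l * fd.n := by
    calc i * fd.n + s < i * fd.n + fd.n := by omega
      _ = (i + 1) * fd.n := by ring
      _ ≤ fd.l * fd.n := Nat.mul_le_mul_right _ hi
  have := hcj (i * fd.n + s) hq
  unfold FD.chkConjQ at this
  have hn : 0 < fd.n := by omega
  have e1 : (i * fd.n + s) / fd.n = i := by
    rw [Nat.add_comm, Nat.add_mul_div_right _ _ hn, Nat.div_eq_of_lt hs, Nat.zero_add]
  have e2 : (i * fd.n + s) % fd.n = s := by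
    rw [Nat.add_comm, Nat.add_mul_mod_self_right, Nat.mod_eq_of_lt hs]
  rwa [e1, e2] at this

/-- what `ChkNeg` says -/
theorem FD.neg_spec (hng : fd.ChkNeg fx) (r : ℕ) (hr : r < fd.n) :
    fd.nw fx r r = fd.n - 1 - r ∧ fd.neta fx r r = -1 ∧ fd.chkConj fx r r = true := by
  have := hng r hr
  simp only [FD.chkNegR, Bool.and_eq_true, natBeq_iff, intBeq_iff] at this
  exact ⟨this.1.1, this.1.2, this.2⟩

end Cfsg.Agent.Lib.H29.Chev
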