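import Mathlib
import Cfsg.Prelude.Def_ChevStructure
import Cfsg.Agent.Lib.H29.ChevGen6

/-!
# The bundle of checks, and the elements `h_r(c)` as diagonal matrices
-/

set_option autoImplicit false
set_option linter.unusedSectionVars false
set_option linter.unusedSimpArgs false
set_option linter.unusedVariables false

namespace Cfsg.Agent.Lib.H29.Chev

open Cfsg.Lie Matrix

/-- all the checks on the packed tables except the conjugation check -/
structure Cert2 (D : ChevalleyDatum) (fd : FD) (fx : FX) : Prop where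
  agrees : Agrees D fd
  lev : fd.ChkLev
  hl : 1 ≤ fd.l
  heven : fd.n % 2 = 0
  chk : Chk2 fd fx
  simple : fd.chkSimple fx = true
  sim : fd.ChkSim fx
  neg : fd.ChkNeg fx
  w0 : fd.chkW0 fx = true

variable {D : ChevalleyDatum} {fd : FD} {fx : FX} {F : Type*} [Field F]

/-- the exponents of `h_r(c)` -/
def hExp (D : ChevalleyDatum) (fd : FD) (fx : FX) (r : ℕ) (a : D.Idx) : ℤ := fd.om fx (fd.prs r) (code D a)

namespace Cert2

variable (C : Cert2 D fd fx)
include C

theorem rank_eq : D.rank = fd.l := C.agrees.hl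
theorem nroots_eq : D.nroots = fd.n := C.agrees.hn

theorem simple_lt (i : ℕ) (hi : i < fd.l) : fd.simples.getD i 0 < fd.n := (fd.simple_spec C.simple i hi).1

theorem hMat_eq (r : ℕ) (hr : r < fd.n) (c : F) (hc : c ≠ 0) : D.hMat F r c = Td (hExp D fd fx r) c :=
  Chev.hMat_eq C.agrees C.chk r hr c hc

theorem hExp_inl (r : ℕ) (j : Fin D.rank) : hExp D fd fx r (Sum.inl j) = 0 := by
  unfold hExp
  rw [code_inl]
  exact fd.om_lt _ _ (by rw [← C.rank_eq]; exact j.isLt)

theorem hExp_inr (r : ℕ) (s : Fin D.nroots) : hExp D fd fx r (Sum.inr s) = fd.pr s.val r := by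
  unfold hExp
  have hs : s.val < fd.n := by rw [← C.nroots_eq]; exact s.isLt
  rw [code_inr, fd.om_ge _ _ (by rw [C.rank_eq]; omega), C.rank_eq, Nat.add_sub_cancel_left,
    ← fd.pr_lin C.chk.lin _ r hs]

/-- `⟨s, p_i^∨⟩ = A_{p_i, s}` -/
theorem pr_simple (i s : ℕ) (hi : i < fd.l) : fd.pr s (fd.simples.getD i 0) = fd.carZ i s := by
  unfold FD.pr
  rw [listsum_eq, Finset.sum_eq_single i]
  · rw [(fd.simple_spec C.simple i hi).2.2 i hi]; simp
  · intro k hk hki
    rw [(fd.simple_spec C.simple i hi).2.2 k (Finset.mem_range.mp hk)]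
    simp [Ne.symm hki]
  · intro h; exact absurd (Finset.mem_range.mpr hi) h

theorem hExp_simple_inr (i : ℕ) (hi : i < fd.l) (s : Fin D.nroots) :
    hExp D fd fx (fd.simples.getD i 0) (Sum.inr s) = D.cartan i s.val := by
  have hs : s.val < fd.n := by rw [← C.nroots_eq]; exact s.isLt
  rw [C.hExp_inr, C.pr_simple i _ hi, C.agrees.cartan_eq i _ hi hs]

/-- `h_r(c) x_s(t) = x_s(c^{⟨s, r^∨⟩} t) h_r(c)` -/
theorem hMat_mul_x (r s : ℕ) (hr : r < fd.n) (hs : s < fd.n) (c : F) (hc : c ≠ 0) (t : F) :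
    D.hMat F r c * D.x F s t = D.x F s (c ^ (fd.pr s r) * t) * D.hMat F r c := by
  rw [C.hMat_eq r hr c hc, x_eq_XR C.agrees s hs, x_eq_XR C.agrees s hs]
  have := Td_om_XR (F := F) C.agrees C.chk.grad s hs (fd.prs r) c hc t
  rw [← fd.pr_lin C.chk.lin s r hs] at this
  exact this

end Cert2

end Cfsg.Agent.Lib.H29.Chev
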