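import Mathlib
import Cfsg.Prelude.Def_ChevStructure
import Cfsg.Agent.Lib.H29.ChevGen7

/-!
# The subgroups `U`, `V`, `H`, `B` of a Chevalley group: normalisation and intersections
-/

set_option autoImplicit false
set_option linter.unusedSectionVars false
set_option linter.unusedSimpArgs false
set_option linter.unusedVariables false

namespace Cfsg.Agent.Lib.H29.Chev

open Cfsg.Lie Matrix

/-- an element that conjugates, together with its inverse, a generating set into the subgroup it generates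
normalises that subgroup -/
theorem mem_normalizer_closure {G : Type*} [Group G] (S : Set G) (g : G)
    (h1 : ∀ x ∈ S, g * x * g⁻¹ ∈ Subgroup.closure S) (h2 : ∀ x ∈ S, g⁻¹ * x * g ∈ Subgroup.closure S) :
    g ∈ Subgroup.normalizer (Subgroup.closure S : Set G) := by
  have key : ∀ (g : G), (∀ x ∈ S, g * x * g⁻¹ ∈ Subgroup.closure S) →
      ∀ u ∈ Subgroup.closure S, g * u * g⁻¹ ∈ Subgroup.closure S := by
    intro g hg u hu
    induction hu using Subgroup.closure_induction with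
    | mem x hx => exact hg x hx
    | one => simp
    | mul x y _ _ hx hy =>
      have : g * (x * y) * g⁻¹ = (g * x * g⁻¹) * (g * y * g⁻¹) := by group
      rw [this]; exact mul_mem hx hy
    | inv x _ hx =>
      have : g * x⁻¹ * g⁻¹ = (g * x * g⁻¹)⁻¹ := by group
      rw [this]; exact inv_mem hx
  rw [Subgroup.mem_normalizer_iff]
  intro u
  constructor
  · exact key g h1 u
  · intro hu
    have := key g⁻¹ (by simpa using h2) _ hu
    simpa [mul_assoc] using this

variable {D : ChevalleyDatum} {fd : FD} {fx : FX} {F : Type*} [Field F]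

/-- `x_s(t)` as an invertible matrix -/
def xG (h : Agrees D fd) (hc : fd.ChkAdd) (s : ℕ) (hs : s < fd.n) (t : F) : GL D.Idx F :=
  ⟨XR D F s t, XR D F s (-t), XR_mul_neg h hc s hs t, XR_neg_mul h hc s hs t⟩

/-- a diagonal matrix `Td e c` as an invertible matrix -/
def TdG (e : D.Idx → ℤ) (c : F) (hc : c ≠ 0) : GL D.Idx F :=
  ⟨Td e c, Td (-e) c, Td_mul_neg e c hc, Td_neg_mul e c hc⟩

theorem gl_ext {g g' : GL D.Idx F} (h : (g : Matrix D.Idx D.Idx F) = g') : g = g' := Units.ext h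

/-- conjugation in terms of matrices -/
theorem gl_conj_eq {g x y : GL D.Idx F}
    (h : (g : Matrix D.Idx D.Idx F) * (x : Matrix D.Idx D.Idx F) = (y : Matrix D.Idx D.Idx F) * g) :
    g * x * g⁻¹ = y := by
  have : g * x = y * g := gl_ext (by simpa using h)
  rw [this, mul_inv_cancel_right]

namespace Cert2

variable (C : Cert2 D fd fx)
include C

theorem xG_val (s : ℕ) (hs : s < fd.n) (t : F) :
    ((xG C.agrees C.chk.add s hs t : GL D.Idx F) : Matrix D.Idx D.Idx F) = D.x F s t :=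
  (x_eq_XR C.agrees s hs t).symm

theorem xG_mem_pos (s : ℕ) (hs : s < fd.n) (hpos : fd.n / 2 ≤ s) (t : F) :
    xG C.agrees C.chk.add s hs t ∈ D.posUnipotent F :=
  Subgroup.subset_closure ⟨s, t, (isPos_iff C.agrees C.lev s).mpr ⟨hs, hpos⟩, C.xG_val s hs t⟩

theorem xG_mem_neg (s : ℕ) (hs : s < fd.n) (hneg : s < fd.n / 2) (t : F) :
    xG C.agrees C.chk.add s hs t ∈ D.negUnipotent F :=
  Subgroup.subset_closure ⟨s, t, (isNeg_iff C.agrees C.lev s).mpr ⟨hneg, hs⟩, C.xG_val s hs t⟩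

theorem eq_xG (g : GL D.Idx F) (s : ℕ) (hs : s < fd.n) (t : F) (hg : (g : Matrix D.Idx D.Idx F) = D.x F s t) :
    g = xG C.agrees C.chk.add s hs t := gl_ext (by rw [hg, C.xG_val])

/-- a generator of `H` and its inverse as diagonal matrices -/
theorem hgen_val (g : GL D.Idx F) (r : ℕ) (hr : r < fd.n) (t : F) (ht : t ≠ 0)
    (hg : (g : Matrix D.Idx D.Idx F) = D.hMat F r t) : g = TdG (hExp D fd fx r) t ht :=
  gl_ext (by rw [hg, C.hMat_eq r hr t ht]; rfl)

theorem hgen_inv (g : GL D.Idx F) (r : ℕ) (hr : r < fd.n) (t : F) (ht : t ≠ 0)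
    (hg : (g : Matrix D.Idx D.Idx F) = D.hMat F r t) :
    ((g⁻¹ : GL D.Idx F) : Matrix D.Idx D.Idx F) = D.hMat F r t⁻¹ := by
  rw [C.hgen_val g r hr t ht hg, C.hMat_eq r hr t⁻¹ (inv_ne_zero ht), Td_inv]
  rfl

/-- a generator of `H` conjugates `x_s(u)` to `x_s(t^k u)` -/
theorem hgen_conj (g : GL D.Idx F) (r : ℕ) (hr : r < fd.n) (t : F) (ht : t ≠ 0)
    (hg : (g : Matrix D.Idx D.Idx F) = D.hMat F r t) (s : ℕ) (hs : s < fd.n) (u : F) :
    g * xG C.agrees C.chk.add s hs u * g⁻¹ = xG C.agrees C.chk.add s hs (t ^ (fd.pr s r) * u) := by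
  apply gl_conj_eq
  rw [hg, C.xG_val, C.xG_val]
  exact C.hMat_mul_x r s hr hs t ht u

theorem hgen_conj' (g : GL D.Idx F) (r : ℕ) (hr : r < fd.n) (t : F) (ht : t ≠ 0)
    (hg : (g : Matrix D.Idx D.Idx F) = D.hMat F r t) (s : ℕ) (hs : s < fd.n) (u : F) :
    g⁻¹ * xG C.agrees C.chk.add s hs u * g = xG C.agrees C.chk.add s hs (t⁻¹ ^ (fd.pr s r) * u) := by
  have := C.hgen_conj g⁻¹ r hr t⁻¹ (inv_ne_zero ht) (C.hgen_inv g r hr t ht hg) s hs u
  rwa [inv_inv] at this

/-- `H` normalises `U` -/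
theorem diag_le_normalizer_pos :
    D.diagonalSubgroup F ≤ Subgroup.normalizer (D.posUnipotent F : Set (GL D.Idx F)) := by
  unfold ChevalleyDatum.diagonalSubgroup
  rw [Subgroup.closure_le]
  rintro g ⟨r, t, hr, ht, hg⟩
  have hr' : r < fd.n := by rw [← C.nroots_eq]; exact hr
  unfold ChevalleyDatum.posUnipotent
  apply mem_normalizer_closure
  · rintro x ⟨s, u, hs, hx⟩
    obtain ⟨hs1, hs2⟩ := (isPos_iff C.agrees C.lev s).mp hs
    rw [C.eq_xG x s hs1 u hx, C.hgen_conj g r hr' t ht hg]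
    exact C.xG_mem_pos s hs1 hs2 _
  · rintro x ⟨s, u, hs, hx⟩
    obtain ⟨hs1, hs2⟩ := (isPos_iff C.agrees C.lev s).mp hs
    rw [C.eq_xG x s hs1 u hx, C.hgen_conj' g r hr' t ht hg]
    exact C.xG_mem_pos s hs1 hs2 _

/-- `H` normalises `V` -/
theorem diag_le_normalizer_neg :
    D.diagonalSubgroup F ≤ Subgroup.normalizer (D.negUnipotent F : Set (GL D.Idx F)) := by
  unfold ChevalleyDatum.diagonalSubgroup
  rw [Subgroup.closure_le]
  rintro g ⟨r, t, hr, ht, hg⟩
  have hr' : r < fd.n := by rw [← C.nroots_eq]; exact hr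
  unfold ChevalleyDatum.negUnipotent
  apply mem_normalizer_closure
  · rintro x ⟨s, u, hs, hx⟩
    obtain ⟨hs1, hs2⟩ := (isNeg_iff C.agrees C.lev s).mp hs
    rw [C.eq_xG x s hs2 u hx, C.hgen_conj g r hr' t ht hg]
    exact C.xG_mem_neg s hs2 hs1 _
  · rintro x ⟨s, u, hs, hx⟩
    obtain ⟨hs1, hs2⟩ := (isNeg_iff C.agrees C.lev s).mp hs
    rw [C.eq_xG x s hs2 u hx, C.hgen_conj' g r hr' t ht hg]
    exact C.xG_mem_neg s hs2 hs1 _

/-- the elements of `H` are diagonal matrices with non-zero diagonal entries -/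
theorem diag_isDiag (g : GL D.Idx F) (hg : g ∈ D.diagonalSubgroup F) :
    ∀ a b, a ≠ b → (g : Matrix D.Idx D.Idx F) a b = 0 := by
  unfold ChevalleyDatum.diagonalSubgroup at hg
  induction hg using Subgroup.closure_induction with
  | mem x hx =>
    obtain ⟨r, t, hr, ht, hx⟩ := hx
    have hr' : r < fd.n := by rw [← C.nroots_eq]; exact hr
    intro a b hab
    rw [hx, C.hMat_eq r hr' t ht, Td_apply, if_neg hab]
  | one => intro a b hab; simp [hab]
  | mul x y _ _ hx hy =>
    intro a b hab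
    rw [Units.val_mul, Matrix.mul_apply]
    apply Finset.sum_eq_zero
    intro k _
    by_cases hak : a = k
    · subst hak; rw [hy a b hab, mul_zero]
    · rw [hx a k hak, zero_mul]
  | inv x _ hx =>
    intro a b hab
    -- x * x⁻¹ = 1 and x diagonal
    have h1 : (x : Matrix D.Idx D.Idx F) * ((x⁻¹ : GL D.Idx F) : Matrix D.Idx D.Idx F) = 1 := by
      rw [← Units.val_mul, mul_inv_cancel]; rfl
    have e1 : ∀ c, ((x : Matrix D.Idx D.Idx F) * ((x⁻¹ : GL D.Idx F) : Matrix D.Idx D.Idx F)) a c =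
        (x : Matrix D.Idx D.Idx F) a a * ((x⁻¹ : GL D.Idx F) : Matrix D.Idx D.Idx F) a c := by
      intro c
      rw [Matrix.mul_apply, Finset.sum_eq_single a]
      · intro k _ hka; rw [hx a k (Ne.symm hka), zero_mul]
      · intro h; exact absurd (Finset.mem_univ _) h
    have e2 := e1 a
    rw [h1, Matrix.one_apply_eq] at e2
    have hne : (x : Matrix D.Idx D.Idx F) a a ≠ 0 := by
      intro h0; rw [h0, zero_mul] at e2; exact one_ne_zero e2
    have e3 := e1 b
    rw [h1, Matrix.one_apply_ne hab] at e3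
    rcases mul_eq_zero.mp e3.symm with h0 | h0
    · exact absurd h0 hne
    · exact h0

/-- `U ∩ H = 1` -/
theorem pos_inf_diag : D.posUnipotent F ⊓ D.diagonalSubgroup F = ⊥ := by
  rw [eq_bot_iff]
  rintro g ⟨hu, hh⟩
  rw [Subgroup.mem_bot]
  have h1 : IsUp (lvD D fd) 1 ((g : Matrix D.Idx D.Idx F) - 1) := posUnipotent_le C.agrees C.lev hu
  have h2 := C.diag_isDiag g hh
  apply gl_ext
  ext a b
  by_cases hab : a = b
  · subst hab
    by_contra hne
    have : ((g : Matrix D.Idx D.Idx F) - 1) a a ≠ 0 := by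
      rw [Matrix.sub_apply]; intro h0; apply hne; rw [sub_eq_zero] at h0; exact h0
    have := h1 a a this
    omega
  · rw [h2 a b hab]; simp [hab]

end Cert2

end Cfsg.Agent.Lib.H29.Chev
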