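import Mathlib
import Cfsg.Prelude.Def_ChevStructure
import Cfsg.Agent.Lib.H29.ChevGen8

/-!
# The subgroup `B = UH` of a Chevalley group
-/

set_option autoImplicit false
set_option linter.unusedSectionVars false
set_option linter.unusedSimpArgs false
set_option linter.unusedVariables false

namespace Cfsg.Agent.Lib.H29.Chev

open Cfsg.Lie Matrix
open scoped commutatorElement

/-- a group with a nilpotent subgroup containing all commutators is solvable -/
theorem solv_aux {G : Type*} [Group G] (B U : Subgroup G) (hUB : U ≤ B) [Group.IsNilpotent U]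
    (hc : ∀ b₁ ∈ B, ∀ b₂ ∈ B, ⁅b₁, b₂⁆ ∈ U) : Group.IsSolvable B := by
  have s1 : Group.IsSolvable (U.subgroupOf B) :=
    Group.isSolvable_of_isSolvable_injective (f := (Subgroup.subgroupOfEquivOfLe hUB).toMonoidHom)
      (Subgroup.subgroupOfEquivOfLe hUB).injective
  have hker : (Abelianization.of (G := B)).ker ≤ (U.subgroupOf B).subtype.range := by
    rw [Abelianization.ker_of, Subgroup.range_subtype, commutator_def, Subgroup.commutator_le]
    intro g₁ _ g₂ _
    rw [Subgroup.mem_subgroupOf]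
    exact hc g₁ g₁.2 g₂ g₂.2
  exact Group.isSolvable_of_ker_le_range (U.subgroupOf B).subtype (Abelianization.of (G := B)) hker

variable {D : ChevalleyDatum} {fd : FD} {fx : FX} {F : Type*} [Field F]

namespace Cert2

variable (C : Cert2 D fd fx)
include C

/-- the elements of `B` are products `u h` -/
theorem borel_mem (b : GL D.Idx F) (hb : b ∈ D.borelSubgroup F) :
    ∃ u ∈ D.posUnipotent F, ∃ h ∈ D.diagonalSubgroup F, u * h = b := by
  have := Subgroup.coe_mul_of_right_le_normalizer_left (D.posUnipotent F) (D.diagonalSubgroup F)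
    C.diag_le_normalizer_pos
  have hb' : b ∈ ((D.posUnipotent F ⊔ D.diagonalSubgroup F : Subgroup _) : Set (GL D.Idx F)) := hb
  rw [this] at hb'
  exact Set.mem_mul.mp hb'

/-- the elements of `V H` are products `v h` -/
theorem negdiag_mem (b : GL D.Idx F) (hb : b ∈ D.negUnipotent F ⊔ D.diagonalSubgroup F) :
    ∃ v ∈ D.negUnipotent F, ∃ h ∈ D.diagonalSubgroup F, v * h = b := by
  have := Subgroup.coe_mul_of_right_le_normalizer_left (D.negUnipotent F) (D.diagonalSubgroup F)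
    C.diag_le_normalizer_neg
  have hb' : b ∈ ((D.negUnipotent F ⊔ D.diagonalSubgroup F : Subgroup _) : Set (GL D.Idx F)) := hb
  rw [this] at hb'
  exact Set.mem_mul.mp hb'

/-- `B ∩ V = 1` -/
theorem borel_inf_neg : D.borelSubgroup F ⊓ D.negUnipotent F = ⊥ := by
  rw [eq_bot_iff]
  rintro g ⟨hb, hv⟩
  rw [Subgroup.mem_bot]
  obtain ⟨u, hu, h, hh, rfl⟩ := C.borel_mem g hb
  have h1 : IsUp (lvD D fd) 1 ((u : Matrix D.Idx D.Idx F) - 1) := posUnipotent_le C.agrees C.lev hu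
  have h2 := C.diag_isDiag h hh
  have h3 : IsUp (lvN D fd) 1 (((u * h : GL D.Idx F) : Matrix D.Idx D.Idx F) - 1) :=
    negUnipotent_le C.agrees C.lev hv
  have ent : ∀ a c, ((u * h : GL D.Idx F) : Matrix D.Idx D.Idx F) a c =
      (u : Matrix D.Idx D.Idx F) a c * (h : Matrix D.Idx D.Idx F) c c := by
    intro a c
    rw [Units.val_mul, Matrix.mul_apply, Finset.sum_eq_single c]
    · intro k _ hkc; rw [h2 k c hkc, mul_zero]
    · intro hc; exact absurd (Finset.mem_univ _) hc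
  apply gl_ext
  ext a c
  by_cases hac : a = c
  · subst hac
    by_contra hne
    have : (((u * h : GL D.Idx F) : Matrix D.Idx D.Idx F) - 1) a a ≠ 0 := by
      rw [Matrix.sub_apply]; intro h0; apply hne; rw [sub_eq_zero] at h0; exact h0
    have := h3 a a this
    omega
  · rw [show ((1 : GL D.Idx F) : Matrix D.Idx D.Idx F) a c = 0 by simp [hac]]
    by_contra hne
    have n1 : (((u * h : GL D.Idx F) : Matrix D.Idx D.Idx F) - 1) a c ≠ 0 := by
      rw [Matrix.sub_apply, Matrix.one_apply_ne hac, sub_zero]; exact hne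
    have l1 := h3 a c n1
    have n2 : ((u : Matrix D.Idx D.Idx F) - 1) a c ≠ 0 := by
      rw [Matrix.sub_apply, Matrix.one_apply_ne hac, sub_zero]
      intro h0; apply hne; rw [ent, h0, zero_mul]
    have l2 := h1 a c n2
    have b1 := lvD_le C.agrees a
    have b2 := lvD_le C.agrees c
    unfold lvN at l1
    unfold lvD at l2 b1 b2
    omega

/-- `B ∩ V H = H` -/
theorem borel_inf_negdiag :
    D.borelSubgroup F ⊓ (D.negUnipotent F ⊔ D.diagonalSubgroup F) = D.diagonalSubgroup F := by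
  apply le_antisymm
  · rintro g ⟨hb0, hvh⟩
    obtain ⟨v, hv, h, hh, rfl⟩ := C.negdiag_mem g hvh
    have hb : v * h ∈ D.borelSubgroup F := hb0
    have hhb : h ∈ D.borelSubgroup F := (le_sup_right : D.diagonalSubgroup F ≤ _) hh
    have hvb : v ∈ D.borelSubgroup F := by
      have := mul_mem hb (inv_mem hhb)
      rwa [mul_inv_cancel_right] at this
    have : v ∈ D.borelSubgroup F ⊓ D.negUnipotent F := ⟨hvb, hv⟩
    rw [C.borel_inf_neg, Subgroup.mem_bot] at this
    rw [this, one_mul]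
    exact hh
  · exact le_inf le_sup_right le_sup_right

/-- `H` is commutative -/
theorem diag_comm (g g' : GL D.Idx F) (hg : g ∈ D.diagonalSubgroup F) (hg' : g' ∈ D.diagonalSubgroup F) :
    g * g' = g' * g := by
  have h1 := C.diag_isDiag g hg
  have h2 := C.diag_isDiag g' hg'
  apply gl_ext
  ext a b
  rw [Units.val_mul, Units.val_mul, Matrix.mul_apply, Matrix.mul_apply, Finset.sum_eq_single a,
    Finset.sum_eq_single a]
  · by_cases hab : a = b
    · subst hab; exact mul_comm _ _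
    · rw [h1 a b hab, h2 a b hab]; simp
  · intro k _ hka; rw [h2 a k (Ne.symm hka), zero_mul]
  · intro h; exact absurd (Finset.mem_univ _) h
  · intro k _ hka; rw [h1 a k (Ne.symm hka), zero_mul]
  · intro h; exact absurd (Finset.mem_univ _) h

/-- commutators of elements of `B` lie in `U` -/
theorem borel_comm_mem (b₁ b₂ : GL D.Idx F) (h₁ : b₁ ∈ D.borelSubgroup F) (h₂ : b₂ ∈ D.borelSubgroup F) :
    ⁅b₁, b₂⁆ ∈ D.posUnipotent F := by
  obtain ⟨u₁, hu₁, k₁, hk₁, rfl⟩ := C.borel_mem b₁ h₁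
  obtain ⟨u₂, hu₂, k₂, hk₂, rfl⟩ := C.borel_mem b₂ h₂
  have e : k₂ * k₁⁻¹ = k₁⁻¹ * k₂ := by
    have := C.diag_comm k₁ k₂ hk₁ hk₂
    calc k₂ * k₁⁻¹ = k₁⁻¹ * (k₁ * k₂) * k₁⁻¹ := by group
      _ = k₁⁻¹ * (k₂ * k₁) * k₁⁻¹ := by rw [this]
      _ = k₁⁻¹ * k₂ := by group
  have key : ⁅u₁ * k₁, u₂ * k₂⁆ = u₁ * (k₁ * u₂ * k₁⁻¹) * (k₂ * u₁⁻¹ * k₂⁻¹) * u₂⁻¹ := by
    rw [commutatorElement_def]
    calc u₁ * k₁ * (u₂ * k₂) * (u₁ * k₁)⁻¹ * (u₂ * k₂)⁻¹
        = u₁ * k₁ * u₂ * (k₂ * k₁⁻¹) * u₁⁻¹ * k₂⁻¹ * u₂⁻¹ := by group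
      _ = u₁ * k₁ * u₂ * (k₁⁻¹ * k₂) * u₁⁻¹ * k₂⁻¹ * u₂⁻¹ := by rw [e]
      _ = _ := by group
  rw [key]
  have n1 : k₁ * u₂ * k₁⁻¹ ∈ D.posUnipotent F :=
    ((Subgroup.mem_normalizer_iff.mp (C.diag_le_normalizer_pos hk₁)) u₂).mp hu₂
  have n2 : k₂ * u₁⁻¹ * k₂⁻¹ ∈ D.posUnipotent F :=
    ((Subgroup.mem_normalizer_iff.mp (C.diag_le_normalizer_pos hk₂)) u₁⁻¹).mp (inv_mem hu₁)
  exact mul_mem (mul_mem (mul_mem hu₁ n1) n2) (inv_mem hu₂)

/-- `B` is solvable -/
theorem borel_solvable : Group.IsSolvable (D.borelSubgroup F) := by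
  haveI : Group.IsNilpotent (D.posUnipotent F) := posUnipotent_nilpotent C.agrees C.lev
  exact solv_aux (D.borelSubgroup F) (D.posUnipotent F) le_sup_left
    (fun b₁ h₁ b₂ h₂ => C.borel_comm_mem b₁ b₂ h₁ h₂)

end Cert2

end Cfsg.Agent.Lib.H29.Chev
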