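import Mathlib
import Cfsg.Prelude.Def_ChevStructure
import Cfsg.Agent.Lib.H29.ChevGen9

/-!
# The elements `n_r` of a Chevalley group: action on `H`, explicit matrices for fundamental roots
-/

set_option autoImplicit false
set_option linter.unusedSectionVars false
set_option linter.unusedSimpArgs false
set_option linter.unusedVariables false

namespace Cfsg.Agent.Lib.H29.Chev

open Cfsg.Lie Matrix

variable {D : ChevalleyDatum} {fd : FD} {fx : FX} {F : Type*} [Field F]

/-- the diagonal matrix of a difference of functionals -/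
theorem Td_om_sub (a b : ℕ → ℤ) (k : ℤ) (c : F) (hc : c ≠ 0) :
    Td (fun i : D.Idx => fd.om fx (fun j => a j - k * b j) (code D i)) c =
      Td (fun i : D.Idx => fd.om fx a (code D i)) c * Td (fun i : D.Idx => fd.om fx b (code D i)) (c ^ (-k)) := by
  unfold Td
  rw [Matrix.diagonal_mul_diagonal]
  congr 1
  funext i
  beta_reduce
  rw [fd.om_sub_smul, ← _root_.zpow_mul, ← zpow_add₀ hc]
  congr 1
  ring

namespace Cert2

variable (C : Cert2 D fd fx)
include C

/-- `n_r` as an invertible matrix -/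
noncomputable def nG (r : ℕ) (hr : r < fd.n) : GL D.Idx F :=
  xG C.agrees C.chk.add r hr 1 * xG C.agrees C.chk.add (fd.n - 1 - r) (by omega) (-1) * xG C.agrees C.chk.add r hr 1

theorem nG_val (r : ℕ) (hr : r < fd.n) :
    ((C.nG (F := F) r hr : GL D.Idx F) : Matrix D.Idx D.Idx F) = nF D fd fx F r := by
  rw [nF_eq C.agrees C.chk.add C.chk.pref C.chk.nn r hr]
  rfl

theorem nG_val' (r : ℕ) (hr : r < fd.n) :
    ((C.nG (F := F) r hr : GL D.Idx F) : Matrix D.Idx D.Idx F) = D.nMat F r 1 := by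
  rw [nMat_one C.agrees C.chk.add C.chk.pref C.chk.nn r hr, C.nG_val]

theorem eq_nG (g : GL D.Idx F) (r : ℕ) (hr : r < fd.n) (hg : (g : Matrix D.Idx D.Idx F) = D.nMat F r 1) :
    g = C.nG r hr := gl_ext (by rw [hg, C.nG_val'])

/-- `h_s(c)` as an invertible matrix, a member of `H` -/
theorem TdG_mem (s : ℕ) (hs : s < fd.n) (c : F) (hc : c ≠ 0) :
    TdG (hExp D fd fx s) c hc ∈ D.diagonalSubgroup F :=
  Subgroup.subset_closure ⟨s, c, by rw [C.nroots_eq]; exact hs, hc, (C.hMat_eq s hs c hc).symm⟩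

theorem pr_self (r : ℕ) (hr : r < fd.n) : fd.pr r r = 2 := (fd.lin_spec C.chk.lin r hr).2.2

/-- `n_r h_s(c) n_r⁻¹ = h_s(c) h_r(c^{-⟨r, s^∨⟩})`, and the same for `n_r⁻¹` -/
theorem nG_conj_h (r s : ℕ) (hr : r < fd.n) (hs : s < fd.n) (c : F) (hc : c ≠ 0) :
    C.nG r hr * TdG (hExp D fd fx s) c hc * (C.nG r hr)⁻¹ =
      TdG (hExp D fd fx s) c hc * TdG (hExp D fd fx r) (c ^ (- fd.pr r s)) (zpow_ne_zero _ hc) ∧
    (C.nG r hr)⁻¹ * TdG (hExp D fd fx s) c hc * C.nG r hr =
      TdG (hExp D fd fx s) c hc * TdG (hExp D fd fx r) (c ^ (- fd.pr r s)) (zpow_ne_zero _ hc) := by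
  have k1 : fd.omr fx (fd.prs s) r = fd.pr r s := (fd.pr_lin C.chk.lin r s hr).symm
  have k2 : fd.omr fx (fd.prs r) r = 2 := by rw [← fd.pr_lin C.chk.lin r r hr, C.pr_self r hr]
  -- the matrix of the right-hand side
  have rhs : ((TdG (hExp D fd fx s) c hc * TdG (hExp D fd fx r) (c ^ (- fd.pr r s)) (zpow_ne_zero _ hc) :
      GL D.Idx F) : Matrix D.Idx D.Idx F) =
      Td (fun i : D.Idx => fd.om fx (fun j => fd.prs s j - fd.pr r s * fd.prs r j) (code D i)) c := by
    rw [Td_om_sub _ _ _ c hc]; rfl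
  constructor
  · apply gl_conj_eq
    rw [rhs, C.nG_val]
    have := nF_Td (F := F) C.agrees C.chk.lin C.chk.nn r hr (fd.prs s) c
    rw [k1] at this
    exact this.symm
  · -- `n_r⁻¹ x n_r = y` follows from `x n_r = n_r y`
    have key : TdG (hExp D fd fx s) c hc * C.nG r hr =
        C.nG r hr * (TdG (hExp D fd fx s) c hc * TdG (hExp D fd fx r) (c ^ (- fd.pr r s)) (zpow_ne_zero _ hc)) := by
      apply gl_ext
      rw [Units.val_mul, Units.val_mul, rhs, C.nG_val]
      have := nF_Td (F := F) C.agrees C.chk.lin C.chk.nn r hr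
        (fun j => fd.prs s j - fd.pr r s * fd.prs r j) c
      rw [fd.omr_sub_smul, k1, k2] at this
      have e : (fun j => fd.prs s j - fd.pr r s * fd.prs r j - (fd.pr r s - fd.pr r s * 2) * fd.prs r j) =
          fd.prs s := by
        funext j; ring
      rw [e] at this
      exact this
    rw [mul_assoc, key, inv_mul_cancel_left]

/-- `n_r` normalises `H` -/
theorem nG_mem_normalizer (r : ℕ) (hr : r < fd.n) :
    C.nG (F := F) r hr ∈ Subgroup.normalizer (D.diagonalSubgroup F : Set (GL D.Idx F)) := by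
  unfold ChevalleyDatum.diagonalSubgroup
  apply mem_normalizer_closure
  · rintro x ⟨s, c, hs, hc, hx⟩
    have hs' : s < fd.n := by rw [← C.nroots_eq]; exact hs
    rw [C.hgen_val x s hs' c hc hx, (C.nG_conj_h r s hr hs' c hc).1]
    exact mul_mem (C.TdG_mem s hs' c hc) (C.TdG_mem r hr _ _)
  · rintro x ⟨s, c, hs, hc, hx⟩
    have hs' : s < fd.n := by rw [← C.nroots_eq]; exact hs
    rw [C.hgen_val x s hs' c hc hx, (C.nG_conj_h r s hr hs' c hc).2]
    exact mul_mem (C.TdG_mem s hs' c hc) (C.TdG_mem r hr _ _)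

/-- `H` is normal in `N` -/
theorem diag_normal_monomial : ((D.diagonalSubgroup F).subgroupOf (D.monomialSubgroup F)).Normal := by
  have hle : D.diagonalSubgroup F ≤ D.monomialSubgroup F := le_sup_left
  rw [Subgroup.normal_subgroupOf_iff_le_normalizer hle]
  unfold ChevalleyDatum.monomialSubgroup
  apply sup_le
  · exact Subgroup.le_normalizer
  · rw [Subgroup.closure_le]
    rintro g ⟨r, hr, hg⟩
    have hr' : r < fd.n := by rw [← C.nroots_eq]; exact hr
    rw [C.eq_nG g r hr' hg]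
    exact C.nG_mem_normalizer r hr'

/-- the coroot functional of a reflected root, for a fundamental reflection -/
theorem prs_nw_simple (i s : ℕ) (hi : i < fd.l) (hs : s < fd.n) :
    fd.prs (fd.nw fx (fd.simples.getD i 0) s) =
      fun j => fd.prs s j - fd.pr (fd.simples.getD i 0) s * fd.prs (fd.simples.getD i 0) j := by
  funext j
  obtain ⟨_, _, _, _, _, h6⟩ := fd.sim_spec C.sim i s hi hs
  generalize fd.pr (fd.simples.getD i 0) s = P at h6 ⊢
  unfold FD.prs FD.pr
  rw [listsum_eq, listsum_eq, listsum_eq, Finset.mul_sum, ← Finset.sum_sub_distrib]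
  apply Finset.sum_congr rfl
  intro k hk
  rw [h6 k (Finset.mem_range.mp hk)]
  ring

/-- `n_{p_i} h_s(t) = h_{w_i s}(t) n_{p_i}` -/
theorem nMat_mul_hMat (i s : ℕ) (hi : i < fd.l) (hs : s < fd.n) (t : F) (ht : t ≠ 0) :
    D.nMat F (fd.simples.getD i 0) 1 * D.hMat F s t =
      D.hMat F (fd.nw fx (fd.simples.getD i 0) s) t * D.nMat F (fd.simples.getD i 0) 1 := by
  have hp := C.simple_lt i hi
  have hs' : fd.nw fx (fd.simples.getD i 0) s < fd.n := (fd.nw_spec C.chk.nn _ s hp hs).1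
  rw [nMat_one C.agrees C.chk.add C.chk.pref C.chk.nn _ hp, C.hMat_eq s hs t ht, C.hMat_eq _ hs' t ht]
  have := nF_Td (F := F) C.agrees C.chk.lin C.chk.nn _ hp (fd.prs s) t
  rw [← fd.pr_lin C.chk.lin _ s hp] at this
  unfold hExp
  rw [C.prs_nw_simple i s hi hs]
  exact this.symm

end Cert2

end Cfsg.Agent.Lib.H29.Chev
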