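import Mathlib
import Cfsg.Prelude.Def_ChevStructure
import Cfsg.Agent.Lib.H29.ChevGen10

/-!
# The elements of `H` as products of the `h_{p_i}(c_i)`
-/

set_option autoImplicit false
set_option linter.unusedSectionVars false
set_option linter.unusedSimpArgs false
set_option linter.unusedVariables false

namespace Cfsg.Agent.Lib.H29.Chev

open Cfsg.Lie Matrix

variable {D : ChevalleyDatum} {fd : FD} {fx : FX} {F : Type*} [Field F]

theorem wordMat_append (w₁ w₂ : List (ℕ × F)) :
    D.wordMat F (w₁ ++ w₂) = D.wordMat F w₁ * D.wordMat F w₂ := by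
  unfold ChevalleyDatum.wordMat
  rw [List.map_append, List.prod_append]

theorem wordMat_flatMap {α : Type*} (L : List α) (f : α → List (ℕ × F)) :
    D.wordMat F (L.flatMap f) = (L.map fun i => D.wordMat F (f i)).prod := by
  induction L with
  | nil => simp [ChevalleyDatum.wordMat]
  | cons a L ih => rw [List.flatMap_cons, wordMat_append, ih, List.map_cons, List.prod_cons]

/-- the diagonal matrix `∏_i h_{p_i}(c_i)` -/
def Dg (D : ChevalleyDatum) (fd : FD) (fx : FX) (c : ℕ → F) : Matrix D.Idx D.Idx F :=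
  Matrix.diagonal fun a => ∏ i ∈ Finset.range fd.l, c i ^ hExp D fd fx (fd.simples.getD i 0) a

theorem prod_Td_range (m : ℕ) (e : ℕ → D.Idx → ℤ) (c : ℕ → F) :
    ((List.range m).map fun i => Td (e i) (c i)).prod =
      Matrix.diagonal fun a => ∏ i ∈ Finset.range m, c i ^ e i a := by
  induction m with
  | zero => simp
  | succ m ih =>
    rw [List.range_succ, List.map_append, List.prod_append, ih]
    simp only [List.map_cons, List.map_nil, List.prod_cons, List.prod_nil, mul_one]
    unfold Td
    rw [Matrix.diagonal_mul_diagonal]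
    congr 1
    funext a
    rw [Finset.prod_range_succ]

theorem Dg_mul (c c' : ℕ → F) : Dg D fd fx c * Dg D fd fx c' = Dg D fd fx (fun i => c i * c' i) := by
  unfold Dg
  rw [Matrix.diagonal_mul_diagonal]
  congr 1
  funext a
  rw [← Finset.prod_mul_distrib]
  apply Finset.prod_congr rfl
  intro i _
  rw [mul_zpow]

theorem zpow_finsum (t : F) (ht : t ≠ 0) (s : Finset ℕ) (f : ℕ → ℤ) :
    t ^ (∑ i ∈ s, f i) = ∏ i ∈ s, t ^ f i := by
  classical
  induction s using Finset.induction_on with
  | empty => simp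
  | insert a s ha ih => rw [Finset.sum_insert ha, Finset.prod_insert ha, zpow_add₀ ht, ih]

theorem Dg_one : Dg D fd fx (fun _ => (1 : F)) = 1 := by
  unfold Dg
  simp

namespace Cert2

variable (C : Cert2 D fd fx)
include C

/-- the word of the statement has the matrix `Dg c` -/
theorem wordMat_hWords (c : ℕ → F) (hc : ∀ i < fd.l, c i ≠ 0) :
    D.wordMat F ((List.range D.rank).flatMap fun i => D.hWord (D.simple i) (c i)) = Dg D fd fx c := by
  have e : List.range D.rank = List.range fd.l := by rw [C.rank_eq]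
  rw [wordMat_flatMap, e]
  have : ((List.range fd.l).map fun i => D.wordMat F (D.hWord (D.simple i) (c i))) =
      (List.range fd.l).map fun i => Td (hExp D fd fx (fd.simples.getD i 0)) (c i) := by
    apply List.map_congr_left
    intro i hi
    have hi' := List.mem_range.mp hi
    rw [← C.hMat_eq _ (C.simple_lt i hi') (c i) (hc i hi'), C.agrees.simple_eq]
    rfl
  rw [this, prod_Td_range]
  rfl

/-- the exponents of `h_r` in terms of those of the `h_{p_i}` -/
theorem hExp_eq_sum (r : ℕ) (hr : r < fd.n) (a : D.Idx) :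
    hExp D fd fx r a = ∑ i ∈ Finset.range fd.l, fd.corZ r i * hExp D fd fx (fd.simples.getD i 0) a := by
  rcases a with j | s
  · rw [C.hExp_inl]
    symm
    apply Finset.sum_eq_zero
    intro i _
    rw [C.hExp_inl, mul_zero]
  · rw [C.hExp_inr]
    unfold FD.pr
    rw [listsum_eq]
    apply Finset.sum_congr rfl
    intro i hi
    rw [C.hExp_inr, C.pr_simple i _ (Finset.mem_range.mp hi)]

theorem Td_eq_Dg (r : ℕ) (hr : r < fd.n) (t : F) (ht : t ≠ 0) :
    Td (hExp D fd fx r) t = Dg D fd fx (fun i => t ^ fd.corZ r i) := by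
  unfold Td Dg
  congr 1
  funext a
  rw [C.hExp_eq_sum r hr a, zpow_finsum t ht]
  apply Finset.prod_congr rfl
  intro i _
  rw [_root_.zpow_mul]

/-- every element of `H` has the form `∏_i h_{p_i}(c_i)` -/
theorem diag_form (g : GL D.Idx F) (hg : g ∈ D.diagonalSubgroup F) :
    ∃ c : ℕ → F, (∀ i, c i ≠ 0) ∧ (g : Matrix D.Idx D.Idx F) = Dg D fd fx c := by
  unfold ChevalleyDatum.diagonalSubgroup at hg
  induction hg using Subgroup.closure_induction with
  | mem x hx =>
    obtain ⟨r, t, hr, ht, hx⟩ := hx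
    have hr' : r < fd.n := by rw [← C.nroots_eq]; exact hr
    exact ⟨fun i => t ^ fd.corZ r i, fun i => zpow_ne_zero _ ht,
      by rw [hx, C.hMat_eq r hr' t ht, C.Td_eq_Dg r hr' t ht]⟩
  | one => exact ⟨fun _ => 1, fun _ => one_ne_zero, by rw [Dg_one]; rfl⟩
  | mul x y _ _ hx hy =>
    obtain ⟨c, hc, hx⟩ := hx
    obtain ⟨c', hc', hy⟩ := hy
    exact ⟨fun i => c i * c' i, fun i => mul_ne_zero (hc i) (hc' i), by rw [Units.val_mul, hx, hy, Dg_mul]⟩
  | inv x _ hx =>
    obtain ⟨c, hc, hx⟩ := hx
    refine ⟨fun i => (c i)⁻¹, fun i => inv_ne_zero (hc i), ?_⟩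
    apply Units.inv_eq_of_mul_eq_one_right
    rw [hx, Dg_mul]
    have : (fun i => c i * (c i)⁻¹) = fun _ => (1 : F) := by
      funext i; exact mul_inv_cancel₀ (hc i)
    rw [this, Dg_one]

end Cert2

end Cfsg.Agent.Lib.H29.Chev
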