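import Mathlib
import Cfsg.Prelude.Def_ChevStructure
import Cfsg.Agent.Lib.H29.ChevFast5

/-!
# Checks about the fundamental reflections and the positive roots

For the `i`-th fundamental root `p`: the reflection `w_p` is an involution of the set of roots commuting with negation,
it permutes the positive roots other than `p`, and the terms of the commutator formula for the pairs `(p, s)` and
`(-p, s)`, `s` a positive root other than `p`, are positive roots other than `p`.
-/

set_option autoImplicit false
set_option linter.unusedSectionVars false
set_option linter.unusedSimpArgs false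

namespace Cfsg.Agent.Lib.H29.Chev

open Cfsg.Lie Matrix

namespace FD

variable (fd : FD) (fx : FX)

/-- `x` is a positive root other than `p` -/
def posne (p x : ℕ) : Bool := Nat.blt x fd.n && !(Nat.blt x (fd.n / 2)) && !(Nat.beq x p)

def chkUpI (i : ℕ) : Bool :=
  (List.range fd.n).all fun s =>
    Nat.beq (fd.nw fx (fd.simples.getD i 0) (fd.n - 1 - s)) (fd.n - 1 - fd.nw fx (fd.simples.getD i 0) s) &&
    Nat.beq (fd.nw fx (fd.simples.getD i 0) (fd.nw fx (fd.simples.getD i 0) s)) s &&
    (Nat.blt s (fd.n / 2) || Nat.beq s (fd.simples.getD i 0) ||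
      (fd.posne (fd.simples.getD i 0) (fd.nw fx (fd.simples.getD i 0) s) &&
        ((fd.commT (fd.simples.getD i 0) s).all fun c => fd.posne (fd.simples.getD i 0) c.1) &&
        ((fd.commT (fd.n - 1 - fd.simples.getD i 0) s).all fun c => fd.posne (fd.simples.getD i 0) c.1)))

def ChkUp : Prop := ∀ i < fd.l, fd.chkUpI fx i = true

end FD

end Cfsg.Agent.Lib.H29.Chev
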