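import Mathlib
import Cfsg.Prelude.Def_ChevStructure
import Cfsg.Agent.Lib.H29.ChevGen10

/-!
# The Chevalley group is generated by `B` and `N`; conjugation of root elements by fundamental `n_p`
-/

set_option autoImplicit false
set_option linter.unusedSectionVars false
set_option linter.unusedSimpArgs false
set_option linter.unusedVariables false

namespace Cfsg.Agent.Lib.H29.Chev

open Cfsg.Lie Matrix

variable {D : ChevalleyDatum} {fd : FD} {fx : FX} {F : Type*} [Field F]

namespace Cert2

variable (C : Cert2 D fd fx)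
include C

/-- `x_s(t)` as an invertible matrix, for every index `s` (the identity if out of range) -/
noncomputable def xA (s : ℕ) (t : F) : GL D.Idx F :=
  if hs : s < fd.n then xG C.agrees C.chk.add s hs t else 1

theorem xA_of_lt (s : ℕ) (hs : s < fd.n) (t : F) : C.xA s t = xG C.agrees C.chk.add s hs t := by
  unfold xA; rw [dif_pos hs]

theorem xA_val (s : ℕ) (t : F) : ((C.xA s t : GL D.Idx F) : Matrix D.Idx D.Idx F) = D.x F s t := by
  unfold xA
  by_cases hs : s < fd.n
  · rw [dif_pos hs, C.xG_val]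
  · rw [dif_neg hs]
    unfold ChevalleyDatum.x
    rw [dif_neg (by rw [C.nroots_eq]; exact hs)]
    rfl

theorem xA_mem_group (s : ℕ) (t : F) : C.xA s t ∈ D.group F := by
  by_cases hs : s < fd.n
  · have hs' : s < D.nroots := by rw [C.nroots_eq]; exact hs
    apply Subgroup.subset_closure
    refine ⟨⟨s, hs'⟩, t, ?_⟩
    rw [C.xA_val]
    unfold ChevalleyDatum.x
    rw [dif_pos hs']
  · unfold xA; rw [dif_neg hs]; exact one_mem _

/-- a word in root elements as an invertible matrix -/
noncomputable def wordG (w : List (ℕ × F)) : GL D.Idx F := (w.map fun p => C.xA p.1 p.2).prod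

theorem wordG_val (w : List (ℕ × F)) :
    ((C.wordG w : GL D.Idx F) : Matrix D.Idx D.Idx F) = D.wordMat F w := by
  unfold wordG ChevalleyDatum.wordMat
  induction w with
  | nil => simp
  | cons p w ih => rw [List.map_cons, List.prod_cons, Units.val_mul, ih, C.xA_val, List.map_cons, List.prod_cons]

theorem wordG_mem (w : List (ℕ × F)) : C.wordG w ∈ D.group F := by
  unfold wordG
  apply Subgroup.list_prod_mem
  intro x hx
  obtain ⟨p, _, rfl⟩ := List.mem_map.mp hx
  exact C.xA_mem_group p.1 p.2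

theorem mem_group_of_word (g : GL D.Idx F) (w : List (ℕ × F))
    (hg : (g : Matrix D.Idx D.Idx F) = D.wordMat F w) : g ∈ D.group F := by
  have : g = C.wordG w := gl_ext (by rw [hg, C.wordG_val])
  rw [this]; exact C.wordG_mem w

theorem pos_le_group : D.posUnipotent F ≤ D.group F := by
  unfold ChevalleyDatum.posUnipotent
  rw [Subgroup.closure_le]
  rintro g ⟨r, t, _, hg⟩
  have : g = C.xA r t := gl_ext (by rw [hg, C.xA_val])
  rw [SetLike.mem_coe, this]; exact C.xA_mem_group r t

theorem diag_le_group : D.diagonalSubgroup F ≤ D.group F := by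
  unfold ChevalleyDatum.diagonalSubgroup
  rw [Subgroup.closure_le]
  rintro g ⟨r, t, _, _, hg⟩
  exact C.mem_group_of_word g _ hg

theorem monomial_le_group : D.monomialSubgroup F ≤ D.group F := by
  unfold ChevalleyDatum.monomialSubgroup
  apply sup_le C.diag_le_group
  rw [Subgroup.closure_le]
  rintro g ⟨r, _, hg⟩
  exact C.mem_group_of_word g _ hg

theorem borel_le_group : D.borelSubgroup F ≤ D.group F := sup_le C.pos_le_group C.diag_le_group

theorem nG_mem_monomial (r : ℕ) (hr : r < fd.n) : C.nG (F := F) r hr ∈ D.monomialSubgroup F := by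
  unfold ChevalleyDatum.monomialSubgroup
  apply (le_sup_right : _ ≤ D.diagonalSubgroup F ⊔ _)
  apply Subgroup.subset_closure
  exact ⟨r, by rw [C.nroots_eq]; exact hr, C.nG_val' r hr⟩

/-- `n_p x_s(u) n_p⁻¹ = x_{w_p s}(η u)` when the conjugation check holds for `(p, s)` -/
theorem nG_conj_x (p s : ℕ) (hp : p < fd.n) (hs : s < fd.n) (hcj : fd.chkConj fx p s = true) (u : F) :
    C.nG p hp * C.xA s u * (C.nG p hp)⁻¹ = C.xA (fd.nw fx p s) (((fd.neta fx p s : ℤ) : F) * u) := by
  have hs' : fd.nw fx p s < fd.n := (fd.nw_spec C.chk.nn p s hp hs).1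
  apply gl_conj_eq
  rw [C.nG_val, C.xA_val, C.xA_val, x_eq_XR C.agrees s hs, x_eq_XR C.agrees _ hs']
  exact nF_mul_XR C.agrees C.chk p s hp hs hcj u

/-- `B` and `N` generate the Chevalley group -/
theorem borel_sup_monomial : D.borelSubgroup F ⊔ D.monomialSubgroup F = D.group F := by
  apply le_antisymm (sup_le C.borel_le_group C.monomial_le_group)
  unfold ChevalleyDatum.group
  rw [Subgroup.closure_le]
  rintro g ⟨r, t, hg⟩
  have hr : r.val < fd.n := by rw [← C.nroots_eq]; exact r.isLt
  have hgx : g = C.xA r.val t := by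
    apply gl_ext
    rw [hg, C.xA_val]
    unfold ChevalleyDatum.x
    rw [dif_pos r.isLt]
  rw [SetLike.mem_coe, hgx]
  by_cases hpos : fd.n / 2 ≤ r.val
  · apply (le_sup_left : D.borelSubgroup F ≤ _)
    apply (le_sup_left : D.posUnipotent F ≤ D.borelSubgroup F)
    rw [C.xA_of_lt _ hr]
    exact C.xG_mem_pos r.val hr hpos t
  · have hev := C.heven
    have hs : fd.n - 1 - r.val < fd.n := by omega
    have hspos : fd.n / 2 ≤ fd.n - 1 - r.val := by omega
    obtain ⟨e1, e2, e3⟩ := fd.neg_spec C.neg _ hs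
    have key := C.nG_conj_x (F := F) _ _ hs hs e3 (-t)
    rw [e1, e2] at key
    have e4 : fd.n - 1 - (fd.n - 1 - r.val) = r.val := by omega
    rw [e4] at key
    have e5 : (((-1 : ℤ) : ℤ) : F) * (-t) = t := by push_cast; ring
    rw [e5] at key
    rw [← key]
    have m1 : C.nG (F := F) _ hs ∈ D.borelSubgroup F ⊔ D.monomialSubgroup F :=
      (le_sup_right : D.monomialSubgroup F ≤ _) (C.nG_mem_monomial _ hs)
    have m2 : C.xA (fd.n - 1 - r.val) (-t) ∈ D.borelSubgroup F ⊔ D.monomialSubgroup F := by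
      apply (le_sup_left : D.borelSubgroup F ≤ _)
      apply (le_sup_left : D.posUnipotent F ≤ D.borelSubgroup F)
      rw [C.xA_of_lt _ hs]
      exact C.xG_mem_pos _ hs hspos _
    exact mul_mem (mul_mem m1 m2) (inv_mem m1)

end Cert2

/-- all the checks -/
structure Cert3 (D : ChevalleyDatum) (fd : FD) (fx : FX) : Prop where
  c2 : Cert2 D fd fx
  conj : fd.ChkConj fx

namespace Cert3

variable (C : Cert3 D fd fx)
include C

/-- `n_{p_i} x_s(t) = x_{w_i s}(η t) n_{p_i}` -/
theorem nMat_mul_x (i s : ℕ) (hi : i < fd.l) (hs : s < fd.n) (t : F) :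
    D.nMat F (fd.simples.getD i 0) 1 * D.x F s t =
      D.x F (fd.nw fx (fd.simples.getD i 0) s) (((fd.neta fx (fd.simples.getD i 0) s : ℤ) : F) * t) *
        D.nMat F (fd.simples.getD i 0) 1 := by
  have hp := C.c2.simple_lt i hi
  have hs' : fd.nw fx (fd.simples.getD i 0) s < fd.n := (fd.nw_spec C.c2.chk.nn _ s hp hs).1
  rw [nMat_one C.c2.agrees C.c2.chk.add C.c2.chk.pref C.c2.chk.nn _ hp, x_eq_XR C.c2.agrees s hs,
    x_eq_XR C.c2.agrees _ hs']
  exact nF_mul_XR C.c2.agrees C.c2.chk _ s hp hs (fd.conj_spec C.conj i s hi hs) t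

end Cert3

end Cfsg.Agent.Lib.H29.Chev
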