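import Mathlib
import Cfsg.Prelude.Def_ChevStructure
import Cfsg.Agent.Lib.H29.ChevGen13

/-!
# An element of `N` conjugating `U` to `V`
-/

set_option autoImplicit false
set_option linter.unusedSectionVars false
set_option linter.unusedSimpArgs false
set_option linter.unusedVariables false

namespace Cfsg.Agent.Lib.H29.Chev

open Cfsg.Lie Matrix

variable {D : ChevalleyDatum} {fd : FD} {fx : FX} {F : Type*} [Field F]

/-- what `chkW0` says -/
theorem FD.w0_spec (h : fd.chkW0 fx = true) :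
    (∀ i ∈ fx.w0, i < fd.l) ∧ ∀ s < fd.n,
      (fd.n / 2 ≤ s → fd.wact fx fx.w0 s < fd.n / 2) ∧
      (s < fd.n / 2 → fd.wact fx fx.w0.reverse s < fd.n ∧ fd.n / 2 ≤ fd.wact fx fx.w0.reverse s ∧
        fd.wact fx fx.w0 (fd.wact fx fx.w0.reverse s) = s) := by
  simp only [FD.chkW0, Bool.and_eq_true, List.all_eq_true, List.mem_range, natBlt_iff, natBeq_iff,
    Bool.or_eq_true, Bool.not_eq_true', ← Bool.not_eq_true] at h
  refine ⟨h.1, fun s hs => ?_⟩
  obtain ⟨h1, h2⟩ := h.2 s hs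
  constructor
  · intro hpos
    rcases h1 with h1 | h1
    · omega
    · exact h1
  · intro hneg
    rcases h2 with h2 | h2
    · exact absurd hneg h2
    · exact ⟨h2.1.1, by have := h2.1.2; omega, h2.2⟩

namespace Cert3

variable (C : Cert3 D fd fx)
include C

/-- the product of the `n_{p_i}` along a word -/
noncomputable def nW (w : List ℕ) : GL D.Idx F :=
  (w.map fun i => if h : i < fd.l then C.c2.nG (fd.simples.getD i 0) (C.c2.simple_lt i h) else 1).prod

theorem nW_mem (w : List ℕ) : C.nW (F := F) w ∈ D.monomialSubgroup F := by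
  unfold nW
  apply Subgroup.list_prod_mem
  intro x hx
  obtain ⟨i, _, rfl⟩ := List.mem_map.mp hx
  by_cases h : i < fd.l
  · rw [dif_pos h]; exact C.c2.nG_mem_monomial _ _
  · rw [dif_neg h]; exact one_mem _

theorem nW_cons (i : ℕ) (hi : i < fd.l) (w : List ℕ) :
    C.nW (F := F) (i :: w) = C.c2.nG (fd.simples.getD i 0) (C.c2.simple_lt i hi) * C.nW w := by
  unfold nW
  rw [List.map_cons, List.prod_cons, dif_pos hi]

/-- conjugation by `n_w` maps `x_s(u)` to `x_{w s}(± u)` -/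
theorem nW_conj (w : List ℕ) (hw : ∀ i ∈ w, i < fd.l) (s : ℕ) (hs : s < fd.n) :
    fd.wact fx w s < fd.n ∧ ∃ ε : ℤ, ε * ε = 1 ∧ ∀ u : F,
      C.nW w * C.c2.xA s u * (C.nW w)⁻¹ = C.c2.xA (fd.wact fx w s) ((ε : F) * u) := by
  induction w with
  | nil =>
    refine ⟨hs, 1, by norm_num, fun u => ?_⟩
    simp [nW, FD.wact]
  | cons i w ih =>
    have hi : i < fd.l := hw i (List.mem_cons_self)
    obtain ⟨h1, ε, hε, h2⟩ := ih (fun j hj => hw j (List.mem_cons_of_mem _ hj))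
    have hp := C.c2.simple_lt i hi
    have e : fd.wact fx (i :: w) s = fd.nw fx (fd.simples.getD i 0) (fd.wact fx w s) := rfl
    rw [e]
    refine ⟨(fd.nw_spec C.c2.chk.nn _ _ hp h1).1, fd.neta fx (fd.simples.getD i 0) (fd.wact fx w s) * ε, ?_,
      fun u => ?_⟩
    · have := fd.neta_sq (fx := fx) (fd.simples.getD i 0) (fd.wact fx w s)
      calc fd.neta fx (fd.simples.getD i 0) (fd.wact fx w s) * ε *
            (fd.neta fx (fd.simples.getD i 0) (fd.wact fx w s) * ε)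
          = (fd.neta fx (fd.simples.getD i 0) (fd.wact fx w s) *
              fd.neta fx (fd.simples.getD i 0) (fd.wact fx w s)) * (ε * ε) := by ring
        _ = 1 := by rw [this, hε, mul_one]
    · rw [C.nW_cons i hi w]
      have : C.c2.nG (fd.simples.getD i 0) hp * C.nW w * C.c2.xA s u *
          (C.c2.nG (fd.simples.getD i 0) hp * C.nW w)⁻¹ =
          C.c2.nG (fd.simples.getD i 0) hp * (C.nW w * C.c2.xA s u * (C.nW w)⁻¹) *
            (C.c2.nG (fd.simples.getD i 0) hp)⁻¹ := by group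
      rw [this, h2 u, C.c2.nG_conj_x _ _ hp h1 (fd.conj_spec C.conj i _ hi h1)]
      congr 1
      push_cast
      ring

/-- an element of `N` conjugating `U` onto `V` -/
theorem exists_w0 : ∃ n ∈ D.monomialSubgroup F,
    (D.posUnipotent F).map (MulAut.conj n).toMonoidHom = D.negUnipotent F := by
  obtain ⟨hw, hspec⟩ := fd.w0_spec C.c2.w0
  have hwr : ∀ i ∈ fx.w0.reverse, i < fd.l := fun i hi => hw i (List.mem_reverse.mp hi)
  refine ⟨C.nW fx.w0, C.nW_mem _, le_antisymm ?_ ?_⟩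
  · rw [Subgroup.map_le_iff_le_comap]
    unfold ChevalleyDatum.posUnipotent
    rw [Subgroup.closure_le]
    rintro g ⟨s, t, hs, hg⟩
    obtain ⟨hs1, hs2⟩ := (isPos_iff C.c2.agrees C.c2.lev s).mp hs
    have hgx : g = C.c2.xA s t := gl_ext (by rw [hg, C.c2.xA_val])
    obtain ⟨h1, ε, _, h2⟩ := C.nW_conj (F := F) fx.w0 hw s hs1
    rw [SetLike.mem_coe, Subgroup.mem_comap, hgx]
    show C.nW fx.w0 * C.c2.xA s t * (C.nW fx.w0)⁻¹ ∈ D.negUnipotent F
    rw [h2 t, C.c2.xA_of_lt _ h1]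
    exact C.c2.xG_mem_neg _ h1 ((hspec s hs1).1 hs2) _
  · unfold ChevalleyDatum.negUnipotent
    rw [Subgroup.closure_le]
    rintro g ⟨r, t, hr, hg⟩
    obtain ⟨hr1, hr2⟩ := (isNeg_iff C.c2.agrees C.c2.lev r).mp hr
    have hgx : g = C.c2.xA r t := gl_ext (by rw [hg, C.c2.xA_val])
    obtain ⟨k1, k2, k3⟩ := (hspec r hr2).2 hr1
    obtain ⟨h1, ε, hε, h2⟩ := C.nW_conj (F := F) fx.w0 hw _ k1
    rw [SetLike.mem_coe, Subgroup.mem_map]
    refine ⟨C.c2.xA (fd.wact fx fx.w0.reverse r) ((ε : F) * t), ?_, ?_⟩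
    · rw [C.c2.xA_of_lt _ k1]
      exact C.c2.xG_mem_pos _ k1 k2 _
    · show C.nW fx.w0 * C.c2.xA _ ((ε : F) * t) * (C.nW fx.w0)⁻¹ = g
      rw [h2, k3, hgx, ← mul_assoc, ← Int.cast_mul, hε, Int.cast_one, one_mul]

end Cert3

end Cfsg.Agent.Lib.H29.Chev
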