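import Mathlib
import Cfsg.Prelude.Def_ChevStructure
import Cfsg.Agent.Lib.H29.ChevGen14

/-!
# The normal core of `B` in a Chevalley group is trivial
-/

set_option autoImplicit false
set_option linter.unusedSectionVars false
set_option linter.unusedSimpArgs false
set_option linter.unusedVariables false

namespace Cfsg.Agent.Lib.H29.Chev

open Cfsg.Lie Matrix

variable {D : ChevalleyDatum} {fd : FD} {fx : FX} {F : Type*} [Field F]

namespace Cert2

variable (C : Cert2 D fd fx)
include C

theorem xA_mul (r : ℕ) (t u : F) : C.xA r t * C.xA r u = C.xA r (t + u) := by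
  by_cases hr : r < fd.n
  · rw [C.xA_of_lt r hr, C.xA_of_lt r hr, C.xA_of_lt r hr]
    apply gl_ext
    rw [Units.val_mul]
    exact XR_add C.agrees C.chk.add r hr t u
  · unfold xA; rw [dif_neg hr, dif_neg hr, dif_neg hr, one_mul]

theorem xA_zero (r : ℕ) : C.xA r (0 : F) = 1 := by
  have := C.xA_mul (F := F) r 0 0
  rw [add_zero] at this
  exact mul_eq_left.mp this

theorem xA_inv (r : ℕ) (t : F) : (C.xA r t)⁻¹ = C.xA r (-t) := by
  apply inv_eq_of_mul_eq_one_right
  rw [C.xA_mul, add_neg_cancel, C.xA_zero]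

/-- the entry of `x_r(c)` in row `e_r` and column `e_{-r}` is `-c²` -/
theorem XR_entry (r : Fin D.nroots) (c : F) :
    XR D F r.val c (Sum.inr r) (Sum.inr ⟨D.nroots - 1 - r.val, by have := r.isLt; omega⟩) = - c ^ 2 := by
  have hr : r.val < fd.n := by rw [← C.nroots_eq]; exact r.isLt
  have hev := C.heven
  have hn := C.nroots_eq
  have hl := C.rank_eq
  have hne : (Sum.inr r : D.Idx) ≠ Sum.inr ⟨D.nroots - 1 - r.val, by have := r.isLt; omega⟩ := by
    intro h
    have := Sum.inr.inj h
    have := congrArg Fin.val this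
    simp only at this
    omega
  have e : ∀ k, aR D F r.val k (Sum.inr r) (Sum.inr ⟨D.nroots - 1 - r.val, by have := r.isLt; omega⟩) =
      ((SV.get (fd.colA r.val k (fd.l + (fd.n - 1 - r.val))) (fd.l + r.val) : ℤ) : F) := by
    intro k
    unfold aR
    rw [Matrix.map_apply, Ak_apply C.agrees r.val k hr, code_inr, code_inr]
    simp only [hl, hn, Int.coe_castRingHom]
  have c1 : fd.colA r.val 1 (fd.l + (fd.n - 1 - r.val)) = (List.range fd.l).map (fun i => (i, fd.corZ r.val i)) := by
    unfold FD.colA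
    have h1 : ¬ fd.l + (fd.n - 1 - r.val) < fd.l := by omega
    have h2 : ¬ fd.l + (fd.n - 1 - r.val) - fd.l = r.val := by omega
    have h3 : fd.l + (fd.n - 1 - r.val) - fd.l = fd.n - 1 - r.val := by omega
    have h4 : ¬ fd.n - 1 - r.val = r.val := by omega
    simp [h1, h2, h3, h4]
  have c2 : fd.colA r.val 2 (fd.l + (fd.n - 1 - r.val)) = [(fd.l + r.val, -1)] := by
    unfold FD.colA
    have h1 : ¬ fd.l + (fd.n - 1 - r.val) < fd.l := by omega
    have h2 : ¬ fd.l + (fd.n - 1 - r.val) - fd.l = r.val := by omega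
    have h3 : fd.l + (fd.n - 1 - r.val) - fd.l = fd.n - 1 - r.val := by omega
    have h4 : ¬ fd.n - 1 - r.val = r.val := by omega
    simp [h1, h2, h3, h4]
  have c3 : fd.colA r.val 3 (fd.l + (fd.n - 1 - r.val)) = [] := by
    unfold FD.colA
    have h1 : ¬ fd.l + (fd.n - 1 - r.val) < fd.l := by omega
    have h2 : ¬ fd.l + (fd.n - 1 - r.val) - fd.l = r.val := by omega
    have h3 : fd.l + (fd.n - 1 - r.val) - fd.l = fd.n - 1 - r.val := by omega
    have h4 : ¬ fd.n - 1 - r.val = r.val := by omega
    simp [h1, h2, h3, h4]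
  unfold XR
  simp only [Matrix.add_apply, Matrix.smul_apply, Matrix.one_apply_ne hne, e, c1, c2, c3, SV.get_range_map,
    SV.get_cons, SV.get_nil, smul_eq_mul]
  have : ¬ fd.l + r.val < fd.l := by omega
  simp [this]

/-- elements of `H` are diagonal with entries `1` on the Cartan part, and act on root elements through their
diagonal entries -/
theorem diag_conj_x (k : GL D.Idx F) (hk : k ∈ D.diagonalSubgroup F) :
    (∀ j : Fin D.rank, (k : Matrix D.Idx D.Idx F) (Sum.inl j) (Sum.inl j) = 1) ∧
    ∀ (r : Fin D.nroots) (t : F), k * C.xA r.val t * k⁻¹ =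
      C.xA r.val ((k : Matrix D.Idx D.Idx F) (Sum.inr r) (Sum.inr r) * t) := by
  have hdiag := C.diag_isDiag (F := F)
  unfold ChevalleyDatum.diagonalSubgroup at hk
  induction hk using Subgroup.closure_induction with
  | mem x hx =>
    obtain ⟨s, c, hs, hc, hx⟩ := hx
    have hs' : s < fd.n := by rw [← C.nroots_eq]; exact hs
    constructor
    · intro j
      rw [hx, C.hMat_eq s hs' c hc, Td_apply, if_pos rfl, C.hExp_inl, zpow_zero]
    · intro r t
      have hr : r.val < fd.n := by rw [← C.nroots_eq]; exact r.isLt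
      rw [C.xA_of_lt _ hr, C.hgen_conj x s hs' c hc hx r.val hr t, C.xA_of_lt _ hr, hx, C.hMat_eq s hs' c hc,
        Td_apply, if_pos rfl, C.hExp_inr]
  | one =>
    constructor
    · intro j; simp
    · intro r t; simp
  | mul x y hxm hym hx hy =>
    have dx := hdiag x (by unfold ChevalleyDatum.diagonalSubgroup; exact hxm)
    have ent : ∀ a, ((x * y : GL D.Idx F) : Matrix D.Idx D.Idx F) a a =
        (x : Matrix D.Idx D.Idx F) a a * (y : Matrix D.Idx D.Idx F) a a := by
      intro a
      rw [Units.val_mul, Matrix.mul_apply, Finset.sum_eq_single a]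
      · intro b _ hba; rw [dx a b (Ne.symm hba), zero_mul]
      · intro h; exact absurd (Finset.mem_univ _) h
    constructor
    · intro j; rw [ent, hx.1 j, hy.1 j, one_mul]
    · intro r t
      have : x * y * C.xA r.val t * (x * y)⁻¹ = x * (y * C.xA r.val t * y⁻¹) * x⁻¹ := by group
      rw [this, hy.2 r t, hx.2 r, ent, mul_assoc]
  | inv x hxm hx =>
    have dx := hdiag x (by unfold ChevalleyDatum.diagonalSubgroup; exact hxm)
    have h1 : (x : Matrix D.Idx D.Idx F) * ((x⁻¹ : GL D.Idx F) : Matrix D.Idx D.Idx F) = 1 := by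
      rw [← Units.val_mul, mul_inv_cancel]; rfl
    have ent : ∀ a, (x : Matrix D.Idx D.Idx F) a a * ((x⁻¹ : GL D.Idx F) : Matrix D.Idx D.Idx F) a a = 1 := by
      intro a
      have := congrFun (congrFun h1 a) a
      rw [Matrix.mul_apply, Finset.sum_eq_single a, Matrix.one_apply_eq] at this
      · exact this
      · intro b _ hba; rw [dx a b (Ne.symm hba), zero_mul]
      · intro h; exact absurd (Finset.mem_univ _) h
    constructor
    · intro j
      have := ent (Sum.inl j)
      rwa [hx.1 j, one_mul] at this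
    · intro r t
      have e1 := ent (Sum.inr r)
      have hne : (x : Matrix D.Idx D.Idx F) (Sum.inr r) (Sum.inr r) ≠ 0 := by
        intro h0; rw [h0, zero_mul] at e1; exact zero_ne_one e1
      have e2 : ((x⁻¹ : GL D.Idx F) : Matrix D.Idx D.Idx F) (Sum.inr r) (Sum.inr r) =
          ((x : Matrix D.Idx D.Idx F) (Sum.inr r) (Sum.inr r))⁻¹ := eq_inv_of_mul_eq_one_right e1
      have := hx.2 r (((x : Matrix D.Idx D.Idx F) (Sum.inr r) (Sum.inr r))⁻¹ * t)
      rw [← mul_assoc, mul_inv_cancel₀ hne, one_mul] at this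
      rw [e2, ← this]
      group

theorem monomial_le_normalizer_diag :
    D.monomialSubgroup F ≤ Subgroup.normalizer (D.diagonalSubgroup F : Set (GL D.Idx F)) := by
  have hle : D.diagonalSubgroup F ≤ D.monomialSubgroup F := le_sup_left
  exact (Subgroup.normal_subgroupOf_iff_le_normalizer hle).mp C.diag_normal_monomial

end Cert2

namespace Cert3

variable (C : Cert3 D fd fx)
include C

/-- an element all of whose conjugates under the Chevalley group lie in `B` is trivial -/
theorem core_trivial (k : GL D.Idx F) (hk : ∀ b ∈ D.group F, b * k * b⁻¹ ∈ D.borelSubgroup F) : k = 1 := by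
  -- step 1: such elements lie in `H`
  have step1 : ∀ k : GL D.Idx F, (∀ b ∈ D.group F, b * k * b⁻¹ ∈ D.borelSubgroup F) → k ∈ D.diagonalSubgroup F := by
    intro k hk
    obtain ⟨n, hn, hmap⟩ := C.exists_w0 (F := F)
    have hnG : n ∈ D.group F := C.c2.monomial_le_group hn
    have hkB : k ∈ D.borelSubgroup F := by
      have := hk 1 (one_mem _)
      simpa using this
    have h1 := hk n⁻¹ (inv_mem hnG)
    rw [inv_inv] at h1
    obtain ⟨u, hu, h, hh, huh⟩ := C.c2.borel_mem _ h1
    have hk2 : k = (n * u * n⁻¹) * (n * h * n⁻¹) := by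
      have : n * (n⁻¹ * k * n) * n⁻¹ = k := by group
      rw [← this, ← huh]; group
    have m1 : n * u * n⁻¹ ∈ D.negUnipotent F := by
      rw [← hmap]
      exact Subgroup.mem_map.mpr ⟨u, hu, rfl⟩
    have m2 : n * h * n⁻¹ ∈ D.diagonalSubgroup F :=
      ((Subgroup.mem_normalizer_iff.mp (C.c2.monomial_le_normalizer_diag hn)) h).mp hh
    have : k ∈ D.borelSubgroup F ⊓ (D.negUnipotent F ⊔ D.diagonalSubgroup F) := by
      refine ⟨hkB, ?_⟩
      rw [hk2]
      exact mul_mem ((le_sup_left : D.negUnipotent F ≤ _) m1) ((le_sup_right : D.diagonalSubgroup F ≤ _) m2)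
    rwa [C.c2.borel_inf_negdiag] at this
  have hkH := step1 k hk
  obtain ⟨hcar, hconj⟩ := C.c2.diag_conj_x k hkH
  have hdiag := C.c2.diag_isDiag k hkH
  -- step 2: the diagonal entries on the root part are `1`
  have step2 : ∀ r : Fin D.nroots, (k : Matrix D.Idx D.Idx F) (Sum.inr r) (Sum.inr r) = 1 := by
    intro r
    have hr : r.val < fd.n := by rw [← C.c2.nroots_eq]; exact r.isLt
    set x := C.c2.xA (F := F) r.val 1 with hx
    have hxG : x ∈ D.group F := C.c2.xA_mem_group _ _
    have hy : x * k * x⁻¹ ∈ D.diagonalSubgroup F := by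
      apply step1
      intro b hb
      have : b * (x * k * x⁻¹) * b⁻¹ = (b * x) * k * (b * x)⁻¹ := by group
      rw [this]
      exact hk _ (mul_mem hb hxG)
    have hy2 : x * k * x⁻¹ * k⁻¹ ∈ D.diagonalSubgroup F := mul_mem hy (inv_mem hkH)
    have e1 : x * k * x⁻¹ * k⁻¹ = C.c2.xA r.val (1 - (k : Matrix D.Idx D.Idx F) (Sum.inr r) (Sum.inr r)) := by
      have : x * k * x⁻¹ * k⁻¹ = x * (k * x⁻¹ * k⁻¹) := by group
      rw [this, hx, C.c2.xA_inv, hconj r (-1), C.c2.xA_mul]
      congr 1
      ring
    rw [e1] at hy2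
    have hz := C.c2.diag_isDiag _ hy2 (Sum.inr r)
      (Sum.inr ⟨D.nroots - 1 - r.val, by have := r.isLt; omega⟩) (by
        intro h
        have := congrArg Fin.val (Sum.inr.inj h)
        have hev := C.c2.heven
        have hn := C.c2.nroots_eq
        simp only at this
        omega)
    rw [C.c2.xA_val, x_eq_XR C.c2.agrees _ hr, C.c2.XR_entry r] at hz
    have : (1 - (k : Matrix D.Idx D.Idx F) (Sum.inr r) (Sum.inr r)) = 0 := by
      have := neg_eq_zero.mp hz
      exact pow_eq_zero_iff (two_ne_zero) |>.mp this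
    exact (sub_eq_zero.mp this).symm
  apply gl_ext
  ext a b
  by_cases hab : a = b
  · subst hab
    rcases a with j | r
    · rw [hcar j]; simp
    · rw [step2 r]; simp
  · rw [hdiag a b hab]; simp [hab]

/-- the normal core of `B` in the Chevalley group is trivial -/
theorem borel_core : ((D.borelSubgroup F).subgroupOf (D.group F)).normalCore = ⊥ := by
  rw [eq_bot_iff]
  intro k hk
  rw [Subgroup.mem_bot]
  have : (k : GL D.Idx F) = 1 := by
    apply C.core_trivial
    intro b hb
    have := hk ⟨b, hb⟩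
    exact this
  exact Subtype.ext this

end Cert3

end Cfsg.Agent.Lib.H29.Chev
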