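import Mathlib
import Cfsg.Prelude.Def_ChevStructure
import Cfsg.Agent.Lib.H29.ChevGen13

/-!
# `U ∩ N = 1` and `B ∩ N = H`
-/

set_option autoImplicit false
set_option linter.unusedSectionVars false
set_option linter.unusedSimpArgs false
set_option linter.unusedVariables false

namespace Cfsg.Agent.Lib.H29.Chev

open Cfsg.Lie Matrix

variable {D : ChevalleyDatum} {fd : FD} {fx : FX} {F : Type*} [Field F]

/-- a matrix preserving the Cartan part and mapping the root vector `e_s` into the line of `e_{π s}` -/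
def Shape (D : ChevalleyDatum) (fd : FD) (M : Matrix D.Idx D.Idx F) (π : ℕ → ℕ) : Prop :=
  ∀ a b, M a b ≠ 0 → (code D a < fd.l ∧ code D b < fd.l) ∨
    (¬ code D b < fd.l ∧ code D a = fd.l + π (code D b - fd.l))

theorem Shape.mul {M M' : Matrix D.Idx D.Idx F} {π π' : ℕ → ℕ} (h : Shape D fd M π) (h' : Shape D fd M' π') :
    Shape D fd (M * M') (π ∘ π') := by
  intro a b hab
  rw [Matrix.mul_apply] at hab
  obtain ⟨k, _, hk⟩ := Finset.exists_ne_zero_of_sum_ne_zero hab
  have h1 : M a k ≠ 0 := left_ne_zero_of_mul hk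
  have h2 : M' k b ≠ 0 := right_ne_zero_of_mul hk
  rcases h' k b h2 with ⟨hk1, hb1⟩ | ⟨hb1, hk1⟩
  · rcases h a k h1 with ⟨ha1, _⟩ | ⟨hk2, _⟩
    · exact Or.inl ⟨ha1, hb1⟩
    · exact absurd hk1 hk2
  · rcases h a k h1 with ⟨_, hk2⟩ | ⟨_, ha1⟩
    · omega
    · right
      refine ⟨hb1, ?_⟩
      rw [ha1, hk1, Nat.add_sub_cancel_left]; rfl

theorem Shape.of_diag {M : Matrix D.Idx D.Idx F} (h : ∀ a b, a ≠ b → M a b = 0) : Shape D fd M id := by
  intro a b hab
  have : a = b := by
    by_contra hne; exact hab (h a b hne)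
  subst this
  by_cases ha : code D a < fd.l
  · exact Or.inl ⟨ha, ha⟩
  · right; refine ⟨ha, ?_⟩; simp only [id]; omega

/-- multiplying by diagonal matrices does not change the shape -/
theorem Shape.diag_mul_diag {M : Matrix D.Idx D.Idx F} {π : ℕ → ℕ} (h : Shape D fd M π) (e e' : D.Idx → ℤ) (c : F) :
    Shape D fd (Td e c * M * Td e' c) π := by
  intro a b hab
  apply h a b
  intro h0
  apply hab
  unfold Td
  rw [Matrix.mul_diagonal, Matrix.diagonal_mul, h0]
  simp

namespace Cert2

variable (C : Cert2 D fd fx)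
include C

theorem shape_nF (r : ℕ) : Shape D fd (nF D fd fx F r) (fd.nw fx r) := by
  intro a b hab
  exact nZ_support r a b (nF_ne_zero r a b hab)

theorem nG_inv_val (r : ℕ) (hr : r < fd.n) :
    (((C.nG (F := F) r hr)⁻¹ : GL D.Idx F) : Matrix D.Idx D.Idx F) = D.nMat F r (-1) := by
  apply Units.inv_eq_of_mul_eq_one_right
  rw [C.nG_val]
  exact nF_mul_nMat_neg C.agrees C.chk r hr

theorem shape_nMat_neg (r : ℕ) (hr : r < fd.n) : Shape D fd (D.nMat F r (-1)) (fd.nw fx r) := by
  have h1 := nMat_conj (F := F) C.agrees C.chk r hr (-1) (by norm_num)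
  set e : D.Idx → ℤ := fun i => fd.om fx (fd.avZ fx r) (code D i) with he
  have h2 : D.nMat F r (-1) = Td e (-1) * nF D fd fx F r * Td (-e) (-1) := by
    rw [← h1, Matrix.mul_assoc, Td_mul_neg _ _ (by norm_num), Matrix.mul_one]
  rw [h2]
  exact (C.shape_nF r).diag_mul_diag _ _ _

/-- the elements of `N` and their inverses have the monomial shape -/
theorem monomial_shape (g : GL D.Idx F) (hg : g ∈ D.monomialSubgroup F) :
    ∃ π π' : ℕ → ℕ, Shape D fd (g : Matrix D.Idx D.Idx F) π ∧
      Shape D fd ((g⁻¹ : GL D.Idx F) : Matrix D.Idx D.Idx F) π' := by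
  unfold ChevalleyDatum.monomialSubgroup at hg
  rw [← Subgroup.closure_eq (D.diagonalSubgroup F), ← Subgroup.closure_union] at hg
  induction hg using Subgroup.closure_induction with
  | mem x hx =>
    rcases hx with hx | hx
    · exact ⟨id, id, Shape.of_diag (C.diag_isDiag x hx), Shape.of_diag (C.diag_isDiag _ (inv_mem hx))⟩
    · obtain ⟨r, hr, hx⟩ := hx
      have hr' : r < fd.n := by rw [← C.nroots_eq]; exact hr
      rw [C.eq_nG x r hr' hx]
      refine ⟨fd.nw fx r, fd.nw fx r, ?_, ?_⟩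
      · rw [C.nG_val]; exact C.shape_nF r
      · rw [C.nG_inv_val]; exact C.shape_nMat_neg r hr'
  | one => exact ⟨id, id, Shape.of_diag (by intro a b hab; simp [hab]), Shape.of_diag (by intro a b hab; simp [hab])⟩
  | mul x y _ _ hx hy =>
    obtain ⟨π₁, π₁', s1, s1'⟩ := hx
    obtain ⟨π₂, π₂', s2, s2'⟩ := hy
    refine ⟨π₁ ∘ π₂, π₂' ∘ π₁', ?_, ?_⟩
    · rw [Units.val_mul]; exact s1.mul s2
    · rw [_root_.mul_inv_rev, Units.val_mul]; exact s2'.mul s1'
  | inv x _ hx =>
    obtain ⟨π, π', s, s'⟩ := hx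
    exact ⟨π', π, s', by rw [inv_inv]; exact s⟩

/-- an element of `B` with the monomial shape `π` satisfies `s ≤ π s` on the roots whose column is not zero -/
theorem borel_shape_le (g : GL D.Idx F) (hg : g ∈ D.borelSubgroup F) (π : ℕ → ℕ)
    (hs : Shape D fd (g : Matrix D.Idx D.Idx F) π) (a : D.Idx) (s : Fin D.nroots)
    (hne : (g : Matrix D.Idx D.Idx F) a (Sum.inr s) ≠ 0) : code D a = fd.l + π s.val ∧ s.val ≤ π s.val := by
  have hl := C.rank_eq
  have hn := C.nroots_eq
  have hsn : s.val < fd.n := by rw [← hn]; exact s.isLt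
  have e1 : code D a = fd.l + π s.val := by
    rcases hs a _ hne with ⟨_, h2⟩ | ⟨_, h2⟩
    · rw [code_inr] at h2; omega
    · rw [code_inr, hl, Nat.add_sub_cancel_left] at h2; exact h2
  refine ⟨e1, ?_⟩
  obtain ⟨u, hu, h, hh, rfl⟩ := C.borel_mem g hg
  have h1 : IsUp (lvD D fd) 1 ((u : Matrix D.Idx D.Idx F) - 1) := posUnipotent_le C.agrees C.lev hu
  have h2 := C.diag_isDiag h hh
  have ent : ((u * h : GL D.Idx F) : Matrix D.Idx D.Idx F) a (Sum.inr s) =
      (u : Matrix D.Idx D.Idx F) a (Sum.inr s) * (h : Matrix D.Idx D.Idx F) (Sum.inr s) (Sum.inr s) := by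
    rw [Units.val_mul, Matrix.mul_apply, Finset.sum_eq_single (Sum.inr s)]
    · intro k _ hkc; rw [h2 k _ hkc, mul_zero]
    · intro hc; exact absurd (Finset.mem_univ _) hc
  rw [ent] at hne
  have hu1 : (u : Matrix D.Idx D.Idx F) a (Sum.inr s) ≠ 0 := left_ne_zero_of_mul hne
  by_cases has : a = Sum.inr s
  · rw [has, code_inr, hl] at e1; omega
  · have : ((u : Matrix D.Idx D.Idx F) - 1) a (Sum.inr s) ≠ 0 := by
      rw [Matrix.sub_apply, Matrix.one_apply_ne has, sub_zero]; exact hu1
    have := h1 a _ this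
    unfold lvD FD.lev at this
    rw [e1, code_inr, hl] at this
    have hev := C.heven
    split_ifs at this <;> omega

/-- `B ∩ N = H` -/
theorem borel_inf_monomial : D.borelSubgroup F ⊓ D.monomialSubgroup F = D.diagonalSubgroup F := by
  have hl := C.rank_eq
  have hn := C.nroots_eq
  apply le_antisymm
  · rintro g ⟨hb0, hm0⟩
    have hb : g ∈ D.borelSubgroup F := hb0
    have hm : g ∈ D.monomialSubgroup F := hm0
    obtain ⟨π, π', s1, s2⟩ := C.monomial_shape g hm
    have hbi : g⁻¹ ∈ D.borelSubgroup F := inv_mem hb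
    have gi : ((g⁻¹ : GL D.Idx F) : Matrix D.Idx D.Idx F) * (g : Matrix D.Idx D.Idx F) = 1 := by
      rw [← Units.val_mul, inv_mul_cancel]; rfl
    -- `π` fixes every root
    have hfix : ∀ s : Fin D.nroots, π s.val = s.val := by
      intro s
      have h1 := congrFun (congrFun gi (Sum.inr s)) (Sum.inr s)
      rw [Matrix.mul_apply, Matrix.one_apply_eq] at h1
      have : ∑ a, ((g⁻¹ : GL D.Idx F) : Matrix D.Idx D.Idx F) (Sum.inr s) a *
          (g : Matrix D.Idx D.Idx F) a (Sum.inr s) ≠ 0 := by rw [h1]; exact one_ne_zero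
      obtain ⟨a, _, ha⟩ := Finset.exists_ne_zero_of_sum_ne_zero this
      have n1 := left_ne_zero_of_mul ha
      have n2 := right_ne_zero_of_mul ha
      obtain ⟨e1, le1⟩ := C.borel_shape_le g hb π s1 a s n2
      -- `a` is the root vector of `π s`
      have hps : π s.val < D.nroots := by
        have := code_lt D a; rw [e1, hl] at this; omega
      have ha' : a = Sum.inr ⟨π s.val, hps⟩ := by
        apply code_injective D; rw [e1, code_inr, hl]
      rw [ha'] at n1
      obtain ⟨e2, le2⟩ := C.borel_shape_le g⁻¹ hbi π' s2 (Sum.inr s) ⟨π s.val, hps⟩ n1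
      rw [code_inr, hl] at e2
      simp only at e2 le2
      omega
    obtain ⟨u, hu, h, hh, huh⟩ := C.borel_mem g hb
    have hu1 : IsUp (lvD D fd) 1 ((u : Matrix D.Idx D.Idx F) - 1) := posUnipotent_le C.agrees C.lev hu
    have hd := C.diag_isDiag h⁻¹ (inv_mem hh)
    have hug : u = g * h⁻¹ := by rw [← huh]; group
    have ent : ∀ a b, (u : Matrix D.Idx D.Idx F) a b =
        (g : Matrix D.Idx D.Idx F) a b * ((h⁻¹ : GL D.Idx F) : Matrix D.Idx D.Idx F) b b := by
      intro a b
      rw [hug, Units.val_mul, Matrix.mul_apply, Finset.sum_eq_single b]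
      · intro k _ hkc; rw [hd k b hkc, mul_zero]
      · intro hc; exact absurd (Finset.mem_univ _) hc
    -- `u = 1`
    have hu_one : u = 1 := by
      apply gl_ext
      ext a b
      by_cases hab : a = b
      · subst hab
        by_contra hne
        have : ((u : Matrix D.Idx D.Idx F) - 1) a a ≠ 0 := by
          rw [Matrix.sub_apply]; intro h0; apply hne; rw [sub_eq_zero] at h0; exact h0
        have := hu1 a a this
        omega
      · rw [show ((1 : GL D.Idx F) : Matrix D.Idx D.Idx F) a b = 0 by simp [hab]]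
        by_contra hne
        have hg1 : (g : Matrix D.Idx D.Idx F) a b ≠ 0 := by
          intro h0; apply hne; rw [ent, h0, zero_mul]
        have n2 : ((u : Matrix D.Idx D.Idx F) - 1) a b ≠ 0 := by
          rw [Matrix.sub_apply, Matrix.one_apply_ne hab, sub_zero]; exact hne
        have l2 := hu1 a b n2
        rcases s1 a b hg1 with ⟨ha1, hb1⟩ | ⟨hb1, ha1⟩
        · unfold lvD FD.lev at l2
          rw [if_pos ha1, if_pos hb1] at l2
          omega
        · -- `b` is a root vector fixed by `π`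
          rcases b with j | s
          · rw [code_inl] at hb1; have := j.isLt; omega
          · rw [code_inr, hl, Nat.add_sub_cancel_left, hfix s] at ha1
            apply hab
            apply code_injective D
            rw [ha1, code_inr, hl]
    rw [hu_one, one_mul] at huh
    rw [← huh]; exact hh
  · exact le_inf le_sup_right le_sup_left

/-- `U ∩ N = 1` -/
theorem pos_inf_monomial : D.posUnipotent F ⊓ D.monomialSubgroup F = ⊥ := by
  rw [eq_bot_iff]
  rintro g ⟨hu0, hm0⟩
  have hu : g ∈ D.posUnipotent F := hu0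
  have hm : g ∈ D.monomialSubgroup F := hm0
  have h1 : g ∈ D.borelSubgroup F ⊓ D.monomialSubgroup F :=
    ⟨(le_sup_left : D.posUnipotent F ≤ D.borelSubgroup F) hu, hm⟩
  rw [C.borel_inf_monomial] at h1
  have h2 : g ∈ D.posUnipotent F ⊓ D.diagonalSubgroup F := ⟨hu, h1⟩
  rw [C.pos_inf_diag] at h2
  exact h2

end Cert2

end Cfsg.Agent.Lib.H29.Chev
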