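import Mathlib
import Cfsg.Prelude.Def_ChevStructure
import Cfsg.Agent.Lib.H29.ChevFast2

/-!
# Further checks on the packed tables: negatives of coroots, descent of positive roots
-/

set_option autoImplicit false
set_option linter.unusedSectionVars false
set_option linter.unusedSimpArgs false

namespace Cfsg.Agent.Lib.H29.Chev

open Cfsg.Lie Matrix

namespace FD

variable (fd : FD) (fx : FX)

/-- a positive root `r` that is not fundamental is mapped by some fundamental reflection `w_j`, with `j` in the
support of its coroot and `⟨p_j, r^∨⟩ > 0`, to a positive root; also the coroot of `-r` is minus the coroot of `r` -/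
def chkDescR (r : ℕ) : Bool :=
  ((List.range fd.l).all fun i => intBeq (fd.corZ (fd.n - 1 - r) i) (- fd.corZ r i)) &&
  (Nat.blt r (fd.n / 2) ||
    ((List.range fd.l).any fun j => Nat.beq (fd.simples.getD j 0) r) ||
    ((List.range fd.l).any fun j =>
      !(intBeq (fd.corZ r j) 0) && decide (0 < fd.pr (fd.simples.getD j 0) r) &&
      !(Nat.blt (fd.nw fx (fd.simples.getD j 0) r) (fd.n / 2))))

def ChkDesc : Prop := ∀ r < fd.n, fd.chkDescR fx r = true

end FD

end Cfsg.Agent.Lib.H29.Chev
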