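import Mathlib
import Cfsg.Prelude.Def_ChevStructure
import Cfsg.Agent.Lib.H29.ChevGen13
import Cfsg.Agent.Lib.H29.ChevFast4

/-!
# Standard parabolic subgroups are generated by `H` and the root subgroups of `Φ⁺ ∪ Φ_J`
-/

set_option autoImplicit false
set_option linter.unusedSectionVars false
set_option linter.unusedSimpArgs false
set_option linter.unusedVariables false

namespace Cfsg.Agent.Lib.H29.Chev

open Cfsg.Lie Matrix

variable {D : ChevalleyDatum} {fd : FD} {fx : FX} {F : Type*} [Field F]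

/-- what `ChkDesc` says -/
theorem FD.desc_spec (hd : fd.ChkDesc fx) (r : ℕ) (hr : r < fd.n) :
    (∀ i < fd.l, fd.corZ (fd.n - 1 - r) i = - fd.corZ r i) ∧
    (fd.n / 2 ≤ r → (∃ j < fd.l, fd.simples.getD j 0 = r) ∨
      ∃ j < fd.l, fd.corZ r j ≠ 0 ∧ 0 < fd.pr (fd.simples.getD j 0) r ∧
        fd.n / 2 ≤ fd.nw fx (fd.simples.getD j 0) r) := by
  have := hd r hr
  simp only [FD.chkDescR, Bool.and_eq_true, Bool.or_eq_true, List.all_eq_true, List.any_eq_true, List.mem_range,
    intBeq_iff, natBlt_iff, natBeq_iff, Bool.not_eq_true', decide_eq_true_eq, ← Bool.not_eq_true] at this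
  refine ⟨this.1, fun hpos => ?_⟩
  rcases this.2 with (h1 | ⟨j, hj, h2⟩) | ⟨j, hj, ⟨h3, h4⟩, h5⟩
  · omega
  · exact Or.inl ⟨j, hj, h2⟩
  · exact Or.inr ⟨j, hj, h3, h4, by omega⟩

/-- the height of the coroot -/
def FD.coH (fd : FD) (r : ℕ) : ℤ := ∑ i ∈ Finset.range fd.l, fd.corZ r i

namespace Cert3

variable (C : Cert3 D fd fx)
include C

theorem inRootSub_iff (J : Set ℕ) (r : ℕ) :
    D.InRootSub J r ↔ r < fd.n ∧ ∀ i < fd.l, i ∉ J → fd.corZ r i = 0 := by
  unfold ChevalleyDatum.InRootSub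
  rw [C.c2.nroots_eq, C.c2.rank_eq]
  constructor
  · rintro ⟨hr, h⟩
    exact ⟨hr, fun i hi hJ => by rw [← C.c2.agrees.cor_eq r i hr hi]; exact h i hi hJ⟩
  · rintro ⟨hr, h⟩
    exact ⟨hr, fun i hi hJ => by rw [C.c2.agrees.cor_eq r i hr hi]; exact h i hi hJ⟩

/-- positivity in terms of the coroot -/
theorem pos_iff_cor (r : ℕ) (hr : r < fd.n) : fd.n / 2 ≤ r ↔ ∀ i < fd.l, 0 ≤ fd.corZ r i := by
  have := C.c2.lev r hr
  simp only [FD.chkLevR, Bool.and_eq_true, beq_iff_eq, decide_eq_decide] at this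
  rw [← this.1.1]
  simp [List.mem_range]

theorem nG_simple_mem_parabolic (J : Set ℕ) (j : ℕ) (hj : j < fd.l) (hJ : j ∈ J) :
    C.c2.nG (F := F) (fd.simples.getD j 0) (C.c2.simple_lt j hj) ∈ D.parabolicSubgroup F J := by
  unfold ChevalleyDatum.parabolicSubgroup
  apply (le_sup_right : _ ≤ D.borelSubgroup F ⊔ _)
  apply Subgroup.subset_closure
  refine ⟨j, hJ, by rw [C.c2.rank_eq]; exact hj, ?_⟩
  rw [C.c2.nG_val', C.c2.agrees.simple_eq]

theorem xA_pos_mem_parabolic (J : Set ℕ) (r : ℕ) (hr : r < fd.n) (hpos : fd.n / 2 ≤ r) (t : F) :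
    C.c2.xA r t ∈ D.parabolicSubgroup F J := by
  unfold ChevalleyDatum.parabolicSubgroup
  apply (le_sup_left : D.borelSubgroup F ≤ _)
  apply (le_sup_left : D.posUnipotent F ≤ D.borelSubgroup F)
  rw [C.c2.xA_of_lt _ hr]
  exact C.c2.xG_mem_pos r hr hpos t

/-- the negative root subgroups of `Φ_J` lie in `P_J` -/
theorem xA_neg_mem_parabolic (hd : fd.ChkDesc fx) (J : Set ℕ) (m : ℕ) :
    ∀ r, r < fd.n → fd.n / 2 ≤ r → (∀ i < fd.l, i ∉ J → fd.corZ r i = 0) → (fd.coH r).toNat = m →
      ∀ t : F, C.c2.xA (fd.n - 1 - r) t ∈ D.parabolicSubgroup F J := by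
  induction m using Nat.strong_induction_on with
  | _ m ih =>
    intro r hr hpos hJ hm t
    obtain ⟨hneg, hdesc⟩ := fd.desc_spec hd r hr
    rcases hdesc hpos with ⟨j, hj, hjr⟩ | ⟨j, hj, hc, hpr, hpos'⟩
    · -- `r` is the fundamental root `p_j`
      have hjJ : j ∈ J := by
        by_contra hn
        have := hJ j hj hn
        rw [← hjr, (fd.simple_spec C.c2.simple j hj).2.2 j hj] at this
        simp at this
      obtain ⟨e1, e2, e3⟩ := fd.neg_spec C.c2.neg r hr
      have key := C.c2.nG_conj_x (F := F) r r hr hr e3 (-t)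
      rw [e1, e2] at key
      have e5 : (((-1 : ℤ) : ℤ) : F) * (-t) = t := by push_cast; ring
      rw [e5] at key
      rw [← key]
      have m1 : C.c2.nG (F := F) r hr ∈ D.parabolicSubgroup F J := by
        have := C.nG_simple_mem_parabolic (F := F) J j hj hjJ
        have e : C.c2.nG (F := F) (fd.simples.getD j 0) (C.c2.simple_lt j hj) = C.c2.nG r hr := by
          apply gl_ext; rw [C.c2.nG_val, C.c2.nG_val, hjr]
        rwa [e] at this
      exact mul_mem (mul_mem m1 (C.xA_pos_mem_parabolic J r hr hpos _)) (inv_mem m1)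
    · -- descend by the reflection `w_j`
      have hjJ : j ∈ J := by
        by_contra hn; exact hc (hJ j hj hn)
      have hp := C.c2.simple_lt j hj
      have hr' : fd.n - 1 - r < fd.n := by omega
      set s := fd.nw fx (fd.simples.getD j 0) (fd.n - 1 - r) with hs
      have hsn : s < fd.n := (fd.nw_spec C.c2.chk.nn _ _ hp hr').1
      -- the coroot of `s`
      have prneg : fd.pr (fd.simples.getD j 0) (fd.n - 1 - r) = - fd.pr (fd.simples.getD j 0) r := by
        unfold FD.pr
        rw [listsum_eq, listsum_eq, ← Finset.sum_neg_distrib]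
        apply Finset.sum_congr rfl
        intro i hi
        rw [hneg i (Finset.mem_range.mp hi)]; ring
      have cors : ∀ k < fd.l, fd.corZ s k = - (fd.corZ r k - fd.pr (fd.simples.getD j 0) r *
          fd.corZ (fd.simples.getD j 0) k) := by
        intro k hk
        rw [hs, (fd.sim_spec C.c2.sim j _ hj hr').2.2.2.2.2 k hk, prneg, hneg k hk]; ring
      have corw : ∀ k < fd.l, fd.corZ (fd.nw fx (fd.simples.getD j 0) r) k = fd.corZ r k -
          fd.pr (fd.simples.getD j 0) r * fd.corZ (fd.simples.getD j 0) k :=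
        fun k hk => (fd.sim_spec C.c2.sim j _ hj hr).2.2.2.2.2 k hk
      have hwn : fd.nw fx (fd.simples.getD j 0) r < fd.n := (fd.nw_spec C.c2.chk.nn _ _ hp hr).1
      -- `r'' = -s` is a positive root of `Φ_J` of smaller coroot height
      have hr2 : fd.n - 1 - s < fd.n := by omega
      obtain ⟨hneg2, _⟩ := fd.desc_spec hd s hsn
      have cor2 : ∀ k < fd.l, fd.corZ (fd.n - 1 - s) k = fd.corZ (fd.nw fx (fd.simples.getD j 0) r) k := by
        intro k hk; rw [hneg2 k hk, cors k hk, corw k hk]; ring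
      have pos2 : fd.n / 2 ≤ fd.n - 1 - s := by
        rw [C.pos_iff_cor _ hr2]
        intro k hk
        rw [cor2 k hk]
        exact (C.pos_iff_cor _ hwn).mp hpos' k hk
      have hJ2 : ∀ i < fd.l, i ∉ J → fd.corZ (fd.n - 1 - s) i = 0 := by
        intro i hi hiJ
        rw [cor2 i hi, corw i hi, hJ i hi hiJ, (fd.simple_spec C.c2.simple j hj).2.2 i hi]
        have : j ≠ i := fun h => hiJ (h ▸ hjJ)
        simp [this]
      have hH : fd.coH (fd.n - 1 - s) = fd.coH r - fd.pr (fd.simples.getD j 0) r := by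
        unfold FD.coH
        have e1 : ∀ k ∈ Finset.range fd.l, fd.corZ (fd.n - 1 - s) k = fd.corZ r k -
            fd.pr (fd.simples.getD j 0) r * (if j = k then 1 else 0) := by
          intro k hk
          have hk' := Finset.mem_range.mp hk
          rw [cor2 k hk', corw k hk', (fd.simple_spec C.c2.simple j hj).2.2 k hk']
        rw [Finset.sum_congr rfl e1, Finset.sum_sub_distrib, ← Finset.mul_sum]
        simp [Finset.sum_ite_eq, hj]
      have hH0 : 0 ≤ fd.coH (fd.n - 1 - s) := by
        unfold FD.coH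
        apply Finset.sum_nonneg
        intro k hk
        exact (C.pos_iff_cor _ hr2).mp pos2 k (Finset.mem_range.mp hk)
      have hlt : (fd.coH (fd.n - 1 - s)).toNat < m := by
        rw [← hm]
        apply (Int.toNat_lt_toNat (by linarith)).mpr
        linarith
      have ih' := ih _ hlt (fd.n - 1 - s) hr2 pos2 hJ2 rfl
      have e4 : fd.n - 1 - (fd.n - 1 - s) = s := Nat.sub_sub_self (Nat.le_pred_of_lt hsn)
      rw [e4] at ih'
      -- conjugate back
      have key := C.c2.nG_conj_x (F := F) _ _ hp hr' (fd.conj_spec C.conj j _ hj hr') t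
      rw [← hs] at key
      have m1 := C.nG_simple_mem_parabolic (F := F) J j hj hjJ
      have : C.c2.xA (fd.n - 1 - r) t =
          (C.c2.nG (F := F) (fd.simples.getD j 0) hp)⁻¹ *
            C.c2.xA s (((fd.neta fx (fd.simples.getD j 0) (fd.n - 1 - r) : ℤ) : F) * t) *
            C.c2.nG (fd.simples.getD j 0) hp := by
        rw [← key]; group
      rw [this]
      exact mul_mem (mul_mem (inv_mem m1) (ih' _)) m1

/-- `P_J = ⟨H, X_r : r ∈ Φ⁺ ∪ Φ_J⟩` -/
theorem parabolic_eq (hd : fd.ChkDesc fx) (J : Set ℕ) :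
    D.parabolicSubgroup F J = D.diagonalSubgroup F ⊔
      Subgroup.closure {g : GL D.Idx F | ∃ (r : ℕ) (t : F), (D.IsPosRoot r ∨ D.InRootSub J r) ∧
        (g : Matrix D.Idx D.Idx F) = D.x F r t} := by
  apply le_antisymm
  · unfold ChevalleyDatum.parabolicSubgroup
    apply sup_le
    · unfold ChevalleyDatum.borelSubgroup
      apply sup_le
      · apply le_trans _ (le_sup_right : _ ≤ D.diagonalSubgroup F ⊔ _)
        unfold ChevalleyDatum.posUnipotent
        apply Subgroup.closure_mono
        rintro g ⟨r, t, hr, hg⟩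
        exact ⟨r, t, Or.inl hr, hg⟩
      · exact le_sup_left
    · rw [Subgroup.closure_le]
      rintro g ⟨j, hjJ, hj, hg⟩
      have hj' : j < fd.l := by rw [← C.c2.rank_eq]; exact hj
      have hp := C.c2.simple_lt j hj'
      rw [C.c2.agrees.simple_eq] at hg
      rw [SetLike.mem_coe, C.c2.eq_nG g _ hp hg]
      apply (le_sup_right : _ ≤ D.diagonalSubgroup F ⊔ _)
      -- `n_p = x_p(1) x_{-p}(-1) x_p(1)`
      have m1 : ∀ t : F, xG C.c2.agrees C.c2.chk.add (fd.simples.getD j 0) hp t ∈
          Subgroup.closure {g : GL D.Idx F | ∃ (r : ℕ) (t : F), (D.IsPosRoot r ∨ D.InRootSub J r) ∧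
            (g : Matrix D.Idx D.Idx F) = D.x F r t} := by
        intro t
        apply Subgroup.subset_closure
        refine ⟨_, t, Or.inl ?_, C.c2.xG_val _ hp t⟩
        rw [isPos_iff C.c2.agrees C.c2.lev]
        refine ⟨hp, ?_⟩
        rw [C.pos_iff_cor _ hp]
        intro i hi
        rw [(fd.simple_spec C.c2.simple j hj').2.2 i hi]
        split_ifs <;> norm_num
      have m2 : xG (F := F) C.c2.agrees C.c2.chk.add (fd.n - 1 - fd.simples.getD j 0) (by omega) (-1) ∈
          Subgroup.closure {g : GL D.Idx F | ∃ (r : ℕ) (t : F), (D.IsPosRoot r ∨ D.InRootSub J r) ∧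
            (g : Matrix D.Idx D.Idx F) = D.x F r t} := by
        apply Subgroup.subset_closure
        refine ⟨_, -1, Or.inr ?_, C.c2.xG_val _ (by omega) _⟩
        rw [C.inRootSub_iff]
        refine ⟨by omega, fun i hi hiJ => ?_⟩
        rw [(fd.desc_spec hd _ hp).1 i hi, (fd.simple_spec C.c2.simple j hj').2.2 i hi]
        have : j ≠ i := fun h => hiJ (h ▸ hjJ)
        simp [this]
      exact mul_mem (mul_mem (m1 1) m2) (m1 1)
  · apply sup_le
    · unfold ChevalleyDatum.parabolicSubgroup ChevalleyDatum.borelSubgroup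
      exact le_trans le_sup_right le_sup_left
    · rw [Subgroup.closure_le]
      rintro g ⟨r, t, hr, hg⟩
      have hgx : g = C.c2.xA r t := gl_ext (by rw [hg, C.c2.xA_val])
      rw [SetLike.mem_coe, hgx]
      by_cases hpos : D.IsPosRoot r
      · obtain ⟨h1, h2⟩ := (isPos_iff C.c2.agrees C.c2.lev r).mp hpos
        exact C.xA_pos_mem_parabolic J r h1 h2 t
      · have hJ : D.InRootSub J r := by
          rcases hr with h | h
          · exact absurd h hpos
          · exact h
        obtain ⟨hr1, hJ1⟩ := (C.inRootSub_iff J r).mp hJ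
        have hneg : r < fd.n / 2 := by
          by_contra hge
          exact hpos ((isPos_iff C.c2.agrees C.c2.lev r).mpr ⟨hr1, by omega⟩)
        have hev := C.c2.heven
        have hr2 : fd.n - 1 - r < fd.n := by omega
        have hpos2 : fd.n / 2 ≤ fd.n - 1 - r := by omega
        have hJ2 : ∀ i < fd.l, i ∉ J → fd.corZ (fd.n - 1 - r) i = 0 := by
          intro i hi hiJ
          rw [(fd.desc_spec hd r hr1).1 i hi, hJ1 i hi hiJ, neg_zero]
        have := C.xA_neg_mem_parabolic (F := F) hd J _ (fd.n - 1 - r) hr2 hpos2 hJ2 rfl t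
        have e : fd.n - 1 - (fd.n - 1 - r) = r := by omega
        rwa [e] at this

end Cert3

end Cfsg.Agent.Lib.H29.Chev
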