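import Mathlib
import Cfsg.Prelude.Def_ChevStructure
import Cfsg.Agent.Lib.H29.ChevGen5
import Cfsg.Agent.Lib.H29.ChevFast5

/-!
# Vectors with polynomial coefficients: soundness of the direct check of the commutator formula
-/

set_option autoImplicit false
set_option linter.unusedSectionVars false
set_option linter.unusedSimpArgs false
set_option linter.unusedVariables false

namespace Cfsg.Agent.Lib.H29.Chev

open Cfsg.Lie Matrix

variable {D : ChevalleyDatum} {fd : FD} {fx : FX} {F : Type*} [Field F]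

/-- the value of a polynomial vector at `(t, u)` -/
def pvEv (D : ChevalleyDatum) (t u : F) (v : PV) : D.Idx → F := fun i =>
  (v.map fun e => if e.1 = code D i then ((e.2.2.2 : ℤ) : F) * t ^ e.2.1 * u ^ e.2.2.1 else 0).sum

theorem pvEv_nil (t u : F) : pvEv D t u [] = 0 := by
  funext i; simp [pvEv]

theorem pvEv_cons (t u : F) (e : ℕ × ℕ × ℕ × ℤ) (v : PV) (i : D.Idx) :
    pvEv D t u (e :: v) i =
      (if e.1 = code D i then ((e.2.2.2 : ℤ) : F) * t ^ e.2.1 * u ^ e.2.2.1 else 0) + pvEv D t u v i := by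
  simp [pvEv]

theorem pvEv_append (t u : F) (v w : PV) : pvEv D t u (v ++ w) = pvEv D t u v + pvEv D t u w := by
  funext i; simp [pvEv]

/-- a column scaled by a monomial -/
theorem pvEv_map_col (t u : F) (L : SV) (A B : ℕ) (z ck : ℤ) (i : D.Idx) :
    pvEv D t u (L.map fun q => (q.1, A, B, z * q.2 * ck)) i =
      ((z : ℤ) : F) * ((ck : ℤ) : F) * t ^ A * u ^ B * ((SV.get L (code D i) : ℤ) : F) := by
  induction L with
  | nil => simp [pvEv]
  | cons q L ih =>
    rw [List.map_cons, pvEv_cons, ih, SV.get_cons]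
    by_cases h : q.1 = code D i
    · simp only [h, if_true]; push_cast; ring
    · simp only [h, if_false]; push_cast; ring

theorem XR_apply (h : Agrees D fd) (γ : ℕ) (hγ : γ < fd.n) (m : F) (i j : D.Idx) :
    XR D F γ m i j = ((SV.get (fd.colA γ 0 (code D j)) (code D i) : ℤ) : F) +
      m * ((SV.get (fd.colA γ 1 (code D j)) (code D i) : ℤ) : F) +
      m ^ 2 * ((SV.get (fd.colA γ 2 (code D j)) (code D i) : ℤ) : F) +
      m ^ 3 * ((SV.get (fd.colA γ 3 (code D j)) (code D i) : ℤ) : F) := by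
  unfold XR aR
  simp only [Matrix.add_apply, Matrix.smul_apply, Matrix.map_apply, smul_eq_mul, Int.coe_castRingHom]
  rw [Ak_apply h γ 1 hγ, Ak_apply h γ 2 hγ, Ak_apply h γ 3 hγ]
  congr 3
  have : fd.colA γ 0 (code D j) = [(code D j, 1)] := by simp [FD.colA]
  rw [this, SV.get_cons, SV.get_nil, add_zero]
  by_cases hij : i = j
  · subst hij; simp
  · have : ¬ code D j = code D i := fun he => hij (code_injective D he.symm)
    simp [hij, this]

/-- the effect of `pvX` on a single entry -/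
theorem pvEv_pvX_single (h : Agrees D fd) (γ : ℕ) (hγ : γ < fd.n) (C : ℤ) (a b : ℕ) (t u : F)
    (e : ℕ × ℕ × ℕ × ℤ) (he : e.1 < fd.l + fd.n) :
    pvEv D t u (fd.pvX γ C a b [e]) =
      (XR D F γ ((C : F) * t ^ a * u ^ b)).mulVec (pvEv D t u [e]) := by
  obtain ⟨j₀, hj₀⟩ := code_surj D e.1 (by rw [h.hl, h.hn]; exact he)
  funext i
  have rhs : (XR D F γ ((C : F) * t ^ a * u ^ b)).mulVec (pvEv D t u [e]) i =
      XR D F γ ((C : F) * t ^ a * u ^ b) i j₀ * (((e.2.2.2 : ℤ) : F) * t ^ e.2.1 * u ^ e.2.2.1) := by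
    rw [Matrix.mulVec, dotProduct, Finset.sum_eq_single j₀]
    · rw [pvEv_cons, pvEv_nil, if_pos hj₀.symm]; simp
    · intro j _ hj
      have : ¬ e.1 = code D j := fun he' => hj (code_injective D (by rw [← he', hj₀]))
      rw [pvEv_cons, pvEv_nil, if_neg this]; simp
    · intro hh; exact absurd (Finset.mem_univ _) hh
  rw [rhs, XR_apply h γ hγ, hj₀]
  unfold FD.pvX
  simp only [List.flatMap_cons, List.flatMap_nil, List.append_nil, pvEv_append, Pi.add_apply]
  rw [pvEv_map_col, pvEv_map_col, pvEv_map_col, pvEv_map_col]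
  push_cast
  ring

theorem pvX_cons (γ : ℕ) (C : ℤ) (a b : ℕ) (e : ℕ × ℕ × ℕ × ℤ) (v : PV) :
    fd.pvX γ C a b (e :: v) = fd.pvX γ C a b [e] ++ fd.pvX γ C a b v := by
  simp [FD.pvX]

/-- boundedness of the indices of a polynomial vector -/
def pvBdd (N : ℕ) (v : PV) : Prop := ∀ e ∈ v, e.1 < N

theorem pvBdd_pvX (hc : fd.ChkAdd) (γ : ℕ) (hγ : γ < fd.n) (C : ℤ) (a b : ℕ) (v : PV)
    (hv : pvBdd (fd.l + fd.n) v) : pvBdd (fd.l + fd.n) (fd.pvX γ C a b v) := by
  intro e' he'
  unfold FD.pvX at he'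
  rw [List.mem_flatMap] at he'
  obtain ⟨e, hev, he'⟩ := he'
  rw [List.mem_flatMap] at he'
  obtain ⟨k, hk, he'⟩ := he'
  obtain ⟨q, hq, rfl⟩ := List.mem_map.mp he'
  have hek := hv e hev
  simp only [List.mem_cons, List.not_mem_nil, or_false] at hk
  rcases hk with rfl | hk
  · have : fd.colA γ 0 e.1 = [(e.1, 1)] := by simp [FD.colA]
    rw [this, List.mem_singleton] at hq
    rw [hq]; exact hek
  · have hb := fd.colA_bdd hc γ k e.1 hγ hk hek
    simp only [SV.bdd, List.all_eq_true, decide_eq_true_eq] at hb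
    exact hb q hq

theorem pvEv_pvX (h : Agrees D fd) (γ : ℕ) (hγ : γ < fd.n) (C : ℤ) (a b : ℕ) (t u : F) (v : PV)
    (hv : pvBdd (fd.l + fd.n) v) :
    pvEv D t u (fd.pvX γ C a b v) = (XR D F γ ((C : F) * t ^ a * u ^ b)).mulVec (pvEv D t u v) := by
  induction v with
  | nil =>
    have : fd.pvX γ C a b [] = [] := by simp [FD.pvX]
    rw [this, pvEv_nil, Matrix.mulVec_zero]
  | cons e v ih =>
    have hv' : pvBdd (fd.l + fd.n) v := fun e' he' => hv e' (List.mem_cons_of_mem _ he')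
    have e1 : pvEv D t u (e :: v) = pvEv D t u [e] + pvEv D t u v := by
      rw [← pvEv_append]; rfl
    rw [pvX_cons, pvEv_append, pvEv_pvX_single h γ hγ C a b t u e (hv e List.mem_cons_self), ih hv', e1,
      Matrix.mulVec_add]

/-- the matrix of a word of `x_γ(C t^a u^b)` -/
def wMat (D : ChevalleyDatum) (t u : F) (w : List (ℕ × ℤ × ℕ × ℕ)) : Matrix D.Idx D.Idx F :=
  (w.map fun x => XR D F x.1 (((x.2.1 : ℤ) : F) * t ^ x.2.2.1 * u ^ x.2.2.2)).prod

theorem pvWord_spec (h : Agrees D fd) (hc : fd.ChkAdd) (t u : F) (w : List (ℕ × ℤ × ℕ × ℕ))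
    (hw : ∀ x ∈ w, x.1 < fd.n) (v : PV) (hv : pvBdd (fd.l + fd.n) v) :
    pvBdd (fd.l + fd.n) (fd.pvWord w v) ∧
      pvEv D t u (fd.pvWord w v) = (wMat D t u w).mulVec (pvEv D t u v) := by
  induction w with
  | nil => exact ⟨hv, by simp [FD.pvWord, wMat]⟩
  | cons x w ih =>
    obtain ⟨b1, e1⟩ := ih (fun y hy => hw y (List.mem_cons_of_mem _ hy))
    have hx := hw x List.mem_cons_self
    have e0 : fd.pvWord (x :: w) v = fd.pvX x.1 x.2.1 x.2.2.1 x.2.2.2 (fd.pvWord w v) := rfl
    rw [e0]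
    refine ⟨pvBdd_pvX hc _ hx _ _ _ _ b1, ?_⟩
    rw [pvEv_pvX h _ hx _ _ _ t u _ b1, e1, Matrix.mulVec_mulVec]
    unfold wMat
    rw [List.map_cons, List.prod_cons]

theorem pvGet_cons (e : ℕ × ℕ × ℕ × ℤ) (v : PV) (i a b : ℕ) :
    FD.pvGet (e :: v) i a b =
      (bif Nat.beq e.1 i && Nat.beq e.2.1 a && Nat.beq e.2.2.1 b then e.2.2.2 else 0) + FD.pvGet v i a b := rfl

/-- grouping the entries of a polynomial vector by their keys -/
theorem pvEv_eq_sum (t u : F) (v : PV) (K : Finset (ℕ × ℕ × ℕ))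
    (hK : ∀ e ∈ v, (e.1, e.2.1, e.2.2.1) ∈ K) (i : D.Idx) :
    pvEv D t u v i = ∑ k ∈ K, if k.1 = code D i then
      ((FD.pvGet v k.1 k.2.1 k.2.2 : ℤ) : F) * t ^ k.2.1 * u ^ k.2.2 else 0 := by
  induction v with
  | nil => simp [pvEv, FD.pvGet]
  | cons e v ih =>
    have hK' : ∀ e' ∈ v, (e'.1, e'.2.1, e'.2.2.1) ∈ K := fun e' he' => hK e' (List.mem_cons_of_mem _ he')
    rw [pvEv_cons, ih hK']
    have hek := hK e List.mem_cons_self
    have split : ∀ k ∈ K, (if k.1 = code D i then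
        ((FD.pvGet (e :: v) k.1 k.2.1 k.2.2 : ℤ) : F) * t ^ k.2.1 * u ^ k.2.2 else 0) =
        (if k = (e.1, e.2.1, e.2.2.1) then
          (if e.1 = code D i then ((e.2.2.2 : ℤ) : F) * t ^ e.2.1 * u ^ e.2.2.1 else 0) else 0) +
        (if k.1 = code D i then ((FD.pvGet v k.1 k.2.1 k.2.2 : ℤ) : F) * t ^ k.2.1 * u ^ k.2.2 else 0) := by
      intro k _
      rw [pvGet_cons]
      by_cases hk : k = (e.1, e.2.1, e.2.2.1)
      · subst hk
        have : (Nat.beq e.1 e.1 && Nat.beq e.2.1 e.2.1 && Nat.beq e.2.2.1 e.2.2.1) = true := by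
          simp [natBeq_iff]
        simp only [this, cond_true, if_true]
        by_cases hi : e.1 = code D i
        · simp only [hi, if_true]; push_cast; ring
        · simp only [hi, if_false, add_zero]
      · have : (Nat.beq e.1 k.1 && Nat.beq e.2.1 k.2.1 && Nat.beq e.2.2.1 k.2.2) = false := by
          rw [← Bool.not_eq_true]
          simp only [Bool.and_eq_true, natBeq_iff]
          rintro ⟨⟨h1, h2⟩, h3⟩
          apply hk
          exact Prod.ext h1.symm (Prod.ext h2.symm h3.symm)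
        simp only [this, cond_false, hk, if_false, zero_add]
    rw [Finset.sum_congr rfl split, Finset.sum_add_distrib, Finset.sum_ite_eq' K, if_pos hek]

theorem pvEq_sound (t u : F) (v w : PV) (hvw : FD.pvEq v w = true) : pvEv D t u v = pvEv D t u w := by
  classical
  funext i
  set K : Finset (ℕ × ℕ × ℕ) := ((v ++ w).map fun e => (e.1, e.2.1, e.2.2.1)).toFinset with hK
  have hKv : ∀ e ∈ v, (e.1, e.2.1, e.2.2.1) ∈ K := by
    intro e he
    rw [hK, List.mem_toFinset]
    exact List.mem_map.mpr ⟨e, List.mem_append_left _ he, rfl⟩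
  have hKw : ∀ e ∈ w, (e.1, e.2.1, e.2.2.1) ∈ K := by
    intro e he
    rw [hK, List.mem_toFinset]
    exact List.mem_map.mpr ⟨e, List.mem_append_right _ he, rfl⟩
  rw [pvEv_eq_sum t u v K hKv, pvEv_eq_sum t u w K hKw]
  apply Finset.sum_congr rfl
  intro k hk
  rw [hK, List.mem_toFinset] at hk
  obtain ⟨e, he, rfl⟩ := List.mem_map.mp hk
  simp only [FD.pvEq, List.all_eq_true, intBeq_iff] at hvw
  rw [hvw e he]

/-- two matrices with the same columns are equal -/
theorem mat_eq_of_cols (h : Agrees D fd) (M M' : Matrix D.Idx D.Idx F) (t u : F)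
    (hc : ∀ c < fd.l + fd.n, M.mulVec (pvEv D t u [(c, 0, 0, 1)]) = M'.mulVec (pvEv D t u [(c, 0, 0, 1)])) :
    M = M' := by
  ext i j
  have hj : code D j < fd.l + fd.n := by rw [← h.hl, ← h.hn]; exact code_lt D j
  have e : pvEv D t u [(code D j, 0, 0, 1)] = Pi.single j 1 := by
    funext k
    rw [pvEv_cons, pvEv_nil]
    by_cases hjk : j = k
    · subst hjk; simp
    · have : ¬ code D j = code D k := fun he => hjk (code_injective D he)
      simp [this, Pi.single_eq_of_ne (Ne.symm hjk)]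
  have := congrFun (hc _ hj) i
  rw [e, Matrix.mulVec_single, Matrix.mulVec_single] at this
  simpa using this

/-- soundness of the direct check -/
theorem chkBase_sound (h : Agrees D fd) (hc : fd.ChkAdd) (r s : ℕ) (hr : r < fd.n) (hs : s < fd.n)
    (hb : fd.chkBase r s = true) (t u : F) :
    XR D F s u * XR D F r t = XR D F r t * XR D F s u *
      ((fd.commT r s).map fun c => XR D F c.1 (((c.2.1 : ℤ) : F) * (-t) ^ c.2.2.1 * u ^ c.2.2.2)).prod := by
  simp only [FD.chkBase, Bool.and_eq_true, List.all_eq_true, List.mem_range, natBlt_iff] at hb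
  obtain ⟨hct, hcols⟩ := hb
  have hl : ∀ x ∈ FD.lhsW r s, x.1 < fd.n := by
    intro x hx
    simp only [FD.lhsW, List.mem_cons, List.not_mem_nil, or_false] at hx
    rcases hx with rfl | rfl
    · exact hs
    · exact hr
  have hrw : ∀ x ∈ fd.rhsW r s, x.1 < fd.n := by
    intro x hx
    simp only [FD.rhsW, List.mem_cons, List.mem_map] at hx
    rcases hx with rfl | rfl | ⟨c, hc', rfl⟩
    · exact hr
    · exact hs
    · exact hct c hc'
  have key : wMat D t u (FD.lhsW r s) = wMat D t u (fd.rhsW r s) := by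
    apply mat_eq_of_cols h _ _ t u
    intro c hcn
    have hv : pvBdd (fd.l + fd.n) [(c, 0, 0, 1)] := by
      intro e he; rw [List.mem_singleton] at he; rw [he]; exact hcn
    rw [← (pvWord_spec h hc t u _ hl _ hv).2, ← (pvWord_spec h hc t u _ hrw _ hv).2]
    exact pvEq_sound t u _ _ (hcols c hcn)
  have e1 : wMat D t u (FD.lhsW r s) = XR D F s u * XR D F r t := by
    simp [wMat, FD.lhsW]
  have e2 : wMat D t u (fd.rhsW r s) = XR D F r t * XR D F s u *
      ((fd.commT r s).map fun c => XR D F c.1 (((c.2.1 : ℤ) : F) * (-t) ^ c.2.2.1 * u ^ c.2.2.2)).prod := by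
    unfold wMat FD.rhsW
    rw [List.map_cons, List.map_cons, List.prod_cons, List.prod_cons, List.map_map, ← Matrix.mul_assoc]
    congr 2
    · simp
    · simp
    · apply List.map_congr_left
      intro c _
      simp only [Function.comp]
      congr 1
      push_cast
      rw [neg_pow t]
      ring
  rw [← e1, ← e2, key]

end Cfsg.Agent.Lib.H29.Chev
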