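import Mathlib
import Cfsg.Prelude.Def_ChevStructure
import Cfsg.Agent.Lib.H29.ChevGen13
import Cfsg.Agent.Lib.H29.ChevGen19

/-!
# Chevalley's commutator formula from the checks

The formula for a pair `(w_p a, w_p b)` follows from that for `(a, b)` by conjugating with `n_p`; the base pairs are
verified directly.
-/

set_option autoImplicit false
set_option linter.unusedSectionVars false
set_option linter.unusedSimpArgs false
set_option linter.unusedVariables false

namespace Cfsg.Agent.Lib.H29.Chev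

open Cfsg.Lie Matrix

variable {D : ChevalleyDatum} {fd : FD} {fx : FX} {fc : FC} {F : Type*} [Field F]

theorem ctBeq_iff (l l' : List (ℕ × ℤ × ℕ × ℕ)) : FD.ctBeq l l' = true ↔ l = l' := by
  induction l generalizing l' with
  | nil => cases l' <;> simp [FD.ctBeq]
  | cons a l ih =>
    cases l' with
    | nil => simp [FD.ctBeq]
    | cons b l' =>
      simp only [FD.ctBeq, Bool.and_eq_true, natBeq_iff, intBeq_iff, ih, List.cons.injEq]
      constructor
      · rintro ⟨⟨⟨⟨h1, h2⟩, h3⟩, h4⟩, h5⟩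
        exact ⟨Prod.ext h1 (Prod.ext h2 (Prod.ext h3 h4)), h5⟩
      · rintro ⟨rfl, rfl⟩; simp

theorem Agrees.chainRoot_eq (h : Agrees D fd) (r s i : ℕ) (hr : r < fd.n) (hs : s < fd.n) :
    D.chainRoot r s i = fd.cR r s i := by
  unfold ChevalleyDatum.chainRoot FD.cR; rw [h.chainEntry_eq r s hr hs]

theorem Agrees.chainM_eq (h : Agrees D fd) (r s i : ℕ) (hr : r < fd.n) (hs : s < fd.n) :
    D.chainM r s i = fd.cM r s i := by
  unfold ChevalleyDatum.chainM FD.cM; rw [h.chainEntry_eq r s hr hs]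

theorem FD.cR_lt (r s i k : ℕ) (hb : ∀ e ∈ fd.chainL r s, e.1 < fd.n) (hk : fd.cR r s i = some k) :
    k < fd.n := by
  unfold FD.cR at hk
  rw [Option.map_eq_some_iff] at hk
  obtain ⟨e, he, rfl⟩ := hk
  exact hb e (List.mem_of_getElem? he)

theorem Agrees.commTerms_eq (h : Agrees D fd) (r s : ℕ) (hr : r < fd.n) (hs : s < fd.n)
    (hb1 : ∀ e ∈ fd.chainL r s, e.1 < fd.n) (hb2 : ∀ e ∈ fd.chainL s r, e.1 < fd.n) :
    D.commTerms r s = fd.commT r s := by
  have e1 : ((fd.cR r s 3).bind fun k => D.chainRoot k s 1) = (fd.cR r s 3).bind fun k => fd.cR k s 1 := by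
    cases hk : fd.cR r s 3 with
    | none => rfl
    | some k =>
      simp only [Option.bind_some]
      exact h.chainRoot_eq k s 1 (fd.cR_lt r s 3 k hb1 hk) hs
  have e2 : ((fd.cR s r 3).bind fun k => D.chainRoot k r 1) = (fd.cR s r 3).bind fun k => fd.cR k r 1 := by
    cases hk : fd.cR s r 3 with
    | none => rfl
    | some k =>
      simp only [Option.bind_some]
      exact h.chainRoot_eq k r 1 (fd.cR_lt s r 3 k hb2 hk) hr
  have e3 : ((fd.cR r s 1).map fun k => D.chainM k r 2 / 3) = (fd.cR r s 1).map fun k => fd.cM k r 2 / 3 := by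
    cases hk : fd.cR r s 1 with
    | none => rfl
    | some k =>
      simp only [Option.map_some]
      rw [h.chainM_eq k r 2 (fd.cR_lt r s 1 k hb1 hk) hr]
  have e4 : ((fd.cR r s 1).map fun k => -2 * D.chainM k s 2 / 3) =
      (fd.cR r s 1).map fun k => -2 * fd.cM k s 2 / 3 := by
    cases hk : fd.cR r s 1 with
    | none => rfl
    | some k =>
      simp only [Option.map_some]
      rw [h.chainM_eq k s 2 (fd.cR_lt r s 1 k hb1 hk) hs]
  unfold ChevalleyDatum.commTerms FD.commT
  simp only [h.chainRoot_eq r s _ hr hs, h.chainRoot_eq s r _ hs hr, h.chainM_eq r s _ hr hs,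
    h.chainM_eq s r _ hs hr, e1, e2, e3, e4]

namespace Cert2

variable (C : Cert2 D fd fx)

/-- the product on the right of the commutator formula -/
noncomputable def ctG (L : List (ℕ × ℤ × ℕ × ℕ)) (t u : F) : GL D.Idx F :=
  (L.map fun c => C.xA c.1 (((c.2.1 : ℤ) : F) * (-t) ^ c.2.2.1 * u ^ c.2.2.2)).prod

/-- the commutator formula for the pair `(r, s)` -/
def CFG (F : Type*) [Field F] (r s : ℕ) : Prop :=
  ∀ t u : F, C.xA s u * C.xA r t = C.xA r t * C.xA s u * C.ctG (fd.commT r s) t u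

theorem ctG_val (L : List (ℕ × ℤ × ℕ × ℕ)) (t u : F) :
    ((C.ctG L t u : GL D.Idx F) : Matrix D.Idx D.Idx F) =
      D.wordMat F (L.map fun c => (c.1, ((c.2.1 : ℤ) : F) * (-t) ^ c.2.2.1 * u ^ c.2.2.2)) := by
  rw [← C.wordG_val]
  unfold ctG wordG
  rw [List.map_map]
  rfl

/-- the formula for a pair verified directly -/
theorem cfg_base (r s : ℕ) (hr : r < fd.n) (hs : s < fd.n) (hb : fd.chkBase r s = true) : C.CFG F r s := by
  intro t u
  have hct : ∀ c ∈ fd.commT r s, c.1 < fd.n := by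
    simp only [FD.chkBase, Bool.and_eq_true, List.all_eq_true, List.mem_range, natBlt_iff] at hb
    exact hb.1
  apply gl_ext
  rw [Units.val_mul, Units.val_mul, Units.val_mul, C.xA_val, C.xA_val, C.ctG_val, x_eq_XR C.agrees r hr,
    x_eq_XR C.agrees s hs, chkBase_sound C.agrees C.chk.add r s hr hs hb t u]
  congr 1
  unfold ChevalleyDatum.wordMat
  rw [List.map_map]
  congr 1
  apply List.map_congr_left
  intro c hc
  simp only [Function.comp]
  rw [x_eq_XR C.agrees c.1 (hct c hc)]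

end Cert2

namespace Cert3

variable (C : Cert3 D fd fx)

/-- transport of the commutator formula by a fundamental reflection -/
theorem cf_transport (i a b : ℕ) (hi : i < fd.l) (ha : a < fd.n) (hb : b < fd.n)
    (hT : ∀ c ∈ fd.commT a b, c.1 < fd.n) (hcf : C.c2.CFG F a b)
    (hcm : fd.cmpt fx (fd.simples.getD i 0) a b = true) :
    C.c2.CFG F (fd.nw fx (fd.simples.getD i 0) a) (fd.nw fx (fd.simples.getD i 0) b) ∧
      ∀ c ∈ fd.commT (fd.nw fx (fd.simples.getD i 0) a) (fd.nw fx (fd.simples.getD i 0) b), c.1 < fd.n := by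
  have hp := C.c2.simple_lt i hi
  set p := fd.simples.getD i 0 with hpdef
  have hconj : ∀ s, s < fd.n → ∀ u : F, C.c2.nG p hp * C.c2.xA s u * (C.c2.nG p hp)⁻¹ =
      C.c2.xA (fd.nw fx p s) (((fd.neta fx p s : ℤ) : F) * u) :=
    fun s hs u => C.c2.nG_conj_x p s hp hs (fd.conj_spec C.conj i s hi hs) u
  unfold FD.cmpt at hcm
  rw [ctBeq_iff] at hcm
  constructor
  · intro t' u'
    have hη : ∀ s, ((fd.neta fx p s : ℤ) : F) * ((fd.neta fx p s : ℤ) : F) = 1 := by
      intro s
      rw [← Int.cast_mul, fd.neta_sq (fx := fx) p s, Int.cast_one]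
    have key := congrArg (fun x => MulAut.conj (C.c2.nG (F := F) p hp) x)
      (hcf (((fd.neta fx p a : ℤ) : F) * t') (((fd.neta fx p b : ℤ) : F) * u'))
    simp only [map_mul, MulAut.conj_apply] at key
    rw [hconj a ha, hconj b hb, ← mul_assoc, ← mul_assoc, hη, hη, one_mul, one_mul] at key
    rw [key]
    congr 1
    rw [hcm]
    unfold Cert2.ctG
    have hprod : ∀ L : List (GL D.Idx F), C.c2.nG (F := F) p hp * L.prod * (C.c2.nG p hp)⁻¹ =
        (L.map fun x => C.c2.nG (F := F) p hp * x * (C.c2.nG p hp)⁻¹).prod := by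
      intro L
      have := map_list_prod (MulAut.conj (C.c2.nG (F := F) p hp)) L
      simp only [MulAut.conj_apply] at this
      rw [this]
      congr 1
    rw [hprod, List.map_map, List.map_map]
    congr 1
    apply List.map_congr_left
    intro c hc
    simp only [Function.comp]
    rw [hconj c.1 (hT c hc)]
    congr 1
    push_cast
    rw [neg_pow (((fd.neta fx p a : ℤ) : F) * t'), neg_pow t', mul_pow, mul_pow]
    ring
  · intro c hc
    rw [hcm] at hc
    obtain ⟨c', hc', rfl⟩ := List.mem_map.mp hc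
    exact (fd.nw_spec C.c2.chk.nn p c'.1 hp (hT c' hc')).1

/-- what the check says for a pair -/
theorem cf_unpack (hcf : fd.ChkCF fx fc) (r s : ℕ) (hr : r < fd.n) (hs : s < fd.n) (h1 : s ≠ r)
    (h2 : s ≠ fd.n - 1 - r) :
    (∀ e ∈ fd.chainL r s, e.1 < fd.n) ∧ (∀ e ∈ fd.chainL s r, e.1 < fd.n) ∧
      ((fd.ent fc.pq r s >>> 8 = 0 ∧ fd.chkBase r s = true) ∨
        (fd.ent fc.pq r s >>> 8 ≠ 0 ∧ (fd.ent fc.pq r s >>> 8) - 1 < fd.l ∧
          fd.chkStep fx fc (fd.simples.getD ((fd.ent fc.pq r s >>> 8) - 1) 0) r s = true)) := by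
  have hq := hcf (r * fd.n + s) (by nlinarith)
  have e1 : (r * fd.n + s) / fd.n = r := by
    rw [Nat.add_comm, Nat.add_mul_div_right _ _ (by omega), Nat.div_eq_of_lt hs, Nat.zero_add]
  have e2 : (r * fd.n + s) % fd.n = s := by
    rw [Nat.add_comm, Nat.add_mul_mod_self_right, Nat.mod_eq_of_lt hs]
  unfold FD.chkCFQ at hq
  rw [e1, e2] at hq
  have c1 : Nat.beq s r = false := by rw [← Bool.not_eq_true, natBeq_iff]; exact h1
  have c2 : Nat.beq s (fd.n - 1 - r) = false := by rw [← Bool.not_eq_true, natBeq_iff]; exact h2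
  simp only [c1, c2, Bool.or_false, cond_false, Bool.and_eq_true, List.all_eq_true, natBlt_iff] at hq
  obtain ⟨⟨hb1, hb2⟩, hq⟩ := hq
  refine ⟨hb1, hb2, ?_⟩
  by_cases hz : fd.ent fc.pq r s >>> 8 = 0
  · left
    have : Nat.beq (fd.ent fc.pq r s >>> 8) 0 = true := (natBeq_iff _ _).mpr hz
    rw [this, cond_true] at hq
    exact ⟨hz, hq⟩
  · right
    have : Nat.beq (fd.ent fc.pq r s >>> 8) 0 = false := by rw [← Bool.not_eq_true, natBeq_iff]; exact hz
    rw [this, cond_false] at hq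
    simp only [Bool.and_eq_true, natBlt_iff] at hq
    exact ⟨hz, hq.1, hq.2⟩

/-- the commutator formula for all pairs, by induction on the rank of the pair -/
theorem cf_all (hcf : fd.ChkCF fx fc) :
    ∀ m r s, r < fd.n → s < fd.n → s ≠ r → s ≠ fd.n - 1 - r → (fd.ent fc.pq r s &&& 255) = m →
      (∀ c ∈ fd.commT r s, c.1 < fd.n) ∧ C.c2.CFG F r s := by
  intro m
  induction m using Nat.strong_induction_on with
  | _ m ih =>
    intro r s hr hs h1 h2 hm
    obtain ⟨hb1, hb2, hq⟩ := cf_unpack hcf r s hr hs h1 h2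
    rcases hq with ⟨_, hbase⟩ | ⟨_, hi, hst⟩
    · refine ⟨?_, C.c2.cfg_base r s hr hs hbase⟩
      simp only [FD.chkBase, Bool.and_eq_true, List.all_eq_true, List.mem_range, natBlt_iff] at hbase
      exact hbase.1
    · unfold FD.chkStep at hst
      simp only [Bool.and_eq_true, natBlt_iff, natBeq_iff, Bool.not_eq_true', ← Bool.not_eq_true] at hst
      obtain ⟨⟨⟨⟨⟨⟨⟨ha, hb⟩, haa⟩, hbb⟩, hne1⟩, hne2⟩, hrk⟩, hcm⟩ := hst
      rw [hm] at hrk
      obtain ⟨t1, t2⟩ := ih _ hrk _ _ ha hb hne1 hne2 rfl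
      have := C.cf_transport (F := F) _ _ _ hi ha hb t1 t2 hcm
      rw [haa, hbb] at this
      exact ⟨this.2, this.1⟩

end Cert3

/-- all the checks, with those of the commutator formula -/
structure Cert5 (D : ChevalleyDatum) (fd : FD) (fx : FX) (fc : FC) : Prop where
  c3 : Cert3 D fd fx
  cf : fd.ChkCF fx fc

namespace Cert5

variable (C : Cert5 D fd fx fc)
include C

/-- Chevalley's commutator formula -/
theorem comm_formula (r s : ℕ) (hr : r < D.nroots) (hs : s < D.nroots) (hrs : s ≠ r) (hneg : s ≠ D.neg r)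
    (t u : F) :
    D.x F s u * D.x F r t = D.x F r t * D.x F s u * D.wordMat F (D.commWord F r s t u) := by
  have hr' : r < fd.n := by rw [← C.c3.c2.nroots_eq]; exact hr
  have hs' : s < fd.n := by rw [← C.c3.c2.nroots_eq]; exact hs
  have hneg' : s ≠ fd.n - 1 - r := by rw [← C.c3.c2.agrees.neg_eq' r hr']; exact hneg
  obtain ⟨hb1, hb2, _⟩ := Cert3.cf_unpack C.cf r s hr' hs' hrs hneg'
  obtain ⟨_, hcf⟩ := C.c3.cf_all (F := F) C.cf _ r s hr' hs' hrs hneg' rfl
  have := congrArg (fun g : GL D.Idx F => (g : Matrix D.Idx D.Idx F)) (hcf t u)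
  simp only [Units.val_mul, Cert2.xA_val, Cert2.ctG_val] at this
  rw [this]
  unfold ChevalleyDatum.commWord
  rw [C.c3.c2.agrees.commTerms_eq r s hr' hs' hb1 hb2]

end Cert5

end Cfsg.Agent.Lib.H29.Chev
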