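import Mathlib
import Cfsg.Prelude.Def_ChevStructure
import Cfsg.Agent.Lib.H29.ChevGen16
import Cfsg.Agent.Lib.H29.ChevGen17
import Cfsg.Agent.Lib.H29.ChevGen18
import Cfsg.Agent.Lib.H29.ChevGen20
import Cfsg.Agent.Lib.H29.ChevFast6

/-!
# The subgroup `U_p` for a fundamental root `p`

`U_p`, generated by the root subgroups of the positive roots other than `p`, is normalised by `X_p`, `X_{-p}`, `H`
and `n_p`, and `U = U_p X_p`.
-/

set_option autoImplicit false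
set_option linter.unusedSectionVars false
set_option linter.unusedSimpArgs false
set_option linter.unusedVariables false

namespace Cfsg.Agent.Lib.H29.Chev

open Cfsg.Lie Matrix

variable {D : ChevalleyDatum} {fd : FD} {fx : FX} {fc : FC} {F : Type*} [Field F]

/-- `x` is a positive root other than `p` -/
def FD.Pn (fd : FD) (p x : ℕ) : Prop := x < fd.n ∧ fd.n / 2 ≤ x ∧ x ≠ p

theorem FD.posne_iff (p x : ℕ) : fd.posne p x = true ↔ fd.Pn p x := by
  unfold FD.posne FD.Pn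
  simp only [Bool.and_eq_true, natBlt_iff, Bool.not_eq_true', ← Bool.not_eq_true, natBeq_iff, not_lt, and_assoc,
    ne_eq]

/-- what `chkUpI` says -/
theorem FD.up_spec (hu : fd.ChkUp fx) (i : ℕ) (hi : i < fd.l) (s : ℕ) (hs : s < fd.n) :
    fd.nw fx (fd.simples.getD i 0) (fd.n - 1 - s) = fd.n - 1 - fd.nw fx (fd.simples.getD i 0) s ∧
    fd.nw fx (fd.simples.getD i 0) (fd.nw fx (fd.simples.getD i 0) s) = s ∧
    (fd.n / 2 ≤ s → s ≠ fd.simples.getD i 0 →
      fd.Pn (fd.simples.getD i 0) (fd.nw fx (fd.simples.getD i 0) s) ∧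
      (∀ c ∈ fd.commT (fd.simples.getD i 0) s, fd.Pn (fd.simples.getD i 0) c.1) ∧
      (∀ c ∈ fd.commT (fd.n - 1 - fd.simples.getD i 0) s, fd.Pn (fd.simples.getD i 0) c.1)) := by
  have := hu i hi
  simp only [FD.chkUpI, List.all_eq_true, List.mem_range, Bool.and_eq_true, natBeq_iff, Bool.or_eq_true,
    natBlt_iff, FD.posne_iff] at this
  obtain ⟨⟨h1, h2⟩, h3⟩ := this s hs
  refine ⟨h1, h2, fun hpos hne => ?_⟩
  rcases h3 with (h3 | h3) | h3
  · omega
  · exact absurd h3 hne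
  · exact ⟨h3.1.1, h3.1.2, h3.2⟩

/-- all the checks so far -/
structure Cert6 (D : ChevalleyDatum) (fd : FD) (fx : FX) (fc : FC) : Prop where
  c5 : Cert5 D fd fx fc
  desc : fd.ChkDesc fx
  up : fd.ChkUp fx

/-- the generators of `U_p` -/
def UpSet (D : ChevalleyDatum) (F : Type*) [Field F] (p : ℕ) : Set (GL D.Idx F) :=
  {g | ∃ (s : ℕ) (t : F), D.IsPosRoot s ∧ s ≠ p ∧ (g : Matrix D.Idx D.Idx F) = D.x F s t}

/-- the subgroup `U_p` -/
def Up (D : ChevalleyDatum) (F : Type*) [Field F] (p : ℕ) : Subgroup (GL D.Idx F) :=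
  Subgroup.closure (UpSet D F p)

namespace Cert6

variable (C : Cert6 D fd fx fc)
include C

theorem c2 : Cert2 D fd fx := C.c5.c3.c2

theorem isPos_iff (r : ℕ) : D.IsPosRoot r ↔ (r < fd.n ∧ fd.n / 2 ≤ r) :=
  Chev.isPos_iff C.c2.agrees C.c2.lev r

theorem simple_pos (i : ℕ) (hi : i < fd.l) : fd.n / 2 ≤ fd.simples.getD i 0 := by
  rw [C.c5.c3.pos_iff_cor _ (C.c2.simple_lt i hi)]
  intro j hj
  rw [(fd.simple_spec C.c2.simple i hi).2.2 j hj]
  split_ifs <;> norm_num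

theorem xA_mem_Up (p s : ℕ) (hs : fd.Pn p s) (t : F) : C.c2.xA s t ∈ Up D F p :=
  Subgroup.subset_closure ⟨s, t, (C.isPos_iff s).mpr ⟨hs.1, hs.2.1⟩, hs.2.2, C.c2.xA_val s t⟩

theorem eq_xA_of_UpSet (p : ℕ) (g : GL D.Idx F) (hg : g ∈ UpSet D F p) :
    ∃ s t, fd.Pn p s ∧ g = C.c2.xA s t := by
  obtain ⟨s, t, hpos, hne, hg⟩ := hg
  obtain ⟨h1, h2⟩ := (C.isPos_iff s).mp hpos
  exact ⟨s, t, ⟨h1, h2, hne⟩, gl_ext (by rw [hg, C.c2.xA_val])⟩

theorem ctG_mem_Up (p : ℕ) (L : List (ℕ × ℤ × ℕ × ℕ)) (hL : ∀ c ∈ L, fd.Pn p c.1) (t u : F) :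
    C.c2.ctG L t u ∈ Up D F p := by
  unfold Cert2.ctG
  apply Subgroup.list_prod_mem
  intro x hx
  obtain ⟨c, hc, rfl⟩ := List.mem_map.mp hx
  exact C.xA_mem_Up p c.1 (hL c hc) _

/-- the commutator formula in the group -/
theorem cfg (r s : ℕ) (hr : r < fd.n) (hs : s < fd.n) (h1 : s ≠ r) (h2 : s ≠ fd.n - 1 - r) :
    C.c2.CFG F r s :=
  (C.c5.c3.cf_all (F := F) C.c5.cf _ r s hr hs h1 h2 rfl).2

/-- conjugating a generator of `U_p` by `x_{±p}(t)` -/
theorem conj_pm_mem_Up (i : ℕ) (hi : i < fd.l) (r : ℕ)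
    (hr : r = fd.simples.getD i 0 ∨ r = fd.n - 1 - fd.simples.getD i 0) (s : ℕ)
    (hs : fd.Pn (fd.simples.getD i 0) s) (t u : F) :
    (C.c2.xA r t)⁻¹ * C.c2.xA s u * C.c2.xA r t ∈ Up D F (fd.simples.getD i 0) := by
  have hp := C.c2.simple_lt i hi
  have hpp := C.simple_pos i hi
  obtain ⟨hs1, hs2, hs3⟩ := hs
  obtain ⟨_, _, hsp⟩ := fd.up_spec C.up i hi s hs1
  obtain ⟨_, hT1, hT2⟩ := hsp hs2 hs3
  have hev := C.c2.heven
  have key : ∀ (hr' : r < fd.n) (h1 : s ≠ r) (h2 : s ≠ fd.n - 1 - r)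
      (hT : ∀ c ∈ fd.commT r s, fd.Pn (fd.simples.getD i 0) c.1),
      (C.c2.xA r t)⁻¹ * C.c2.xA s u * C.c2.xA r t ∈ Up D F (fd.simples.getD i 0) := by
    intro hr' h1 h2 hT
    have := C.cfg (F := F) r s hr' hs1 h1 h2 t u
    rw [mul_assoc, this, ← mul_assoc, ← mul_assoc, inv_mul_cancel, one_mul]
    exact mul_mem (C.xA_mem_Up _ s ⟨hs1, hs2, hs3⟩ u) (C.ctG_mem_Up _ _ hT t u)
  rcases hr with rfl | rfl
  · exact key hp hs3 (by omega) hT1
  · exact key (by omega) (by omega) (by omega) hT2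

theorem xA_pm_mem_normalizer (i : ℕ) (hi : i < fd.l) (r : ℕ)
    (hr : r = fd.simples.getD i 0 ∨ r = fd.n - 1 - fd.simples.getD i 0) (t : F) :
    C.c2.xA r t ∈ Subgroup.normalizer (Up D F (fd.simples.getD i 0) : Set (GL D.Idx F)) := by
  unfold Up
  apply mem_normalizer_closure
  · intro x hx
    obtain ⟨s, u, hs, rfl⟩ := C.eq_xA_of_UpSet _ x hx
    have := C.conj_pm_mem_Up (F := F) i hi r hr s hs (-t) u
    rw [← C.c2.xA_inv, inv_inv] at this
    exact this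
  · intro x hx
    obtain ⟨s, u, hs, rfl⟩ := C.eq_xA_of_UpSet _ x hx
    exact C.conj_pm_mem_Up (F := F) i hi r hr s hs t u

theorem eq_xA_of_rootSubgroup_gen (r : ℕ) (g : GL D.Idx F) (t : F)
    (hg : (g : Matrix D.Idx D.Idx F) = D.x F r t) : g = C.c2.xA r t :=
  gl_ext (by rw [hg, C.c2.xA_val])

/-- `X_p` and `X_{-p}` normalise `U_p` -/
theorem rootSubgroup_pm_le_normalizer (i : ℕ) (hi : i < fd.l) :
    D.rootSubgroup F (fd.simples.getD i 0) ⊔ D.rootSubgroup F (fd.n - 1 - fd.simples.getD i 0) ≤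
      Subgroup.normalizer (Up D F (fd.simples.getD i 0) : Set (GL D.Idx F)) := by
  apply sup_le
  · unfold ChevalleyDatum.rootSubgroup
    rw [Subgroup.closure_le]
    rintro g ⟨t, hg⟩
    rw [SetLike.mem_coe, C.eq_xA_of_rootSubgroup_gen _ g t hg]
    exact C.xA_pm_mem_normalizer i hi _ (Or.inl rfl) t
  · unfold ChevalleyDatum.rootSubgroup
    rw [Subgroup.closure_le]
    rintro g ⟨t, hg⟩
    rw [SetLike.mem_coe, C.eq_xA_of_rootSubgroup_gen _ g t hg]
    exact C.xA_pm_mem_normalizer i hi _ (Or.inr rfl) t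

/-- `U = U_p ⊔ X_p` -/
theorem Up_sup_rootSubgroup (i : ℕ) (hi : i < fd.l) :
    Up D F (fd.simples.getD i 0) ⊔ D.rootSubgroup F (fd.simples.getD i 0) = D.posUnipotent F := by
  have hp := C.c2.simple_lt i hi
  have hpp := C.simple_pos i hi
  apply le_antisymm
  · apply sup_le
    · unfold Up ChevalleyDatum.posUnipotent
      apply Subgroup.closure_mono
      rintro g ⟨s, t, hpos, _, hg⟩
      exact ⟨s, t, hpos, hg⟩
    · unfold ChevalleyDatum.rootSubgroup ChevalleyDatum.posUnipotent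
      apply Subgroup.closure_mono
      rintro g ⟨t, hg⟩
      exact ⟨_, t, (C.isPos_iff _).mpr ⟨hp, hpp⟩, hg⟩
  · unfold ChevalleyDatum.posUnipotent
    rw [Subgroup.closure_le]
    rintro g ⟨s, t, hpos, hg⟩
    by_cases hsp : s = fd.simples.getD i 0
    · apply (le_sup_right : D.rootSubgroup F (fd.simples.getD i 0) ≤ _)
      apply Subgroup.subset_closure
      exact ⟨t, by rw [hg, hsp]⟩
    · apply (le_sup_left : Up D F (fd.simples.getD i 0) ≤ _)
      apply Subgroup.subset_closure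
      exact ⟨s, t, hpos, hsp, hg⟩

end Cert6

end Cfsg.Agent.Lib.H29.Chev
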