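import Mathlib
import Cfsg.Prelude.Def_ChevStructure
import Cfsg.Agent.Lib.H29.ChevGen11
import Cfsg.Agent.Lib.H29.ChevGen21

/-!
# The minimal parabolic subgroups `B ∪ B n_p B`
-/

set_option autoImplicit false
set_option linter.unusedSectionVars false
set_option linter.unusedSimpArgs false
set_option linter.unusedVariables false

namespace Cfsg.Agent.Lib.H29.Chev

open Cfsg.Lie Matrix

variable {D : ChevalleyDatum} {fd : FD} {fx : FX} {fc : FC} {F : Type*} [Field F]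

theorem conj_inv_of_conj {G : Type*} [Group G] {g a b : G} (h : g * a * g⁻¹ = b) : g⁻¹ * b * g = a := by
  rw [← h]; group

namespace Cert6

variable (C : Cert6 D fd fx fc)
include C

/-- `H` normalises `U_p` -/
theorem diag_le_normalizer_Up (p : ℕ) :
    D.diagonalSubgroup F ≤ Subgroup.normalizer (Up D F p : Set (GL D.Idx F)) := by
  have key : ∀ k ∈ D.diagonalSubgroup F, ∀ x ∈ UpSet D F p, k * x * k⁻¹ ∈ Subgroup.closure (UpSet D F p) := by
    intro k hk x hx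
    obtain ⟨s, u, hs, rfl⟩ := C.eq_xA_of_UpSet p x hx
    have := (C.c2.diag_conj_x k hk).2 ⟨s, by rw [C.c2.nroots_eq]; exact hs.1⟩ u
    rw [this]
    exact C.xA_mem_Up p s hs _
  intro k hk
  unfold Up
  apply mem_normalizer_closure
  · exact key k hk
  · intro x hx
    have := key k⁻¹ (inv_mem hk) x hx
    rwa [inv_inv] at this

/-- `n_p` normalises `U_p` -/
theorem nG_mem_normalizer_Up (i : ℕ) (hi : i < fd.l) :
    C.c2.nG (F := F) (fd.simples.getD i 0) (C.c2.simple_lt i hi) ∈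
      Subgroup.normalizer (Up D F (fd.simples.getD i 0) : Set (GL D.Idx F)) := by
  have hp := C.c2.simple_lt i hi
  unfold Up
  apply mem_normalizer_closure
  · intro x hx
    obtain ⟨s, u, hs, rfl⟩ := C.eq_xA_of_UpSet _ x hx
    rw [C.c2.nG_conj_x _ s hp hs.1 (fd.conj_spec C.c5.c3.conj i s hi hs.1) u]
    obtain ⟨_, _, h3⟩ := fd.up_spec C.up i hi s hs.1
    exact C.xA_mem_Up _ _ (h3 hs.2.1 hs.2.2).1 _
  · intro x hx
    obtain ⟨s, u, hs, rfl⟩ := C.eq_xA_of_UpSet _ x hx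
    obtain ⟨_, h2, h3⟩ := fd.up_spec C.up i hi s hs.1
    have hs' := (h3 hs.2.1 hs.2.2).1
    have key := C.c2.nG_conj_x (F := F) _ _ hp hs'.1 (fd.conj_spec C.c5.c3.conj i _ hi hs'.1)
      (((fd.neta fx (fd.simples.getD i 0) (fd.nw fx (fd.simples.getD i 0) s) : ℤ) : F) * u)
    rw [h2, ← mul_assoc, ← Int.cast_mul, fd.neta_sq, Int.cast_one, one_mul] at key
    rw [conj_inv_of_conj key]
    exact C.xA_mem_Up _ _ hs' _

/-- the elements of a root subgroup -/
theorem rootSubgroup_mem (r : ℕ) (y : GL D.Idx F) (hy : y ∈ D.rootSubgroup F r) : ∃ t : F, y = C.c2.xA r t := by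
  unfold ChevalleyDatum.rootSubgroup at hy
  induction hy using Subgroup.closure_induction with
  | mem x hx =>
    obtain ⟨t, hx⟩ := hx
    exact ⟨t, C.eq_xA_of_rootSubgroup_gen r x t hx⟩
  | one => exact ⟨0, (C.c2.xA_zero r).symm⟩
  | mul x y _ _ hx hy =>
    obtain ⟨t, rfl⟩ := hx
    obtain ⟨u, rfl⟩ := hy
    exact ⟨t + u, C.c2.xA_mul r t u⟩
  | inv x _ hx =>
    obtain ⟨t, rfl⟩ := hx
    exact ⟨-t, C.c2.xA_inv r t⟩

/-- `U = U_p X_p` -/
theorem pos_mem_Up_mul (i : ℕ) (hi : i < fd.l) (u : GL D.Idx F) (hu : u ∈ D.posUnipotent F) :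
    ∃ v ∈ Up D F (fd.simples.getD i 0), ∃ t : F, u = v * C.c2.xA (fd.simples.getD i 0) t := by
  rw [← C.Up_sup_rootSubgroup i hi] at hu
  have := Subgroup.coe_mul_of_right_le_normalizer_left (Up D F (fd.simples.getD i 0))
    (D.rootSubgroup F (fd.simples.getD i 0)) (le_trans le_sup_left (C.rootSubgroup_pm_le_normalizer i hi))
  have hu' : u ∈ ((Up D F (fd.simples.getD i 0) ⊔ D.rootSubgroup F (fd.simples.getD i 0) :
      Subgroup (GL D.Idx F)) : Set (GL D.Idx F)) := hu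
  rw [this] at hu'
  obtain ⟨v, hv, y, hy, rfl⟩ := Set.mem_mul.mp hu'
  obtain ⟨t, rfl⟩ := C.rootSubgroup_mem _ y hy
  exact ⟨v, hv, t, rfl⟩

theorem Up_le_pos (p : ℕ) : Up D F p ≤ D.posUnipotent F := by
  unfold Up ChevalleyDatum.posUnipotent
  apply Subgroup.closure_mono
  rintro g ⟨s, t, hpos, _, hg⟩
  exact ⟨s, t, hpos, hg⟩

theorem Up_le_borel (p : ℕ) : Up D F p ≤ D.borelSubgroup F :=
  le_trans (C.Up_le_pos p) le_sup_left

theorem xA_pos_mem_borel (s : ℕ) (hs : s < fd.n) (hpos : fd.n / 2 ≤ s) (t : F) :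
    C.c2.xA s t ∈ D.borelSubgroup F := by
  apply (le_sup_left : D.posUnipotent F ≤ _)
  rw [C.c2.xA_of_lt s hs]
  exact C.c2.xG_mem_pos s hs hpos t

/-- `n_p² ∈ H` -/
theorem nG_sq_mem_diag (r : ℕ) (hr : r < fd.n) :
    C.c2.nG (F := F) r hr * C.c2.nG r hr ∈ D.diagonalSubgroup F := by
  have hm1 : (-1 : F) ≠ 0 := by norm_num
  have h1 := C.c2.TdG_mem (F := F) r hr (-1) hm1
  have e : (C.c2.nG (F := F) r hr * C.c2.nG r hr)⁻¹ = TdG (hExp D fd fx r) (-1) hm1 := by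
    rw [inv_eq_iff_eq_inv, eq_comm, inv_eq_iff_mul_eq_one]
    apply gl_ext
    have hh : ((TdG (hExp D fd fx r) (-1 : F) hm1 : GL D.Idx F) : Matrix D.Idx D.Idx F) = D.hMat F r (-1) :=
      (C.c2.hMat_eq r hr (-1) hm1).symm
    rw [Units.val_mul, Units.val_mul, hh, C.c2.nG_val]
    have e1 : D.hMat F r (-1) = D.nMat F r (-1) * D.nMat F r (-1) := by
      unfold ChevalleyDatum.hMat ChevalleyDatum.hWord
      rw [wordMat_append]; rfl
    have e2 := nF_mul_nMat_neg (F := F) C.c2.agrees C.c2.chk r hr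
    have e3 : D.nMat F r (-1) * nF D fd fx F r = 1 := _root_.mul_eq_one_comm.mp e2
    rw [e1, Units.val_one]
    calc D.nMat F r (-1) * D.nMat F r (-1) * (nF D fd fx F r * nF D fd fx F r)
        = D.nMat F r (-1) * (D.nMat F r (-1) * nF D fd fx F r) * nF D fd fx F r := by
          simp only [Matrix.mul_assoc]
      _ = 1 := by rw [e3, Matrix.mul_one, e3]
  have := inv_mem h1
  rw [← e, inv_inv] at this
  exact this

/-- `x_{-r}(u)`, `u ≠ 0`, lies in `X_r H n_r X_r` -/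
theorem xA_neg_eq (r : ℕ) (hr : r < fd.n) (u : F) (hu : u ≠ 0) :
    ∃ k ∈ D.diagonalSubgroup F, C.c2.xA (fd.n - 1 - r) u =
      C.c2.xA r u⁻¹ * k * C.c2.nG r hr * C.c2.xA r u⁻¹ := by
  have hr' : fd.n - 1 - r < fd.n := by omega
  have hc : -u⁻¹ ≠ 0 := neg_ne_zero.mpr (inv_ne_zero hu)
  refine ⟨TdG (hExp D fd fx r) (-u⁻¹) hc, C.c2.TdG_mem r hr _ hc, ?_⟩
  have hh : ((TdG (hExp D fd fx r) (-u⁻¹) hc : GL D.Idx F) : Matrix D.Idx D.Idx F) = D.hMat F r (-u⁻¹) :=
    (C.c2.hMat_eq r hr _ hc).symm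
  have e1 : D.hMat F r (-u⁻¹) = D.nMat F r (-u⁻¹) * D.nMat F r (-1) := by
    unfold ChevalleyDatum.hMat ChevalleyDatum.hWord
    rw [wordMat_append]; rfl
  have e2 := nF_mul_nMat_neg (F := F) C.c2.agrees C.c2.chk r hr
  have e3 : D.nMat F r (-1) * nF D fd fx F r = 1 := _root_.mul_eq_one_comm.mp e2
  have e4 : TdG (hExp D fd fx r) (-u⁻¹) hc * C.c2.nG r hr =
      C.c2.xA r (-u⁻¹) * C.c2.xA (fd.n - 1 - r) u * C.c2.xA r (-u⁻¹) := by
    apply gl_ext
    rw [Units.val_mul, hh, C.c2.nG_val, e1, Matrix.mul_assoc, e3, Matrix.mul_one, Units.val_mul, Units.val_mul,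
      C.c2.xA_val, C.c2.xA_val, nMat_eq C.c2.agrees C.c2.chk.add C.c2.chk.pref C.c2.chk.nn r hr,
      x_eq_XR C.c2.agrees r hr, x_eq_XR C.c2.agrees _ hr']
    congr 3
    rw [inv_neg, inv_inv, neg_neg]
  rw [mul_assoc (C.c2.xA r u⁻¹), e4, ← C.c2.xA_inv]
  group

/-- `n_p x_p(t) n_p⁻¹ = x_{-p}(-t)` -/
theorem nG_conj_self (r : ℕ) (hr : r < fd.n) (t : F) :
    C.c2.nG r hr * C.c2.xA r t * (C.c2.nG r hr)⁻¹ = C.c2.xA (fd.n - 1 - r) (-t) := by
  obtain ⟨e1, e2, e3⟩ := fd.neg_spec C.c2.neg r hr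
  rw [C.c2.nG_conj_x r r hr hr e3 t, e1, e2]
  congr 1
  push_cast
  ring

theorem diag_le_borel : D.diagonalSubgroup F ≤ D.borelSubgroup F := le_sup_right

/-- the key step: `n_p B n_p ⊆ B ∪ B n_p B` -/
theorem nG_borel_nG (i : ℕ) (hi : i < fd.l) (b : GL D.Idx F) (hb : b ∈ D.borelSubgroup F) :
    C.c2.nG (fd.simples.getD i 0) (C.c2.simple_lt i hi) * b * C.c2.nG (fd.simples.getD i 0) (C.c2.simple_lt i hi) ∈
      (D.borelSubgroup F : Set (GL D.Idx F)) ∪
        DoubleCoset.doubleCoset (C.c2.nG (fd.simples.getD i 0) (C.c2.simple_lt i hi))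
          (D.borelSubgroup F : Set (GL D.Idx F)) (D.borelSubgroup F) := by
  have hp := C.c2.simple_lt i hi
  have hpp := C.simple_pos i hi
  set s := C.c2.nG (F := F) (fd.simples.getD i 0) hp with hs
  obtain ⟨u, hu, k, hk, rfl⟩ := C.c2.borel_mem b hb
  obtain ⟨v, hv, t, rfl⟩ := C.pos_mem_Up_mul i hi u hu
  have hv' : s * v * s⁻¹ ∈ Up D F (fd.simples.getD i 0) :=
    (Subgroup.mem_normalizer_iff.mp (C.nG_mem_normalizer_Up i hi) v).mp hv
  have hk' : s * k * s⁻¹ ∈ D.diagonalSubgroup F :=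
    (Subgroup.mem_normalizer_iff.mp (C.c2.nG_mem_normalizer _ hp) k).mp hk
  have hz : s * s ∈ D.diagonalSubgroup F := C.nG_sq_mem_diag _ hp
  have hx := C.nG_conj_self (F := F) _ hp t
  have e : s * (v * C.c2.xA (fd.simples.getD i 0) t * k) * s =
      (s * v * s⁻¹) * (s * C.c2.xA (fd.simples.getD i 0) t * s⁻¹) * (s * k * s⁻¹) * (s * s) := by group
  rw [e, hx]
  by_cases ht : t = 0
  · left
    rw [ht, neg_zero, C.c2.xA_zero, mul_one]
    exact mul_mem (mul_mem (C.Up_le_borel _ hv') (C.diag_le_borel hk')) (C.diag_le_borel hz)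
  · right
    obtain ⟨k₁, hk₁, e₁⟩ := C.xA_neg_eq (F := F) _ hp (-t) (neg_ne_zero.mpr ht)
    rw [e₁, DoubleCoset.mem_doubleCoset]
    refine ⟨s * v * s⁻¹ * (C.c2.xA (fd.simples.getD i 0) (-t)⁻¹ * k₁), ?_,
      C.c2.xA (fd.simples.getD i 0) (-t)⁻¹ * (s * k * s⁻¹) * (s * s), ?_, ?_⟩
    · exact mul_mem (C.Up_le_borel _ hv') (mul_mem (C.xA_pos_mem_borel _ hp hpp _) (C.diag_le_borel hk₁))
    · exact mul_mem (mul_mem (C.xA_pos_mem_borel _ hp hpp _) (C.diag_le_borel hk')) (C.diag_le_borel hz)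
    · simp only [mul_assoc]
      rfl

/-- `B ∪ B n_p B` is a subgroup -/
theorem exists_minimal_parabolic (i : ℕ) (hi : i < fd.l) :
    ∃ P : Subgroup (GL D.Idx F), (P : Set (GL D.Idx F)) =
      (D.borelSubgroup F : Set (GL D.Idx F)) ∪
        DoubleCoset.doubleCoset (C.c2.nG (fd.simples.getD i 0) (C.c2.simple_lt i hi))
          (D.borelSubgroup F : Set (GL D.Idx F)) (D.borelSubgroup F) := by
  have hp := C.c2.simple_lt i hi
  set s := C.c2.nG (F := F) (fd.simples.getD i 0) hp with hs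
  set T : Set (GL D.Idx F) := (D.borelSubgroup F : Set (GL D.Idx F)) ∪
    DoubleCoset.doubleCoset s (D.borelSubgroup F : Set (GL D.Idx F)) (D.borelSubgroup F) with hT
  have LB : ∀ b₀ ∈ D.borelSubgroup F, ∀ y ∈ T, b₀ * y ∈ T := by
    intro b₀ hb₀ y hy
    rcases hy with hy | hy
    · left; exact mul_mem hb₀ hy
    · right
      rw [DoubleCoset.mem_doubleCoset] at hy ⊢
      obtain ⟨b₁, hb₁, b₂, hb₂, rfl⟩ := hy
      exact ⟨b₀ * b₁, mul_mem hb₀ hb₁, b₂, hb₂, by simp only [mul_assoc]⟩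
  have LS : ∀ y ∈ T, s * y ∈ T := by
    intro y hy
    rcases hy with hy | hy
    · right
      rw [DoubleCoset.mem_doubleCoset]
      exact ⟨1, one_mem _, y, hy, by rw [one_mul]⟩
    · rw [DoubleCoset.mem_doubleCoset] at hy
      obtain ⟨b₁, hb₁, b₂, hb₂, rfl⟩ := hy
      have := C.nG_borel_nG (F := F) i hi b₁ hb₁
      rcases this with h | h
      · left
        have e : s * (b₁ * s * b₂) = s * b₁ * s * b₂ := by simp only [mul_assoc]
        rw [e]; exact mul_mem h hb₂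
      · right
        rw [DoubleCoset.mem_doubleCoset] at h ⊢
        obtain ⟨c₁, hc₁, c₂, hc₂, e'⟩ := h
        refine ⟨c₁, hc₁, c₂ * b₂, mul_mem hc₂ hb₂, ?_⟩
        have e : s * (b₁ * s * b₂) = s * b₁ * s * b₂ := by simp only [mul_assoc]
        rw [e, e']; simp only [mul_assoc]
        rfl
  have LS' : ∀ y ∈ T, s⁻¹ * y ∈ T := by
    intro y hy
    have hz : (s * s)⁻¹ ∈ D.borelSubgroup F := C.diag_le_borel (inv_mem (C.nG_sq_mem_diag _ hp))
    have e : s⁻¹ * y = s * ((s * s)⁻¹ * y) := by group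
    rw [e]
    exact LS _ (LB _ hz y hy)
  refine ⟨D.borelSubgroup F ⊔ Subgroup.closure {s}, ?_⟩
  apply Set.Subset.antisymm
  · intro g hg
    have hg' : g ∈ Subgroup.closure ((D.borelSubgroup F : Set (GL D.Idx F)) ∪ {s}) := by
      rw [Subgroup.closure_union, Subgroup.closure_eq]; exact hg
    clear hg
    induction hg' using Subgroup.closure_induction_left with
    | one => left; exact one_mem _
    | mul_left x hx y _ ih =>
      rcases hx with hx | hx
      · exact LB x hx y ih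
      · rw [Set.mem_singleton_iff] at hx; rw [hx]; exact LS y ih
    | inv_mul_cancel x hx y _ ih =>
      rcases hx with hx | hx
      · exact LB x⁻¹ (inv_mem hx) y ih
      · rw [Set.mem_singleton_iff] at hx; rw [hx]; exact LS' y ih
  · intro g hg
    have hsP : s ∈ D.borelSubgroup F ⊔ Subgroup.closure {s} :=
      (le_sup_right : Subgroup.closure {s} ≤ _) (Subgroup.subset_closure rfl)
    rcases hg with hg | hg
    · exact (le_sup_left : D.borelSubgroup F ≤ _) hg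
    · rw [DoubleCoset.mem_doubleCoset] at hg
      obtain ⟨b₁, hb₁, b₂, hb₂, rfl⟩ := hg
      exact mul_mem (mul_mem ((le_sup_left : D.borelSubgroup F ≤ _) hb₁) hsP)
        ((le_sup_left : D.borelSubgroup F ≤ _) hb₂)

end Cert6

end Cfsg.Agent.Lib.H29.Chev
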