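import Mathlib
import Cfsg.Prelude.Def_ChevStructure
import Cfsg.Agent.Lib.H29.ChevGen22

/-!
# The monomial subgroup is generated by `H` and the fundamental `n_p`; its action on the root subgroups
-/

set_option autoImplicit false
set_option linter.unusedSectionVars false
set_option linter.unusedSimpArgs false
set_option linter.unusedVariables false

namespace Cfsg.Agent.Lib.H29.Chev

open Cfsg.Lie Matrix

variable {D : ChevalleyDatum} {fd : FD} {fx : FX} {fc : FC} {F : Type*} [Field F]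

/-- the fundamental `n_p` -/
def SSet (D : ChevalleyDatum) (F : Type*) [Field F] : Set (GL D.Idx F) :=
  {g | ∃ i < D.rank, (g : Matrix D.Idx D.Idx F) = D.nMat F (D.simple i) 1}

namespace Cert6

variable (C : Cert6 D fd fx fc)
include C

/-- the height of the coroot drops under a reflection -/
theorem coH_nw (j r : ℕ) (hj : j < fd.l) (hr : r < fd.n) :
    fd.coH (fd.nw fx (fd.simples.getD j 0) r) = fd.coH r - fd.pr (fd.simples.getD j 0) r := by
  unfold FD.coH
  have e1 : ∀ k ∈ Finset.range fd.l, fd.corZ (fd.nw fx (fd.simples.getD j 0) r) k = fd.corZ r k -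
      fd.pr (fd.simples.getD j 0) r * (if j = k then 1 else 0) := by
    intro k hk
    have hk' := Finset.mem_range.mp hk
    rw [(fd.sim_spec C.c2.sim j r hj hr).2.2.2.2.2 k hk', (fd.simple_spec C.c2.simple j hj).2.2 k hk']
  rw [Finset.sum_congr rfl e1, Finset.sum_sub_distrib, ← Finset.mul_sum]
  simp [Finset.sum_ite_eq, hj]

theorem coH_nonneg (r : ℕ) (hr : r < fd.n) (hpos : fd.n / 2 ≤ r) : 0 ≤ fd.coH r := by
  unfold FD.coH
  apply Finset.sum_nonneg
  intro k hk
  exact (C.c5.c3.pos_iff_cor _ hr).mp hpos k (Finset.mem_range.mp hk)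

theorem nG_eq (r : ℕ) (hr : r < fd.n) :
    C.c2.nG (F := F) r hr = C.c2.xA r 1 * C.c2.xA (fd.n - 1 - r) (-1) * C.c2.xA r 1 := by
  have hr' : fd.n - 1 - r < fd.n := by omega
  rw [C.c2.xA_of_lt r hr, C.c2.xA_of_lt _ hr']
  rfl

theorem nG_mem_SSet (i : ℕ) (hi : i < fd.l) :
    C.c2.nG (F := F) (fd.simples.getD i 0) (C.c2.simple_lt i hi) ∈ SSet D F :=
  ⟨i, by rw [C.c2.rank_eq]; exact hi, by rw [C.c2.nG_val', C.c2.agrees.simple_eq]⟩

theorem eq_nG_of_SSet (g : GL D.Idx F) (hg : g ∈ SSet D F) :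
    ∃ i, ∃ hi : i < fd.l, g = C.c2.nG (fd.simples.getD i 0) (C.c2.simple_lt i hi) := by
  obtain ⟨i, hi, hg⟩ := hg
  have hi' : i < fd.l := by rw [← C.c2.rank_eq]; exact hi
  rw [C.c2.agrees.simple_eq] at hg
  exact ⟨i, hi', C.c2.eq_nG g _ _ hg⟩

/-- conjugating `n_r` by a fundamental `n_p` gives `n_{w_p r}^{±1}` -/
theorem nG_conj_nG (j r : ℕ) (hj : j < fd.l) (hr : r < fd.n) :
    C.c2.nG (F := F) (fd.simples.getD j 0) (C.c2.simple_lt j hj) * C.c2.nG r hr *
        (C.c2.nG (fd.simples.getD j 0) (C.c2.simple_lt j hj))⁻¹ =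
      C.c2.nG (fd.nw fx (fd.simples.getD j 0) r) (fd.nw_spec C.c2.chk.nn _ r (C.c2.simple_lt j hj) hr).1 ∨
    C.c2.nG (F := F) (fd.simples.getD j 0) (C.c2.simple_lt j hj) * C.c2.nG r hr *
        (C.c2.nG (fd.simples.getD j 0) (C.c2.simple_lt j hj))⁻¹ =
      (C.c2.nG (fd.nw fx (fd.simples.getD j 0) r) (fd.nw_spec C.c2.chk.nn _ r (C.c2.simple_lt j hj) hr).1)⁻¹ := by
  have hp := C.c2.simple_lt j hj
  have hr' : fd.n - 1 - r < fd.n := by omega
  have hw := (fd.nw_spec C.c2.chk.nn _ r hp hr).1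
  have c1 := fun t : F => C.c2.nG_conj_x (F := F) _ r hp hr (fd.conj_spec C.c5.c3.conj j r hj hr) t
  have c2 := fun t : F => C.c2.nG_conj_x (F := F) _ _ hp hr' (fd.conj_spec C.c5.c3.conj j _ hj hr') t
  have e1 := (fd.up_spec C.up j hj r hr).1
  have e2 := (fd.sim_spec C.c2.sim j r hj hr).2.2.2.2.1
  rw [e1] at c2
  set s := C.c2.nG (F := F) (fd.simples.getD j 0) hp with hs
  have split : s * C.c2.nG r hr * s⁻¹ =
      (s * C.c2.xA r 1 * s⁻¹) * (s * C.c2.xA (fd.n - 1 - r) (-1) * s⁻¹) * (s * C.c2.xA r 1 * s⁻¹) := by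
    rw [C.nG_eq r hr]; group
  rw [split, c1, c2, C.nG_eq _ hw]
  rcases fd.neta_cases (fx := fx) (fd.simples.getD j 0) r with h1 | h1
  · left
    have h2 : fd.neta fx (fd.simples.getD j 0) (fd.n - 1 - r) = 1 := by rw [h1, one_mul] at e2; exact e2
    rw [h1, h2]
    simp
  · right
    have h2 : fd.neta fx (fd.simples.getD j 0) (fd.n - 1 - r) = -1 := by
      rw [h1] at e2; linarith
    rw [h1, h2, _root_.mul_inv_rev, _root_.mul_inv_rev, C.c2.xA_inv, C.c2.xA_inv, mul_assoc]
    simp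

/-- the subgroup generated by `H` and the fundamental `n_p` -/
theorem nG_mem_of_nw (j r : ℕ) (hj : j < fd.l) (hr : r < fd.n)
    (h : C.c2.nG (F := F) (fd.nw fx (fd.simples.getD j 0) r)
      (fd.nw_spec C.c2.chk.nn _ r (C.c2.simple_lt j hj) hr).1 ∈ Subgroup.closure (SSet D F)) :
    C.c2.nG (F := F) r hr ∈ Subgroup.closure (SSet D F) := by
  have hs : C.c2.nG (F := F) (fd.simples.getD j 0) (C.c2.simple_lt j hj) ∈ Subgroup.closure (SSet D F) :=
    Subgroup.subset_closure (C.nG_mem_SSet j hj)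
  have key : C.c2.nG (F := F) (fd.simples.getD j 0) (C.c2.simple_lt j hj) * C.c2.nG r hr *
        (C.c2.nG (fd.simples.getD j 0) (C.c2.simple_lt j hj))⁻¹ ∈ Subgroup.closure (SSet D F) := by
    rcases C.nG_conj_nG (F := F) j r hj hr with e | e
    · rw [e]; exact h
    · rw [e]; exact inv_mem h
  have := mul_mem (mul_mem (inv_mem hs) key) hs
  have e : (C.c2.nG (F := F) (fd.simples.getD j 0) (C.c2.simple_lt j hj))⁻¹ *
      (C.c2.nG (F := F) (fd.simples.getD j 0) (C.c2.simple_lt j hj) * C.c2.nG r hr *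
        (C.c2.nG (fd.simples.getD j 0) (C.c2.simple_lt j hj))⁻¹) *
      C.c2.nG (fd.simples.getD j 0) (C.c2.simple_lt j hj) = C.c2.nG r hr := by group
  rwa [e] at this

theorem nG_congr (r r' : ℕ) (hr : r < fd.n) (hr' : r' < fd.n) (h : r = r') :
    C.c2.nG (F := F) r hr = C.c2.nG r' hr' := by
  subst h; rfl

/-- all the `n_r` lie in the subgroup generated by the fundamental ones -/
theorem nG_mem_closure_SSet (m : ℕ) :
    ∀ r, ∀ hr : r < fd.n, fd.n / 2 ≤ r → (fd.coH r).toNat = m →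
      C.c2.nG (F := F) r hr ∈ Subgroup.closure (SSet D F) ∧
      C.c2.nG (F := F) (fd.n - 1 - r) (by omega) ∈ Subgroup.closure (SSet D F) := by
  induction m using Nat.strong_induction_on with
  | _ m ih =>
    intro r hr hpos hm
    have hr' : fd.n - 1 - r < fd.n := by omega
    obtain ⟨_, hdesc⟩ := fd.desc_spec C.desc r hr
    rcases hdesc hpos with ⟨j, hj, hjr⟩ | ⟨j, hj, hc, hpr, hpos'⟩
    · -- `r` is the fundamental root `p_j`
      have h1 : C.c2.nG (F := F) r hr ∈ Subgroup.closure (SSet D F) := by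
        rw [C.nG_congr r _ hr (C.c2.simple_lt j hj) hjr.symm]
        exact Subgroup.subset_closure (C.nG_mem_SSet j hj)
      refine ⟨h1, ?_⟩
      apply C.nG_mem_of_nw j _ hj hr'
      have e : fd.nw fx (fd.simples.getD j 0) (fd.n - 1 - r) = r := by
        rw [(fd.up_spec C.up j hj r hr).1, hjr, (fd.neg_spec C.c2.neg r hr).1]
        exact Nat.sub_sub_self (Nat.le_pred_of_lt hr)
      rw [C.nG_congr _ r _ hr e]
      exact h1
    · have hp := C.c2.simple_lt j hj
      have hw := (fd.nw_spec C.c2.chk.nn _ r hp hr).1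
      have hH := C.coH_nw j r hj hr
      have hH0 := C.coH_nonneg _ hw hpos'
      have hlt : (fd.coH (fd.nw fx (fd.simples.getD j 0) r)).toNat < m := by
        rw [← hm]
        apply (Int.toNat_lt_toNat (by linarith)).mpr
        linarith
      obtain ⟨i1, i2⟩ := ih _ hlt _ hw hpos' rfl
      refine ⟨C.nG_mem_of_nw j r hj hr i1, ?_⟩
      apply C.nG_mem_of_nw j _ hj hr'
      rw [C.nG_congr _ _ _ (by omega) (fd.up_spec C.up j hj r hr).1]
      exact i2

theorem nG_mem_closure_SSet' (r : ℕ) (hr : r < fd.n) :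
    C.c2.nG (F := F) r hr ∈ Subgroup.closure (SSet D F) := by
  have hev := C.c2.heven
  by_cases hpos : fd.n / 2 ≤ r
  · exact (C.nG_mem_closure_SSet _ r hr hpos rfl).1
  · have hr' : fd.n - 1 - r < fd.n := by omega
    have := (C.nG_mem_closure_SSet (F := F) _ (fd.n - 1 - r) hr' (by omega) rfl).2
    rw [C.nG_congr _ r _ hr (by omega)] at this
    exact this

/-- `N = ⟨n_p⟩ H` -/
theorem closure_SSet_sup_diag : Subgroup.closure (SSet D F) ⊔ D.diagonalSubgroup F = D.monomialSubgroup F := by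
  apply le_antisymm
  · apply sup_le
    · rw [Subgroup.closure_le]
      intro g hg
      obtain ⟨i, hi, rfl⟩ := C.eq_nG_of_SSet g hg
      exact C.c2.nG_mem_monomial _ _
    · exact le_sup_left
  · unfold ChevalleyDatum.monomialSubgroup
    apply sup_le le_sup_right
    rw [Subgroup.closure_le]
    rintro g ⟨r, hr, hg⟩
    have hr' : r < fd.n := by rw [← C.c2.nroots_eq]; exact hr
    rw [SetLike.mem_coe, C.c2.eq_nG g r hr' hg]
    exact (le_sup_left : Subgroup.closure (SSet D F) ≤ _) (C.nG_mem_closure_SSet' r hr')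

end Cert6

end Cfsg.Agent.Lib.H29.Chev
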