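import Mathlib
import Cfsg.Prelude.Def_ChevStructure
import Cfsg.Agent.Lib.H29.ChevGen23

/-!
# The axioms of a (B,N)-pair for a Chevalley group, inside the general linear group
-/

set_option autoImplicit false
set_option linter.unusedSectionVars false
set_option linter.unusedSimpArgs false
set_option linter.unusedVariables false

namespace Cfsg.Agent.Lib.H29.Chev

open Cfsg.Lie Matrix

variable {D : ChevalleyDatum} {fd : FD} {fx : FX} {fc : FC} {F : Type*} [Field F]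

/-- `n` permutes the root subgroups according to `π` -/
def Cert2.Perm (C : Cert2 D fd fx) (n : GL D.Idx F) (π : ℕ → ℕ) : Prop :=
  ∀ s < fd.n, π s < fd.n ∧ π (fd.n - 1 - s) = fd.n - 1 - π s ∧
    ∃ c : F, ∀ t, n * C.xA s t * n⁻¹ = C.xA (π s) (c * t)

namespace Cert6

variable (C : Cert6 D fd fx fc)
include C

theorem perm_one : C.c2.Perm (1 : GL D.Idx F) id := by
  intro s hs
  exact ⟨hs, rfl, 1, fun t => by simp⟩

theorem perm_mul {a b : GL D.Idx F} {πa πb : ℕ → ℕ} (ha : C.c2.Perm a πa) (hb : C.c2.Perm b πb) :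
    C.c2.Perm (a * b) (πa ∘ πb) := by
  intro s hs
  obtain ⟨b1, b2, cb, b3⟩ := hb s hs
  obtain ⟨a1, a2, ca, a3⟩ := ha (πb s) b1
  refine ⟨a1, ?_, ca * cb, fun t => ?_⟩
  · simp only [Function.comp]
    rw [b2, a2]
  · have : a * b * C.c2.xA s t * (a * b)⁻¹ = a * (b * C.c2.xA s t * b⁻¹) * a⁻¹ := by group
    rw [this, b3, a3, mul_assoc]
    rfl

theorem perm_diag (k : GL D.Idx F) (hk : k ∈ D.diagonalSubgroup F) : C.c2.Perm k id := by
  intro s hs
  refine ⟨hs, rfl, (k : Matrix D.Idx D.Idx F) (Sum.inr ⟨s, by rw [C.c2.nroots_eq]; exact hs⟩)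
    (Sum.inr ⟨s, by rw [C.c2.nroots_eq]; exact hs⟩), fun t => ?_⟩
  exact (C.c2.diag_conj_x k hk).2 ⟨s, by rw [C.c2.nroots_eq]; exact hs⟩ t

theorem perm_nG (i : ℕ) (hi : i < fd.l) :
    C.c2.Perm (C.c2.nG (F := F) (fd.simples.getD i 0) (C.c2.simple_lt i hi)) (fd.nw fx (fd.simples.getD i 0)) ∧
    C.c2.Perm (C.c2.nG (F := F) (fd.simples.getD i 0) (C.c2.simple_lt i hi))⁻¹
      (fd.nw fx (fd.simples.getD i 0)) := by
  have hp := C.c2.simple_lt i hi
  constructor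
  · intro s hs
    obtain ⟨h1, _, _⟩ := fd.up_spec C.up i hi s hs
    exact ⟨(fd.nw_spec C.c2.chk.nn _ s hp hs).1, h1, _,
      fun t => C.c2.nG_conj_x _ s hp hs (fd.conj_spec C.c5.c3.conj i s hi hs) t⟩
  · intro s hs
    obtain ⟨h1, h2, _⟩ := fd.up_spec C.up i hi s hs
    have hs' := (fd.nw_spec C.c2.chk.nn _ s hp hs).1
    refine ⟨hs', h1, ((fd.neta fx (fd.simples.getD i 0) (fd.nw fx (fd.simples.getD i 0) s) : ℤ) : F),
      fun t => ?_⟩
    have key := C.c2.nG_conj_x (F := F) _ _ hp hs' (fd.conj_spec C.c5.c3.conj i _ hi hs')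
      (((fd.neta fx (fd.simples.getD i 0) (fd.nw fx (fd.simples.getD i 0) s) : ℤ) : F) * t)
    rw [h2, ← mul_assoc, ← Int.cast_mul, fd.neta_sq, Int.cast_one, one_mul] at key
    rw [inv_inv]
    exact conj_inv_of_conj key

/-- every element of `N` permutes the root subgroups -/
theorem perm_of_mem (n : GL D.Idx F) (hn : n ∈ D.monomialSubgroup F) :
    (∃ π, C.c2.Perm n π) ∧ (∃ π, C.c2.Perm n⁻¹ π) := by
  rw [← C.closure_SSet_sup_diag, ← Subgroup.closure_eq (D.diagonalSubgroup F), ← Subgroup.closure_union] at hn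
  induction hn using Subgroup.closure_induction with
  | mem x hx =>
    rcases hx with hx | hx
    · obtain ⟨i, hi, rfl⟩ := C.eq_nG_of_SSet x hx
      exact ⟨⟨_, (C.perm_nG i hi).1⟩, ⟨_, (C.perm_nG i hi).2⟩⟩
    · exact ⟨⟨_, C.perm_diag x hx⟩, ⟨_, C.perm_diag x⁻¹ (inv_mem hx)⟩⟩
  | one => exact ⟨⟨_, C.perm_one⟩, ⟨_, by rw [inv_one]; exact C.perm_one⟩⟩
  | mul x y _ _ hx hy =>
    obtain ⟨⟨π1, h1⟩, ⟨π1', h1'⟩⟩ := hx
    obtain ⟨⟨π2, h2⟩, ⟨π2', h2'⟩⟩ := hy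
    exact ⟨⟨_, C.perm_mul h1 h2⟩, ⟨_, by rw [_root_.mul_inv_rev]; exact C.perm_mul h2' h1'⟩⟩
  | inv x _ hx =>
    obtain ⟨h1, h2⟩ := hx
    exact ⟨h2, by rw [inv_inv]; exact h1⟩

/-- the first case of the double coset axiom: `n⁻¹ X_p n` is a positive root subgroup -/
theorem nG_mul_borel_mul_pos (i : ℕ) (hi : i < fd.l) (n : GL D.Idx F) (hn : n ∈ D.monomialSubgroup F)
    (π : ℕ → ℕ) (hπ : C.c2.Perm n⁻¹ π) (hpos : fd.n / 2 ≤ π (fd.simples.getD i 0))
    (b : GL D.Idx F) (hb : b ∈ D.borelSubgroup F) :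
    C.c2.nG (fd.simples.getD i 0) (C.c2.simple_lt i hi) * b * n ∈
      DoubleCoset.doubleCoset (C.c2.nG (fd.simples.getD i 0) (C.c2.simple_lt i hi) * n)
        (D.borelSubgroup F : Set (GL D.Idx F)) (D.borelSubgroup F) := by
  have hp := C.c2.simple_lt i hi
  set s := C.c2.nG (F := F) (fd.simples.getD i 0) hp with hs
  obtain ⟨u, hu, k, hk, rfl⟩ := C.c2.borel_mem b hb
  obtain ⟨v, hv, t, rfl⟩ := C.pos_mem_Up_mul i hi u hu
  have hv' : s * v * s⁻¹ ∈ Up D F (fd.simples.getD i 0) :=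
    (Subgroup.mem_normalizer_iff.mp (C.nG_mem_normalizer_Up i hi) v).mp hv
  have hk' : n⁻¹ * k * n⁻¹⁻¹ ∈ D.diagonalSubgroup F :=
    (Subgroup.mem_normalizer_iff.mp (C.c2.monomial_le_normalizer_diag (inv_mem hn)) k).mp hk
  obtain ⟨h1, _, c, h3⟩ := hπ _ hp
  rw [DoubleCoset.mem_doubleCoset]
  refine ⟨s * v * s⁻¹, C.Up_le_borel _ hv', (n⁻¹ * C.c2.xA (fd.simples.getD i 0) t * n⁻¹⁻¹) * (n⁻¹ * k * n⁻¹⁻¹),
    ?_, ?_⟩
  · rw [h3]
    exact mul_mem (C.xA_pos_mem_borel _ h1 hpos _) (C.diag_le_borel hk')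
  · group

/-- the double coset axiom -/
theorem nG_mul_borel_mul (i : ℕ) (hi : i < fd.l) (n : GL D.Idx F) (hn : n ∈ D.monomialSubgroup F)
    (b : GL D.Idx F) (hb : b ∈ D.borelSubgroup F) :
    C.c2.nG (fd.simples.getD i 0) (C.c2.simple_lt i hi) * b * n ∈
      DoubleCoset.doubleCoset (C.c2.nG (fd.simples.getD i 0) (C.c2.simple_lt i hi) * n)
        (D.borelSubgroup F : Set (GL D.Idx F)) (D.borelSubgroup F) ∪
      DoubleCoset.doubleCoset n (D.borelSubgroup F : Set (GL D.Idx F)) (D.borelSubgroup F) := by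
  have hp := C.c2.simple_lt i hi
  have hev := C.c2.heven
  set s := C.c2.nG (F := F) (fd.simples.getD i 0) hp with hs
  have hsN : s ∈ D.monomialSubgroup F := C.c2.nG_mem_monomial _ hp
  obtain ⟨_, ⟨π, hπ⟩⟩ := C.perm_of_mem n hn
  by_cases hpos : fd.n / 2 ≤ π (fd.simples.getD i 0)
  · left
    exact C.nG_mul_borel_mul_pos i hi n hn π hπ hpos b hb
  · -- `n' = s⁻¹ n` falls under the first case
    have hn' : s⁻¹ * n ∈ D.monomialSubgroup F := mul_mem (inv_mem hsN) hn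
    have hπ' : C.c2.Perm (s⁻¹ * n)⁻¹ (π ∘ fd.nw fx (fd.simples.getD i 0)) := by
      have : (s⁻¹ * n)⁻¹ = n⁻¹ * s := by group
      rw [this]
      exact C.perm_mul hπ (C.perm_nG i hi).1
    have hpos' : fd.n / 2 ≤ (π ∘ fd.nw fx (fd.simples.getD i 0)) (fd.simples.getD i 0) := by
      simp only [Function.comp]
      rw [(fd.neg_spec C.c2.neg _ hp).1, (hπ _ hp).2.1]
      have := (hπ _ hp).1
      omega
    have hz : (s * s)⁻¹ ∈ D.borelSubgroup F := C.diag_le_borel (inv_mem (C.nG_sq_mem_diag _ hp))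
    have e0 : s * b * n = (s * b * s) * (s⁻¹ * n) := by group
    rcases C.nG_borel_nG (F := F) i hi b hb with h | h
    · left
      rw [DoubleCoset.mem_doubleCoset]
      refine ⟨s * b * s * (s * s)⁻¹, mul_mem h hz, 1, one_mem _, ?_⟩
      rw [e0]; group
    · right
      rw [DoubleCoset.mem_doubleCoset] at h
      obtain ⟨b₁, hb₁, b₂, hb₂, e'⟩ := h
      have := C.nG_mul_borel_mul_pos i hi (s⁻¹ * n) hn' _ hπ' hpos' b₂ hb₂
      rw [DoubleCoset.mem_doubleCoset] at this ⊢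
      obtain ⟨c₁, hc₁, c₂, hc₂, e''⟩ := this
      refine ⟨b₁ * c₁, mul_mem hb₁ hc₁, c₂, hc₂, ?_⟩
      have e3 : s * (s⁻¹ * n) = n := by group
      rw [e3] at e''
      rw [e0, e']
      calc b₁ * s * b₂ * (s⁻¹ * n) = b₁ * (s * b₂ * (s⁻¹ * n)) := by group
        _ = b₁ * (c₁ * n * c₂) := by rw [e'']
        _ = b₁ * c₁ * n * c₂ := by group

end Cert6

end Cfsg.Agent.Lib.H29.Chev
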