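import Mathlib
import Cfsg.Prelude.Def_ChevStructure
import Cfsg.Prelude.Def_LieExceptional
import Cfsg.Agent.Lib.H29.ChevGen24
import Cfsg.Agent.Lib.H29.BNSub

/-!
# The (B,N)-pair of a Chevalley group
-/

set_option autoImplicit false
set_option linter.unusedSectionVars false
set_option linter.unusedSimpArgs false
set_option linter.unusedVariables false

namespace Cfsg.Agent.Lib.H29.Chev

open Cfsg.Lie Matrix

variable {D : ChevalleyDatum} {fd : FD} {fx : FX} {fc : FC} {F : Type*} [Field F]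

namespace Cert6

variable (C : Cert6 D fd fx fc)
include C

/-- `x_r(c) = 1` only for `c = 0` -/
theorem xA_eq_one (r : ℕ) (hr : r < fd.n) (c : F) (h : C.c2.xA r c = 1) : c = 0 := by
  have hr' : r < D.nroots := by rw [C.c2.nroots_eq]; exact hr
  have hev := C.c2.heven
  have hn := C.c2.nroots_eq
  have := C.c2.XR_entry (F := F) ⟨r, hr'⟩ c
  have hv := congrArg (fun g : GL D.Idx F => (g : Matrix D.Idx D.Idx F)) h
  simp only [C.c2.xA_val, Units.val_one] at hv
  rw [x_eq_XR C.c2.agrees r hr] at hv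
  rw [hv, Matrix.one_apply_ne] at this
  · have h2 : c ^ 2 = 0 := by linear_combination this
    exact pow_eq_zero_iff (by norm_num) |>.mp h2
  · intro he
    have := congrArg Fin.val (Sum.inr.inj he)
    simp only at this
    omega

theorem xA_neg_mem_neg (s : ℕ) (hs : s < fd.n) (hneg : s < fd.n / 2) (t : F) :
    C.c2.xA s t ∈ D.negUnipotent F := by
  rw [C.c2.xA_of_lt s hs]
  exact C.c2.xG_mem_neg s hs hneg t

/-- a positive and a negative root element that coincide are trivial -/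
theorem pos_eq_neg_elim (a b : ℕ) (ha : a < fd.n) (hb : b < fd.n) (hpa : fd.n / 2 ≤ a) (hnb : b < fd.n / 2)
    (c d : F) (h : C.c2.xA a c = C.c2.xA b d) : c = 0 := by
  have h1 : C.c2.xA a c ∈ D.borelSubgroup F ⊓ D.negUnipotent F :=
    Subgroup.mem_inf.mpr ⟨C.xA_pos_mem_borel a ha hpa c, by rw [h]; exact C.xA_neg_mem_neg b hb hnb d⟩
  rw [C.c2.borel_inf_neg, Subgroup.mem_bot] at h1
  exact C.xA_eq_one a ha c h1

/-- `s B s ≠ B` -/
theorem conj_ne (i : ℕ) (hi : i < fd.l) :
    (fun b : GL D.Idx F => C.c2.nG (fd.simples.getD i 0) (C.c2.simple_lt i hi) * b *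
      C.c2.nG (fd.simples.getD i 0) (C.c2.simple_lt i hi)) '' (D.borelSubgroup F : Set (GL D.Idx F)) ≠
      (D.borelSubgroup F : Set (GL D.Idx F)) := by
  have hp := C.c2.simple_lt i hi
  have hpp := C.simple_pos i hi
  have hev := C.c2.heven
  set s := C.c2.nG (F := F) (fd.simples.getD i 0) hp with hs
  intro heq
  have hx : C.c2.xA (fd.simples.getD i 0) (1 : F) ∈ D.borelSubgroup F := C.xA_pos_mem_borel _ hp hpp 1
  have h1 : s * C.c2.xA (fd.simples.getD i 0) (1 : F) * s ∈ (D.borelSubgroup F : Set (GL D.Idx F)) := by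
    rw [← heq]; exact ⟨_, hx, rfl⟩
  have hz : (s * s)⁻¹ ∈ D.borelSubgroup F := C.diag_le_borel (inv_mem (C.nG_sq_mem_diag _ hp))
  have h2 := mul_mem h1 hz
  have e : s * C.c2.xA (fd.simples.getD i 0) (1 : F) * s * (s * s)⁻¹ =
      s * C.c2.xA (fd.simples.getD i 0) (1 : F) * s⁻¹ := by group
  rw [e, C.nG_conj_self _ hp] at h2
  have h3 : C.c2.xA (fd.n - 1 - fd.simples.getD i 0) (-1 : F) ∈ D.borelSubgroup F ⊓ D.negUnipotent F :=
    Subgroup.mem_inf.mpr ⟨h2, C.xA_neg_mem_neg _ (by omega) (by omega) _⟩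
  rw [C.c2.borel_inf_neg, Subgroup.mem_bot] at h3
  have := C.xA_eq_one _ (by omega) _ h3
  norm_num at this

/-- distinct fundamental roots give elements `n_p` distinct modulo `B` -/
theorem nG_inj (i j : ℕ) (hi : i < fd.l) (hj : j < fd.l)
    (h : (C.c2.nG (F := F) (fd.simples.getD i 0) (C.c2.simple_lt i hi))⁻¹ *
      C.c2.nG (fd.simples.getD j 0) (C.c2.simple_lt j hj) ∈ D.borelSubgroup F) :
    fd.simples.getD i 0 = fd.simples.getD j 0 := by
  have hpi := C.c2.simple_lt i hi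
  have hpj := C.c2.simple_lt j hj
  have hppi := C.simple_pos i hi
  have hev := C.c2.heven
  by_contra hne
  set si := C.c2.nG (F := F) (fd.simples.getD i 0) hpi with hsi
  set sj := C.c2.nG (F := F) (fd.simples.getD j 0) hpj with hsj
  have hk : si⁻¹ * sj ∈ D.diagonalSubgroup F := by
    rw [← C.c2.borel_inf_monomial]
    exact Subgroup.mem_inf.mpr ⟨h, mul_mem (inv_mem (C.c2.nG_mem_monomial _ hpi)) (C.c2.nG_mem_monomial _ hpj)⟩
  have e1 := C.c2.nG_conj_x (F := F) _ _ hpj hpi (fd.conj_spec C.c5.c3.conj j _ hj hpi) 1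
  have e2 := (C.c2.diag_conj_x _ hk).2 ⟨fd.simples.getD i 0, by rw [C.c2.nroots_eq]; exact hpi⟩ (1 : F)
  simp only at e2
  have e3 : sj * C.c2.xA (fd.simples.getD i 0) (1 : F) * sj⁻¹ =
      si * ((si⁻¹ * sj) * C.c2.xA (fd.simples.getD i 0) (1 : F) * (si⁻¹ * sj)⁻¹) * si⁻¹ := by group
  rw [e2, C.nG_conj_self _ hpi, e1] at e3
  obtain ⟨_, _, h3⟩ := fd.up_spec C.up j hj _ hpi
  obtain ⟨⟨w1, w2, _⟩, _, _⟩ := h3 hppi hne
  have := C.pos_eq_neg_elim _ _ w1 (by omega) w2 (by omega) _ _ e3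
  rcases fd.neta_cases (fx := fx) (fd.simples.getD j 0) (fd.simples.getD i 0) with h1 | h1
  · rw [h1] at this; norm_num at this
  · rw [h1] at this; norm_num at this

theorem SSet_subset_monomial : SSet D F ⊆ (D.monomialSubgroup F : Set (GL D.Idx F)) := by
  intro g hg
  obtain ⟨i, hi, rfl⟩ := C.eq_nG_of_SSet g hg
  exact C.c2.nG_mem_monomial _ _

end Cert6

/-- the (B,N)-pair of a Chevalley group -/
noncomputable def Cert6.bnPair (C : Cert6 D fd fx fc) (F : Type*) [Field F] : Cfsg.BNPair ↥(D.group F) :=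
  bnOfSubgroup (D.group F) (D.borelSubgroup F) (D.monomialSubgroup F) (SSet D F)
    C.c2.borel_le_group C.c2.monomial_le_group C.c2.borel_sup_monomial
    (by
      intro n hn t ht
      rw [C.c2.borel_inf_monomial] at ht
      exact C.diag_le_borel
        ((Subgroup.mem_normalizer_iff.mp (C.c2.monomial_le_normalizer_diag hn) t).mp ht))
    C.SSet_subset_monomial
    (by
      intro s hs
      obtain ⟨i, hi, rfl⟩ := C.eq_nG_of_SSet s hs
      exact C.diag_le_borel (C.nG_sq_mem_diag _ _))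
    (by
      intro s hs s' hs' h
      obtain ⟨i, hi, rfl⟩ := C.eq_nG_of_SSet s hs
      obtain ⟨j, hj, rfl⟩ := C.eq_nG_of_SSet s' hs'
      exact C.nG_congr _ _ _ _ (C.nG_inj i j hi hj h))
    (by rw [C.c2.borel_inf_monomial]; exact C.closure_SSet_sup_diag)
    (by
      intro s hs n hn b hb
      obtain ⟨i, hi, rfl⟩ := C.eq_nG_of_SSet s hs
      exact C.nG_mul_borel_mul i hi n hn b hb)
    (by
      intro s hs
      obtain ⟨i, hi, rfl⟩ := C.eq_nG_of_SSet s hs
      exact C.conj_ne i hi)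

theorem Cert6.bnPair_B (C : Cert6 D fd fx fc) :
    (C.bnPair F).B = (D.borelSubgroup F).subgroupOf (D.group F) := rfl

theorem Cert6.bnPair_N (C : Cert6 D fd fx fc) :
    (C.bnPair F).N = (D.monomialSubgroup F).subgroupOf (D.group F) := rfl

theorem Cert6.bnPair_S (C : Cert6 D fd fx fc) :
    (C.bnPair F).S = {n : ↥(D.group F) | ∃ i < D.rank,
      ((n : GL D.Idx F) : Matrix D.Idx D.Idx F) = D.nMat F (D.simple i) 1} := rfl

end Cfsg.Agent.Lib.H29.Chev
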