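import Mathlib
import Cfsg.Prelude.Def_ChevStructure
import Cfsg.Prelude.Def_LieExceptional
import Cfsg.Agent.Lib.H29.ChevGen25
import Cfsg.Agent.Lib.H2.BN5

/-!
# The canonical form `g = b n u` with `u ∈ U_n⁻`
-/

set_option autoImplicit false
set_option linter.unusedSectionVars false
set_option linter.unusedSimpArgs false
set_option linter.unusedVariables false

namespace Cfsg.Agent.Lib.H29.Chev

open Cfsg.Lie Matrix

variable {D : ChevalleyDatum} {fd : FD} {fx : FX} {fc : FC} {F : Type*} [Field F]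

/-- the generators of `U_n⁻` -/
def UwSet (D : ChevalleyDatum) (F : Type*) [Field F] (n : GL D.Idx F) : Set (GL D.Idx F) :=
  {x | ∃ (r : ℕ) (t : F), D.IsPosRoot r ∧
    (D.rootSubgroup F r).map (MulAut.conj n).toMonoidHom ≤ D.negUnipotent F ∧
    (x : Matrix D.Idx D.Idx F) = D.x F r t}

/-- the subgroup `U_n⁻` generated by the positive root subgroups which `n` conjugates into `V` -/
def Uw (D : ChevalleyDatum) (F : Type*) [Field F] (n : GL D.Idx F) : Subgroup (GL D.Idx F) :=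
  Subgroup.closure (UwSet D F n)

section BNlen

open Cfsg.Agent.Lib.H2.BN

variable {G : Type*} [Group G] {P : Cfsg.BNPair G}

theorem len_inv_le {n : G} (hn : n ∈ P.N) : len P n⁻¹ ≤ len P n := by
  obtain ⟨l, hl, hlen, he⟩ := exists_reduced hn
  have h1 : Eqv P l.prod⁻¹ n⁻¹ := Eqv.inv (hl.prod_mem_N (le_refl _)) hn he
  have h2 : Eqv P l.prod⁻¹ l.reverse.prod := prod_inv_eqv_reverse (le_refl _) hl
  have := len_le hl.reverse (h2.symm.trans h1)
  rw [List.length_reverse, hlen] at this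
  exact this

theorem len_inv {n : G} (hn : n ∈ P.N) : len P n⁻¹ = len P n := by
  apply le_antisymm (len_inv_le hn)
  have := len_inv_le (P := P) (P.N.inv_mem hn)
  rwa [inv_inv] at this

/-- if `s B m ⊆ B s m B` then `ℓ(s m) = ℓ(m) + 1` -/
theorem len_smul_of_subset {s m : G} (hs : s ∈ P.S) (hm : m ∈ P.N)
    (h : ∀ b ∈ P.B, s * b * m ∈ C P (s * m)) : len P (s * m) = len P m + 1 := by
  rcases len_smul_cases hs hm with h1 | h1
  · exact h1
  · exfalso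
    obtain ⟨b, hb, hb'⟩ := exists_smul_mem_C_of_len_lt hs hm (by omega)
    have h2 := h b hb
    have hsm : s * m ∈ P.N := P.N.mul_mem (S_mem_N hs) hm
    have e : C P m = C P (s * m) := by rw [← C_eq_of_mem hb', ← C_eq_of_mem h2]
    have h3 : s * m ∈ C P m := by rw [e]; exact mem_C_self _
    exact not_eqv_smul hs hm (eqv_of_mem_C hm hsm h3).symm

end BNlen

namespace Cert6

variable (C : Cert6 D fd fx fc)
include C

theorem xA_mem_rootSubgroup (r : ℕ) (t : F) : C.c2.xA r t ∈ D.rootSubgroup F r :=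
  Subgroup.subset_closure ⟨t, C.c2.xA_val r t⟩

theorem map_conj_le_neg_iff (n : GL D.Idx F) (r : ℕ) :
    (D.rootSubgroup F r).map (MulAut.conj n).toMonoidHom ≤ D.negUnipotent F ↔
      ∀ t : F, n * C.c2.xA r t * n⁻¹ ∈ D.negUnipotent F := by
  constructor
  · intro h t
    apply h
    exact ⟨_, C.xA_mem_rootSubgroup r t, by simp [MulAut.conj_apply]⟩
  · rintro h y ⟨x, hx, rfl⟩
    obtain ⟨t, rfl⟩ := C.rootSubgroup_mem r x hx
    simpa [MulAut.conj_apply] using h t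

/-- `r` is a positive root whose root subgroup `n` conjugates into `V` -/
def Wn (n : GL D.Idx F) (r : ℕ) : Prop :=
  r < fd.n ∧ fd.n / 2 ≤ r ∧ ∀ t : F, n * C.c2.xA r t * n⁻¹ ∈ D.negUnipotent F

theorem xA_mem_Uw (n : GL D.Idx F) (r : ℕ) (h : C.Wn n r) (t : F) : C.c2.xA r t ∈ Uw D F n :=
  Subgroup.subset_closure ⟨r, t, (C.isPos_iff r).mpr ⟨h.1, h.2.1⟩, (C.map_conj_le_neg_iff n r).mpr h.2.2,
    C.c2.xA_val r t⟩

theorem eq_xA_of_UwSet (n : GL D.Idx F) (x : GL D.Idx F) (hx : x ∈ UwSet D F n) :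
    ∃ r t, C.Wn n r ∧ x = C.c2.xA r t := by
  obtain ⟨r, t, hpos, hm, hx⟩ := hx
  obtain ⟨h1, h2⟩ := (C.isPos_iff r).mp hpos
  exact ⟨r, t, ⟨h1, h2, (C.map_conj_le_neg_iff n r).mp hm⟩, gl_ext (by rw [hx, C.c2.xA_val])⟩

/-- transport of `U_n⁻` by conjugation -/
theorem conj_Uw_le (a n n' : GL D.Idx F)
    (h : ∀ r, C.Wn n r → ∃ r' c, C.Wn n' r' ∧ ∀ t : F, a * C.c2.xA r t * a⁻¹ = C.c2.xA r' (c * t))
    (u : GL D.Idx F) (hu : u ∈ Uw D F n) : a * u * a⁻¹ ∈ Uw D F n' := by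
  unfold Uw at hu
  induction hu using Subgroup.closure_induction with
  | mem x hx =>
    obtain ⟨r, t, hr, rfl⟩ := C.eq_xA_of_UwSet n x hx
    obtain ⟨r', c, hr', e⟩ := h r hr
    rw [e]
    exact C.xA_mem_Uw n' r' hr' _
  | one => simp
  | mul x y _ _ hx hy =>
    have : a * (x * y) * a⁻¹ = (a * x * a⁻¹) * (a * y * a⁻¹) := by group
    rw [this]; exact mul_mem hx hy
  | inv x _ hx =>
    have : a * x⁻¹ * a⁻¹ = (a * x * a⁻¹)⁻¹ := by group
    rw [this]; exact inv_mem hx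

/-- `n U_n⁻ n⁻¹ ≤ V` -/
theorem conj_Uw_mem_neg (n u : GL D.Idx F) (hu : u ∈ Uw D F n) : n * u * n⁻¹ ∈ D.negUnipotent F := by
  unfold Uw at hu
  induction hu using Subgroup.closure_induction with
  | mem x hx =>
    obtain ⟨r, t, hr, rfl⟩ := C.eq_xA_of_UwSet n x hx
    exact hr.2.2 t
  | one => simp
  | mul x y _ _ hx hy =>
    have : n * (x * y) * n⁻¹ = (n * x * n⁻¹) * (n * y * n⁻¹) := by group
    rw [this]; exact mul_mem hx hy
  | inv x _ hx =>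
    have : n * x⁻¹ * n⁻¹ = (n * x * n⁻¹)⁻¹ := by group
    rw [this]; exact inv_mem hx

theorem Uw_le_borel (n : GL D.Idx F) : Uw D F n ≤ D.borelSubgroup F := by
  unfold Uw
  rw [Subgroup.closure_le]
  intro x hx
  obtain ⟨r, t, hr, rfl⟩ := C.eq_xA_of_UwSet n x hx
  exact C.xA_pos_mem_borel r hr.1 hr.2.1 t

/-- `H` normalises `U_n⁻` -/
theorem diag_conj_Uw (n k u : GL D.Idx F) (hk : k ∈ D.diagonalSubgroup F) (hu : u ∈ Uw D F n) :
    k * u * k⁻¹ ∈ Uw D F n := by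
  apply C.conj_Uw_le k n n _ u hu
  intro r hr
  have hr' : r < D.nroots := by rw [C.c2.nroots_eq]; exact hr.1
  exact ⟨r, _, hr, fun t => (C.c2.diag_conj_x k hk).2 ⟨r, hr'⟩ t⟩

/-- `U_n⁻ ≤ U_{nk}⁻` for `k ∈ H` -/
theorem Uw_le_mul_diag (n k : GL D.Idx F) (hk : k ∈ D.diagonalSubgroup F) : Uw D F n ≤ Uw D F (n * k) := by
  intro u hu
  have := C.conj_Uw_le 1 n (n * k) ?_ u hu
  · simpa using this
  · intro r hr
    have hr' : r < D.nroots := by rw [C.c2.nroots_eq]; exact hr.1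
    refine ⟨r, 1, ⟨hr.1, hr.2.1, fun t => ?_⟩, fun t => by simp⟩
    have e : n * k * C.c2.xA r t * (n * k)⁻¹ = n * (k * C.c2.xA r t * k⁻¹) * n⁻¹ := by group
    rw [e, (C.c2.diag_conj_x k hk).2 ⟨r, hr'⟩ t]
    exact hr.2.2 _

/-- `s⁻¹ U_n⁻ s ≤ U_{ns}⁻` and `X_p ≤ U_{ns}⁻` when `n X_p n⁻¹` is a positive root subgroup (`s = n_p`) -/
theorem step_mem_Uw (i : ℕ) (hi : i < fd.l) (n : GL D.Idx F) (π : ℕ → ℕ) (hπ : C.c2.Perm n π)
    (hpos : fd.n / 2 ≤ π (fd.simples.getD i 0)) (u : GL D.Idx F) (hu : u ∈ Uw D F n) (t : F) :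
    (C.c2.nG (fd.simples.getD i 0) (C.c2.simple_lt i hi))⁻¹ * u *
        C.c2.nG (fd.simples.getD i 0) (C.c2.simple_lt i hi) * C.c2.xA (fd.simples.getD i 0) t ∈
      Uw D F (n * C.c2.nG (fd.simples.getD i 0) (C.c2.simple_lt i hi)) := by
  have hp := C.c2.simple_lt i hi
  have hpp := C.simple_pos i hi
  have hev := C.c2.heven
  set s := C.c2.nG (F := F) (fd.simples.getD i 0) hp with hs
  obtain ⟨hπ1, hπ2, c, hπ3⟩ := hπ _ hp
  apply mul_mem
  · have := C.conj_Uw_le s⁻¹ n (n * s) ?_ u hu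
    · rwa [inv_inv] at this
    · intro r hr
      -- `r ≠ p`
      have hrp : r ≠ fd.simples.getD i 0 := by
        rintro rfl
        have h1 := hr.2.2 1
        rw [hπ3] at h1
        have h2 : C.c2.xA (π (fd.simples.getD i 0)) (c * 1) ∈ D.borelSubgroup F ⊓ D.negUnipotent F :=
          Subgroup.mem_inf.mpr ⟨C.xA_pos_mem_borel _ hπ1 hpos _, h1⟩
        rw [C.c2.borel_inf_neg, Subgroup.mem_bot] at h2
        have h3 : C.c2.xA (fd.simples.getD i 0) (1 : F) = 1 := by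
          have e := congrArg (fun g => n⁻¹ * g * n) (hπ3 1)
          rw [h2] at e
          simp only [mul_one, inv_mul_cancel] at e
          rw [← e]; group
        exact one_ne_zero (C.xA_eq_one _ hp (1 : F) h3)
      obtain ⟨_, w2, w3⟩ := fd.up_spec C.up i hi r hr.1
      obtain ⟨w4, _, _⟩ := w3 hr.2.1 hrp
      obtain ⟨_, _, c', e'⟩ := (C.perm_nG (F := F) i hi).2 r hr.1
      refine ⟨fd.nw fx (fd.simples.getD i 0) r, c', ⟨w4.1, w4.2.1, fun t' => ?_⟩, e'⟩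
      -- `(n s) x_{w_p r}(t') (n s)⁻¹ = n x_r(η t') n⁻¹`
      obtain ⟨_, _, c'', e''⟩ := (C.perm_nG (F := F) i hi).1 _ w4.1
      have e3 : n * s * C.c2.xA (fd.nw fx (fd.simples.getD i 0) r) t' * (n * s)⁻¹ =
          n * (s * C.c2.xA (fd.nw fx (fd.simples.getD i 0) r) t' * s⁻¹) * n⁻¹ := by group
      rw [e3, e'' t', w2]
      exact hr.2.2 _
  · apply C.xA_mem_Uw
    refine ⟨hp, hpp, fun t' => ?_⟩
    have e3 : n * s * C.c2.xA (fd.simples.getD i 0) t' * (n * s)⁻¹ =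
        n * (s * C.c2.xA (fd.simples.getD i 0) t' * s⁻¹) * n⁻¹ := by group
    rw [e3, C.nG_conj_self _ hp]
    have hp' : fd.n - 1 - fd.simples.getD i 0 < fd.n := by omega
    obtain ⟨q1, _, c', q3⟩ := hπ _ hp'
    rw [q3, hπ2]
    exact C.xA_neg_mem_neg _ (by omega) (by omega) _

/-- the inductive step for the canonical form -/
theorem canon_step (i : ℕ) (hi : i < fd.l) (n₁ h₀ : GL D.Idx F) (hn₁ : n₁ ∈ D.monomialSubgroup F)
    (hh₀ : h₀ ∈ D.diagonalSubgroup F) (π : ℕ → ℕ) (hπ : C.c2.Perm n₁ π)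
    (hpos : fd.n / 2 ≤ π (fd.simples.getD i 0))
    (ih : ∀ g' ∈ DoubleCoset.doubleCoset n₁ (D.borelSubgroup F : Set (GL D.Idx F)) (D.borelSubgroup F),
      ∃ b ∈ D.borelSubgroup F, ∃ u ∈ Uw D F n₁, g' = b * n₁ * u)
    (g : GL D.Idx F)
    (hg : g ∈ DoubleCoset.doubleCoset (n₁ * C.c2.nG (fd.simples.getD i 0) (C.c2.simple_lt i hi) * h₀)
      (D.borelSubgroup F : Set (GL D.Idx F)) (D.borelSubgroup F)) :
    ∃ b ∈ D.borelSubgroup F,
      ∃ u ∈ Uw D F (n₁ * C.c2.nG (fd.simples.getD i 0) (C.c2.simple_lt i hi) * h₀),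
        g = b * (n₁ * C.c2.nG (fd.simples.getD i 0) (C.c2.simple_lt i hi) * h₀) * u := by
  have hp := C.c2.simple_lt i hi
  set s := C.c2.nG (F := F) (fd.simples.getD i 0) hp with hs
  have hsN : s ∈ D.monomialSubgroup F := C.c2.nG_mem_monomial _ hp
  rw [DoubleCoset.mem_doubleCoset] at hg
  obtain ⟨b₁, hb₁, b₂, hb₂, rfl⟩ := hg
  have hb₃ : h₀ * b₂ ∈ D.borelSubgroup F := mul_mem (C.diag_le_borel hh₀) hb₂
  obtain ⟨u₀, hu₀, h, hh, e₀⟩ := C.c2.borel_mem _ hb₃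
  obtain ⟨v, hv, t, rfl⟩ := C.pos_mem_Up_mul i hi u₀ hu₀
  have hv' : s * v * s⁻¹ ∈ Up D F (fd.simples.getD i 0) :=
    (Subgroup.mem_normalizer_iff.mp (C.nG_mem_normalizer_Up i hi) v).mp hv
  obtain ⟨b, hb, u₁, hu₁, e₁⟩ := ih (b₁ * n₁ * (s * v * s⁻¹))
    (DoubleCoset.mem_doubleCoset.mpr ⟨b₁, hb₁, _, C.Up_le_borel _ hv', rfl⟩)
  -- the element `y ∈ U_{n₁ s}⁻`
  have hy := C.step_mem_Uw i hi n₁ π hπ hpos u₁ hu₁ t
  rw [← hs] at hy
  set y := s⁻¹ * u₁ * s * C.c2.xA (fd.simples.getD i 0) t with hydef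
  have hy2 : y ∈ Uw D F (n₁ * s * h₀) := C.Uw_le_mul_diag _ _ hh₀ hy
  have hy3 : h₀⁻¹ * y * h₀⁻¹⁻¹ ∈ Uw D F (n₁ * s * h₀) := C.diag_conj_Uw _ _ _ (inv_mem hh₀) hy2
  have hk : h₀⁻¹ * h ∈ D.diagonalSubgroup F := mul_mem (inv_mem hh₀) hh
  have hy4 : (h₀⁻¹ * h)⁻¹ * (h₀⁻¹ * y * h₀⁻¹⁻¹) * (h₀⁻¹ * h)⁻¹⁻¹ ∈ Uw D F (n₁ * s * h₀) :=
    C.diag_conj_Uw _ _ _ (inv_mem hk) hy3
  have hnN : n₁ * s * h₀ ∈ D.monomialSubgroup F :=
    mul_mem (mul_mem hn₁ hsN) ((le_sup_left : D.diagonalSubgroup F ≤ D.monomialSubgroup F) hh₀)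
  have hk' : (n₁ * s * h₀) * (h₀⁻¹ * h) * (n₁ * s * h₀)⁻¹ ∈ D.diagonalSubgroup F :=
    (Subgroup.mem_normalizer_iff.mp (C.c2.monomial_le_normalizer_diag hnN) _).mp hk
  refine ⟨b * ((n₁ * s * h₀) * (h₀⁻¹ * h) * (n₁ * s * h₀)⁻¹), mul_mem hb (C.diag_le_borel hk'), _, hy4, ?_⟩
  have e2 : b₁ * (n₁ * s * h₀) * b₂ = b₁ * n₁ * (s * v * s⁻¹) * s * C.c2.xA (fd.simples.getD i 0) t * h := by
    have : b₁ * (n₁ * s * h₀) * b₂ = b₁ * n₁ * s * (h₀ * b₂) := by group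
    rw [this, ← e₀]; group
  rw [e2, e₁, hydef]
  group

open Cfsg.Agent.Lib.H2.BN in
/-- if `ℓ(n s) = ℓ(n) + 1` then `n X_p n⁻¹` is a positive root subgroup -/
theorem pos_of_len (i : ℕ) (hi : i < fd.l) (n₁ s : ↥(D.group F)) (hn₁ : n₁ ∈ (C.bnPair F).N)
    (hs : (s : GL D.Idx F) = C.c2.nG (fd.simples.getD i 0) (C.c2.simple_lt i hi))
    (hlen : len (C.bnPair F) (n₁ * s) = len (C.bnPair F) n₁ + 1) (π : ℕ → ℕ)
    (hπ : C.c2.Perm (n₁ : GL D.Idx F) π) : fd.n / 2 ≤ π (fd.simples.getD i 0) := by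
  by_contra hneg
  have hp := C.c2.simple_lt i hi
  have hsS : s ∈ (C.bnPair F).S := by
    show (s : GL D.Idx F) ∈ SSet D F
    rw [hs]; exact C.nG_mem_SSet i hi
  have hsN : s ∈ (C.bnPair F).N := (C.bnPair F).subset hsS
  have hm : s⁻¹ * n₁⁻¹ ∈ (C.bnPair F).N :=
    (C.bnPair F).N.mul_mem ((C.bnPair F).N.inv_mem hsN) ((C.bnPair F).N.inv_mem hn₁)
  have hmN : ((s⁻¹ * n₁⁻¹ : ↥(D.group F)) : GL D.Idx F) ∈ D.monomialSubgroup F := Subgroup.mem_subgroupOf.mp hm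
  have hπ' : C.c2.Perm ((s⁻¹ * n₁⁻¹ : ↥(D.group F)) : GL D.Idx F)⁻¹ (π ∘ fd.nw fx (fd.simples.getD i 0)) := by
    have e : ((s⁻¹ * n₁⁻¹ : ↥(D.group F)) : GL D.Idx F)⁻¹ =
        (n₁ : GL D.Idx F) * C.c2.nG (fd.simples.getD i 0) hp := by
      rw [← hs]; simp
    rw [e]
    exact C.perm_mul hπ (C.perm_nG i hi).1
  have hpos' : fd.n / 2 ≤ (π ∘ fd.nw fx (fd.simples.getD i 0)) (fd.simples.getD i 0) := by
    simp only [Function.comp]
    rw [(fd.neg_spec C.c2.neg _ hp).1, (hπ _ hp).2.1]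
    have := (hπ _ hp).1
    have hev := C.c2.heven
    omega
  have key := len_smul_of_subset (P := C.bnPair F) hsS hm (by
    intro b hb
    have hb' : (b : GL D.Idx F) ∈ D.borelSubgroup F := Subgroup.mem_subgroupOf.mp hb
    have := C.nG_mul_borel_mul_pos i hi _ hmN _ hπ' hpos' (b : GL D.Idx F) hb'
    rw [DoubleCoset.mem_doubleCoset] at this
    obtain ⟨b₁, hb₁, b₂, hb₂, e⟩ := this
    rw [mem_C_iff]
    refine ⟨⟨b₁, C.c2.borel_le_group hb₁⟩, Subgroup.mem_subgroupOf.mpr hb₁,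
      ⟨b₂, C.c2.borel_le_group hb₂⟩, Subgroup.mem_subgroupOf.mpr hb₂, ?_⟩
    apply Subtype.ext
    simp only [Subgroup.coe_mul]
    rw [hs]
    exact e)
  have e1 : s * (s⁻¹ * n₁⁻¹) = n₁⁻¹ := by group
  have e2 : s⁻¹ * n₁⁻¹ = (n₁ * s)⁻¹ := by group
  rw [e1, e2, len_inv hn₁, len_inv ((C.bnPair F).N.mul_mem hn₁ hsN)] at key
  omega

open Cfsg.Agent.Lib.H2.BN in
/-- existence of the canonical form, by induction on the length -/
theorem canon_exists_aux (k : ℕ) : ∀ n : ↥(D.group F), n ∈ (C.bnPair F).N → len (C.bnPair F) n = k →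
    ∀ g ∈ DoubleCoset.doubleCoset (n : GL D.Idx F) (D.borelSubgroup F : Set (GL D.Idx F)) (D.borelSubgroup F),
      ∃ b ∈ D.borelSubgroup F, ∃ u ∈ Uw D F (n : GL D.Idx F), g = b * n * u := by
  induction k with
  | zero =>
    intro n hn hlen g hg
    have hnB : (n : GL D.Idx F) ∈ D.borelSubgroup F :=
      Subgroup.mem_subgroupOf.mp (mem_B_of_len_eq_zero hn hlen)
    rw [DoubleCoset.mem_doubleCoset] at hg
    obtain ⟨b₁, hb₁, b₂, hb₂, rfl⟩ := hg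
    refine ⟨b₁ * n * b₂ * (n : GL D.Idx F)⁻¹, mul_mem (mul_mem (mul_mem hb₁ hnB) hb₂) (inv_mem hnB), 1,
      one_mem _, by group⟩
  | succ k ih =>
    intro n hn hlen g hg
    obtain ⟨l, hl, hll, he⟩ := exists_reduced hn
    rcases List.eq_nil_or_concat l with rfl | ⟨l', s, hl_eq⟩
    · simp [hlen] at hll
    rw [List.concat_eq_append] at hl_eq
    subst hl_eq
    have hsS : s ∈ (C.bnPair F).S := hl s (by simp)
    have hsN : s ∈ (C.bnPair F).N := (C.bnPair F).subset hsS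
    obtain ⟨hl', _⟩ := hl.of_append
    have hn₁ : l'.prod ∈ (C.bnPair F).N := hl'.prod_mem_N (le_refl _)
    have hlen₁ : len (C.bnPair F) l'.prod = k := by
      rw [len_init hl hll he]
      rw [List.length_append, List.length_singleton, hlen] at hll
      omega
    have he' := he
    rw [List.prod_append, List.prod_singleton] at he'
    have hlen₂ : len (C.bnPair F) (l'.prod * s) = len (C.bnPair F) l'.prod + 1 := by
      rw [len_congr he', hlen, hlen₁]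
    obtain ⟨i, hi, hs⟩ := C.eq_nG_of_SSet (s : GL D.Idx F) hsS
    obtain ⟨⟨π, hπ⟩, _⟩ := C.perm_of_mem (l'.prod : GL D.Idx F) (Subgroup.mem_subgroupOf.mp hn₁)
    have hpos := C.pos_of_len i hi l'.prod s hn₁ hs hlen₂ π hπ
    -- `h₀ = (n₁ s)⁻¹ n ∈ H`
    have hh₀ : (((l'.prod * s)⁻¹ * n : ↥(D.group F)) : GL D.Idx F) ∈ D.diagonalSubgroup F := by
      rw [← C.c2.borel_inf_monomial]
      exact Subgroup.mem_inf.mpr ⟨Subgroup.mem_subgroupOf.mp he',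
        Subgroup.mem_subgroupOf.mp ((C.bnPair F).N.mul_mem
          ((C.bnPair F).N.inv_mem ((C.bnPair F).N.mul_mem hn₁ hsN)) hn)⟩
    have en : (n : GL D.Idx F) = (l'.prod : GL D.Idx F) * C.c2.nG (fd.simples.getD i 0) (C.c2.simple_lt i hi) *
        (((l'.prod * s)⁻¹ * n : ↥(D.group F)) : GL D.Idx F) := by
      have e0 : n = l'.prod * s * ((l'.prod * s)⁻¹ * n) := by group
      have e1 := congrArg (Subtype.val : ↥(D.group F) → GL D.Idx F) e0
      rw [Subgroup.coe_mul, Subgroup.coe_mul, hs] at e1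
      exact e1
    rw [en] at hg ⊢
    exact C.canon_step i hi _ _ (Subgroup.mem_subgroupOf.mp hn₁) hh₀ π hπ hpos
      (ih l'.prod hn₁ hlen₁) g hg

open Cfsg.Agent.Lib.H2.BN in
/-- the canonical form `g = b n u`, `u ∈ U_n⁻`: existence and uniqueness -/
theorem canonical_form :
    (∀ g ∈ D.group F, ∃ b ∈ D.borelSubgroup F, ∃ n ∈ D.monomialSubgroup F, ∃ u ∈ Uw D F n, g = b * n * u) ∧
    (∀ (b b' n n' u u' : GL D.Idx F), b ∈ D.borelSubgroup F → b' ∈ D.borelSubgroup F →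
      n ∈ D.monomialSubgroup F → n' ∈ D.monomialSubgroup F → u ∈ Uw D F n → u' ∈ Uw D F n' →
      b * n * u = b' * n' * u' → n⁻¹ * n' ∈ D.diagonalSubgroup F ∧ (n = n' → b = b' ∧ u = u')) := by
  constructor
  · intro g hg
    obtain ⟨n, hn, hgn⟩ := bruhat (P := C.bnPair F) ⟨g, hg⟩
    rw [mem_C_iff] at hgn
    obtain ⟨b₁, hb₁, b₂, hb₂, e⟩ := hgn
    have e' := congrArg Subtype.val e
    simp only [Subgroup.coe_mul] at e'
    obtain ⟨b, hb, u, hu, e2⟩ := C.canon_exists_aux _ n hn rfl g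
      (DoubleCoset.mem_doubleCoset.mpr ⟨b₁, Subgroup.mem_subgroupOf.mp hb₁, b₂, Subgroup.mem_subgroupOf.mp hb₂, e'⟩)
    exact ⟨b, hb, n, Subgroup.mem_subgroupOf.mp hn, u, hu, e2⟩
  · intro b b' n n' u u' hb hb' hn hn' hu hu' e
    constructor
    · -- uniqueness of the double coset
      have hnG := C.c2.monomial_le_group hn
      have hn'G := C.c2.monomial_le_group hn'
      have h1 : (⟨n', hn'G⟩ : ↥(D.group F)) ∈ Cfsg.Agent.Lib.H2.BN.C (C.bnPair F) (⟨n, hnG⟩ : ↥(D.group F)) := by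
        rw [mem_C_iff]
        have hb1 : b'⁻¹ * b ∈ D.borelSubgroup F := mul_mem (inv_mem hb') hb
        have hb2 : u * u'⁻¹ ∈ D.borelSubgroup F := mul_mem (C.Uw_le_borel n hu) (inv_mem (C.Uw_le_borel n' hu'))
        refine ⟨⟨_, C.c2.borel_le_group hb1⟩, Subgroup.mem_subgroupOf.mpr hb1,
          ⟨_, C.c2.borel_le_group hb2⟩, Subgroup.mem_subgroupOf.mpr hb2, ?_⟩
        apply Subtype.ext
        simp only [Subgroup.coe_mul]
        have : b'⁻¹ * b * n * (u * u'⁻¹) = b'⁻¹ * (b * n * u) * u'⁻¹ := by group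
        rw [this, e]; group
      have h2 := eqv_of_mem_C (P := C.bnPair F) (Subgroup.mem_subgroupOf.mpr hn)
        (Subgroup.mem_subgroupOf.mpr hn') h1
      have h3 : n⁻¹ * n' ∈ D.borelSubgroup F := Subgroup.mem_subgroupOf.mp h2
      rw [← C.c2.borel_inf_monomial]
      exact Subgroup.mem_inf.mpr ⟨h3, mul_mem (inv_mem hn) hn'⟩
    · rintro rfl
      have h1 : n * (u' * u⁻¹) * n⁻¹ ∈ D.negUnipotent F :=
        C.conj_Uw_mem_neg n _ (mul_mem hu' (inv_mem hu))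
      have e1 : n * (u' * u⁻¹) * n⁻¹ = b'⁻¹ * b := by
        have : b'⁻¹ * b = b'⁻¹ * (b * n * u) * u⁻¹ * n⁻¹ := by group
        rw [this, e]; group
      have h2 : b'⁻¹ * b ∈ D.borelSubgroup F ⊓ D.negUnipotent F :=
        Subgroup.mem_inf.mpr ⟨mul_mem (inv_mem hb') hb, by rw [← e1]; exact h1⟩
      rw [C.c2.borel_inf_neg, Subgroup.mem_bot] at h2
      have hbb : b = b' := by
        have : b = b' * (b'⁻¹ * b) := by group
        rw [this, h2, mul_one]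
      refine ⟨hbb, ?_⟩
      rw [hbb] at e
      exact mul_left_cancel e

end Cert6

end Cfsg.Agent.Lib.H29.Chev
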