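import Mathlib
import Cfsg.Prelude.Def_ChevStructure
import Cfsg.Agent.Lib.H29.ChevGen28

/-!
# Elements of `H` conjugate in the Chevalley group are conjugate under `N`
-/

set_option autoImplicit false
set_option linter.unusedSectionVars false
set_option linter.unusedSimpArgs false
set_option linter.unusedVariables false

namespace Cfsg.Agent.Lib.H29.Chev

open Cfsg.Lie Matrix

variable {D : ChevalleyDatum} {fd : FD} {fx : FX} {fc : FC} {F : Type*} [Field F]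

namespace Cert6

variable (C : Cert6 D fd fx fc)
include C

/-- `U_n⁻ ≤ U_{kn}⁻` for `k ∈ H` -/
theorem Uw_le_diag_mul (n k : GL D.Idx F) (hk : k ∈ D.diagonalSubgroup F) : Uw D F n ≤ Uw D F (k * n) := by
  intro u hu
  have := C.conj_Uw_le 1 n (k * n) ?_ u hu
  · simpa using this
  · intro r hr
    refine ⟨r, 1, ⟨hr.1, hr.2.1, fun t => ?_⟩, fun t => by simp⟩
    have e : k * n * C.c2.xA r t * (k * n)⁻¹ = k * (n * C.c2.xA r t * n⁻¹) * k⁻¹ := by group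
    rw [e]
    exact (Subgroup.mem_normalizer_iff.mp (C.c2.diag_le_normalizer_neg hk) _).mp (hr.2.2 t)

/-- the component in `N` of `a n u`, `a ∈ U`, `u ∈ U_n⁻`, is determined -/
theorem canon_sharp (a a' n₁ n₂ u₁ u₂ : GL D.Idx F) (ha : a ∈ D.posUnipotent F) (ha' : a' ∈ D.posUnipotent F)
    (hn₁ : n₁ ∈ D.monomialSubgroup F) (hn₂ : n₂ ∈ D.monomialSubgroup F) (hu₁ : u₁ ∈ Uw D F n₁)
    (hu₂ : u₂ ∈ Uw D F n₂) (e : a * n₁ * u₁ = a' * n₂ * u₂) : n₁ = n₂ := by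
  have hUB : D.posUnipotent F ≤ D.borelSubgroup F := le_sup_left
  obtain ⟨hh, _⟩ := C.canonical_form.2 a a' n₁ n₂ u₁ u₂ (hUB ha) (hUB ha') hn₁ hn₂ hu₁ hu₂ e
  set h := n₁⁻¹ * n₂ with hdef
  have en₂ : n₂ = n₁ * h := by rw [hdef]; group
  have hu₂' : u₂ ∈ Uw D F n₁ := by
    have := C.Uw_le_mul_diag n₂ h⁻¹ (inv_mem hh) hu₂
    have e' : n₂ * h⁻¹ = n₁ := by rw [en₂]; group
    rwa [e'] at this
  have hw : h * (u₂ * u₁⁻¹) * h⁻¹ ∈ Uw D F n₁ := C.diag_conj_Uw _ _ _ hh (mul_mem hu₂' (inv_mem hu₁))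
  have hv := C.conj_Uw_mem_neg n₁ _ hw
  have hh' : n₁ * h * n₁⁻¹ ∈ D.diagonalSubgroup F :=
    (Subgroup.mem_normalizer_iff.mp (C.c2.monomial_le_normalizer_diag hn₁) _).mp hh
  have e1 : a'⁻¹ * a = (n₁ * (h * (u₂ * u₁⁻¹) * h⁻¹) * n₁⁻¹) * (n₁ * h * n₁⁻¹) := by
    have : a'⁻¹ * a = a'⁻¹ * (a * n₁ * u₁) * u₁⁻¹ * n₁⁻¹ := by group
    rw [this, e, en₂]; group
  have hU : a'⁻¹ * a ∈ D.posUnipotent F := mul_mem (inv_mem ha') ha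
  have hv1 : n₁ * (h * (u₂ * u₁⁻¹) * h⁻¹) * n₁⁻¹ ∈ D.borelSubgroup F ⊓ D.negUnipotent F := by
    refine Subgroup.mem_inf.mpr ⟨?_, hv⟩
    have : n₁ * (h * (u₂ * u₁⁻¹) * h⁻¹) * n₁⁻¹ = (a'⁻¹ * a) * (n₁ * h * n₁⁻¹)⁻¹ := by rw [e1]; group
    rw [this]
    exact mul_mem (hUB hU) (inv_mem (C.diag_le_borel hh'))
  rw [C.c2.borel_inf_neg, Subgroup.mem_bot] at hv1
  rw [hv1, one_mul] at e1
  have h1 : n₁ * h * n₁⁻¹ ∈ D.posUnipotent F ⊓ D.diagonalSubgroup F :=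
    Subgroup.mem_inf.mpr ⟨by rw [← e1]; exact hU, hh'⟩
  rw [C.c2.pos_inf_diag, Subgroup.mem_bot] at h1
  have h2 : h = 1 := by
    have : h = n₁⁻¹ * (n₁ * h * n₁⁻¹) * n₁ := by group
    rw [this, h1]; group
  rw [en₂, h2, mul_one]

/-- two elements of `H` conjugate in the Chevalley group are conjugate by an element of `N` -/
theorem diag_conj_monomial (h₁ h₂ g : GL D.Idx F) (h1 : h₁ ∈ D.diagonalSubgroup F)
    (h2 : h₂ ∈ D.diagonalSubgroup F) (hg : g ∈ D.group F) (hc : g * h₁ * g⁻¹ = h₂) :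
    ∃ n ∈ D.monomialSubgroup F, n * h₁ * n⁻¹ = h₂ := by
  obtain ⟨b, hb, n, hn, u, hu, rfl⟩ := C.canonical_form.1 g hg
  obtain ⟨u₀, hu₀, k, hk, rfl⟩ := C.c2.borel_mem b hb
  have hHN : D.diagonalSubgroup F ≤ D.monomialSubgroup F := le_sup_left
  refine ⟨n, hn, ?_⟩
  have hcomm : u₀ * k * n * u * h₁ = h₂ * (u₀ * k * n * u) := by
    rw [← hc]; group
  have hu' : h₁⁻¹ * u * h₁⁻¹⁻¹ ∈ Uw D F n := C.diag_conj_Uw _ _ _ (inv_mem h1) hu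
  have hu'' : h₁⁻¹ * u * h₁⁻¹⁻¹ ∈ Uw D F (k * n * h₁) :=
    C.Uw_le_mul_diag _ _ h1 (C.Uw_le_diag_mul _ _ hk hu')
  have hu2 : u ∈ Uw D F (h₂ * k * n) := C.Uw_le_diag_mul n (h₂ * k) (mul_mem h2 hk) hu
  have hu₀' : h₂ * u₀ * h₂⁻¹ ∈ D.posUnipotent F :=
    (Subgroup.mem_normalizer_iff.mp (C.c2.diag_le_normalizer_pos h2) _).mp hu₀
  have key := C.canon_sharp u₀ (h₂ * u₀ * h₂⁻¹) (k * n * h₁) (h₂ * k * n) _ u hu₀ hu₀'
    (mul_mem (mul_mem (hHN hk) hn) (hHN h1)) (mul_mem (mul_mem (hHN h2) (hHN hk)) hn) hu'' hu2 (by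
      have : u₀ * (k * n * h₁) * (h₁⁻¹ * u * h₁⁻¹⁻¹) = u₀ * k * n * u * h₁ := by group
      rw [this, hcomm]; group)
  -- `k n h₁ = h₂ k n`
  have e1 : n * h₁ * n⁻¹ = k⁻¹ * h₂ * k := by
    have : n * h₁ * n⁻¹ = k⁻¹ * (k * n * h₁) * n⁻¹ := by group
    rw [this, key]; group
  rw [e1, mul_assoc, C.c2.diag_comm h₂ k h2 hk, ← mul_assoc, inv_mul_cancel, one_mul]

end Cert6

end Cfsg.Agent.Lib.H29.Chev
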