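import Mathlib
import Cfsg.Prelude.Def_ChevStructure
import Cfsg.Agent.Lib.H29.ChevGen28
import Cfsg.Agent.Lib.H29.ChevFast8

/-!
# Ordered products of positive root elements: existence

For a set `Ψ` of positive roots closed under the commutator formula, every element of the subgroup generated by
the `X_s`, `s ∈ Ψ`, is a product of root elements taken in increasing order of the roots.
-/

set_option autoImplicit false
set_option linter.unusedSectionVars false
set_option linter.unusedSimpArgs false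
set_option linter.unusedVariables false

namespace Cfsg.Agent.Lib.H29.Chev

open Cfsg.Lie Matrix

variable {D : ChevalleyDatum} {fd : FD} {fx : FX} {fc : FC} {fz : FZ} {F : Type*} [Field F]

structure Cert12 (D : ChevalleyDatum) (fd : FD) (fx : FX) (fc : FC) (fz : FZ) : Prop where
  c6 : Cert6 D fd fx fc
  sgn : fd.ChkSgn fx
  linc : fd.ChkLinC fx
  f : fd.ChkF fx fz

theorem FD.linc_spec (hl : fd.ChkLinC fx) (r s : ℕ) (hr : r < fd.n) (hs : s < fd.n)
    (c : ℕ × ℤ × ℕ × ℕ) (hc : c ∈ fd.commT r s) :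
    c.1 < fd.n ∧
    (∀ j < fd.l, fd.rcZ fx c.1 j = (c.2.2.1 : ℤ) * fd.rcZ fx r j + (c.2.2.2 : ℤ) * fd.rcZ fx s j) ∧
    (fd.n / 2 ≤ r → fd.n / 2 ≤ s → r ≠ s → r < c.1 ∧ s < c.1) := by
  have hn : 0 < fd.n := by omega
  have hq : s + r * fd.n < fd.n * fd.n := by nlinarith
  have h := hl (s + r * fd.n) hq
  have e1 : (s + r * fd.n) / fd.n = r := by
    rw [Nat.add_mul_div_right _ _ hn, Nat.div_eq_of_lt hs, zero_add]
  have e2 : (s + r * fd.n) % fd.n = s := by
    rw [Nat.add_mul_mod_self_right, Nat.mod_eq_of_lt hs]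
  unfold FD.chkLinCQ at h
  rw [e1, e2] at h
  simp only [List.all_eq_true, Bool.and_eq_true, Bool.or_eq_true, natBlt_iff, natBeq_iff, intBeq_iff,
    List.mem_range] at h
  obtain ⟨⟨h1, h2⟩, h3⟩ := h c hc
  refine ⟨h1, h2, fun hr' hs' hne => ?_⟩
  rcases h3 with ((h3 | h3) | h3) | h3
  · omega
  · omega
  · exact absurd h3 hne
  · exact h3

theorem FD.f_spec (hf : fd.ChkF fx fz) (r : ℕ) (hr : r < fd.n) :
    ((List.range fd.l).map fun j => fd.bzZ fz r j * fd.corZ r j).sum = 1 ∧
    (fd.n / 2 ≤ r → 0 < fd.fL fx r ∧ ∀ s < fd.n, r < s → fd.fL fx r < fd.fL fx s) := by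
  have h := hf r hr
  unfold FD.chkFR at h
  simp only [List.all_eq_true, Bool.and_eq_true, Bool.or_eq_true, natBlt_iff, intBeq_iff,
    List.mem_range, decide_eq_true_eq, Bool.not_eq_true', ← Bool.not_eq_true] at h
  refine ⟨h.1, fun hr' => ?_⟩
  rcases h.2 with h2 | h2
  · omega
  · refine ⟨h2.1, fun s hs hrs => ?_⟩
    rcases h2.2 s hs with h3 | h3
    · exact absurd hrs h3
    · exact h3

/-- the weight of a coordinate for the lexicographic functional -/
def FD.wt (fd : FD) (fx : FX) (D : ChevalleyDatum) (a : D.Idx) : ℤ := fd.om fx fd.lexW (code D a)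

theorem FD.omr_lexW (r : ℕ) : fd.omr fx fd.lexW r = fd.fL fx r := rfl

/-- matrices with `1` on the diagonal whose other nonzero entries raise the weight by at least `w` -/
def Gw (D : ChevalleyDatum) (fd : FD) (fx : FX) (F : Type*) [Field F] (w : ℤ) : Set (Matrix D.Idx D.Idx F) :=
  {M | (∀ a, M a a = 1) ∧ ∀ a b, a ≠ b → M a b ≠ 0 → fd.wt fx D b + w ≤ fd.wt fx D a}

theorem Gw_one (w : ℤ) : (1 : Matrix D.Idx D.Idx F) ∈ Gw D fd fx F w := by
  refine ⟨fun a => Matrix.one_apply_eq a, fun a b hab h => ?_⟩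
  exact absurd (Matrix.one_apply_ne hab) h

theorem Gw_mul (w : ℤ) (hw : 0 < w) (M N : Matrix D.Idx D.Idx F) (hM : M ∈ Gw D fd fx F w)
    (hN : N ∈ Gw D fd fx F w) : M * N ∈ Gw D fd fx F w := by
  constructor
  · intro a
    rw [Matrix.mul_apply, Finset.sum_eq_single a]
    · rw [hM.1, hN.1, mul_one]
    · intro c _ hca
      by_contra h
      have h1 : M a c ≠ 0 := left_ne_zero_of_mul h
      have h2 : N c a ≠ 0 := right_ne_zero_of_mul h
      have := hM.2 a c (Ne.symm hca) h1
      have := hN.2 c a hca h2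
      omega
    · intro h; exact absurd (Finset.mem_univ a) h
  · intro a b hab h
    rw [Matrix.mul_apply] at h
    obtain ⟨c, _, hc⟩ := Finset.exists_ne_zero_of_sum_ne_zero h
    have h1 : M a c ≠ 0 := left_ne_zero_of_mul hc
    have h2 : N c b ≠ 0 := right_ne_zero_of_mul hc
    by_cases hac : a = c
    · subst hac
      exact hN.2 a b hab h2
    · have k1 := hM.2 a c hac h1
      by_cases hcb : c = b
      · subst hcb; exact k1
      · have k2 := hN.2 c b hcb h2
        omega

theorem XR_apply' (r : ℕ) (t : F) (a b : D.Idx) :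
    XR D F r t a b = (1 : Matrix D.Idx D.Idx F) a b + t * aR D F r 1 a b + t ^ 2 * aR D F r 2 a b +
      t ^ 3 * aR D F r 3 a b := by
  simp [XR, Matrix.add_apply, Matrix.smul_apply]

theorem XR_mem_Gw (C : Cert2 D fd fx) (r : ℕ) (hr : r < fd.n) (w : ℤ) (hw : 0 < w) (h : w ≤ fd.fL fx r) (t : F) :
    XR D F r t ∈ Gw D fd fx F w := by
  have key : ∀ k : ℕ, (k = 1 ∨ k = 2 ∨ k = 3) → ∀ a b, aR D F r k a b ≠ 0 →
      fd.wt fx D b + w ≤ fd.wt fx D a := by
    intro k hk a b hab
    have := om_grad C.agrees C.chk.grad r k hr hk fd.lexW a b hab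
    unfold FD.wt
    rw [this, FD.omr_lexW]
    have h1 : (1 : ℤ) ≤ k := by rcases hk with rfl | rfl | rfl <;> norm_num
    nlinarith
  constructor
  · intro a
    have z : ∀ k : ℕ, (k = 1 ∨ k = 2 ∨ k = 3) → aR D F r k a a = 0 := by
      intro k hk
      by_contra h0
      have := key k hk a a h0
      omega
    rw [XR_apply', z 1 (by simp), z 2 (by simp), z 3 (by simp), Matrix.one_apply_eq]
    simp
  · intro a b hab hne
    by_contra hlt
    apply hne
    have z : ∀ k : ℕ, (k = 1 ∨ k = 2 ∨ k = 3) → aR D F r k a b = 0 := by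
      intro k hk
      by_contra h0
      exact hlt (key k hk a b h0)
    rw [XR_apply', z 1 (by simp), z 2 (by simp), z 3 (by simp), Matrix.one_apply_ne hab]
    simp

end Cfsg.Agent.Lib.H29.Chev
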