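import Mathlib
import Cfsg.Prelude.Def_ChevStructure
import Cfsg.Agent.Lib.H29.ChevGen30

/-!
# Ordered products of positive root elements: existence
-/

set_option autoImplicit false
set_option linter.unusedSectionVars false
set_option linter.unusedSimpArgs false
set_option linter.unusedVariables false

namespace Cfsg.Agent.Lib.H29.Chev

open Cfsg.Lie Matrix

variable {D : ChevalleyDatum} {fd : FD} {fx : FX} {fc : FC} {fz : FZ} {F : Type*} [Field F]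

/-- the root elements of the positive roots in `Ψ` from `m` on -/
def VmSet (D : ChevalleyDatum) (F : Type*) [Field F] (Ψ : ℕ → Prop) (m : ℕ) : Set (GL D.Idx F) :=
  {g | ∃ (s : ℕ) (t : F), D.IsPosRoot s ∧ Ψ s ∧ m ≤ s ∧ (g : Matrix D.Idx D.Idx F) = D.x F s t}

/-- the subgroup generated by the root subgroups of the positive roots in `Ψ` from `m` on -/
def Vm (D : ChevalleyDatum) (F : Type*) [Field F] (Ψ : ℕ → Prop) (m : ℕ) : Subgroup (GL D.Idx F) :=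
  Subgroup.closure (VmSet D F Ψ m)

/-- `Ψ` is closed under the commutator formula -/
def FD.Closed (fd : FD) (Ψ : ℕ → Prop) : Prop :=
  ∀ r s, r < fd.n → s < fd.n → fd.n / 2 ≤ r → fd.n / 2 ≤ s → r ≠ s → Ψ r → Ψ s → ∀ c ∈ fd.commT r s, Ψ c.1

theorem Vm_anti (Ψ : ℕ → Prop) (m m' : ℕ) (h : m ≤ m') : Vm D F Ψ m' ≤ Vm D F Ψ m := by
  apply Subgroup.closure_mono
  rintro g ⟨s, t, h1, h2, h3, h4⟩
  exact ⟨s, t, h1, h2, le_trans h h3, h4⟩

namespace Cert12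

variable (C : Cert12 D fd fx fc fz)
include C

theorem xA_mem_Vm (Ψ : ℕ → Prop) (m s : ℕ) (hs : s < fd.n) (hpos : fd.n / 2 ≤ s) (hΨ : Ψ s) (hm : m ≤ s) (t : F) :
    C.c6.c2.xA s t ∈ Vm D F Ψ m :=
  Subgroup.subset_closure ⟨s, t, (C.c6.isPos_iff s).mpr ⟨hs, hpos⟩, hΨ, hm, C.c6.c2.xA_val s t⟩

theorem eq_xA_of_VmSet (Ψ : ℕ → Prop) (m : ℕ) (g : GL D.Idx F) (hg : g ∈ VmSet D F Ψ m) :
    ∃ s t, s < fd.n ∧ fd.n / 2 ≤ s ∧ Ψ s ∧ m ≤ s ∧ g = C.c6.c2.xA s t := by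
  obtain ⟨s, t, hpos, hΨ, hm, hg⟩ := hg
  obtain ⟨h1, h2⟩ := (C.c6.isPos_iff s).mp hpos
  exact ⟨s, t, h1, h2, hΨ, hm, gl_ext (by rw [hg, C.c6.c2.xA_val])⟩

theorem ctG_mem_Vm (Ψ : ℕ → Prop) (m : ℕ) (L : List (ℕ × ℤ × ℕ × ℕ))
    (hL : ∀ c ∈ L, c.1 < fd.n ∧ fd.n / 2 ≤ c.1 ∧ Ψ c.1 ∧ m ≤ c.1) (t u : F) :
    C.c6.c2.ctG L t u ∈ Vm D F Ψ m := by
  unfold Cert2.ctG
  apply Subgroup.list_prod_mem
  intro x hx
  obtain ⟨c, hc, rfl⟩ := List.mem_map.mp hx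
  obtain ⟨h1, h2, h3, h4⟩ := hL c hc
  exact C.xA_mem_Vm Ψ m c.1 h1 h2 h3 h4 _

/-- one step: multiplying `x_m(t) g'` on the left by a generator -/
theorem peel_step (Ψ : ℕ → Prop) (hΨ : fd.Closed Ψ) (m : ℕ) (hm1 : fd.n / 2 ≤ m) (hm2 : m < fd.n)
    (s : ℕ) (u : F) (hs : s < fd.n) (hΨs : Ψ s) (hms : m ≤ s) (t : F) (g' : GL D.Idx F)
    (hg' : g' ∈ Vm D F Ψ (m + 1)) (ht : ¬ Ψ m → t = 0) :
    ∃ t' : F, ∃ g'' ∈ Vm D F Ψ (m + 1), (¬ Ψ m → t' = 0) ∧
      C.c6.c2.xA s u * (C.c6.c2.xA m t * g') = C.c6.c2.xA m t' * g'' := by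
  rcases Nat.eq_or_lt_of_le hms with rfl | hlt
  · exact ⟨u + t, g', hg', fun h => absurd hΨs h, by rw [← mul_assoc, C.c6.c2.xA_mul]⟩
  · have hev := C.c6.c2.heven
    by_cases hΨm : Ψ m
    · refine ⟨t, C.c6.c2.xA s u * C.c6.c2.ctG (fd.commT m s) t u * g', ?_, fun h => absurd hΨm h, ?_⟩
      · apply mul_mem (mul_mem (C.xA_mem_Vm Ψ _ s hs (by omega) hΨs (by omega) u) ?_) hg'
        apply C.ctG_mem_Vm
        intro c hc
        obtain ⟨h1, _, h3⟩ := fd.linc_spec C.linc m s hm2 hs c hc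
        have := h3 hm1 (by omega) (by omega)
        exact ⟨h1, by omega, hΨ m s hm2 hs hm1 (by omega) (by omega) hΨm hΨs c hc, by omega⟩
      · have := C.c6.cfg (F := F) m s hm2 hs (by omega) (by omega) t u
        rw [← mul_assoc, this]
        simp only [mul_assoc]
    · have h0 := ht hΨm
      subst h0
      refine ⟨0, C.c6.c2.xA s u * g', ?_, fun _ => rfl, ?_⟩
      · exact mul_mem (C.xA_mem_Vm Ψ _ s hs (by omega) hΨs (by omega) u) hg'
      · rw [C.c6.c2.xA_zero, one_mul, one_mul]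

/-- every element of `V_m` is `x_m(t)` times an element of `V_{m+1}` -/
theorem Vm_peel (Ψ : ℕ → Prop) (hΨ : fd.Closed Ψ) (m : ℕ) (hm1 : fd.n / 2 ≤ m) (hm2 : m < fd.n)
    (g : GL D.Idx F) (hg : g ∈ Vm D F Ψ m) :
    ∃ t : F, ∃ g' ∈ Vm D F Ψ (m + 1), (¬ Ψ m → t = 0) ∧ g = C.c6.c2.xA m t * g' := by
  unfold Vm at hg
  induction hg using Subgroup.closure_induction_left with
  | one => exact ⟨0, 1, one_mem _, fun _ => rfl, by rw [C.c6.c2.xA_zero, one_mul]⟩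
  | mul_left x hx y _ ih =>
    obtain ⟨t, g', hg', ht, rfl⟩ := ih
    obtain ⟨s, u, hs, hpos, hΨs, hms, rfl⟩ := C.eq_xA_of_VmSet Ψ m x hx
    exact C.peel_step Ψ hΨ m hm1 hm2 s u hs hΨs hms t g' hg' ht
  | inv_mul_cancel x hx y _ ih =>
    obtain ⟨t, g', hg', ht, rfl⟩ := ih
    obtain ⟨s, u, hs, hpos, hΨs, hms, rfl⟩ := C.eq_xA_of_VmSet Ψ m x hx
    rw [C.c6.c2.xA_inv]
    exact C.peel_step Ψ hΨ m hm1 hm2 s (-u) hs hΨs hms t g' hg' ht

theorem Vm_top (Ψ : ℕ → Prop) (m : ℕ) (hm : fd.n ≤ m) : Vm D F Ψ m = ⊥ := by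
  unfold Vm
  rw [Subgroup.closure_eq_bot_iff]
  rintro g ⟨s, t, hpos, _, hms, _⟩
  have := ((C.c6.isPos_iff s).mp hpos).1
  omega

/-- the ordered product of root elements with parameters `t` over the roots `m, …, m + k - 1` -/
noncomputable def oprod (t : ℕ → F) (m k : ℕ) : GL D.Idx F :=
  ((List.range' m k).map fun r => C.c6.c2.xA r (t r)).prod

theorem oprod_zero (t : ℕ → F) (m : ℕ) : C.oprod t m 0 = 1 := by
  simp [oprod]

theorem oprod_succ (t : ℕ → F) (m k : ℕ) : C.oprod t m (k + 1) = C.c6.c2.xA m (t m) * C.oprod t (m + 1) k := by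
  simp [oprod, List.range'_succ]

theorem oprod_congr (t t' : ℕ → F) (m k : ℕ) (h : ∀ r, m ≤ r → r < m + k → t r = t' r) :
    C.oprod t m k = C.oprod t' m k := by
  unfold oprod
  congr 1
  apply List.map_congr_left
  intro r hr
  rw [List.mem_range'_1] at hr
  rw [h r hr.1 hr.2]

/-- elements of `V_m` are ordered products -/
theorem Vm_oprod (Ψ : ℕ → Prop) (hΨ : fd.Closed Ψ) (k : ℕ) : ∀ m, m + k = fd.n → fd.n / 2 ≤ m →
    ∀ g ∈ Vm D F Ψ m, ∃ t : ℕ → F, (∀ r, ¬ (Ψ r ∧ m ≤ r ∧ r < fd.n) → t r = 0) ∧ g = C.oprod t m k := by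
  induction k with
  | zero =>
    intro m hm _ g hg
    rw [C.Vm_top Ψ m (by omega), Subgroup.mem_bot] at hg
    exact ⟨fun _ => 0, fun _ _ => rfl, by rw [hg, C.oprod_zero]⟩
  | succ k ih =>
    intro m hm hm1 g hg
    obtain ⟨t0, g', hg', ht0, rfl⟩ := C.Vm_peel Ψ hΨ m hm1 (by omega) g hg
    obtain ⟨t', ht', rfl⟩ := ih (m + 1) (by omega) (by omega) g' hg'
    refine ⟨Function.update t' m t0, fun r hr => ?_, ?_⟩
    · by_cases hrm : r = m
      · subst hrm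
        rw [Function.update_self]
        apply ht0
        intro h
        exact hr ⟨h, le_refl _, by omega⟩
      · rw [Function.update_of_ne hrm]
        apply ht'
        intro h
        exact hr ⟨h.1, by omega, h.2.2⟩
    · rw [C.oprod_succ, Function.update_self]
      congr 1
      apply C.oprod_congr
      intro r h1 h2
      rw [Function.update_of_ne (by omega)]

theorem oprod_mem (Ψ : ℕ → Prop) (t : ℕ → F) (k : ℕ) : ∀ m, m + k = fd.n → fd.n / 2 ≤ m →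
    (∀ r, m ≤ r → r < fd.n → ¬ Ψ r → t r = 0) → C.oprod t m k ∈ Vm D F Ψ m := by
  induction k with
  | zero =>
    intro m _ _ _
    rw [C.oprod_zero]
    exact one_mem _
  | succ k ih =>
    intro m hm hm1 ht
    rw [C.oprod_succ]
    apply mul_mem
    · by_cases hΨm : Ψ m
      · exact C.xA_mem_Vm Ψ m m (by omega) hm1 hΨm (le_refl _) _
      · rw [ht m (le_refl _) (by omega) hΨm, C.c6.c2.xA_zero]
        exact one_mem _
    · apply Vm_anti Ψ m (m + 1) (by omega)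
      apply ih (m + 1) (by omega) (by omega)
      intro r hr1 hr2 hr3
      exact ht r (by omega) hr2 hr3

end Cert12

end Cfsg.Agent.Lib.H29.Chev
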