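import Mathlib
import Cfsg.Prelude.Def_ChevStructure
import Cfsg.Agent.Lib.H29.ChevGen31

/-!
# Ordered products of positive root elements: uniqueness
-/

set_option autoImplicit false
set_option linter.unusedSectionVars false
set_option linter.unusedSimpArgs false
set_option linter.unusedVariables false

namespace Cfsg.Agent.Lib.H29.Chev

open Cfsg.Lie Matrix

variable {D : ChevalleyDatum} {fd : FD} {fx : FX} {fc : FC} {fz : FZ} {F : Type*} [Field F]

namespace Cert2

variable (C : Cert2 D fd fx)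
include C

/-- the entry of `x_r(c)` in row `h_i` and column `e_{-r}` is `c_i(r) c` -/
theorem XR_entry_h (r : Fin D.nroots) (i : Fin D.rank) (c : F) :
    XR D F r.val c (Sum.inl i) (Sum.inr ⟨D.nroots - 1 - r.val, by have := r.isLt; omega⟩) =
      ((fd.corZ r.val i.val : ℤ) : F) * c := by
  have hr : r.val < fd.n := by rw [← C.nroots_eq]; exact r.isLt
  have hev := C.heven
  have hn := C.nroots_eq
  have hl := C.rank_eq
  have hi : i.val < fd.l := by rw [← hl]; exact i.isLt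
  have hne : (Sum.inl i : D.Idx) ≠ Sum.inr ⟨D.nroots - 1 - r.val, by have := r.isLt; omega⟩ := by
    intro h
    cases h
  have e : ∀ k, aR D F r.val k (Sum.inl i) (Sum.inr ⟨D.nroots - 1 - r.val, by have := r.isLt; omega⟩) =
      ((SV.get (fd.colA r.val k (fd.l + (fd.n - 1 - r.val))) i.val : ℤ) : F) := by
    intro k
    unfold aR
    rw [Matrix.map_apply, Ak_apply C.agrees r.val k hr, code_inl, code_inr]
    simp only [hl, hn, Int.coe_castRingHom]
  have c1 : fd.colA r.val 1 (fd.l + (fd.n - 1 - r.val)) = (List.range fd.l).map (fun i => (i, fd.corZ r.val i)) := by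
    unfold FD.colA
    have h1 : ¬ fd.l + (fd.n - 1 - r.val) < fd.l := by omega
    have h2 : ¬ fd.l + (fd.n - 1 - r.val) - fd.l = r.val := by omega
    have h3 : fd.l + (fd.n - 1 - r.val) - fd.l = fd.n - 1 - r.val := by omega
    have h4 : ¬ fd.n - 1 - r.val = r.val := by omega
    simp [h1, h2, h3, h4]
  have c2 : fd.colA r.val 2 (fd.l + (fd.n - 1 - r.val)) = [(fd.l + r.val, -1)] := by
    unfold FD.colA
    have h1 : ¬ fd.l + (fd.n - 1 - r.val) < fd.l := by omega
    have h2 : ¬ fd.l + (fd.n - 1 - r.val) - fd.l = r.val := by omega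
    have h3 : fd.l + (fd.n - 1 - r.val) - fd.l = fd.n - 1 - r.val := by omega
    have h4 : ¬ fd.n - 1 - r.val = r.val := by omega
    simp [h1, h2, h3, h4]
  have c3 : fd.colA r.val 3 (fd.l + (fd.n - 1 - r.val)) = [] := by
    unfold FD.colA
    have h1 : ¬ fd.l + (fd.n - 1 - r.val) < fd.l := by omega
    have h2 : ¬ fd.l + (fd.n - 1 - r.val) - fd.l = r.val := by omega
    have h3 : fd.l + (fd.n - 1 - r.val) - fd.l = fd.n - 1 - r.val := by omega
    have h4 : ¬ fd.n - 1 - r.val = r.val := by omega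
    simp [h1, h2, h3, h4]
  unfold XR
  simp only [Matrix.add_apply, Matrix.smul_apply, Matrix.one_apply_ne hne, e, c1, c2, c3, SV.get_range_map,
    SV.get_cons, SV.get_nil, smul_eq_mul]
  have : ¬ fd.l + r.val = i.val := by omega
  simp [this, hi]
  ring

end Cert2

namespace Cert12

variable (C : Cert12 D fd fx fc fz)
include C

theorem wt_inl (i : Fin D.rank) : fd.wt fx D (Sum.inl i) = 0 := by
  unfold FD.wt
  rw [code_inl]
  exact fd.om_lt _ _ (by rw [← C.c6.c2.rank_eq]; exact i.isLt)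

theorem wt_inr (s : Fin D.nroots) : fd.wt fx D (Sum.inr s) = fd.fL fx s.val := by
  unfold FD.wt
  rw [code_inr, fd.om_ge _ _ (by rw [C.c6.c2.rank_eq]; omega), FD.omr_lexW, C.c6.c2.rank_eq]
  congr 1
  omega

theorem fL_neg (r : ℕ) (hr : r < fd.n) : fd.fL fx (fd.n - 1 - r) = - fd.fL fx r := by
  rw [← FD.omr_lexW, ← FD.omr_lexW]
  exact fd.omr_neg C.c6.c2.chk.pref _ r hr

theorem fL_pos (r : ℕ) (hr : r < fd.n) (hpos : fd.n / 2 ≤ r) : 0 < fd.fL fx r :=
  ((fd.f_spec C.f r hr).2 hpos).1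

theorem fL_lt (r s : ℕ) (hr : r < fd.n) (hpos : fd.n / 2 ≤ r) (hs : s < fd.n) (hrs : r < s) :
    fd.fL fx r < fd.fL fx s :=
  ((fd.f_spec C.f r hr).2 hpos).2 s hs hrs

/-- the elements of `V_{m+1}` raise the weight by more than the weight of `m` -/
theorem Vm_le_Gw (Ψ : ℕ → Prop) (m : ℕ) (hm1 : fd.n / 2 ≤ m) (hm2 : m < fd.n) (g : GL D.Idx F)
    (hg : g ∈ Vm D F Ψ (m + 1)) : (g : Matrix D.Idx D.Idx F) ∈ Gw D fd fx F (fd.fL fx m + 1) := by
  have hw : 0 < fd.fL fx m + 1 := by have := C.fL_pos m hm2 hm1; omega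
  have hgen : ∀ s u, s < fd.n → m + 1 ≤ s →
      ((C.c6.c2.xA s u : GL D.Idx F) : Matrix D.Idx D.Idx F) ∈ Gw D fd fx F (fd.fL fx m + 1) := by
    intro s u hs hms
    rw [C.c6.c2.xA_val, x_eq_XR C.c6.c2.agrees s hs]
    apply XR_mem_Gw C.c6.c2 s hs _ hw
    have := C.fL_lt m s hm2 hm1 hs (by omega)
    omega
  unfold Vm at hg
  induction hg using Subgroup.closure_induction'' with
  | mem x hx =>
    obtain ⟨s, u, hs, _, _, hms, rfl⟩ := C.eq_xA_of_VmSet Ψ (m + 1) x hx
    exact hgen s u hs hms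
  | inv_mem x hx =>
    obtain ⟨s, u, hs, _, _, hms, rfl⟩ := C.eq_xA_of_VmSet Ψ (m + 1) x hx
    rw [C.c6.c2.xA_inv]
    exact hgen s (-u) hs hms
  | one => rw [Units.val_one]; exact Gw_one _
  | mul x y _ _ hx hy => rw [Units.val_mul]; exact Gw_mul _ hw _ _ hx hy

/-- the entries in the rows `h_i` and the column `e_{-m}` of `x_m(t) g'` for `g' ∈ V_{m+1}` -/
theorem entry_h (Ψ : ℕ → Prop) (m : ℕ) (hm1 : fd.n / 2 ≤ m) (hm2 : m < fd.n) (t : F) (g' : GL D.Idx F)
    (hg' : g' ∈ Vm D F Ψ (m + 1)) (i : Fin D.rank) :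
    ((C.c6.c2.xA m t * g' : GL D.Idx F) : Matrix D.Idx D.Idx F) (Sum.inl i)
      (Sum.inr ⟨D.nroots - 1 - m, by have := C.c6.c2.nroots_eq; omega⟩) = ((fd.corZ m i.val : ℤ) : F) * t := by
  have hn := C.c6.c2.nroots_eq
  have hm2' : m < D.nroots := by omega
  have hG := C.Vm_le_Gw Ψ m hm1 hm2 g' hg'
  have hpos := C.fL_pos m hm2 hm1
  have hX : XR D F m t ∈ Gw D fd fx F (fd.fL fx m) :=
    XR_mem_Gw C.c6.c2 m hm2 _ hpos (le_refl _) t
  rw [Units.val_mul, C.c6.c2.xA_val, x_eq_XR C.c6.c2.agrees m hm2, Matrix.mul_apply,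
    Finset.sum_eq_single (Sum.inr ⟨D.nroots - 1 - m, by omega⟩)]
  · rw [hG.1, mul_one]
    exact C.c6.c2.XR_entry_h ⟨m, hm2'⟩ i t
  · intro c _ hc
    by_contra h
    have h1 : XR D F m t (Sum.inl i) c ≠ 0 := left_ne_zero_of_mul h
    have h2 : (g' : Matrix D.Idx D.Idx F) c (Sum.inr ⟨D.nroots - 1 - m, by omega⟩) ≠ 0 := right_ne_zero_of_mul h
    have k2 := hG.2 c _ hc h2
    rw [C.wt_inr] at k2
    simp only at k2
    rw [hn, C.fL_neg m hm2] at k2
    by_cases hci : Sum.inl i = c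
    · rw [← hci, C.wt_inl] at k2
      omega
    · have k1 := hX.2 _ c hci h1
      rw [C.wt_inl] at k1
      omega
  · intro h; exact absurd (Finset.mem_univ _) h

/-- the parameter `t` of `x_m(t) g'` is determined by the product -/
theorem param_unique (Ψ : ℕ → Prop) (m : ℕ) (hm1 : fd.n / 2 ≤ m) (hm2 : m < fd.n) (t t' : F) (g' g'' : GL D.Idx F)
    (hg' : g' ∈ Vm D F Ψ (m + 1)) (hg'' : g'' ∈ Vm D F Ψ (m + 1))
    (h : C.c6.c2.xA m t * g' = C.c6.c2.xA m t' * g'') : t = t' ∧ g' = g'' := by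
  have hl := C.c6.c2.rank_eq
  have key : ∀ i : Fin D.rank, ((fd.corZ m i.val : ℤ) : F) * t = ((fd.corZ m i.val : ℤ) : F) * t' := by
    intro i
    rw [← C.entry_h Ψ m hm1 hm2 t g' hg' i, ← C.entry_h Ψ m hm1 hm2 t' g'' hg'' i, h]
  have hb := (fd.f_spec C.f m hm2).1
  have e : ∀ u : F, u = ((List.range fd.l).map fun j => ((fd.bzZ fz m j : ℤ) : F) * (((fd.corZ m j : ℤ) : F) * u)).sum := by
    intro u
    have : (((((List.range fd.l).map fun j => fd.bzZ fz m j * fd.corZ m j).sum : ℤ)) : F) = 1 := by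
      rw [hb]; simp
    calc u = (((((List.range fd.l).map fun j => fd.bzZ fz m j * fd.corZ m j).sum : ℤ)) : F) * u := by
          rw [this, one_mul]
      _ = _ := by
        rw [Int.cast_list_sum, List.map_map, ← List.sum_map_mul_right]
        congr 1
        apply List.map_congr_left
        intro j _
        simp only [Function.comp, Int.cast_mul]
        ring
  have ht : t = t' := by
    rw [e t, e t']
    congr 1
    apply List.map_congr_left
    intro j hj
    rw [List.mem_range] at hj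
    have := key ⟨j, by omega⟩
    simp only at this
    rw [this]
  subst ht
  exact ⟨rfl, mul_left_cancel h⟩

/-- uniqueness of the parameters of an ordered product -/
theorem oprod_unique (k : ℕ) : ∀ m, m + k = fd.n → fd.n / 2 ≤ m → ∀ t t' : ℕ → F,
    C.oprod t m k = C.oprod t' m k → ∀ r, m ≤ r → r < fd.n → t r = t' r := by
  induction k with
  | zero =>
    intro m hm _ t t' _ r h1 h2
    omega
  | succ k ih =>
    intro m hm hm1 t t' h r h1 h2
    rw [C.oprod_succ, C.oprod_succ] at h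
    have hmem : ∀ t : ℕ → F, C.oprod t (m + 1) k ∈ Vm D F (fun _ => True) (m + 1) :=
      fun t => C.oprod_mem _ t k (m + 1) (by omega) (by omega) (fun _ _ _ h => absurd trivial h)
    obtain ⟨e1, e2⟩ := C.param_unique _ m hm1 (by omega) _ _ _ _ (hmem t) (hmem t') h
    rcases Nat.eq_or_lt_of_le h1 with rfl | hlt
    · exact e1
    · exact ih (m + 1) (by omega) (by omega) t t' e2 r hlt h2

end Cert12

end Cfsg.Agent.Lib.H29.Chev
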