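import Mathlib
import Cfsg.Prelude.Def_ChevStructure
import Cfsg.Agent.Lib.H29.ChevGen32

/-!
# The unique factorisation in `U`, in the words of the definitions
-/

set_option autoImplicit false
set_option linter.unusedSectionVars false
set_option linter.unusedSimpArgs false
set_option linter.unusedVariables false

namespace Cfsg.Agent.Lib.H29.Chev

open Cfsg.Lie Matrix

variable {D : ChevalleyDatum} {fd : FD} {fx : FX} {fc : FC} {fz : FZ} {F : Type*} [Field F]

theorem filter_le_range (a n : ℕ) :
    (List.range n).filter (fun r => decide (a ≤ r)) = List.range' a (n - a) := by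
  induction n with
  | zero => simp
  | succ n ih =>
    rw [List.range_succ, List.filter_append, ih]
    by_cases h : a ≤ n
    · have e : n + 1 - a = (n - a) + 1 := by omega
      rw [e, List.range'_concat]
      have : a + 1 * (n - a) = n := by omega
      simp [h, this]
    · have e1 : n + 1 - a = 0 := by omega
      have e2 : n - a = 0 := by omega
      simp [h, e1, e2]

namespace Cert12

variable (C : Cert12 D fd fx fc fz)
include C

theorem posRoots_eq : D.posRoots = List.range' (fd.n / 2) (fd.n - fd.n / 2) := by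
  unfold ChevalleyDatum.posRoots
  rw [C.c6.c2.nroots_eq, ← filter_le_range]
  apply List.filter_congr
  intro r hr
  rw [List.mem_range] at hr
  have := C.c6.isPos_iff r
  by_cases h : fd.n / 2 ≤ r
  · simp [h, this.mpr ⟨hr, h⟩]
  · have h' : ¬ D.IsPosRoot r := fun hp => h (this.mp hp).2
    simp [h, h']

theorem oprod_val (t : ℕ → F) (m k : ℕ) :
    ((C.oprod t m k : GL D.Idx F) : Matrix D.Idx D.Idx F) =
      D.wordMat F ((List.range' m k).map fun r => (r, t r)) := by
  rw [← C.c6.c2.wordG_val]
  unfold oprod Cert2.wordG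
  rw [List.map_map]
  rfl

theorem posUnipotent_eq : D.posUnipotent F = Vm D F (fun _ => True) (fd.n / 2) := by
  unfold ChevalleyDatum.posUnipotent Vm VmSet
  congr 1
  ext g
  constructor
  · rintro ⟨r, t, h1, h2⟩
    exact ⟨r, t, h1, trivial, ((C.c6.isPos_iff r).mp h1).2, h2⟩
  · rintro ⟨r, t, h1, _, _, h2⟩
    exact ⟨r, t, h1, h2⟩

theorem closed_true : fd.Closed (fun _ => True) := fun _ _ _ _ _ _ _ _ _ _ _ => trivial

/-- every element of `U` is a unique ordered product of positive root elements -/
theorem posUnipotent_factor :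
    (∀ g : GL D.Idx F, g ∈ D.posUnipotent F →
      ∃! t : ℕ → F, (∀ r, ¬ D.IsPosRoot r → t r = 0) ∧
        (g : Matrix D.Idx D.Idx F) = D.wordMat F (D.posRoots.map fun r => (r, t r))) ∧
    (∀ t : ℕ → F, ∃ g : GL D.Idx F, g ∈ D.posUnipotent F ∧
      (g : Matrix D.Idx D.Idx F) = D.wordMat F (D.posRoots.map fun r => (r, t r))) := by
  have hev := C.c6.c2.heven
  have hk : fd.n / 2 + (fd.n - fd.n / 2) = fd.n := by omega
  constructor
  · intro g hg
    rw [C.posUnipotent_eq] at hg
    obtain ⟨t, ht, rfl⟩ := C.Vm_oprod _ C.closed_true _ _ hk (le_refl _) g hg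
    refine ⟨t, ⟨fun r hr => ?_, ?_⟩, ?_⟩
    · apply ht
      intro h
      exact hr ((C.c6.isPos_iff r).mpr ⟨h.2.2, h.2.1⟩)
    · rw [C.posRoots_eq, C.oprod_val]
    · rintro t' ⟨ht'1, ht'2⟩
      rw [C.posRoots_eq, ← C.oprod_val] at ht'2
      have := C.oprod_unique _ _ hk (le_refl _) t t' (gl_ext ht'2)
      funext r
      by_cases hr : D.IsPosRoot r
      · obtain ⟨h1, h2⟩ := (C.c6.isPos_iff r).mp hr
        exact (this r h2 h1).symm
      · rw [ht'1 r hr]
        symm
        apply ht
        intro h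
        exact hr ((C.c6.isPos_iff r).mpr ⟨h.2.2, h.2.1⟩)
  · intro t
    refine ⟨C.oprod t (fd.n / 2) (fd.n - fd.n / 2), ?_, ?_⟩
    · rw [C.posUnipotent_eq]
      exact C.oprod_mem _ t _ _ hk (le_refl _) (fun _ _ _ h => absurd trivial h)
    · rw [C.posRoots_eq, C.oprod_val]

end Cert12

end Cfsg.Agent.Lib.H29.Chev
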