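import Mathlib
import Cfsg.Prelude.Def_ChevStructure
import Cfsg.Agent.Lib.H29.ChevGen33

/-!
# The order of a subgroup generated by a closed set of positive root subgroups
-/

set_option autoImplicit false
set_option linter.unusedSectionVars false
set_option linter.unusedSimpArgs false
set_option linter.unusedVariables false

namespace Cfsg.Agent.Lib.H29.Chev

open Cfsg.Lie Matrix

variable {D : ChevalleyDatum} {fd : FD} {fx : FX} {fc : FC} {fz : FZ} {F : Type*} [Field F]

namespace Cert12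

variable (C : Cert12 D fd fx fc fz)
include C

/-- the positive roots in `Ψ` -/
def PosIn (fd : FD) (Ψ : ℕ → Prop) (r : ℕ) : Prop := Ψ r ∧ fd.n / 2 ≤ r ∧ r < fd.n

omit C in
theorem posIn_finite (Ψ : ℕ → Prop) : Finite {r : ℕ // PosIn fd Ψ r} := by
  apply Finite.of_injective (fun r : {r : ℕ // PosIn fd Ψ r} => (⟨r.val, r.property.2.2⟩ : Fin fd.n))
  intro a b h
  exact Subtype.ext (Fin.mk.inj h)

open Classical in
/-- extension by zero -/
noncomputable def ext0 (fd : FD) (Ψ : ℕ → Prop) (f : {r : ℕ // PosIn fd Ψ r} → F) (r : ℕ) : F :=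
  if h : PosIn fd Ψ r then f ⟨r, h⟩ else 0

/-- the parametrisation of `U_Ψ` by the families of parameters -/
theorem param_bijective (Ψ : ℕ → Prop) (hΨ : fd.Closed Ψ) :
    Function.Bijective (fun f : {r : ℕ // PosIn fd Ψ r} → F =>
      (⟨C.oprod (ext0 fd Ψ f) (fd.n / 2) (fd.n - fd.n / 2),
        C.oprod_mem Ψ _ _ _ (by have := C.c6.c2.heven; omega) (le_refl _) (by
          intro r h1 h2 h3
          unfold ext0
          rw [dif_neg (fun h => h3 h.1)])⟩ : Vm D F Ψ (fd.n / 2))) := by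
  have hev := C.c6.c2.heven
  have hk : fd.n / 2 + (fd.n - fd.n / 2) = fd.n := by omega
  constructor
  · intro f f' h
    have h' := congrArg Subtype.val h
    simp only at h'
    have := C.oprod_unique _ _ hk (le_refl _) _ _ h'
    funext ⟨r, hr⟩
    have := this r hr.2.1 hr.2.2
    unfold ext0 at this
    rwa [dif_pos hr, dif_pos hr] at this
  · rintro ⟨g, hg⟩
    obtain ⟨t, ht, rfl⟩ := C.Vm_oprod Ψ hΨ _ _ hk (le_refl _) g hg
    refine ⟨fun r => t r.val, ?_⟩
    apply Subtype.ext
    simp only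
    apply C.oprod_congr
    intro r h1 h2
    unfold ext0
    by_cases h : PosIn fd Ψ r
    · rw [dif_pos h]
    · rw [dif_neg h]
      exact (ht r h).symm

theorem card_Vm (Ψ : ℕ → Prop) (hΨ : fd.Closed Ψ) :
    Nat.card (Vm D F Ψ (fd.n / 2)) = Nat.card F ^ Nat.card {r : ℕ // PosIn fd Ψ r} := by
  have := posIn_finite (fd := fd) Ψ
  rw [← Nat.card_fun]
  exact (Nat.card_congr (Equiv.ofBijective _ (C.param_bijective Ψ hΨ))).symm

theorem card_posUnipotent : Nat.card (D.posUnipotent F) = Nat.card F ^ (D.nroots / 2) := by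
  rw [C.posUnipotent_eq, C.card_Vm _ C.closed_true]
  congr 1
  have hev := C.c6.c2.heven
  rw [Nat.subtype_card (Finset.Ico (fd.n / 2) fd.n) (by
    intro x
    rw [Finset.mem_Ico]
    exact ⟨fun h => ⟨trivial, h.1, h.2⟩, fun h => ⟨h.2.1, h.2.2⟩⟩)]
  rw [Nat.card_Ico, C.c6.c2.nroots_eq]
  omega

end Cert12

end Cfsg.Agent.Lib.H29.Chev
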