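import Mathlib
import Cfsg.Prelude.Def_ChevStructure
import Cfsg.Agent.Lib.H29.ChevGen34

/-!
# Distinct roots have distinct root subgroups; the permutation of the roots induced by an element of `N`
-/

set_option autoImplicit false
set_option linter.unusedSectionVars false
set_option linter.unusedSimpArgs false
set_option linter.unusedVariables false

namespace Cfsg.Agent.Lib.H29.Chev

open Cfsg.Lie Matrix

variable {D : ChevalleyDatum} {fd : FD} {fx : FX} {fc : FC} {fz : FZ} {F : Type*} [Field F]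

namespace Cert12

variable (C : Cert12 D fd fx fc fz)
include C

theorem fL_inj (a b : ℕ) (ha : a < fd.n) (hb : b < fd.n) (h : fd.fL fx a = fd.fL fx b) : a = b := by
  have hev := C.c6.c2.heven
  have key : ∀ a b, a < fd.n → b < fd.n → fd.n / 2 ≤ a → fd.n / 2 ≤ b → fd.fL fx a = fd.fL fx b → a = b := by
    intro a b ha hb hpa hpb h
    rcases Nat.lt_trichotomy a b with h1 | h1 | h1
    · have := C.fL_lt a b ha hpa hb h1; omega
    · exact h1
    · have := C.fL_lt b a hb hpb ha h1; omega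
  by_cases hpa : fd.n / 2 ≤ a <;> by_cases hpb : fd.n / 2 ≤ b
  · exact key a b ha hb hpa hpb h
  · exfalso
    have h1 := C.fL_pos a ha hpa
    have h2 := C.fL_pos (fd.n - 1 - b) (by omega) (by omega)
    rw [C.fL_neg b hb] at h2
    omega
  · exfalso
    have h1 := C.fL_pos b hb hpb
    have h2 := C.fL_pos (fd.n - 1 - a) (by omega) (by omega)
    rw [C.fL_neg a ha] at h2
    omega
  · have := key (fd.n - 1 - a) (fd.n - 1 - b) (by omega) (by omega) (by omega) (by omega)
      (by rw [C.fL_neg a ha, C.fL_neg b hb, h])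
    omega

theorem om_inr (a' : ℕ → ℤ) (s : Fin D.nroots) : fd.om fx a' (code D (Sum.inr s)) = fd.omr fx a' s.val := by
  rw [code_inr, fd.om_ge _ _ (by rw [C.c6.c2.rank_eq]; omega), C.c6.c2.rank_eq]
  congr 1
  omega

/-- distinct roots have distinct root elements -/
theorem xA_inj (a b : ℕ) (ha : a < fd.n) (hb : b < fd.n) (c d : F) (hc : c ≠ 0)
    (h : C.c6.c2.xA a c = C.c6.c2.xA b d) : a = b := by
  have hn := C.c6.c2.nroots_eq
  have hev := C.c6.c2.heven
  have ha' : a < D.nroots := by omega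
  have hm := congrArg (fun g : GL D.Idx F => (g : Matrix D.Idx D.Idx F)) h
  simp only [C.c6.c2.xA_val] at hm
  rw [x_eq_XR C.c6.c2.agrees a ha, x_eq_XR C.c6.c2.agrees b hb] at hm
  have he := C.c6.c2.XR_entry (F := F) ⟨a, ha'⟩ c
  simp only at he
  rw [hm] at he
  have hne : (Sum.inr ⟨a, ha'⟩ : D.Idx) ≠ Sum.inr ⟨D.nroots - 1 - a, by omega⟩ := by
    intro h
    have := congrArg Fin.val (Sum.inr.inj h)
    simp only at this
    omega
  have hnz : XR D F b d (Sum.inr ⟨a, ha'⟩) (Sum.inr ⟨D.nroots - 1 - a, by omega⟩) ≠ 0 := by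
    rw [he]
    simp [hc]
  have hex : ∃ k : ℕ, (k = 1 ∨ k = 2 ∨ k = 3) ∧
      aR D F b k (Sum.inr ⟨a, ha'⟩) (Sum.inr ⟨D.nroots - 1 - a, by omega⟩) ≠ 0 := by
    by_contra hcon
    apply hnz
    have z : ∀ k : ℕ, (k = 1 ∨ k = 2 ∨ k = 3) →
        aR D F b k (Sum.inr ⟨a, ha'⟩) (Sum.inr ⟨D.nroots - 1 - a, by omega⟩) = 0 := by
      intro k hk
      by_contra h0
      exact hcon ⟨k, hk, h0⟩
    rw [XR_apply', z 1 (by simp), z 2 (by simp), z 3 (by simp), Matrix.one_apply_ne hne]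
    simp
  obtain ⟨k, hk, hak⟩ := hex
  have key : ∀ a' : ℕ → ℤ, 2 * fd.omr fx a' a = (k : ℤ) * fd.omr fx a' b := by
    intro a'
    have := om_grad C.c6.c2.agrees C.c6.c2.chk.grad b k hb hk a' _ _ hak
    rw [C.om_inr, C.om_inr] at this
    simp only at this
    rw [hn, fd.omr_neg C.c6.c2.chk.pref a' a ha] at this
    linarith
  have k1 := key (fd.avZ fx b)
  rw [(fd.lin_spec C.c6.c2.chk.lin b hb).2.1] at k1
  have hk2 : k = 2 := by
    rcases hk with rfl | rfl | rfl
    · omega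
    · rfl
    · omega
  subst hk2
  have k2 := key fd.lexW
  rw [FD.omr_lexW, FD.omr_lexW] at k2
  exact C.fL_inj a b ha hb (by push_cast at k2; omega)

/-- the permutation induced by an element is unique -/
theorem perm_unique (m : GL D.Idx F) (π π' : ℕ → ℕ) (h : C.c6.c2.Perm m π) (h' : C.c6.c2.Perm m π') :
    ∀ s < fd.n, π s = π' s := by
  intro s hs
  obtain ⟨h1, _, c, h3⟩ := h s hs
  obtain ⟨h1', _, c', h3'⟩ := h' s hs
  have e := (h3 1).symm.trans (h3' 1)
  apply C.xA_inj _ _ h1 h1' _ _ ?_ e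
  intro hc0
  have hc0' : c = 0 := by simpa using hc0
  have h4 := h3 1
  rw [mul_one, hc0', C.c6.c2.xA_zero] at h4
  have h5 : C.c6.c2.xA s (1 : F) = 1 := by
    have e := congrArg (fun g => m⁻¹ * g * m) h4
    simp only [mul_one, inv_mul_cancel] at e
    rw [← e]; group
  exact one_ne_zero (C.c6.xA_eq_one s hs (1 : F) h5)

/-- the permutations induced by `m` and `m⁻¹` are inverse to each other -/
theorem perm_inv (m : GL D.Idx F) (π π' : ℕ → ℕ) (h : C.c6.c2.Perm m π) (h' : C.c6.c2.Perm m⁻¹ π') :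
    (∀ s < fd.n, π' (π s) = s) ∧ (∀ s < fd.n, π (π' s) = s) := by
  constructor
  · have := C.perm_unique (m⁻¹ * m) _ _ (C.c6.perm_mul h' h) (by rw [inv_mul_cancel]; exact C.c6.perm_one)
    exact this
  · have := C.perm_unique (m * m⁻¹) _ _ (C.c6.perm_mul h h') (by rw [mul_inv_cancel]; exact C.c6.perm_one)
    exact this

/-- the positive roots whose root subgroups `m` conjugates into `V` are those that `π` makes negative -/
theorem Wn_iff (m : GL D.Idx F) (π : ℕ → ℕ) (h : C.c6.c2.Perm m π) (r : ℕ) :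
    C.c6.Wn m r ↔ r < fd.n ∧ fd.n / 2 ≤ r ∧ π r < fd.n / 2 := by
  constructor
  · rintro ⟨h1, h2, h3⟩
    refine ⟨h1, h2, ?_⟩
    by_contra hpos
    obtain ⟨k1, _, c, k3⟩ := h r h1
    have h4 := h3 1
    rw [k3] at h4
    have h5 : C.c6.c2.xA (π r) (c * 1) ∈ D.borelSubgroup F ⊓ D.negUnipotent F :=
      Subgroup.mem_inf.mpr ⟨C.c6.xA_pos_mem_borel _ k1 (by omega) _, h4⟩
    rw [C.c6.c2.borel_inf_neg, Subgroup.mem_bot] at h5
    have h6 : C.c6.c2.xA r (1 : F) = 1 := by
      have e := congrArg (fun g => m⁻¹ * g * m) (k3 1)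
      rw [h5] at e
      simp only [mul_one, inv_mul_cancel] at e
      rw [← e]; group
    exact one_ne_zero (C.c6.xA_eq_one r h1 (1 : F) h6)
  · rintro ⟨h1, h2, h3⟩
    refine ⟨h1, h2, fun t => ?_⟩
    obtain ⟨k1, _, c, k3⟩ := h r h1
    rw [k3]
    exact C.c6.xA_neg_mem_neg _ k1 h3 _

end Cert12

end Cfsg.Agent.Lib.H29.Chev
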