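import Mathlib
import Cfsg.Prelude.Def_ChevStructure
import Cfsg.Agent.Lib.H29.ChevGen35

/-!
# The elements of `N` act linearly on the coordinates of the roots; the order of `U_n⁻`
-/

set_option autoImplicit false
set_option linter.unusedSectionVars false
set_option linter.unusedSimpArgs false
set_option linter.unusedVariables false

namespace Cfsg.Agent.Lib.H29.Chev

open Cfsg.Lie Matrix

variable {D : ChevalleyDatum} {fd : FD} {fx : FX} {fc : FC} {fz : FZ} {F : Type*} [Field F]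

/-- `π` acts linearly on the coordinates of the roots -/
def FD.LinP (fd : FD) (fx : FX) (π : ℕ → ℕ) : Prop :=
  ∃ M : ℕ → ℕ → ℤ, ∀ s < fd.n, ∀ j < fd.l,
    fd.rcZ fx (π s) j = ∑ k ∈ Finset.range fd.l, M j k * fd.rcZ fx s k

theorem FD.linP_id : fd.LinP fx id := by
  refine ⟨fun j k => if j = k then 1 else 0, fun s _ j hj => ?_⟩
  rw [Finset.sum_eq_single j]
  · simp
  · intro k _ hk
    simp [Ne.symm hk]
  · intro h; exact absurd (Finset.mem_range.mpr hj) h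

theorem FD.linP_comp (π π' : ℕ → ℕ) (h : fd.LinP fx π) (h' : fd.LinP fx π') (hm : ∀ s < fd.n, π' s < fd.n) :
    fd.LinP fx (π ∘ π') := by
  obtain ⟨M, hM⟩ := h
  obtain ⟨M', hM'⟩ := h'
  refine ⟨fun j k => ∑ i ∈ Finset.range fd.l, M j i * M' i k, fun s hs j hj => ?_⟩
  simp only [Function.comp]
  rw [hM (π' s) (hm s hs) j hj]
  have e : ∀ i ∈ Finset.range fd.l, M j i * fd.rcZ fx (π' s) i =
      ∑ k ∈ Finset.range fd.l, M j i * (M' i k * fd.rcZ fx s k) := by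
    intro i hi
    rw [hM' s hs i (Finset.mem_range.mp hi), Finset.mul_sum]
  rw [Finset.sum_congr rfl e, Finset.sum_comm]
  apply Finset.sum_congr rfl
  intro k _
  rw [Finset.sum_mul]
  apply Finset.sum_congr rfl
  intro i _
  ring

/-- a linear action respects the linear relations between the coordinates -/
theorem FD.linP_apply (π : ℕ → ℕ) (h : fd.LinP fx π) (c r s : ℕ) (hc : c < fd.n) (hr : r < fd.n) (hs : s < fd.n)
    (a b : ℤ) (hl : ∀ j < fd.l, fd.rcZ fx c j = a * fd.rcZ fx r j + b * fd.rcZ fx s j) :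
    ∀ j < fd.l, fd.rcZ fx (π c) j = a * fd.rcZ fx (π r) j + b * fd.rcZ fx (π s) j := by
  obtain ⟨M, hM⟩ := h
  intro j hj
  rw [hM c hc j hj, hM r hr j hj, hM s hs j hj, Finset.mul_sum, Finset.mul_sum, ← Finset.sum_add_distrib]
  apply Finset.sum_congr rfl
  intro k hk
  rw [hl k (Finset.mem_range.mp hk)]
  ring

namespace Cert12

variable (C : Cert12 D fd fx fc fz)
include C

theorem linP_nw (i : ℕ) (hi : i < fd.l) : fd.LinP fx (fd.nw fx (fd.simples.getD i 0)) := by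
  have hp := C.c6.c2.simple_lt i hi
  refine ⟨fun j k => (if j = k then 1 else 0) -
    fd.rcZ fx (fd.simples.getD i 0) j * fd.prs (fd.simples.getD i 0) k, fun s hs j hj => ?_⟩
  rw [(fd.nw_spec C.c6.c2.chk.nn _ s hp hs).2 j hj, fd.pr_lin C.c6.c2.chk.lin s _ hs]
  unfold FD.omr
  rw [listsum_eq]
  simp only [sub_mul, Finset.sum_sub_distrib]
  congr 1
  · rw [Finset.sum_eq_single j]
    · simp
    · intro k _ hk
      simp [Ne.symm hk]
    · intro h; exact absurd (Finset.mem_range.mpr hj) h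
  · rw [Finset.sum_mul]
    apply Finset.sum_congr rfl
    intro k _
    ring

/-- every element of `N` induces a linear permutation of the roots -/
theorem perm_lin (m : GL D.Idx F) (hm : m ∈ D.monomialSubgroup F) :
    (∃ π, C.c6.c2.Perm m π ∧ fd.LinP fx π) ∧ (∃ π, C.c6.c2.Perm m⁻¹ π ∧ fd.LinP fx π) := by
  rw [← C.c6.closure_SSet_sup_diag, ← Subgroup.closure_eq (D.diagonalSubgroup F), ← Subgroup.closure_union] at hm
  induction hm using Subgroup.closure_induction with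
  | mem x hx =>
    rcases hx with hx | hx
    · obtain ⟨i, hi, rfl⟩ := C.c6.eq_nG_of_SSet x hx
      exact ⟨⟨_, (C.c6.perm_nG i hi).1, C.linP_nw i hi⟩, ⟨_, (C.c6.perm_nG i hi).2, C.linP_nw i hi⟩⟩
    · exact ⟨⟨_, C.c6.perm_diag x hx, fd.linP_id⟩, ⟨_, C.c6.perm_diag x⁻¹ (inv_mem hx), fd.linP_id⟩⟩
  | one => exact ⟨⟨_, C.c6.perm_one, fd.linP_id⟩, ⟨_, by rw [inv_one]; exact C.c6.perm_one, fd.linP_id⟩⟩
  | mul x y _ _ hx hy =>
    obtain ⟨⟨π1, h1, l1⟩, ⟨π1', h1', l1'⟩⟩ := hx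
    obtain ⟨⟨π2, h2, l2⟩, ⟨π2', h2', l2'⟩⟩ := hy
    refine ⟨⟨_, C.c6.perm_mul h1 h2, fd.linP_comp _ _ l1 l2 (fun s hs => (h2 s hs).1)⟩,
      ⟨_, by rw [_root_.mul_inv_rev]; exact C.c6.perm_mul h2' h1', fd.linP_comp _ _ l2' l1' (fun s hs => (h1' s hs).1)⟩⟩
  | inv x _ hx =>
    obtain ⟨h1, h2⟩ := hx
    exact ⟨h2, by rw [inv_inv]; exact h1⟩

theorem rcZ_nonpos (r : ℕ) (hr : r < fd.n) (hneg : r < fd.n / 2) : ∀ j < fd.l, fd.rcZ fx r j ≤ 0 := by
  have h1 := C.c6.c2.lev r hr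
  simp only [FD.chkLevR, Bool.and_eq_true, beq_iff_eq, decide_eq_decide] at h1
  have h2 := h1.1.2.mpr hneg
  intro j hj
  have h3 := C.sgn r hr
  simp only [FD.chkSgnR, List.all_eq_true, List.mem_range, Bool.and_eq_true, beq_iff_eq, decide_eq_decide] at h3
  have h4 := (h3 j hj).1
  have h5 := h2 j (List.mem_range.mpr hj)
  by_contra h6
  have := h4.mp (by omega)
  omega

theorem neg_of_nonpos (r : ℕ) (hr : r < fd.n) (h : ∀ j < fd.l, fd.rcZ fx r j ≤ 0) : r < fd.n / 2 := by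
  by_contra hpos
  have h1 := C.fL_pos r hr (by omega)
  have h2 : fd.fL fx r ≤ 0 := by
    unfold FD.fL
    rw [listsum_eq]
    apply Finset.sum_nonpos
    intro j hj
    rw [Finset.mem_range] at hj
    apply mul_nonpos_of_nonneg_of_nonpos
    · unfold FD.lexW; positivity
    · exact h j hj
  omega

/-- the roots made negative by an element of `N` are closed under the commutator formula -/
theorem closed_of_perm (π : ℕ → ℕ) (hl : fd.LinP fx π) (hπ : ∀ s < fd.n, π s < fd.n) (Ψ : ℕ → Prop)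
    (hΨ : ∀ r, r < fd.n → fd.n / 2 ≤ r → (Ψ r ↔ π r < fd.n / 2)) : fd.Closed Ψ := by
  intro r s hr hs hpr hps hne hΨr hΨs c hc
  obtain ⟨hc1, hc2, hc3⟩ := fd.linc_spec C.linc r s hr hs c hc
  have hc4 := hc3 hpr hps hne
  rw [hΨ c.1 hc1 (by omega)]
  rw [hΨ r hr hpr] at hΨr
  rw [hΨ s hs hps] at hΨs
  apply C.neg_of_nonpos _ (hπ _ hc1)
  intro j hj
  rw [fd.linP_apply π hl c.1 r s hc1 hr hs _ _ hc2 j hj]
  have h1 := C.rcZ_nonpos _ (hπ r hr) hΨr j hj
  have h2 := C.rcZ_nonpos _ (hπ s hs) hΨs j hj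
  have h3 : (0 : ℤ) ≤ (c.2.2.1 : ℤ) := Int.natCast_nonneg _
  have h4 : (0 : ℤ) ≤ (c.2.2.2 : ℤ) := Int.natCast_nonneg _
  nlinarith [mul_nonpos_of_nonneg_of_nonpos h3 h1, mul_nonpos_of_nonneg_of_nonpos h4 h2]

/-- the property defining the generators of `U_m⁻` -/
def PsiN (D : ChevalleyDatum) (F : Type*) [Field F] (m : GL D.Idx F) (r : ℕ) : Prop :=
  (D.rootSubgroup F r).map (MulAut.conj m).toMonoidHom ≤ D.negUnipotent F

omit C in
theorem Uw_eq_Vm (m : GL D.Idx F) (h : ∀ s, D.IsPosRoot s → fd.n / 2 ≤ s) :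
    Uw D F m = Vm D F (PsiN D F m) (fd.n / 2) := by
  unfold Uw Vm UwSet VmSet PsiN
  congr 1
  ext g
  constructor
  · rintro ⟨r, t, h1, h2, h3⟩
    exact ⟨r, t, h1, h2, h r h1, h3⟩
  · rintro ⟨r, t, h1, h2, _, h3⟩
    exact ⟨r, t, h1, h2, h3⟩

theorem psiN_iff (m : GL D.Idx F) (π : ℕ → ℕ) (hπ : C.c6.c2.Perm m π) (r : ℕ) (hr : r < fd.n)
    (hpos : fd.n / 2 ≤ r) : PsiN D F m r ↔ π r < fd.n / 2 := by
  unfold PsiN
  rw [C.c6.map_conj_le_neg_iff]
  have := C.Wn_iff m π hπ r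
  unfold Cert6.Wn at this
  constructor
  · intro h
    exact (this.mp ⟨hr, hpos, h⟩).2.2
  · intro h
    exact (this.mpr ⟨hr, hpos, h⟩).2.2

/-- the order of `U_m⁻` -/
theorem card_Uw (m : GL D.Idx F) (hm : m ∈ D.monomialSubgroup F) (π : ℕ → ℕ) (hπ : C.c6.c2.Perm m π) :
    Nat.card (Uw D F m) = Nat.card F ^ Nat.card {r : ℕ // r < fd.n ∧ fd.n / 2 ≤ r ∧ π r < fd.n / 2} := by
  obtain ⟨⟨π', hπ', hl'⟩, _⟩ := C.perm_lin m hm
  have he := C.perm_unique m π π' hπ hπ'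
  rw [Uw_eq_Vm (fd := fd) m (fun s hs => ((C.c6.isPos_iff s).mp hs).2), C.card_Vm]
  · congr 1
    apply Nat.card_congr
    apply Equiv.subtypeEquivRight
    intro r
    unfold PosIn
    constructor
    · rintro ⟨h1, h2, h3⟩
      exact ⟨h3, h2, (C.psiN_iff m π hπ r h3 h2).mp h1⟩
    · rintro ⟨h1, h2, h3⟩
      exact ⟨(C.psiN_iff m π hπ r h1 h2).mpr h3, h2, h1⟩
  · apply C.closed_of_perm π' hl' (fun s hs => (hπ' s hs).1)
    intro r hr hpos
    rw [C.psiN_iff m π hπ r hr hpos, he r hr]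

end Cert12

end Cfsg.Agent.Lib.H29.Chev
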