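import Mathlib
import Cfsg.Prelude.Def_ChevStructure
import Cfsg.Agent.Lib.H29.ChevGen36

/-!
# The elements of `N` inducing the trivial permutation of the roots lie in `H`
-/

set_option autoImplicit false
set_option linter.unusedSectionVars false
set_option linter.unusedSimpArgs false
set_option linter.unusedVariables false

namespace Cfsg.Agent.Lib.H29.Chev

open Cfsg.Lie Matrix

variable {D : ChevalleyDatum} {fd : FD} {fx : FX} {fc : FC} {fz : FZ} {F : Type*} [Field F]

namespace Cert12

variable (C : Cert12 D fd fx fc fz)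
include C

theorem perm_congr (m : GL D.Idx F) (π π' : ℕ → ℕ) (h : C.c6.c2.Perm m π) (he : ∀ s < fd.n, π s = π' s) :
    C.c6.c2.Perm m π' := by
  intro s hs
  obtain ⟨h1, h2, c, h3⟩ := h s hs
  have hs' : fd.n - 1 - s < fd.n := by omega
  refine ⟨by rw [← he s hs]; exact h1, by rw [← he s hs, ← he _ hs']; exact h2, c, fun t => ?_⟩
  rw [← he s hs]
  exact h3 t

open Cfsg.Agent.Lib.H2.BN in
/-- an element of `N` that makes no fundamental root negative lies in `H` -/
theorem mem_diag_of_pos (m : GL D.Idx F) (hm : m ∈ D.monomialSubgroup F) (π : ℕ → ℕ) (hπ : C.c6.c2.Perm m π)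
    (hpos : ∀ i < fd.l, fd.n / 2 ≤ π (fd.simples.getD i 0)) : m ∈ D.diagonalSubgroup F := by
  have hmG := C.c6.c2.monomial_le_group hm
  have hm' : (⟨m, hmG⟩ : ↥(D.group F)) ∈ (C.c6.bnPair F).N := Subgroup.mem_subgroupOf.mpr hm
  by_cases h0 : len (C.c6.bnPair F) (⟨m, hmG⟩ : ↥(D.group F)) = 0
  · have hb := mem_B_of_len_eq_zero hm' h0
    have hb' : m ∈ D.borelSubgroup F := Subgroup.mem_subgroupOf.mp hb
    rw [← C.c6.c2.borel_inf_monomial]
    exact Subgroup.mem_inf.mpr ⟨hb', hm⟩
  · exfalso
    obtain ⟨l, hl, hlen, he⟩ := exists_reduced hm'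
    rcases List.eq_nil_or_concat l with rfl | ⟨l', s, rfl⟩
    · simp at hlen; omega
    · rw [List.concat_eq_append] at hl hlen he
      have hli := len_init hl hlen he
      obtain ⟨hl', hs'⟩ := hl.of_append
      have hs : s ∈ (C.c6.bnPair F).S := hs' s (by simp)
      have hsN : s ∈ (C.c6.bnPair F).N := S_mem_N hs
      have hl'N : l'.prod ∈ (C.c6.bnPair F).N := hl'.prod_mem_N (le_refl _)
      obtain ⟨i, hi, hsi⟩ := C.c6.eq_nG_of_SSet (s : GL D.Idx F) hs
      rw [List.prod_append, List.prod_singleton] at he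
      rw [List.length_append, List.length_singleton] at hlen
      set M : ↥(D.group F) := ⟨m, hmG⟩ with hM
      -- `ℓ(m s) = ℓ(m) - 1`
      have e1 : Eqv (C.c6.bnPair F) (l'.prod * s * s) (M * s) :=
        Eqv.mul_right (mul_mem hl'N hsN) hm' hsN he
      have e2 : Eqv (C.c6.bnPair F) (l'.prod * s * s) l'.prod := by
        have : (l'.prod * s * s)⁻¹ * l'.prod = (s * s)⁻¹ := by group
        rw [Eqv, this]
        exact (C.c6.bnPair F).B.inv_mem (S_sq hs)
      have h1 : len (C.c6.bnPair F) (M * s) = l'.length := by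
        rw [← len_congr e1, len_congr e2, hli]
      have e3 : Eqv (C.c6.bnPair F) (M * s * s) M := by
        have : (M * s * s)⁻¹ * M = (s * s)⁻¹ := by group
        rw [Eqv, this]
        exact (C.c6.bnPair F).B.inv_mem (S_sq hs)
      have h2 : len (C.c6.bnPair F) (M * s * s) = len (C.c6.bnPair F) (M * s) + 1 := by
        rw [len_congr e3, h1, ← hlen]
      have hp := C.c6.c2.simple_lt i hi
      have hπ' : C.c6.c2.Perm ((M * s : ↥(D.group F)) : GL D.Idx F) (π ∘ fd.nw fx (fd.simples.getD i 0)) := by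
        rw [Subgroup.coe_mul, hsi]
        exact C.c6.perm_mul hπ (C.c6.perm_nG i hi).1
      have := C.c6.pos_of_len i hi (M * s) s (mul_mem hm' hsN) hsi h2 _ hπ'
      simp only [Function.comp] at this
      rw [(fd.neg_spec C.c6.c2.neg _ hp).1, (hπ _ hp).2.1] at this
      have h3 := hpos i hi
      have h4 := (hπ _ hp).1
      have hev := C.c6.c2.heven
      omega

end Cert12

end Cfsg.Agent.Lib.H29.Chev
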