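import Mathlib
import Cfsg.Prelude.Def_ChevStructure
import Cfsg.Agent.Lib.H29.ChevGen37
import Cfsg.Agent.Lib.H29.ChevGen29

/-!
# The order of a Chevalley group as a sum over the Weyl group
-/

set_option autoImplicit false
set_option linter.unusedSectionVars false
set_option linter.unusedSimpArgs false
set_option linter.unusedVariables false

namespace Cfsg.Agent.Lib.H29.Chev

open Cfsg.Lie Matrix

variable {D : ChevalleyDatum} {fd : FD} {fx : FX} {fc : FC} {fz : FZ} {F : Type*} [Field F]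

/-- the extension of a map on the roots to the natural numbers -/
def extF (fd : FD) (σ : Fin fd.n → Fin fd.n) (s : ℕ) : ℕ := if h : s < fd.n then (σ ⟨s, h⟩).val else s

theorem extF_lt (σ : Fin fd.n → Fin fd.n) (s : ℕ) (hs : s < fd.n) : extF fd σ s = (σ ⟨s, hs⟩).val := dif_pos hs

/-- the number of positive roots made negative -/
noncomputable def invN (fd : FD) (σ : Fin fd.n → Fin fd.n) : ℕ :=
  Nat.card {r : ℕ // r < fd.n ∧ fd.n / 2 ≤ r ∧ extF fd σ r < fd.n / 2}

/-- the maps on the roots induced by the elements of `N` -/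
def RealW (C : Cert12 D fd fx fc fz) (F : Type*) [Field F] : Set (Fin fd.n → Fin fd.n) :=
  {σ | ∃ m ∈ D.monomialSubgroup F, C.c6.c2.Perm m (extF fd σ)}

namespace Cert12

variable (C : Cert12 D fd fx fc fz)

/-- a representative in `N` -/
noncomputable def rep (σ : RealW C F) : GL D.Idx F := Classical.choose σ.property

theorem rep_mem (σ : RealW C F) : C.rep σ ∈ D.monomialSubgroup F := (Classical.choose_spec σ.property).1

theorem rep_perm (σ : RealW C F) : C.c6.c2.Perm (C.rep σ) (extF fd σ.val) := (Classical.choose_spec σ.property).2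

/-- two elements of `N` inducing the same permutation differ by an element of `H` -/
theorem inv_mul_mem_diag (m m' : GL D.Idx F) (hm : m ∈ D.monomialSubgroup F) (hm' : m' ∈ D.monomialSubgroup F)
    (π π' : ℕ → ℕ) (hπ : C.c6.c2.Perm m π) (hπ' : C.c6.c2.Perm m' π') (he : ∀ s < fd.n, π s = π' s) :
    m⁻¹ * m' ∈ D.diagonalSubgroup F := by
  obtain ⟨_, ⟨ρ, hρ⟩⟩ := C.c6.perm_of_mem m hm
  have h1 := C.c6.perm_mul hρ hπ'
  apply C.mem_diag_of_pos _ (mul_mem (inv_mem hm) hm') _ h1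
  intro i hi
  have hp := C.c6.c2.simple_lt i hi
  simp only [Function.comp]
  rw [← he _ hp, (C.perm_inv m π ρ hπ hρ).1 _ hp]
  exact C.c6.simple_pos i hi

/-- the map `(σ, b, u) ↦ b n_σ u` -/
noncomputable def cmap (x : Σ σ : RealW C F, (D.borelSubgroup F) × (Uw D F (C.rep σ))) : D.group F :=
  ⟨x.2.1.val * C.rep x.1 * x.2.2.val,
    mul_mem (mul_mem (C.c6.c2.borel_le_group x.2.1.property) (C.c6.c2.monomial_le_group (C.rep_mem x.1)))
      (C.c6.c2.borel_le_group (C.c6.Uw_le_borel _ x.2.2.property))⟩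

theorem cmap_bijective : Function.Bijective (C.cmap (F := F)) := by
  constructor
  · rintro ⟨σ, ⟨b, hb⟩, ⟨u, hu⟩⟩ ⟨σ', ⟨b', hb'⟩, ⟨u', hu'⟩⟩ h
    have h' := congrArg Subtype.val h
    simp only [cmap] at h'
    obtain ⟨k1, k2⟩ := C.c6.canonical_form.2 b b' _ _ u u' hb hb' (C.rep_mem σ) (C.rep_mem σ') hu hu' h'
    have hσ : σ = σ' := by
      have p1 := C.c6.perm_diag _ k1
      obtain ⟨_, ⟨ρ, hρ⟩⟩ := C.c6.perm_of_mem _ (C.rep_mem σ)
      have p2 := C.c6.perm_mul hρ (C.rep_perm σ')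
      have p3 := C.perm_unique _ _ _ p1 p2
      apply Subtype.ext
      funext s
      apply Fin.ext
      have := p3 (σ.val s).val (σ.val s).isLt
      simp only [Function.comp, id] at this
      have q1 := (C.perm_inv _ _ ρ (C.rep_perm σ) hρ)
      -- `ρ (σ' s) = s'` with `σ s' = σ' s`
      have q2 : extF fd σ.val (ρ (extF fd σ'.val s.val)) = extF fd σ'.val s.val :=
        q1.2 _ ((C.rep_perm σ') s.val s.isLt).1
      have q3 := p3 s.val s.isLt
      simp only [Function.comp, id] at q3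
      rw [← q3, extF_lt _ _ s.isLt, extF_lt _ _ s.isLt] at q2
      exact q2
    subst hσ
    obtain ⟨rfl, rfl⟩ := k2 rfl
    rfl
  · rintro ⟨g, hg⟩
    obtain ⟨b, hb, m, hm, u, hu, rfl⟩ := C.c6.canonical_form.1 g hg
    obtain ⟨⟨π, hπ⟩, _⟩ := C.c6.perm_of_mem m hm
    let σ : Fin fd.n → Fin fd.n := fun s => ⟨π s.val, (hπ s.val s.isLt).1⟩
    have hσπ : ∀ s < fd.n, π s = extF fd σ s := by
      intro s hs
      rw [extF_lt _ _ hs]
    have hσ : σ ∈ RealW C F := ⟨m, hm, C.perm_congr m π _ hπ hσπ⟩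
    set mσ := C.rep ⟨σ, hσ⟩ with hmσ
    have hmσN : mσ ∈ D.monomialSubgroup F := C.rep_mem ⟨σ, hσ⟩
    have hh : m⁻¹ * mσ ∈ D.diagonalSubgroup F :=
      C.inv_mul_mem_diag m mσ hm hmσN π _ hπ (C.rep_perm ⟨σ, hσ⟩) hσπ
    -- `m = k mσ` with `k ∈ H`
    set k := mσ * (m⁻¹ * mσ)⁻¹ * mσ⁻¹ with hk
    have hkH : k ∈ D.diagonalSubgroup F :=
      (Subgroup.mem_normalizer_iff.mp (C.c6.c2.monomial_le_normalizer_diag hmσN) _).mp (inv_mem hh)
    have em : m = k * mσ := by rw [hk]; group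
    have hu' : u ∈ Uw D F mσ := by
      have := C.c6.Uw_le_diag_mul (k * mσ) k⁻¹ (inv_mem hkH) (by rw [← em]; exact hu)
      rwa [inv_mul_cancel_left] at this
    refine ⟨⟨⟨σ, hσ⟩, ⟨b * k, mul_mem hb (C.c6.diag_le_borel hkH)⟩, ⟨u, hu'⟩⟩, ?_⟩
    apply Subtype.ext
    simp only [cmap]
    rw [em, ← hmσ]
    group

/-- the order of the Chevalley group as a sum over the Weyl group -/
theorem card_group [Finite F] :
    Nat.card (D.group F) =
      Nat.card (D.borelSubgroup F) * ∑ᶠ σ : RealW C F, Nat.card F ^ invN fd σ.val := by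
  classical
  have : Fintype (RealW C F) := Fintype.ofFinite _
  rw [← Nat.card_congr (Equiv.ofBijective _ (C.cmap_bijective (F := F))), Nat.card_sigma,
    finsum_eq_sum_of_fintype, Finset.mul_sum]
  apply Finset.sum_congr rfl
  intro σ _
  rw [Nat.card_prod, C.card_Uw _ (C.rep_mem σ) _ (C.rep_perm σ)]
  rfl

end Cert12

end Cfsg.Agent.Lib.H29.Chev
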