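import Mathlib
import Cfsg.Prelude.Def_ChevStructure
import Cfsg.Agent.Lib.H29.ChevGen38
import Cfsg.Agent.Lib.H29.ChevFast9

/-!
# Words in the fundamental reflections, as permutations of the roots
-/

set_option autoImplicit false
set_option linter.unusedSectionVars false
set_option linter.unusedSimpArgs false
set_option linter.unusedVariables false

namespace Cfsg.Agent.Lib.H29.Chev

open Cfsg.Lie Matrix

variable {D : ChevalleyDatum} {fd : FD} {fx : FX} {fc : FC} {fz : FZ} {F : Type*} [Field F]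

/-- the permutation of the roots of a word in the fundamental reflections -/
def FD.wordP (fd : FD) (fx : FX) : List ℕ → ℕ → ℕ
  | [], s => s
  | i :: w, s => fd.sw fx i (FD.wordP fd fx w s)

/-- a word in the first `k` fundamental reflections -/
def IsWd (k : ℕ) (w : List ℕ) : Prop := ∀ i ∈ w, i < k

/-- the root `s` lies in the span of the first `k` fundamental roots -/
def FD.InJ (fd : FD) (fx : FX) (k s : ℕ) : Prop := ∀ j, k ≤ j → j < fd.l → fd.rcZ fx s j = 0

theorem IsWd.mono {k k' : ℕ} {w : List ℕ} (h : IsWd k w) (hk : k ≤ k') : IsWd k' w :=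
  fun i hi => lt_of_lt_of_le (h i hi) hk

theorem IsWd.cons {k i : ℕ} {w : List ℕ} (hi : i < k) (h : IsWd k w) : IsWd k (i :: w) := by
  intro j hj
  rcases List.mem_cons.mp hj with rfl | hj
  · exact hi
  · exact h j hj

theorem IsWd.of_cons {k i : ℕ} {w : List ℕ} (h : IsWd k (i :: w)) : i < k ∧ IsWd k w :=
  ⟨h i (by simp), fun j hj => h j (List.mem_cons_of_mem _ hj)⟩

theorem IsWd.append {k : ℕ} {w w' : List ℕ} (h : IsWd k w) (h' : IsWd k w') : IsWd k (w ++ w') := by
  intro j hj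
  rcases List.mem_append.mp hj with hj | hj
  · exact h j hj
  · exact h' j hj

theorem IsWd.reverse {k : ℕ} {w : List ℕ} (h : IsWd k w) : IsWd k w.reverse :=
  fun j hj => h j (List.mem_reverse.mp hj)

theorem FD.wordP_append (w w' : List ℕ) (s : ℕ) :
    fd.wordP fx (w ++ w') s = fd.wordP fx w (fd.wordP fx w' s) := by
  induction w with
  | nil => rfl
  | cons i w ih => simp only [List.cons_append, FD.wordP, ih]

namespace Cert12

variable (C : Cert12 D fd fx fc fz)
include C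

theorem sw_lt (i s : ℕ) (hi : i < fd.l) (hs : s < fd.n) : fd.sw fx i s < fd.n :=
  (fd.nw_spec C.c6.c2.chk.nn _ s (C.c6.c2.simple_lt i hi) hs).1

theorem sw_neg (i s : ℕ) (hi : i < fd.l) (hs : s < fd.n) : fd.sw fx i (fd.n - 1 - s) = fd.n - 1 - fd.sw fx i s :=
  (fd.up_spec C.c6.up i hi s hs).1

theorem sw_sw (i s : ℕ) (hi : i < fd.l) (hs : s < fd.n) : fd.sw fx i (fd.sw fx i s) = s :=
  (fd.up_spec C.c6.up i hi s hs).2.1

theorem sw_pos (i s : ℕ) (hi : i < fd.l) (hs : s < fd.n) (hpos : fd.n / 2 ≤ s) (hne : s ≠ fd.simples.getD i 0) :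
    fd.n / 2 ≤ fd.sw fx i s :=
  ((fd.up_spec C.c6.up i hi s hs).2.2 hpos hne).1.2.1

theorem rcZ_simple (i j : ℕ) (hi : i < fd.l) (hj : j < fd.l) :
    fd.rcZ fx (fd.simples.getD i 0) j = if i = j then 1 else 0 :=
  (fd.simple_spec C.c6.c2.simple i hi).2.1 j hj

theorem sw_rc (i s j : ℕ) (hi : i < fd.l) (hs : s < fd.n) (hj : j < fd.l) (hij : j ≠ i) :
    fd.rcZ fx (fd.sw fx i s) j = fd.rcZ fx s j := by
  unfold FD.sw
  rw [(fd.nw_spec C.c6.c2.chk.nn _ s (C.c6.c2.simple_lt i hi) hs).2 j hj, C.rcZ_simple i j hi hj,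
    if_neg (Ne.symm hij)]
  ring

theorem rcZ_neg (s j : ℕ) (hs : s < fd.n) (hj : j < fd.l) : fd.rcZ fx (fd.n - 1 - s) j = - fd.rcZ fx s j := by
  have key : ∀ r, fd.omr fx (fun k => if k = j then 1 else 0) r = fd.rcZ fx r j := by
    intro r
    unfold FD.omr
    rw [listsum_eq, Finset.sum_eq_single j]
    · simp
    · intro k _ hk
      simp [hk]
    · intro h; exact absurd (Finset.mem_range.mpr hj) h
  rw [← key, ← key, fd.omr_neg C.c6.c2.chk.pref _ s hs]

theorem rcZ_nonneg (r : ℕ) (hr : r < fd.n) (hpos : fd.n / 2 ≤ r) : ∀ j < fd.l, 0 ≤ fd.rcZ fx r j := by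
  intro j hj
  have hev := C.c6.c2.heven
  have := C.rcZ_nonpos (fd.n - 1 - r) (by omega) (by omega) j hj
  rw [C.rcZ_neg r j hr hj] at this
  omega

theorem wordP_lt (w : List ℕ) (hw : IsWd fd.l w) (s : ℕ) (hs : s < fd.n) : fd.wordP fx w s < fd.n := by
  induction w with
  | nil => exact hs
  | cons i w ih =>
    obtain ⟨hi, hw'⟩ := hw.of_cons
    exact C.sw_lt i _ hi (ih hw')

theorem wordP_neg (w : List ℕ) (hw : IsWd fd.l w) (s : ℕ) (hs : s < fd.n) :
    fd.wordP fx w (fd.n - 1 - s) = fd.n - 1 - fd.wordP fx w s := by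
  induction w with
  | nil => rfl
  | cons i w ih =>
    obtain ⟨hi, hw'⟩ := hw.of_cons
    simp only [FD.wordP]
    rw [ih hw', C.sw_neg i _ hi (C.wordP_lt w hw' s hs)]

theorem wordP_rev (w : List ℕ) (hw : IsWd fd.l w) (s : ℕ) (hs : s < fd.n) :
    fd.wordP fx w.reverse (fd.wordP fx w s) = s := by
  induction w generalizing s with
  | nil => rfl
  | cons i w ih =>
    obtain ⟨hi, hw'⟩ := hw.of_cons
    rw [List.reverse_cons, FD.wordP_append]
    simp only [FD.wordP]
    rw [C.sw_sw i _ hi (C.wordP_lt w hw' s hs), ih hw' s hs]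

theorem wordP_rev' (w : List ℕ) (hw : IsWd fd.l w) (s : ℕ) (hs : s < fd.n) :
    fd.wordP fx w (fd.wordP fx w.reverse s) = s := by
  have := C.wordP_rev w.reverse hw.reverse s hs
  rwa [List.reverse_reverse] at this

/-- the element of `N` of a word -/
noncomputable def wordN (F : Type*) [Field F] : List ℕ → GL D.Idx F
  | [] => 1
  | i :: w => (if h : i < fd.l then C.c6.c2.nG (fd.simples.getD i 0) (C.c6.c2.simple_lt i h) else 1) * wordN F w

theorem wordN_mem (w : List ℕ) : C.wordN F w ∈ D.monomialSubgroup F := by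
  induction w with
  | nil => exact one_mem _
  | cons i w ih =>
    simp only [wordN]
    apply mul_mem _ ih
    split_ifs with h
    · exact C.c6.c2.nG_mem_monomial _ _
    · exact one_mem _

theorem perm_wordN (w : List ℕ) (hw : IsWd fd.l w) : C.c6.c2.Perm (C.wordN F w) (fd.wordP fx w) := by
  induction w with
  | nil => exact C.c6.perm_one
  | cons i w ih =>
    obtain ⟨hi, hw'⟩ := hw.of_cons
    simp only [wordN, dif_pos hi]
    exact C.c6.perm_mul (C.c6.perm_nG i hi).1 (ih hw')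

/-- a word that makes no fundamental root negative acts trivially on the roots -/
theorem word_id (F : Type*) [Field F] (w : List ℕ) (hw : IsWd fd.l w)
    (hpos : ∀ i < fd.l, fd.n / 2 ≤ fd.wordP fx w (fd.simples.getD i 0)) :
    ∀ s < fd.n, fd.wordP fx w s = s := by
  have h1 := C.mem_diag_of_pos (F := F) _ (C.wordN_mem w) _ (C.perm_wordN w hw) hpos
  have h2 := C.c6.perm_diag _ h1
  exact C.perm_unique _ _ _ (C.perm_wordN w hw) h2

/-- every element of `N` acts on the roots as a word -/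
theorem perm_word (m : GL D.Idx F) (hm : m ∈ D.monomialSubgroup F) :
    (∃ w, IsWd fd.l w ∧ C.c6.c2.Perm m (fd.wordP fx w)) ∧ (∃ w, IsWd fd.l w ∧ C.c6.c2.Perm m⁻¹ (fd.wordP fx w)) := by
  rw [← C.c6.closure_SSet_sup_diag, ← Subgroup.closure_eq (D.diagonalSubgroup F), ← Subgroup.closure_union] at hm
  induction hm using Subgroup.closure_induction with
  | mem x hx =>
    rcases hx with hx | hx
    · obtain ⟨i, hi, rfl⟩ := C.c6.eq_nG_of_SSet x hx
      have hw : IsWd fd.l [i] := by intro j hj; simp at hj; omega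
      exact ⟨⟨[i], hw, (C.c6.perm_nG i hi).1⟩, ⟨[i], hw, (C.c6.perm_nG i hi).2⟩⟩
    · have hw : IsWd fd.l [] := by intro j hj; simp at hj
      exact ⟨⟨[], hw, C.c6.perm_diag x hx⟩, ⟨[], hw, C.c6.perm_diag x⁻¹ (inv_mem hx)⟩⟩
  | one =>
    have hw : IsWd fd.l [] := by intro j hj; simp at hj
    exact ⟨⟨[], hw, C.c6.perm_one⟩, ⟨[], hw, by rw [inv_one]; exact C.c6.perm_one⟩⟩
  | mul x y _ _ hx hy =>
    obtain ⟨⟨w1, k1, h1⟩, ⟨w1', k1', h1'⟩⟩ := hx
    obtain ⟨⟨w2, k2, h2⟩, ⟨w2', k2', h2'⟩⟩ := hy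
    refine ⟨⟨w1 ++ w2, k1.append k2, ?_⟩, ⟨w2' ++ w1', k2'.append k1', ?_⟩⟩
    · exact C.perm_congr _ _ _ (C.c6.perm_mul h1 h2) (fun s _ => (fd.wordP_append w1 w2 s).symm)
    · rw [_root_.mul_inv_rev]
      exact C.perm_congr _ _ _ (C.c6.perm_mul h2' h1') (fun s _ => (fd.wordP_append w2' w1' s).symm)
  | inv x _ hx =>
    obtain ⟨h1, h2⟩ := hx
    exact ⟨h2, by rw [inv_inv]; exact h1⟩

end Cert12

/-- the permutations of the roots given by the words in the first `k` fundamental reflections -/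
def Wk (fd : FD) (fx : FX) (k : ℕ) : Set (Fin fd.n → Fin fd.n) :=
  {σ | ∃ w, IsWd k w ∧ ∀ s : Fin fd.n, (σ s).val = fd.wordP fx w s.val}

namespace Cert12

variable (C : Cert12 D fd fx fc fz)
include C

theorem realW_eq (F : Type*) [Field F] : RealW C F = Wk fd fx fd.l := by
  ext σ
  constructor
  · rintro ⟨m, hm, hπ⟩
    obtain ⟨⟨w, hw, hw'⟩, _⟩ := C.perm_word m hm
    refine ⟨w, hw, fun s => ?_⟩
    have := C.perm_unique m _ _ hπ hw' s.val s.isLt
    rw [extF_lt _ _ s.isLt] at this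
    exact this
  · rintro ⟨w, hw, h⟩
    refine ⟨C.wordN F w, C.wordN_mem w, C.perm_congr _ _ _ (C.perm_wordN w hw) (fun s hs => ?_)⟩
    rw [extF_lt _ _ hs]
    exact (h ⟨s, hs⟩).symm

end Cert12

end Cfsg.Agent.Lib.H29.Chev
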