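import Mathlib
import Cfsg.Prelude.Def_ChevStructure
import Cfsg.Agent.Lib.H29.ChevGen39

/-!
# The Levi decomposition of a parabolic subgroup
-/

set_option autoImplicit false
set_option linter.unusedSectionVars false
set_option linter.unusedSimpArgs false
set_option linter.unusedVariables false

namespace Cfsg.Agent.Lib.H29.Chev

open Cfsg.Lie Matrix

variable {D : ChevalleyDatum} {fd : FD} {fx : FX} {fc : FC} {fz : FZ} {F : Type*} [Field F]

open Classical in
/-- the functional that sums the coordinates outside `J` -/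
noncomputable def aJ (J : Set ℕ) (j : ℕ) : ℤ := if j ∈ J then 0 else 1

/-- matrices with `1` on the diagonal whose other nonzero entries raise the `a`-weight by at least `w` -/
def GwF (D : ChevalleyDatum) (fd : FD) (fx : FX) (F : Type*) [Field F] (a : ℕ → ℤ) (w : ℤ) :
    Set (Matrix D.Idx D.Idx F) :=
  {M | (∀ i, M i i = 1) ∧ ∀ i j, i ≠ j → M i j ≠ 0 → fd.om fx a (code D j) + w ≤ fd.om fx a (code D i)}

theorem GwF_one (a : ℕ → ℤ) (w : ℤ) : (1 : Matrix D.Idx D.Idx F) ∈ GwF D fd fx F a w := by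
  refine ⟨fun i => Matrix.one_apply_eq i, fun i j hij h => ?_⟩
  exact absurd (Matrix.one_apply_ne hij) h

theorem GwF_mul (a : ℕ → ℤ) (w : ℤ) (hw : 0 < w) (M N : Matrix D.Idx D.Idx F) (hM : M ∈ GwF D fd fx F a w)
    (hN : N ∈ GwF D fd fx F a w) : M * N ∈ GwF D fd fx F a w := by
  constructor
  · intro i
    rw [Matrix.mul_apply, Finset.sum_eq_single i]
    · rw [hM.1, hN.1, mul_one]
    · intro c _ hci
      by_contra h
      have h1 : M i c ≠ 0 := left_ne_zero_of_mul h
      have h2 : N c i ≠ 0 := right_ne_zero_of_mul h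
      have := hM.2 i c (Ne.symm hci) h1
      have := hN.2 c i hci h2
      omega
    · intro h; exact absurd (Finset.mem_univ i) h
  · intro i j hij h
    rw [Matrix.mul_apply] at h
    obtain ⟨c, _, hc⟩ := Finset.exists_ne_zero_of_sum_ne_zero h
    have h1 : M i c ≠ 0 := left_ne_zero_of_mul hc
    have h2 : N c j ≠ 0 := right_ne_zero_of_mul hc
    by_cases hic : i = c
    · subst hic
      exact hN.2 i j hij h2
    · have k1 := hM.2 i c hic h1
      by_cases hcj : c = j
      · subst hcj; exact k1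
      · have k2 := hN.2 c j hcj h2
        omega

/-- matrices whose nonzero entries preserve the `a`-weight -/
def ZwF (D : ChevalleyDatum) (fd : FD) (fx : FX) (F : Type*) [Field F] (a : ℕ → ℤ) : Set (Matrix D.Idx D.Idx F) :=
  {M | ∀ i j, M i j ≠ 0 → fd.om fx a (code D i) = fd.om fx a (code D j)}

theorem ZwF_one (a : ℕ → ℤ) : (1 : Matrix D.Idx D.Idx F) ∈ ZwF D fd fx F a := by
  intro i j h
  by_cases hij : i = j
  · rw [hij]
  · exact absurd (Matrix.one_apply_ne hij) h

theorem ZwF_mul (a : ℕ → ℤ) (M N : Matrix D.Idx D.Idx F) (hM : M ∈ ZwF D fd fx F a)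
    (hN : N ∈ ZwF D fd fx F a) : M * N ∈ ZwF D fd fx F a := by
  intro i j h
  rw [Matrix.mul_apply] at h
  obtain ⟨c, _, hc⟩ := Finset.exists_ne_zero_of_sum_ne_zero h
  rw [hM i c (left_ne_zero_of_mul hc), hN c j (right_ne_zero_of_mul hc)]

theorem XR_mem_GwF (C : Cert2 D fd fx) (a : ℕ → ℤ) (r : ℕ) (hr : r < fd.n) (w : ℤ) (hw : 0 < w)
    (h : w ≤ fd.omr fx a r) (t : F) : XR D F r t ∈ GwF D fd fx F a w := by
  have key : ∀ k : ℕ, (k = 1 ∨ k = 2 ∨ k = 3) → ∀ i j, aR D F r k i j ≠ 0 →
      fd.om fx a (code D j) + w ≤ fd.om fx a (code D i) := by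
    intro k hk i j hij
    rw [om_grad C.agrees C.chk.grad r k hr hk a i j hij]
    have h1 : (1 : ℤ) ≤ k := by rcases hk with rfl | rfl | rfl <;> norm_num
    nlinarith
  constructor
  · intro i
    have z : ∀ k : ℕ, (k = 1 ∨ k = 2 ∨ k = 3) → aR D F r k i i = 0 := by
      intro k hk
      by_contra h0
      have := key k hk i i h0
      omega
    rw [XR_apply', z 1 (by simp), z 2 (by simp), z 3 (by simp), Matrix.one_apply_eq]
    simp
  · intro i j hij hne
    by_contra hlt
    apply hne
    have z : ∀ k : ℕ, (k = 1 ∨ k = 2 ∨ k = 3) → aR D F r k i j = 0 := by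
      intro k hk
      by_contra h0
      exact hlt (key k hk i j h0)
    rw [XR_apply', z 1 (by simp), z 2 (by simp), z 3 (by simp), Matrix.one_apply_ne hij]
    simp

theorem XR_mem_ZwF (C : Cert2 D fd fx) (a : ℕ → ℤ) (r : ℕ) (hr : r < fd.n) (h : fd.omr fx a r = 0) (t : F) :
    XR D F r t ∈ ZwF D fd fx F a := by
  intro i j hij
  by_cases hd : i = j
  · rw [hd]
  · have hex : ∃ k : ℕ, (k = 1 ∨ k = 2 ∨ k = 3) ∧ aR D F r k i j ≠ 0 := by
      by_contra hcon
      apply hij
      have z : ∀ k : ℕ, (k = 1 ∨ k = 2 ∨ k = 3) → aR D F r k i j = 0 := by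
        intro k hk
        by_contra h0
        exact hcon ⟨k, hk, h0⟩
      rw [XR_apply', z 1 (by simp), z 2 (by simp), z 3 (by simp), Matrix.one_apply_ne hd]
      simp
    obtain ⟨k, hk, hak⟩ := hex
    rw [om_grad C.agrees C.chk.grad r k hr hk a i j hak, h]
    ring

namespace Cert12

variable (C : Cert12 D fd fx fc fz)
include C

theorem rcZ_eq_zero_iff (r j : ℕ) (hr : r < fd.n) (hj : j < fd.l) : fd.rcZ fx r j = 0 ↔ fd.corZ r j = 0 := by
  have h3 := C.sgn r hr
  simp only [FD.chkSgnR, List.all_eq_true, List.mem_range, Bool.and_eq_true, beq_iff_eq, decide_eq_decide] at h3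
  obtain ⟨h1, h2⟩ := h3 j hj
  constructor <;> intro h <;> omega

/-- the roots of `Φ_J` are those on which the functional vanishes, among the roots with coordinates of one sign -/
theorem inRootSub_iff_omr (J : Set ℕ) (r : ℕ) (hr : r < fd.n) :
    D.InRootSub J r ↔ fd.omr fx (aJ J) r = 0 := by
  rw [C.c6.c5.c3.inRootSub_iff]
  have hsum : fd.omr fx (aJ J) r = ∑ j ∈ Finset.range fd.l, aJ J j * fd.rcZ fx r j := by
    unfold FD.omr
    rw [listsum_eq]
  have hev := C.c6.c2.heven
  constructor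
  · rintro ⟨_, h⟩
    rw [hsum]
    apply Finset.sum_eq_zero
    intro j hj
    rw [Finset.mem_range] at hj
    unfold aJ
    split_ifs with hJ
    · simp
    · rw [(C.rcZ_eq_zero_iff r j hr hj).mpr (h j hj hJ)]
      simp
  · intro h
    refine ⟨hr, fun i hi hJ => ?_⟩
    rw [← C.rcZ_eq_zero_iff r i hr hi]
    rw [hsum] at h
    by_cases hpos : fd.n / 2 ≤ r
    · have hnn : ∀ j ∈ Finset.range fd.l, 0 ≤ aJ J j * fd.rcZ fx r j := by
        intro j hj
        rw [Finset.mem_range] at hj
        have := C.rcZ_nonneg r hr hpos j hj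
        unfold aJ
        split_ifs <;> simp [this]
      have := (Finset.sum_eq_zero_iff_of_nonneg hnn).mp h i (Finset.mem_range.mpr hi)
      unfold aJ at this
      rw [if_neg hJ, one_mul] at this
      exact this
    · have hnn : ∀ j ∈ Finset.range fd.l, aJ J j * fd.rcZ fx r j ≤ 0 := by
        intro j hj
        rw [Finset.mem_range] at hj
        have := C.rcZ_nonpos r hr (by omega) j hj
        unfold aJ
        split_ifs <;> simp [this]
      have := (Finset.sum_eq_zero_iff_of_nonpos hnn).mp h i (Finset.mem_range.mpr hi)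
      unfold aJ at this
      rw [if_neg hJ, one_mul] at this
      exact this

theorem omr_aJ_nonneg (J : Set ℕ) (r : ℕ) (hr : r < fd.n) (hpos : fd.n / 2 ≤ r) : 0 ≤ fd.omr fx (aJ J) r := by
  unfold FD.omr
  rw [listsum_eq]
  apply Finset.sum_nonneg
  intro j hj
  rw [Finset.mem_range] at hj
  have := C.rcZ_nonneg r hr hpos j hj
  unfold aJ
  split_ifs <;> simp [this]

/-- a root on which the functional is positive is positive -/
theorem pos_of_omr_pos (J : Set ℕ) (r : ℕ) (hr : r < fd.n) (h : 0 < fd.omr fx (aJ J) r) : fd.n / 2 ≤ r := by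
  by_contra hneg
  have : fd.omr fx (aJ J) r ≤ 0 := by
    unfold FD.omr
    rw [listsum_eq]
    apply Finset.sum_nonpos
    intro j hj
    rw [Finset.mem_range] at hj
    have := C.rcZ_nonpos r hr (by omega) j hj
    unfold aJ
    split_ifs <;> simp [this]
  omega

/-- the functional on a term of the commutator formula -/
theorem omr_term (a : ℕ → ℤ) (r s : ℕ) (hr : r < fd.n) (hs : s < fd.n) (c : ℕ × ℤ × ℕ × ℕ)
    (hc : c ∈ fd.commT r s) :
    fd.omr fx a c.1 = (c.2.2.1 : ℤ) * fd.omr fx a r + (c.2.2.2 : ℤ) * fd.omr fx a s := by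
  obtain ⟨_, h2, _⟩ := fd.linc_spec C.linc r s hr hs c hc
  unfold FD.omr
  rw [listsum_eq, listsum_eq, listsum_eq, Finset.mul_sum, Finset.mul_sum, ← Finset.sum_add_distrib]
  apply Finset.sum_congr rfl
  intro j hj
  rw [h2 j (Finset.mem_range.mp hj)]
  ring

end Cert12

end Cfsg.Agent.Lib.H29.Chev
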