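import Mathlib
import Cfsg.Prelude.Def_ChevStructure
import Cfsg.Agent.Lib.H29.ChevGen48

/-!
# The Levi decomposition of a parabolic subgroup
-/

set_option autoImplicit false
set_option linter.unusedSectionVars false
set_option linter.unusedSimpArgs false
set_option linter.unusedVariables false

namespace Cfsg.Agent.Lib.H29.Chev

open Cfsg.Lie Matrix

variable {D : ChevalleyDatum} {fd : FD} {fx : FX} {fc : FC} {fz : FZ} {F : Type*} [Field F]

theorem FD.commT_ij (r s : ℕ) (c : ℕ × ℤ × ℕ × ℕ) (hc : c ∈ fd.commT r s) : 1 ≤ c.2.2.1 ∧ 1 ≤ c.2.2.2 := by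
  unfold FD.commT at hc
  simp only [List.mem_filterMap] at hc
  obtain ⟨cand, hmem, h⟩ := hc
  simp only [List.mem_cons, List.not_mem_nil, or_false] at hmem
  rcases hmem with rfl | rfl | rfl | rfl | rfl | rfl | rfl <;>
  · simp only [Option.map_eq_some_iff] at h
    obtain ⟨k, _, rfl⟩ := h
    simp

namespace Cert12

variable (C : Cert12 D fd fx fc fz)
include C

/-- the generators of `U_J` -/
theorem xA_mem_radical (J : Set ℕ) (s : ℕ) (hs : s < fd.n) (h : 0 < fd.omr fx (aJ J) s) (u : F) :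
    C.c6.c2.xA s u ∈ D.unipotentRadical F J := by
  apply Subgroup.subset_closure
  refine ⟨s, u, (C.c6.isPos_iff s).mpr ⟨hs, C.pos_of_omr_pos J s hs h⟩, ?_, C.c6.c2.xA_val s u⟩
  rw [C.inRootSub_iff_omr J s hs]
  omega

theorem eq_xA_of_radical_gen (J : Set ℕ) (g : GL D.Idx F)
    (hg : g ∈ {g : GL D.Idx F | ∃ (r : ℕ) (t : F), D.IsPosRoot r ∧ ¬ D.InRootSub J r ∧
      (g : Matrix D.Idx D.Idx F) = D.x F r t}) :
    ∃ s u, s < fd.n ∧ 0 < fd.omr fx (aJ J) s ∧ g = C.c6.c2.xA s u := by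
  obtain ⟨s, u, hpos, hJ, hg⟩ := hg
  obtain ⟨h1, h2⟩ := (C.c6.isPos_iff s).mp hpos
  refine ⟨s, u, h1, ?_, gl_ext (by rw [hg, C.c6.c2.xA_val])⟩
  rw [C.inRootSub_iff_omr J s h1] at hJ
  have := C.omr_aJ_nonneg J s h1 h2
  omega

theorem ctG_mem_radical (J : Set ℕ) (L : List (ℕ × ℤ × ℕ × ℕ))
    (hL : ∀ c ∈ L, c.1 < fd.n ∧ 0 < fd.omr fx (aJ J) c.1) (t u : F) :
    C.c6.c2.ctG L t u ∈ D.unipotentRadical F J := by
  unfold Cert2.ctG
  apply Subgroup.list_prod_mem
  intro x hx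
  obtain ⟨c, hc, rfl⟩ := List.mem_map.mp hx
  exact C.xA_mem_radical J c.1 (hL c hc).1 (hL c hc).2 _

/-- conjugating a generator of `U_J` by a root element of `P_J` -/
theorem conj_mem_radical (J : Set ℕ) (r : ℕ) (hr : r < fd.n) (hΓ : 0 ≤ fd.omr fx (aJ J) r) (s : ℕ) (hs : s < fd.n)
    (hΩ : 0 < fd.omr fx (aJ J) s) (t u : F) :
    (C.c6.c2.xA r t)⁻¹ * C.c6.c2.xA s u * C.c6.c2.xA r t ∈ D.unipotentRadical F J := by
  have hev := C.c6.c2.heven
  by_cases h1 : s = r
  · subst h1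
    rw [C.c6.c2.xA_inv, C.c6.c2.xA_mul, C.c6.c2.xA_mul]
    have : -t + u + t = u := by ring
    rw [this]
    exact C.xA_mem_radical J s hs hΩ u
  by_cases h2 : s = fd.n - 1 - r
  · exfalso
    rw [h2, fd.omr_neg C.c6.c2.chk.pref _ r hr] at hΩ
    omega
  have := C.c6.cfg (F := F) r s hr hs h1 h2 t u
  rw [mul_assoc, this, ← mul_assoc, ← mul_assoc, inv_mul_cancel, one_mul]
  apply mul_mem (C.xA_mem_radical J s hs hΩ u)
  apply C.ctG_mem_radical
  intro c hc
  obtain ⟨hc1, _, _⟩ := fd.linc_spec C.linc r s hr hs c hc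
  refine ⟨hc1, ?_⟩
  rw [C.omr_term _ r s hr hs c hc]
  obtain ⟨hi, hj⟩ := fd.commT_ij r s c hc
  have h3 : (0 : ℤ) ≤ (c.2.2.1 : ℤ) := Int.natCast_nonneg _
  have h4 : (1 : ℤ) ≤ (c.2.2.2 : ℤ) := by exact_mod_cast hj
  nlinarith [mul_nonneg h3 hΓ]

theorem xA_mem_normalizer_radical (J : Set ℕ) (r : ℕ) (hr : r < fd.n) (hΓ : 0 ≤ fd.omr fx (aJ J) r) (t : F) :
    C.c6.c2.xA r t ∈ Subgroup.normalizer (D.unipotentRadical F J : Set (GL D.Idx F)) := by
  unfold ChevalleyDatum.unipotentRadical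
  apply mem_normalizer_closure
  · intro x hx
    obtain ⟨s, u, hs, hΩ, rfl⟩ := C.eq_xA_of_radical_gen J x hx
    have := C.conj_mem_radical (F := F) J r hr hΓ s hs hΩ (-t) u
    rw [← C.c6.c2.xA_inv, inv_inv] at this
    exact this
  · intro x hx
    obtain ⟨s, u, hs, hΩ, rfl⟩ := C.eq_xA_of_radical_gen J x hx
    exact C.conj_mem_radical (F := F) J r hr hΓ s hs hΩ t u

theorem diag_le_normalizer_radical (J : Set ℕ) :
    D.diagonalSubgroup F ≤ Subgroup.normalizer (D.unipotentRadical F J : Set (GL D.Idx F)) := by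
  intro k hk
  have hn := C.c6.c2.nroots_eq
  unfold ChevalleyDatum.unipotentRadical
  apply mem_normalizer_closure
  · intro x hx
    obtain ⟨s, u, hs, hΩ, rfl⟩ := C.eq_xA_of_radical_gen J x hx
    have := (C.c6.c2.diag_conj_x k hk).2 ⟨s, by omega⟩ u
    simp only at this
    rw [this]
    exact C.xA_mem_radical J s hs hΩ _
  · intro x hx
    obtain ⟨s, u, hs, hΩ, rfl⟩ := C.eq_xA_of_radical_gen J x hx
    have := (C.c6.c2.diag_conj_x k⁻¹ (inv_mem hk)).2 ⟨s, by omega⟩ u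
    simp only [inv_inv] at this
    rw [this]
    exact C.xA_mem_radical J s hs hΩ _

/-- a root that is positive or in `Φ_J` has a nonnegative value of the functional -/
theorem omr_nonneg_of (J : Set ℕ) (r : ℕ) (h : D.IsPosRoot r ∨ D.InRootSub J r) :
    r < fd.n ∧ 0 ≤ fd.omr fx (aJ J) r := by
  rcases h with h | h
  · obtain ⟨h1, h2⟩ := (C.c6.isPos_iff r).mp h
    exact ⟨h1, C.omr_aJ_nonneg J r h1 h2⟩
  · have h1 : r < fd.n := by rw [← C.c6.c2.nroots_eq]; exact h.1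
    exact ⟨h1, by rw [(C.inRootSub_iff_omr J r h1).mp h]⟩

/-- `P_J` normalises `U_J` -/
theorem parabolic_le_normalizer (J : Set ℕ) :
    D.parabolicSubgroup F J ≤ Subgroup.normalizer (D.unipotentRadical F J : Set (GL D.Idx F)) := by
  rw [C.c6.c5.c3.parabolic_eq C.c6.desc J]
  apply sup_le (C.diag_le_normalizer_radical J)
  rw [Subgroup.closure_le]
  rintro g ⟨r, t, hr, hg⟩
  obtain ⟨h1, h2⟩ := C.omr_nonneg_of J r hr
  rw [SetLike.mem_coe, C.c6.eq_xA_of_rootSubgroup_gen r g t hg]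
  exact C.xA_mem_normalizer_radical J r h1 h2 t

/-- `U_J L_J = P_J` -/
theorem radical_sup_levi (J : Set ℕ) :
    D.unipotentRadical F J ⊔ D.leviSubgroup F J = D.parabolicSubgroup F J := by
  rw [C.c6.c5.c3.parabolic_eq C.c6.desc J]
  apply le_antisymm
  · apply sup_le
    · apply le_trans _ (le_sup_right : _ ≤ D.diagonalSubgroup F ⊔ _)
      unfold ChevalleyDatum.unipotentRadical
      apply Subgroup.closure_mono
      rintro g ⟨r, t, h1, _, h3⟩
      exact ⟨r, t, Or.inl h1, h3⟩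
    · unfold ChevalleyDatum.leviSubgroup
      apply sup_le le_sup_left
      apply le_trans _ (le_sup_right : _ ≤ D.diagonalSubgroup F ⊔ _)
      apply Subgroup.closure_mono
      rintro g ⟨r, t, h1, h3⟩
      exact ⟨r, t, Or.inr h1, h3⟩
  · apply sup_le
    · exact le_trans (le_sup_left : _ ≤ D.diagonalSubgroup F ⊔ _) le_sup_right
    · rw [Subgroup.closure_le]
      rintro g ⟨r, t, hr, hg⟩
      by_cases hJ : D.InRootSub J r
      · apply (le_sup_right : D.leviSubgroup F J ≤ D.unipotentRadical F J ⊔ D.leviSubgroup F J)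
        apply (le_sup_right : _ ≤ D.diagonalSubgroup F ⊔ _)
        exact Subgroup.subset_closure ⟨r, t, hJ, hg⟩
      · apply (le_sup_left : D.unipotentRadical F J ≤ D.unipotentRadical F J ⊔ D.leviSubgroup F J)
        rcases hr with hr | hr
        · exact Subgroup.subset_closure ⟨r, t, hr, hJ, hg⟩
        · exact absurd hr hJ

/-- the elements of `U_J` raise the weight -/
theorem radical_le_GwF (J : Set ℕ) (g : GL D.Idx F) (hg : g ∈ D.unipotentRadical F J) :
    (g : Matrix D.Idx D.Idx F) ∈ GwF D fd fx F (aJ J) 1 := by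
  have hgen : ∀ s u, s < fd.n → 0 < fd.omr fx (aJ J) s →
      ((C.c6.c2.xA s u : GL D.Idx F) : Matrix D.Idx D.Idx F) ∈ GwF D fd fx F (aJ J) 1 := by
    intro s u hs hΩ
    rw [C.c6.c2.xA_val, x_eq_XR C.c6.c2.agrees s hs]
    exact XR_mem_GwF C.c6.c2 _ s hs 1 one_pos (by omega) u
  unfold ChevalleyDatum.unipotentRadical at hg
  induction hg using Subgroup.closure_induction'' with
  | mem x hx =>
    obtain ⟨s, u, hs, hΩ, rfl⟩ := C.eq_xA_of_radical_gen J x hx
    exact hgen s u hs hΩ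
  | inv_mem x hx =>
    obtain ⟨s, u, hs, hΩ, rfl⟩ := C.eq_xA_of_radical_gen J x hx
    rw [C.c6.c2.xA_inv]
    exact hgen s (-u) hs hΩ
  | one => rw [Units.val_one]; exact GwF_one _ _
  | mul x y _ _ hx hy => rw [Units.val_mul]; exact GwF_mul _ _ one_pos _ _ hx hy

/-- the elements of `L_J` preserve the weight -/
theorem levi_le_ZwF (J : Set ℕ) (g : GL D.Idx F) (hg : g ∈ D.leviSubgroup F J) :
    (g : Matrix D.Idx D.Idx F) ∈ ZwF D fd fx F (aJ J) := by
  unfold ChevalleyDatum.leviSubgroup at hg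
  rw [← Subgroup.closure_eq (D.diagonalSubgroup F), ← Subgroup.closure_union] at hg
  have hd : ∀ k ∈ D.diagonalSubgroup F, (k : Matrix D.Idx D.Idx F) ∈ ZwF D fd fx F (aJ J) := by
    intro k hk i j hij
    by_cases h : i = j
    · rw [h]
    · exact absurd (C.c6.c2.diag_isDiag k hk i j h) hij
  have hx : ∀ r t, D.InRootSub J r →
      ((C.c6.c2.xA r t : GL D.Idx F) : Matrix D.Idx D.Idx F) ∈ ZwF D fd fx F (aJ J) := by
    intro r t hr
    have h1 : r < fd.n := by rw [← C.c6.c2.nroots_eq]; exact hr.1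
    rw [C.c6.c2.xA_val, x_eq_XR C.c6.c2.agrees r h1]
    exact XR_mem_ZwF C.c6.c2 _ r h1 ((C.inRootSub_iff_omr J r h1).mp hr) t
  induction hg using Subgroup.closure_induction'' with
  | mem x hx' =>
    rcases hx' with hx' | ⟨r, t, hr, hg⟩
    · exact hd x hx'
    · rw [C.c6.eq_xA_of_rootSubgroup_gen r x t hg]
      exact hx r t hr
  | inv_mem x hx' =>
    rcases hx' with hx' | ⟨r, t, hr, hg⟩
    · exact hd x⁻¹ (inv_mem hx')
    · rw [C.c6.eq_xA_of_rootSubgroup_gen r x t hg, C.c6.c2.xA_inv]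
      exact hx r (-t) hr
  | one => rw [Units.val_one]; exact ZwF_one _
  | mul x y _ _ hx hy => rw [Units.val_mul]; exact ZwF_mul _ _ _ hx hy

/-- `U_J ∩ L_J = 1` -/
theorem radical_inf_levi (J : Set ℕ) : D.unipotentRadical F J ⊓ D.leviSubgroup F J = ⊥ := by
  rw [eq_bot_iff]
  rintro g ⟨hu, hl⟩
  rw [Subgroup.mem_bot]
  have h1 := C.radical_le_GwF J g hu
  have h2 := C.levi_le_ZwF J g hl
  apply gl_ext
  ext i j
  rw [Units.val_one]
  by_cases hij : i = j
  · subst hij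
    rw [h1.1, Matrix.one_apply_eq]
  · rw [Matrix.one_apply_ne hij]
    by_contra hne
    have k1 := h1.2 i j hij hne
    have k2 := h2 i j hne
    omega

end Cert12

end Cfsg.Agent.Lib.H29.Chev
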