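import Mathlib
import Cfsg.Prelude.Def_ChevStructure
import Cfsg.Agent.Lib.H29.ChevGen49

/-!
# The parabolic subgroup `P_J` is the normaliser of `U_J` in the Chevalley group
-/

set_option autoImplicit false
set_option linter.unusedSectionVars false
set_option linter.unusedSimpArgs false
set_option linter.unusedVariables false

namespace Cfsg.Agent.Lib.H29.Chev

open Cfsg.Lie Matrix

variable {D : ChevalleyDatum} {fd : FD} {fx : FX} {fc : FC} {fz : FZ} {F : Type*} [Field F]

namespace Cert12

variable (C : Cert12 D fd fx fc fz)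
include C

theorem radical_le_pos (J : Set ℕ) : D.unipotentRadical F J ≤ D.posUnipotent F := by
  unfold ChevalleyDatum.unipotentRadical ChevalleyDatum.posUnipotent
  apply Subgroup.closure_mono
  rintro g ⟨r, t, h1, _, h3⟩
  exact ⟨r, t, h1, h3⟩

theorem omr_aJ_simple (J : Set ℕ) (i : ℕ) (hi : i < fd.l) :
    fd.omr fx (aJ J) (fd.simples.getD i 0) = aJ J i := by
  unfold FD.omr
  rw [listsum_eq, Finset.sum_eq_single i]
  · rw [C.rcZ_simple i i hi hi, if_pos rfl, mul_one]
  · intro j hj hji
    rw [C.rcZ_simple i j hi (Finset.mem_range.mp hj), if_neg (Ne.symm hji), mul_zero]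
  · intro h; exact absurd (Finset.mem_range.mpr hi) h

/-- a fundamental reflection normalising `U_J` belongs to `J` -/
theorem mem_of_nG_normalizes (J : Set ℕ) (i : ℕ) (hi : i < fd.l)
    (h : C.c6.c2.nG (F := F) (fd.simples.getD i 0) (C.c6.c2.simple_lt i hi) ∈
      Subgroup.normalizer (D.unipotentRadical F J : Set (GL D.Idx F))) : i ∈ J := by
  by_contra hJ
  have hp := C.c6.c2.simple_lt i hi
  have hev := C.c6.c2.heven
  have hΩ : 0 < fd.omr fx (aJ J) (fd.simples.getD i 0) := by
    rw [C.omr_aJ_simple J i hi]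
    unfold aJ
    rw [if_neg hJ]
    exact one_pos
  have h1 := C.xA_mem_radical (F := F) J _ hp hΩ 1
  have h2 := (Subgroup.mem_normalizer_iff.mp h _).mp h1
  rw [C.c6.nG_conj_self _ hp] at h2
  have h3 : C.c6.c2.xA (fd.n - 1 - fd.simples.getD i 0) (-1 : F) ∈ D.borelSubgroup F ⊓ D.negUnipotent F := by
    refine Subgroup.mem_inf.mpr ⟨?_, ?_⟩
    · exact (le_sup_left : D.posUnipotent F ≤ D.borelSubgroup F) (C.radical_le_pos J h2)
    · have := C.c6.simple_pos i hi
      exact C.c6.xA_neg_mem_neg _ (by omega) (by omega) _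
  rw [C.c6.c2.borel_inf_neg, Subgroup.mem_bot] at h3
  have := C.c6.xA_eq_one _ (by omega) (-1 : F) h3
  simp at this

theorem parabolic_le_group (J : Set ℕ) : D.parabolicSubgroup F J ≤ D.group F := by
  unfold ChevalleyDatum.parabolicSubgroup
  apply sup_le C.c6.c2.borel_le_group
  rw [Subgroup.closure_le]
  rintro g ⟨j, _, hj, hg⟩
  have hj' : j < fd.l := by rw [← C.c6.c2.rank_eq]; exact hj
  have hp := C.c6.c2.simple_lt j hj'
  rw [C.c6.c2.agrees.simple_eq] at hg
  rw [SetLike.mem_coe, C.c6.c2.eq_nG g _ hp hg]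
  exact C.c6.c2.monomial_le_group (C.c6.c2.nG_mem_monomial _ hp)

open Cfsg.Agent.Lib.H2.BN in
/-- the normaliser of `U_J` in the Chevalley group is `P_J` -/
theorem normalizer_radical (J : Set ℕ) (hJ : ∀ j ∈ J, j < D.rank) :
    Subgroup.normalizer (D.unipotentRadical F J : Set (GL D.Idx F)) ⊓ D.group F = D.parabolicSubgroup F J := by
  apply le_antisymm
  · rintro g ⟨hgN, hgG⟩
    set Q := Subgroup.normalizer (D.unipotentRadical F J : Set (GL D.Idx F)) ⊓ D.group F with hQ
    have hPQ : D.parabolicSubgroup F J ≤ Q := le_inf (C.parabolic_le_normalizer J) (C.parabolic_le_group J)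
    have hBP : D.borelSubgroup F ≤ D.parabolicSubgroup F J := le_sup_left
    have hBM : (C.c6.bnPair F).B ≤ Q.subgroupOf (D.group F) := by
      intro b hb
      rw [Subgroup.mem_subgroupOf]
      exact hPQ (hBP (Subgroup.mem_subgroupOf.mp hb))
    have key := eq_parabolic_of_le (P := C.c6.bnPair F) (Q.subgroupOf (D.group F)) hBM
    have hg : (⟨g, hgG⟩ : ↥(D.group F)) ∈ Q.subgroupOf (D.group F) := by
      rw [Subgroup.mem_subgroupOf]
      exact ⟨hgN, hgG⟩
    rw [key] at hg
    have hle : (C.c6.bnPair F).parabolic {s | s ∈ (C.c6.bnPair F).S ∧ s ∈ Q.subgroupOf (D.group F)} ≤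
        (D.parabolicSubgroup F J).subgroupOf (D.group F) := by
      unfold Cfsg.BNPair.parabolic
      apply sup_le
      · intro b hb
        rw [Subgroup.mem_subgroupOf]
        exact hBP (Subgroup.mem_subgroupOf.mp hb)
      · rw [Subgroup.closure_le]
        rintro s ⟨hsS, hsQ⟩
        rw [SetLike.mem_coe, Subgroup.mem_subgroupOf]
        obtain ⟨i, hi, hsi⟩ := C.c6.eq_nG_of_SSet (s : GL D.Idx F) hsS
        have hsN : (s : GL D.Idx F) ∈ Subgroup.normalizer (D.unipotentRadical F J : Set (GL D.Idx F)) :=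
          (Subgroup.mem_subgroupOf.mp hsQ).1
        rw [hsi] at hsN ⊢
        have hiJ := C.mem_of_nG_normalizes J i hi hsN
        exact C.c6.c5.c3.nG_simple_mem_parabolic J i hi hiJ
    exact Subgroup.mem_subgroupOf.mp (hle hg)
  · exact le_inf (C.parabolic_le_normalizer J) (C.parabolic_le_group J)

end Cert12

end Cfsg.Agent.Lib.H29.Chev
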