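import Mathlib
import Cfsg.Prelude.Def_ChevStructure
import Cfsg.Agent.Lib.H29.ChevGen50
import Cfsg.Agent.Lib.H29.BtSub

/-!
# Borel–Tits (S2154): real functionals on the root lattice of a Chevalley datum

`fd.omrR fx a r` is the real functional with coefficients `a : Fin fd.l → ℝ` on the fundamental roots, evaluated on
the root `r`; `wR D fd fx a` the induced real weight on the basis `D.Idx` of the adjoint module (zero on the Cartan
part); `fd.sR fx p a` the functional reflected in the root `p`; `fd.QR fx a` the sum of the squares of the values on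
all roots (a positive definite form invariant under the Weyl group).
-/

set_option autoImplicit false

namespace Cfsg.Agent.Lib.H29.Chev

open Cfsg.Lie Matrix Cfsg.Agent.Lib.H29.BT

/-- the real functional with coefficients `a` evaluated on the root `r` -/
noncomputable def FD.omrR (fd : FD) (fx : FX) (a : Fin fd.l → ℝ) (r : ℕ) : ℝ :=
  ∑ j : Fin fd.l, a j * ((fd.rcZ fx r j.val : ℤ) : ℝ)

/-- the real functional with coefficients `a` evaluated on the weight of the coded index `c` -/
noncomputable def FD.omR (fd : FD) (fx : FX) (a : Fin fd.l → ℝ) (c : ℕ) : ℝ :=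
  ∑ j : Fin fd.l, a j * ((fd.coordZ fx c j.val : ℤ) : ℝ)

/-- the real weight on the basis of the adjoint module -/
noncomputable def wR (D : ChevalleyDatum) (fd : FD) (fx : FX) (a : Fin fd.l → ℝ) : D.Idx → ℝ :=
  fun i => fd.omR fx a (code D i)

/-- the functional `a` reflected in the root `p` -/
noncomputable def FD.sR (fd : FD) (fx : FX) (p : ℕ) (a : Fin fd.l → ℝ) : Fin fd.l → ℝ :=
  fun j => a j - fd.omrR fx a p * ((fd.prs p j.val : ℤ) : ℝ)

/-- the sum of the squares of the values on all roots -/
noncomputable def FD.QR (fd : FD) (fx : FX) (a : Fin fd.l → ℝ) : ℝ :=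
  ∑ s ∈ Finset.range fd.n, (fd.omrR fx a s) ^ 2

/-- an integral functional seen as a real one -/
def FD.castF (fd : FD) (a : ℕ → ℤ) : Fin fd.l → ℝ := fun j => ((a j.val : ℤ) : ℝ)

/-- `n` carries the grading of `a` to the grading of `a'`, and `n⁻¹` carries it back -/
def TrG (D : ChevalleyDatum) (fd : FD) (fx : FX) {F : Type*} [Field F] (n : GL D.Idx F) (a a' : Fin fd.l → ℝ) :
    Prop :=
  (n : Matrix D.Idx D.Idx F) ∈ TrW (wR D fd fx a) (wR D fd fx a') ∧
    ((n⁻¹ : GL D.Idx F) : Matrix D.Idx D.Idx F) ∈ TrW (wR D fd fx a') (wR D fd fx a)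

/-- `n` permutes the root subgroups by `π` and transports every real functional accordingly -/
def Cert2.RelN {D : ChevalleyDatum} {fd : FD} {fx : FX} (C : Cert2 D fd fx) {F : Type*} [Field F]
    (n : GL D.Idx F) : Prop :=
  ∃ π : ℕ → ℕ, C.Perm n π ∧ ∀ a : Fin fd.l → ℝ, ∃ a' : Fin fd.l → ℝ, TrG D fd fx n a a' ∧
    (∀ s < fd.n, fd.omrR fx a' (π s) = fd.omrR fx a s) ∧ fd.QR fx a' = fd.QR fx a

/-- dominant functionals -/
def FD.Dom (fd : FD) (a : Fin fd.l → ℝ) : Prop := ∀ j, 0 ≤ a j

/-- the set of the fundamental roots on which the functional vanishes -/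
def FD.zeroSet (fd : FD) (a : Fin fd.l → ℝ) : Set ℕ := {j | ∃ h : j < fd.l, a ⟨j, h⟩ = 0}

end Cfsg.Agent.Lib.H29.Chev
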