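import Mathlib
import Cfsg.Prelude.Def_ChevStructure
import Cfsg.Agent.Lib.H29.ChevGen39

/-!
# The distinguished coset representatives: what the checks say, and the factorisation of the elements of `W_{k+1}`
-/

set_option autoImplicit false
set_option linter.unusedSectionVars false
set_option linter.unusedSimpArgs false
set_option linter.unusedVariables false

namespace Cfsg.Agent.Lib.H29.Chev

open Cfsg.Lie Matrix

variable {D : ChevalleyDatum} {fd : FD} {fx : FX} {fc : FC} {fz : FZ} {fp : FP} {k : ℕ}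

theorem FD.inJb_iff (k s : ℕ) : fd.inJb fx k s = true ↔ fd.InJ fx k s := by
  unfold FD.inJb FD.InJ
  simp only [List.all_eq_true, List.mem_range, Bool.or_eq_true, natBlt_iff, intBeq_iff]
  constructor
  · intro h j hkj hjl
    rcases h j hjl with h | h
    · omega
    · exact h
  · intro h j hjl
    by_cases hjk : j < k
    · exact Or.inl hjk
    · exact Or.inr (h j (by omega) hjl)

theorem FD.par_spec (hW : fd.ChkW fx fp k) (a : ℕ) (ha : a < fp.dk) :
    (a = 0 ∧ ∀ s < fd.n, fd.dT fp 0 s = s) ∨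
    (a ≠ 0 ∧ ∃ i a', i < k + 1 ∧ a' < a ∧ ∀ s < fd.n, fd.dT fp a s = fd.sw fx i (fd.dT fp a' s)) := by
  have h := hW a ha
  simp only [FD.chkWA, Bool.and_eq_true] at h
  obtain ⟨⟨⟨⟨h1, _⟩, _⟩, _⟩, _⟩ := h
  by_cases ha0 : a = 0
  · subst ha0
    have e : Nat.beq 0 0 = true := rfl
    rw [FD.chkPar, e, cond_true] at h1
    simp only [List.all_eq_true, List.mem_range, natBeq_iff] at h1
    exact Or.inl ⟨rfl, h1⟩
  · have e : Nat.beq a 0 = false := by rw [← Bool.not_eq_true, natBeq_iff]; exact ha0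
    rw [FD.chkPar, e, cond_false] at h1
    simp only [Bool.and_eq_true, natBlt_iff, List.all_eq_true, List.mem_range, natBeq_iff] at h1
    exact Or.inr ⟨ha0, _, _, h1.1.1, h1.1.2, h1.2⟩

theorem FD.pos_spec (hW : fd.ChkW fx fp k) (a : ℕ) (ha : a < fp.dk) (s : ℕ) (hs : s < fd.n)
    (hpos : fd.n / 2 ≤ s) (hJ : fd.InJ fx k s) : fd.n / 2 ≤ fd.dT fp a s := by
  have h := hW a ha
  simp only [FD.chkWA, Bool.and_eq_true] at h
  obtain ⟨⟨⟨⟨_, h2⟩, _⟩, _⟩, _⟩ := h
  simp only [FD.chkPos, List.all_eq_true, List.mem_range, Bool.or_eq_true, natBlt_iff, Bool.not_eq_true',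
    ← Bool.not_eq_true, FD.inJb_iff] at h2
  rcases h2 s hs with (h3 | h3) | h3
  · omega
  · exact absurd hJ h3
  · omega

theorem FD.nxt_spec (hW : fd.ChkW fx fp k) (a : ℕ) (ha : a < fp.dk) (i : ℕ) (hi : i < k + 1) :
    (∃ j < k, ∀ s < fd.n, fd.sw fx i (fd.dT fp a s) = fd.dT fp a (fd.sw fx j s)) ∨
    (∃ a' < fp.dk, ∀ s < fd.n, fd.sw fx i (fd.dT fp a s) = fd.dT fp a' s) := by
  have h := hW a ha
  simp only [FD.chkWA, Bool.and_eq_true] at h
  obtain ⟨⟨⟨⟨_, _⟩, h3⟩, _⟩, _⟩ := h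
  simp only [FD.chkNxt, List.all_eq_true, List.mem_range] at h3
  have h4 := h3 i hi
  by_cases hf : Nat.beq ((fp.nxt >>> (16 * (a * (k + 1) + i) + 8)) &&& 1) 1 = true
  · rw [hf, cond_true] at h4
    simp only [Bool.and_eq_true, natBlt_iff, List.all_eq_true, List.mem_range, natBeq_iff] at h4
    exact Or.inl ⟨_, h4.1, h4.2⟩
  · rw [Bool.not_eq_true] at hf
    rw [hf, cond_false] at h4
    simp only [Bool.and_eq_true, natBlt_iff, List.all_eq_true, List.mem_range, natBeq_iff] at h4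
    exact Or.inr ⟨_, h4.1, h4.2⟩

theorem FD.len_spec (hW : fd.ChkW fx fp k) (a : ℕ) (ha : a < fp.dk) : fd.invT fp a = FD.lenT fp a := by
  have h := hW a ha
  simp only [FD.chkWA, Bool.and_eq_true] at h
  obtain ⟨⟨⟨⟨_, _⟩, _⟩, h4⟩, _⟩ := h
  simpa only [FD.chkLen, natBeq_iff] using h4

theorem FD.dist_spec (hW : fd.ChkW fx fp k) (a : ℕ) (ha : a < fp.dk) (a' : ℕ) (ha' : a' < a) :
    ∃ s < fd.n, fd.dT fp a s ≠ fd.dT fp a' s := by
  have h := hW a ha
  simp only [FD.chkWA, Bool.and_eq_true] at h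
  obtain ⟨⟨⟨⟨_, _⟩, _⟩, _⟩, h5⟩ := h
  simp only [FD.chkDist, List.all_eq_true, List.mem_range, List.any_eq_true, Bool.not_eq_true',
    ← Bool.not_eq_true, natBeq_iff] at h5
  exact h5 a' ha'

namespace Cert12

variable (C : Cert12 D fd fx fc fz)
include C

/-- the elements of the table are words -/
theorem dT_word (hW : fd.ChkW fx fp k) (a : ℕ) (ha : a < fp.dk) :
    ∃ w, IsWd (k + 1) w ∧ ∀ s < fd.n, fd.dT fp a s = fd.wordP fx w s := by
  induction a using Nat.strong_induction_on with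
  | _ a ih =>
    rcases fd.par_spec hW a ha with ⟨rfl, h⟩ | ⟨_, i, a', hi, ha', h⟩
    · exact ⟨[], fun j hj => by simp at hj, h⟩
    · obtain ⟨w, hw, hw'⟩ := ih a' ha' (by omega)
      refine ⟨i :: w, hw.cons hi, fun s hs => ?_⟩
      rw [h s hs, hw' s hs]
      rfl

theorem inJ_neg (s : ℕ) (hs : s < fd.n) (h : fd.InJ fx k s) : fd.InJ fx k (fd.n - 1 - s) := by
  intro j hkj hjl
  rw [C.rcZ_neg s j hs hjl, h j hkj hjl, neg_zero]

theorem inJ_simple (i : ℕ) (hi : i < k) (hk : k ≤ fd.l) : fd.InJ fx k (fd.simples.getD i 0) := by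
  intro j hkj hjl
  rw [C.rcZ_simple i j (by omega) hjl, if_neg (by omega)]

theorem not_inJ_simple (i : ℕ) (hi : k ≤ i) (hil : i < fd.l) : ¬ fd.InJ fx k (fd.simples.getD i 0) := by
  intro h
  have := h i hi hil
  rw [C.rcZ_simple i i hil hil, if_pos rfl] at this
  exact one_ne_zero this

theorem wordP_inJ (hk : k ≤ fd.l) (v : List ℕ) (hv : IsWd k v) (s : ℕ) (hs : s < fd.n) :
    fd.InJ fx k (fd.wordP fx v s) ↔ fd.InJ fx k s := by
  induction v with
  | nil => rfl
  | cons i v ih =>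
    obtain ⟨hi, hv'⟩ := hv.of_cons
    rw [← ih hv']
    have hlt := C.wordP_lt v (hv'.mono hk) s hs
    simp only [FD.wordP]
    constructor
    · intro h j hkj hjl
      rw [← C.sw_rc i _ j (by omega) hlt hjl (by omega)]
      exact h j hkj hjl
    · intro h j hkj hjl
      rw [C.sw_rc i _ j (by omega) hlt hjl (by omega)]
      exact h j hkj hjl

theorem wordP_omega (hk : k ≤ fd.l) (v : List ℕ) (hv : IsWd k v) (s : ℕ) (hs : s < fd.n)
    (hpos : fd.n / 2 ≤ s) (hJ : ¬ fd.InJ fx k s) : fd.n / 2 ≤ fd.wordP fx v s := by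
  induction v with
  | nil => exact hpos
  | cons i v ih =>
    obtain ⟨hi, hv'⟩ := hv.of_cons
    have hlt := C.wordP_lt v (hv'.mono hk) s hs
    simp only [FD.wordP]
    apply C.sw_pos i _ (by omega) hlt (ih hv')
    intro he
    apply hJ
    rw [← C.wordP_inJ hk v hv' s hs, he]
    exact C.inJ_simple i hi hk

theorem dT_lt (hk : k < fd.l) (hW : fd.ChkW fx fp k) (a : ℕ) (ha : a < fp.dk) (s : ℕ) (hs : s < fd.n) :
    fd.dT fp a s < fd.n := by
  obtain ⟨w, hw, hw'⟩ := C.dT_word hW a ha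
  rw [hw' s hs]
  exact C.wordP_lt w (hw.mono (by omega)) s hs

theorem dT_neg (hk : k < fd.l) (hW : fd.ChkW fx fp k) (a : ℕ) (ha : a < fp.dk) (s : ℕ) (hs : s < fd.n) :
    fd.dT fp a (fd.n - 1 - s) = fd.n - 1 - fd.dT fp a s := by
  obtain ⟨w, hw, hw'⟩ := C.dT_word hW a ha
  rw [hw' s hs, hw' _ (by omega)]
  exact C.wordP_neg w (hw.mono (by omega)) s hs

/-- on the roots in the span of the first `k` fundamental roots, the elements of the table preserve the sign -/
theorem dT_sign (hk : k < fd.l) (hW : fd.ChkW fx fp k) (a : ℕ) (ha : a < fp.dk) (s : ℕ) (hs : s < fd.n)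
    (hJ : fd.InJ fx k s) : fd.dT fp a s < fd.n / 2 ↔ s < fd.n / 2 := by
  have hev := C.c6.c2.heven
  constructor
  · intro h
    by_contra hpos
    have := fd.pos_spec hW a ha s hs (by omega) hJ
    omega
  · intro h
    have h1 := fd.pos_spec hW a ha (fd.n - 1 - s) (by omega) (by omega) (C.inJ_neg s hs hJ)
    rw [C.dT_neg hk hW a ha s hs] at h1
    have := C.dT_lt hk hW a ha s hs
    omega

/-- every word in the first `k + 1` reflections is an element of the table times a word in the first `k` -/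
theorem word_factor (hk : k < fd.l) (hW : fd.ChkW fx fp k) (hdk : 0 < fp.dk) (w : List ℕ) (hw : IsWd (k + 1) w) :
    ∃ a < fp.dk, ∃ v, IsWd k v ∧ ∀ s < fd.n, fd.wordP fx w s = fd.dT fp a (fd.wordP fx v s) := by
  induction w with
  | nil =>
    rcases fd.par_spec hW 0 hdk with ⟨_, h⟩ | ⟨h, _⟩
    · exact ⟨0, hdk, [], fun j hj => by simp at hj, fun s hs => (h s hs).symm⟩
    · exact absurd rfl h
  | cons i w ih =>
    obtain ⟨hi, hw'⟩ := hw.of_cons
    obtain ⟨a, ha, v, hv, h⟩ := ih hw'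
    rcases fd.nxt_spec hW a ha i hi with ⟨j, hj, h2⟩ | ⟨a', ha', h2⟩
    · refine ⟨a, ha, j :: v, hv.cons hj, fun s hs => ?_⟩
      simp only [FD.wordP]
      rw [h s hs, h2 _ (C.wordP_lt v (hv.mono (by omega)) s hs)]
    · refine ⟨a', ha', v, hv, fun s hs => ?_⟩
      simp only [FD.wordP]
      rw [h s hs, h2 _ (C.wordP_lt v (hv.mono (by omega)) s hs)]

/-- the factorisation is unique -/
theorem factor_unique (F : Type*) [Field F] (hk : k < fd.l) (hW : fd.ChkW fx fp k) (a a' : ℕ) (ha : a < fp.dk)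
    (ha' : a' < fp.dk) (v v' : List ℕ) (hv : IsWd k v) (hv' : IsWd k v')
    (h : ∀ s < fd.n, fd.dT fp a (fd.wordP fx v s) = fd.dT fp a' (fd.wordP fx v' s)) :
    a = a' ∧ ∀ s < fd.n, fd.wordP fx v s = fd.wordP fx v' s := by
  have hkl : k ≤ fd.l := by omega
  have hvl := hv.mono hkl
  have hvl' := hv'.mono hkl
  have hx : IsWd k (v ++ v'.reverse) := hv.append hv'.reverse
  have hxl := hx.mono hkl
  have star : ∀ s < fd.n, fd.dT fp a (fd.wordP fx (v ++ v'.reverse) s) = fd.dT fp a' s := by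
    intro s hs
    rw [fd.wordP_append, h _ (C.wordP_lt _ hvl'.reverse s hs), C.wordP_rev' v' hvl' s hs]
  have hid := C.word_id F (v ++ v'.reverse) hxl (by
    intro i hi
    have hp := C.c6.c2.simple_lt i hi
    have hpp := C.c6.simple_pos i hi
    by_cases hik : i < k
    · by_contra hneg
      have hJ := (C.wordP_inJ hkl _ hx _ hp).mpr (C.inJ_simple i hik hkl)
      have h1 := (C.dT_sign hk hW a ha _ (C.wordP_lt _ hxl _ hp) hJ).mpr (by omega)
      rw [star _ hp] at h1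
      have h2 := fd.pos_spec hW a' ha' _ hp hpp (C.inJ_simple i hik hkl)
      omega
    · exact C.wordP_omega hkl _ hx _ hp hpp (C.not_inJ_simple i (by omega) hi))
  have heq : ∀ s < fd.n, fd.dT fp a s = fd.dT fp a' s := by
    intro s hs
    rw [← star s hs, hid s hs]
  constructor
  · rcases Nat.lt_trichotomy a a' with h1 | h1 | h1
    · obtain ⟨s, hs, hne⟩ := fd.dist_spec hW a' ha' a h1
      exact absurd (heq s hs).symm hne
    · exact h1
    · obtain ⟨s, hs, hne⟩ := fd.dist_spec hW a ha a' h1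
      exact absurd (heq s hs) hne
  · intro s hs
    have h1 := hid _ (C.wordP_lt _ hvl' s hs)
    rw [fd.wordP_append, C.wordP_rev v' hvl' s hs] at h1
    exact h1

end Cert12

end Cfsg.Agent.Lib.H29.Chev
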