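import Mathlib
import Cfsg.Prelude.Def_ChevStructure
import Cfsg.Agent.Lib.H29.ChevGen40

/-!
# The number of positive roots made negative is additive on the factorisation; the Poincaré sums
-/

set_option autoImplicit false
set_option linter.unusedSectionVars false
set_option linter.unusedSimpArgs false
set_option linter.unusedVariables false
set_option linter.unusedDecidableInType false

namespace Cfsg.Agent.Lib.H29.Chev

open Cfsg.Lie Matrix

variable {D : ChevalleyDatum} {fd : FD} {fx : FX} {fc : FC} {fz : FZ} {fp : FP} {k : ℕ}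

/-- the number of positive roots made negative by `π` -/
def FD.invC (fd : FD) (π : ℕ → ℕ) : ℕ := ((Finset.Ico (fd.n / 2) fd.n).filter fun r => π r < fd.n / 2).card

theorem FD.invC_congr (π π' : ℕ → ℕ) (h : ∀ r < fd.n, π r = π' r) : fd.invC π = fd.invC π' := by
  unfold FD.invC
  congr 1
  apply Finset.filter_congr
  intro r hr
  rw [h r (Finset.mem_Ico.mp hr).2]

theorem invN_eq (σ : Fin fd.n → Fin fd.n) : invN fd σ = fd.invC (extF fd σ) := by
  unfold invN FD.invC
  apply Nat.subtype_card
  intro x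
  simp only [Finset.mem_filter, Finset.mem_Ico]
  tauto

theorem FD.invT_eq (a : ℕ) : fd.invT fp a = fd.invC (fd.dT fp a) := by
  unfold FD.invT FD.invC
  have e : (Finset.Ico (fd.n / 2) fd.n).filter (fun r => fd.dT fp a r < fd.n / 2) =
      ((List.range fd.n).filter fun s => !(Nat.blt s (fd.n / 2)) && Nat.blt (fd.dT fp a s) (fd.n / 2)).toFinset := by
    ext r
    simp only [Finset.mem_filter, Finset.mem_Ico, List.mem_toFinset, List.mem_filter, List.mem_range,
      Bool.and_eq_true, Bool.not_eq_true', ← Bool.not_eq_true, natBlt_iff]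
    omega
  rw [e, List.toFinset_card_of_nodup]
  exact List.Nodup.filter _ List.nodup_range

namespace Cert12

variable (C : Cert12 D fd fx fc fz)
include C

open Classical in
/-- the number of positive roots made negative is additive on the factorisation -/
theorem invC_comp (hk : k < fd.l) (hW : fd.ChkW fx fp k) (a : ℕ) (ha : a < fp.dk) (v : List ℕ) (hv : IsWd k v) :
    fd.invC (fun s => fd.dT fp a (fd.wordP fx v s)) = fd.invC (fd.dT fp a) + fd.invC (fd.wordP fx v) := by
  have hkl : k ≤ fd.l := by omega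
  have hvl := hv.mono hkl
  have split : ∀ π : ℕ → ℕ, fd.invC π =
      (((Finset.Ico (fd.n / 2) fd.n).filter fun r => π r < fd.n / 2).filter fun r => fd.InJ fx k r).card +
      (((Finset.Ico (fd.n / 2) fd.n).filter fun r => π r < fd.n / 2).filter fun r => ¬ fd.InJ fx k r).card := by
    intro π
    unfold FD.invC
    rw [Finset.card_filter_add_card_filter_not]
  have e1 : (((Finset.Ico (fd.n / 2) fd.n).filter fun r => fd.wordP fx v r < fd.n / 2).filter
      fun r => ¬ fd.InJ fx k r) = ∅ := by
    rw [Finset.eq_empty_iff_forall_notMem]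
    intro r hr
    simp only [Finset.mem_filter, Finset.mem_Ico] at hr
    have := C.wordP_omega hkl v hv r hr.1.1.2 hr.1.1.1 hr.2
    omega
  have e2 : (((Finset.Ico (fd.n / 2) fd.n).filter fun r => fd.dT fp a r < fd.n / 2).filter
      fun r => fd.InJ fx k r) = ∅ := by
    rw [Finset.eq_empty_iff_forall_notMem]
    intro r hr
    simp only [Finset.mem_filter, Finset.mem_Ico] at hr
    have := fd.pos_spec hW a ha r hr.1.1.2 hr.1.1.1 hr.2
    omega
  have e3 : (((Finset.Ico (fd.n / 2) fd.n).filter fun r => fd.dT fp a (fd.wordP fx v r) < fd.n / 2).filter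
      fun r => fd.InJ fx k r) =
      (((Finset.Ico (fd.n / 2) fd.n).filter fun r => fd.wordP fx v r < fd.n / 2).filter
      fun r => fd.InJ fx k r) := by
    ext r
    simp only [Finset.mem_filter, Finset.mem_Ico]
    constructor
    · rintro ⟨⟨h1, h2⟩, h3⟩
      refine ⟨⟨h1, ?_⟩, h3⟩
      exact (C.dT_sign hk hW a ha _ (C.wordP_lt v hvl r h1.2) ((C.wordP_inJ hkl v hv r h1.2).mpr h3)).mp h2
    · rintro ⟨⟨h1, h2⟩, h3⟩
      refine ⟨⟨h1, ?_⟩, h3⟩
      exact (C.dT_sign hk hW a ha _ (C.wordP_lt v hvl r h1.2) ((C.wordP_inJ hkl v hv r h1.2).mpr h3)).mpr h2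
  have e4 : (((Finset.Ico (fd.n / 2) fd.n).filter fun r => fd.dT fp a (fd.wordP fx v r) < fd.n / 2).filter
      fun r => ¬ fd.InJ fx k r).card =
      (((Finset.Ico (fd.n / 2) fd.n).filter fun r => fd.dT fp a r < fd.n / 2).filter
      fun r => ¬ fd.InJ fx k r).card := by
    apply Finset.card_nbij' (fd.wordP fx v) (fd.wordP fx v.reverse)
    · intro r hr
      rw [Finset.mem_coe] at hr ⊢
      simp only [Finset.mem_filter, Finset.mem_Ico] at hr ⊢
      obtain ⟨⟨h1, h2⟩, h3⟩ := hr
      refine ⟨⟨⟨C.wordP_omega hkl v hv r h1.2 h1.1 h3, C.wordP_lt v hvl r h1.2⟩, h2⟩, ?_⟩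
      rw [C.wordP_inJ hkl v hv r h1.2]
      exact h3
    · intro r hr
      rw [Finset.mem_coe] at hr ⊢
      simp only [Finset.mem_filter, Finset.mem_Ico] at hr ⊢
      obtain ⟨⟨h1, h2⟩, h3⟩ := hr
      refine ⟨⟨⟨C.wordP_omega hkl _ hv.reverse r h1.2 h1.1 h3, C.wordP_lt _ hvl.reverse r h1.2⟩, ?_⟩, ?_⟩
      · rw [C.wordP_rev' v hvl r h1.2]
        exact h2
      · rw [C.wordP_inJ hkl _ hv.reverse r h1.2]
        exact h3
    · intro r hr
      rw [Finset.mem_coe] at hr
      simp only [Finset.mem_filter, Finset.mem_Ico] at hr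
      exact C.wordP_rev v hvl r hr.1.1.2
    · intro r hr
      rw [Finset.mem_coe] at hr
      simp only [Finset.mem_filter, Finset.mem_Ico] at hr
      exact C.wordP_rev' v hvl r hr.1.1.2
  rw [split (fun s => fd.dT fp a (fd.wordP fx v s)), split (fd.dT fp a), split (fd.wordP fx v), e1, e2, e3, e4]
  simp only [Finset.card_empty]
  omega

end Cert12

end Cfsg.Agent.Lib.H29.Chev
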