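import Mathlib
import Cfsg.Prelude.Def_ChevStructure
import Cfsg.Agent.Lib.H29.ChevGen41

/-!
# The Poincaré sum of `W_{k+1}` in terms of that of `W_k`
-/

set_option autoImplicit false
set_option linter.unusedSectionVars false
set_option linter.unusedSimpArgs false
set_option linter.unusedVariables false

namespace Cfsg.Agent.Lib.H29.Chev

open Cfsg.Lie Matrix

variable {D : ChevalleyDatum} {fd : FD} {fx : FX} {fc : FC} {fz : FZ} {fp : FP} {k : ℕ}

/-- the Poincaré sum of `W_k` -/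
noncomputable def FD.poin (fd : FD) (fx : FX) (k q : ℕ) : ℕ := ∑ᶠ σ : Wk fd fx k, q ^ invN fd σ.val

namespace Cert12

variable (C : Cert12 D fd fx fc fz)
include C

/-- the product of an element of the table and an element of `W_k` -/
noncomputable def pmap (hk : k < fd.l) (hW : fd.ChkW fx fp k) (x : Fin fp.dk × Wk fd fx k) : Wk fd fx (k + 1) :=
  ⟨fun s => ⟨fd.dT fp x.1.val (x.2.val s).val, C.dT_lt hk hW _ x.1.isLt _ (x.2.val s).isLt⟩, by
    obtain ⟨v, hv, hv'⟩ := x.2.property
    obtain ⟨w, hw, hw'⟩ := C.dT_word hW x.1.val x.1.isLt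
    refine ⟨w ++ v, hw.append (hv.mono (by omega)), fun s => ?_⟩
    simp only
    rw [fd.wordP_append, ← hv' s, hw' _ (x.2.val s).isLt]⟩

theorem pmap_bijective (F : Type*) [Field F] (hk : k < fd.l) (hW : fd.ChkW fx fp k) (hdk : 0 < fp.dk) :
    Function.Bijective (C.pmap hk hW) := by
  constructor
  · rintro ⟨a, σ, v, hv, hv'⟩ ⟨a', σ', v', hv2, hv2'⟩ h
    have h1 : ∀ s : Fin fd.n, fd.dT fp a.val (σ s).val = fd.dT fp a'.val (σ' s).val := by
      intro s
      have := congrArg (fun f : Wk fd fx (k + 1) => (f.val s).val) h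
      simpa [pmap] using this
    obtain ⟨e1, e2⟩ := C.factor_unique F hk hW a.val a'.val a.isLt a'.isLt v v' hv hv2 (by
      intro s hs
      have := h1 ⟨s, hs⟩
      rw [hv' ⟨s, hs⟩, hv2' ⟨s, hs⟩] at this
      exact this)
    have ea : a = a' := Fin.ext e1
    have eσ : σ = σ' := by
      funext s
      apply Fin.ext
      rw [hv' s, hv2' s]
      exact e2 s.val s.isLt
    subst ea
    subst eσ
    rfl
  · rintro ⟨τ, w, hw, hw'⟩
    obtain ⟨a, ha, v, hv, h⟩ := C.word_factor hk hW hdk w hw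
    have hvl : IsWd fd.l v := hv.mono (by omega)
    refine ⟨⟨⟨a, ha⟩, ⟨fun s => ⟨fd.wordP fx v s.val, C.wordP_lt v hvl _ s.isLt⟩, v, hv, fun s => rfl⟩⟩, ?_⟩
    apply Subtype.ext
    funext s
    apply Fin.ext
    simp only [pmap]
    rw [hw' s, h s.val s.isLt]

theorem invN_pmap (hk : k < fd.l) (hW : fd.ChkW fx fp k) (x : Fin fp.dk × Wk fd fx k) :
    invN fd (C.pmap hk hW x).val = FD.lenT fp x.1.val + invN fd x.2.val := by
  obtain ⟨v, hv, hv'⟩ := x.2.property
  rw [invN_eq, invN_eq, ← fd.len_spec hW _ x.1.isLt, fd.invT_eq]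
  have e1 : fd.invC (extF fd (C.pmap hk hW x).val) = fd.invC (fun s => fd.dT fp x.1.val (fd.wordP fx v s)) := by
    apply fd.invC_congr
    intro r hr
    rw [extF_lt _ _ hr]
    simp only [pmap]
    rw [hv' ⟨r, hr⟩]
  have e2 : fd.invC (extF fd x.2.val) = fd.invC (fd.wordP fx v) := by
    apply fd.invC_congr
    intro r hr
    rw [extF_lt _ _ hr, hv' ⟨r, hr⟩]
  rw [e1, e2]
  exact C.invC_comp hk hW _ x.1.isLt v hv

/-- the Poincaré sum of `W_{k+1}` -/
theorem poin_succ (F : Type*) [Field F] (hk : k < fd.l) (hW : fd.ChkW fx fp k) (hdk : 0 < fp.dk) (q : ℕ) :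
    fd.poin fx (k + 1) q = (∑ a ∈ Finset.range fp.dk, q ^ FD.lenT fp a) * fd.poin fx k q := by
  classical
  have i1 : Fintype (Wk fd fx (k + 1)) := Fintype.ofFinite _
  have i2 : Fintype (Wk fd fx k) := Fintype.ofFinite _
  unfold FD.poin
  rw [finsum_eq_sum_of_fintype, finsum_eq_sum_of_fintype,
    ← Fin.sum_univ_eq_sum_range (fun a => q ^ FD.lenT fp a) fp.dk, Finset.sum_mul_sum,
    ← Fintype.sum_prod_type']
  symm
  apply Fintype.sum_bijective (C.pmap hk hW) (C.pmap_bijective F hk hW hdk)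
  intro x
  rw [C.invN_pmap hk hW x, pow_add]

omit C in
theorem poin_zero (q : ℕ) : fd.poin fx 0 q = 1 := by
  have hmem : ∀ σ : Wk fd fx 0, σ.val = fun s => s := by
    rintro ⟨σ, w, hw, hw'⟩
    have : w = [] := by
      rcases w with _ | ⟨i, w⟩
      · rfl
      · exact absurd (hw i (by simp)) (by omega)
    subst this
    funext s
    exact Fin.ext (hw' s)
  have hne : (fun s => s) ∈ Wk fd fx 0 := ⟨[], fun i hi => by simp at hi, fun s => rfl⟩
  have : Unique (Wk fd fx 0) :=
    { default := ⟨_, hne⟩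
      uniq := fun σ => Subtype.ext (hmem σ) }
  unfold FD.poin
  rw [finsum_unique]
  have : invN fd (default : Wk fd fx 0).val = 0 := by
    rw [invN_eq]
    unfold FD.invC
    rw [Finset.card_eq_zero, Finset.filter_eq_empty_iff]
    intro r hr
    rw [Finset.mem_Ico] at hr
    rw [extF_lt _ _ hr.2, hmem]
    simp only
    omega
  rw [this, pow_zero]

end Cert12

end Cfsg.Agent.Lib.H29.Chev
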