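import Mathlib

/-!
# Polynomials with natural coefficients as lists, for the Poincaré polynomials of the Weyl groups
-/

set_option autoImplicit false

namespace Cfsg.Agent.Lib.H29.Chev

/-- the value at `q` of the polynomial with the coefficients `c` (lowest first) -/
def evalN : List ℕ → ℕ → ℕ
  | [], _ => 0
  | a :: c, q => a + q * evalN c q

/-- adding `1` to the coefficient of `x^e` -/
def bumpN : ℕ → List ℕ → List ℕ
  | 0, [] => [1]
  | 0, a :: c => (a + 1) :: c
  | e + 1, [] => 0 :: bumpN e []
  | e + 1, a :: c => a :: bumpN e c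

theorem evalN_bumpN (e : ℕ) (c : List ℕ) (q : ℕ) : evalN (bumpN e c) q = evalN c q + q ^ e := by
  induction e generalizing c with
  | zero =>
    cases c with
    | nil => simp [bumpN, evalN]
    | cons a c => simp [bumpN, evalN]; ring
  | succ e ih =>
    cases c with
    | nil =>
      simp only [bumpN, evalN, ih]
      ring
    | cons a c =>
      simp only [bumpN, evalN, ih]
      ring

/-- the polynomial `∑_{a < m} x^{f a}` -/
def histoN (f : ℕ → ℕ) : ℕ → List ℕ
  | 0 => []
  | m + 1 => bumpN (f m) (histoN f m)

theorem evalN_histoN (f : ℕ → ℕ) (m q : ℕ) : evalN (histoN f m) q = ∑ a ∈ Finset.range m, q ^ f a := by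
  induction m with
  | zero => simp [histoN, evalN]
  | succ m ih => rw [histoN, evalN_bumpN, ih, Finset.sum_range_succ]

/-- the sum of two polynomials -/
def addN : List ℕ → List ℕ → List ℕ
  | [], b => b
  | a, [] => a
  | a :: as, b :: bs => (a + b) :: addN as bs

theorem evalN_addN (a b : List ℕ) (q : ℕ) : evalN (addN a b) q = evalN a q + evalN b q := by
  induction a generalizing b with
  | nil => simp [addN, evalN]
  | cons x a ih =>
    cases b with
    | nil => simp [addN, evalN]
    | cons y b =>
      simp only [addN, evalN, ih]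
      ring

/-- the product of two polynomials -/
def mulN : List ℕ → List ℕ → List ℕ
  | [], _ => []
  | a :: as, b => addN (b.map (a * ·)) (0 :: mulN as b)

theorem evalN_map_mul (a : ℕ) (b : List ℕ) (q : ℕ) : evalN (b.map (a * ·)) q = a * evalN b q := by
  induction b with
  | nil => simp [evalN]
  | cons y b ih =>
    simp only [List.map_cons, evalN, ih]
    ring

theorem evalN_mulN (a b : List ℕ) (q : ℕ) : evalN (mulN a b) q = evalN a q * evalN b q := by
  induction a with
  | nil => simp [mulN, evalN]
  | cons x a ih =>
    simp only [mulN, evalN_addN, evalN_map_mul, evalN, ih]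
    ring

/-- `1 + x + ⋯ + x^{d-1}` -/
def onesN (d : ℕ) : List ℕ := List.replicate d 1

theorem evalN_onesN (d q : ℕ) : evalN (onesN d) q = ∑ i ∈ Finset.range d, q ^ i := by
  induction d with
  | zero => simp [onesN, evalN]
  | succ d ih =>
    rw [onesN, List.replicate_succ, evalN, ← onesN, ih, Finset.sum_range_succ', Finset.mul_sum]
    simp only [pow_succ, pow_zero]
    rw [add_comm]
    congr 1
    apply Finset.sum_congr rfl
    intro i _
    ring

theorem sub_one_mul_geom (d q : ℕ) (hq : 1 ≤ q) : (q - 1) * ∑ i ∈ Finset.range d, q ^ i = q ^ d - 1 := by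
  have h : (q - 1) * ∑ i ∈ Finset.range d, q ^ i + 1 = q ^ d := by
    induction d with
    | zero => simp
    | succ d ih =>
      rw [Finset.sum_range_succ, mul_add, add_right_comm, ih, pow_succ]
      obtain ⟨m, rfl⟩ : ∃ m, q = m + 1 := ⟨q - 1, by omega⟩
      simp only [Nat.add_sub_cancel]
      ring
  omega

end Cfsg.Agent.Lib.H29.Chev
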