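import Mathlib
import Cfsg.Prelude.Def_ChevStructure
import Cfsg.Agent.Lib.H29.ChevGen42
import Cfsg.Agent.Lib.H29.ChevPoly

/-!
# The Poincaré sum of the Weyl group as a product
-/

set_option autoImplicit false
set_option linter.unusedSectionVars false
set_option linter.unusedSimpArgs false
set_option linter.unusedVariables false

namespace Cfsg.Agent.Lib.H29.Chev

open Cfsg.Lie Matrix

variable {D : ChevalleyDatum} {fd : FD} {fx : FX} {fc : FC} {fz : FZ}

/-- the product of the polynomials of the first `m` tables -/
def polyW (fps : ℕ → FP) : ℕ → List ℕ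
  | 0 => [1]
  | m + 1 => mulN (histoN (FD.lenT (fps m)) (fps m).dk) (polyW fps m)

/-- the product of the polynomials `1 + x + ⋯ + x^{d-1}` -/
def polyD : List ℕ → List ℕ
  | [] => [1]
  | d :: ds => mulN (onesN d) (polyD ds)

theorem evalN_polyD (ds : List ℕ) (q : ℕ) :
    evalN (polyD ds) q = (ds.map fun d => ∑ i ∈ Finset.range d, q ^ i).prod := by
  induction ds with
  | nil => simp [polyD, evalN]
  | cons d ds ih => rw [polyD, evalN_mulN, evalN_onesN, ih, List.map_cons, List.prod_cons]

theorem sub_one_pow_mul_prod (ds : List ℕ) (q : ℕ) (hq : 1 ≤ q) :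
    (q - 1) ^ ds.length * (ds.map fun d => ∑ i ∈ Finset.range d, q ^ i).prod =
      (ds.map fun d => q ^ d - 1).prod := by
  induction ds with
  | nil => simp
  | cons d ds ih =>
    rw [List.length_cons, List.map_cons, List.prod_cons, List.map_cons, List.prod_cons, ← ih,
      ← sub_one_mul_geom d q hq, pow_succ]
    ring

namespace Cert12

variable (C : Cert12 D fd fx fc fz)
include C

theorem poin_chain (F : Type*) [Field F] (fps : ℕ → FP)
    (h : ∀ k < fd.l, fd.ChkW fx (fps k) k ∧ 0 < (fps k).dk) (q : ℕ) :
    ∀ m ≤ fd.l, fd.poin fx m q = evalN (polyW fps m) q := by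
  intro m
  induction m with
  | zero =>
    intro _
    rw [poin_zero]
    simp [polyW, evalN]
  | succ m ih =>
    intro hm
    rw [C.poin_succ F (by omega) (h m (by omega)).1 (h m (by omega)).2, ih (by omega), polyW, evalN_mulN,
      evalN_histoN]

/-- the order of the group from the Poincaré polynomial -/
theorem card_group_poly {F : Type*} [Field F] [Finite F] (fps : ℕ → FP)
    (h : ∀ k < fd.l, fd.ChkW fx (fps k) k ∧ 0 < (fps k).dk) (ds : List ℕ) (hds : polyW fps fd.l = polyD ds) :
    Nat.card (D.group F) =
      Nat.card (D.borelSubgroup F) * (ds.map fun d => ∑ i ∈ Finset.range d, Nat.card F ^ i).prod := by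
  rw [C.card_group, C.realW_eq F]
  congr 1
  have := C.poin_chain F fps h (Nat.card F) fd.l (le_refl _)
  unfold FD.poin at this
  rw [this, hds, evalN_polyD]

end Cert12

end Cfsg.Agent.Lib.H29.Chev
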