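import Mathlib
import Cfsg.Prelude.Def_ChevStructure
import Cfsg.Agent.Lib.H29.ChevGen43

/-!
# The order of `B = UH`
-/

set_option autoImplicit false
set_option linter.unusedSectionVars false
set_option linter.unusedSimpArgs false
set_option linter.unusedVariables false

namespace Cfsg.Agent.Lib.H29.Chev

open Cfsg.Lie Matrix

variable {D : ChevalleyDatum} {fd : FD} {fx : FX} {fc : FC} {fz : FZ} {F : Type*} [Field F]

namespace Cert12

variable (C : Cert12 D fd fx fc fz)
include C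

theorem card_borel :
    Nat.card (D.borelSubgroup F) = Nat.card (D.posUnipotent F) * Nat.card (D.diagonalSubgroup F) := by
  rw [← Nat.card_prod]
  symm
  have hUB : D.posUnipotent F ≤ D.borelSubgroup F := le_sup_left
  have hHB : D.diagonalSubgroup F ≤ D.borelSubgroup F := le_sup_right
  apply Nat.card_congr
  refine Equiv.ofBijective
    (fun x : (D.posUnipotent F) × (D.diagonalSubgroup F) =>
      (⟨x.1.val * x.2.val, mul_mem (hUB x.1.property) (hHB x.2.property)⟩ : D.borelSubgroup F)) ⟨?_, ?_⟩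
  · rintro ⟨⟨u, hu⟩, ⟨h, hh⟩⟩ ⟨⟨u', hu'⟩, ⟨h', hh'⟩⟩ e
    have e' : u * h = u' * h' := congrArg Subtype.val e
    have h1 : u'⁻¹ * u ∈ D.posUnipotent F ⊓ D.diagonalSubgroup F := by
      refine Subgroup.mem_inf.mpr ⟨mul_mem (inv_mem hu') hu, ?_⟩
      have : u'⁻¹ * u = h' * h⁻¹ := by
        have : u'⁻¹ * u = u'⁻¹ * (u * h) * h⁻¹ := by group
        rw [this, e']; group
      rw [this]
      exact mul_mem hh' (inv_mem hh)
    rw [C.c6.c2.pos_inf_diag, Subgroup.mem_bot] at h1
    have hu_eq : u = u' := by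
      have : u = u' * (u'⁻¹ * u) := by group
      rw [this, h1, mul_one]
    subst hu_eq
    have hh_eq : h = h' := mul_left_cancel e'
    subst hh_eq
    rfl
  · rintro ⟨b, hb⟩
    obtain ⟨u, hu, h, hh, rfl⟩ := C.c6.c2.borel_mem b hb
    exact ⟨⟨⟨u, hu⟩, ⟨h, hh⟩⟩, rfl⟩

end Cert12

end Cfsg.Agent.Lib.H29.Chev
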