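import Mathlib

/-!
# Endomorphisms of a torus `(Fˣ)^l` given by integer matrices, and the order of their kernels
-/

set_option autoImplicit false

namespace Cfsg.Agent.Lib.H29.Chev

open Matrix

variable {l : ℕ} {A : Type*} [CommGroup A]

/-- the endomorphism `λ ↦ (∏_i λ_i ^ M i j)_j` of `A^l` -/
def torusHom (M : Matrix (Fin l) (Fin l) ℤ) : (Fin l → A) →* (Fin l → A) where
  toFun := fun x j => ∏ i, x i ^ M i j
  map_one' := by
    funext j
    simp
  map_mul' := by
    intro x y
    funext j
    simp only [Pi.mul_apply, mul_zpow, Finset.prod_mul_distrib]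

theorem torusHom_apply (M : Matrix (Fin l) (Fin l) ℤ) (x : Fin l → A) (j : Fin l) :
    torusHom M x j = ∏ i, x i ^ M i j := rfl

theorem zpow_sum_eq (a : A) {ι : Type*} (s : Finset ι) (f : ι → ℤ) : a ^ (∑ i ∈ s, f i) = ∏ i ∈ s, a ^ f i := by
  classical
  induction s using Finset.induction_on with
  | empty => simp
  | insert i s hi ih => rw [Finset.sum_insert hi, Finset.prod_insert hi, _root_.zpow_add, ih]

theorem torusHom_comp (M N : Matrix (Fin l) (Fin l) ℤ) (x : Fin l → A) :
    torusHom N (torusHom M x) = torusHom (M * N) x := by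
  funext k
  simp only [torusHom_apply, Matrix.mul_apply]
  have e : ∀ j : Fin l, (∏ i, x i ^ M i j) ^ N j k = ∏ i, x i ^ (M i j * N j k) := by
    intro j
    rw [← Finset.prod_zpow]
    apply Finset.prod_congr rfl
    intro i _
    rw [_root_.zpow_mul]
  rw [Finset.prod_congr rfl (fun j _ => e j), Finset.prod_comm]
  apply Finset.prod_congr rfl
  intro i _
  rw [zpow_sum_eq]

theorem torusHom_one (x : Fin l → A) : torusHom (1 : Matrix (Fin l) (Fin l) ℤ) x = x := by
  funext j
  rw [torusHom_apply, Finset.prod_eq_single j]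
  · simp
  · intro i _ hij
    simp [Matrix.one_apply_ne hij]
  · intro h; exact absurd (Finset.mem_univ j) h

theorem torusHom_injective (Q Q' : Matrix (Fin l) (Fin l) ℤ) (h : Q * Q' = 1) :
    Function.Injective (torusHom Q : (Fin l → A) →* (Fin l → A)) := by
  intro x y hxy
  have := congrArg (torusHom Q') hxy
  rwa [torusHom_comp, torusHom_comp, h, torusHom_one, torusHom_one] at this

theorem torusHom_bijective (P P' : Matrix (Fin l) (Fin l) ℤ) (h : P * P' = 1) :
    Function.Bijective (torusHom P : (Fin l → A) →* (Fin l → A)) := by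
  refine ⟨torusHom_injective P P' h, fun y => ⟨torusHom P' y, ?_⟩⟩
  rw [torusHom_comp, _root_.mul_eq_one_comm.mp h, torusHom_one]

/-- the kernel of the endomorphism of a diagonal matrix -/
theorem card_ker_diagonal [Finite A] [IsCyclic A] (d : Fin l → ℕ) :
    Nat.card (torusHom (Matrix.diagonal fun i => (d i : ℤ)) : (Fin l → A) →* (Fin l → A)).ker =
      ∏ i, (Nat.card A).gcd (d i) := by
  have e : ∀ x : Fin l → A, x ∈ (torusHom (Matrix.diagonal fun i => (d i : ℤ)) : (Fin l → A) →* (Fin l → A)).ker ↔
      ∀ i, x i ∈ (powMonoidHom (d i) : A →* A).ker := by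
    intro x
    rw [MonoidHom.mem_ker]
    constructor
    · intro h i
      have := congrFun h i
      rw [torusHom_apply, Finset.prod_eq_single i] at this
      · simpa [MonoidHom.mem_ker] using this
      · intro j _ hji
        simp [Matrix.diagonal_apply_ne _ hji]
      · intro h; exact absurd (Finset.mem_univ i) h
    · intro h
      funext i
      rw [torusHom_apply, Finset.prod_eq_single i]
      · have := h i
        simpa [MonoidHom.mem_ker] using this
      · intro j _ hji
        simp [Matrix.diagonal_apply_ne _ hji]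
      · intro h; exact absurd (Finset.mem_univ i) h
  have : Nat.card (torusHom (Matrix.diagonal fun i => (d i : ℤ)) : (Fin l → A) →* (Fin l → A)).ker =
      Nat.card (∀ i, (powMonoidHom (d i) : A →* A).ker) := by
    apply Nat.card_congr
    exact {
      toFun := fun x i => ⟨x.val i, (e x.val).mp x.property i⟩
      invFun := fun y => ⟨fun i => (y i).val, (e _).mpr fun i => (y i).property⟩
      left_inv := fun x => rfl
      right_inv := fun y => rfl }
  rw [this, Nat.card_pi]
  apply Finset.prod_congr rfl
  intro i _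
  exact IsCyclic.card_powMonoidHom_ker A (d i)

/-- the order of the kernel of `torusHom M` from a diagonalisation `P M Q` of `M` -/
theorem card_ker_torusHom [Finite A] [IsCyclic A] (M P P' Q Q' : Matrix (Fin l) (Fin l) ℤ) (d : Fin l → ℕ)
    (hP : P * P' = 1) (hQ : Q * Q' = 1) (hS : P * M * Q = Matrix.diagonal fun i => (d i : ℤ)) :
    Nat.card (torusHom M : (Fin l → A) →* (Fin l → A)).ker = ∏ i, (Nat.card A).gcd (d i) := by
  rw [← card_ker_diagonal (A := A) d, ← hS]
  symm
  apply Nat.card_congr
  have hb := torusHom_bijective (A := A) P P' hP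
  have key : ∀ x : Fin l → A, x ∈ (torusHom (P * M * Q) : (Fin l → A) →* (Fin l → A)).ker ↔
      torusHom P x ∈ (torusHom M : (Fin l → A) →* (Fin l → A)).ker := by
    intro x
    rw [MonoidHom.mem_ker, MonoidHom.mem_ker, ← torusHom_comp, ← torusHom_comp]
    constructor
    · intro h
      apply torusHom_injective Q Q' hQ
      rw [h, map_one]
    · intro h
      rw [h, map_one]
  refine Equiv.ofBijective (fun x => ⟨torusHom P x.val, (key x.val).mp x.property⟩) ⟨?_, ?_⟩
  · intro x y h
    exact Subtype.ext (hb.1 (congrArg Subtype.val h))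
  · rintro ⟨y, hy⟩
    obtain ⟨x, rfl⟩ := hb.2 y
    exact ⟨⟨x, (key x).mpr hy⟩, rfl⟩

end Cfsg.Agent.Lib.H29.Chev
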