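import Mathlib
import Cfsg.Prelude.Def_ChevStructure
import Cfsg.Agent.Lib.H29.ChevGen44
import Cfsg.Agent.Lib.H29.ChevTorus

/-!
# The diagonal subgroup `H` as the image of a torus
-/

set_option autoImplicit false
set_option linter.unusedSectionVars false
set_option linter.unusedSimpArgs false
set_option linter.unusedVariables false

namespace Cfsg.Agent.Lib.H29.Chev

open Cfsg.Lie Matrix

variable {D : ChevalleyDatum} {fd : FD} {fx : FX} {fc : FC} {fz : FZ} {F : Type*} [Field F]

/-- diagonal matrices with invertible entries, as a homomorphism -/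
noncomputable def diagHom (ι : Type*) [Fintype ι] [DecidableEq ι] (F : Type*) [Field F] : (ι → Fˣ) →* GL ι F :=
  (Units.map (Matrix.diagonalRingHom ι F).toMonoidHom).comp
    (MulEquiv.piUnits (M := fun _ : ι => F)).symm.toMonoidHom

theorem diagHom_val (ι : Type*) [Fintype ι] [DecidableEq ι] (d : ι → Fˣ) :
    ((diagHom ι F d : GL ι F) : Matrix ι ι F) = Matrix.diagonal fun a => ((d a : Fˣ) : F) := rfl

theorem diagHom_injective (ι : Type*) [Fintype ι] [DecidableEq ι] : Function.Injective (diagHom ι F) := by
  intro d d' h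
  have h' := congrArg (fun g : GL ι F => (g : Matrix ι ι F)) h
  simp only [diagHom_val] at h'
  funext a
  apply Units.ext
  have := congrFun (Matrix.diagonal_injective h') a
  exact this

/-- the diagonal entries attached to an element of the torus -/
def entryHom (D : ChevalleyDatum) (fd : FD) (F : Type*) [Field F] : (Fin fd.l → Fˣ) →* (D.Idx → Fˣ) where
  toFun := fun x a =>
    match a with
    | Sum.inl _ => 1
    | Sum.inr s => ∏ i, x i ^ fd.carZ i.val s.val
  map_one' := by
    funext a
    cases a <;> simp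
  map_mul' := by
    intro x y
    funext a
    cases a with
    | inl j => simp
    | inr s => simp only [Pi.mul_apply, mul_zpow, Finset.prod_mul_distrib]

/-- the torus to the general linear group -/
noncomputable def chiHom (D : ChevalleyDatum) (fd : FD) (F : Type*) [Field F] : (Fin fd.l → Fˣ) →* GL D.Idx F :=
  (diagHom D.Idx F).comp (entryHom D fd F)

theorem chiHom_val (x : Fin fd.l → Fˣ) :
    ((chiHom D fd F x : GL D.Idx F) : Matrix D.Idx D.Idx F) =
      Matrix.diagonal fun a => ((entryHom D fd F x a : Fˣ) : F) := rfl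

namespace Cert12

variable (C : Cert12 D fd fx fc fz)
include C

theorem pr_eq_sum (s r : ℕ) : fd.pr s r = ∑ i : Fin fd.l, fd.corZ r i.val * fd.carZ i.val s := by
  unfold FD.pr
  rw [listsum_eq, ← Fin.sum_univ_eq_sum_range (fun i => fd.corZ r i * fd.carZ i s)]

/-- a generator of `H` is in the image of the torus -/
theorem hgen_eq_chi (g : GL D.Idx F) (r : ℕ) (hr : r < fd.n) (c : F) (hc : c ≠ 0)
    (hg : (g : Matrix D.Idx D.Idx F) = D.hMat F r c) :
    g = chiHom D fd F (fun i => (Units.mk0 c hc) ^ fd.corZ r i.val) := by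
  apply gl_ext
  rw [hg, C.c6.c2.hMat_eq r hr c hc, chiHom_val]
  unfold Td
  congr 1
  funext a
  cases a with
  | inl j =>
    rw [C.c6.c2.hExp_inl]
    simp [entryHom]
  | inr s =>
    rw [C.c6.c2.hExp_inr, C.pr_eq_sum]
    simp only [entryHom, MonoidHom.coe_mk, OneHom.coe_mk]
    have e : ∀ i : Fin fd.l, (Units.mk0 c hc ^ fd.corZ r i.val) ^ fd.carZ i.val s.val =
        Units.mk0 c hc ^ (fd.corZ r i.val * fd.carZ i.val s.val) := by
      intro i
      rw [_root_.zpow_mul]
    rw [Finset.prod_congr rfl (fun i _ => e i), ← zpow_sum_eq, Units.val_zpow_eq_zpow_val, Units.val_mk0]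

/-- the image of a one-parameter subgroup of the torus -/
theorem chi_single (i : Fin fd.l) (u : Fˣ) :
    ((chiHom D fd F (Pi.mulSingle i u) : GL D.Idx F) : Matrix D.Idx D.Idx F) =
      D.hMat F (fd.simples.getD i.val 0) (u : F) := by
  have hp := C.c6.c2.simple_lt i.val i.isLt
  rw [C.c6.c2.hMat_eq _ hp _ u.ne_zero, chiHom_val]
  unfold Td
  congr 1
  funext a
  cases a with
  | inl j =>
    rw [C.c6.c2.hExp_inl]
    simp [entryHom]
  | inr s =>
    rw [C.c6.c2.hExp_inr, C.c6.c2.pr_simple i.val _ i.isLt]
    simp only [entryHom, MonoidHom.coe_mk, OneHom.coe_mk]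
    rw [Finset.prod_eq_single i]
    · rw [Pi.mulSingle_eq_same, Units.val_zpow_eq_zpow_val]
    · intro j _ hji
      rw [Pi.mulSingle_eq_of_ne hji, _root_.one_zpow]
    · intro h; exact absurd (Finset.mem_univ i) h

/-- `H` is the image of the torus -/
theorem diag_eq_range : D.diagonalSubgroup F = (chiHom D fd F).range := by
  apply le_antisymm
  · unfold ChevalleyDatum.diagonalSubgroup
    rw [Subgroup.closure_le]
    rintro g ⟨r, c, hr, hc, hg⟩
    have hr' : r < fd.n := by rw [← C.c6.c2.nroots_eq]; exact hr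
    exact ⟨_, (C.hgen_eq_chi g r hr' c hc hg).symm⟩
  · rintro g ⟨x, rfl⟩
    have key : x ∈ (D.diagonalSubgroup F).comap (chiHom D fd F) := by
      rw [← Finset.univ_prod_mulSingle x]
      apply Subgroup.prod_mem
      intro i _
      rw [Subgroup.mem_comap]
      apply Subgroup.subset_closure
      refine ⟨fd.simples.getD i.val 0, ((x i : Fˣ) : F), ?_, (x i).ne_zero, C.chi_single i (x i)⟩
      rw [C.c6.c2.nroots_eq]
      exact C.c6.c2.simple_lt i.val i.isLt
    exact key

/-- the Cartan matrix -/
def cartM (fd : FD) : Matrix (Fin fd.l) (Fin fd.l) ℤ := Matrix.of fun i j => fd.carZ i.val (fd.simples.getD j.val 0)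

theorem carZ_eq_sum (i : Fin fd.l) (s : ℕ) (hs : s < fd.n) :
    fd.carZ i.val s = ∑ j : Fin fd.l, cartM fd i j * fd.rcZ fx s j.val := by
  rw [(fd.lin_spec C.c6.c2.chk.lin s hs).1 i.val i.isLt, listsum_eq,
    ← Fin.sum_univ_eq_sum_range (fun j => fd.rcZ fx s j * fd.carZ i.val (fd.simples.getD j 0))]
  apply Finset.sum_congr rfl
  intro j _
  simp only [cartM, Matrix.of_apply]
  ring

/-- the kernel of the torus on the group is the kernel of the endomorphism given by the Cartan matrix -/
theorem ker_chi : (chiHom D fd F).ker = (torusHom (cartM fd) : (Fin fd.l → Fˣ) →* (Fin fd.l → Fˣ)).ker := by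
  ext x
  rw [MonoidHom.mem_ker, MonoidHom.mem_ker]
  constructor
  · intro h
    have h1 : entryHom D fd F x = 1 := by
      apply diagHom_injective D.Idx
      rw [map_one]
      exact h
    funext j
    have hp := C.c6.c2.simple_lt j.val j.isLt
    have := congrFun h1 (Sum.inr ⟨fd.simples.getD j.val 0, by rw [C.c6.c2.nroots_eq]; exact hp⟩)
    simp only [entryHom, MonoidHom.coe_mk, OneHom.coe_mk, Pi.one_apply] at this
    rw [torusHom_apply]
    exact this
  · intro h
    have h1 : entryHom D fd F x = 1 := by
      funext a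
      cases a with
      | inl j => rfl
      | inr s =>
        have hs : s.val < fd.n := by rw [← C.c6.c2.nroots_eq]; exact s.isLt
        simp only [entryHom, MonoidHom.coe_mk, OneHom.coe_mk, Pi.one_apply]
        have e : ∀ i : Fin fd.l, x i ^ fd.carZ i.val s.val =
            ∏ j : Fin fd.l, (x i ^ cartM fd i j) ^ fd.rcZ fx s.val j.val := by
          intro i
          rw [C.carZ_eq_sum i s.val hs, zpow_sum_eq]
          apply Finset.prod_congr rfl
          intro j _
          rw [_root_.zpow_mul]
        rw [Finset.prod_congr rfl (fun i _ => e i), Finset.prod_comm]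
        apply Finset.prod_eq_one
        intro j _
        rw [Finset.prod_zpow]
        have := congrFun h j
        rw [torusHom_apply] at this
        rw [this]
        simp
    show (diagHom D.Idx F) (entryHom D fd F x) = 1
    rw [h1, map_one]

/-- the order of `H` -/
theorem card_diag [Finite F] (P P' Q Q' : Matrix (Fin fd.l) (Fin fd.l) ℤ) (d : Fin fd.l → ℕ)
    (hP : P * P' = 1) (hQ : Q * Q' = 1) (hS : P * cartM fd * Q = Matrix.diagonal fun i => (d i : ℤ)) :
    (∏ i, (Nat.card F - 1).gcd (d i)) * Nat.card (D.diagonalSubgroup F) = (Nat.card F - 1) ^ fd.l := by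
  have hu : Nat.card Fˣ = Nat.card F - 1 := by
    have := Fintype.ofFinite F
    classical
    rw [Nat.card_eq_fintype_card, Nat.card_eq_fintype_card, Fintype.card_units]
  have h1 := card_ker_torusHom (A := Fˣ) (cartM fd) P P' Q Q' d hP hQ hS
  rw [hu, ← C.ker_chi] at h1
  rw [C.diag_eq_range, ← h1, ← Subgroup.index_ker, Subgroup.card_mul_index, Nat.card_fun, hu]
  simp

end Cert12

end Cfsg.Agent.Lib.H29.Chev
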