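import Mathlib
import Cfsg.Prelude.Def_ChevStructure
import Cfsg.Agent.Lib.H29.ChevGen50
import Cfsg.Agent.Lib.H29.ChevGen45

/-! Automorphisms of Chevalley groups, part 1: `U` is a Sylow subgroup (generic argument through
`N_G(U) = B`), so every automorphism can be moved by an inner one to preserve `U`. -/

set_option autoImplicit false
set_option linter.unusedSimpArgs false
set_option linter.unusedVariables false

namespace Cfsg.Agent.Lib.H29.Chev

open Cfsg.Lie Matrix

variable {D : ChevalleyDatum} {fd : FD} {fx : FX} {fc : FC} {fz : FZ} {F : Type*} [Field F]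

namespace Cert12

variable (C : Cert12 D fd fx fc fz)
include C

theorem not_inRootSub_empty (r : ℕ) (hr : r < fd.n) : ¬ D.InRootSub ∅ r := by
  intro h
  rw [C.c6.c5.c3.inRootSub_iff] at h
  have h1 := (fd.f_spec C.f r hr).1
  have h2 : ((List.range fd.l).map fun j => fd.bzZ fz r j * fd.corZ r j) = (List.range fd.l).map fun _ => (0 : ℤ) := by
    apply List.map_congr_left
    intro j hj
    rw [h.2 j (List.mem_range.mp hj) (Set.notMem_empty j), mul_zero]
  rw [h2] at h1
  simp at h1

theorem radical_empty : D.unipotentRadical F ∅ = D.posUnipotent F := by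
  apply le_antisymm (C.radical_le_pos ∅)
  unfold ChevalleyDatum.unipotentRadical ChevalleyDatum.posUnipotent
  apply Subgroup.closure_mono
  rintro g ⟨r, t, h1, h3⟩
  exact ⟨r, t, h1, C.not_inRootSub_empty r ((C.c6.isPos_iff r).mp h1).1, h3⟩

theorem parabolic_empty : D.parabolicSubgroup F ∅ = D.borelSubgroup F := by
  unfold ChevalleyDatum.parabolicSubgroup
  have : {g : GL D.Idx F | ∃ j ∈ (∅ : Set ℕ), j < D.rank ∧ (g : Matrix D.Idx D.Idx F) = D.nMat F (D.simple j) 1} = ∅ := by
    ext g
    simp
  rw [this, Subgroup.closure_empty, sup_bot_eq]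

/-- `N_G(U) = B` -/
theorem normalizer_pos :
    Subgroup.normalizer (D.posUnipotent F : Set (GL D.Idx F)) ⊓ D.group F = D.borelSubgroup F := by
  have := C.normalizer_radical (F := F) ∅ (by simp)
  rwa [C.radical_empty, C.parabolic_empty] at this

/-- `U` inside the Chevalley group -/
abbrev U1 (D : ChevalleyDatum) (F : Type*) [Field F] : Subgroup ↥(D.group F) :=
  (D.posUnipotent F).subgroupOf (D.group F)

/-- `V` inside the Chevalley group -/
abbrev V1 (D : ChevalleyDatum) (F : Type*) [Field F] : Subgroup ↥(D.group F) :=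
  (D.negUnipotent F).subgroupOf (D.group F)

/-- `B` inside the Chevalley group -/
abbrev B1 (D : ChevalleyDatum) (F : Type*) [Field F] : Subgroup ↥(D.group F) :=
  (D.borelSubgroup F).subgroupOf (D.group F)

/-- `H` inside the Chevalley group -/
abbrev H1 (D : ChevalleyDatum) (F : Type*) [Field F] : Subgroup ↥(D.group F) :=
  (D.diagonalSubgroup F).subgroupOf (D.group F)

theorem normalizer_U1 : Subgroup.normalizer (U1 D F : Set ↥(D.group F)) = B1 D F := by
  ext g
  rw [Subgroup.mem_subgroupOf, ← C.normalizer_pos, Subgroup.mem_inf, Subgroup.mem_normalizer_iff,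
    Subgroup.mem_normalizer_iff]
  constructor
  · intro h
    refine ⟨fun u => ?_, g.property⟩
    constructor
    · intro hu
      have hug : u ∈ D.group F := C.c6.c2.pos_le_group hu
      have := (h ⟨u, hug⟩).mp (Subgroup.mem_subgroupOf.mpr hu)
      exact Subgroup.mem_subgroupOf.mp this
    · intro hu
      have hug : u ∈ D.group F := by
        have h1 : (g : GL D.Idx F) * u * (g : GL D.Idx F)⁻¹ ∈ D.group F := C.c6.c2.pos_le_group hu
        have : u = (g : GL D.Idx F)⁻¹ * ((g : GL D.Idx F) * u * (g : GL D.Idx F)⁻¹) * (g : GL D.Idx F) := by group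
        rw [this]
        exact mul_mem (mul_mem (inv_mem g.property) h1) g.property
      have := (h ⟨u, hug⟩).mpr (Subgroup.mem_subgroupOf.mpr hu)
      exact Subgroup.mem_subgroupOf.mp this
  · rintro ⟨h, _⟩ u
    rw [Subgroup.mem_subgroupOf, Subgroup.mem_subgroupOf]
    exact h u.val

theorem card_U1 : Nat.card (U1 D F) = Nat.card (D.posUnipotent F) :=
  Nat.card_congr (Subgroup.subgroupOfEquivOfLe C.c6.c2.pos_le_group).toEquiv

theorem card_B1 : Nat.card (B1 D F) = Nat.card (D.borelSubgroup F) :=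
  Nat.card_congr (Subgroup.subgroupOfEquivOfLe C.c6.c2.borel_le_group).toEquiv

/-- the order of `H` is prime to the characteristic -/
theorem not_dvd_card_diag [Finite F] (p : ℕ) [hp : Fact p.Prime] [CharP F p] :
    ¬ p ∣ Nat.card (D.diagonalSubgroup F) := by
  classical
  have := Fintype.ofFinite F
  obtain ⟨e, he⟩ := FiniteField.card F p
  have hq : Nat.card F = p ^ (e : ℕ) := by rw [Nat.card_eq_fintype_card, he.2]
  have hpq : p ∣ Nat.card F := by rw [hq]; exact dvd_pow_self p e.ne_zero
  intro h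
  rw [C.diag_eq_range] at h
  have h1 := dvd_trans h (Subgroup.card_range_dvd (chiHom D fd F))
  rw [Nat.card_pi] at h1
  have h2 : Nat.card Fˣ = Nat.card F - 1 := by
    rw [Nat.card_eq_fintype_card, Nat.card_eq_fintype_card, Fintype.card_units]
  simp only [h2, Finset.prod_const] at h1
  have h3 := hp.out.dvd_of_dvd_pow h1
  have hq1 : 1 ≤ Nat.card F := Nat.one_le_iff_ne_zero.mpr (Nat.card_pos).ne'
  have h4 : p ∣ 1 := by
    have := (Nat.dvd_sub hpq h3)
    rwa [Nat.sub_sub_self hq1] at this
  have := Nat.le_of_dvd (by norm_num) h4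
  have := hp.out.two_le
  omega

theorem isPGroup_U1 [Finite F] (p : ℕ) [hp : Fact p.Prime] [CharP F p] : IsPGroup p (U1 D F) := by
  classical
  have := Fintype.ofFinite F
  obtain ⟨e, he⟩ := FiniteField.card F p
  have hq : Nat.card F = p ^ (e : ℕ) := by rw [Nat.card_eq_fintype_card, he.2]
  apply IsPGroup.of_card (n := (e : ℕ) * (D.nroots / 2))
  rw [C.card_U1, C.card_posUnipotent, hq, ← pow_mul]

/-- `U` is a Sylow `p`-subgroup: its index is prime to `p` -/
theorem not_dvd_index_U1 [Finite F] (p : ℕ) [hp : Fact p.Prime] [CharP F p] : ¬ p ∣ (U1 D F).index := by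
  classical
  have := Fintype.ofFinite F
  obtain ⟨e, he⟩ := FiniteField.card F p
  have hq : Nat.card F = p ^ (e : ℕ) := by rw [Nat.card_eq_fintype_card, he.2]
  have hcard : Nat.card (U1 D F) = p ^ ((e : ℕ) * (D.nroots / 2)) := by
    rw [C.card_U1, C.card_posUnipotent, hq, ← pow_mul]
  have hmod := Sylow.card_quotient_normalizer_modEq_card_quotient hcard
  intro hdvd
  rw [Subgroup.index_eq_card] at hdvd
  have h0 : Nat.card (↥(D.group F) ⧸ U1 D F) ≡ 0 [MOD p] := (Nat.modEq_zero_iff_dvd).mpr hdvd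
  have h1 := hmod.trans h0
  have h2 : p ∣ Nat.card (↥(Subgroup.normalizer (U1 D F : Set ↥(D.group F))) ⧸
      (U1 D F).comap (Subgroup.normalizer (U1 D F : Set ↥(D.group F))).subtype) :=
    (Nat.modEq_zero_iff_dvd).mp h1
  -- the order of the quotient is `|H|`
  have h3 := Subgroup.card_eq_card_quotient_mul_card_subgroup
    ((U1 D F).comap (Subgroup.normalizer (U1 D F : Set ↥(D.group F))).subtype)
  have h4 : Nat.card ((U1 D F).comap (Subgroup.normalizer (U1 D F : Set ↥(D.group F))).subtype) =
      Nat.card (U1 D F) :=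
    Nat.card_congr (Subgroup.subgroupOfEquivOfLe Subgroup.le_normalizer).toEquiv
  have h5 : Nat.card ↥(Subgroup.normalizer (U1 D F : Set ↥(D.group F))) = Nat.card (D.borelSubgroup F) := by
    rw [C.normalizer_U1, C.card_B1]
  rw [h4, h5, C.card_borel, C.card_U1, mul_comm] at h3
  have hpos : 0 < Nat.card (D.posUnipotent F) := Nat.card_pos
  have h6 := Nat.eq_of_mul_eq_mul_right hpos h3
  rw [← h6] at h2
  exact C.not_dvd_card_diag p h2

/-- every automorphism maps `U` onto a conjugate of `U` -/
theorem exists_conj_U1 [Finite F] (p : ℕ) [hp : Fact p.Prime] [CharP F p] (K : Subgroup ↥(D.group F))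
    (hK : Nat.card K = Nat.card (U1 D F)) :
    ∃ x : ↥(D.group F), ∀ g : ↥(D.group F), g ∈ K ↔ x * g * x⁻¹ ∈ U1 D F := by
  classical
  have hU := C.isPGroup_U1 (F := F) p
  have hUi := C.not_dvd_index_U1 (F := F) p
  let P : Sylow p ↥(D.group F) := hU.toSylow hUi
  have hKp : IsPGroup p K := by
    obtain ⟨k, hk⟩ := (IsPGroup.iff_card.mp hU)
    exact IsPGroup.of_card (n := k) (by rw [hK, hk])
  have hKi : ¬ p ∣ K.index := by
    intro h
    apply hUi
    have h1 := Subgroup.card_mul_index K
    have h2 := Subgroup.card_mul_index (U1 D F)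
    rw [hK] at h1
    have hpos : 0 < Nat.card (U1 D F) := Nat.card_pos
    have : K.index = (U1 D F).index := Nat.eq_of_mul_eq_mul_left hpos (h1.trans h2.symm)
    rwa [← this]
  let Q : Sylow p ↥(D.group F) := hKp.toSylow hKi
  obtain ⟨x, hx⟩ := MulAction.exists_smul_eq ↥(D.group F) Q P
  refine ⟨x, fun g => ?_⟩
  have hmem : ∀ y : ↥(D.group F), y ∈ (P : Subgroup ↥(D.group F)) ↔ x⁻¹ * y * x ∈ (Q : Subgroup ↥(D.group F)) := by
    intro y
    rw [← hx, Sylow.coe_subgroup_smul, Subgroup.mem_pointwise_smul_iff_inv_smul_mem]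
    simp [MulAut.smul_def, MulAut.conj_apply, MulAut.inv_apply]
  have h1 := hmem (x * g * x⁻¹)
  have e : x⁻¹ * (x * g * x⁻¹) * x = g := by group
  rw [e] at h1
  exact h1.symm

end Cert12

end Cfsg.Agent.Lib.H29.Chev
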