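import Cfsg.Agent.Lib.H29.C3MaxP3b

/-!
# S5886-P3: one F-transvection with centre `b`, functional killing `K b`, plus a second line
`L' = g (K a₁)` through `b`, gives all F-transvections.
-/

set_option autoImplicit false

namespace Cfsg.Agent.Lib.H29.C3Max

open Module Cfsg.Agent.Lib.H1.C3Max

variable {F K V : Type*} [Field F] [Field K] [Algebra F K] [AddCommGroup V] [Module F V]
  [Module K V] [IsScalarTower F K V]

/-- **S5886-P3** -/
theorem hasTv_of_tv [Finite F] [Module.Finite F K] [Module.Finite K V]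
    (hm : 2 ≤ finrank K V)
    (X : Subgroup (V ≃ₗ[F] V)) (hD : HasD K X)
    (b a₁ : V) (g : V ≃ₗ[F] V) (hg : g ∈ X) (hb : b ≠ 0) (ha₁ : a₁ ≠ 0)
    (hbL : b ∈ (kline F K a₁).map (g : V →ₗ[F] V))
    (hne : (kline F K a₁).map (g : V →ₗ[F] V) ≠ kline F K b)
    (φ : Dual F V) (hφ : φ ≠ 0) (hφL : ∀ κ : K, φ (κ • b) = 0)
    (e : V ≃ₗ[F] V) (he : ∀ v, e v = v + φ v • b) (heX : e ∈ X) : HasTv X := by
  have _ := hm
  have hfinV : Module.Finite F V := Module.Finite.trans K V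
  have hφT : InT X b φ := ⟨by simpa using hφL 1, e, heX, he⟩
  -- dimensions of the two lines
  have hdim : finrank F ↥((kline F K a₁).map (g : V →ₗ[F] V)) = finrank F ↥(kline F K b) := by
    rw [LinearEquiv.finrank_map_eq, finrank_kline ha₁, finrank_kline hb]
  obtain ⟨e', he'L, he'b⟩ : ∃ e', e' ∈ (kline F K a₁).map (g : V →ₗ[F] V) ∧ e' ∉ kline F K b := by
    by_contra hcon
    push Not at hcon
    exact hne (Submodule.eq_of_le_of_finrank_eq hcon hdim)
  obtain ⟨v₀, hv₀b, hv₀L⟩ : ∃ v₀, v₀ ∈ kline F K b ∧ v₀ ∉ (kline F K a₁).map (g : V →ₗ[F] V) := by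
    by_contra hcon
    push Not at hcon
    exact hne (Submodule.eq_of_le_of_finrank_eq hcon hdim.symm).symm
  -- step 3
  obtain ⟨φ', hφ'T, hφ'e⟩ := exists_inT_ne hD he'b hφ hφL hφT
  -- step 2b
  have hL' : ∀ χ : Dual F V, (∀ y ∈ (kline F K a₁).map (g : V →ₗ[F] V), χ y = 0) → InT X b χ :=
    fun χ hχ => inT_of_kills_map hD hg hb hbL hφ'T e' he'L hφ'e χ hχ
  -- step 4
  obtain ⟨φ'', hφ''v, hφ''L⟩ := exists_dualF_eq_one hv₀L
  have hφ''T : InT X b φ'' := hL' φ'' hφ''L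
  obtain ⟨κ₀, rfl⟩ := mem_kline.mp hv₀b
  have hPb : ∀ χ : Dual F V, (∀ κ : K, χ (κ • b) = 0) → InT X b χ :=
    fun χ hχ => inT_of_kills_kline hD hφ''T κ₀ (by rw [hφ''v]; exact one_ne_zero) χ hχ
  have hPe : ∀ χ : Dual F V, (∀ κ : K, χ (κ • e') = 0) → InT X e' χ :=
    perp_of_perp hD hb he'b hPb
  have he'0 : e' ≠ 0 := by
    rintro rfl
    exact he'b (Submodule.zero_mem _)
  have hP : ∀ a : V, a ≠ 0 → ∀ χ : Dual F V, (∀ κ : K, χ (κ • a) = 0) → InT X a χ := by
    intro a ha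
    by_cases hab : a ∈ kline F K b
    · -- K a = K b, so e' ∉ K a
      refine perp_of_perp hD he'0 ?_ hPe
      intro hae
      apply he'b
      obtain ⟨κ, rfl⟩ := mem_kline.mp hab
      obtain ⟨μ, hμ⟩ := mem_kline.mp hae
      have hμ0 : μ ≠ 0 := by
        rintro rfl
        rw [zero_smul] at hμ
        exact ha hμ.symm
      refine mem_kline.mpr ⟨μ⁻¹ * κ, ?_⟩
      rw [← smul_smul, ← hμ, smul_smul, inv_mul_cancel₀ hμ0, one_smul]
    · exact perp_of_perp hD hb hab hPb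
  -- step 5
  have hall : ∀ a : V, a ≠ 0 → ∀ φ : Dual F V, φ a = 0 → InT X a φ := by
    intro a ha ψ hψ
    obtain ⟨c, hc⟩ : ∃ c, c ∉ kline F K a := by
      by_cases hba : b ∈ kline F K a
      · refine ⟨e', fun hea => he'b ?_⟩
        obtain ⟨κ, hκ⟩ := mem_kline.mp hba
        obtain ⟨μ, rfl⟩ := mem_kline.mp hea
        have hκ0 : κ ≠ 0 := by
          rintro rfl
          rw [zero_smul] at hκ
          exact hb hκ.symm
        refine mem_kline.mpr ⟨μ * κ⁻¹, ?_⟩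
        rw [← hκ, smul_smul, mul_assoc, inv_mul_cancel₀ hκ0, mul_one]
      · exact ⟨b, hba⟩
    have hc0 : c ≠ 0 := by
      rintro rfl
      exact hc (Submodule.zero_mem _)
    exact inT_of_perp ha hc (hP a ha) (hP c hc0) ψ hψ
  -- conclusion
  intro ψ a t hψa ht
  by_cases ha : a = 0
  · subst ha
    have : t = 1 := by
      ext v
      rw [ht]
      simp
    rw [this]
    exact X.one_mem
  · obtain ⟨-, t', ht'X, ht'⟩ := hall a ha ψ hψa
    have : t = t' := by
      ext v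
      rw [ht, ht']
    rw [this]
    exact ht'X

end Cfsg.Agent.Lib.H29.C3Max
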