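import Mathlib

/-!
# Steinberg's presentation: the rank one computation (Steinberg, Lemma 39)

In a group with elements `x t`, `y t` that behave as the root elements of a pair of opposite roots, the elements
`h t = w t * w (-1)`, `w t = x t * y (-t⁻¹) * x t`, are multiplicative in `t` as soon as the field is finite and the
defects `h t * h u * (h (t * u))⁻¹` are central.
-/

set_option autoImplicit false
set_option linter.unusedSectionVars false
set_option linter.unusedSimpArgs false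
set_option linter.unusedVariables false

namespace Cfsg.Agent.Lib.H29.Chev

namespace Rk1

variable {F : Type*} [Field F] {M : Type*} [Group M]

/-- the element `w(t) = x(t) y(-t⁻¹) x(t)` -/
def w (x y : F → M) (t : F) : M := x t * y (-t⁻¹) * x t

/-- the element `h(t) = w(t) w(-1)` -/
def h (x y : F → M) (t : F) : M := w x y t * w x y (-1)

/-- the hypotheses on the root elements -/
structure Ax (x y : F → M) : Prop where
  x_add : ∀ a b, x a * x b = x (a + b)
  y_add : ∀ a b, y a * y b = y (a + b)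
  cx : ∀ t, t ≠ 0 → ∀ u, w x y t * x u * (w x y t)⁻¹ = y (-(t⁻¹ * t⁻¹) * u)
  cy : ∀ t, t ≠ 0 → ∀ u, w x y t * y u * (w x y t)⁻¹ = x (-(t * t) * u)

variable {x y : F → M} (A : Ax x y)
include A

theorem x_zero : x 0 = 1 := by
  have := A.x_add 0 0
  rw [add_zero] at this
  exact mul_eq_left.mp this

theorem y_zero : y 0 = 1 := by
  have := A.y_add 0 0
  rw [add_zero] at this
  exact mul_eq_left.mp this

theorem x_inv (a : F) : (x a)⁻¹ = x (-a) := by
  apply inv_eq_of_mul_eq_one_right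
  rw [A.x_add, add_neg_cancel, x_zero A]

theorem y_inv (a : F) : (y a)⁻¹ = y (-a) := by
  apply inv_eq_of_mul_eq_one_right
  rw [A.y_add, add_neg_cancel, y_zero A]

theorem w_inv (t : F) : (w x y t)⁻¹ = w x y (-t) := by
  unfold w
  rw [mul_inv_rev, mul_inv_rev, x_inv A, y_inv A, inv_neg, neg_neg, ← mul_assoc]

/-- `y(-s⁻¹) x(s) y(-s⁻¹) = w(s)` -/
theorem wm_eq (s : F) (hs : s ≠ 0) : y (-s⁻¹) * x s * y (-s⁻¹) = w x y s := by
  have e : w x y s * w x y s * (w x y s)⁻¹ = w x y s := by group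
  have e2 : w x y s * w x y s * (w x y s)⁻¹ =
      (w x y s * x s * (w x y s)⁻¹) * (w x y s * y (-s⁻¹) * (w x y s)⁻¹) * (w x y s * x s * (w x y s)⁻¹) := by
    conv_lhs => rw [show w x y s * w x y s * (w x y s)⁻¹ = w x y s * (x s * y (-s⁻¹) * x s) * (w x y s)⁻¹ from rfl]
    group
  rw [e2, A.cx s hs, A.cy s hs] at e
  have p1 : -(s⁻¹ * s⁻¹) * s = -s⁻¹ := by field_simp
  have p2 : -(s * s) * -s⁻¹ = s := by field_simp
  rw [p1, p2] at e
  exact e

theorem w_conj_w (t u : F) (ht : t ≠ 0) (hu : u ≠ 0) :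
    w x y t * w x y u * (w x y t)⁻¹ = w x y (t * t * u⁻¹) := by
  have e2 : w x y t * w x y u * (w x y t)⁻¹ =
      (w x y t * x u * (w x y t)⁻¹) * (w x y t * y (-u⁻¹) * (w x y t)⁻¹) * (w x y t * x u * (w x y t)⁻¹) := by
    conv_lhs => rw [show w x y t * w x y u * (w x y t)⁻¹ = w x y t * (x u * y (-u⁻¹) * x u) * (w x y t)⁻¹ from rfl]
    group
  rw [e2, A.cx t ht, A.cy t ht]
  have hs : t * t * u⁻¹ ≠ 0 := mul_ne_zero (mul_ne_zero ht ht) (inv_ne_zero hu)
  rw [← wm_eq A _ hs]
  have p1 : -(t⁻¹ * t⁻¹) * u = -(t * t * u⁻¹)⁻¹ := by field_simp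
  have p2 : -(t * t) * -u⁻¹ = t * t * u⁻¹ := by ring
  rw [p1, p2]

theorem h_conj_w (t u : F) (ht : t ≠ 0) (hu : u ≠ 0) :
    h x y t * w x y u * (h x y t)⁻¹ = w x y (t * t * u) := by
  have e : h x y t * w x y u * (h x y t)⁻¹ =
      w x y t * (w x y (-1) * w x y u * (w x y (-1))⁻¹) * (w x y t)⁻¹ := by
    unfold h; group
  rw [e, w_conj_w A (-1) u (neg_ne_zero.mpr one_ne_zero) hu,
    w_conj_w A t _ ht (by simpa using hu)]
  congr 1
  field_simp

theorem h_conj_h (t u : F) (ht : t ≠ 0) (hu : u ≠ 0) :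
    h x y t * h x y u * (h x y t)⁻¹ = h x y (t * t * u) * (h x y (t * t))⁻¹ := by
  have e : h x y t * h x y u * (h x y t)⁻¹ =
      (h x y t * w x y u * (h x y t)⁻¹) * (h x y t * w x y (-1) * (h x y t)⁻¹) := by
    conv_lhs => rw [show h x y u = w x y u * w x y (-1) from rfl]
    group
  rw [e, h_conj_w A t u ht hu, h_conj_w A t (-1) ht (neg_ne_zero.mpr one_ne_zero)]
  have e2 : h x y (t * t * u) * (h x y (t * t))⁻¹ = w x y (t * t * u) * (w x y (t * t))⁻¹ := by
    unfold h; group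
  rw [e2, w_inv A]
  congr 2
  ring

theorem h_one : h x y (1 : F) = 1 := by
  unfold h
  rw [← w_inv A, mul_inv_cancel]

theorem w_eq_h (s : F) : w x y s = h x y s * w x y 1 := by
  have e : w x y 1 = (w x y (-1))⁻¹ := by rw [w_inv A, neg_neg]
  rw [e]
  unfold h
  group

/-- `y(b) = x(b⁻¹) w(-b⁻¹) x(b⁻¹)` -/
theorem y_eq (b : F) (hb : b ≠ 0) : y b = x b⁻¹ * w x y (-b⁻¹) * x b⁻¹ := by
  unfold w
  rw [inv_neg, inv_inv, neg_neg]
  have e : x b⁻¹ * (x (-b⁻¹) * y b * x (-b⁻¹)) * x b⁻¹ = (x b⁻¹ * x (-b⁻¹)) * y b * (x (-b⁻¹) * x b⁻¹) := by group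
  rw [e, A.x_add, A.x_add, add_neg_cancel, neg_add_cancel, x_zero A, one_mul, mul_one]

/-- conjugating `x v` by `(w α * w β)⁻¹` -/
theorem conj_ww (a b v : F) (ha : a ≠ 0) (hb : b ≠ 0) :
    x v * (w x y a * w x y b) = (w x y a * w x y b) * x (b * b * (a⁻¹ * a⁻¹) * v) := by
  have e1 : (w x y a)⁻¹ * x v * w x y a = y (-(a⁻¹ * a⁻¹) * v) := by
    have := A.cx (-a) (neg_ne_zero.mpr ha) v
    rw [← w_inv A, inv_inv] at this
    rw [this]
    congr 1
    field_simp
  have e2 : ∀ v', (w x y b)⁻¹ * y v' * w x y b = x (-(b * b) * v') := by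
    intro v'
    have := A.cy (-b) (neg_ne_zero.mpr hb) v'
    rw [← w_inv A, inv_inv] at this
    rw [this]
    congr 1
    ring
  have e3 : (w x y a * w x y b)⁻¹ * x v * (w x y a * w x y b) = x (b * b * (a⁻¹ * a⁻¹) * v) := by
    have : (w x y a * w x y b)⁻¹ * x v * (w x y a * w x y b) =
        (w x y b)⁻¹ * ((w x y a)⁻¹ * x v * w x y a) * w x y b := by group
    rw [this, e1, e2]
    congr 1
    ring
  rw [← e3]
  group

/-- the relation that gives `f(α, β) = 1` for `α + β = 1` -/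
theorem w_add (a b : F) (ha : a ≠ 0) (hb : b ≠ 0) (hab : a + b ≠ 0) :
    w x y (a * b / (a + b)) = w x y (-(a * a) / (a + b)) * w x y a * w x y b := by
  -- the two expressions of `y(-a⁻¹) y(-b⁻¹)`
  have h1 : y (-a⁻¹) = x (-a) * w x y a * x (-a) := by
    have := y_eq A (-a⁻¹) (neg_ne_zero.mpr (inv_ne_zero ha))
    rw [inv_neg, inv_inv, neg_neg] at this
    exact this
  have h2 : y (-b⁻¹) = x (-b) * w x y b * x (-b) := by
    have := y_eq A (-b⁻¹) (neg_ne_zero.mpr (inv_ne_zero hb))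
    rw [inv_neg, inv_inv, neg_neg] at this
    exact this
  have p : (-a⁻¹ + -b⁻¹)⁻¹ = -(a * b / (a + b)) := by
    apply inv_eq_of_mul_eq_one_right
    field_simp
    ring
  have hδ : -a⁻¹ + -b⁻¹ ≠ 0 := by
    intro h0
    rw [h0, inv_zero] at p
    have : a * b / (a + b) ≠ 0 := div_ne_zero (mul_ne_zero ha hb) hab
    exact this (neg_eq_zero.mp p.symm)
  have h3 : y (-a⁻¹ + -b⁻¹) = x (-(a * b / (a + b))) * w x y (a * b / (a + b)) * x (-(a * b / (a + b))) := by
    have := y_eq A (-a⁻¹ + -b⁻¹) hδ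
    rw [p, neg_neg] at this
    exact this
  -- moving `w a` to the right
  have h4 : w x y a * x (-(a + b)) = y ((a + b) * (a⁻¹ * a⁻¹)) * w x y a := by
    have := A.cx a ha (-(a + b))
    have p' : -(a⁻¹ * a⁻¹) * -(a + b) = (a + b) * (a⁻¹ * a⁻¹) := by ring
    rw [p'] at this
    rw [← this]
    group
  have hc : (a + b) * (a⁻¹ * a⁻¹) ≠ 0 := mul_ne_zero hab (mul_ne_zero (inv_ne_zero ha) (inv_ne_zero ha))
  have p5 : ((a + b) * (a⁻¹ * a⁻¹))⁻¹ = a * a / (a + b) := by
    apply inv_eq_of_mul_eq_one_right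
    field_simp
  have h5 : y ((a + b) * (a⁻¹ * a⁻¹)) =
      x (a * a / (a + b)) * w x y (-(a * a) / (a + b)) * x (a * a / (a + b)) := by
    have := y_eq A _ hc
    rw [p5] at this
    rw [this, neg_div]
  have h6 := conj_ww A a b (a * a / (a + b)) ha hb
  have p1 : -a + a * a / (a + b) = -(a * b / (a + b)) := by
    field_simp
    ring
  have p2 : b * b * (a⁻¹ * a⁻¹) * (a * a / (a + b)) + -b = -(a * b / (a + b)) := by
    field_simp
    ring
  have key : x (-(a * b / (a + b))) * w x y (a * b / (a + b)) * x (-(a * b / (a + b))) =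
      x (-(a * b / (a + b))) * (w x y (-(a * a) / (a + b)) * w x y a * w x y b) * x (-(a * b / (a + b))) := by
    rw [← h3, ← A.y_add, h1, h2]
    have e : x (-a) * w x y a * x (-a) * (x (-b) * w x y b * x (-b)) =
        x (-a) * (w x y a * (x (-a) * x (-b))) * w x y b * x (-b) := by group
    rw [e, A.x_add, show -a + -b = -(a + b) by ring, h4, h5]
    have e' : x (-a) * (x (a * a / (a + b)) * w x y (-(a * a) / (a + b)) * x (a * a / (a + b)) * w x y a) *
        w x y b * x (-b) =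
        (x (-a) * x (a * a / (a + b))) * w x y (-(a * a) / (a + b)) *
          (x (a * a / (a + b)) * (w x y a * w x y b)) * x (-b) := by
      group
    rw [e', h6, A.x_add]
    have e'' : x (-a + a * a / (a + b)) * w x y (-(a * a) / (a + b)) *
        (w x y a * w x y b * x (b * b * (a⁻¹ * a⁻¹) * (a * a / (a + b)))) * x (-b) =
        x (-a + a * a / (a + b)) * (w x y (-(a * a) / (a + b)) * w x y a * w x y b) *
          (x (b * b * (a⁻¹ * a⁻¹) * (a * a / (a + b))) * x (-b)) := by group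
    rw [e'', A.x_add, p1, p2]
  exact mul_left_cancel (mul_right_cancel key)

/-- the defect of multiplicativity of `h` -/
def f (x y : F → M) (t u : F) : M := h x y t * h x y u * (h x y (t * u))⁻¹

theorem h_mul_eq (t u : F) : h x y t * h x y u = f x y t u * h x y (t * u) := by
  unfold f; group

/-- `n h(s) n⁻¹ = h(s⁻¹)` for `n = w(1)` -/
theorem w1_conj_h (s : F) (hs : s ≠ 0) : w x y 1 * h x y s * (w x y 1)⁻¹ = h x y s⁻¹ := by
  have e : w x y 1 * h x y s * (w x y 1)⁻¹ =
      (w x y 1 * w x y s * (w x y 1)⁻¹) * (w x y 1 * w x y (-1) * (w x y 1)⁻¹) := by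
    conv_lhs => rw [show h x y s = w x y s * w x y (-1) from rfl]
    group
  rw [e, w_conj_w A 1 s one_ne_zero hs, w_conj_w A 1 (-1) one_ne_zero (neg_ne_zero.mpr one_ne_zero)]
  unfold h
  congr 2
  · ring
  · rw [inv_neg, inv_one]; ring

section Central

variable (hcen : ∀ t u : F, t ≠ 0 → u ≠ 0 → ∀ g : M, g * f x y t u = f x y t u * g)
include hcen

/-- the cocycle identity -/
theorem f_cocycle (t u v : F) (ht : t ≠ 0) (hu : u ≠ 0) (hv : v ≠ 0) :
    f x y t u * f x y (t * u) v = f x y u v * f x y t (u * v) := by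
  have e1 : h x y t * h x y u * h x y v = f x y t u * f x y (t * u) v * h x y (t * u * v) := by
    rw [h_mul_eq A t u, mul_assoc, h_mul_eq A (t * u) v, ← mul_assoc]
  have e2 : h x y t * h x y u * h x y v = f x y u v * f x y t (u * v) * h x y (t * u * v) := by
    rw [mul_assoc, h_mul_eq A u v, ← mul_assoc, hcen u v hu hv (h x y t), mul_assoc, h_mul_eq A t (u * v),
      ← mul_assoc, ← mul_assoc t u v]
  exact mul_right_cancel (e1.symm.trans e2)

variable [Finite F]

/-- the elements `h t` commute -/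
theorem h_comm (t u : F) (ht : t ≠ 0) (hu : u ≠ 0) : h x y t * h x y u = h x y u * h x y t := by
  obtain ⟨γ, hγ⟩ := IsCyclic.exists_generator (α := Fˣ)
  have hpow : ∀ k : ℕ, ∃ z : M, (∀ g : M, g * z = z * g) ∧ h x y (((γ ^ k : Fˣ) : F)) = z * (h x y (γ : F)) ^ k := by
    intro k
    induction k with
    | zero => exact ⟨1, fun g => by simp, by simp [h_one A]⟩
    | succ k ih =>
      obtain ⟨z, hz, e⟩ := ih
      have hk0 : ((γ ^ k : Fˣ) : F) ≠ 0 := Units.ne_zero _
      refine ⟨(f x y (γ : F) ((γ ^ k : Fˣ) : F))⁻¹ * z, ?_, ?_⟩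
      · intro g
        have h1 := hcen (γ : F) _ (Units.ne_zero γ) hk0
        have h2 : g * (f x y (γ : F) ((γ ^ k : Fˣ) : F))⁻¹ = (f x y (γ : F) ((γ ^ k : Fˣ) : F))⁻¹ * g := by
          have := h1 g
          calc g * (f x y (γ : F) ((γ ^ k : Fˣ) : F))⁻¹
              = (f x y (γ : F) ((γ ^ k : Fˣ) : F))⁻¹ * (f x y (γ : F) ((γ ^ k : Fˣ) : F) * g) *
                (f x y (γ : F) ((γ ^ k : Fˣ) : F))⁻¹ := by group
            _ = (f x y (γ : F) ((γ ^ k : Fˣ) : F))⁻¹ * g := by rw [← this]; group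
        rw [← mul_assoc, h2, mul_assoc, hz g, mul_assoc]
      · have e1 : ((γ ^ (k + 1) : Fˣ) : F) = (γ : F) * ((γ ^ k : Fˣ) : F) := by
          rw [pow_succ', Units.val_mul]
        have e2 := h_mul_eq A (γ : F) ((γ ^ k : Fˣ) : F)
        rw [e1]
        have e3 : h x y ((γ : F) * ((γ ^ k : Fˣ) : F)) =
            (f x y (γ : F) ((γ ^ k : Fˣ) : F))⁻¹ * (h x y (γ : F) * h x y ((γ ^ k : Fˣ) : F)) := by
          rw [e2]; group
        rw [e3, e, ← mul_assoc (h x y (γ : F)), hz (h x y (γ : F)), pow_succ']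
        group
  have hex : ∀ s : F, s ≠ 0 → ∃ k : ℕ, s = ((γ ^ k : Fˣ) : F) := by
    intro s hs
    have h1 : Units.mk0 s hs ∈ Submonoid.powers γ := by
      rw [mem_powers_iff_mem_zpowers]; exact hγ _
    obtain ⟨k, hk⟩ := h1
    have := congrArg Units.val hk
    exact ⟨k, by simpa using this.symm⟩
  obtain ⟨j, rfl⟩ := hex t ht
  obtain ⟨k, rfl⟩ := hex u hu
  obtain ⟨z, hz, e⟩ := hpow j
  obtain ⟨z', hz', e'⟩ := hpow k
  rw [e, e']
  calc z * h x y (γ : F) ^ j * (z' * h x y (γ : F) ^ k)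
      = z * (h x y (γ : F) ^ j * z') * h x y (γ : F) ^ k := by group
    _ = z * (z' * h x y (γ : F) ^ j) * h x y (γ : F) ^ k := by rw [hz']
    _ = z * z' * (h x y (γ : F) ^ j * h x y (γ : F) ^ k) := by group
    _ = z * z' * (h x y (γ : F) ^ k * h x y (γ : F) ^ j) := by rw [← pow_add, ← pow_add, add_comm]
    _ = z' * (z * h x y (γ : F) ^ k) * h x y (γ : F) ^ j := by rw [← hz z']; group
    _ = z' * (h x y (γ : F) ^ k * z) * h x y (γ : F) ^ j := by rw [hz]
    _ = z' * h x y (γ : F) ^ k * (z * h x y (γ : F) ^ j) := by group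

theorem f_symm (t u : F) (ht : t ≠ 0) (hu : u ≠ 0) : f x y t u = f x y u t := by
  unfold f
  rw [h_comm A hcen t u ht hu, mul_comm t u]

/-- `f(t², u) = 1` -/
theorem f_sq_left (t u : F) (ht : t ≠ 0) (hu : u ≠ 0) : f x y (t * t) u = 1 := by
  have e := h_conj_h A t u ht hu
  rw [h_comm A hcen t u ht hu, mul_inv_cancel_right] at e
  unfold f
  rw [e]
  have := h_comm A hcen (t * t) (t * t * u) (mul_ne_zero ht ht) (mul_ne_zero (mul_ne_zero ht ht) hu)
  rw [← mul_assoc, this]
  group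

theorem f_sq_right (t u : F) (ht : t ≠ 0) (hu : u ≠ 0) : f x y t (u * u) = 1 := by
  rw [f_symm A hcen t _ ht (mul_ne_zero hu hu)]
  exact f_sq_left A hcen u t hu ht

/-- `f(t, u s²) = f(t, u)` -/
theorem f_mul_sq (t u s : F) (ht : t ≠ 0) (hu : u ≠ 0) (hs : s ≠ 0) : f x y t (u * (s * s)) = f x y t u := by
  have := f_cocycle A hcen t u (s * s) ht hu (mul_ne_zero hs hs)
  rw [f_sq_right A hcen (t * u) s (mul_ne_zero ht hu) hs, f_sq_right A hcen u s hu hs, mul_one, one_mul] at this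
  exact this.symm

theorem f_sq_mul (t u s : F) (ht : t ≠ 0) (hu : u ≠ 0) (hs : s ≠ 0) : f x y (t * (s * s)) u = f x y t u := by
  rw [f_symm A hcen _ u (mul_ne_zero ht (mul_ne_zero hs hs)) hu, f_mul_sq A hcen u t s hu ht hs,
    f_symm A hcen u t hu ht]

/-- `f(a, b) = 1` when `a + b = 1` -/
theorem f_add_one (a b : F) (ha : a ≠ 0) (hb : b ≠ 0) (hab : a + b = 1) : f x y a b = 1 := by
  have e := w_add A a b ha hb (by rw [hab]; exact one_ne_zero)
  rw [hab, div_one, div_one] at e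
  rw [w_eq_h A (a * b), w_eq_h A (-(a * a)), w_eq_h A a, w_eq_h A b] at e
  set n := w x y (1 : F) with hn
  -- `n² = h(-1)⁻¹`
  have hn2 : n * n = (h x y (-1 : F))⁻¹ := by
    have : h x y (-1 : F) = n⁻¹ * n⁻¹ := by
      unfold h
      rw [hn, w_inv A]
    rw [this, mul_inv_rev, inv_inv]
  have e2 : h x y (a * b) = h x y (-(a * a)) * (n * h x y a * n⁻¹) * (n * n) * h x y b := by
    have : h x y (a * b) = (h x y (a * b) * n) * n⁻¹ := by group
    rw [this, e]; group
  rw [w1_conj_h A a ha, hn2] at e2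
  -- `h(-a²) = h(-1) h(a²)`
  have m1 : (-1 : F) ≠ 0 := neg_ne_zero.mpr one_ne_zero
  have haa : a * a ≠ 0 := mul_ne_zero ha ha
  have e3 : h x y (-(a * a)) = h x y (-1 : F) * h x y (a * a) := by
    have := h_mul_eq A (-1 : F) (a * a)
    rw [f_sq_right A hcen (-1) a m1 ha, one_mul, neg_one_mul] at this
    exact this.symm
  have e4 : h x y (a * a) * h x y a⁻¹ = h x y a := by
    have := h_mul_eq A (a * a) a⁻¹
    rw [f_sq_left A hcen a a⁻¹ ha (inv_ne_zero ha), one_mul, mul_assoc, mul_inv_cancel₀ ha, mul_one] at this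
    exact this
  have e5 : h x y (a * b) = h x y a * h x y b := by
    rw [e2, e3, mul_assoc (h x y (-1 : F)), e4, h_comm A hcen (-1) a m1 ha]
    group
  unfold f
  rw [← e5, mul_inv_cancel]

/-- over a finite field `h` is multiplicative -/
theorem h_mul (t u : F) (ht : t ≠ 0) (hu : u ≠ 0) : h x y t * h x y u = h x y (t * u) := by
  rw [h_mul_eq A t u]
  suffices hf : f x y t u = 1 by rw [hf, one_mul]
  have := Fintype.ofFinite F
  by_cases h2 : ringChar F = 2
  · obtain ⟨s, rfl⟩ := FiniteField.isSquare_of_char_two h2 u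
    have hs : s ≠ 0 := by rintro rfl; simp at hu
    exact f_sq_right A hcen t s ht hs
  · by_cases hsu : IsSquare u
    · obtain ⟨s, rfl⟩ := hsu
      have hs : s ≠ 0 := by rintro rfl; simp at hu
      exact f_sq_right A hcen t s ht hs
    by_cases hst : IsSquare t
    · obtain ⟨s, rfl⟩ := hst
      have hs : s ≠ 0 := by rintro rfl; simp at ht
      exact f_sq_left A hcen s u hs hu
    -- both are non-squares
    have key : ∀ v w : F, v ≠ 0 → w ≠ 0 → ¬ IsSquare v → ¬ IsSquare w → ∃ s : F, s ≠ 0 ∧ v = w * (s * s) := by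
      intro v w hv hw hnv hnw
      have dv := FiniteField.pow_dichotomy h2 hv
      have dw := FiniteField.pow_dichotomy h2 hw
      rw [FiniteField.isSquare_iff h2 hv] at hnv
      rw [FiniteField.isSquare_iff h2 hw] at hnw
      have dv' := dv.resolve_left hnv
      have dw' := dw.resolve_left hnw
      have hvw : v * w⁻¹ ≠ 0 := mul_ne_zero hv (inv_ne_zero hw)
      have : IsSquare (v * w⁻¹) := by
        rw [FiniteField.isSquare_iff h2 hvw, mul_pow, inv_pow, dv', dw']
        norm_num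
      obtain ⟨s, hs⟩ := this
      refine ⟨s, ?_, ?_⟩
      · rintro rfl
        rw [mul_zero] at hs
        exact hvw hs
      · rw [← hs]; field_simp
    -- two non-squares with sum `1`
    have hquad : ∃ a b : F, t * (a * a) + t * (b * b) = 1 := by
      have hd1 : (Polynomial.C t * Polynomial.X ^ 2 : Polynomial F).degree = 2 := by
        rw [Polynomial.degree_C_mul_X_pow 2 ht]; rfl
      have hd2 : (Polynomial.C t * Polynomial.X ^ 2 - Polynomial.C 1 : Polynomial F).degree = 2 := by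
        rw [Polynomial.degree_sub_eq_left_of_degree_lt]
        · exact hd1
        · rw [hd1]
          exact lt_of_le_of_lt Polynomial.degree_C_le (by norm_num)
      obtain ⟨a, b, hab⟩ := FiniteField.exists_root_sum_quadratic hd1 hd2 (FiniteField.odd_card_of_char_ne_two h2)
      refine ⟨a, b, ?_⟩
      simp only [Polynomial.eval_mul, Polynomial.eval_C, Polynomial.eval_pow, Polynomial.eval_X,
        Polynomial.eval_sub, Polynomial.eval_one] at hab
      linear_combination hab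
    obtain ⟨a, b, hab⟩ := hquad
    have ha : a ≠ 0 := by
      rintro rfl
      apply hst
      have h1 : t * (b * b) = 1 := by simpa using hab
      refine ⟨b⁻¹, ?_⟩
      rw [← mul_inv, inv_eq_of_mul_eq_one_left h1]
    have hb : b ≠ 0 := by
      rintro rfl
      apply hst
      have h1 : t * (a * a) = 1 := by simpa using hab
      refine ⟨a⁻¹, ?_⟩
      rw [← mul_inv, inv_eq_of_mul_eq_one_left h1]
    have e1 := f_add_one A hcen (t * (a * a)) (t * (b * b)) (mul_ne_zero ht (mul_ne_zero ha ha))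
      (mul_ne_zero ht (mul_ne_zero hb hb)) hab
    rw [f_sq_mul A hcen t _ a ht (mul_ne_zero ht (mul_ne_zero hb hb)) ha, f_mul_sq A hcen t t b ht ht hb] at e1
    obtain ⟨s, hs, rfl⟩ := key u t hu ht hsu hst
    rw [f_mul_sq A hcen t t s ht ht hs]
    exact e1

end Central

end Rk1

end Cfsg.Agent.Lib.H29.Chev
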