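import Mathlib

/-!
# S4467 piece COUNT (helper29 for helper15)

`p ∣ |Q|`, `V` normal of order `r^k` (`r ≠ p`), self-centralizing: then `p ∣ r^j - 1` for some `1 ≤ j ≤ k`.
-/

set_option autoImplicit false

namespace Cfsg.Agent.Lib.H29.DX

/-- COUNT -/
theorem exists_pow_sub_one_of_action {Q : Type*} [Group Q] [Finite Q] (p r k : ℕ)
    [Fact p.Prime] (hr : r.Prime) (hpr : r ≠ p) (V : Subgroup Q) [V.Normal]
    (hV : Nat.card V = r ^ k) (hcen : Subgroup.centralizer (V : Set Q) ≤ V)
    (hp : p ∣ Nat.card Q) : ∃ j, 1 ≤ j ∧ j ≤ k ∧ p ∣ r ^ j - 1 := by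
  classical
  have hpp : p.Prime := Fact.out
  obtain ⟨y, hy⟩ := exists_prime_orderOf_dvd_card' p hp
  -- `y ∉ V`
  have hyV : y ∉ V := by
    intro hyV
    have h1 : orderOf (⟨y, hyV⟩ : V) ∣ Nat.card V := orderOf_dvd_natCard _
    rw [Subgroup.orderOf_mk, hy, hV] at h1
    have := (Nat.prime_dvd_prime_iff_eq hpp hr).mp (hpp.dvd_of_dvd_pow h1)
    exact hpr this.symm
  -- `y` does not centralize `V`
  have hyC : y ∉ Subgroup.centralizer (V : Set Q) := fun h => hyV (hcen h)
  -- the action of `⟨y⟩` on `V`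
  let P : Subgroup Q := Subgroup.zpowers y
  have hPcard : Nat.card P = p := by rw [Nat.card_zpowers, hy]
  have hP : IsPGroup p P := IsPGroup.of_card (n := 1) (by rw [hPcard, pow_one])
  let _ : MulDistribMulAction P V :=
    MulDistribMulAction.compHom V ((MulAut.conjNormal (H := V)).comp P.subtype)
  have hsmul : ∀ (g : P) (v : V), ((g • v : V) : Q) = (g : Q) * v * (g : Q)⁻¹ := fun g v => rfl
  have hmod := hP.card_modEq_card_fixedPoints V
  -- the fixed points form a subgroup `F` of `V`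
  set F : Subgroup V := FixedPoints.subgroup P V with hF
  have hFcard : Nat.card (MulAction.fixedPoints P V) = Nat.card F := rfl
  rw [hFcard, hV] at hmod
  have hFdvd : Nat.card F ∣ r ^ k := by rw [← hV]; exact Subgroup.card_subgroup_dvd_card F
  obtain ⟨c, hck, hc⟩ := (Nat.dvd_prime_pow hr).mp hFdvd
  -- `F ≠ ⊤`
  have hFtop : F ≠ ⊤ := by
    intro htop
    apply hyC
    rw [Subgroup.mem_centralizer_iff]
    intro v hv
    have h1 : (⟨v, hv⟩ : V) ∈ F := by rw [htop]; exact Subgroup.mem_top _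
    have h2 := (FixedPoints.mem_subgroup P V _).mp h1 ⟨y, Subgroup.mem_zpowers y⟩
    have h3 := congrArg (Subtype.val) h2
    rw [hsmul] at h3
    simp only at h3
    -- y * v * y⁻¹ = v
    calc v * y = (y * v * y⁻¹) * y := by rw [h3]
      _ = y * v := by group
  have hclt : c < k := by
    rcases Nat.lt_or_ge c k with h | h
    · exact h
    · exfalso
      apply hFtop
      have hck' : c = k := le_antisymm hck h
      apply Subgroup.eq_top_of_card_eq
      rw [hc, hck', hV]
  refine ⟨k - c, by omega, by omega, ?_⟩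
  rw [hc] at hmod
  -- r^k ≡ r^c mod p
  have h1 : p ∣ r ^ k - r ^ c := by
    have := (Nat.modEq_iff_dvd' (Nat.pow_le_pow_right hr.pos hck)).mp hmod.symm
    exact this
  have h2 : r ^ k - r ^ c = r ^ c * (r ^ (k - c) - 1) := by
    rw [Nat.mul_sub, mul_one, ← pow_add]
    congr 2
    omega
  rw [h2] at h1
  rcases (Nat.Prime.dvd_mul hpp).mp h1 with h | h
  · exfalso
    have := (Nat.prime_dvd_prime_iff_eq hpp hr).mp (hpp.dvd_of_dvd_pow h)
    exact hpr this.symm
  · exact h

end Cfsg.Agent.Lib.H29.DX
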