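import Mathlib
import Cfsg.Prelude.Def_GeometricClasses

/-!
# The standard odd-dimensional quadratic form is non-degenerate in odd characteristic (helper29)
-/

set_option autoImplicit false

namespace Cfsg.Agent.Lib.H29.QuadOdd

open QuadraticMap

variable {F : Type*} [Field F] (m : ℕ)

theorem polar_quadFormOdd (v w : Unit ⊕ (Fin m ⊕ Fin m) → F) :
    polar (Cfsg.quadFormOdd m F) v w = 2 * v (.inl ()) * w (.inl ()) +
      ∑ i : Fin m, (v (.inr (.inl i)) * w (.inr (.inr i)) + w (.inr (.inl i)) * v (.inr (.inr i))) := by
  unfold polar Cfsg.quadFormOdd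
  simp only [Pi.add_apply]
  have hs : ∑ i : Fin m, (v (.inr (.inl i)) + w (.inr (.inl i))) * (v (.inr (.inr i)) + w (.inr (.inr i)))
      = ∑ i : Fin m, v (.inr (.inl i)) * v (.inr (.inr i)) + ∑ i : Fin m, w (.inr (.inl i)) * w (.inr (.inr i))
        + ∑ i : Fin m, (v (.inr (.inl i)) * w (.inr (.inr i)) + w (.inr (.inl i)) * v (.inr (.inr i))) := by
    rw [← Finset.sum_add_distrib, ← Finset.sum_add_distrib]
    refine Finset.sum_congr rfl fun i _ => ?_
    ring
  rw [hs]
  ring

theorem isNondegenerateQuadraticForm (h2 : (2 : F) ≠ 0) :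
    Cfsg.Geo.IsNondegenerateQuadraticForm (Cfsg.quadFormOdd m F) := by
  refine ⟨?_, ⟨?_, ?_, ?_, ?_⟩, ?_⟩
  · intro c v
    unfold Cfsg.quadFormOdd
    simp only [Pi.smul_apply, smul_eq_mul]
    rw [mul_add, Finset.mul_sum]
    congr 1
    · ring
    · refine Finset.sum_congr rfl fun i _ => ?_
      ring
  · intro x y v
    rw [polar_quadFormOdd, polar_quadFormOdd, polar_quadFormOdd]
    simp only [Pi.add_apply]
    have : ∀ a b c d e f : F, a = b + c → d = e + f → a + d = (b + e) + (c + f) := by
      intro a b c d e f h1 h2
      rw [h1, h2]; ring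
    apply this
    · ring
    · rw [← Finset.sum_add_distrib]
      refine Finset.sum_congr rfl fun i _ => ?_
      ring
  · intro c x v
    rw [polar_quadFormOdd, polar_quadFormOdd]
    simp only [Pi.smul_apply, smul_eq_mul]
    rw [mul_add, Finset.mul_sum]
    congr 1
    · ring
    · refine Finset.sum_congr rfl fun i _ => ?_
      ring
  · intro v x y
    rw [polar_quadFormOdd, polar_quadFormOdd, polar_quadFormOdd]
    simp only [Pi.add_apply]
    have : ∀ a b c d e f : F, a = b + c → d = e + f → a + d = (b + e) + (c + f) := by
      intro a b c d e f h1 h2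
      rw [h1, h2]; ring
    apply this
    · ring
    · rw [← Finset.sum_add_distrib]
      refine Finset.sum_congr rfl fun i _ => ?_
      ring
  · intro c v x
    rw [polar_quadFormOdd, polar_quadFormOdd]
    simp only [Pi.smul_apply, smul_eq_mul]
    rw [mul_add, Finset.mul_sum]
    congr 1
    · ring
    · refine Finset.sum_congr rfl fun i _ => ?_
      ring
  · intro v hv
    have key : ∃ x, polar (Cfsg.quadFormOdd m F) x v ≠ 0 := by
      by_contra hcon
      push Not at hcon
      apply hv
      funext j
      rcases j with ⟨⟩ | j | j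
      · have := hcon (Pi.single (.inl ()) 1)
        rw [polar_quadFormOdd] at this
        simp only [Pi.single_apply, reduceCtorEq, if_false, zero_mul, mul_zero, add_zero,
          Finset.sum_const_zero, if_true, mul_one] at this
        rcases mul_eq_zero.mp this with h | h
        · exact absurd h h2
        · exact h
      · have := hcon (Pi.single (.inr (.inr j)) 1)
        rw [polar_quadFormOdd] at this
        simp only [Pi.single_apply, reduceCtorEq, if_false, zero_mul, mul_zero, zero_add,
          Sum.inr.injEq] at this
        simpa using this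
      · have := hcon (Pi.single (.inr (.inl j)) 1)
        rw [polar_quadFormOdd] at this
        simp only [Pi.single_apply, reduceCtorEq, if_false, zero_mul, mul_zero, zero_add,
          Sum.inr.injEq, Sum.inl.injEq, add_zero] at this
        simpa using this
    refine ⟨key, ?_⟩
    obtain ⟨x, hx⟩ := key
    exact ⟨x, by rwa [polar_comm]⟩

end Cfsg.Agent.Lib.H29.QuadOdd
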