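import Mathlib
import Cfsg.Agent.S0319

/-!
# Normal subgroups of a group with an irreducible `(B, N)`-pair
-/

set_option autoImplicit false

namespace Cfsg.Agent.Lib.H29

open Cfsg Cfsg.Agent.Lib.H2.BN

/-- a normal subgroup of a group with an irreducible `(B, N)`-pair lies in `B` or supplements `B` -/
theorem normal_le_B_or_sup_top {G : Type*} [Group G] (P : Cfsg.BNPair G) (hirr : P.Irreducible)
    (H : Subgroup G) [hH : H.Normal] : H ≤ P.B ∨ P.B ⊔ H = ⊤ := by
  have hX : {s | s ∈ P.S ∧ s ∈ P.B ⊔ H} ⊆ P.S := fun s hs => hs.1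
  have hpar := eq_parabolic_of_le (P := P) (P.B ⊔ H) le_sup_left
  by_cases hXe : ({s | s ∈ P.S ∧ s ∈ P.B ⊔ H} : Set G).Nonempty
  · by_cases hXc : (P.S \ {s | s ∈ P.S ∧ s ∈ P.B ⊔ H}).Nonempty
    · exfalso
      obtain ⟨s, hs, s', hs', hc⟩ := hirr _ hX hXe hXc
      exact hc (Cfsg.Agent.S0319.comm_mem P H hs.1 hs'.1 hs.2 (fun h => hs'.2 ⟨hs'.1, h⟩))
    · right
      rw [Set.not_nonempty_iff_eq_empty, Set.sdiff_eq_empty] at hXc
      rw [eq_top_iff, ← parabolic_S (P := P), hpar]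
      exact parabolic_mono hXc
  · left
    rw [Set.not_nonempty_iff_eq_empty] at hXe
    rw [hXe] at hpar
    have hB : P.B ⊔ H = P.B := by
      rw [hpar, BNPair.parabolic, Subgroup.closure_empty, sup_bot_eq]
    rw [← hB]
    exact le_sup_right

end Cfsg.Agent.Lib.H29
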