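import Mathlib
import Cfsg.Prelude.Def_ChevB2
import Cfsg.Agent.Lib.H29.ChevFast

/-! Packed tables of the Chevalley datum of type B2 (generated) -/

set_option autoImplicit false

namespace Cfsg.Agent.Lib.H29.Chev

open Cfsg.Lie

def fdB2t1 (r : ℕ) : ℕ :=
  (bif Nat.blt r 4 then
    (bif Nat.blt r 2 then
      (bif Nat.blt r 1 then
        0x702090100000000000000000000
      else
        0x70500000603090200000a0000000000)
    else
      (bif Nat.blt r 3 then
        0x9060604000000000901000006000000
      else
        0x905000000000000070100000000))
  else
    (bif Nat.blt r 6 then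
      (bif Nat.blt r 5 then
        0x90600000000000007020000
      else
        0xa0700000706000000000a030701)
    else
      (bif Nat.blt r 7 then
        0x607000007050a0400000902
      else
        0x70609050000)))

def fdB2t2 (r : ℕ) : ℕ :=
  (bif Nat.blt r 4 then
    (bif Nat.blt r 2 then
      (bif Nat.blt r 1 then
        0
      else
        0x9030000000009000000000000000000)
    else
      (bif Nat.blt r 3 then
        0x7040000000000000700000000000000
      else
        0))
  else
    (bif Nat.blt r 6 then
      (bif Nat.blt r 5 then
        0
      else
        0x7070000000000000703)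
    else
      (bif Nat.blt r 7 then
        0x907000000000904
      else
        0)))

def fdB2t3 (_ : ℕ) : ℕ := 0

def fdB2 : FD where
  l := 2
  n := 8
  car := 0x897a6978a8a6a686
  cor := 0x99a9899878876777
  t1 := fdB2t1
  t2 := fdB2t2
  t3 := fdB2t3
  simples := [5, 4]

set_option maxRecDepth 1000000 in
set_option maxHeartbeats 0 in
theorem fdB2_agrees : Agrees chevB2 fdB2 := by decide +kernel

end Cfsg.Agent.Lib.H29.Chev
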