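import Mathlib
import Cfsg.Agent.Lib.H29.ChevDataE6

import Cfsg.Agent.Lib.H29.ChevGen1


set_option autoImplicit false

namespace Cfsg.Agent.Lib.H29.Chev

set_option maxRecDepth 1000000 in
set_option maxHeartbeats 0 in
theorem fdE6_Add_c0s0 : allR 0 24 (fdE6.chkAddR) = true := by decide +kernel

set_option maxRecDepth 1000000 in
set_option maxHeartbeats 0 in
theorem fdE6_Add_c0s1 : allR 24 48 (fdE6.chkAddR) = true := by decide +kernel

set_option maxRecDepth 1000000 in
set_option maxHeartbeats 0 in
theorem fdE6_Add_c0s2 : allR 48 72 (fdE6.chkAddR) = true := by decide +kernel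

theorem fdE6_ChkAdd : fdE6.ChkAdd := by
  intro r hr
  have hr' : r < 72 := hr
  by_cases h24 : r < 24
  · exact allR_spec fdE6_Add_c0s0 r (by omega) h24
  by_cases h48 : r < 48
  · exact allR_spec fdE6_Add_c0s1 r (by omega) h48
  exact allR_spec fdE6_Add_c0s2 r (by omega) hr'

end Cfsg.Agent.Lib.H29.Chev
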