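import Mathlib
import Cfsg.Agent.Lib.H29.ChevDataE8

import Cfsg.Agent.Lib.H29.ChevGen1

set_option autoImplicit false

namespace Cfsg.Agent.Lib.H29.Chev

set_option maxRecDepth 1000000 in
set_option maxHeartbeats 0 in
theorem fdE8_Add_c0s0 : allR 0 7 (fdE8.chkAddR) = true := by decide +kernel

set_option maxRecDepth 1000000 in
set_option maxHeartbeats 0 in
theorem fdE8_Add_c0s1 : allR 7 15 (fdE8.chkAddR) = true := by decide +kernel

set_option maxRecDepth 1000000 in
set_option maxHeartbeats 0 in
theorem fdE8_Add_c0s2 : allR 15 22 (fdE8.chkAddR) = true := by decide +kernel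

set_option maxRecDepth 1000000 in
set_option maxHeartbeats 0 in
theorem fdE8_Add_c0s3 : allR 22 30 (fdE8.chkAddR) = true := by decide +kernel

set_option maxRecDepth 1000000 in
set_option maxHeartbeats 0 in
theorem fdE8_Add_c0s4 : allR 30 37 (fdE8.chkAddR) = true := by decide +kernel

set_option maxRecDepth 1000000 in
set_option maxHeartbeats 0 in
theorem fdE8_Add_c0s5 : allR 37 45 (fdE8.chkAddR) = true := by decide +kernel

set_option maxRecDepth 1000000 in
set_option maxHeartbeats 0 in
theorem fdE8_Add_c0s6 : allR 45 52 (fdE8.chkAddR) = true := by decide +kernel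

set_option maxRecDepth 1000000 in
set_option maxHeartbeats 0 in
theorem fdE8_Add_c0s7 : allR 52 60 (fdE8.chkAddR) = true := by decide +kernel

end Cfsg.Agent.Lib.H29.Chev
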