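import Mathlib
import Cfsg.Agent.Lib.H29.ChevDataE8

import Cfsg.Agent.Lib.H29.ChevGen1

set_option autoImplicit false

namespace Cfsg.Agent.Lib.H29.Chev

set_option maxRecDepth 1000000 in
set_option maxHeartbeats 0 in
theorem fdE8_Add_c3s0 : allR 180 187 (fdE8.chkAddR) = true := by decide +kernel

set_option maxRecDepth 1000000 in
set_option maxHeartbeats 0 in
theorem fdE8_Add_c3s1 : allR 187 195 (fdE8.chkAddR) = true := by decide +kernel

set_option maxRecDepth 1000000 in
set_option maxHeartbeats 0 in
theorem fdE8_Add_c3s2 : allR 195 202 (fdE8.chkAddR) = true := by decide +kernel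

set_option maxRecDepth 1000000 in
set_option maxHeartbeats 0 in
theorem fdE8_Add_c3s3 : allR 202 210 (fdE8.chkAddR) = true := by decide +kernel

set_option maxRecDepth 1000000 in
set_option maxHeartbeats 0 in
theorem fdE8_Add_c3s4 : allR 210 217 (fdE8.chkAddR) = true := by decide +kernel

set_option maxRecDepth 1000000 in
set_option maxHeartbeats 0 in
theorem fdE8_Add_c3s5 : allR 217 225 (fdE8.chkAddR) = true := by decide +kernel

set_option maxRecDepth 1000000 in
set_option maxHeartbeats 0 in
theorem fdE8_Add_c3s6 : allR 225 232 (fdE8.chkAddR) = true := by decide +kernel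

set_option maxRecDepth 1000000 in
set_option maxHeartbeats 0 in
theorem fdE8_Add_c3s7 : allR 232 240 (fdE8.chkAddR) = true := by decide +kernel

end Cfsg.Agent.Lib.H29.Chev
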