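import Mathlib
import Cfsg.Agent.Lib.H29.ChevDataE8

import Cfsg.Agent.Lib.H29.ChevGen1
import Cfsg.Agent.Lib.H29.ChevChkAddE8c0
import Cfsg.Agent.Lib.H29.ChevChkAddE8c1
import Cfsg.Agent.Lib.H29.ChevChkAddE8c2
import Cfsg.Agent.Lib.H29.ChevChkAddE8c3

set_option autoImplicit false

namespace Cfsg.Agent.Lib.H29.Chev

theorem fdE8_ChkAdd : fdE8.ChkAdd := by
  intro r hr
  have hr' : r < 240 := hr
  by_cases h7 : r < 7
  · exact allR_spec fdE8_Add_c0s0 r (by omega) h7
  by_cases h15 : r < 15
  · exact allR_spec fdE8_Add_c0s1 r (by omega) h15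
  by_cases h22 : r < 22
  · exact allR_spec fdE8_Add_c0s2 r (by omega) h22
  by_cases h30 : r < 30
  · exact allR_spec fdE8_Add_c0s3 r (by omega) h30
  by_cases h37 : r < 37
  · exact allR_spec fdE8_Add_c0s4 r (by omega) h37
  by_cases h45 : r < 45
  · exact allR_spec fdE8_Add_c0s5 r (by omega) h45
  by_cases h52 : r < 52
  · exact allR_spec fdE8_Add_c0s6 r (by omega) h52
  by_cases h60 : r < 60
  · exact allR_spec fdE8_Add_c0s7 r (by omega) h60
  by_cases h67 : r < 67
  · exact allR_spec fdE8_Add_c1s0 r (by omega) h67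
  by_cases h75 : r < 75
  · exact allR_spec fdE8_Add_c1s1 r (by omega) h75
  by_cases h82 : r < 82
  · exact allR_spec fdE8_Add_c1s2 r (by omega) h82
  by_cases h90 : r < 90
  · exact allR_spec fdE8_Add_c1s3 r (by omega) h90
  by_cases h97 : r < 97
  · exact allR_spec fdE8_Add_c1s4 r (by omega) h97
  by_cases h105 : r < 105
  · exact allR_spec fdE8_Add_c1s5 r (by omega) h105
  by_cases h112 : r < 112
  · exact allR_spec fdE8_Add_c1s6 r (by omega) h112
  by_cases h120 : r < 120
  · exact allR_spec fdE8_Add_c1s7 r (by omega) h120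
  by_cases h127 : r < 127
  · exact allR_spec fdE8_Add_c2s0 r (by omega) h127
  by_cases h135 : r < 135
  · exact allR_spec fdE8_Add_c2s1 r (by omega) h135
  by_cases h142 : r < 142
  · exact allR_spec fdE8_Add_c2s2 r (by omega) h142
  by_cases h150 : r < 150
  · exact allR_spec fdE8_Add_c2s3 r (by omega) h150
  by_cases h157 : r < 157
  · exact allR_spec fdE8_Add_c2s4 r (by omega) h157
  by_cases h165 : r < 165
  · exact allR_spec fdE8_Add_c2s5 r (by omega) h165
  by_cases h172 : r < 172
  · exact allR_spec fdE8_Add_c2s6 r (by omega) h172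
  by_cases h180 : r < 180
  · exact allR_spec fdE8_Add_c2s7 r (by omega) h180
  by_cases h187 : r < 187
  · exact allR_spec fdE8_Add_c3s0 r (by omega) h187
  by_cases h195 : r < 195
  · exact allR_spec fdE8_Add_c3s1 r (by omega) h195
  by_cases h202 : r < 202
  · exact allR_spec fdE8_Add_c3s2 r (by omega) h202
  by_cases h210 : r < 210
  · exact allR_spec fdE8_Add_c3s3 r (by omega) h210
  by_cases h217 : r < 217
  · exact allR_spec fdE8_Add_c3s4 r (by omega) h217
  by_cases h225 : r < 225
  · exact allR_spec fdE8_Add_c3s5 r (by omega) h225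
  by_cases h232 : r < 232
  · exact allR_spec fdE8_Add_c3s6 r (by omega) h232
  exact allR_spec fdE8_Add_c3s7 r (by omega) hr'

end Cfsg.Agent.Lib.H29.Chev
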