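import Mathlib
import Cfsg.Prelude.Def_ChevG2
import Cfsg.Agent.Lib.H29.ChevFast

/-! Packed tables of the Chevalley datum of type G2 (generated) -/

set_option autoImplicit false

namespace Cfsg.Agent.Lib.H29.Chev

open Cfsg.Lie

def fdG2t1 (r : ℕ) : ℕ :=
  (bif Nat.blt r 6 then
    (bif Nat.blt r 3 then
      (bif Nat.blt r 1 then
        0x7050703090200000901000000000000000000000000
      else
        (bif Nat.blt r 2 then
          0x70600000704000009020000090000000000000000000000
        else
          0x708070700000a040603000000000b010b00000000000000))
    else
      (bif Nat.blt r 4 then
        0x90900000a07000005050904000006020000050000000000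
      else
        (bif Nat.blt r 5 then
          0x9090608050600000000090300000a02050100000000
        else
          0x90a00000000090700000000000007030000000007000000)))
  else
    (bif Nat.blt r 9 then
      (bif Nat.blt r 7 then
        0x90b0000000009080000000000000704000000000701
      else
        (bif Nat.blt r 8 then
          0xb0a060900000708000000000b050a0307020000
        else
          0xb0b00000a09000007070b060000060400000702))
    else
      (bif Nat.blt r 10 then
        0x50b050a000000000a080607000009040903
      else
        (bif Nat.blt r 11 then
          0x70b000007090000090700000905
        else
          0x70a00000709090809060000))))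

def fdG2t2 (r : ℕ) : ℕ :=
  (bif Nat.blt r 6 then
    (bif Nat.blt r 3 then
      (bif Nat.blt r 1 then
        0
      else
        (bif Nat.blt r 2 then
          0
        else
          0x704090300000b0105000000000000000000000000000000))
    else
      (bif Nat.blt r 4 then
        0x9070000050500000000070200000b000000000000000000
      else
        (bif Nat.blt r 5 then
          0x7080b06000000000000090200000501000000000000
        else
          0)))
  else
    (bif Nat.blt r 9 then
      (bif Nat.blt r 7 then
        0
      else
        (bif Nat.blt r 8 then
          0x50a000009090000000000000b0507030000
        else
          0xb0b0000070900000000050600000904))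
    else
      (bif Nat.blt r 10 then
        0x50b0b0a000009080707
      else
        0)))

def fdG2t3 (r : ℕ) : ℕ :=
  (bif Nat.blt r 6 then
    (bif Nat.blt r 3 then
      (bif Nat.blt r 1 then
        0
      else
        (bif Nat.blt r 2 then
          0
        else
          0x70109000000000000000000000000000000000000000000))
    else
      (bif Nat.blt r 4 then
        0x70500000000000000000900000000000000000000000000
      else
        (bif Nat.blt r 5 then
          0x9060000000000000000070100000000000000000000
        else
          0)))
  else
    (bif Nat.blt r 9 then
      (bif Nat.blt r 7 then
        0
      else
        (bif Nat.blt r 8 then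
          0x90a000000000000000007050000
        else
          0x70b00000000000000000906))
    else
      (bif Nat.blt r 10 then
        0x70b090a
      else
        0)))

def fdG2 : FD where
  l := 2
  n := 12
  car := 0x97897a6978978b97a5b69758
  cor := 0xa999bab98998788757567767
  t1 := fdG2t1
  t2 := fdG2t2
  t3 := fdG2t3
  simples := [7, 6]

set_option maxRecDepth 1000000 in
set_option maxHeartbeats 0 in
theorem fdG2_agrees : Agrees chevG2 fdG2 := by decide +kernel

end Cfsg.Agent.Lib.H29.Chev
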