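import Mathlib
import Cfsg.Agent.Lib.H29.ChevFast2

/-! Extra packed tables of the Chevalley datum of type B2 (generated) -/

set_option autoImplicit false

namespace Cfsg.Agent.Lib.H29.Chev

def fxB2nt (r : ℕ) : ℕ :=
  (bif Nat.blt r 4 then
    (bif Nat.blt r 2 then
      (bif Nat.blt r 1 then
        0x1000102000100040003000601050107
      else
        0x30101010500000007010201060004)
    else
      (bif Nat.blt r 3 then
        0x1040106010201070100010501010103
      else
        0x70005010601030104010100020000))
  else
    (bif Nat.blt r 6 then
      (bif Nat.blt r 5 then
        0x70105000601030104000101020000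
      else
        0x1040106010201070100010501010103)
    else
      (bif Nat.blt r 7 then
        0x30101010500000007010201060004
      else
        0x1000002010100040003010600050107)))

def fxB2 : FX where
  rc := 0x9a99899878877776
  nt := fxB2nt
  av := 0x9889899878878778
  w0 := [0, 1, 0, 1]

end Cfsg.Agent.Lib.H29.Chev
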