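import Mathlib
import Cfsg.Agent.Lib.H29.ChevDataE8
import Cfsg.Agent.Lib.H29.ChevDataXE8
import Cfsg.Agent.Lib.H29.ChevFast2

set_option autoImplicit false

namespace Cfsg.Agent.Lib.H29.Chev

set_option maxRecDepth 1000000 in
set_option maxHeartbeats 0 in
theorem fdE8_Grad_c1s0 : allR 120 135 (fdE8.chkGradR fxE8) = true := by decide +kernel

set_option maxRecDepth 1000000 in
set_option maxHeartbeats 0 in
theorem fdE8_Grad_c1s1 : allR 135 150 (fdE8.chkGradR fxE8) = true := by decide +kernel

set_option maxRecDepth 1000000 in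
set_option maxHeartbeats 0 in
theorem fdE8_Grad_c1s2 : allR 150 165 (fdE8.chkGradR fxE8) = true := by decide +kernel

set_option maxRecDepth 1000000 in
set_option maxHeartbeats 0 in
theorem fdE8_Grad_c1s3 : allR 165 180 (fdE8.chkGradR fxE8) = true := by decide +kernel

set_option maxRecDepth 1000000 in
set_option maxHeartbeats 0 in
theorem fdE8_Grad_c1s4 : allR 180 195 (fdE8.chkGradR fxE8) = true := by decide +kernel

set_option maxRecDepth 1000000 in
set_option maxHeartbeats 0 in
theorem fdE8_Grad_c1s5 : allR 195 210 (fdE8.chkGradR fxE8) = true := by decide +kernel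

set_option maxRecDepth 1000000 in
set_option maxHeartbeats 0 in
theorem fdE8_Grad_c1s6 : allR 210 225 (fdE8.chkGradR fxE8) = true := by decide +kernel

set_option maxRecDepth 1000000 in
set_option maxHeartbeats 0 in
theorem fdE8_Grad_c1s7 : allR 225 240 (fdE8.chkGradR fxE8) = true := by decide +kernel

end Cfsg.Agent.Lib.H29.Chev
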