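import Mathlib
import Cfsg.Agent.Lib.H29.ChevDataE8
import Cfsg.Agent.Lib.H29.ChevDataXE8
import Cfsg.Agent.Lib.H29.ChevFast2
import Cfsg.Agent.Lib.H29.ChevChkGradE8c0
import Cfsg.Agent.Lib.H29.ChevChkGradE8c1

set_option autoImplicit false

namespace Cfsg.Agent.Lib.H29.Chev

theorem fdE8_ChkGrad : fdE8.ChkGrad fxE8 := by
  intro r hr
  have hr' : r < 240 := hr
  by_cases h15 : r < 15
  · exact allR_spec fdE8_Grad_c0s0 r (by omega) h15
  by_cases h30 : r < 30
  · exact allR_spec fdE8_Grad_c0s1 r (by omega) h30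
  by_cases h45 : r < 45
  · exact allR_spec fdE8_Grad_c0s2 r (by omega) h45
  by_cases h60 : r < 60
  · exact allR_spec fdE8_Grad_c0s3 r (by omega) h60
  by_cases h75 : r < 75
  · exact allR_spec fdE8_Grad_c0s4 r (by omega) h75
  by_cases h90 : r < 90
  · exact allR_spec fdE8_Grad_c0s5 r (by omega) h90
  by_cases h105 : r < 105
  · exact allR_spec fdE8_Grad_c0s6 r (by omega) h105
  by_cases h120 : r < 120
  · exact allR_spec fdE8_Grad_c0s7 r (by omega) h120
  by_cases h135 : r < 135
  · exact allR_spec fdE8_Grad_c1s0 r (by omega) h135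
  by_cases h150 : r < 150
  · exact allR_spec fdE8_Grad_c1s1 r (by omega) h150
  by_cases h165 : r < 165
  · exact allR_spec fdE8_Grad_c1s2 r (by omega) h165
  by_cases h180 : r < 180
  · exact allR_spec fdE8_Grad_c1s3 r (by omega) h180
  by_cases h195 : r < 195
  · exact allR_spec fdE8_Grad_c1s4 r (by omega) h195
  by_cases h210 : r < 210
  · exact allR_spec fdE8_Grad_c1s5 r (by omega) h210
  by_cases h225 : r < 225
  · exact allR_spec fdE8_Grad_c1s6 r (by omega) h225
  exact allR_spec fdE8_Grad_c1s7 r (by omega) hr'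

end Cfsg.Agent.Lib.H29.Chev
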