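import Mathlib
import Cfsg.Agent.Lib.H29.ChevFast2

/-! Extra packed tables of the Chevalley datum of type G2 (generated) -/

set_option autoImplicit false

namespace Cfsg.Agent.Lib.H29.Chev

def fxG2nt (r : ℕ) : ℕ :=
  (bif Nat.blt r 6 then
    (bif Nat.blt r 3 then
      (bif Nat.blt r 1 then
        0x10001050103000200070001000a0004000901080106010b
      else
        (bif Nat.blt r 2 then
          0x1060101010400080002000b0000000900030107010a0105
        else
          0x101000001020104000300060005000801070109000b010a))
    else
      (bif Nat.blt r 4 then
        0x105000a0107010300090000000b00020108010400010106
      else
        (bif Nat.blt r 5 then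
          0xb0006000801090104010a010101070102000300050000
        else
          0xa010b0009000701080105010601030004000201000001)))
  else
    (bif Nat.blt r 9 then
      (bif Nat.blt r 7 then
        0x10a000b0009010700080105010600030104000200000101
      else
        (bif Nat.blt r 8 then
          0xb0106010800090104000a000101070002010301050000
        else
          0x5000a0007010301090100010b01020108000400010006))
    else
      (bif Nat.blt r 10 then
        0x1010001020004010300060005010800070109010b000a
      else
        (bif Nat.blt r 11 then
          0x60101000400080102010b0100010900030007010a0005
        else
          0x10000050003010200070101010a0004010900080006010b))))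

def fxG2 : FX where
  rc := 0xab9b9a998998788777767565
  nt := fxG2nt
  av := 0xd598988989987887877878f3
  w0 := [0, 1, 0, 1, 0, 1]

end Cfsg.Agent.Lib.H29.Chev
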