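import Mathlib
import Cfsg.Agent.Lib.H29.ChevDataE7

import Cfsg.Agent.Lib.H29.ChevGen2


set_option autoImplicit false

namespace Cfsg.Agent.Lib.H29.Chev

set_option maxRecDepth 1000000 in
set_option maxHeartbeats 0 in
theorem fdE7_Lev_c0s0 : allR 0 21 (fdE7.chkLevR) = true := by decide +kernel

set_option maxRecDepth 1000000 in
set_option maxHeartbeats 0 in
theorem fdE7_Lev_c0s1 : allR 21 42 (fdE7.chkLevR) = true := by decide +kernel

set_option maxRecDepth 1000000 in
set_option maxHeartbeats 0 in
theorem fdE7_Lev_c0s2 : allR 42 63 (fdE7.chkLevR) = true := by decide +kernel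

set_option maxRecDepth 1000000 in
set_option maxHeartbeats 0 in
theorem fdE7_Lev_c0s3 : allR 63 84 (fdE7.chkLevR) = true := by decide +kernel

set_option maxRecDepth 1000000 in
set_option maxHeartbeats 0 in
theorem fdE7_Lev_c0s4 : allR 84 105 (fdE7.chkLevR) = true := by decide +kernel

set_option maxRecDepth 1000000 in
set_option maxHeartbeats 0 in
theorem fdE7_Lev_c0s5 : allR 105 126 (fdE7.chkLevR) = true := by decide +kernel

theorem fdE7_ChkLev : fdE7.ChkLev := by
  intro r hr
  have hr' : r < 126 := hr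
  by_cases h21 : r < 21
  · exact allR_spec fdE7_Lev_c0s0 r (by omega) h21
  by_cases h42 : r < 42
  · exact allR_spec fdE7_Lev_c0s1 r (by omega) h42
  by_cases h63 : r < 63
  · exact allR_spec fdE7_Lev_c0s2 r (by omega) h63
  by_cases h84 : r < 84
  · exact allR_spec fdE7_Lev_c0s3 r (by omega) h84
  by_cases h105 : r < 105
  · exact allR_spec fdE7_Lev_c0s4 r (by omega) h105
  exact allR_spec fdE7_Lev_c0s5 r (by omega) hr'

end Cfsg.Agent.Lib.H29.Chev
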