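import Mathlib
import Cfsg.Agent.Lib.H29.ChevDataE6
import Cfsg.Agent.Lib.H29.ChevDataXE6
import Cfsg.Agent.Lib.H29.ChevFast2


set_option autoImplicit false

namespace Cfsg.Agent.Lib.H29.Chev

set_option maxRecDepth 1000000 in
set_option maxHeartbeats 0 in
theorem fdE6_N_c0s0 : allR 0 9 (fdE6.chkNR fxE6) = true := by decide +kernel

set_option maxRecDepth 1000000 in
set_option maxHeartbeats 0 in
theorem fdE6_N_c0s1 : allR 9 18 (fdE6.chkNR fxE6) = true := by decide +kernel

set_option maxRecDepth 1000000 in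
set_option maxHeartbeats 0 in
theorem fdE6_N_c0s2 : allR 18 27 (fdE6.chkNR fxE6) = true := by decide +kernel

set_option maxRecDepth 1000000 in
set_option maxHeartbeats 0 in
theorem fdE6_N_c0s3 : allR 27 36 (fdE6.chkNR fxE6) = true := by decide +kernel

set_option maxRecDepth 1000000 in
set_option maxHeartbeats 0 in
theorem fdE6_N_c0s4 : allR 36 45 (fdE6.chkNR fxE6) = true := by decide +kernel

set_option maxRecDepth 1000000 in
set_option maxHeartbeats 0 in
theorem fdE6_N_c0s5 : allR 45 54 (fdE6.chkNR fxE6) = true := by decide +kernel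

set_option maxRecDepth 1000000 in
set_option maxHeartbeats 0 in
theorem fdE6_N_c0s6 : allR 54 63 (fdE6.chkNR fxE6) = true := by decide +kernel

set_option maxRecDepth 1000000 in
set_option maxHeartbeats 0 in
theorem fdE6_N_c0s7 : allR 63 72 (fdE6.chkNR fxE6) = true := by decide +kernel

theorem fdE6_ChkN : fdE6.ChkN fxE6 := by
  intro r hr
  have hr' : r < 72 := hr
  by_cases h9 : r < 9
  · exact allR_spec fdE6_N_c0s0 r (by omega) h9
  by_cases h18 : r < 18
  · exact allR_spec fdE6_N_c0s1 r (by omega) h18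
  by_cases h27 : r < 27
  · exact allR_spec fdE6_N_c0s2 r (by omega) h27
  by_cases h36 : r < 36
  · exact allR_spec fdE6_N_c0s3 r (by omega) h36
  by_cases h45 : r < 45
  · exact allR_spec fdE6_N_c0s4 r (by omega) h45
  by_cases h54 : r < 54
  · exact allR_spec fdE6_N_c0s5 r (by omega) h54
  by_cases h63 : r < 63
  · exact allR_spec fdE6_N_c0s6 r (by omega) h63
  exact allR_spec fdE6_N_c0s7 r (by omega) hr'

end Cfsg.Agent.Lib.H29.Chev
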