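import Mathlib
import Cfsg.Agent.Lib.H29.ChevDataE8
import Cfsg.Agent.Lib.H29.ChevDataXE8
import Cfsg.Agent.Lib.H29.ChevFast2
import Cfsg.Agent.Lib.H29.ChevChkNE8c0
import Cfsg.Agent.Lib.H29.ChevChkNE8c1
import Cfsg.Agent.Lib.H29.ChevChkNE8c2
import Cfsg.Agent.Lib.H29.ChevChkNE8c3
import Cfsg.Agent.Lib.H29.ChevChkNE8c4
import Cfsg.Agent.Lib.H29.ChevChkNE8c5
import Cfsg.Agent.Lib.H29.ChevChkNE8c6
import Cfsg.Agent.Lib.H29.ChevChkNE8c7

set_option autoImplicit false

namespace Cfsg.Agent.Lib.H29.Chev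

theorem fdE8_ChkN : fdE8.ChkN fxE8 := by
  intro r hr
  have hr' : r < 240 := hr
  by_cases h3 : r < 3
  · exact allR_spec fdE8_N_c0s0 r (by omega) h3
  by_cases h7 : r < 7
  · exact allR_spec fdE8_N_c0s1 r (by omega) h7
  by_cases h11 : r < 11
  · exact allR_spec fdE8_N_c0s2 r (by omega) h11
  by_cases h15 : r < 15
  · exact allR_spec fdE8_N_c0s3 r (by omega) h15
  by_cases h18 : r < 18
  · exact allR_spec fdE8_N_c0s4 r (by omega) h18
  by_cases h22 : r < 22
  · exact allR_spec fdE8_N_c0s5 r (by omega) h22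
  by_cases h26 : r < 26
  · exact allR_spec fdE8_N_c0s6 r (by omega) h26
  by_cases h30 : r < 30
  · exact allR_spec fdE8_N_c0s7 r (by omega) h30
  by_cases h33 : r < 33
  · exact allR_spec fdE8_N_c1s0 r (by omega) h33
  by_cases h37 : r < 37
  · exact allR_spec fdE8_N_c1s1 r (by omega) h37
  by_cases h41 : r < 41
  · exact allR_spec fdE8_N_c1s2 r (by omega) h41
  by_cases h45 : r < 45
  · exact allR_spec fdE8_N_c1s3 r (by omega) h45
  by_cases h48 : r < 48
  · exact allR_spec fdE8_N_c1s4 r (by omega) h48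
  by_cases h52 : r < 52
  · exact allR_spec fdE8_N_c1s5 r (by omega) h52
  by_cases h56 : r < 56
  · exact allR_spec fdE8_N_c1s6 r (by omega) h56
  by_cases h60 : r < 60
  · exact allR_spec fdE8_N_c1s7 r (by omega) h60
  by_cases h63 : r < 63
  · exact allR_spec fdE8_N_c2s0 r (by omega) h63
  by_cases h67 : r < 67
  · exact allR_spec fdE8_N_c2s1 r (by omega) h67
  by_cases h71 : r < 71
  · exact allR_spec fdE8_N_c2s2 r (by omega) h71
  by_cases h75 : r < 75
  · exact allR_spec fdE8_N_c2s3 r (by omega) h75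
  by_cases h78 : r < 78
  · exact allR_spec fdE8_N_c2s4 r (by omega) h78
  by_cases h82 : r < 82
  · exact allR_spec fdE8_N_c2s5 r (by omega) h82
  by_cases h86 : r < 86
  · exact allR_spec fdE8_N_c2s6 r (by omega) h86
  by_cases h90 : r < 90
  · exact allR_spec fdE8_N_c2s7 r (by omega) h90
  by_cases h93 : r < 93
  · exact allR_spec fdE8_N_c3s0 r (by omega) h93
  by_cases h97 : r < 97
  · exact allR_spec fdE8_N_c3s1 r (by omega) h97
  by_cases h101 : r < 101
  · exact allR_spec fdE8_N_c3s2 r (by omega) h101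
  by_cases h105 : r < 105
  · exact allR_spec fdE8_N_c3s3 r (by omega) h105
  by_cases h108 : r < 108
  · exact allR_spec fdE8_N_c3s4 r (by omega) h108
  by_cases h112 : r < 112
  · exact allR_spec fdE8_N_c3s5 r (by omega) h112
  by_cases h116 : r < 116
  · exact allR_spec fdE8_N_c3s6 r (by omega) h116
  by_cases h120 : r < 120
  · exact allR_spec fdE8_N_c3s7 r (by omega) h120
  by_cases h123 : r < 123
  · exact allR_spec fdE8_N_c4s0 r (by omega) h123
  by_cases h127 : r < 127
  · exact allR_spec fdE8_N_c4s1 r (by omega) h127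
  by_cases h131 : r < 131
  · exact allR_spec fdE8_N_c4s2 r (by omega) h131
  by_cases h135 : r < 135
  · exact allR_spec fdE8_N_c4s3 r (by omega) h135
  by_cases h138 : r < 138
  · exact allR_spec fdE8_N_c4s4 r (by omega) h138
  by_cases h142 : r < 142
  · exact allR_spec fdE8_N_c4s5 r (by omega) h142
  by_cases h146 : r < 146
  · exact allR_spec fdE8_N_c4s6 r (by omega) h146
  by_cases h150 : r < 150
  · exact allR_spec fdE8_N_c4s7 r (by omega) h150
  by_cases h153 : r < 153
  · exact allR_spec fdE8_N_c5s0 r (by omega) h153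
  by_cases h157 : r < 157
  · exact allR_spec fdE8_N_c5s1 r (by omega) h157
  by_cases h161 : r < 161
  · exact allR_spec fdE8_N_c5s2 r (by omega) h161
  by_cases h165 : r < 165
  · exact allR_spec fdE8_N_c5s3 r (by omega) h165
  by_cases h168 : r < 168
  · exact allR_spec fdE8_N_c5s4 r (by omega) h168
  by_cases h172 : r < 172
  · exact allR_spec fdE8_N_c5s5 r (by omega) h172
  by_cases h176 : r < 176
  · exact allR_spec fdE8_N_c5s6 r (by omega) h176
  by_cases h180 : r < 180
  · exact allR_spec fdE8_N_c5s7 r (by omega) h180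
  by_cases h183 : r < 183
  · exact allR_spec fdE8_N_c6s0 r (by omega) h183
  by_cases h187 : r < 187
  · exact allR_spec fdE8_N_c6s1 r (by omega) h187
  by_cases h191 : r < 191
  · exact allR_spec fdE8_N_c6s2 r (by omega) h191
  by_cases h195 : r < 195
  · exact allR_spec fdE8_N_c6s3 r (by omega) h195
  by_cases h198 : r < 198
  · exact allR_spec fdE8_N_c6s4 r (by omega) h198
  by_cases h202 : r < 202
  · exact allR_spec fdE8_N_c6s5 r (by omega) h202
  by_cases h206 : r < 206
  · exact allR_spec fdE8_N_c6s6 r (by omega) h206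
  by_cases h210 : r < 210
  · exact allR_spec fdE8_N_c6s7 r (by omega) h210
  by_cases h213 : r < 213
  · exact allR_spec fdE8_N_c7s0 r (by omega) h213
  by_cases h217 : r < 217
  · exact allR_spec fdE8_N_c7s1 r (by omega) h217
  by_cases h221 : r < 221
  · exact allR_spec fdE8_N_c7s2 r (by omega) h221
  by_cases h225 : r < 225
  · exact allR_spec fdE8_N_c7s3 r (by omega) h225
  by_cases h228 : r < 228
  · exact allR_spec fdE8_N_c7s4 r (by omega) h228
  by_cases h232 : r < 232
  · exact allR_spec fdE8_N_c7s5 r (by omega) h232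
  by_cases h236 : r < 236
  · exact allR_spec fdE8_N_c7s6 r (by omega) h236
  exact allR_spec fdE8_N_c7s7 r (by omega) hr'

end Cfsg.Agent.Lib.H29.Chev
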