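import Mathlib
import Cfsg.Agent.Lib.H29.ChevDataF4
import Cfsg.Agent.Lib.H29.ChevDataXF4
import Cfsg.Agent.Lib.H29.ChevFast2


set_option autoImplicit false

namespace Cfsg.Agent.Lib.H29.Chev

set_option maxRecDepth 1000000 in
set_option maxHeartbeats 0 in
theorem fdF4_N_c0s0 : allR 0 12 (fdF4.chkNR fxF4) = true := by decide +kernel

set_option maxRecDepth 1000000 in
set_option maxHeartbeats 0 in
theorem fdF4_N_c0s1 : allR 12 24 (fdF4.chkNR fxF4) = true := by decide +kernel

set_option maxRecDepth 1000000 in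
set_option maxHeartbeats 0 in
theorem fdF4_N_c0s2 : allR 24 36 (fdF4.chkNR fxF4) = true := by decide +kernel

set_option maxRecDepth 1000000 in
set_option maxHeartbeats 0 in
theorem fdF4_N_c0s3 : allR 36 48 (fdF4.chkNR fxF4) = true := by decide +kernel

theorem fdF4_ChkN : fdF4.ChkN fxF4 := by
  intro r hr
  have hr' : r < 48 := hr
  by_cases h12 : r < 12
  · exact allR_spec fdF4_N_c0s0 r (by omega) h12
  by_cases h24 : r < 24
  · exact allR_spec fdF4_N_c0s1 r (by omega) h24
  by_cases h36 : r < 36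
  · exact allR_spec fdF4_N_c0s2 r (by omega) h36
  exact allR_spec fdF4_N_c0s3 r (by omega) hr'

end Cfsg.Agent.Lib.H29.Chev
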