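import Mathlib
import Cfsg.Agent.Lib.H29.ChevDataD4
import Cfsg.Agent.Lib.H29.ChevDataXD4
import Cfsg.Agent.Lib.H29.ChevFast2


set_option autoImplicit false

namespace Cfsg.Agent.Lib.H29.Chev

set_option maxRecDepth 1000000 in
set_option maxHeartbeats 0 in
theorem fdD4_Neg_c0s0 : allR 0 24 (fdD4.chkNegR fxD4) = true := by decide +kernel

theorem fdD4_ChkNeg : fdD4.ChkNeg fxD4 := by
  intro r hr
  have hr' : r < 24 := hr
  exact allR_spec fdD4_Neg_c0s0 r (by omega) hr'

end Cfsg.Agent.Lib.H29.Chev
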