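import Mathlib
import Cfsg.Agent.Lib.H29.ChevDataE7
import Cfsg.Agent.Lib.H29.ChevDataXE7
import Cfsg.Agent.Lib.H29.ChevFast2


set_option autoImplicit false

namespace Cfsg.Agent.Lib.H29.Chev

set_option maxRecDepth 1000000 in
set_option maxHeartbeats 0 in
theorem fdE7_Neg_c0s0 : allR 0 15 (fdE7.chkNegR fxE7) = true := by decide +kernel

set_option maxRecDepth 1000000 in
set_option maxHeartbeats 0 in
theorem fdE7_Neg_c0s1 : allR 15 31 (fdE7.chkNegR fxE7) = true := by decide +kernel

set_option maxRecDepth 1000000 in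
set_option maxHeartbeats 0 in
theorem fdE7_Neg_c0s2 : allR 31 47 (fdE7.chkNegR fxE7) = true := by decide +kernel

set_option maxRecDepth 1000000 in
set_option maxHeartbeats 0 in
theorem fdE7_Neg_c0s3 : allR 47 63 (fdE7.chkNegR fxE7) = true := by decide +kernel

set_option maxRecDepth 1000000 in
set_option maxHeartbeats 0 in
theorem fdE7_Neg_c0s4 : allR 63 78 (fdE7.chkNegR fxE7) = true := by decide +kernel

set_option maxRecDepth 1000000 in
set_option maxHeartbeats 0 in
theorem fdE7_Neg_c0s5 : allR 78 94 (fdE7.chkNegR fxE7) = true := by decide +kernel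

set_option maxRecDepth 1000000 in
set_option maxHeartbeats 0 in
theorem fdE7_Neg_c0s6 : allR 94 110 (fdE7.chkNegR fxE7) = true := by decide +kernel

set_option maxRecDepth 1000000 in
set_option maxHeartbeats 0 in
theorem fdE7_Neg_c0s7 : allR 110 126 (fdE7.chkNegR fxE7) = true := by decide +kernel

theorem fdE7_ChkNeg : fdE7.ChkNeg fxE7 := by
  intro r hr
  have hr' : r < 126 := hr
  by_cases h15 : r < 15
  · exact allR_spec fdE7_Neg_c0s0 r (by omega) h15
  by_cases h31 : r < 31
  · exact allR_spec fdE7_Neg_c0s1 r (by omega) h31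
  by_cases h47 : r < 47
  · exact allR_spec fdE7_Neg_c0s2 r (by omega) h47
  by_cases h63 : r < 63
  · exact allR_spec fdE7_Neg_c0s3 r (by omega) h63
  by_cases h78 : r < 78
  · exact allR_spec fdE7_Neg_c0s4 r (by omega) h78
  by_cases h94 : r < 94
  · exact allR_spec fdE7_Neg_c0s5 r (by omega) h94
  by_cases h110 : r < 110
  · exact allR_spec fdE7_Neg_c0s6 r (by omega) h110
  exact allR_spec fdE7_Neg_c0s7 r (by omega) hr'

end Cfsg.Agent.Lib.H29.Chev
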