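import Mathlib
import Cfsg.Agent.Lib.H29.ChevDataE6
import Cfsg.Agent.Lib.H29.ChevDataXE6
import Cfsg.Agent.Lib.H29.ChevFast2


set_option autoImplicit false

namespace Cfsg.Agent.Lib.H29.Chev

set_option maxRecDepth 1000000 in
set_option maxHeartbeats 0 in
theorem fdE6_Pref_c0s0 : allR 0 36 (fdE6.chkPrefR fxE6) = true := by decide +kernel

set_option maxRecDepth 1000000 in
set_option maxHeartbeats 0 in
theorem fdE6_Pref_c0s1 : allR 36 72 (fdE6.chkPrefR fxE6) = true := by decide +kernel

theorem fdE6_ChkPref : fdE6.ChkPref fxE6 := by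
  intro r hr
  have hr' : r < 72 := hr
  by_cases h36 : r < 36
  · exact allR_spec fdE6_Pref_c0s0 r (by omega) h36
  exact allR_spec fdE6_Pref_c0s1 r (by omega) hr'

end Cfsg.Agent.Lib.H29.Chev
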