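import Mathlib
import Cfsg.Agent.Lib.H29.ChevDataE8
import Cfsg.Agent.Lib.H29.ChevDataXE8
import Cfsg.Agent.Lib.H29.ChevFast2


set_option autoImplicit false

namespace Cfsg.Agent.Lib.H29.Chev

set_option maxRecDepth 1000000 in
set_option maxHeartbeats 0 in
theorem fdE8_Pref_c0s0 : allR 0 30 (fdE8.chkPrefR fxE8) = true := by decide +kernel

set_option maxRecDepth 1000000 in
set_option maxHeartbeats 0 in
theorem fdE8_Pref_c0s1 : allR 30 60 (fdE8.chkPrefR fxE8) = true := by decide +kernel

set_option maxRecDepth 1000000 in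
set_option maxHeartbeats 0 in
theorem fdE8_Pref_c0s2 : allR 60 90 (fdE8.chkPrefR fxE8) = true := by decide +kernel

set_option maxRecDepth 1000000 in
set_option maxHeartbeats 0 in
theorem fdE8_Pref_c0s3 : allR 90 120 (fdE8.chkPrefR fxE8) = true := by decide +kernel

set_option maxRecDepth 1000000 in
set_option maxHeartbeats 0 in
theorem fdE8_Pref_c0s4 : allR 120 150 (fdE8.chkPrefR fxE8) = true := by decide +kernel

set_option maxRecDepth 1000000 in
set_option maxHeartbeats 0 in
theorem fdE8_Pref_c0s5 : allR 150 180 (fdE8.chkPrefR fxE8) = true := by decide +kernel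

set_option maxRecDepth 1000000 in
set_option maxHeartbeats 0 in
theorem fdE8_Pref_c0s6 : allR 180 210 (fdE8.chkPrefR fxE8) = true := by decide +kernel

set_option maxRecDepth 1000000 in
set_option maxHeartbeats 0 in
theorem fdE8_Pref_c0s7 : allR 210 240 (fdE8.chkPrefR fxE8) = true := by decide +kernel

theorem fdE8_ChkPref : fdE8.ChkPref fxE8 := by
  intro r hr
  have hr' : r < 240 := hr
  by_cases h30 : r < 30
  · exact allR_spec fdE8_Pref_c0s0 r (by omega) h30
  by_cases h60 : r < 60
  · exact allR_spec fdE8_Pref_c0s1 r (by omega) h60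
  by_cases h90 : r < 90
  · exact allR_spec fdE8_Pref_c0s2 r (by omega) h90
  by_cases h120 : r < 120
  · exact allR_spec fdE8_Pref_c0s3 r (by omega) h120
  by_cases h150 : r < 150
  · exact allR_spec fdE8_Pref_c0s4 r (by omega) h150
  by_cases h180 : r < 180
  · exact allR_spec fdE8_Pref_c0s5 r (by omega) h180
  by_cases h210 : r < 210
  · exact allR_spec fdE8_Pref_c0s6 r (by omega) h210
  exact allR_spec fdE8_Pref_c0s7 r (by omega) hr'

end Cfsg.Agent.Lib.H29.Chev
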