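import Mathlib
import Cfsg.Agent.Lib.H29.ChevDataE8
import Cfsg.Agent.Lib.H29.ChevDataXE8
import Cfsg.Agent.Lib.H29.ChevFast2


set_option autoImplicit false

namespace Cfsg.Agent.Lib.H29.Chev

set_option maxRecDepth 1000000 in
set_option maxHeartbeats 0 in
theorem fdE8_Sim_c0s0 : allR 0 1 (fdE8.chkSimR fxE8) = true := by decide +kernel

set_option maxRecDepth 1000000 in
set_option maxHeartbeats 0 in
theorem fdE8_Sim_c0s1 : allR 1 2 (fdE8.chkSimR fxE8) = true := by decide +kernel

set_option maxRecDepth 1000000 in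
set_option maxHeartbeats 0 in
theorem fdE8_Sim_c0s2 : allR 2 3 (fdE8.chkSimR fxE8) = true := by decide +kernel

set_option maxRecDepth 1000000 in
set_option maxHeartbeats 0 in
theorem fdE8_Sim_c0s3 : allR 3 4 (fdE8.chkSimR fxE8) = true := by decide +kernel

set_option maxRecDepth 1000000 in
set_option maxHeartbeats 0 in
theorem fdE8_Sim_c0s4 : allR 4 5 (fdE8.chkSimR fxE8) = true := by decide +kernel

set_option maxRecDepth 1000000 in
set_option maxHeartbeats 0 in
theorem fdE8_Sim_c0s5 : allR 5 6 (fdE8.chkSimR fxE8) = true := by decide +kernel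

set_option maxRecDepth 1000000 in
set_option maxHeartbeats 0 in
theorem fdE8_Sim_c0s6 : allR 6 7 (fdE8.chkSimR fxE8) = true := by decide +kernel

set_option maxRecDepth 1000000 in
set_option maxHeartbeats 0 in
theorem fdE8_Sim_c0s7 : allR 7 8 (fdE8.chkSimR fxE8) = true := by decide +kernel

theorem fdE8_ChkSim : fdE8.ChkSim fxE8 := by
  intro r hr
  have hr' : r < 8 := hr
  by_cases h1 : r < 1
  · exact allR_spec fdE8_Sim_c0s0 r (by omega) h1
  by_cases h2 : r < 2
  · exact allR_spec fdE8_Sim_c0s1 r (by omega) h2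
  by_cases h3 : r < 3
  · exact allR_spec fdE8_Sim_c0s2 r (by omega) h3
  by_cases h4 : r < 4
  · exact allR_spec fdE8_Sim_c0s3 r (by omega) h4
  by_cases h5 : r < 5
  · exact allR_spec fdE8_Sim_c0s4 r (by omega) h5
  by_cases h6 : r < 6
  · exact allR_spec fdE8_Sim_c0s5 r (by omega) h6
  by_cases h7 : r < 7
  · exact allR_spec fdE8_Sim_c0s6 r (by omega) h7
  exact allR_spec fdE8_Sim_c0s7 r (by omega) hr'

end Cfsg.Agent.Lib.H29.Chev
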