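import Mathlib
import Cfsg.Prelude.Def_LieChev
import Cfsg.Agent.Lib.H29.ChevGen7
import Cfsg.Agent.Lib.H29.ChevChkAddG2
import Cfsg.Agent.Lib.H29.ChevChkLevG2
import Cfsg.Agent.Lib.H29.ChevChkPrefG2
import Cfsg.Agent.Lib.H29.ChevChkGradG2
import Cfsg.Agent.Lib.H29.ChevChkLinG2
import Cfsg.Agent.Lib.H29.ChevChkNG2
import Cfsg.Agent.Lib.H29.ChevChkSimG2
import Cfsg.Agent.Lib.H29.ChevChkNegG2
import Cfsg.Agent.Lib.H29.ChevChkAddB2
import Cfsg.Agent.Lib.H29.ChevChkLevB2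
import Cfsg.Agent.Lib.H29.ChevChkPrefB2
import Cfsg.Agent.Lib.H29.ChevChkGradB2
import Cfsg.Agent.Lib.H29.ChevChkLinB2
import Cfsg.Agent.Lib.H29.ChevChkNB2
import Cfsg.Agent.Lib.H29.ChevChkSimB2
import Cfsg.Agent.Lib.H29.ChevChkNegB2
import Cfsg.Agent.Lib.H29.ChevChkAddD4
import Cfsg.Agent.Lib.H29.ChevChkLevD4
import Cfsg.Agent.Lib.H29.ChevChkPrefD4
import Cfsg.Agent.Lib.H29.ChevChkGradD4
import Cfsg.Agent.Lib.H29.ChevChkLinD4
import Cfsg.Agent.Lib.H29.ChevChkND4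
import Cfsg.Agent.Lib.H29.ChevChkSimD4
import Cfsg.Agent.Lib.H29.ChevChkNegD4
import Cfsg.Agent.Lib.H29.ChevChkAddF4
import Cfsg.Agent.Lib.H29.ChevChkLevF4
import Cfsg.Agent.Lib.H29.ChevChkPrefF4
import Cfsg.Agent.Lib.H29.ChevChkGradF4
import Cfsg.Agent.Lib.H29.ChevChkLinF4
import Cfsg.Agent.Lib.H29.ChevChkNF4
import Cfsg.Agent.Lib.H29.ChevChkSimF4
import Cfsg.Agent.Lib.H29.ChevChkNegF4
import Cfsg.Agent.Lib.H29.ChevChkAddE6
import Cfsg.Agent.Lib.H29.ChevChkLevE6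
import Cfsg.Agent.Lib.H29.ChevChkPrefE6
import Cfsg.Agent.Lib.H29.ChevChkGradE6
import Cfsg.Agent.Lib.H29.ChevChkLinE6
import Cfsg.Agent.Lib.H29.ChevChkNE6
import Cfsg.Agent.Lib.H29.ChevChkSimE6
import Cfsg.Agent.Lib.H29.ChevChkNegE6
import Cfsg.Agent.Lib.H29.ChevChkAddE7
import Cfsg.Agent.Lib.H29.ChevChkLevE7
import Cfsg.Agent.Lib.H29.ChevChkPrefE7
import Cfsg.Agent.Lib.H29.ChevChkGradE7
import Cfsg.Agent.Lib.H29.ChevChkLinE7
import Cfsg.Agent.Lib.H29.ChevChkNE7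
import Cfsg.Agent.Lib.H29.ChevChkSimE7
import Cfsg.Agent.Lib.H29.ChevChkNegE7
import Cfsg.Agent.Lib.H29.ChevChkAddE8
import Cfsg.Agent.Lib.H29.ChevChkLevE8
import Cfsg.Agent.Lib.H29.ChevChkPrefE8
import Cfsg.Agent.Lib.H29.ChevChkGradE8
import Cfsg.Agent.Lib.H29.ChevChkLinE8
import Cfsg.Agent.Lib.H29.ChevChkNE8
import Cfsg.Agent.Lib.H29.ChevChkSimE8
import Cfsg.Agent.Lib.H29.ChevChkNegE8

/-!
# Second bundle of verified facts about the seven Chevalley data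
-/

set_option autoImplicit false

namespace Cfsg.Agent.Lib.H29.Chev

open Cfsg.Lie

set_option maxRecDepth 1000000 in
set_option maxHeartbeats 0 in
theorem fdG2_simple : fdG2.chkSimple fxG2 = true := by decide +kernel

set_option maxRecDepth 1000000 in
set_option maxHeartbeats 0 in
theorem fdG2_w0 : fdG2.chkW0 fxG2 = true := by decide +kernel

theorem fdG2_cert2 : Cert2 chevG2 fdG2 fxG2 :=
  ⟨fdG2_agrees, fdG2_ChkLev, by decide, by decide,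
    ⟨fdG2_ChkAdd, fdG2_ChkPref, fdG2_ChkGrad, fdG2_ChkLin, fdG2_ChkN⟩, fdG2_simple, fdG2_ChkSim, fdG2_ChkNeg,
    fdG2_w0⟩

set_option maxRecDepth 1000000 in
set_option maxHeartbeats 0 in
theorem fdB2_simple : fdB2.chkSimple fxB2 = true := by decide +kernel

set_option maxRecDepth 1000000 in
set_option maxHeartbeats 0 in
theorem fdB2_w0 : fdB2.chkW0 fxB2 = true := by decide +kernel

theorem fdB2_cert2 : Cert2 chevB2 fdB2 fxB2 :=
  ⟨fdB2_agrees, fdB2_ChkLev, by decide, by decide,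
    ⟨fdB2_ChkAdd, fdB2_ChkPref, fdB2_ChkGrad, fdB2_ChkLin, fdB2_ChkN⟩, fdB2_simple, fdB2_ChkSim, fdB2_ChkNeg,
    fdB2_w0⟩

set_option maxRecDepth 1000000 in
set_option maxHeartbeats 0 in
theorem fdD4_simple : fdD4.chkSimple fxD4 = true := by decide +kernel

set_option maxRecDepth 1000000 in
set_option maxHeartbeats 0 in
theorem fdD4_w0 : fdD4.chkW0 fxD4 = true := by decide +kernel

theorem fdD4_cert2 : Cert2 chevD4 fdD4 fxD4 :=
  ⟨fdD4_agrees, fdD4_ChkLev, by decide, by decide,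
    ⟨fdD4_ChkAdd, fdD4_ChkPref, fdD4_ChkGrad, fdD4_ChkLin, fdD4_ChkN⟩, fdD4_simple, fdD4_ChkSim, fdD4_ChkNeg,
    fdD4_w0⟩

set_option maxRecDepth 1000000 in
set_option maxHeartbeats 0 in
theorem fdF4_simple : fdF4.chkSimple fxF4 = true := by decide +kernel

set_option maxRecDepth 1000000 in
set_option maxHeartbeats 0 in
theorem fdF4_w0 : fdF4.chkW0 fxF4 = true := by decide +kernel

theorem fdF4_cert2 : Cert2 chevF4 fdF4 fxF4 :=
  ⟨fdF4_agrees, fdF4_ChkLev, by decide, by decide,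
    ⟨fdF4_ChkAdd, fdF4_ChkPref, fdF4_ChkGrad, fdF4_ChkLin, fdF4_ChkN⟩, fdF4_simple, fdF4_ChkSim, fdF4_ChkNeg,
    fdF4_w0⟩

set_option maxRecDepth 1000000 in
set_option maxHeartbeats 0 in
theorem fdE6_simple : fdE6.chkSimple fxE6 = true := by decide +kernel

set_option maxRecDepth 1000000 in
set_option maxHeartbeats 0 in
theorem fdE6_w0 : fdE6.chkW0 fxE6 = true := by decide +kernel

theorem fdE6_cert2 : Cert2 chevE6 fdE6 fxE6 :=
  ⟨fdE6_agrees, fdE6_ChkLev, by decide, by decide,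
    ⟨fdE6_ChkAdd, fdE6_ChkPref, fdE6_ChkGrad, fdE6_ChkLin, fdE6_ChkN⟩, fdE6_simple, fdE6_ChkSim, fdE6_ChkNeg,
    fdE6_w0⟩

set_option maxRecDepth 1000000 in
set_option maxHeartbeats 0 in
theorem fdE7_simple : fdE7.chkSimple fxE7 = true := by decide +kernel

set_option maxRecDepth 1000000 in
set_option maxHeartbeats 0 in
theorem fdE7_w0 : fdE7.chkW0 fxE7 = true := by decide +kernel

theorem fdE7_cert2 : Cert2 chevE7 fdE7 fxE7 :=
  ⟨fdE7_agrees, fdE7_ChkLev, by decide, by decide,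
    ⟨fdE7_ChkAdd, fdE7_ChkPref, fdE7_ChkGrad, fdE7_ChkLin, fdE7_ChkN⟩, fdE7_simple, fdE7_ChkSim, fdE7_ChkNeg,
    fdE7_w0⟩

set_option maxRecDepth 1000000 in
set_option maxHeartbeats 0 in
theorem fdE8_simple : fdE8.chkSimple fxE8 = true := by decide +kernel

set_option maxRecDepth 1000000 in
set_option maxHeartbeats 0 in
theorem fdE8_w0 : fdE8.chkW0 fxE8 = true := by decide +kernel

theorem fdE8_cert2 : Cert2 chevE8 fdE8 fxE8 :=
  ⟨fdE8_agrees, fdE8_ChkLev, by decide, by decide,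
    ⟨fdE8_ChkAdd, fdE8_ChkPref, fdE8_ChkGrad, fdE8_ChkLin, fdE8_ChkN⟩, fdE8_simple, fdE8_ChkSim, fdE8_ChkNeg,
    fdE8_w0⟩

theorem cert2_of_mem (D : ChevalleyDatum)
    (hD : D ∈ [chevG2, chevB2, chevD4, chevF4, chevE6, chevE7, chevE8]) : ∃ fd fx, Cert2 D fd fx := by
  simp only [List.mem_cons, List.not_mem_nil, or_false] at hD
  rcases hD with rfl | rfl | rfl | rfl | rfl | rfl | rfl
  · exact ⟨fdG2, fxG2, fdG2_cert2⟩
  · exact ⟨fdB2, fxB2, fdB2_cert2⟩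
  · exact ⟨fdD4, fxD4, fdD4_cert2⟩
  · exact ⟨fdF4, fxF4, fdF4_cert2⟩
  · exact ⟨fdE6, fxE6, fdE6_cert2⟩
  · exact ⟨fdE7, fxE7, fdE7_cert2⟩
  · exact ⟨fdE8, fxE8, fdE8_cert2⟩

end Cfsg.Agent.Lib.H29.Chev
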