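import Mathlib
import Cfsg.Agent.Lib.H29.ChevDataB2
import Cfsg.Agent.Lib.H29.ChevDataXB2
import Cfsg.Agent.Lib.H29.ChevFast2


set_option autoImplicit false

namespace Cfsg.Agent.Lib.H29.Chev

set_option maxRecDepth 1000000 in
set_option maxHeartbeats 0 in
theorem fdB2_Conj_c0s0 : allR 0 16 (fdB2.chkConjQ fxB2) = true := by decide +kernel

theorem fdB2_ChkConj : fdB2.ChkConj fxB2 := by
  intro r hr
  have hr' : r < 16 := hr
  exact allR_spec fdB2_Conj_c0s0 r (by omega) hr'

end Cfsg.Agent.Lib.H29.Chev
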