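import Mathlib
import Cfsg.Agent.Lib.H29.ChevDataD4
import Cfsg.Agent.Lib.H29.ChevDataXD4
import Cfsg.Agent.Lib.H29.ChevFast2


set_option autoImplicit false

namespace Cfsg.Agent.Lib.H29.Chev

set_option maxRecDepth 1000000 in
set_option maxHeartbeats 0 in
theorem fdD4_Conj_c0s0 : allR 0 32 (fdD4.chkConjQ fxD4) = true := by decide +kernel

set_option maxRecDepth 1000000 in
set_option maxHeartbeats 0 in
theorem fdD4_Conj_c0s1 : allR 32 64 (fdD4.chkConjQ fxD4) = true := by decide +kernel

set_option maxRecDepth 1000000 in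
set_option maxHeartbeats 0 in
theorem fdD4_Conj_c0s2 : allR 64 96 (fdD4.chkConjQ fxD4) = true := by decide +kernel

theorem fdD4_ChkConj : fdD4.ChkConj fxD4 := by
  intro r hr
  have hr' : r < 96 := hr
  by_cases h32 : r < 32
  · exact allR_spec fdD4_Conj_c0s0 r (by omega) h32
  by_cases h64 : r < 64
  · exact allR_spec fdD4_Conj_c0s1 r (by omega) h64
  exact allR_spec fdD4_Conj_c0s2 r (by omega) hr'

end Cfsg.Agent.Lib.H29.Chev
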