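import Mathlib
import Cfsg.Agent.Lib.H29.ChevDataE6
import Cfsg.Agent.Lib.H29.ChevDataXE6
import Cfsg.Agent.Lib.H29.ChevFast2

set_option autoImplicit false

namespace Cfsg.Agent.Lib.H29.Chev

set_option maxRecDepth 1000000 in
set_option maxHeartbeats 0 in
theorem fdE6_Conj_c1s0 : allR 216 252 (fdE6.chkConjQ fxE6) = true := by decide +kernel

set_option maxRecDepth 1000000 in
set_option maxHeartbeats 0 in
theorem fdE6_Conj_c1s1 : allR 252 288 (fdE6.chkConjQ fxE6) = true := by decide +kernel

set_option maxRecDepth 1000000 in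
set_option maxHeartbeats 0 in
theorem fdE6_Conj_c1s2 : allR 288 324 (fdE6.chkConjQ fxE6) = true := by decide +kernel

set_option maxRecDepth 1000000 in
set_option maxHeartbeats 0 in
theorem fdE6_Conj_c1s3 : allR 324 360 (fdE6.chkConjQ fxE6) = true := by decide +kernel

set_option maxRecDepth 1000000 in
set_option maxHeartbeats 0 in
theorem fdE6_Conj_c1s4 : allR 360 396 (fdE6.chkConjQ fxE6) = true := by decide +kernel

set_option maxRecDepth 1000000 in
set_option maxHeartbeats 0 in
theorem fdE6_Conj_c1s5 : allR 396 432 (fdE6.chkConjQ fxE6) = true := by decide +kernel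

end Cfsg.Agent.Lib.H29.Chev
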