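import Mathlib
import Cfsg.Agent.Lib.H29.ChevDataE6
import Cfsg.Agent.Lib.H29.ChevDataXE6
import Cfsg.Agent.Lib.H29.ChevFast2
import Cfsg.Agent.Lib.H29.ChevChkConjE6c0
import Cfsg.Agent.Lib.H29.ChevChkConjE6c1

set_option autoImplicit false

namespace Cfsg.Agent.Lib.H29.Chev

theorem fdE6_ChkConj : fdE6.ChkConj fxE6 := by
  intro r hr
  have hr' : r < 432 := hr
  by_cases h36 : r < 36
  · exact allR_spec fdE6_Conj_c0s0 r (by omega) h36
  by_cases h72 : r < 72
  · exact allR_spec fdE6_Conj_c0s1 r (by omega) h72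
  by_cases h108 : r < 108
  · exact allR_spec fdE6_Conj_c0s2 r (by omega) h108
  by_cases h144 : r < 144
  · exact allR_spec fdE6_Conj_c0s3 r (by omega) h144
  by_cases h180 : r < 180
  · exact allR_spec fdE6_Conj_c0s4 r (by omega) h180
  by_cases h216 : r < 216
  · exact allR_spec fdE6_Conj_c0s5 r (by omega) h216
  by_cases h252 : r < 252
  · exact allR_spec fdE6_Conj_c1s0 r (by omega) h252
  by_cases h288 : r < 288
  · exact allR_spec fdE6_Conj_c1s1 r (by omega) h288
  by_cases h324 : r < 324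
  · exact allR_spec fdE6_Conj_c1s2 r (by omega) h324
  by_cases h360 : r < 360
  · exact allR_spec fdE6_Conj_c1s3 r (by omega) h360
  by_cases h396 : r < 396
  · exact allR_spec fdE6_Conj_c1s4 r (by omega) h396
  exact allR_spec fdE6_Conj_c1s5 r (by omega) hr'

end Cfsg.Agent.Lib.H29.Chev
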