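import Mathlib
import Cfsg.Agent.Lib.H29.ChevDataE7
import Cfsg.Agent.Lib.H29.ChevDataXE7
import Cfsg.Agent.Lib.H29.ChevFast2

set_option autoImplicit false

namespace Cfsg.Agent.Lib.H29.Chev

set_option maxRecDepth 1000000 in
set_option maxHeartbeats 0 in
theorem fdE7_Conj_c0s0 : allR 0 27 (fdE7.chkConjQ fxE7) = true := by decide +kernel

set_option maxRecDepth 1000000 in
set_option maxHeartbeats 0 in
theorem fdE7_Conj_c0s1 : allR 27 55 (fdE7.chkConjQ fxE7) = true := by decide +kernel

set_option maxRecDepth 1000000 in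
set_option maxHeartbeats 0 in
theorem fdE7_Conj_c0s2 : allR 55 82 (fdE7.chkConjQ fxE7) = true := by decide +kernel

set_option maxRecDepth 1000000 in
set_option maxHeartbeats 0 in
theorem fdE7_Conj_c0s3 : allR 82 110 (fdE7.chkConjQ fxE7) = true := by decide +kernel

set_option maxRecDepth 1000000 in
set_option maxHeartbeats 0 in
theorem fdE7_Conj_c0s4 : allR 110 137 (fdE7.chkConjQ fxE7) = true := by decide +kernel

set_option maxRecDepth 1000000 in
set_option maxHeartbeats 0 in
theorem fdE7_Conj_c0s5 : allR 137 165 (fdE7.chkConjQ fxE7) = true := by decide +kernel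

set_option maxRecDepth 1000000 in
set_option maxHeartbeats 0 in
theorem fdE7_Conj_c0s6 : allR 165 192 (fdE7.chkConjQ fxE7) = true := by decide +kernel

set_option maxRecDepth 1000000 in
set_option maxHeartbeats 0 in
theorem fdE7_Conj_c0s7 : allR 192 220 (fdE7.chkConjQ fxE7) = true := by decide +kernel

end Cfsg.Agent.Lib.H29.Chev
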