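import Mathlib
import Cfsg.Agent.Lib.H29.ChevDataE7
import Cfsg.Agent.Lib.H29.ChevDataXE7
import Cfsg.Agent.Lib.H29.ChevFast2

set_option autoImplicit false

namespace Cfsg.Agent.Lib.H29.Chev

set_option maxRecDepth 1000000 in
set_option maxHeartbeats 0 in
theorem fdE7_Conj_c1s0 : allR 220 248 (fdE7.chkConjQ fxE7) = true := by decide +kernel

set_option maxRecDepth 1000000 in
set_option maxHeartbeats 0 in
theorem fdE7_Conj_c1s1 : allR 248 275 (fdE7.chkConjQ fxE7) = true := by decide +kernel

set_option maxRecDepth 1000000 in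
set_option maxHeartbeats 0 in
theorem fdE7_Conj_c1s2 : allR 275 303 (fdE7.chkConjQ fxE7) = true := by decide +kernel

set_option maxRecDepth 1000000 in
set_option maxHeartbeats 0 in
theorem fdE7_Conj_c1s3 : allR 303 330 (fdE7.chkConjQ fxE7) = true := by decide +kernel

set_option maxRecDepth 1000000 in
set_option maxHeartbeats 0 in
theorem fdE7_Conj_c1s4 : allR 330 358 (fdE7.chkConjQ fxE7) = true := by decide +kernel

set_option maxRecDepth 1000000 in
set_option maxHeartbeats 0 in
theorem fdE7_Conj_c1s5 : allR 358 385 (fdE7.chkConjQ fxE7) = true := by decide +kernel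

set_option maxRecDepth 1000000 in
set_option maxHeartbeats 0 in
theorem fdE7_Conj_c1s6 : allR 385 413 (fdE7.chkConjQ fxE7) = true := by decide +kernel

set_option maxRecDepth 1000000 in
set_option maxHeartbeats 0 in
theorem fdE7_Conj_c1s7 : allR 413 441 (fdE7.chkConjQ fxE7) = true := by decide +kernel

end Cfsg.Agent.Lib.H29.Chev
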