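import Mathlib
import Cfsg.Agent.Lib.H29.ChevDataE7
import Cfsg.Agent.Lib.H29.ChevDataXE7
import Cfsg.Agent.Lib.H29.ChevFast2

set_option autoImplicit false

namespace Cfsg.Agent.Lib.H29.Chev

set_option maxRecDepth 1000000 in
set_option maxHeartbeats 0 in
theorem fdE7_Conj_c2s0 : allR 441 468 (fdE7.chkConjQ fxE7) = true := by decide +kernel

set_option maxRecDepth 1000000 in
set_option maxHeartbeats 0 in
theorem fdE7_Conj_c2s1 : allR 468 496 (fdE7.chkConjQ fxE7) = true := by decide +kernel

set_option maxRecDepth 1000000 in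
set_option maxHeartbeats 0 in
theorem fdE7_Conj_c2s2 : allR 496 523 (fdE7.chkConjQ fxE7) = true := by decide +kernel

set_option maxRecDepth 1000000 in
set_option maxHeartbeats 0 in
theorem fdE7_Conj_c2s3 : allR 523 551 (fdE7.chkConjQ fxE7) = true := by decide +kernel

set_option maxRecDepth 1000000 in
set_option maxHeartbeats 0 in
theorem fdE7_Conj_c2s4 : allR 551 578 (fdE7.chkConjQ fxE7) = true := by decide +kernel

set_option maxRecDepth 1000000 in
set_option maxHeartbeats 0 in
theorem fdE7_Conj_c2s5 : allR 578 606 (fdE7.chkConjQ fxE7) = true := by decide +kernel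

set_option maxRecDepth 1000000 in
set_option maxHeartbeats 0 in
theorem fdE7_Conj_c2s6 : allR 606 633 (fdE7.chkConjQ fxE7) = true := by decide +kernel

set_option maxRecDepth 1000000 in
set_option maxHeartbeats 0 in
theorem fdE7_Conj_c2s7 : allR 633 661 (fdE7.chkConjQ fxE7) = true := by decide +kernel

end Cfsg.Agent.Lib.H29.Chev
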