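import Mathlib
import Cfsg.Agent.Lib.H29.ChevDataE7
import Cfsg.Agent.Lib.H29.ChevDataXE7
import Cfsg.Agent.Lib.H29.ChevFast2

set_option autoImplicit false

namespace Cfsg.Agent.Lib.H29.Chev

set_option maxRecDepth 1000000 in
set_option maxHeartbeats 0 in
theorem fdE7_Conj_c3s0 : allR 661 689 (fdE7.chkConjQ fxE7) = true := by decide +kernel

set_option maxRecDepth 1000000 in
set_option maxHeartbeats 0 in
theorem fdE7_Conj_c3s1 : allR 689 716 (fdE7.chkConjQ fxE7) = true := by decide +kernel

set_option maxRecDepth 1000000 in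
set_option maxHeartbeats 0 in
theorem fdE7_Conj_c3s2 : allR 716 744 (fdE7.chkConjQ fxE7) = true := by decide +kernel

set_option maxRecDepth 1000000 in
set_option maxHeartbeats 0 in
theorem fdE7_Conj_c3s3 : allR 744 771 (fdE7.chkConjQ fxE7) = true := by decide +kernel

set_option maxRecDepth 1000000 in
set_option maxHeartbeats 0 in
theorem fdE7_Conj_c3s4 : allR 771 799 (fdE7.chkConjQ fxE7) = true := by decide +kernel

set_option maxRecDepth 1000000 in
set_option maxHeartbeats 0 in
theorem fdE7_Conj_c3s5 : allR 799 826 (fdE7.chkConjQ fxE7) = true := by decide +kernel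

set_option maxRecDepth 1000000 in
set_option maxHeartbeats 0 in
theorem fdE7_Conj_c3s6 : allR 826 854 (fdE7.chkConjQ fxE7) = true := by decide +kernel

set_option maxRecDepth 1000000 in
set_option maxHeartbeats 0 in
theorem fdE7_Conj_c3s7 : allR 854 882 (fdE7.chkConjQ fxE7) = true := by decide +kernel

end Cfsg.Agent.Lib.H29.Chev
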