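import Mathlib
import Cfsg.Agent.Lib.H29.ChevDataE7
import Cfsg.Agent.Lib.H29.ChevDataXE7
import Cfsg.Agent.Lib.H29.ChevFast2
import Cfsg.Agent.Lib.H29.ChevChkConjE7c0
import Cfsg.Agent.Lib.H29.ChevChkConjE7c1
import Cfsg.Agent.Lib.H29.ChevChkConjE7c2
import Cfsg.Agent.Lib.H29.ChevChkConjE7c3

set_option autoImplicit false

namespace Cfsg.Agent.Lib.H29.Chev

theorem fdE7_ChkConj : fdE7.ChkConj fxE7 := by
  intro r hr
  have hr' : r < 882 := hr
  by_cases h27 : r < 27
  · exact allR_spec fdE7_Conj_c0s0 r (by omega) h27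
  by_cases h55 : r < 55
  · exact allR_spec fdE7_Conj_c0s1 r (by omega) h55
  by_cases h82 : r < 82
  · exact allR_spec fdE7_Conj_c0s2 r (by omega) h82
  by_cases h110 : r < 110
  · exact allR_spec fdE7_Conj_c0s3 r (by omega) h110
  by_cases h137 : r < 137
  · exact allR_spec fdE7_Conj_c0s4 r (by omega) h137
  by_cases h165 : r < 165
  · exact allR_spec fdE7_Conj_c0s5 r (by omega) h165
  by_cases h192 : r < 192
  · exact allR_spec fdE7_Conj_c0s6 r (by omega) h192
  by_cases h220 : r < 220
  · exact allR_spec fdE7_Conj_c0s7 r (by omega) h220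
  by_cases h248 : r < 248
  · exact allR_spec fdE7_Conj_c1s0 r (by omega) h248
  by_cases h275 : r < 275
  · exact allR_spec fdE7_Conj_c1s1 r (by omega) h275
  by_cases h303 : r < 303
  · exact allR_spec fdE7_Conj_c1s2 r (by omega) h303
  by_cases h330 : r < 330
  · exact allR_spec fdE7_Conj_c1s3 r (by omega) h330
  by_cases h358 : r < 358
  · exact allR_spec fdE7_Conj_c1s4 r (by omega) h358
  by_cases h385 : r < 385
  · exact allR_spec fdE7_Conj_c1s5 r (by omega) h385
  by_cases h413 : r < 413
  · exact allR_spec fdE7_Conj_c1s6 r (by omega) h413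
  by_cases h441 : r < 441
  · exact allR_spec fdE7_Conj_c1s7 r (by omega) h441
  by_cases h468 : r < 468
  · exact allR_spec fdE7_Conj_c2s0 r (by omega) h468
  by_cases h496 : r < 496
  · exact allR_spec fdE7_Conj_c2s1 r (by omega) h496
  by_cases h523 : r < 523
  · exact allR_spec fdE7_Conj_c2s2 r (by omega) h523
  by_cases h551 : r < 551
  · exact allR_spec fdE7_Conj_c2s3 r (by omega) h551
  by_cases h578 : r < 578
  · exact allR_spec fdE7_Conj_c2s4 r (by omega) h578
  by_cases h606 : r < 606
  · exact allR_spec fdE7_Conj_c2s5 r (by omega) h606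
  by_cases h633 : r < 633
  · exact allR_spec fdE7_Conj_c2s6 r (by omega) h633
  by_cases h661 : r < 661
  · exact allR_spec fdE7_Conj_c2s7 r (by omega) h661
  by_cases h689 : r < 689
  · exact allR_spec fdE7_Conj_c3s0 r (by omega) h689
  by_cases h716 : r < 716
  · exact allR_spec fdE7_Conj_c3s1 r (by omega) h716
  by_cases h744 : r < 744
  · exact allR_spec fdE7_Conj_c3s2 r (by omega) h744
  by_cases h771 : r < 771
  · exact allR_spec fdE7_Conj_c3s3 r (by omega) h771
  by_cases h799 : r < 799
  · exact allR_spec fdE7_Conj_c3s4 r (by omega) h799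
  by_cases h826 : r < 826
  · exact allR_spec fdE7_Conj_c3s5 r (by omega) h826
  by_cases h854 : r < 854
  · exact allR_spec fdE7_Conj_c3s6 r (by omega) h854
  exact allR_spec fdE7_Conj_c3s7 r (by omega) hr'

end Cfsg.Agent.Lib.H29.Chev
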