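import Mathlib
import Cfsg.Agent.Lib.H29.ChevDataE8
import Cfsg.Agent.Lib.H29.ChevDataXE8
import Cfsg.Agent.Lib.H29.ChevFast2

set_option autoImplicit false

namespace Cfsg.Agent.Lib.H29.Chev

set_option maxRecDepth 1000000 in
set_option maxHeartbeats 0 in
theorem fdE8_Conj_c10s0 : allR 1200 1215 (fdE8.chkConjQ fxE8) = true := by decide +kernel

set_option maxRecDepth 1000000 in
set_option maxHeartbeats 0 in
theorem fdE8_Conj_c10s1 : allR 1215 1230 (fdE8.chkConjQ fxE8) = true := by decide +kernel

set_option maxRecDepth 1000000 in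
set_option maxHeartbeats 0 in
theorem fdE8_Conj_c10s2 : allR 1230 1245 (fdE8.chkConjQ fxE8) = true := by decide +kernel

set_option maxRecDepth 1000000 in
set_option maxHeartbeats 0 in
theorem fdE8_Conj_c10s3 : allR 1245 1260 (fdE8.chkConjQ fxE8) = true := by decide +kernel

set_option maxRecDepth 1000000 in
set_option maxHeartbeats 0 in
theorem fdE8_Conj_c10s4 : allR 1260 1275 (fdE8.chkConjQ fxE8) = true := by decide +kernel

set_option maxRecDepth 1000000 in
set_option maxHeartbeats 0 in
theorem fdE8_Conj_c10s5 : allR 1275 1290 (fdE8.chkConjQ fxE8) = true := by decide +kernel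

set_option maxRecDepth 1000000 in
set_option maxHeartbeats 0 in
theorem fdE8_Conj_c10s6 : allR 1290 1305 (fdE8.chkConjQ fxE8) = true := by decide +kernel

set_option maxRecDepth 1000000 in
set_option maxHeartbeats 0 in
theorem fdE8_Conj_c10s7 : allR 1305 1320 (fdE8.chkConjQ fxE8) = true := by decide +kernel

end Cfsg.Agent.Lib.H29.Chev
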