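import Mathlib
import Cfsg.Agent.Lib.H29.ChevDataE8
import Cfsg.Agent.Lib.H29.ChevDataXE8
import Cfsg.Agent.Lib.H29.ChevFast2

set_option autoImplicit false

namespace Cfsg.Agent.Lib.H29.Chev

set_option maxRecDepth 1000000 in
set_option maxHeartbeats 0 in
theorem fdE8_Conj_c11s0 : allR 1320 1335 (fdE8.chkConjQ fxE8) = true := by decide +kernel

set_option maxRecDepth 1000000 in
set_option maxHeartbeats 0 in
theorem fdE8_Conj_c11s1 : allR 1335 1350 (fdE8.chkConjQ fxE8) = true := by decide +kernel

set_option maxRecDepth 1000000 in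
set_option maxHeartbeats 0 in
theorem fdE8_Conj_c11s2 : allR 1350 1365 (fdE8.chkConjQ fxE8) = true := by decide +kernel

set_option maxRecDepth 1000000 in
set_option maxHeartbeats 0 in
theorem fdE8_Conj_c11s3 : allR 1365 1380 (fdE8.chkConjQ fxE8) = true := by decide +kernel

set_option maxRecDepth 1000000 in
set_option maxHeartbeats 0 in
theorem fdE8_Conj_c11s4 : allR 1380 1395 (fdE8.chkConjQ fxE8) = true := by decide +kernel

set_option maxRecDepth 1000000 in
set_option maxHeartbeats 0 in
theorem fdE8_Conj_c11s5 : allR 1395 1410 (fdE8.chkConjQ fxE8) = true := by decide +kernel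

set_option maxRecDepth 1000000 in
set_option maxHeartbeats 0 in
theorem fdE8_Conj_c11s6 : allR 1410 1425 (fdE8.chkConjQ fxE8) = true := by decide +kernel

set_option maxRecDepth 1000000 in
set_option maxHeartbeats 0 in
theorem fdE8_Conj_c11s7 : allR 1425 1440 (fdE8.chkConjQ fxE8) = true := by decide +kernel

end Cfsg.Agent.Lib.H29.Chev
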