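import Mathlib
import Cfsg.Agent.Lib.H29.ChevDataE8
import Cfsg.Agent.Lib.H29.ChevDataXE8
import Cfsg.Agent.Lib.H29.ChevFast2
import Cfsg.Agent.Lib.H29.ChevChkConjE8c0
import Cfsg.Agent.Lib.H29.ChevChkConjE8c1
import Cfsg.Agent.Lib.H29.ChevChkConjE8c2
import Cfsg.Agent.Lib.H29.ChevChkConjE8c3
import Cfsg.Agent.Lib.H29.ChevChkConjE8c4
import Cfsg.Agent.Lib.H29.ChevChkConjE8c5
import Cfsg.Agent.Lib.H29.ChevChkConjE8c6
import Cfsg.Agent.Lib.H29.ChevChkConjE8c7
import Cfsg.Agent.Lib.H29.ChevChkConjE8c8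
import Cfsg.Agent.Lib.H29.ChevChkConjE8c9
import Cfsg.Agent.Lib.H29.ChevChkConjE8c10
import Cfsg.Agent.Lib.H29.ChevChkConjE8c11
import Cfsg.Agent.Lib.H29.ChevChkConjE8c12
import Cfsg.Agent.Lib.H29.ChevChkConjE8c13
import Cfsg.Agent.Lib.H29.ChevChkConjE8c14
import Cfsg.Agent.Lib.H29.ChevChkConjE8c15

set_option autoImplicit false

namespace Cfsg.Agent.Lib.H29.Chev

theorem fdE8_ChkConj : fdE8.ChkConj fxE8 := by
  intro r hr
  have hr' : r < 1920 := hr
  by_cases h15 : r < 15
  · exact allR_spec fdE8_Conj_c0s0 r (by omega) h15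
  by_cases h30 : r < 30
  · exact allR_spec fdE8_Conj_c0s1 r (by omega) h30
  by_cases h45 : r < 45
  · exact allR_spec fdE8_Conj_c0s2 r (by omega) h45
  by_cases h60 : r < 60
  · exact allR_spec fdE8_Conj_c0s3 r (by omega) h60
  by_cases h75 : r < 75
  · exact allR_spec fdE8_Conj_c0s4 r (by omega) h75
  by_cases h90 : r < 90
  · exact allR_spec fdE8_Conj_c0s5 r (by omega) h90
  by_cases h105 : r < 105
  · exact allR_spec fdE8_Conj_c0s6 r (by omega) h105
  by_cases h120 : r < 120
  · exact allR_spec fdE8_Conj_c0s7 r (by omega) h120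
  by_cases h135 : r < 135
  · exact allR_spec fdE8_Conj_c1s0 r (by omega) h135
  by_cases h150 : r < 150
  · exact allR_spec fdE8_Conj_c1s1 r (by omega) h150
  by_cases h165 : r < 165
  · exact allR_spec fdE8_Conj_c1s2 r (by omega) h165
  by_cases h180 : r < 180
  · exact allR_spec fdE8_Conj_c1s3 r (by omega) h180
  by_cases h195 : r < 195
  · exact allR_spec fdE8_Conj_c1s4 r (by omega) h195
  by_cases h210 : r < 210
  · exact allR_spec fdE8_Conj_c1s5 r (by omega) h210
  by_cases h225 : r < 225
  · exact allR_spec fdE8_Conj_c1s6 r (by omega) h225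
  by_cases h240 : r < 240
  · exact allR_spec fdE8_Conj_c1s7 r (by omega) h240
  by_cases h255 : r < 255
  · exact allR_spec fdE8_Conj_c2s0 r (by omega) h255
  by_cases h270 : r < 270
  · exact allR_spec fdE8_Conj_c2s1 r (by omega) h270
  by_cases h285 : r < 285
  · exact allR_spec fdE8_Conj_c2s2 r (by omega) h285
  by_cases h300 : r < 300
  · exact allR_spec fdE8_Conj_c2s3 r (by omega) h300
  by_cases h315 : r < 315
  · exact allR_spec fdE8_Conj_c2s4 r (by omega) h315
  by_cases h330 : r < 330
  · exact allR_spec fdE8_Conj_c2s5 r (by omega) h330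
  by_cases h345 : r < 345
  · exact allR_spec fdE8_Conj_c2s6 r (by omega) h345
  by_cases h360 : r < 360
  · exact allR_spec fdE8_Conj_c2s7 r (by omega) h360
  by_cases h375 : r < 375
  · exact allR_spec fdE8_Conj_c3s0 r (by omega) h375
  by_cases h390 : r < 390
  · exact allR_spec fdE8_Conj_c3s1 r (by omega) h390
  by_cases h405 : r < 405
  · exact allR_spec fdE8_Conj_c3s2 r (by omega) h405
  by_cases h420 : r < 420
  · exact allR_spec fdE8_Conj_c3s3 r (by omega) h420
  by_cases h435 : r < 435
  · exact allR_spec fdE8_Conj_c3s4 r (by omega) h435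
  by_cases h450 : r < 450
  · exact allR_spec fdE8_Conj_c3s5 r (by omega) h450
  by_cases h465 : r < 465
  · exact allR_spec fdE8_Conj_c3s6 r (by omega) h465
  by_cases h480 : r < 480
  · exact allR_spec fdE8_Conj_c3s7 r (by omega) h480
  by_cases h495 : r < 495
  · exact allR_spec fdE8_Conj_c4s0 r (by omega) h495
  by_cases h510 : r < 510
  · exact allR_spec fdE8_Conj_c4s1 r (by omega) h510
  by_cases h525 : r < 525
  · exact allR_spec fdE8_Conj_c4s2 r (by omega) h525
  by_cases h540 : r < 540
  · exact allR_spec fdE8_Conj_c4s3 r (by omega) h540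
  by_cases h555 : r < 555
  · exact allR_spec fdE8_Conj_c4s4 r (by omega) h555
  by_cases h570 : r < 570
  · exact allR_spec fdE8_Conj_c4s5 r (by omega) h570
  by_cases h585 : r < 585
  · exact allR_spec fdE8_Conj_c4s6 r (by omega) h585
  by_cases h600 : r < 600
  · exact allR_spec fdE8_Conj_c4s7 r (by omega) h600
  by_cases h615 : r < 615
  · exact allR_spec fdE8_Conj_c5s0 r (by omega) h615
  by_cases h630 : r < 630
  · exact allR_spec fdE8_Conj_c5s1 r (by omega) h630
  by_cases h645 : r < 645
  · exact allR_spec fdE8_Conj_c5s2 r (by omega) h645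
  by_cases h660 : r < 660
  · exact allR_spec fdE8_Conj_c5s3 r (by omega) h660
  by_cases h675 : r < 675
  · exact allR_spec fdE8_Conj_c5s4 r (by omega) h675
  by_cases h690 : r < 690
  · exact allR_spec fdE8_Conj_c5s5 r (by omega) h690
  by_cases h705 : r < 705
  · exact allR_spec fdE8_Conj_c5s6 r (by omega) h705
  by_cases h720 : r < 720
  · exact allR_spec fdE8_Conj_c5s7 r (by omega) h720
  by_cases h735 : r < 735
  · exact allR_spec fdE8_Conj_c6s0 r (by omega) h735
  by_cases h750 : r < 750
  · exact allR_spec fdE8_Conj_c6s1 r (by omega) h750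
  by_cases h765 : r < 765
  · exact allR_spec fdE8_Conj_c6s2 r (by omega) h765
  by_cases h780 : r < 780
  · exact allR_spec fdE8_Conj_c6s3 r (by omega) h780
  by_cases h795 : r < 795
  · exact allR_spec fdE8_Conj_c6s4 r (by omega) h795
  by_cases h810 : r < 810
  · exact allR_spec fdE8_Conj_c6s5 r (by omega) h810
  by_cases h825 : r < 825
  · exact allR_spec fdE8_Conj_c6s6 r (by omega) h825
  by_cases h840 : r < 840
  · exact allR_spec fdE8_Conj_c6s7 r (by omega) h840
  by_cases h855 : r < 855
  · exact allR_spec fdE8_Conj_c7s0 r (by omega) h855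
  by_cases h870 : r < 870
  · exact allR_spec fdE8_Conj_c7s1 r (by omega) h870
  by_cases h885 : r < 885
  · exact allR_spec fdE8_Conj_c7s2 r (by omega) h885
  by_cases h900 : r < 900
  · exact allR_spec fdE8_Conj_c7s3 r (by omega) h900
  by_cases h915 : r < 915
  · exact allR_spec fdE8_Conj_c7s4 r (by omega) h915
  by_cases h930 : r < 930
  · exact allR_spec fdE8_Conj_c7s5 r (by omega) h930
  by_cases h945 : r < 945
  · exact allR_spec fdE8_Conj_c7s6 r (by omega) h945
  by_cases h960 : r < 960
  · exact allR_spec fdE8_Conj_c7s7 r (by omega) h960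
  by_cases h975 : r < 975
  · exact allR_spec fdE8_Conj_c8s0 r (by omega) h975
  by_cases h990 : r < 990
  · exact allR_spec fdE8_Conj_c8s1 r (by omega) h990
  by_cases h1005 : r < 1005
  · exact allR_spec fdE8_Conj_c8s2 r (by omega) h1005
  by_cases h1020 : r < 1020
  · exact allR_spec fdE8_Conj_c8s3 r (by omega) h1020
  by_cases h1035 : r < 1035
  · exact allR_spec fdE8_Conj_c8s4 r (by omega) h1035
  by_cases h1050 : r < 1050
  · exact allR_spec fdE8_Conj_c8s5 r (by omega) h1050
  by_cases h1065 : r < 1065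
  · exact allR_spec fdE8_Conj_c8s6 r (by omega) h1065
  by_cases h1080 : r < 1080
  · exact allR_spec fdE8_Conj_c8s7 r (by omega) h1080
  by_cases h1095 : r < 1095
  · exact allR_spec fdE8_Conj_c9s0 r (by omega) h1095
  by_cases h1110 : r < 1110
  · exact allR_spec fdE8_Conj_c9s1 r (by omega) h1110
  by_cases h1125 : r < 1125
  · exact allR_spec fdE8_Conj_c9s2 r (by omega) h1125
  by_cases h1140 : r < 1140
  · exact allR_spec fdE8_Conj_c9s3 r (by omega) h1140
  by_cases h1155 : r < 1155
  · exact allR_spec fdE8_Conj_c9s4 r (by omega) h1155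
  by_cases h1170 : r < 1170
  · exact allR_spec fdE8_Conj_c9s5 r (by omega) h1170
  by_cases h1185 : r < 1185
  · exact allR_spec fdE8_Conj_c9s6 r (by omega) h1185
  by_cases h1200 : r < 1200
  · exact allR_spec fdE8_Conj_c9s7 r (by omega) h1200
  by_cases h1215 : r < 1215
  · exact allR_spec fdE8_Conj_c10s0 r (by omega) h1215
  by_cases h1230 : r < 1230
  · exact allR_spec fdE8_Conj_c10s1 r (by omega) h1230
  by_cases h1245 : r < 1245
  · exact allR_spec fdE8_Conj_c10s2 r (by omega) h1245
  by_cases h1260 : r < 1260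
  · exact allR_spec fdE8_Conj_c10s3 r (by omega) h1260
  by_cases h1275 : r < 1275
  · exact allR_spec fdE8_Conj_c10s4 r (by omega) h1275
  by_cases h1290 : r < 1290
  · exact allR_spec fdE8_Conj_c10s5 r (by omega) h1290
  by_cases h1305 : r < 1305
  · exact allR_spec fdE8_Conj_c10s6 r (by omega) h1305
  by_cases h1320 : r < 1320
  · exact allR_spec fdE8_Conj_c10s7 r (by omega) h1320
  by_cases h1335 : r < 1335
  · exact allR_spec fdE8_Conj_c11s0 r (by omega) h1335
  by_cases h1350 : r < 1350
  · exact allR_spec fdE8_Conj_c11s1 r (by omega) h1350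
  by_cases h1365 : r < 1365
  · exact allR_spec fdE8_Conj_c11s2 r (by omega) h1365
  by_cases h1380 : r < 1380
  · exact allR_spec fdE8_Conj_c11s3 r (by omega) h1380
  by_cases h1395 : r < 1395
  · exact allR_spec fdE8_Conj_c11s4 r (by omega) h1395
  by_cases h1410 : r < 1410
  · exact allR_spec fdE8_Conj_c11s5 r (by omega) h1410
  by_cases h1425 : r < 1425
  · exact allR_spec fdE8_Conj_c11s6 r (by omega) h1425
  by_cases h1440 : r < 1440
  · exact allR_spec fdE8_Conj_c11s7 r (by omega) h1440
  by_cases h1455 : r < 1455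
  · exact allR_spec fdE8_Conj_c12s0 r (by omega) h1455
  by_cases h1470 : r < 1470
  · exact allR_spec fdE8_Conj_c12s1 r (by omega) h1470
  by_cases h1485 : r < 1485
  · exact allR_spec fdE8_Conj_c12s2 r (by omega) h1485
  by_cases h1500 : r < 1500
  · exact allR_spec fdE8_Conj_c12s3 r (by omega) h1500
  by_cases h1515 : r < 1515
  · exact allR_spec fdE8_Conj_c12s4 r (by omega) h1515
  by_cases h1530 : r < 1530
  · exact allR_spec fdE8_Conj_c12s5 r (by omega) h1530
  by_cases h1545 : r < 1545
  · exact allR_spec fdE8_Conj_c12s6 r (by omega) h1545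
  by_cases h1560 : r < 1560
  · exact allR_spec fdE8_Conj_c12s7 r (by omega) h1560
  by_cases h1575 : r < 1575
  · exact allR_spec fdE8_Conj_c13s0 r (by omega) h1575
  by_cases h1590 : r < 1590
  · exact allR_spec fdE8_Conj_c13s1 r (by omega) h1590
  by_cases h1605 : r < 1605
  · exact allR_spec fdE8_Conj_c13s2 r (by omega) h1605
  by_cases h1620 : r < 1620
  · exact allR_spec fdE8_Conj_c13s3 r (by omega) h1620
  by_cases h1635 : r < 1635
  · exact allR_spec fdE8_Conj_c13s4 r (by omega) h1635
  by_cases h1650 : r < 1650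
  · exact allR_spec fdE8_Conj_c13s5 r (by omega) h1650
  by_cases h1665 : r < 1665
  · exact allR_spec fdE8_Conj_c13s6 r (by omega) h1665
  by_cases h1680 : r < 1680
  · exact allR_spec fdE8_Conj_c13s7 r (by omega) h1680
  by_cases h1695 : r < 1695
  · exact allR_spec fdE8_Conj_c14s0 r (by omega) h1695
  by_cases h1710 : r < 1710
  · exact allR_spec fdE8_Conj_c14s1 r (by omega) h1710
  by_cases h1725 : r < 1725
  · exact allR_spec fdE8_Conj_c14s2 r (by omega) h1725
  by_cases h1740 : r < 1740
  · exact allR_spec fdE8_Conj_c14s3 r (by omega) h1740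
  by_cases h1755 : r < 1755
  · exact allR_spec fdE8_Conj_c14s4 r (by omega) h1755
  by_cases h1770 : r < 1770
  · exact allR_spec fdE8_Conj_c14s5 r (by omega) h1770
  by_cases h1785 : r < 1785
  · exact allR_spec fdE8_Conj_c14s6 r (by omega) h1785
  by_cases h1800 : r < 1800
  · exact allR_spec fdE8_Conj_c14s7 r (by omega) h1800
  by_cases h1815 : r < 1815
  · exact allR_spec fdE8_Conj_c15s0 r (by omega) h1815
  by_cases h1830 : r < 1830
  · exact allR_spec fdE8_Conj_c15s1 r (by omega) h1830
  by_cases h1845 : r < 1845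
  · exact allR_spec fdE8_Conj_c15s2 r (by omega) h1845
  by_cases h1860 : r < 1860
  · exact allR_spec fdE8_Conj_c15s3 r (by omega) h1860
  by_cases h1875 : r < 1875
  · exact allR_spec fdE8_Conj_c15s4 r (by omega) h1875
  by_cases h1890 : r < 1890
  · exact allR_spec fdE8_Conj_c15s5 r (by omega) h1890
  by_cases h1905 : r < 1905
  · exact allR_spec fdE8_Conj_c15s6 r (by omega) h1905
  exact allR_spec fdE8_Conj_c15s7 r (by omega) hr'

end Cfsg.Agent.Lib.H29.Chev
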