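import Mathlib
import Cfsg.Agent.Lib.H29.ChevDataF4
import Cfsg.Agent.Lib.H29.ChevDataXF4
import Cfsg.Agent.Lib.H29.ChevFast2


set_option autoImplicit false

namespace Cfsg.Agent.Lib.H29.Chev

set_option maxRecDepth 1000000 in
set_option maxHeartbeats 0 in
theorem fdF4_Conj_c0s0 : allR 0 32 (fdF4.chkConjQ fxF4) = true := by decide +kernel

set_option maxRecDepth 1000000 in
set_option maxHeartbeats 0 in
theorem fdF4_Conj_c0s1 : allR 32 64 (fdF4.chkConjQ fxF4) = true := by decide +kernel

set_option maxRecDepth 1000000 in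
set_option maxHeartbeats 0 in
theorem fdF4_Conj_c0s2 : allR 64 96 (fdF4.chkConjQ fxF4) = true := by decide +kernel

set_option maxRecDepth 1000000 in
set_option maxHeartbeats 0 in
theorem fdF4_Conj_c0s3 : allR 96 128 (fdF4.chkConjQ fxF4) = true := by decide +kernel

set_option maxRecDepth 1000000 in
set_option maxHeartbeats 0 in
theorem fdF4_Conj_c0s4 : allR 128 160 (fdF4.chkConjQ fxF4) = true := by decide +kernel

set_option maxRecDepth 1000000 in
set_option maxHeartbeats 0 in
theorem fdF4_Conj_c0s5 : allR 160 192 (fdF4.chkConjQ fxF4) = true := by decide +kernel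

theorem fdF4_ChkConj : fdF4.ChkConj fxF4 := by
  intro r hr
  have hr' : r < 192 := hr
  by_cases h32 : r < 32
  · exact allR_spec fdF4_Conj_c0s0 r (by omega) h32
  by_cases h64 : r < 64
  · exact allR_spec fdF4_Conj_c0s1 r (by omega) h64
  by_cases h96 : r < 96
  · exact allR_spec fdF4_Conj_c0s2 r (by omega) h96
  by_cases h128 : r < 128
  · exact allR_spec fdF4_Conj_c0s3 r (by omega) h128
  by_cases h160 : r < 160
  · exact allR_spec fdF4_Conj_c0s4 r (by omega) h160
  exact allR_spec fdF4_Conj_c0s5 r (by omega) hr'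

end Cfsg.Agent.Lib.H29.Chev
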