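import Mathlib
import Cfsg.Prelude.Def_LieChev
import Cfsg.Agent.Lib.H29.ChevGen13
import Cfsg.Agent.Lib.H29.ChevCert2
import Cfsg.Agent.Lib.H29.ChevChkConjG2
import Cfsg.Agent.Lib.H29.ChevChkConjB2
import Cfsg.Agent.Lib.H29.ChevChkConjD4
import Cfsg.Agent.Lib.H29.ChevChkConjF4
import Cfsg.Agent.Lib.H29.ChevChkConjE6
import Cfsg.Agent.Lib.H29.ChevChkConjE7
import Cfsg.Agent.Lib.H29.ChevChkConjE8

/-!
# Third bundle of verified facts about the seven Chevalley data: the conjugation checks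
-/

set_option autoImplicit false

namespace Cfsg.Agent.Lib.H29.Chev

open Cfsg.Lie

theorem cert3_of_mem (D : ChevalleyDatum)
    (hD : D ∈ [chevG2, chevB2, chevD4, chevF4, chevE6, chevE7, chevE8]) : ∃ fd fx, Cert3 D fd fx := by
  simp only [List.mem_cons, List.not_mem_nil, or_false] at hD
  rcases hD with rfl | rfl | rfl | rfl | rfl | rfl | rfl
  · exact ⟨fdG2, fxG2, fdG2_cert2, fdG2_ChkConj⟩
  · exact ⟨fdB2, fxB2, fdB2_cert2, fdB2_ChkConj⟩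
  · exact ⟨fdD4, fxD4, fdD4_cert2, fdD4_ChkConj⟩
  · exact ⟨fdF4, fxF4, fdF4_cert2, fdF4_ChkConj⟩
  · exact ⟨fdE6, fxE6, fdE6_cert2, fdE6_ChkConj⟩
  · exact ⟨fdE7, fxE7, fdE7_cert2, fdE7_ChkConj⟩
  · exact ⟨fdE8, fxE8, fdE8_cert2, fdE8_ChkConj⟩

end Cfsg.Agent.Lib.H29.Chev
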