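import Mathlib
import Cfsg.Agent.Lib.H29.ChevDataB2
import Cfsg.Agent.Lib.H29.ChevDataXB2
import Cfsg.Agent.Lib.H29.ChevFast4
import Cfsg.Agent.Lib.H29.ChevGen1


set_option autoImplicit false

namespace Cfsg.Agent.Lib.H29.Chev

set_option maxRecDepth 1000000 in
set_option maxHeartbeats 0 in
theorem fdB2_Desc_c0s0 : allR 0 8 (fdB2.chkDescR fxB2) = true := by decide +kernel

theorem fdB2_ChkDesc : fdB2.ChkDesc fxB2 := by
  intro r hr
  have hr' : r < 8 := hr
  exact allR_spec fdB2_Desc_c0s0 r (by omega) hr'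

end Cfsg.Agent.Lib.H29.Chev
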