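import Mathlib
import Cfsg.Agent.Lib.H29.ChevDataE8
import Cfsg.Agent.Lib.H29.ChevDataXE8
import Cfsg.Agent.Lib.H29.ChevFast4
import Cfsg.Agent.Lib.H29.ChevGen1


set_option autoImplicit false

namespace Cfsg.Agent.Lib.H29.Chev

set_option maxRecDepth 1000000 in
set_option maxHeartbeats 0 in
theorem fdE8_Desc_c0s0 : allR 0 60 (fdE8.chkDescR fxE8) = true := by decide +kernel

set_option maxRecDepth 1000000 in
set_option maxHeartbeats 0 in
theorem fdE8_Desc_c0s1 : allR 60 120 (fdE8.chkDescR fxE8) = true := by decide +kernel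

set_option maxRecDepth 1000000 in
set_option maxHeartbeats 0 in
theorem fdE8_Desc_c0s2 : allR 120 180 (fdE8.chkDescR fxE8) = true := by decide +kernel

set_option maxRecDepth 1000000 in
set_option maxHeartbeats 0 in
theorem fdE8_Desc_c0s3 : allR 180 240 (fdE8.chkDescR fxE8) = true := by decide +kernel

theorem fdE8_ChkDesc : fdE8.ChkDesc fxE8 := by
  intro r hr
  have hr' : r < 240 := hr
  by_cases h60 : r < 60
  · exact allR_spec fdE8_Desc_c0s0 r (by omega) h60
  by_cases h120 : r < 120
  · exact allR_spec fdE8_Desc_c0s1 r (by omega) h120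
  by_cases h180 : r < 180
  · exact allR_spec fdE8_Desc_c0s2 r (by omega) h180
  exact allR_spec fdE8_Desc_c0s3 r (by omega) hr'

end Cfsg.Agent.Lib.H29.Chev
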