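import Mathlib
import Cfsg.Agent.Lib.H29.ChevDataF4
import Cfsg.Agent.Lib.H29.ChevDataXF4
import Cfsg.Agent.Lib.H29.ChevFast4
import Cfsg.Agent.Lib.H29.ChevGen1


set_option autoImplicit false

namespace Cfsg.Agent.Lib.H29.Chev

set_option maxRecDepth 1000000 in
set_option maxHeartbeats 0 in
theorem fdF4_Desc_c0s0 : allR 0 48 (fdF4.chkDescR fxF4) = true := by decide +kernel

theorem fdF4_ChkDesc : fdF4.ChkDesc fxF4 := by
  intro r hr
  have hr' : r < 48 := hr
  exact allR_spec fdF4_Desc_c0s0 r (by omega) hr'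

end Cfsg.Agent.Lib.H29.Chev
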