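import Mathlib
import Cfsg.Agent.Lib.H29.ChevFast5

/-! Pair tables for the commutator formula of the Chevalley datum of type B2 (generated) -/

set_option autoImplicit false

namespace Cfsg.Agent.Lib.H29.Chev

def fcB2pq (r : ℕ) : ℕ :=
  (bif Nat.blt r 4 then
    (bif Nat.blt r 2 then
      (bif Nat.blt r 1 then
        0x201000002010000020100000000
      else
        0x1010000010100000101000000000000)
    else
      (bif Nat.blt r 3 then
        0x2020202000002020201000002010201
      else
        0x1020102010200000000010101010101))
  else
    (bif Nat.blt r 6 then
      (bif Nat.blt r 5 then
        0x2030203020300000000020202020202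
      else
        0x1030103000001030102000001020102)
    else
      (bif Nat.blt r 7 then
        0x2040000020402030204020300000203
      else
        0x204010302040103020401030000)))

def fcB2 : FC where
  pq := fcB2pq

end Cfsg.Agent.Lib.H29.Chev
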