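import Mathlib
import Cfsg.Agent.Lib.H29.ChevFast5

/-! Pair tables for the commutator formula of the Chevalley datum of type D4 (generated) -/

set_option autoImplicit false

namespace Cfsg.Agent.Lib.H29.Chev

def fcD4pq (r : ℕ) : ℕ :=
  (bif Nat.blt r 12 then
    (bif Nat.blt r 6 then
      (bif Nat.blt r 3 then
        (bif Nat.blt r 1 then
          0x4030302040201010101040203010401000003010401000000000403030204020101000004020301040100000000
        else
          (bif Nat.blt r 2 then
            0x20400000203020302020202020302020202020402020202020302030201020102010202020302010202020200000201
          else
            0x20504040000040302040403040302040205020304030404020302040402040204030402020404030402000002030402))
      else
        (bif Nat.blt r 4 then
          0x30503040303000002040303030303050304020303040303020402030302030303020302030403030000030202030302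
        else
          (bif Nat.blt r 5 then
            0x30604040305040500000404030603040404030503050405030404040404040304030403030500000304040404030403
          else
            0x20503070306020602050000030703060206020503050205020402040306030502050204000003060305020502040204)))
    else
      (bif Nat.blt r 9 then
        (bif Nat.blt r 7 then
          0x10501040103010301050104000001040104010301030103010401040102010301030000010301020102010201030102
        else
          (bif Nat.blt r 8 then
            0x10604040105010601040105040500000404010504040405010401050404040300000104040404030403040404030403
          else
            0x30603040306030501040305030503040000010503050304010501040304000003030104030403030304030303030303))
      else
        (bif Nat.blt r 10 then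
          0x30703070305040503060306040503060406000003060406030504050000030504050404040504050404040404040404
        else
          (bif Nat.blt r 11 then
            0x20501070106010701060105020602050206020500000205020400000106010501060105020402050204020502040204
          else
            0x20502070207020602060105020602060205020502050000000002040106010601050105020402050205020402040204))))
  else
    (bif Nat.blt r 18 then
      (bif Nat.blt r 15 then
        (bif Nat.blt r 13 then
          0x40604080408040704070406040704070406040604060000000004050407040704060406040504060406040504050405
        else
          (bif Nat.blt r 14 then
            0x30603080307030803070306030703060307030600000306030500000307030603070306030503060305030603050305
          else
            0x20802080206020602070207020602070207000002070207020602060000020602060205020602060205020502050205))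
      else
        (bif Nat.blt r 16 then
          0x40904070409040802070408040802070000020804080407020802070407000002060207020702060207020602060206
        else
          (bif Nat.blt r 17 then
            0x20903070208020902070208030800000307020803070308020702080307030600000207030703060306030703060306
          else
            0x40a040903080408040a0409000003090409030803080408030904090307030804080000030803070307030703080307)))
    else
      (bif Nat.blt r 21 then
        (bif Nat.blt r 19 then
          0x10603080307010701060000030803070107010603060106010501050307030601060105000003070306010601050105
        else
          (bif Nat.blt r 20 then
            0x20901070208010800000107020902070107020802080108020701070107010601060106020800000207010701060106
          else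
            0x40a040901080000010901080408040a0409010804090408010901080107010801070107040904080000010701080107))
      else
        (bif Nat.blt r 22 then
          0x20a0309000003080209030803080209020a020803080309020802090307030703080307020903080307000002080307
        else
          (bif Nat.blt r 23 then
            0x40b0000030a040a03090309040a03090409040b03090409030a040a0308030803080309040a03080309040900000308
          else
            0x40c020b040b020a020a040b020a040a0209020a040a02090209040c020b040b020a0209040b020a040a02090000)))))

def fcD4 : FC where
  pq := fcD4pq

end Cfsg.Agent.Lib.H29.Chev
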