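import Mathlib
import Cfsg.Agent.Lib.H29.ChevDataD4
import Cfsg.Agent.Lib.H29.ChevDataXD4
import Cfsg.Agent.Lib.H29.ChevDataCD4
import Cfsg.Agent.Lib.H29.ChevFast5
import Cfsg.Agent.Lib.H29.ChevGen1


set_option autoImplicit false

namespace Cfsg.Agent.Lib.H29.Chev

set_option maxRecDepth 1000000 in
set_option maxHeartbeats 0 in
theorem fdD4_CF_c0s0 : allR 0 288 (fdD4.chkCFQ fxD4 fcD4) = true := by decide +kernel

set_option maxRecDepth 1000000 in
set_option maxHeartbeats 0 in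
theorem fdD4_CF_c0s1 : allR 288 576 (fdD4.chkCFQ fxD4 fcD4) = true := by decide +kernel

theorem fdD4_ChkCF : fdD4.ChkCF fxD4 fcD4 := by
  intro r hr
  have hr' : r < 576 := hr
  by_cases h288 : r < 288
  · exact allR_spec fdD4_CF_c0s0 r (by omega) h288
  exact allR_spec fdD4_CF_c0s1 r (by omega) hr'

end Cfsg.Agent.Lib.H29.Chev
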