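import Mathlib
import Cfsg.Agent.Lib.H29.ChevDataE6
import Cfsg.Agent.Lib.H29.ChevDataXE6
import Cfsg.Agent.Lib.H29.ChevDataCE6
import Cfsg.Agent.Lib.H29.ChevFast5
import Cfsg.Agent.Lib.H29.ChevGen1

set_option autoImplicit false

namespace Cfsg.Agent.Lib.H29.Chev

set_option maxRecDepth 1000000 in
set_option maxHeartbeats 0 in
theorem fdE6_CF_c0s0 : allR 0 324 (fdE6.chkCFQ fxE6 fcE6) = true := by decide +kernel

set_option maxRecDepth 1000000 in
set_option maxHeartbeats 0 in
theorem fdE6_CF_c0s1 : allR 324 648 (fdE6.chkCFQ fxE6 fcE6) = true := by decide +kernel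

set_option maxRecDepth 1000000 in
set_option maxHeartbeats 0 in
theorem fdE6_CF_c0s2 : allR 648 972 (fdE6.chkCFQ fxE6 fcE6) = true := by decide +kernel

set_option maxRecDepth 1000000 in
set_option maxHeartbeats 0 in
theorem fdE6_CF_c0s3 : allR 972 1296 (fdE6.chkCFQ fxE6 fcE6) = true := by decide +kernel

set_option maxRecDepth 1000000 in
set_option maxHeartbeats 0 in
theorem fdE6_CF_c0s4 : allR 1296 1620 (fdE6.chkCFQ fxE6 fcE6) = true := by decide +kernel

set_option maxRecDepth 1000000 in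
set_option maxHeartbeats 0 in
theorem fdE6_CF_c0s5 : allR 1620 1944 (fdE6.chkCFQ fxE6 fcE6) = true := by decide +kernel

set_option maxRecDepth 1000000 in
set_option maxHeartbeats 0 in
theorem fdE6_CF_c0s6 : allR 1944 2268 (fdE6.chkCFQ fxE6 fcE6) = true := by decide +kernel

set_option maxRecDepth 1000000 in
set_option maxHeartbeats 0 in
theorem fdE6_CF_c0s7 : allR 2268 2592 (fdE6.chkCFQ fxE6 fcE6) = true := by decide +kernel

end Cfsg.Agent.Lib.H29.Chev
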