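import Mathlib
import Cfsg.Agent.Lib.H29.ChevDataE6
import Cfsg.Agent.Lib.H29.ChevDataXE6
import Cfsg.Agent.Lib.H29.ChevDataCE6
import Cfsg.Agent.Lib.H29.ChevFast5
import Cfsg.Agent.Lib.H29.ChevGen1

set_option autoImplicit false

namespace Cfsg.Agent.Lib.H29.Chev

set_option maxRecDepth 1000000 in
set_option maxHeartbeats 0 in
theorem fdE6_CF_c1s0 : allR 2592 2916 (fdE6.chkCFQ fxE6 fcE6) = true := by decide +kernel

set_option maxRecDepth 1000000 in
set_option maxHeartbeats 0 in
theorem fdE6_CF_c1s1 : allR 2916 3240 (fdE6.chkCFQ fxE6 fcE6) = true := by decide +kernel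

set_option maxRecDepth 1000000 in
set_option maxHeartbeats 0 in
theorem fdE6_CF_c1s2 : allR 3240 3564 (fdE6.chkCFQ fxE6 fcE6) = true := by decide +kernel

set_option maxRecDepth 1000000 in
set_option maxHeartbeats 0 in
theorem fdE6_CF_c1s3 : allR 3564 3888 (fdE6.chkCFQ fxE6 fcE6) = true := by decide +kernel

set_option maxRecDepth 1000000 in
set_option maxHeartbeats 0 in
theorem fdE6_CF_c1s4 : allR 3888 4212 (fdE6.chkCFQ fxE6 fcE6) = true := by decide +kernel

set_option maxRecDepth 1000000 in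
set_option maxHeartbeats 0 in
theorem fdE6_CF_c1s5 : allR 4212 4536 (fdE6.chkCFQ fxE6 fcE6) = true := by decide +kernel

set_option maxRecDepth 1000000 in
set_option maxHeartbeats 0 in
theorem fdE6_CF_c1s6 : allR 4536 4860 (fdE6.chkCFQ fxE6 fcE6) = true := by decide +kernel

set_option maxRecDepth 1000000 in
set_option maxHeartbeats 0 in
theorem fdE6_CF_c1s7 : allR 4860 5184 (fdE6.chkCFQ fxE6 fcE6) = true := by decide +kernel

end Cfsg.Agent.Lib.H29.Chev
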