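import Mathlib
import Cfsg.Agent.Lib.H29.ChevDataE6
import Cfsg.Agent.Lib.H29.ChevDataXE6
import Cfsg.Agent.Lib.H29.ChevDataCE6
import Cfsg.Agent.Lib.H29.ChevFast5
import Cfsg.Agent.Lib.H29.ChevGen1
import Cfsg.Agent.Lib.H29.ChevChkCFE6c0
import Cfsg.Agent.Lib.H29.ChevChkCFE6c1

set_option autoImplicit false

namespace Cfsg.Agent.Lib.H29.Chev

theorem fdE6_ChkCF : fdE6.ChkCF fxE6 fcE6 := by
  intro r hr
  have hr' : r < 5184 := hr
  by_cases h324 : r < 324
  · exact allR_spec fdE6_CF_c0s0 r (by omega) h324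
  by_cases h648 : r < 648
  · exact allR_spec fdE6_CF_c0s1 r (by omega) h648
  by_cases h972 : r < 972
  · exact allR_spec fdE6_CF_c0s2 r (by omega) h972
  by_cases h1296 : r < 1296
  · exact allR_spec fdE6_CF_c0s3 r (by omega) h1296
  by_cases h1620 : r < 1620
  · exact allR_spec fdE6_CF_c0s4 r (by omega) h1620
  by_cases h1944 : r < 1944
  · exact allR_spec fdE6_CF_c0s5 r (by omega) h1944
  by_cases h2268 : r < 2268
  · exact allR_spec fdE6_CF_c0s6 r (by omega) h2268
  by_cases h2592 : r < 2592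
  · exact allR_spec fdE6_CF_c0s7 r (by omega) h2592
  by_cases h2916 : r < 2916
  · exact allR_spec fdE6_CF_c1s0 r (by omega) h2916
  by_cases h3240 : r < 3240
  · exact allR_spec fdE6_CF_c1s1 r (by omega) h3240
  by_cases h3564 : r < 3564
  · exact allR_spec fdE6_CF_c1s2 r (by omega) h3564
  by_cases h3888 : r < 3888
  · exact allR_spec fdE6_CF_c1s3 r (by omega) h3888
  by_cases h4212 : r < 4212
  · exact allR_spec fdE6_CF_c1s4 r (by omega) h4212
  by_cases h4536 : r < 4536
  · exact allR_spec fdE6_CF_c1s5 r (by omega) h4536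
  by_cases h4860 : r < 4860
  · exact allR_spec fdE6_CF_c1s6 r (by omega) h4860
  exact allR_spec fdE6_CF_c1s7 r (by omega) hr'

end Cfsg.Agent.Lib.H29.Chev
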