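import Mathlib
import Cfsg.Agent.Lib.H29.ChevDataE7
import Cfsg.Agent.Lib.H29.ChevDataXE7
import Cfsg.Agent.Lib.H29.ChevDataCE7
import Cfsg.Agent.Lib.H29.ChevFast5
import Cfsg.Agent.Lib.H29.ChevGen1

set_option autoImplicit false

namespace Cfsg.Agent.Lib.H29.Chev

set_option maxRecDepth 1000000 in
set_option maxHeartbeats 0 in
theorem fdE7_CF_c0s0 : allR 0 248 (fdE7.chkCFQ fxE7 fcE7) = true := by decide +kernel

set_option maxRecDepth 1000000 in
set_option maxHeartbeats 0 in
theorem fdE7_CF_c0s1 : allR 248 496 (fdE7.chkCFQ fxE7 fcE7) = true := by decide +kernel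

set_option maxRecDepth 1000000 in
set_option maxHeartbeats 0 in
theorem fdE7_CF_c0s2 : allR 496 744 (fdE7.chkCFQ fxE7 fcE7) = true := by decide +kernel

set_option maxRecDepth 1000000 in
set_option maxHeartbeats 0 in
theorem fdE7_CF_c0s3 : allR 744 992 (fdE7.chkCFQ fxE7 fcE7) = true := by decide +kernel

set_option maxRecDepth 1000000 in
set_option maxHeartbeats 0 in
theorem fdE7_CF_c0s4 : allR 992 1240 (fdE7.chkCFQ fxE7 fcE7) = true := by decide +kernel

set_option maxRecDepth 1000000 in
set_option maxHeartbeats 0 in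
theorem fdE7_CF_c0s5 : allR 1240 1488 (fdE7.chkCFQ fxE7 fcE7) = true := by decide +kernel

set_option maxRecDepth 1000000 in
set_option maxHeartbeats 0 in
theorem fdE7_CF_c0s6 : allR 1488 1736 (fdE7.chkCFQ fxE7 fcE7) = true := by decide +kernel

set_option maxRecDepth 1000000 in
set_option maxHeartbeats 0 in
theorem fdE7_CF_c0s7 : allR 1736 1984 (fdE7.chkCFQ fxE7 fcE7) = true := by decide +kernel

set_option maxRecDepth 1000000 in
set_option maxHeartbeats 0 in
theorem fdE7_CF_c0s8 : allR 1984 2232 (fdE7.chkCFQ fxE7 fcE7) = true := by decide +kernel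

set_option maxRecDepth 1000000 in
set_option maxHeartbeats 0 in
theorem fdE7_CF_c0s9 : allR 2232 2480 (fdE7.chkCFQ fxE7 fcE7) = true := by decide +kernel

set_option maxRecDepth 1000000 in
set_option maxHeartbeats 0 in
theorem fdE7_CF_c0s10 : allR 2480 2728 (fdE7.chkCFQ fxE7 fcE7) = true := by decide +kernel

set_option maxRecDepth 1000000 in
set_option maxHeartbeats 0 in
theorem fdE7_CF_c0s11 : allR 2728 2976 (fdE7.chkCFQ fxE7 fcE7) = true := by decide +kernel

set_option maxRecDepth 1000000 in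
set_option maxHeartbeats 0 in
theorem fdE7_CF_c0s12 : allR 2976 3224 (fdE7.chkCFQ fxE7 fcE7) = true := by decide +kernel

set_option maxRecDepth 1000000 in
set_option maxHeartbeats 0 in
theorem fdE7_CF_c0s13 : allR 3224 3472 (fdE7.chkCFQ fxE7 fcE7) = true := by decide +kernel

set_option maxRecDepth 1000000 in
set_option maxHeartbeats 0 in
theorem fdE7_CF_c0s14 : allR 3472 3720 (fdE7.chkCFQ fxE7 fcE7) = true := by decide +kernel

set_option maxRecDepth 1000000 in
set_option maxHeartbeats 0 in
theorem fdE7_CF_c0s15 : allR 3720 3969 (fdE7.chkCFQ fxE7 fcE7) = true := by decide +kernel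

end Cfsg.Agent.Lib.H29.Chev
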