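import Mathlib
import Cfsg.Agent.Lib.H29.ChevDataE7
import Cfsg.Agent.Lib.H29.ChevDataXE7
import Cfsg.Agent.Lib.H29.ChevDataCE7
import Cfsg.Agent.Lib.H29.ChevFast5
import Cfsg.Agent.Lib.H29.ChevGen1

set_option autoImplicit false

namespace Cfsg.Agent.Lib.H29.Chev

set_option maxRecDepth 1000000 in
set_option maxHeartbeats 0 in
theorem fdE7_CF_c1s0 : allR 3969 4217 (fdE7.chkCFQ fxE7 fcE7) = true := by decide +kernel

set_option maxRecDepth 1000000 in
set_option maxHeartbeats 0 in
theorem fdE7_CF_c1s1 : allR 4217 4465 (fdE7.chkCFQ fxE7 fcE7) = true := by decide +kernel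

set_option maxRecDepth 1000000 in
set_option maxHeartbeats 0 in
theorem fdE7_CF_c1s2 : allR 4465 4713 (fdE7.chkCFQ fxE7 fcE7) = true := by decide +kernel

set_option maxRecDepth 1000000 in
set_option maxHeartbeats 0 in
theorem fdE7_CF_c1s3 : allR 4713 4961 (fdE7.chkCFQ fxE7 fcE7) = true := by decide +kernel

set_option maxRecDepth 1000000 in
set_option maxHeartbeats 0 in
theorem fdE7_CF_c1s4 : allR 4961 5209 (fdE7.chkCFQ fxE7 fcE7) = true := by decide +kernel

set_option maxRecDepth 1000000 in
set_option maxHeartbeats 0 in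
theorem fdE7_CF_c1s5 : allR 5209 5457 (fdE7.chkCFQ fxE7 fcE7) = true := by decide +kernel

set_option maxRecDepth 1000000 in
set_option maxHeartbeats 0 in
theorem fdE7_CF_c1s6 : allR 5457 5705 (fdE7.chkCFQ fxE7 fcE7) = true := by decide +kernel

set_option maxRecDepth 1000000 in
set_option maxHeartbeats 0 in
theorem fdE7_CF_c1s7 : allR 5705 5953 (fdE7.chkCFQ fxE7 fcE7) = true := by decide +kernel

set_option maxRecDepth 1000000 in
set_option maxHeartbeats 0 in
theorem fdE7_CF_c1s8 : allR 5953 6201 (fdE7.chkCFQ fxE7 fcE7) = true := by decide +kernel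

set_option maxRecDepth 1000000 in
set_option maxHeartbeats 0 in
theorem fdE7_CF_c1s9 : allR 6201 6449 (fdE7.chkCFQ fxE7 fcE7) = true := by decide +kernel

set_option maxRecDepth 1000000 in
set_option maxHeartbeats 0 in
theorem fdE7_CF_c1s10 : allR 6449 6697 (fdE7.chkCFQ fxE7 fcE7) = true := by decide +kernel

set_option maxRecDepth 1000000 in
set_option maxHeartbeats 0 in
theorem fdE7_CF_c1s11 : allR 6697 6945 (fdE7.chkCFQ fxE7 fcE7) = true := by decide +kernel

set_option maxRecDepth 1000000 in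
set_option maxHeartbeats 0 in
theorem fdE7_CF_c1s12 : allR 6945 7193 (fdE7.chkCFQ fxE7 fcE7) = true := by decide +kernel

set_option maxRecDepth 1000000 in
set_option maxHeartbeats 0 in
theorem fdE7_CF_c1s13 : allR 7193 7441 (fdE7.chkCFQ fxE7 fcE7) = true := by decide +kernel

set_option maxRecDepth 1000000 in
set_option maxHeartbeats 0 in
theorem fdE7_CF_c1s14 : allR 7441 7689 (fdE7.chkCFQ fxE7 fcE7) = true := by decide +kernel

set_option maxRecDepth 1000000 in
set_option maxHeartbeats 0 in
theorem fdE7_CF_c1s15 : allR 7689 7938 (fdE7.chkCFQ fxE7 fcE7) = true := by decide +kernel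

end Cfsg.Agent.Lib.H29.Chev
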