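import Mathlib
import Cfsg.Agent.Lib.H29.ChevDataE7
import Cfsg.Agent.Lib.H29.ChevDataXE7
import Cfsg.Agent.Lib.H29.ChevDataCE7
import Cfsg.Agent.Lib.H29.ChevFast5
import Cfsg.Agent.Lib.H29.ChevGen1

set_option autoImplicit false

namespace Cfsg.Agent.Lib.H29.Chev

set_option maxRecDepth 1000000 in
set_option maxHeartbeats 0 in
theorem fdE7_CF_c2s0 : allR 7938 8186 (fdE7.chkCFQ fxE7 fcE7) = true := by decide +kernel

set_option maxRecDepth 1000000 in
set_option maxHeartbeats 0 in
theorem fdE7_CF_c2s1 : allR 8186 8434 (fdE7.chkCFQ fxE7 fcE7) = true := by decide +kernel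

set_option maxRecDepth 1000000 in
set_option maxHeartbeats 0 in
theorem fdE7_CF_c2s2 : allR 8434 8682 (fdE7.chkCFQ fxE7 fcE7) = true := by decide +kernel

set_option maxRecDepth 1000000 in
set_option maxHeartbeats 0 in
theorem fdE7_CF_c2s3 : allR 8682 8930 (fdE7.chkCFQ fxE7 fcE7) = true := by decide +kernel

set_option maxRecDepth 1000000 in
set_option maxHeartbeats 0 in
theorem fdE7_CF_c2s4 : allR 8930 9178 (fdE7.chkCFQ fxE7 fcE7) = true := by decide +kernel

set_option maxRecDepth 1000000 in
set_option maxHeartbeats 0 in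
theorem fdE7_CF_c2s5 : allR 9178 9426 (fdE7.chkCFQ fxE7 fcE7) = true := by decide +kernel

set_option maxRecDepth 1000000 in
set_option maxHeartbeats 0 in
theorem fdE7_CF_c2s6 : allR 9426 9674 (fdE7.chkCFQ fxE7 fcE7) = true := by decide +kernel

set_option maxRecDepth 1000000 in
set_option maxHeartbeats 0 in
theorem fdE7_CF_c2s7 : allR 9674 9922 (fdE7.chkCFQ fxE7 fcE7) = true := by decide +kernel

set_option maxRecDepth 1000000 in
set_option maxHeartbeats 0 in
theorem fdE7_CF_c2s8 : allR 9922 10170 (fdE7.chkCFQ fxE7 fcE7) = true := by decide +kernel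

set_option maxRecDepth 1000000 in
set_option maxHeartbeats 0 in
theorem fdE7_CF_c2s9 : allR 10170 10418 (fdE7.chkCFQ fxE7 fcE7) = true := by decide +kernel

set_option maxRecDepth 1000000 in
set_option maxHeartbeats 0 in
theorem fdE7_CF_c2s10 : allR 10418 10666 (fdE7.chkCFQ fxE7 fcE7) = true := by decide +kernel

set_option maxRecDepth 1000000 in
set_option maxHeartbeats 0 in
theorem fdE7_CF_c2s11 : allR 10666 10914 (fdE7.chkCFQ fxE7 fcE7) = true := by decide +kernel

set_option maxRecDepth 1000000 in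
set_option maxHeartbeats 0 in
theorem fdE7_CF_c2s12 : allR 10914 11162 (fdE7.chkCFQ fxE7 fcE7) = true := by decide +kernel

set_option maxRecDepth 1000000 in
set_option maxHeartbeats 0 in
theorem fdE7_CF_c2s13 : allR 11162 11410 (fdE7.chkCFQ fxE7 fcE7) = true := by decide +kernel

set_option maxRecDepth 1000000 in
set_option maxHeartbeats 0 in
theorem fdE7_CF_c2s14 : allR 11410 11658 (fdE7.chkCFQ fxE7 fcE7) = true := by decide +kernel

set_option maxRecDepth 1000000 in
set_option maxHeartbeats 0 in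
theorem fdE7_CF_c2s15 : allR 11658 11907 (fdE7.chkCFQ fxE7 fcE7) = true := by decide +kernel

end Cfsg.Agent.Lib.H29.Chev
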