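import Mathlib
import Cfsg.Agent.Lib.H29.ChevDataE7
import Cfsg.Agent.Lib.H29.ChevDataXE7
import Cfsg.Agent.Lib.H29.ChevDataCE7
import Cfsg.Agent.Lib.H29.ChevFast5
import Cfsg.Agent.Lib.H29.ChevGen1

set_option autoImplicit false

namespace Cfsg.Agent.Lib.H29.Chev

set_option maxRecDepth 1000000 in
set_option maxHeartbeats 0 in
theorem fdE7_CF_c3s0 : allR 11907 12155 (fdE7.chkCFQ fxE7 fcE7) = true := by decide +kernel

set_option maxRecDepth 1000000 in
set_option maxHeartbeats 0 in
theorem fdE7_CF_c3s1 : allR 12155 12403 (fdE7.chkCFQ fxE7 fcE7) = true := by decide +kernel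

set_option maxRecDepth 1000000 in
set_option maxHeartbeats 0 in
theorem fdE7_CF_c3s2 : allR 12403 12651 (fdE7.chkCFQ fxE7 fcE7) = true := by decide +kernel

set_option maxRecDepth 1000000 in
set_option maxHeartbeats 0 in
theorem fdE7_CF_c3s3 : allR 12651 12899 (fdE7.chkCFQ fxE7 fcE7) = true := by decide +kernel

set_option maxRecDepth 1000000 in
set_option maxHeartbeats 0 in
theorem fdE7_CF_c3s4 : allR 12899 13147 (fdE7.chkCFQ fxE7 fcE7) = true := by decide +kernel

set_option maxRecDepth 1000000 in
set_option maxHeartbeats 0 in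
theorem fdE7_CF_c3s5 : allR 13147 13395 (fdE7.chkCFQ fxE7 fcE7) = true := by decide +kernel

set_option maxRecDepth 1000000 in
set_option maxHeartbeats 0 in
theorem fdE7_CF_c3s6 : allR 13395 13643 (fdE7.chkCFQ fxE7 fcE7) = true := by decide +kernel

set_option maxRecDepth 1000000 in
set_option maxHeartbeats 0 in
theorem fdE7_CF_c3s7 : allR 13643 13891 (fdE7.chkCFQ fxE7 fcE7) = true := by decide +kernel

set_option maxRecDepth 1000000 in
set_option maxHeartbeats 0 in
theorem fdE7_CF_c3s8 : allR 13891 14139 (fdE7.chkCFQ fxE7 fcE7) = true := by decide +kernel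

set_option maxRecDepth 1000000 in
set_option maxHeartbeats 0 in
theorem fdE7_CF_c3s9 : allR 14139 14387 (fdE7.chkCFQ fxE7 fcE7) = true := by decide +kernel

set_option maxRecDepth 1000000 in
set_option maxHeartbeats 0 in
theorem fdE7_CF_c3s10 : allR 14387 14635 (fdE7.chkCFQ fxE7 fcE7) = true := by decide +kernel

set_option maxRecDepth 1000000 in
set_option maxHeartbeats 0 in
theorem fdE7_CF_c3s11 : allR 14635 14883 (fdE7.chkCFQ fxE7 fcE7) = true := by decide +kernel

set_option maxRecDepth 1000000 in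
set_option maxHeartbeats 0 in
theorem fdE7_CF_c3s12 : allR 14883 15131 (fdE7.chkCFQ fxE7 fcE7) = true := by decide +kernel

set_option maxRecDepth 1000000 in
set_option maxHeartbeats 0 in
theorem fdE7_CF_c3s13 : allR 15131 15379 (fdE7.chkCFQ fxE7 fcE7) = true := by decide +kernel

set_option maxRecDepth 1000000 in
set_option maxHeartbeats 0 in
theorem fdE7_CF_c3s14 : allR 15379 15627 (fdE7.chkCFQ fxE7 fcE7) = true := by decide +kernel

set_option maxRecDepth 1000000 in
set_option maxHeartbeats 0 in
theorem fdE7_CF_c3s15 : allR 15627 15876 (fdE7.chkCFQ fxE7 fcE7) = true := by decide +kernel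

end Cfsg.Agent.Lib.H29.Chev
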