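import Mathlib
import Cfsg.Agent.Lib.H29.ChevDataE7
import Cfsg.Agent.Lib.H29.ChevDataXE7
import Cfsg.Agent.Lib.H29.ChevDataCE7
import Cfsg.Agent.Lib.H29.ChevFast5
import Cfsg.Agent.Lib.H29.ChevGen1
import Cfsg.Agent.Lib.H29.ChevChkCFE7c0
import Cfsg.Agent.Lib.H29.ChevChkCFE7c1
import Cfsg.Agent.Lib.H29.ChevChkCFE7c2
import Cfsg.Agent.Lib.H29.ChevChkCFE7c3

set_option autoImplicit false

namespace Cfsg.Agent.Lib.H29.Chev

theorem fdE7_ChkCF : fdE7.ChkCF fxE7 fcE7 := by
  intro r hr
  have hr' : r < 15876 := hr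
  by_cases h248 : r < 248
  · exact allR_spec fdE7_CF_c0s0 r (by omega) h248
  by_cases h496 : r < 496
  · exact allR_spec fdE7_CF_c0s1 r (by omega) h496
  by_cases h744 : r < 744
  · exact allR_spec fdE7_CF_c0s2 r (by omega) h744
  by_cases h992 : r < 992
  · exact allR_spec fdE7_CF_c0s3 r (by omega) h992
  by_cases h1240 : r < 1240
  · exact allR_spec fdE7_CF_c0s4 r (by omega) h1240
  by_cases h1488 : r < 1488
  · exact allR_spec fdE7_CF_c0s5 r (by omega) h1488
  by_cases h1736 : r < 1736
  · exact allR_spec fdE7_CF_c0s6 r (by omega) h1736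
  by_cases h1984 : r < 1984
  · exact allR_spec fdE7_CF_c0s7 r (by omega) h1984
  by_cases h2232 : r < 2232
  · exact allR_spec fdE7_CF_c0s8 r (by omega) h2232
  by_cases h2480 : r < 2480
  · exact allR_spec fdE7_CF_c0s9 r (by omega) h2480
  by_cases h2728 : r < 2728
  · exact allR_spec fdE7_CF_c0s10 r (by omega) h2728
  by_cases h2976 : r < 2976
  · exact allR_spec fdE7_CF_c0s11 r (by omega) h2976
  by_cases h3224 : r < 3224
  · exact allR_spec fdE7_CF_c0s12 r (by omega) h3224
  by_cases h3472 : r < 3472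
  · exact allR_spec fdE7_CF_c0s13 r (by omega) h3472
  by_cases h3720 : r < 3720
  · exact allR_spec fdE7_CF_c0s14 r (by omega) h3720
  by_cases h3969 : r < 3969
  · exact allR_spec fdE7_CF_c0s15 r (by omega) h3969
  by_cases h4217 : r < 4217
  · exact allR_spec fdE7_CF_c1s0 r (by omega) h4217
  by_cases h4465 : r < 4465
  · exact allR_spec fdE7_CF_c1s1 r (by omega) h4465
  by_cases h4713 : r < 4713
  · exact allR_spec fdE7_CF_c1s2 r (by omega) h4713
  by_cases h4961 : r < 4961
  · exact allR_spec fdE7_CF_c1s3 r (by omega) h4961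
  by_cases h5209 : r < 5209
  · exact allR_spec fdE7_CF_c1s4 r (by omega) h5209
  by_cases h5457 : r < 5457
  · exact allR_spec fdE7_CF_c1s5 r (by omega) h5457
  by_cases h5705 : r < 5705
  · exact allR_spec fdE7_CF_c1s6 r (by omega) h5705
  by_cases h5953 : r < 5953
  · exact allR_spec fdE7_CF_c1s7 r (by omega) h5953
  by_cases h6201 : r < 6201
  · exact allR_spec fdE7_CF_c1s8 r (by omega) h6201
  by_cases h6449 : r < 6449
  · exact allR_spec fdE7_CF_c1s9 r (by omega) h6449
  by_cases h6697 : r < 6697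
  · exact allR_spec fdE7_CF_c1s10 r (by omega) h6697
  by_cases h6945 : r < 6945
  · exact allR_spec fdE7_CF_c1s11 r (by omega) h6945
  by_cases h7193 : r < 7193
  · exact allR_spec fdE7_CF_c1s12 r (by omega) h7193
  by_cases h7441 : r < 7441
  · exact allR_spec fdE7_CF_c1s13 r (by omega) h7441
  by_cases h7689 : r < 7689
  · exact allR_spec fdE7_CF_c1s14 r (by omega) h7689
  by_cases h7938 : r < 7938
  · exact allR_spec fdE7_CF_c1s15 r (by omega) h7938
  by_cases h8186 : r < 8186
  · exact allR_spec fdE7_CF_c2s0 r (by omega) h8186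
  by_cases h8434 : r < 8434
  · exact allR_spec fdE7_CF_c2s1 r (by omega) h8434
  by_cases h8682 : r < 8682
  · exact allR_spec fdE7_CF_c2s2 r (by omega) h8682
  by_cases h8930 : r < 8930
  · exact allR_spec fdE7_CF_c2s3 r (by omega) h8930
  by_cases h9178 : r < 9178
  · exact allR_spec fdE7_CF_c2s4 r (by omega) h9178
  by_cases h9426 : r < 9426
  · exact allR_spec fdE7_CF_c2s5 r (by omega) h9426
  by_cases h9674 : r < 9674
  · exact allR_spec fdE7_CF_c2s6 r (by omega) h9674
  by_cases h9922 : r < 9922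
  · exact allR_spec fdE7_CF_c2s7 r (by omega) h9922
  by_cases h10170 : r < 10170
  · exact allR_spec fdE7_CF_c2s8 r (by omega) h10170
  by_cases h10418 : r < 10418
  · exact allR_spec fdE7_CF_c2s9 r (by omega) h10418
  by_cases h10666 : r < 10666
  · exact allR_spec fdE7_CF_c2s10 r (by omega) h10666
  by_cases h10914 : r < 10914
  · exact allR_spec fdE7_CF_c2s11 r (by omega) h10914
  by_cases h11162 : r < 11162
  · exact allR_spec fdE7_CF_c2s12 r (by omega) h11162
  by_cases h11410 : r < 11410
  · exact allR_spec fdE7_CF_c2s13 r (by omega) h11410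
  by_cases h11658 : r < 11658
  · exact allR_spec fdE7_CF_c2s14 r (by omega) h11658
  by_cases h11907 : r < 11907
  · exact allR_spec fdE7_CF_c2s15 r (by omega) h11907
  by_cases h12155 : r < 12155
  · exact allR_spec fdE7_CF_c3s0 r (by omega) h12155
  by_cases h12403 : r < 12403
  · exact allR_spec fdE7_CF_c3s1 r (by omega) h12403
  by_cases h12651 : r < 12651
  · exact allR_spec fdE7_CF_c3s2 r (by omega) h12651
  by_cases h12899 : r < 12899
  · exact allR_spec fdE7_CF_c3s3 r (by omega) h12899
  by_cases h13147 : r < 13147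
  · exact allR_spec fdE7_CF_c3s4 r (by omega) h13147
  by_cases h13395 : r < 13395
  · exact allR_spec fdE7_CF_c3s5 r (by omega) h13395
  by_cases h13643 : r < 13643
  · exact allR_spec fdE7_CF_c3s6 r (by omega) h13643
  by_cases h13891 : r < 13891
  · exact allR_spec fdE7_CF_c3s7 r (by omega) h13891
  by_cases h14139 : r < 14139
  · exact allR_spec fdE7_CF_c3s8 r (by omega) h14139
  by_cases h14387 : r < 14387
  · exact allR_spec fdE7_CF_c3s9 r (by omega) h14387
  by_cases h14635 : r < 14635
  · exact allR_spec fdE7_CF_c3s10 r (by omega) h14635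
  by_cases h14883 : r < 14883
  · exact allR_spec fdE7_CF_c3s11 r (by omega) h14883
  by_cases h15131 : r < 15131
  · exact allR_spec fdE7_CF_c3s12 r (by omega) h15131
  by_cases h15379 : r < 15379
  · exact allR_spec fdE7_CF_c3s13 r (by omega) h15379
  by_cases h15627 : r < 15627
  · exact allR_spec fdE7_CF_c3s14 r (by omega) h15627
  exact allR_spec fdE7_CF_c3s15 r (by omega) hr'

end Cfsg.Agent.Lib.H29.Chev
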