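import Mathlib
import Cfsg.Agent.Lib.H29.ChevDataE8
import Cfsg.Agent.Lib.H29.ChevDataXE8
import Cfsg.Agent.Lib.H29.ChevDataCE8
import Cfsg.Agent.Lib.H29.ChevFast5
import Cfsg.Agent.Lib.H29.ChevGen1

set_option autoImplicit false

namespace Cfsg.Agent.Lib.H29.Chev

set_option maxRecDepth 1000000 in
set_option maxHeartbeats 0 in
theorem fdE8_CF_c0s0 : allR 0 225 (fdE8.chkCFQ fxE8 fcE8) = true := by decide +kernel

set_option maxRecDepth 1000000 in
set_option maxHeartbeats 0 in
theorem fdE8_CF_c0s1 : allR 225 450 (fdE8.chkCFQ fxE8 fcE8) = true := by decide +kernel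

set_option maxRecDepth 1000000 in
set_option maxHeartbeats 0 in
theorem fdE8_CF_c0s2 : allR 450 675 (fdE8.chkCFQ fxE8 fcE8) = true := by decide +kernel

set_option maxRecDepth 1000000 in
set_option maxHeartbeats 0 in
theorem fdE8_CF_c0s3 : allR 675 900 (fdE8.chkCFQ fxE8 fcE8) = true := by decide +kernel

set_option maxRecDepth 1000000 in
set_option maxHeartbeats 0 in
theorem fdE8_CF_c0s4 : allR 900 1125 (fdE8.chkCFQ fxE8 fcE8) = true := by decide +kernel

set_option maxRecDepth 1000000 in
set_option maxHeartbeats 0 in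
theorem fdE8_CF_c0s5 : allR 1125 1350 (fdE8.chkCFQ fxE8 fcE8) = true := by decide +kernel

set_option maxRecDepth 1000000 in
set_option maxHeartbeats 0 in
theorem fdE8_CF_c0s6 : allR 1350 1575 (fdE8.chkCFQ fxE8 fcE8) = true := by decide +kernel

set_option maxRecDepth 1000000 in
set_option maxHeartbeats 0 in
theorem fdE8_CF_c0s7 : allR 1575 1800 (fdE8.chkCFQ fxE8 fcE8) = true := by decide +kernel

set_option maxRecDepth 1000000 in
set_option maxHeartbeats 0 in
theorem fdE8_CF_c0s8 : allR 1800 2025 (fdE8.chkCFQ fxE8 fcE8) = true := by decide +kernel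

set_option maxRecDepth 1000000 in
set_option maxHeartbeats 0 in
theorem fdE8_CF_c0s9 : allR 2025 2250 (fdE8.chkCFQ fxE8 fcE8) = true := by decide +kernel

set_option maxRecDepth 1000000 in
set_option maxHeartbeats 0 in
theorem fdE8_CF_c0s10 : allR 2250 2475 (fdE8.chkCFQ fxE8 fcE8) = true := by decide +kernel

set_option maxRecDepth 1000000 in
set_option maxHeartbeats 0 in
theorem fdE8_CF_c0s11 : allR 2475 2700 (fdE8.chkCFQ fxE8 fcE8) = true := by decide +kernel

set_option maxRecDepth 1000000 in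
set_option maxHeartbeats 0 in
theorem fdE8_CF_c0s12 : allR 2700 2925 (fdE8.chkCFQ fxE8 fcE8) = true := by decide +kernel

set_option maxRecDepth 1000000 in
set_option maxHeartbeats 0 in
theorem fdE8_CF_c0s13 : allR 2925 3150 (fdE8.chkCFQ fxE8 fcE8) = true := by decide +kernel

set_option maxRecDepth 1000000 in
set_option maxHeartbeats 0 in
theorem fdE8_CF_c0s14 : allR 3150 3375 (fdE8.chkCFQ fxE8 fcE8) = true := by decide +kernel

set_option maxRecDepth 1000000 in
set_option maxHeartbeats 0 in
theorem fdE8_CF_c0s15 : allR 3375 3600 (fdE8.chkCFQ fxE8 fcE8) = true := by decide +kernel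

end Cfsg.Agent.Lib.H29.Chev
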