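import Mathlib
import Cfsg.Agent.Lib.H29.ChevDataE8
import Cfsg.Agent.Lib.H29.ChevDataXE8
import Cfsg.Agent.Lib.H29.ChevDataCE8
import Cfsg.Agent.Lib.H29.ChevFast5
import Cfsg.Agent.Lib.H29.ChevGen1

set_option autoImplicit false

namespace Cfsg.Agent.Lib.H29.Chev

set_option maxRecDepth 1000000 in
set_option maxHeartbeats 0 in
theorem fdE8_CF_c1s0 : allR 3600 3825 (fdE8.chkCFQ fxE8 fcE8) = true := by decide +kernel

set_option maxRecDepth 1000000 in
set_option maxHeartbeats 0 in
theorem fdE8_CF_c1s1 : allR 3825 4050 (fdE8.chkCFQ fxE8 fcE8) = true := by decide +kernel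

set_option maxRecDepth 1000000 in
set_option maxHeartbeats 0 in
theorem fdE8_CF_c1s2 : allR 4050 4275 (fdE8.chkCFQ fxE8 fcE8) = true := by decide +kernel

set_option maxRecDepth 1000000 in
set_option maxHeartbeats 0 in
theorem fdE8_CF_c1s3 : allR 4275 4500 (fdE8.chkCFQ fxE8 fcE8) = true := by decide +kernel

set_option maxRecDepth 1000000 in
set_option maxHeartbeats 0 in
theorem fdE8_CF_c1s4 : allR 4500 4725 (fdE8.chkCFQ fxE8 fcE8) = true := by decide +kernel

set_option maxRecDepth 1000000 in
set_option maxHeartbeats 0 in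
theorem fdE8_CF_c1s5 : allR 4725 4950 (fdE8.chkCFQ fxE8 fcE8) = true := by decide +kernel

set_option maxRecDepth 1000000 in
set_option maxHeartbeats 0 in
theorem fdE8_CF_c1s6 : allR 4950 5175 (fdE8.chkCFQ fxE8 fcE8) = true := by decide +kernel

set_option maxRecDepth 1000000 in
set_option maxHeartbeats 0 in
theorem fdE8_CF_c1s7 : allR 5175 5400 (fdE8.chkCFQ fxE8 fcE8) = true := by decide +kernel

set_option maxRecDepth 1000000 in
set_option maxHeartbeats 0 in
theorem fdE8_CF_c1s8 : allR 5400 5625 (fdE8.chkCFQ fxE8 fcE8) = true := by decide +kernel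

set_option maxRecDepth 1000000 in
set_option maxHeartbeats 0 in
theorem fdE8_CF_c1s9 : allR 5625 5850 (fdE8.chkCFQ fxE8 fcE8) = true := by decide +kernel

set_option maxRecDepth 1000000 in
set_option maxHeartbeats 0 in
theorem fdE8_CF_c1s10 : allR 5850 6075 (fdE8.chkCFQ fxE8 fcE8) = true := by decide +kernel

set_option maxRecDepth 1000000 in
set_option maxHeartbeats 0 in
theorem fdE8_CF_c1s11 : allR 6075 6300 (fdE8.chkCFQ fxE8 fcE8) = true := by decide +kernel

set_option maxRecDepth 1000000 in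
set_option maxHeartbeats 0 in
theorem fdE8_CF_c1s12 : allR 6300 6525 (fdE8.chkCFQ fxE8 fcE8) = true := by decide +kernel

set_option maxRecDepth 1000000 in
set_option maxHeartbeats 0 in
theorem fdE8_CF_c1s13 : allR 6525 6750 (fdE8.chkCFQ fxE8 fcE8) = true := by decide +kernel

set_option maxRecDepth 1000000 in
set_option maxHeartbeats 0 in
theorem fdE8_CF_c1s14 : allR 6750 6975 (fdE8.chkCFQ fxE8 fcE8) = true := by decide +kernel

set_option maxRecDepth 1000000 in
set_option maxHeartbeats 0 in
theorem fdE8_CF_c1s15 : allR 6975 7200 (fdE8.chkCFQ fxE8 fcE8) = true := by decide +kernel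

end Cfsg.Agent.Lib.H29.Chev
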