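import Mathlib
import Cfsg.Agent.Lib.H29.ChevDataE8
import Cfsg.Agent.Lib.H29.ChevDataXE8
import Cfsg.Agent.Lib.H29.ChevDataCE8
import Cfsg.Agent.Lib.H29.ChevFast5
import Cfsg.Agent.Lib.H29.ChevGen1

set_option autoImplicit false

namespace Cfsg.Agent.Lib.H29.Chev

set_option maxRecDepth 1000000 in
set_option maxHeartbeats 0 in
theorem fdE8_CF_c10s0 : allR 36000 36225 (fdE8.chkCFQ fxE8 fcE8) = true := by decide +kernel

set_option maxRecDepth 1000000 in
set_option maxHeartbeats 0 in
theorem fdE8_CF_c10s1 : allR 36225 36450 (fdE8.chkCFQ fxE8 fcE8) = true := by decide +kernel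

set_option maxRecDepth 1000000 in
set_option maxHeartbeats 0 in
theorem fdE8_CF_c10s2 : allR 36450 36675 (fdE8.chkCFQ fxE8 fcE8) = true := by decide +kernel

set_option maxRecDepth 1000000 in
set_option maxHeartbeats 0 in
theorem fdE8_CF_c10s3 : allR 36675 36900 (fdE8.chkCFQ fxE8 fcE8) = true := by decide +kernel

set_option maxRecDepth 1000000 in
set_option maxHeartbeats 0 in
theorem fdE8_CF_c10s4 : allR 36900 37125 (fdE8.chkCFQ fxE8 fcE8) = true := by decide +kernel

set_option maxRecDepth 1000000 in
set_option maxHeartbeats 0 in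
theorem fdE8_CF_c10s5 : allR 37125 37350 (fdE8.chkCFQ fxE8 fcE8) = true := by decide +kernel

set_option maxRecDepth 1000000 in
set_option maxHeartbeats 0 in
theorem fdE8_CF_c10s6 : allR 37350 37575 (fdE8.chkCFQ fxE8 fcE8) = true := by decide +kernel

set_option maxRecDepth 1000000 in
set_option maxHeartbeats 0 in
theorem fdE8_CF_c10s7 : allR 37575 37800 (fdE8.chkCFQ fxE8 fcE8) = true := by decide +kernel

set_option maxRecDepth 1000000 in
set_option maxHeartbeats 0 in
theorem fdE8_CF_c10s8 : allR 37800 38025 (fdE8.chkCFQ fxE8 fcE8) = true := by decide +kernel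

set_option maxRecDepth 1000000 in
set_option maxHeartbeats 0 in
theorem fdE8_CF_c10s9 : allR 38025 38250 (fdE8.chkCFQ fxE8 fcE8) = true := by decide +kernel

set_option maxRecDepth 1000000 in
set_option maxHeartbeats 0 in
theorem fdE8_CF_c10s10 : allR 38250 38475 (fdE8.chkCFQ fxE8 fcE8) = true := by decide +kernel

set_option maxRecDepth 1000000 in
set_option maxHeartbeats 0 in
theorem fdE8_CF_c10s11 : allR 38475 38700 (fdE8.chkCFQ fxE8 fcE8) = true := by decide +kernel

set_option maxRecDepth 1000000 in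
set_option maxHeartbeats 0 in
theorem fdE8_CF_c10s12 : allR 38700 38925 (fdE8.chkCFQ fxE8 fcE8) = true := by decide +kernel

set_option maxRecDepth 1000000 in
set_option maxHeartbeats 0 in
theorem fdE8_CF_c10s13 : allR 38925 39150 (fdE8.chkCFQ fxE8 fcE8) = true := by decide +kernel

set_option maxRecDepth 1000000 in
set_option maxHeartbeats 0 in
theorem fdE8_CF_c10s14 : allR 39150 39375 (fdE8.chkCFQ fxE8 fcE8) = true := by decide +kernel

set_option maxRecDepth 1000000 in
set_option maxHeartbeats 0 in
theorem fdE8_CF_c10s15 : allR 39375 39600 (fdE8.chkCFQ fxE8 fcE8) = true := by decide +kernel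

end Cfsg.Agent.Lib.H29.Chev
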