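import Mathlib
import Cfsg.Agent.Lib.H29.ChevDataE8
import Cfsg.Agent.Lib.H29.ChevDataXE8
import Cfsg.Agent.Lib.H29.ChevDataCE8
import Cfsg.Agent.Lib.H29.ChevFast5
import Cfsg.Agent.Lib.H29.ChevGen1

set_option autoImplicit false

namespace Cfsg.Agent.Lib.H29.Chev

set_option maxRecDepth 1000000 in
set_option maxHeartbeats 0 in
theorem fdE8_CF_c11s0 : allR 39600 39825 (fdE8.chkCFQ fxE8 fcE8) = true := by decide +kernel

set_option maxRecDepth 1000000 in
set_option maxHeartbeats 0 in
theorem fdE8_CF_c11s1 : allR 39825 40050 (fdE8.chkCFQ fxE8 fcE8) = true := by decide +kernel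

set_option maxRecDepth 1000000 in
set_option maxHeartbeats 0 in
theorem fdE8_CF_c11s2 : allR 40050 40275 (fdE8.chkCFQ fxE8 fcE8) = true := by decide +kernel

set_option maxRecDepth 1000000 in
set_option maxHeartbeats 0 in
theorem fdE8_CF_c11s3 : allR 40275 40500 (fdE8.chkCFQ fxE8 fcE8) = true := by decide +kernel

set_option maxRecDepth 1000000 in
set_option maxHeartbeats 0 in
theorem fdE8_CF_c11s4 : allR 40500 40725 (fdE8.chkCFQ fxE8 fcE8) = true := by decide +kernel

set_option maxRecDepth 1000000 in
set_option maxHeartbeats 0 in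
theorem fdE8_CF_c11s5 : allR 40725 40950 (fdE8.chkCFQ fxE8 fcE8) = true := by decide +kernel

set_option maxRecDepth 1000000 in
set_option maxHeartbeats 0 in
theorem fdE8_CF_c11s6 : allR 40950 41175 (fdE8.chkCFQ fxE8 fcE8) = true := by decide +kernel

set_option maxRecDepth 1000000 in
set_option maxHeartbeats 0 in
theorem fdE8_CF_c11s7 : allR 41175 41400 (fdE8.chkCFQ fxE8 fcE8) = true := by decide +kernel

set_option maxRecDepth 1000000 in
set_option maxHeartbeats 0 in
theorem fdE8_CF_c11s8 : allR 41400 41625 (fdE8.chkCFQ fxE8 fcE8) = true := by decide +kernel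

set_option maxRecDepth 1000000 in
set_option maxHeartbeats 0 in
theorem fdE8_CF_c11s9 : allR 41625 41850 (fdE8.chkCFQ fxE8 fcE8) = true := by decide +kernel

set_option maxRecDepth 1000000 in
set_option maxHeartbeats 0 in
theorem fdE8_CF_c11s10 : allR 41850 42075 (fdE8.chkCFQ fxE8 fcE8) = true := by decide +kernel

set_option maxRecDepth 1000000 in
set_option maxHeartbeats 0 in
theorem fdE8_CF_c11s11 : allR 42075 42300 (fdE8.chkCFQ fxE8 fcE8) = true := by decide +kernel

set_option maxRecDepth 1000000 in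
set_option maxHeartbeats 0 in
theorem fdE8_CF_c11s12 : allR 42300 42525 (fdE8.chkCFQ fxE8 fcE8) = true := by decide +kernel

set_option maxRecDepth 1000000 in
set_option maxHeartbeats 0 in
theorem fdE8_CF_c11s13 : allR 42525 42750 (fdE8.chkCFQ fxE8 fcE8) = true := by decide +kernel

set_option maxRecDepth 1000000 in
set_option maxHeartbeats 0 in
theorem fdE8_CF_c11s14 : allR 42750 42975 (fdE8.chkCFQ fxE8 fcE8) = true := by decide +kernel

set_option maxRecDepth 1000000 in
set_option maxHeartbeats 0 in
theorem fdE8_CF_c11s15 : allR 42975 43200 (fdE8.chkCFQ fxE8 fcE8) = true := by decide +kernel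

end Cfsg.Agent.Lib.H29.Chev
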