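import Mathlib
import Cfsg.Agent.Lib.H29.ChevDataE8
import Cfsg.Agent.Lib.H29.ChevDataXE8
import Cfsg.Agent.Lib.H29.ChevDataCE8
import Cfsg.Agent.Lib.H29.ChevFast5
import Cfsg.Agent.Lib.H29.ChevGen1

set_option autoImplicit false

namespace Cfsg.Agent.Lib.H29.Chev

set_option maxRecDepth 1000000 in
set_option maxHeartbeats 0 in
theorem fdE8_CF_c12s0 : allR 43200 43425 (fdE8.chkCFQ fxE8 fcE8) = true := by decide +kernel

set_option maxRecDepth 1000000 in
set_option maxHeartbeats 0 in
theorem fdE8_CF_c12s1 : allR 43425 43650 (fdE8.chkCFQ fxE8 fcE8) = true := by decide +kernel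

set_option maxRecDepth 1000000 in
set_option maxHeartbeats 0 in
theorem fdE8_CF_c12s2 : allR 43650 43875 (fdE8.chkCFQ fxE8 fcE8) = true := by decide +kernel

set_option maxRecDepth 1000000 in
set_option maxHeartbeats 0 in
theorem fdE8_CF_c12s3 : allR 43875 44100 (fdE8.chkCFQ fxE8 fcE8) = true := by decide +kernel

set_option maxRecDepth 1000000 in
set_option maxHeartbeats 0 in
theorem fdE8_CF_c12s4 : allR 44100 44325 (fdE8.chkCFQ fxE8 fcE8) = true := by decide +kernel

set_option maxRecDepth 1000000 in
set_option maxHeartbeats 0 in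
theorem fdE8_CF_c12s5 : allR 44325 44550 (fdE8.chkCFQ fxE8 fcE8) = true := by decide +kernel

set_option maxRecDepth 1000000 in
set_option maxHeartbeats 0 in
theorem fdE8_CF_c12s6 : allR 44550 44775 (fdE8.chkCFQ fxE8 fcE8) = true := by decide +kernel

set_option maxRecDepth 1000000 in
set_option maxHeartbeats 0 in
theorem fdE8_CF_c12s7 : allR 44775 45000 (fdE8.chkCFQ fxE8 fcE8) = true := by decide +kernel

set_option maxRecDepth 1000000 in
set_option maxHeartbeats 0 in
theorem fdE8_CF_c12s8 : allR 45000 45225 (fdE8.chkCFQ fxE8 fcE8) = true := by decide +kernel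

set_option maxRecDepth 1000000 in
set_option maxHeartbeats 0 in
theorem fdE8_CF_c12s9 : allR 45225 45450 (fdE8.chkCFQ fxE8 fcE8) = true := by decide +kernel

set_option maxRecDepth 1000000 in
set_option maxHeartbeats 0 in
theorem fdE8_CF_c12s10 : allR 45450 45675 (fdE8.chkCFQ fxE8 fcE8) = true := by decide +kernel

set_option maxRecDepth 1000000 in
set_option maxHeartbeats 0 in
theorem fdE8_CF_c12s11 : allR 45675 45900 (fdE8.chkCFQ fxE8 fcE8) = true := by decide +kernel

set_option maxRecDepth 1000000 in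
set_option maxHeartbeats 0 in
theorem fdE8_CF_c12s12 : allR 45900 46125 (fdE8.chkCFQ fxE8 fcE8) = true := by decide +kernel

set_option maxRecDepth 1000000 in
set_option maxHeartbeats 0 in
theorem fdE8_CF_c12s13 : allR 46125 46350 (fdE8.chkCFQ fxE8 fcE8) = true := by decide +kernel

set_option maxRecDepth 1000000 in
set_option maxHeartbeats 0 in
theorem fdE8_CF_c12s14 : allR 46350 46575 (fdE8.chkCFQ fxE8 fcE8) = true := by decide +kernel

set_option maxRecDepth 1000000 in
set_option maxHeartbeats 0 in
theorem fdE8_CF_c12s15 : allR 46575 46800 (fdE8.chkCFQ fxE8 fcE8) = true := by decide +kernel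

end Cfsg.Agent.Lib.H29.Chev
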