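import Mathlib
import Cfsg.Agent.Lib.H29.ChevDataE8
import Cfsg.Agent.Lib.H29.ChevDataXE8
import Cfsg.Agent.Lib.H29.ChevDataCE8
import Cfsg.Agent.Lib.H29.ChevFast5
import Cfsg.Agent.Lib.H29.ChevGen1
import Cfsg.Agent.Lib.H29.ChevChkCFE8c0
import Cfsg.Agent.Lib.H29.ChevChkCFE8c1
import Cfsg.Agent.Lib.H29.ChevChkCFE8c2
import Cfsg.Agent.Lib.H29.ChevChkCFE8c3
import Cfsg.Agent.Lib.H29.ChevChkCFE8c4
import Cfsg.Agent.Lib.H29.ChevChkCFE8c5
import Cfsg.Agent.Lib.H29.ChevChkCFE8c6
import Cfsg.Agent.Lib.H29.ChevChkCFE8c7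
import Cfsg.Agent.Lib.H29.ChevChkCFE8c8
import Cfsg.Agent.Lib.H29.ChevChkCFE8c9
import Cfsg.Agent.Lib.H29.ChevChkCFE8c10
import Cfsg.Agent.Lib.H29.ChevChkCFE8c11
import Cfsg.Agent.Lib.H29.ChevChkCFE8c12
import Cfsg.Agent.Lib.H29.ChevChkCFE8c13
import Cfsg.Agent.Lib.H29.ChevChkCFE8c14
import Cfsg.Agent.Lib.H29.ChevChkCFE8c15

set_option autoImplicit false

namespace Cfsg.Agent.Lib.H29.Chev

theorem fdE8_ChkCF : fdE8.ChkCF fxE8 fcE8 := by
  intro r hr
  have hr' : r < 57600 := hr
  by_cases h225 : r < 225
  · exact allR_spec fdE8_CF_c0s0 r (by omega) h225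
  by_cases h450 : r < 450
  · exact allR_spec fdE8_CF_c0s1 r (by omega) h450
  by_cases h675 : r < 675
  · exact allR_spec fdE8_CF_c0s2 r (by omega) h675
  by_cases h900 : r < 900
  · exact allR_spec fdE8_CF_c0s3 r (by omega) h900
  by_cases h1125 : r < 1125
  · exact allR_spec fdE8_CF_c0s4 r (by omega) h1125
  by_cases h1350 : r < 1350
  · exact allR_spec fdE8_CF_c0s5 r (by omega) h1350
  by_cases h1575 : r < 1575
  · exact allR_spec fdE8_CF_c0s6 r (by omega) h1575
  by_cases h1800 : r < 1800
  · exact allR_spec fdE8_CF_c0s7 r (by omega) h1800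
  by_cases h2025 : r < 2025
  · exact allR_spec fdE8_CF_c0s8 r (by omega) h2025
  by_cases h2250 : r < 2250
  · exact allR_spec fdE8_CF_c0s9 r (by omega) h2250
  by_cases h2475 : r < 2475
  · exact allR_spec fdE8_CF_c0s10 r (by omega) h2475
  by_cases h2700 : r < 2700
  · exact allR_spec fdE8_CF_c0s11 r (by omega) h2700
  by_cases h2925 : r < 2925
  · exact allR_spec fdE8_CF_c0s12 r (by omega) h2925
  by_cases h3150 : r < 3150
  · exact allR_spec fdE8_CF_c0s13 r (by omega) h3150
  by_cases h3375 : r < 3375
  · exact allR_spec fdE8_CF_c0s14 r (by omega) h3375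
  by_cases h3600 : r < 3600
  · exact allR_spec fdE8_CF_c0s15 r (by omega) h3600
  by_cases h3825 : r < 3825
  · exact allR_spec fdE8_CF_c1s0 r (by omega) h3825
  by_cases h4050 : r < 4050
  · exact allR_spec fdE8_CF_c1s1 r (by omega) h4050
  by_cases h4275 : r < 4275
  · exact allR_spec fdE8_CF_c1s2 r (by omega) h4275
  by_cases h4500 : r < 4500
  · exact allR_spec fdE8_CF_c1s3 r (by omega) h4500
  by_cases h4725 : r < 4725
  · exact allR_spec fdE8_CF_c1s4 r (by omega) h4725
  by_cases h4950 : r < 4950
  · exact allR_spec fdE8_CF_c1s5 r (by omega) h4950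
  by_cases h5175 : r < 5175
  · exact allR_spec fdE8_CF_c1s6 r (by omega) h5175
  by_cases h5400 : r < 5400
  · exact allR_spec fdE8_CF_c1s7 r (by omega) h5400
  by_cases h5625 : r < 5625
  · exact allR_spec fdE8_CF_c1s8 r (by omega) h5625
  by_cases h5850 : r < 5850
  · exact allR_spec fdE8_CF_c1s9 r (by omega) h5850
  by_cases h6075 : r < 6075
  · exact allR_spec fdE8_CF_c1s10 r (by omega) h6075
  by_cases h6300 : r < 6300
  · exact allR_spec fdE8_CF_c1s11 r (by omega) h6300
  by_cases h6525 : r < 6525
  · exact allR_spec fdE8_CF_c1s12 r (by omega) h6525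
  by_cases h6750 : r < 6750
  · exact allR_spec fdE8_CF_c1s13 r (by omega) h6750
  by_cases h6975 : r < 6975
  · exact allR_spec fdE8_CF_c1s14 r (by omega) h6975
  by_cases h7200 : r < 7200
  · exact allR_spec fdE8_CF_c1s15 r (by omega) h7200
  by_cases h7425 : r < 7425
  · exact allR_spec fdE8_CF_c2s0 r (by omega) h7425
  by_cases h7650 : r < 7650
  · exact allR_spec fdE8_CF_c2s1 r (by omega) h7650
  by_cases h7875 : r < 7875
  · exact allR_spec fdE8_CF_c2s2 r (by omega) h7875
  by_cases h8100 : r < 8100
  · exact allR_spec fdE8_CF_c2s3 r (by omega) h8100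
  by_cases h8325 : r < 8325
  · exact allR_spec fdE8_CF_c2s4 r (by omega) h8325
  by_cases h8550 : r < 8550
  · exact allR_spec fdE8_CF_c2s5 r (by omega) h8550
  by_cases h8775 : r < 8775
  · exact allR_spec fdE8_CF_c2s6 r (by omega) h8775
  by_cases h9000 : r < 9000
  · exact allR_spec fdE8_CF_c2s7 r (by omega) h9000
  by_cases h9225 : r < 9225
  · exact allR_spec fdE8_CF_c2s8 r (by omega) h9225
  by_cases h9450 : r < 9450
  · exact allR_spec fdE8_CF_c2s9 r (by omega) h9450
  by_cases h9675 : r < 9675
  · exact allR_spec fdE8_CF_c2s10 r (by omega) h9675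
  by_cases h9900 : r < 9900
  · exact allR_spec fdE8_CF_c2s11 r (by omega) h9900
  by_cases h10125 : r < 10125
  · exact allR_spec fdE8_CF_c2s12 r (by omega) h10125
  by_cases h10350 : r < 10350
  · exact allR_spec fdE8_CF_c2s13 r (by omega) h10350
  by_cases h10575 : r < 10575
  · exact allR_spec fdE8_CF_c2s14 r (by omega) h10575
  by_cases h10800 : r < 10800
  · exact allR_spec fdE8_CF_c2s15 r (by omega) h10800
  by_cases h11025 : r < 11025
  · exact allR_spec fdE8_CF_c3s0 r (by omega) h11025
  by_cases h11250 : r < 11250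
  · exact allR_spec fdE8_CF_c3s1 r (by omega) h11250
  by_cases h11475 : r < 11475
  · exact allR_spec fdE8_CF_c3s2 r (by omega) h11475
  by_cases h11700 : r < 11700
  · exact allR_spec fdE8_CF_c3s3 r (by omega) h11700
  by_cases h11925 : r < 11925
  · exact allR_spec fdE8_CF_c3s4 r (by omega) h11925
  by_cases h12150 : r < 12150
  · exact allR_spec fdE8_CF_c3s5 r (by omega) h12150
  by_cases h12375 : r < 12375
  · exact allR_spec fdE8_CF_c3s6 r (by omega) h12375
  by_cases h12600 : r < 12600
  · exact allR_spec fdE8_CF_c3s7 r (by omega) h12600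
  by_cases h12825 : r < 12825
  · exact allR_spec fdE8_CF_c3s8 r (by omega) h12825
  by_cases h13050 : r < 13050
  · exact allR_spec fdE8_CF_c3s9 r (by omega) h13050
  by_cases h13275 : r < 13275
  · exact allR_spec fdE8_CF_c3s10 r (by omega) h13275
  by_cases h13500 : r < 13500
  · exact allR_spec fdE8_CF_c3s11 r (by omega) h13500
  by_cases h13725 : r < 13725
  · exact allR_spec fdE8_CF_c3s12 r (by omega) h13725
  by_cases h13950 : r < 13950
  · exact allR_spec fdE8_CF_c3s13 r (by omega) h13950
  by_cases h14175 : r < 14175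
  · exact allR_spec fdE8_CF_c3s14 r (by omega) h14175
  by_cases h14400 : r < 14400
  · exact allR_spec fdE8_CF_c3s15 r (by omega) h14400
  by_cases h14625 : r < 14625
  · exact allR_spec fdE8_CF_c4s0 r (by omega) h14625
  by_cases h14850 : r < 14850
  · exact allR_spec fdE8_CF_c4s1 r (by omega) h14850
  by_cases h15075 : r < 15075
  · exact allR_spec fdE8_CF_c4s2 r (by omega) h15075
  by_cases h15300 : r < 15300
  · exact allR_spec fdE8_CF_c4s3 r (by omega) h15300
  by_cases h15525 : r < 15525
  · exact allR_spec fdE8_CF_c4s4 r (by omega) h15525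
  by_cases h15750 : r < 15750
  · exact allR_spec fdE8_CF_c4s5 r (by omega) h15750
  by_cases h15975 : r < 15975
  · exact allR_spec fdE8_CF_c4s6 r (by omega) h15975
  by_cases h16200 : r < 16200
  · exact allR_spec fdE8_CF_c4s7 r (by omega) h16200
  by_cases h16425 : r < 16425
  · exact allR_spec fdE8_CF_c4s8 r (by omega) h16425
  by_cases h16650 : r < 16650
  · exact allR_spec fdE8_CF_c4s9 r (by omega) h16650
  by_cases h16875 : r < 16875
  · exact allR_spec fdE8_CF_c4s10 r (by omega) h16875
  by_cases h17100 : r < 17100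
  · exact allR_spec fdE8_CF_c4s11 r (by omega) h17100
  by_cases h17325 : r < 17325
  · exact allR_spec fdE8_CF_c4s12 r (by omega) h17325
  by_cases h17550 : r < 17550
  · exact allR_spec fdE8_CF_c4s13 r (by omega) h17550
  by_cases h17775 : r < 17775
  · exact allR_spec fdE8_CF_c4s14 r (by omega) h17775
  by_cases h18000 : r < 18000
  · exact allR_spec fdE8_CF_c4s15 r (by omega) h18000
  by_cases h18225 : r < 18225
  · exact allR_spec fdE8_CF_c5s0 r (by omega) h18225
  by_cases h18450 : r < 18450
  · exact allR_spec fdE8_CF_c5s1 r (by omega) h18450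
  by_cases h18675 : r < 18675
  · exact allR_spec fdE8_CF_c5s2 r (by omega) h18675
  by_cases h18900 : r < 18900
  · exact allR_spec fdE8_CF_c5s3 r (by omega) h18900
  by_cases h19125 : r < 19125
  · exact allR_spec fdE8_CF_c5s4 r (by omega) h19125
  by_cases h19350 : r < 19350
  · exact allR_spec fdE8_CF_c5s5 r (by omega) h19350
  by_cases h19575 : r < 19575
  · exact allR_spec fdE8_CF_c5s6 r (by omega) h19575
  by_cases h19800 : r < 19800
  · exact allR_spec fdE8_CF_c5s7 r (by omega) h19800
  by_cases h20025 : r < 20025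
  · exact allR_spec fdE8_CF_c5s8 r (by omega) h20025
  by_cases h20250 : r < 20250
  · exact allR_spec fdE8_CF_c5s9 r (by omega) h20250
  by_cases h20475 : r < 20475
  · exact allR_spec fdE8_CF_c5s10 r (by omega) h20475
  by_cases h20700 : r < 20700
  · exact allR_spec fdE8_CF_c5s11 r (by omega) h20700
  by_cases h20925 : r < 20925
  · exact allR_spec fdE8_CF_c5s12 r (by omega) h20925
  by_cases h21150 : r < 21150
  · exact allR_spec fdE8_CF_c5s13 r (by omega) h21150
  by_cases h21375 : r < 21375
  · exact allR_spec fdE8_CF_c5s14 r (by omega) h21375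
  by_cases h21600 : r < 21600
  · exact allR_spec fdE8_CF_c5s15 r (by omega) h21600
  by_cases h21825 : r < 21825
  · exact allR_spec fdE8_CF_c6s0 r (by omega) h21825
  by_cases h22050 : r < 22050
  · exact allR_spec fdE8_CF_c6s1 r (by omega) h22050
  by_cases h22275 : r < 22275
  · exact allR_spec fdE8_CF_c6s2 r (by omega) h22275
  by_cases h22500 : r < 22500
  · exact allR_spec fdE8_CF_c6s3 r (by omega) h22500
  by_cases h22725 : r < 22725
  · exact allR_spec fdE8_CF_c6s4 r (by omega) h22725
  by_cases h22950 : r < 22950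
  · exact allR_spec fdE8_CF_c6s5 r (by omega) h22950
  by_cases h23175 : r < 23175
  · exact allR_spec fdE8_CF_c6s6 r (by omega) h23175
  by_cases h23400 : r < 23400
  · exact allR_spec fdE8_CF_c6s7 r (by omega) h23400
  by_cases h23625 : r < 23625
  · exact allR_spec fdE8_CF_c6s8 r (by omega) h23625
  by_cases h23850 : r < 23850
  · exact allR_spec fdE8_CF_c6s9 r (by omega) h23850
  by_cases h24075 : r < 24075
  · exact allR_spec fdE8_CF_c6s10 r (by omega) h24075
  by_cases h24300 : r < 24300
  · exact allR_spec fdE8_CF_c6s11 r (by omega) h24300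
  by_cases h24525 : r < 24525
  · exact allR_spec fdE8_CF_c6s12 r (by omega) h24525
  by_cases h24750 : r < 24750
  · exact allR_spec fdE8_CF_c6s13 r (by omega) h24750
  by_cases h24975 : r < 24975
  · exact allR_spec fdE8_CF_c6s14 r (by omega) h24975
  by_cases h25200 : r < 25200
  · exact allR_spec fdE8_CF_c6s15 r (by omega) h25200
  by_cases h25425 : r < 25425
  · exact allR_spec fdE8_CF_c7s0 r (by omega) h25425
  by_cases h25650 : r < 25650
  · exact allR_spec fdE8_CF_c7s1 r (by omega) h25650
  by_cases h25875 : r < 25875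
  · exact allR_spec fdE8_CF_c7s2 r (by omega) h25875
  by_cases h26100 : r < 26100
  · exact allR_spec fdE8_CF_c7s3 r (by omega) h26100
  by_cases h26325 : r < 26325
  · exact allR_spec fdE8_CF_c7s4 r (by omega) h26325
  by_cases h26550 : r < 26550
  · exact allR_spec fdE8_CF_c7s5 r (by omega) h26550
  by_cases h26775 : r < 26775
  · exact allR_spec fdE8_CF_c7s6 r (by omega) h26775
  by_cases h27000 : r < 27000
  · exact allR_spec fdE8_CF_c7s7 r (by omega) h27000
  by_cases h27225 : r < 27225
  · exact allR_spec fdE8_CF_c7s8 r (by omega) h27225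
  by_cases h27450 : r < 27450
  · exact allR_spec fdE8_CF_c7s9 r (by omega) h27450
  by_cases h27675 : r < 27675
  · exact allR_spec fdE8_CF_c7s10 r (by omega) h27675
  by_cases h27900 : r < 27900
  · exact allR_spec fdE8_CF_c7s11 r (by omega) h27900
  by_cases h28125 : r < 28125
  · exact allR_spec fdE8_CF_c7s12 r (by omega) h28125
  by_cases h28350 : r < 28350
  · exact allR_spec fdE8_CF_c7s13 r (by omega) h28350
  by_cases h28575 : r < 28575
  · exact allR_spec fdE8_CF_c7s14 r (by omega) h28575
  by_cases h28800 : r < 28800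
  · exact allR_spec fdE8_CF_c7s15 r (by omega) h28800
  by_cases h29025 : r < 29025
  · exact allR_spec fdE8_CF_c8s0 r (by omega) h29025
  by_cases h29250 : r < 29250
  · exact allR_spec fdE8_CF_c8s1 r (by omega) h29250
  by_cases h29475 : r < 29475
  · exact allR_spec fdE8_CF_c8s2 r (by omega) h29475
  by_cases h29700 : r < 29700
  · exact allR_spec fdE8_CF_c8s3 r (by omega) h29700
  by_cases h29925 : r < 29925
  · exact allR_spec fdE8_CF_c8s4 r (by omega) h29925
  by_cases h30150 : r < 30150
  · exact allR_spec fdE8_CF_c8s5 r (by omega) h30150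
  by_cases h30375 : r < 30375
  · exact allR_spec fdE8_CF_c8s6 r (by omega) h30375
  by_cases h30600 : r < 30600
  · exact allR_spec fdE8_CF_c8s7 r (by omega) h30600
  by_cases h30825 : r < 30825
  · exact allR_spec fdE8_CF_c8s8 r (by omega) h30825
  by_cases h31050 : r < 31050
  · exact allR_spec fdE8_CF_c8s9 r (by omega) h31050
  by_cases h31275 : r < 31275
  · exact allR_spec fdE8_CF_c8s10 r (by omega) h31275
  by_cases h31500 : r < 31500
  · exact allR_spec fdE8_CF_c8s11 r (by omega) h31500
  by_cases h31725 : r < 31725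
  · exact allR_spec fdE8_CF_c8s12 r (by omega) h31725
  by_cases h31950 : r < 31950
  · exact allR_spec fdE8_CF_c8s13 r (by omega) h31950
  by_cases h32175 : r < 32175
  · exact allR_spec fdE8_CF_c8s14 r (by omega) h32175
  by_cases h32400 : r < 32400
  · exact allR_spec fdE8_CF_c8s15 r (by omega) h32400
  by_cases h32625 : r < 32625
  · exact allR_spec fdE8_CF_c9s0 r (by omega) h32625
  by_cases h32850 : r < 32850
  · exact allR_spec fdE8_CF_c9s1 r (by omega) h32850
  by_cases h33075 : r < 33075
  · exact allR_spec fdE8_CF_c9s2 r (by omega) h33075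
  by_cases h33300 : r < 33300
  · exact allR_spec fdE8_CF_c9s3 r (by omega) h33300
  by_cases h33525 : r < 33525
  · exact allR_spec fdE8_CF_c9s4 r (by omega) h33525
  by_cases h33750 : r < 33750
  · exact allR_spec fdE8_CF_c9s5 r (by omega) h33750
  by_cases h33975 : r < 33975
  · exact allR_spec fdE8_CF_c9s6 r (by omega) h33975
  by_cases h34200 : r < 34200
  · exact allR_spec fdE8_CF_c9s7 r (by omega) h34200
  by_cases h34425 : r < 34425
  · exact allR_spec fdE8_CF_c9s8 r (by omega) h34425
  by_cases h34650 : r < 34650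
  · exact allR_spec fdE8_CF_c9s9 r (by omega) h34650
  by_cases h34875 : r < 34875
  · exact allR_spec fdE8_CF_c9s10 r (by omega) h34875
  by_cases h35100 : r < 35100
  · exact allR_spec fdE8_CF_c9s11 r (by omega) h35100
  by_cases h35325 : r < 35325
  · exact allR_spec fdE8_CF_c9s12 r (by omega) h35325
  by_cases h35550 : r < 35550
  · exact allR_spec fdE8_CF_c9s13 r (by omega) h35550
  by_cases h35775 : r < 35775
  · exact allR_spec fdE8_CF_c9s14 r (by omega) h35775
  by_cases h36000 : r < 36000
  · exact allR_spec fdE8_CF_c9s15 r (by omega) h36000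
  by_cases h36225 : r < 36225
  · exact allR_spec fdE8_CF_c10s0 r (by omega) h36225
  by_cases h36450 : r < 36450
  · exact allR_spec fdE8_CF_c10s1 r (by omega) h36450
  by_cases h36675 : r < 36675
  · exact allR_spec fdE8_CF_c10s2 r (by omega) h36675
  by_cases h36900 : r < 36900
  · exact allR_spec fdE8_CF_c10s3 r (by omega) h36900
  by_cases h37125 : r < 37125
  · exact allR_spec fdE8_CF_c10s4 r (by omega) h37125
  by_cases h37350 : r < 37350
  · exact allR_spec fdE8_CF_c10s5 r (by omega) h37350
  by_cases h37575 : r < 37575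
  · exact allR_spec fdE8_CF_c10s6 r (by omega) h37575
  by_cases h37800 : r < 37800
  · exact allR_spec fdE8_CF_c10s7 r (by omega) h37800
  by_cases h38025 : r < 38025
  · exact allR_spec fdE8_CF_c10s8 r (by omega) h38025
  by_cases h38250 : r < 38250
  · exact allR_spec fdE8_CF_c10s9 r (by omega) h38250
  by_cases h38475 : r < 38475
  · exact allR_spec fdE8_CF_c10s10 r (by omega) h38475
  by_cases h38700 : r < 38700
  · exact allR_spec fdE8_CF_c10s11 r (by omega) h38700
  by_cases h38925 : r < 38925
  · exact allR_spec fdE8_CF_c10s12 r (by omega) h38925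
  by_cases h39150 : r < 39150
  · exact allR_spec fdE8_CF_c10s13 r (by omega) h39150
  by_cases h39375 : r < 39375
  · exact allR_spec fdE8_CF_c10s14 r (by omega) h39375
  by_cases h39600 : r < 39600
  · exact allR_spec fdE8_CF_c10s15 r (by omega) h39600
  by_cases h39825 : r < 39825
  · exact allR_spec fdE8_CF_c11s0 r (by omega) h39825
  by_cases h40050 : r < 40050
  · exact allR_spec fdE8_CF_c11s1 r (by omega) h40050
  by_cases h40275 : r < 40275
  · exact allR_spec fdE8_CF_c11s2 r (by omega) h40275
  by_cases h40500 : r < 40500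
  · exact allR_spec fdE8_CF_c11s3 r (by omega) h40500
  by_cases h40725 : r < 40725
  · exact allR_spec fdE8_CF_c11s4 r (by omega) h40725
  by_cases h40950 : r < 40950
  · exact allR_spec fdE8_CF_c11s5 r (by omega) h40950
  by_cases h41175 : r < 41175
  · exact allR_spec fdE8_CF_c11s6 r (by omega) h41175
  by_cases h41400 : r < 41400
  · exact allR_spec fdE8_CF_c11s7 r (by omega) h41400
  by_cases h41625 : r < 41625
  · exact allR_spec fdE8_CF_c11s8 r (by omega) h41625
  by_cases h41850 : r < 41850
  · exact allR_spec fdE8_CF_c11s9 r (by omega) h41850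
  by_cases h42075 : r < 42075
  · exact allR_spec fdE8_CF_c11s10 r (by omega) h42075
  by_cases h42300 : r < 42300
  · exact allR_spec fdE8_CF_c11s11 r (by omega) h42300
  by_cases h42525 : r < 42525
  · exact allR_spec fdE8_CF_c11s12 r (by omega) h42525
  by_cases h42750 : r < 42750
  · exact allR_spec fdE8_CF_c11s13 r (by omega) h42750
  by_cases h42975 : r < 42975
  · exact allR_spec fdE8_CF_c11s14 r (by omega) h42975
  by_cases h43200 : r < 43200
  · exact allR_spec fdE8_CF_c11s15 r (by omega) h43200
  by_cases h43425 : r < 43425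
  · exact allR_spec fdE8_CF_c12s0 r (by omega) h43425
  by_cases h43650 : r < 43650
  · exact allR_spec fdE8_CF_c12s1 r (by omega) h43650
  by_cases h43875 : r < 43875
  · exact allR_spec fdE8_CF_c12s2 r (by omega) h43875
  by_cases h44100 : r < 44100
  · exact allR_spec fdE8_CF_c12s3 r (by omega) h44100
  by_cases h44325 : r < 44325
  · exact allR_spec fdE8_CF_c12s4 r (by omega) h44325
  by_cases h44550 : r < 44550
  · exact allR_spec fdE8_CF_c12s5 r (by omega) h44550
  by_cases h44775 : r < 44775
  · exact allR_spec fdE8_CF_c12s6 r (by omega) h44775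
  by_cases h45000 : r < 45000
  · exact allR_spec fdE8_CF_c12s7 r (by omega) h45000
  by_cases h45225 : r < 45225
  · exact allR_spec fdE8_CF_c12s8 r (by omega) h45225
  by_cases h45450 : r < 45450
  · exact allR_spec fdE8_CF_c12s9 r (by omega) h45450
  by_cases h45675 : r < 45675
  · exact allR_spec fdE8_CF_c12s10 r (by omega) h45675
  by_cases h45900 : r < 45900
  · exact allR_spec fdE8_CF_c12s11 r (by omega) h45900
  by_cases h46125 : r < 46125
  · exact allR_spec fdE8_CF_c12s12 r (by omega) h46125
  by_cases h46350 : r < 46350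
  · exact allR_spec fdE8_CF_c12s13 r (by omega) h46350
  by_cases h46575 : r < 46575
  · exact allR_spec fdE8_CF_c12s14 r (by omega) h46575
  by_cases h46800 : r < 46800
  · exact allR_spec fdE8_CF_c12s15 r (by omega) h46800
  by_cases h47025 : r < 47025
  · exact allR_spec fdE8_CF_c13s0 r (by omega) h47025
  by_cases h47250 : r < 47250
  · exact allR_spec fdE8_CF_c13s1 r (by omega) h47250
  by_cases h47475 : r < 47475
  · exact allR_spec fdE8_CF_c13s2 r (by omega) h47475
  by_cases h47700 : r < 47700
  · exact allR_spec fdE8_CF_c13s3 r (by omega) h47700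
  by_cases h47925 : r < 47925
  · exact allR_spec fdE8_CF_c13s4 r (by omega) h47925
  by_cases h48150 : r < 48150
  · exact allR_spec fdE8_CF_c13s5 r (by omega) h48150
  by_cases h48375 : r < 48375
  · exact allR_spec fdE8_CF_c13s6 r (by omega) h48375
  by_cases h48600 : r < 48600
  · exact allR_spec fdE8_CF_c13s7 r (by omega) h48600
  by_cases h48825 : r < 48825
  · exact allR_spec fdE8_CF_c13s8 r (by omega) h48825
  by_cases h49050 : r < 49050
  · exact allR_spec fdE8_CF_c13s9 r (by omega) h49050
  by_cases h49275 : r < 49275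
  · exact allR_spec fdE8_CF_c13s10 r (by omega) h49275
  by_cases h49500 : r < 49500
  · exact allR_spec fdE8_CF_c13s11 r (by omega) h49500
  by_cases h49725 : r < 49725
  · exact allR_spec fdE8_CF_c13s12 r (by omega) h49725
  by_cases h49950 : r < 49950
  · exact allR_spec fdE8_CF_c13s13 r (by omega) h49950
  by_cases h50175 : r < 50175
  · exact allR_spec fdE8_CF_c13s14 r (by omega) h50175
  by_cases h50400 : r < 50400
  · exact allR_spec fdE8_CF_c13s15 r (by omega) h50400
  by_cases h50625 : r < 50625
  · exact allR_spec fdE8_CF_c14s0 r (by omega) h50625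
  by_cases h50850 : r < 50850
  · exact allR_spec fdE8_CF_c14s1 r (by omega) h50850
  by_cases h51075 : r < 51075
  · exact allR_spec fdE8_CF_c14s2 r (by omega) h51075
  by_cases h51300 : r < 51300
  · exact allR_spec fdE8_CF_c14s3 r (by omega) h51300
  by_cases h51525 : r < 51525
  · exact allR_spec fdE8_CF_c14s4 r (by omega) h51525
  by_cases h51750 : r < 51750
  · exact allR_spec fdE8_CF_c14s5 r (by omega) h51750
  by_cases h51975 : r < 51975
  · exact allR_spec fdE8_CF_c14s6 r (by omega) h51975
  by_cases h52200 : r < 52200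
  · exact allR_spec fdE8_CF_c14s7 r (by omega) h52200
  by_cases h52425 : r < 52425
  · exact allR_spec fdE8_CF_c14s8 r (by omega) h52425
  by_cases h52650 : r < 52650
  · exact allR_spec fdE8_CF_c14s9 r (by omega) h52650
  by_cases h52875 : r < 52875
  · exact allR_spec fdE8_CF_c14s10 r (by omega) h52875
  by_cases h53100 : r < 53100
  · exact allR_spec fdE8_CF_c14s11 r (by omega) h53100
  by_cases h53325 : r < 53325
  · exact allR_spec fdE8_CF_c14s12 r (by omega) h53325
  by_cases h53550 : r < 53550
  · exact allR_spec fdE8_CF_c14s13 r (by omega) h53550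
  by_cases h53775 : r < 53775
  · exact allR_spec fdE8_CF_c14s14 r (by omega) h53775
  by_cases h54000 : r < 54000
  · exact allR_spec fdE8_CF_c14s15 r (by omega) h54000
  by_cases h54225 : r < 54225
  · exact allR_spec fdE8_CF_c15s0 r (by omega) h54225
  by_cases h54450 : r < 54450
  · exact allR_spec fdE8_CF_c15s1 r (by omega) h54450
  by_cases h54675 : r < 54675
  · exact allR_spec fdE8_CF_c15s2 r (by omega) h54675
  by_cases h54900 : r < 54900
  · exact allR_spec fdE8_CF_c15s3 r (by omega) h54900
  by_cases h55125 : r < 55125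
  · exact allR_spec fdE8_CF_c15s4 r (by omega) h55125
  by_cases h55350 : r < 55350
  · exact allR_spec fdE8_CF_c15s5 r (by omega) h55350
  by_cases h55575 : r < 55575
  · exact allR_spec fdE8_CF_c15s6 r (by omega) h55575
  by_cases h55800 : r < 55800
  · exact allR_spec fdE8_CF_c15s7 r (by omega) h55800
  by_cases h56025 : r < 56025
  · exact allR_spec fdE8_CF_c15s8 r (by omega) h56025
  by_cases h56250 : r < 56250
  · exact allR_spec fdE8_CF_c15s9 r (by omega) h56250
  by_cases h56475 : r < 56475
  · exact allR_spec fdE8_CF_c15s10 r (by omega) h56475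
  by_cases h56700 : r < 56700
  · exact allR_spec fdE8_CF_c15s11 r (by omega) h56700
  by_cases h56925 : r < 56925
  · exact allR_spec fdE8_CF_c15s12 r (by omega) h56925
  by_cases h57150 : r < 57150
  · exact allR_spec fdE8_CF_c15s13 r (by omega) h57150
  by_cases h57375 : r < 57375
  · exact allR_spec fdE8_CF_c15s14 r (by omega) h57375
  exact allR_spec fdE8_CF_c15s15 r (by omega) hr'

end Cfsg.Agent.Lib.H29.Chev
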