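import Mathlib
import Cfsg.Agent.Lib.H29.ChevDataF4
import Cfsg.Agent.Lib.H29.ChevDataXF4
import Cfsg.Agent.Lib.H29.ChevDataCF4
import Cfsg.Agent.Lib.H29.ChevFast5
import Cfsg.Agent.Lib.H29.ChevGen1


set_option autoImplicit false

namespace Cfsg.Agent.Lib.H29.Chev

set_option maxRecDepth 1000000 in
set_option maxHeartbeats 0 in
theorem fdF4_CF_c0s0 : allR 0 288 (fdF4.chkCFQ fxF4 fcF4) = true := by decide +kernel

set_option maxRecDepth 1000000 in
set_option maxHeartbeats 0 in
theorem fdF4_CF_c0s1 : allR 288 576 (fdF4.chkCFQ fxF4 fcF4) = true := by decide +kernel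

set_option maxRecDepth 1000000 in
set_option maxHeartbeats 0 in
theorem fdF4_CF_c0s2 : allR 576 864 (fdF4.chkCFQ fxF4 fcF4) = true := by decide +kernel

set_option maxRecDepth 1000000 in
set_option maxHeartbeats 0 in
theorem fdF4_CF_c0s3 : allR 864 1152 (fdF4.chkCFQ fxF4 fcF4) = true := by decide +kernel

set_option maxRecDepth 1000000 in
set_option maxHeartbeats 0 in
theorem fdF4_CF_c0s4 : allR 1152 1440 (fdF4.chkCFQ fxF4 fcF4) = true := by decide +kernel

set_option maxRecDepth 1000000 in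
set_option maxHeartbeats 0 in
theorem fdF4_CF_c0s5 : allR 1440 1728 (fdF4.chkCFQ fxF4 fcF4) = true := by decide +kernel

set_option maxRecDepth 1000000 in
set_option maxHeartbeats 0 in
theorem fdF4_CF_c0s6 : allR 1728 2016 (fdF4.chkCFQ fxF4 fcF4) = true := by decide +kernel

set_option maxRecDepth 1000000 in
set_option maxHeartbeats 0 in
theorem fdF4_CF_c0s7 : allR 2016 2304 (fdF4.chkCFQ fxF4 fcF4) = true := by decide +kernel

theorem fdF4_ChkCF : fdF4.ChkCF fxF4 fcF4 := by
  intro r hr
  have hr' : r < 2304 := hr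
  by_cases h288 : r < 288
  · exact allR_spec fdF4_CF_c0s0 r (by omega) h288
  by_cases h576 : r < 576
  · exact allR_spec fdF4_CF_c0s1 r (by omega) h576
  by_cases h864 : r < 864
  · exact allR_spec fdF4_CF_c0s2 r (by omega) h864
  by_cases h1152 : r < 1152
  · exact allR_spec fdF4_CF_c0s3 r (by omega) h1152
  by_cases h1440 : r < 1440
  · exact allR_spec fdF4_CF_c0s4 r (by omega) h1440
  by_cases h1728 : r < 1728
  · exact allR_spec fdF4_CF_c0s5 r (by omega) h1728
  by_cases h2016 : r < 2016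
  · exact allR_spec fdF4_CF_c0s6 r (by omega) h2016
  exact allR_spec fdF4_CF_c0s7 r (by omega) hr'

end Cfsg.Agent.Lib.H29.Chev
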