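import Mathlib
import Cfsg.Agent.Lib.H29.ChevFast5

/-! Pair tables for the commutator formula of the Chevalley datum of type G2 (generated) -/

set_option autoImplicit false

namespace Cfsg.Agent.Lib.H29.Chev

def fcG2pq (r : ℕ) : ℕ :=
  (bif Nat.blt r 6 then
    (bif Nat.blt r 3 then
      (bif Nat.blt r 1 then
        0x1010101000001010000010100000101000000000000
      else
        (bif Nat.blt r 2 then
          0x20200000202020202010202020102020201020100000201
        else
          0x20100000000020100000201000002010000000002010000))
    else
      (bif Nat.blt r 4 then
        0x10201020102000001020101010201010000010101010101
      else
        (bif Nat.blt r 5 then
          0x20302030203020300000203020200000202020202020202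
        else
          0x10301030103010301030000000001020102010201020102)))
  else
    (bif Nat.blt r 9 then
      (bif Nat.blt r 7 then
        0x20402040204020402040000000002030203020302030203
      else
        (bif Nat.blt r 8 then
          0x10401040104010400000104010300000103010301030103
        else
          0x20502050205000002050204020502040000020402040204))
    else
      (bif Nat.blt r 10 then
        0x20601050000020601050206010502060105000002060105
      else
        (bif Nat.blt r 11 then
          0x10500000105010501040105010401050104010400000104
        else
          0x2060206020502060205020602050206020502050000))))

def fcG2 : FC where
  pq := fcG2pq

end Cfsg.Agent.Lib.H29.Chev
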