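import Mathlib
import Cfsg.Prelude.Def_LieChev
import Cfsg.Agent.Lib.H29.ChevCert3
import Cfsg.Agent.Lib.H29.ChevGen20
import Cfsg.Agent.Lib.H29.ChevChkCFG2
import Cfsg.Agent.Lib.H29.ChevChkCFB2
import Cfsg.Agent.Lib.H29.ChevChkCFD4
import Cfsg.Agent.Lib.H29.ChevChkCFF4
import Cfsg.Agent.Lib.H29.ChevChkCFE6
import Cfsg.Agent.Lib.H29.ChevChkCFE7
import Cfsg.Agent.Lib.H29.ChevChkCFE8

/-!
# Fifth bundle of verified facts about the seven Chevalley data: the commutator formula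
-/

set_option autoImplicit false

namespace Cfsg.Agent.Lib.H29.Chev

open Cfsg.Lie

theorem cert5_of_mem (D : ChevalleyDatum)
    (hD : D ∈ [chevG2, chevB2, chevD4, chevF4, chevE6, chevE7, chevE8]) :
    ∃ fd fx fc, Cert5 D fd fx fc := by
  simp only [List.mem_cons, List.not_mem_nil, or_false] at hD
  rcases hD with rfl | rfl | rfl | rfl | rfl | rfl | rfl
  · exact ⟨fdG2, fxG2, fcG2, ⟨fdG2_cert2, fdG2_ChkConj⟩, fdG2_ChkCF⟩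
  · exact ⟨fdB2, fxB2, fcB2, ⟨fdB2_cert2, fdB2_ChkConj⟩, fdB2_ChkCF⟩
  · exact ⟨fdD4, fxD4, fcD4, ⟨fdD4_cert2, fdD4_ChkConj⟩, fdD4_ChkCF⟩
  · exact ⟨fdF4, fxF4, fcF4, ⟨fdF4_cert2, fdF4_ChkConj⟩, fdF4_ChkCF⟩
  · exact ⟨fdE6, fxE6, fcE6, ⟨fdE6_cert2, fdE6_ChkConj⟩, fdE6_ChkCF⟩
  · exact ⟨fdE7, fxE7, fcE7, ⟨fdE7_cert2, fdE7_ChkConj⟩, fdE7_ChkCF⟩
  · exact ⟨fdE8, fxE8, fcE8, ⟨fdE8_cert2, fdE8_ChkConj⟩, fdE8_ChkCF⟩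

end Cfsg.Agent.Lib.H29.Chev
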