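import Mathlib
import Cfsg.Prelude.Def_LieChev
import Cfsg.Agent.Lib.H29.ChevCert4
import Cfsg.Agent.Lib.H29.ChevCert5
import Cfsg.Agent.Lib.H29.ChevGen21
import Cfsg.Agent.Lib.H29.ChevChkUpG2
import Cfsg.Agent.Lib.H29.ChevChkUpB2
import Cfsg.Agent.Lib.H29.ChevChkUpD4
import Cfsg.Agent.Lib.H29.ChevChkUpF4
import Cfsg.Agent.Lib.H29.ChevChkUpE6
import Cfsg.Agent.Lib.H29.ChevChkUpE7
import Cfsg.Agent.Lib.H29.ChevChkUpE8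

/-!
# Sixth bundle of verified facts about the seven Chevalley data
-/

set_option autoImplicit false

namespace Cfsg.Agent.Lib.H29.Chev

open Cfsg.Lie

theorem cert6_of_mem (D : ChevalleyDatum)
    (hD : D ∈ [chevG2, chevB2, chevD4, chevF4, chevE6, chevE7, chevE8]) :
    ∃ fd fx fc, Cert6 D fd fx fc := by
  simp only [List.mem_cons, List.not_mem_nil, or_false] at hD
  rcases hD with rfl | rfl | rfl | rfl | rfl | rfl | rfl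
  · exact ⟨fdG2, fxG2, fcG2, ⟨⟨fdG2_cert2, fdG2_ChkConj⟩, fdG2_ChkCF⟩, fdG2_ChkDesc, fdG2_ChkUp⟩
  · exact ⟨fdB2, fxB2, fcB2, ⟨⟨fdB2_cert2, fdB2_ChkConj⟩, fdB2_ChkCF⟩, fdB2_ChkDesc, fdB2_ChkUp⟩
  · exact ⟨fdD4, fxD4, fcD4, ⟨⟨fdD4_cert2, fdD4_ChkConj⟩, fdD4_ChkCF⟩, fdD4_ChkDesc, fdD4_ChkUp⟩
  · exact ⟨fdF4, fxF4, fcF4, ⟨⟨fdF4_cert2, fdF4_ChkConj⟩, fdF4_ChkCF⟩, fdF4_ChkDesc, fdF4_ChkUp⟩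
  · exact ⟨fdE6, fxE6, fcE6, ⟨⟨fdE6_cert2, fdE6_ChkConj⟩, fdE6_ChkCF⟩, fdE6_ChkDesc, fdE6_ChkUp⟩
  · exact ⟨fdE7, fxE7, fcE7, ⟨⟨fdE7_cert2, fdE7_ChkConj⟩, fdE7_ChkCF⟩, fdE7_ChkDesc, fdE7_ChkUp⟩
  · exact ⟨fdE8, fxE8, fcE8, ⟨⟨fdE8_cert2, fdE8_ChkConj⟩, fdE8_ChkCF⟩, fdE8_ChkDesc, fdE8_ChkUp⟩

end Cfsg.Agent.Lib.H29.Chev
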