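import Mathlib
import Cfsg.Agent.Lib.H29.ChevFast8

/-! Bezout coefficients for the coroots, type E6 (generated) -/

set_option autoImplicit false

namespace Cfsg.Agent.Lib.H29.Chev

def fzE6 : FZ where
  bz := 0x888889888889888889888889888889888889888889888889888889888889888889888889888889888889888889888889888898888898888898888898888898888898888898888898888898888898888988888988888988888988889888889888889888898888898888988888788888878888878888887888887888887888888788888788888788888788888878888878888878888878888878888878888878888878888878888878888887888887888887888887888887888887888887888887888887888887888887888887888887888887888887888887

end Cfsg.Agent.Lib.H29.Chev
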