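import Mathlib
import Cfsg.Agent.Lib.H29.ChevFast8

/-! Bezout coefficients for the coroots, type E8 (generated) -/

set_option autoImplicit false

namespace Cfsg.Agent.Lib.H29.Chev

def fzE8 : FZ where
  bz := 0x888888d198888888988888889888888898888888988888889888888898888888988888889888888898888888988888888988888889888888888888898888888988888889888888898888888988888889888888898888888988888889888888898888888988888889888888898888888988888889888888898888888988888889888888898888888988888889888888898888888988888889888888898888888988888889888888898888888988888889888888898888888988888889888888898888888988888889888888898888888988888889888888898888888988888889888888898888888988888889888888898888888988888889888888898888888988888889888888898888888988888889888888898888888988888889888888898888888988888889888888898888888988888889888888898888889888888898888888988888889888888898888888988888889888888898888888988888889888888898888888988888889888888898888888988888889888888898888888988888889888888898888888988888898888888988888889888888898888888988888889888888988888889888888898888888988888889888888988888889888888898888888988888898888888988888889888888988888889888888988888887888888887888888878888888878888888788888887888888887888888878888888788888887888888887888888878888888788888887888888878888888878888888788888887888888878888888788888887888888887888888878888888788888887888888878888888788888887888888878888888788888887888888878888888788888887888888878888888788888887888888878888888788888887888888878888888788888888788888887888888878888888788888887888888878888888788888887888888878888888788888887888888878888888788888887888888878888888788888887888888878888888788888887888888878888888788888887888888878888888788888887888888878888888788888887888888878888888788888887888888878888888788888887888888878888888788888887888888878888888788888887888888878888888788888887888888878888888788888887888888878888888788888887888888878888888788888887888888878888888788888887888888878888888788888887888888878888888788888887888888878888888787888888878888887888888878888888788888887888888878888888788888887888888878888888788888887888888878888888888888b3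

end Cfsg.Agent.Lib.H29.Chev
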