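import Mathlib
import Cfsg.Agent.Lib.H29.ChevFast8

/-! Bezout coefficients for the coroots, type F4 (generated) -/

set_option autoImplicit false

namespace Cfsg.Agent.Lib.H29.Chev

def fzF4 : FZ where
  bz := 0x88898889888988d1888988898889888988898889888988898889888988898898889888988898889888988988898898887888878887888878887888788878887888788887888788878887888788878887888788878887888788b3888788878887

end Cfsg.Agent.Lib.H29.Chev
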