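import Mathlib
import Cfsg.Agent.Lib.H29.ChevDataE6
import Cfsg.Agent.Lib.H29.ChevDataXE6
import Cfsg.Agent.Lib.H29.ChevFast8
import Cfsg.Agent.Lib.H29.ChevGen1


set_option autoImplicit false

namespace Cfsg.Agent.Lib.H29.Chev

set_option maxRecDepth 1000000 in
set_option maxHeartbeats 0 in
theorem fdE6_LinC_c0s0 : allR 0 1296 (fdE6.chkLinCQ fxE6) = true := by decide +kernel

set_option maxRecDepth 1000000 in
set_option maxHeartbeats 0 in
theorem fdE6_LinC_c0s1 : allR 1296 2592 (fdE6.chkLinCQ fxE6) = true := by decide +kernel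

set_option maxRecDepth 1000000 in
set_option maxHeartbeats 0 in
theorem fdE6_LinC_c0s2 : allR 2592 3888 (fdE6.chkLinCQ fxE6) = true := by decide +kernel

set_option maxRecDepth 1000000 in
set_option maxHeartbeats 0 in
theorem fdE6_LinC_c0s3 : allR 3888 5184 (fdE6.chkLinCQ fxE6) = true := by decide +kernel

theorem fdE6_ChkLinC : fdE6.ChkLinC fxE6 := by
  intro r hr
  have hr' : r < 5184 := hr
  by_cases h1296 : r < 1296
  · exact allR_spec fdE6_LinC_c0s0 r (by omega) h1296
  by_cases h2592 : r < 2592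
  · exact allR_spec fdE6_LinC_c0s1 r (by omega) h2592
  by_cases h3888 : r < 3888
  · exact allR_spec fdE6_LinC_c0s2 r (by omega) h3888
  exact allR_spec fdE6_LinC_c0s3 r (by omega) hr'

end Cfsg.Agent.Lib.H29.Chev
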