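import Mathlib
import Cfsg.Agent.Lib.H29.ChevDataE8
import Cfsg.Agent.Lib.H29.ChevDataXE8
import Cfsg.Agent.Lib.H29.ChevFast8
import Cfsg.Agent.Lib.H29.ChevGen1

set_option autoImplicit false

namespace Cfsg.Agent.Lib.H29.Chev

set_option maxRecDepth 1000000 in
set_option maxHeartbeats 0 in
theorem fdE8_LinC_c0s0 : allR 0 1800 (fdE8.chkLinCQ fxE8) = true := by decide +kernel

set_option maxRecDepth 1000000 in
set_option maxHeartbeats 0 in
theorem fdE8_LinC_c0s1 : allR 1800 3600 (fdE8.chkLinCQ fxE8) = true := by decide +kernel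

set_option maxRecDepth 1000000 in
set_option maxHeartbeats 0 in
theorem fdE8_LinC_c0s2 : allR 3600 5400 (fdE8.chkLinCQ fxE8) = true := by decide +kernel

set_option maxRecDepth 1000000 in
set_option maxHeartbeats 0 in
theorem fdE8_LinC_c0s3 : allR 5400 7200 (fdE8.chkLinCQ fxE8) = true := by decide +kernel

set_option maxRecDepth 1000000 in
set_option maxHeartbeats 0 in
theorem fdE8_LinC_c0s4 : allR 7200 9000 (fdE8.chkLinCQ fxE8) = true := by decide +kernel

set_option maxRecDepth 1000000 in
set_option maxHeartbeats 0 in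
theorem fdE8_LinC_c0s5 : allR 9000 10800 (fdE8.chkLinCQ fxE8) = true := by decide +kernel

set_option maxRecDepth 1000000 in
set_option maxHeartbeats 0 in
theorem fdE8_LinC_c0s6 : allR 10800 12600 (fdE8.chkLinCQ fxE8) = true := by decide +kernel

set_option maxRecDepth 1000000 in
set_option maxHeartbeats 0 in
theorem fdE8_LinC_c0s7 : allR 12600 14400 (fdE8.chkLinCQ fxE8) = true := by decide +kernel

end Cfsg.Agent.Lib.H29.Chev
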