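import Mathlib
import Cfsg.Agent.Lib.H29.ChevDataE8
import Cfsg.Agent.Lib.H29.ChevDataXE8
import Cfsg.Agent.Lib.H29.ChevFast8
import Cfsg.Agent.Lib.H29.ChevGen1

set_option autoImplicit false

namespace Cfsg.Agent.Lib.H29.Chev

set_option maxRecDepth 1000000 in
set_option maxHeartbeats 0 in
theorem fdE8_LinC_c1s0 : allR 14400 16200 (fdE8.chkLinCQ fxE8) = true := by decide +kernel

set_option maxRecDepth 1000000 in
set_option maxHeartbeats 0 in
theorem fdE8_LinC_c1s1 : allR 16200 18000 (fdE8.chkLinCQ fxE8) = true := by decide +kernel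

set_option maxRecDepth 1000000 in
set_option maxHeartbeats 0 in
theorem fdE8_LinC_c1s2 : allR 18000 19800 (fdE8.chkLinCQ fxE8) = true := by decide +kernel

set_option maxRecDepth 1000000 in
set_option maxHeartbeats 0 in
theorem fdE8_LinC_c1s3 : allR 19800 21600 (fdE8.chkLinCQ fxE8) = true := by decide +kernel

set_option maxRecDepth 1000000 in
set_option maxHeartbeats 0 in
theorem fdE8_LinC_c1s4 : allR 21600 23400 (fdE8.chkLinCQ fxE8) = true := by decide +kernel

set_option maxRecDepth 1000000 in
set_option maxHeartbeats 0 in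
theorem fdE8_LinC_c1s5 : allR 23400 25200 (fdE8.chkLinCQ fxE8) = true := by decide +kernel

set_option maxRecDepth 1000000 in
set_option maxHeartbeats 0 in
theorem fdE8_LinC_c1s6 : allR 25200 27000 (fdE8.chkLinCQ fxE8) = true := by decide +kernel

set_option maxRecDepth 1000000 in
set_option maxHeartbeats 0 in
theorem fdE8_LinC_c1s7 : allR 27000 28800 (fdE8.chkLinCQ fxE8) = true := by decide +kernel

end Cfsg.Agent.Lib.H29.Chev
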