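import Mathlib
import Cfsg.Agent.Lib.H29.ChevDataE8
import Cfsg.Agent.Lib.H29.ChevDataXE8
import Cfsg.Agent.Lib.H29.ChevFast8
import Cfsg.Agent.Lib.H29.ChevGen1

set_option autoImplicit false

namespace Cfsg.Agent.Lib.H29.Chev

set_option maxRecDepth 1000000 in
set_option maxHeartbeats 0 in
theorem fdE8_LinC_c2s0 : allR 28800 30600 (fdE8.chkLinCQ fxE8) = true := by decide +kernel

set_option maxRecDepth 1000000 in
set_option maxHeartbeats 0 in
theorem fdE8_LinC_c2s1 : allR 30600 32400 (fdE8.chkLinCQ fxE8) = true := by decide +kernel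

set_option maxRecDepth 1000000 in
set_option maxHeartbeats 0 in
theorem fdE8_LinC_c2s2 : allR 32400 34200 (fdE8.chkLinCQ fxE8) = true := by decide +kernel

set_option maxRecDepth 1000000 in
set_option maxHeartbeats 0 in
theorem fdE8_LinC_c2s3 : allR 34200 36000 (fdE8.chkLinCQ fxE8) = true := by decide +kernel

set_option maxRecDepth 1000000 in
set_option maxHeartbeats 0 in
theorem fdE8_LinC_c2s4 : allR 36000 37800 (fdE8.chkLinCQ fxE8) = true := by decide +kernel

set_option maxRecDepth 1000000 in
set_option maxHeartbeats 0 in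
theorem fdE8_LinC_c2s5 : allR 37800 39600 (fdE8.chkLinCQ fxE8) = true := by decide +kernel

set_option maxRecDepth 1000000 in
set_option maxHeartbeats 0 in
theorem fdE8_LinC_c2s6 : allR 39600 41400 (fdE8.chkLinCQ fxE8) = true := by decide +kernel

set_option maxRecDepth 1000000 in
set_option maxHeartbeats 0 in
theorem fdE8_LinC_c2s7 : allR 41400 43200 (fdE8.chkLinCQ fxE8) = true := by decide +kernel

end Cfsg.Agent.Lib.H29.Chev
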