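import Mathlib
import Cfsg.Agent.Lib.H29.ChevDataE8
import Cfsg.Agent.Lib.H29.ChevDataXE8
import Cfsg.Agent.Lib.H29.ChevFast8
import Cfsg.Agent.Lib.H29.ChevGen1
import Cfsg.Agent.Lib.H29.ChevChkLinCE8c0
import Cfsg.Agent.Lib.H29.ChevChkLinCE8c1
import Cfsg.Agent.Lib.H29.ChevChkLinCE8c2
import Cfsg.Agent.Lib.H29.ChevChkLinCE8c3

set_option autoImplicit false

namespace Cfsg.Agent.Lib.H29.Chev

theorem fdE8_ChkLinC : fdE8.ChkLinC fxE8 := by
  intro r hr
  have hr' : r < 57600 := hr
  by_cases h1800 : r < 1800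
  · exact allR_spec fdE8_LinC_c0s0 r (by omega) h1800
  by_cases h3600 : r < 3600
  · exact allR_spec fdE8_LinC_c0s1 r (by omega) h3600
  by_cases h5400 : r < 5400
  · exact allR_spec fdE8_LinC_c0s2 r (by omega) h5400
  by_cases h7200 : r < 7200
  · exact allR_spec fdE8_LinC_c0s3 r (by omega) h7200
  by_cases h9000 : r < 9000
  · exact allR_spec fdE8_LinC_c0s4 r (by omega) h9000
  by_cases h10800 : r < 10800
  · exact allR_spec fdE8_LinC_c0s5 r (by omega) h10800
  by_cases h12600 : r < 12600
  · exact allR_spec fdE8_LinC_c0s6 r (by omega) h12600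
  by_cases h14400 : r < 14400
  · exact allR_spec fdE8_LinC_c0s7 r (by omega) h14400
  by_cases h16200 : r < 16200
  · exact allR_spec fdE8_LinC_c1s0 r (by omega) h16200
  by_cases h18000 : r < 18000
  · exact allR_spec fdE8_LinC_c1s1 r (by omega) h18000
  by_cases h19800 : r < 19800
  · exact allR_spec fdE8_LinC_c1s2 r (by omega) h19800
  by_cases h21600 : r < 21600
  · exact allR_spec fdE8_LinC_c1s3 r (by omega) h21600
  by_cases h23400 : r < 23400
  · exact allR_spec fdE8_LinC_c1s4 r (by omega) h23400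
  by_cases h25200 : r < 25200
  · exact allR_spec fdE8_LinC_c1s5 r (by omega) h25200
  by_cases h27000 : r < 27000
  · exact allR_spec fdE8_LinC_c1s6 r (by omega) h27000
  by_cases h28800 : r < 28800
  · exact allR_spec fdE8_LinC_c1s7 r (by omega) h28800
  by_cases h30600 : r < 30600
  · exact allR_spec fdE8_LinC_c2s0 r (by omega) h30600
  by_cases h32400 : r < 32400
  · exact allR_spec fdE8_LinC_c2s1 r (by omega) h32400
  by_cases h34200 : r < 34200
  · exact allR_spec fdE8_LinC_c2s2 r (by omega) h34200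
  by_cases h36000 : r < 36000
  · exact allR_spec fdE8_LinC_c2s3 r (by omega) h36000
  by_cases h37800 : r < 37800
  · exact allR_spec fdE8_LinC_c2s4 r (by omega) h37800
  by_cases h39600 : r < 39600
  · exact allR_spec fdE8_LinC_c2s5 r (by omega) h39600
  by_cases h41400 : r < 41400
  · exact allR_spec fdE8_LinC_c2s6 r (by omega) h41400
  by_cases h43200 : r < 43200
  · exact allR_spec fdE8_LinC_c2s7 r (by omega) h43200
  by_cases h45000 : r < 45000
  · exact allR_spec fdE8_LinC_c3s0 r (by omega) h45000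
  by_cases h46800 : r < 46800
  · exact allR_spec fdE8_LinC_c3s1 r (by omega) h46800
  by_cases h48600 : r < 48600
  · exact allR_spec fdE8_LinC_c3s2 r (by omega) h48600
  by_cases h50400 : r < 50400
  · exact allR_spec fdE8_LinC_c3s3 r (by omega) h50400
  by_cases h52200 : r < 52200
  · exact allR_spec fdE8_LinC_c3s4 r (by omega) h52200
  by_cases h54000 : r < 54000
  · exact allR_spec fdE8_LinC_c3s5 r (by omega) h54000
  by_cases h55800 : r < 55800
  · exact allR_spec fdE8_LinC_c3s6 r (by omega) h55800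
  exact allR_spec fdE8_LinC_c3s7 r (by omega) hr'

end Cfsg.Agent.Lib.H29.Chev
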