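import Mathlib
import Cfsg.Prelude.Def_LieChev
import Cfsg.Agent.Lib.H29.ChevCert6
import Cfsg.Agent.Lib.H29.ChevGen30
import Cfsg.Agent.Lib.H29.ChevChkSgnG2
import Cfsg.Agent.Lib.H29.ChevChkLinCG2
import Cfsg.Agent.Lib.H29.ChevChkFG2
import Cfsg.Agent.Lib.H29.ChevChkSgnB2
import Cfsg.Agent.Lib.H29.ChevChkLinCB2
import Cfsg.Agent.Lib.H29.ChevChkFB2
import Cfsg.Agent.Lib.H29.ChevChkSgnD4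
import Cfsg.Agent.Lib.H29.ChevChkLinCD4
import Cfsg.Agent.Lib.H29.ChevChkFD4
import Cfsg.Agent.Lib.H29.ChevChkSgnF4
import Cfsg.Agent.Lib.H29.ChevChkLinCF4
import Cfsg.Agent.Lib.H29.ChevChkFF4
import Cfsg.Agent.Lib.H29.ChevChkSgnE6
import Cfsg.Agent.Lib.H29.ChevChkLinCE6
import Cfsg.Agent.Lib.H29.ChevChkFE6
import Cfsg.Agent.Lib.H29.ChevChkSgnE7
import Cfsg.Agent.Lib.H29.ChevChkLinCE7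
import Cfsg.Agent.Lib.H29.ChevChkFE7
import Cfsg.Agent.Lib.H29.ChevChkSgnE8
import Cfsg.Agent.Lib.H29.ChevChkLinCE8
import Cfsg.Agent.Lib.H29.ChevChkFE8

/-!
# Twelfth bundle of verified facts about the seven Chevalley data
-/

set_option autoImplicit false

namespace Cfsg.Agent.Lib.H29.Chev

open Cfsg.Lie

theorem cert12_of_mem (D : ChevalleyDatum)
    (hD : D ∈ [chevG2, chevB2, chevD4, chevF4, chevE6, chevE7, chevE8]) :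
    ∃ fd fx fc fz, Cert12 D fd fx fc fz := by
  simp only [List.mem_cons, List.not_mem_nil, or_false] at hD
  rcases hD with rfl | rfl | rfl | rfl | rfl | rfl | rfl
  · exact ⟨fdG2, fxG2, fcG2, fzG2, ⟨⟨⟨fdG2_cert2, fdG2_ChkConj⟩, fdG2_ChkCF⟩, fdG2_ChkDesc, fdG2_ChkUp⟩, fdG2_ChkSgn, fdG2_ChkLinC, fdG2_ChkF⟩
  · exact ⟨fdB2, fxB2, fcB2, fzB2, ⟨⟨⟨fdB2_cert2, fdB2_ChkConj⟩, fdB2_ChkCF⟩, fdB2_ChkDesc, fdB2_ChkUp⟩, fdB2_ChkSgn, fdB2_ChkLinC, fdB2_ChkF⟩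
  · exact ⟨fdD4, fxD4, fcD4, fzD4, ⟨⟨⟨fdD4_cert2, fdD4_ChkConj⟩, fdD4_ChkCF⟩, fdD4_ChkDesc, fdD4_ChkUp⟩, fdD4_ChkSgn, fdD4_ChkLinC, fdD4_ChkF⟩
  · exact ⟨fdF4, fxF4, fcF4, fzF4, ⟨⟨⟨fdF4_cert2, fdF4_ChkConj⟩, fdF4_ChkCF⟩, fdF4_ChkDesc, fdF4_ChkUp⟩, fdF4_ChkSgn, fdF4_ChkLinC, fdF4_ChkF⟩
  · exact ⟨fdE6, fxE6, fcE6, fzE6, ⟨⟨⟨fdE6_cert2, fdE6_ChkConj⟩, fdE6_ChkCF⟩, fdE6_ChkDesc, fdE6_ChkUp⟩, fdE6_ChkSgn, fdE6_ChkLinC, fdE6_ChkF⟩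
  · exact ⟨fdE7, fxE7, fcE7, fzE7, ⟨⟨⟨fdE7_cert2, fdE7_ChkConj⟩, fdE7_ChkCF⟩, fdE7_ChkDesc, fdE7_ChkUp⟩, fdE7_ChkSgn, fdE7_ChkLinC, fdE7_ChkF⟩
  · exact ⟨fdE8, fxE8, fcE8, fzE8, ⟨⟨⟨fdE8_cert2, fdE8_ChkConj⟩, fdE8_ChkCF⟩, fdE8_ChkDesc, fdE8_ChkUp⟩, fdE8_ChkSgn, fdE8_ChkLinC, fdE8_ChkF⟩

end Cfsg.Agent.Lib.H29.Chev
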