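import Mathlib
import Cfsg.Prelude.Def_LieChev
import Cfsg.Agent.Lib.H29.ChevCert12

/-!
# The twelfth bundle, by name
-/

set_option autoImplicit false

namespace Cfsg.Agent.Lib.H29.Chev

open Cfsg.Lie

theorem cert12_G2 : Cert12 chevG2 fdG2 fxG2 fcG2 fzG2 :=
  ⟨⟨⟨⟨fdG2_cert2, fdG2_ChkConj⟩, fdG2_ChkCF⟩, fdG2_ChkDesc, fdG2_ChkUp⟩, fdG2_ChkSgn, fdG2_ChkLinC, fdG2_ChkF⟩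

theorem cert12_B2 : Cert12 chevB2 fdB2 fxB2 fcB2 fzB2 :=
  ⟨⟨⟨⟨fdB2_cert2, fdB2_ChkConj⟩, fdB2_ChkCF⟩, fdB2_ChkDesc, fdB2_ChkUp⟩, fdB2_ChkSgn, fdB2_ChkLinC, fdB2_ChkF⟩

theorem cert12_D4 : Cert12 chevD4 fdD4 fxD4 fcD4 fzD4 :=
  ⟨⟨⟨⟨fdD4_cert2, fdD4_ChkConj⟩, fdD4_ChkCF⟩, fdD4_ChkDesc, fdD4_ChkUp⟩, fdD4_ChkSgn, fdD4_ChkLinC, fdD4_ChkF⟩

theorem cert12_F4 : Cert12 chevF4 fdF4 fxF4 fcF4 fzF4 :=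
  ⟨⟨⟨⟨fdF4_cert2, fdF4_ChkConj⟩, fdF4_ChkCF⟩, fdF4_ChkDesc, fdF4_ChkUp⟩, fdF4_ChkSgn, fdF4_ChkLinC, fdF4_ChkF⟩

theorem cert12_E6 : Cert12 chevE6 fdE6 fxE6 fcE6 fzE6 :=
  ⟨⟨⟨⟨fdE6_cert2, fdE6_ChkConj⟩, fdE6_ChkCF⟩, fdE6_ChkDesc, fdE6_ChkUp⟩, fdE6_ChkSgn, fdE6_ChkLinC, fdE6_ChkF⟩

theorem cert12_E7 : Cert12 chevE7 fdE7 fxE7 fcE7 fzE7 :=
  ⟨⟨⟨⟨fdE7_cert2, fdE7_ChkConj⟩, fdE7_ChkCF⟩, fdE7_ChkDesc, fdE7_ChkUp⟩, fdE7_ChkSgn, fdE7_ChkLinC, fdE7_ChkF⟩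

theorem cert12_E8 : Cert12 chevE8 fdE8 fxE8 fcE8 fzE8 :=
  ⟨⟨⟨⟨fdE8_cert2, fdE8_ChkConj⟩, fdE8_ChkCF⟩, fdE8_ChkDesc, fdE8_ChkUp⟩, fdE8_ChkSgn, fdE8_ChkLinC, fdE8_ChkF⟩

end Cfsg.Agent.Lib.H29.Chev
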