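import Mathlib
import Cfsg.Prelude.Def_ChevStructure
import Cfsg.Agent.Lib.H29.ChevFast6

/-!
# Checks for perfectness and irreducibility

`pw` holds for each root `r` a 24-bit field `a + 256 * b + 65536 * k`: for `k = 1` the commutator formula of the pair
`(a, b)` has the single term `x_r(± t u)`; for `k = 2` the root `a` has `⟨r, a^∨⟩ = ± 1`.
`gam` holds for each pair `(i, j)` of fundamental roots an 8-bit field: a positive root which `(w_i w_j)²` maps to a
negative root, or `0`.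
-/

set_option autoImplicit false
set_option linter.unusedSectionVars false
set_option linter.unusedSimpArgs false

namespace Cfsg.Agent.Lib.H29.Chev

open Cfsg.Lie Matrix

structure FW where
  pw : ℕ
  gam : ℕ

/-- all lists of Booleans of a given length -/
def allMasks : ℕ → List (List Bool)
  | 0 => [[]]
  | k + 1 => (allMasks k).flatMap fun m => [true :: m, false :: m]

namespace FD

variable (fd : FD) (fx : FX) (fw : FW)

def pwA (r : ℕ) : ℕ := (fw.pw >>> (24 * r)) &&& 255
def pwB (r : ℕ) : ℕ := (fw.pw >>> (24 * r + 8)) &&& 255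
def pwK (r : ℕ) : ℕ := (fw.pw >>> (24 * r + 16)) &&& 255

def chkPerfR (r : ℕ) : Bool :=
  Nat.blt (FD.pwA fw r) fd.n &&
  (bif Nat.beq (FD.pwK fw r) 1 then
    Nat.blt (FD.pwB fw r) fd.n && !(Nat.beq (FD.pwB fw r) (FD.pwA fw r)) &&
      !(Nat.beq (FD.pwB fw r) (fd.n - 1 - FD.pwA fw r)) &&
      (FD.ctBeq (fd.commT (FD.pwA fw r) (FD.pwB fw r)) [(r, 1, 1, 1)] ||
        FD.ctBeq (fd.commT (FD.pwA fw r) (FD.pwB fw r)) [(r, -1, 1, 1)])
  else Nat.beq (FD.pwK fw r) 2 && (intBeq (fd.pr r (FD.pwA fw r)) 1 || intBeq (fd.pr r (FD.pwA fw r)) (-1)))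

def ChkPerf : Prop := ∀ r < fd.n, fd.chkPerfR fw r = true

/-- all the witnesses are of the first kind -/
def allK1 : Bool := (List.range fd.n).all fun r => Nat.beq (FD.pwK fw r) 1

def gamQ (q : ℕ) : ℕ := (fw.gam >>> (8 * q)) &&& 255

/-- the action of `(w_i w_j)²` -/
def wact4 (i j s : ℕ) : ℕ :=
  fd.nw fx (fd.simples.getD i 0) (fd.nw fx (fd.simples.getD j 0)
    (fd.nw fx (fd.simples.getD i 0) (fd.nw fx (fd.simples.getD j 0) s)))

def adjOK (q : ℕ) : Bool :=
  Nat.blt (FD.gamQ fw q) fd.n && !(Nat.blt (FD.gamQ fw q) (fd.n / 2)) &&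
    Nat.blt (fd.wact4 fx (q / fd.l) (q % fd.l) (FD.gamQ fw q)) (fd.n / 2)

/-- the Dynkin diagram is connected -/
def chkIrr : Bool :=
  (allMasks fd.l).all fun m => m.all id || m.all (fun b => !b) ||
    (List.range (fd.l * fd.l)).any fun q =>
      m.getD (q / fd.l) false && !(m.getD (q % fd.l) false) && fd.adjOK fx fw q

end FD

end Cfsg.Agent.Lib.H29.Chev
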