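import Mathlib
import Cfsg.Agent.Lib.H29.ChevFast7

/-! Witness tables for perfectness and irreducibility, type G2 (generated) -/

set_option autoImplicit false

namespace Cfsg.Agent.Lib.H29.Chev

def fwG2 : FW where
  pw := 0x10a06010b05020000020000020001010b01010a00020001020000020000010600010501
  gam := 0x70600

end Cfsg.Agent.Lib.H29.Chev
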