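import Mathlib
import Cfsg.Prelude.Def_ChevStructure
import Cfsg.Prelude.Def_LieExceptional
import Cfsg.Agent.Lib.H29.ChevGen25
import Cfsg.Agent.Lib.H29.ChevFast7

/-!
# Perfectness of the Chevalley groups and irreducibility of their (B,N)-pairs
-/

set_option autoImplicit false
set_option linter.unusedSectionVars false
set_option linter.unusedSimpArgs false
set_option linter.unusedVariables false

namespace Cfsg.Agent.Lib.H29.Chev

open Cfsg.Lie Matrix

variable {D : ChevalleyDatum} {fd : FD} {fx : FX} {fc : FC} {fw : FW} {F : Type*} [Field F]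

/-- what `chkPerfR` says -/
theorem FD.perf_spec (hw : fd.ChkPerf fw) (r : ℕ) (hr : r < fd.n) :
    FD.pwA fw r < fd.n ∧
    ((FD.pwK fw r = 1 ∧ FD.pwB fw r < fd.n ∧ FD.pwB fw r ≠ FD.pwA fw r ∧ FD.pwB fw r ≠ fd.n - 1 - FD.pwA fw r ∧
        (fd.commT (FD.pwA fw r) (FD.pwB fw r) = [(r, 1, 1, 1)] ∨
          fd.commT (FD.pwA fw r) (FD.pwB fw r) = [(r, -1, 1, 1)])) ∨
      (FD.pwK fw r ≠ 1 ∧ (fd.pr r (FD.pwA fw r) = 1 ∨ fd.pr r (FD.pwA fw r) = -1))) := by
  have := hw r hr
  unfold FD.chkPerfR at this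
  rw [Bool.and_eq_true, natBlt_iff] at this
  refine ⟨this.1, ?_⟩
  by_cases hk : FD.pwK fw r = 1
  · left
    have hk' : Nat.beq (FD.pwK fw r) 1 = true := (natBeq_iff _ _).mpr hk
    have h2 := this.2
    rw [hk', cond_true] at h2
    simp only [Bool.and_eq_true, natBlt_iff, Bool.not_eq_true', ← Bool.not_eq_true, natBeq_iff, Bool.or_eq_true,
      ctBeq_iff] at h2
    exact ⟨hk, h2.1.1.1, h2.1.1.2, h2.1.2, h2.2⟩
  · right
    have hk' : Nat.beq (FD.pwK fw r) 1 = false := by rw [← Bool.not_eq_true, natBeq_iff]; exact hk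
    have h2 := this.2
    rw [hk', cond_false] at h2
    simp only [Bool.and_eq_true, Bool.or_eq_true, intBeq_iff] at h2
    exact ⟨hk, h2.2⟩

theorem FD.allK1_spec (h : fd.allK1 fw = true) (r : ℕ) (hr : r < fd.n) : FD.pwK fw r = 1 := by
  simp only [FD.allK1, List.all_eq_true, List.mem_range, natBeq_iff] at h
  exact h r hr

/-- all the checks, with the witnesses for perfectness and irreducibility -/
structure Cert9 (D : ChevalleyDatum) (fd : FD) (fx : FX) (fc : FC) (fw : FW) : Prop where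
  c6 : Cert6 D fd fx fc
  perf : fd.ChkPerf fw
  irr : fd.chkIrr fx fw = true

namespace Cert9

variable (C : Cert9 D fd fx fc fw)
include C

theorem c2 : Cert2 D fd fx := C.c6.c2

/-- every root element is a product of commutators -/
theorem xA_mem_comm (hF : fd.allK1 fw = true ∨ ∃ a : F, a ≠ 0 ∧ a ≠ 1) (r : ℕ) (hr : r < fd.n) (t : F) :
    C.c2.xA r t ∈ ⁅D.group F, D.group F⁆ := by
  obtain ⟨ha, hcase⟩ := fd.perf_spec C.perf r hr
  rcases hcase with ⟨_, hb, hba, hbn, hct⟩ | ⟨hk, hpr⟩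
  · -- the commutator formula of the pair `(a, b)` has a single term
    have cf := C.c6.cfg (F := F) _ _ ha hb hba hbn
    have key : ∀ (ε : ℤ), (ε = 1 ∨ ε = -1) → fd.commT (FD.pwA fw r) (FD.pwB fw r) = [(r, ε, 1, 1)] →
        C.c2.xA r t ∈ ⁅D.group F, D.group F⁆ := by
      intro ε hε hct
      have := cf 1 (-(ε : F) * t)
      rw [hct] at this
      unfold Cert2.ctG at this
      simp only [List.map_cons, List.map_nil, List.prod_cons, List.prod_nil, mul_one, pow_one] at this
      have e : ((ε : ℤ) : F) * -1 * (-(ε : F) * t) = t := by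
        rcases hε with rfl | rfl <;> push_cast <;> ring
      rw [e] at this
      have hx := C.c2.xA_mem_group (F := F) (FD.pwB fw r) (-(ε : F) * t)
      have hy := C.c2.xA_mem_group (F := F) (FD.pwA fw r) 1
      generalize C.c2.xA (FD.pwB fw r) (-(ε : F) * t) = x at this hx
      generalize C.c2.xA (FD.pwA fw r) (1 : F) = y at this hy
      have e2 : C.c2.xA r t = x⁻¹ * y⁻¹ * x⁻¹⁻¹ * y⁻¹⁻¹ := by
        rw [inv_inv, inv_inv, mul_assoc (x⁻¹ * y⁻¹), this]
        group
      rw [e2, ← commutatorElement_def]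
      exact Subgroup.commutator_mem_commutator (inv_mem hx) (inv_mem hy)
    rcases hct with h | h
    · exact key 1 (Or.inl rfl) h
    · exact key (-1) (Or.inr rfl) h
  · -- a diagonal element acts on `X_r` by a non-trivial scalar
    have ha' : ∃ a : F, a ≠ 0 ∧ a ≠ 1 := by
      rcases hF with h | h
      · exact absurd (fd.allK1_spec h r hr) hk
      · exact h
    obtain ⟨a, ha0, ha1⟩ := ha'
    set s := FD.pwA fw r with hs
    have hr' : r < D.nroots := by rw [C.c2.nroots_eq]; exact hr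
    have hkH := C.c2.TdG_mem (F := F) s ha a ha0
    have hconj := (C.c2.diag_conj_x _ hkH).2 ⟨r, hr'⟩
    have hent : ((TdG (hExp D fd fx s) a ha0 : GL D.Idx F) : Matrix D.Idx D.Idx F) (Sum.inr ⟨r, hr'⟩)
        (Sum.inr ⟨r, hr'⟩) = a ^ (fd.pr r s) := by
      show Td (hExp D fd fx s) a _ _ = _
      rw [Td_apply, if_pos rfl, C.c2.hExp_inr]
    have hχ : a ^ (fd.pr r s) ≠ 1 := by
      rcases hpr with h | h
      · rw [h, zpow_one]; exact ha1
      · rw [h, _root_.zpow_neg_one]
        intro h1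
        apply ha1
        rw [← inv_inv a, h1, inv_one]
    have hsub : a ^ (fd.pr r s) - 1 ≠ 0 := sub_ne_zero.mpr hχ
    have e := hconj ((a ^ (fd.pr r s) - 1)⁻¹ * t)
    simp only at e
    rw [hent] at e
    have hk' := C.c2.diag_le_group hkH
    have hy := C.c2.xA_mem_group (F := F) r ((a ^ (fd.pr r s) - 1)⁻¹ * t)
    have e2 : C.c2.xA r t = TdG (hExp D fd fx s) a ha0 * C.c2.xA r ((a ^ (fd.pr r s) - 1)⁻¹ * t) *
        (TdG (hExp D fd fx s) a ha0)⁻¹ * (C.c2.xA r ((a ^ (fd.pr r s) - 1)⁻¹ * t))⁻¹ := by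
      rw [e, C.c2.xA_inv, C.c2.xA_mul]
      congr 1
      field_simp
      ring
    rw [e2]
    generalize TdG (hExp D fd fx s) a ha0 = k at hk'
    generalize C.c2.xA r ((a ^ (fd.pr r s) - 1)⁻¹ * t) = y at hy
    rw [← commutatorElement_def]
    exact Subgroup.commutator_mem_commutator hk' hy

/-- the Chevalley group is perfect -/
theorem group_perfect (hF : fd.allK1 fw = true ∨ ∃ a : F, a ≠ 0 ∧ a ≠ 1) :
    commutator ↥(D.group F) = ⊤ := by
  have h1 : D.group F ≤ ⁅D.group F, D.group F⁆ := by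
    unfold ChevalleyDatum.group
    rw [Subgroup.closure_le]
    rintro g ⟨r, t, hg⟩
    have hr : r.val < fd.n := by rw [← C.c2.nroots_eq]; exact r.isLt
    have hgx : g = C.c2.xA r.val t := by
      apply gl_ext
      rw [hg, C.c2.xA_val]
      unfold ChevalleyDatum.x
      rw [dif_pos r.isLt]
    rw [SetLike.mem_coe, hgx]
    exact C.xA_mem_comm hF r.val hr t
  apply Subgroup.map_injective (D.group F).subtype_injective
  rw [Subgroup.map_subtype_commutator, ← MonoidHom.range_eq_map, Subgroup.range_subtype]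
  refine le_antisymm ?_ h1
  rw [Subgroup.commutator_le]
  intro g₁ h₁ g₂ h₂
  rw [commutatorElement_def]
  exact mul_mem (mul_mem (mul_mem h₁ h₂) (inv_mem h₁)) (inv_mem h₂)

end Cert9

end Cfsg.Agent.Lib.H29.Chev
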