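import Mathlib
import Cfsg.Prelude.Def_ChevStructure
import Cfsg.Prelude.Def_LieExceptional
import Cfsg.Agent.Lib.H29.ChevGen26
import Cfsg.Agent.S0319

/-!
# Simplicity of the Chevalley groups
-/

set_option autoImplicit false
set_option linter.unusedSectionVars false
set_option linter.unusedSimpArgs false
set_option linter.unusedVariables false

namespace Cfsg.Agent.Lib.H29.Chev

open Cfsg.Lie Matrix

variable {D : ChevalleyDatum} {fd : FD} {fx : FX} {fc : FC} {fw : FW} {F : Type*} [Field F]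

theorem mem_allMasks (k : ℕ) : ∀ m : List Bool, m.length = k → m ∈ allMasks k := by
  induction k with
  | zero =>
    intro m hm
    rw [List.length_eq_zero_iff] at hm
    rw [hm]; simp [allMasks]
  | succ k ih =>
    intro m hm
    cases m with
    | nil => simp at hm
    | cons b m =>
      simp only [List.length_cons, Nat.add_right_cancel_iff] at hm
      unfold allMasks
      rw [List.mem_flatMap]
      refine ⟨m, ih m hm, ?_⟩
      cases b <;> simp

theorem getD_range_map_decide (l i : ℕ) (p : ℕ → Prop) [DecidablePred p] :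
    ((List.range l).map fun i => decide (p i)).getD i false = true ↔ i < l ∧ p i := by
  rw [List.getD_eq_getElem?_getD, List.getElem?_map]
  by_cases hi : i < l
  · rw [List.getElem?_range hi]; simp [hi]
  · rw [List.getElem?_eq_none (by simpa using hi)]; simp [hi]

namespace Cert9

variable (C : Cert9 D fd fx fc fw)
include C

theorem nG_mem_group (r : ℕ) (hr : r < fd.n) : C.c2.nG (F := F) r hr ∈ D.group F :=
  C.c2.monomial_le_group (C.c2.nG_mem_monomial r hr)

/-- the commutator of two fundamental `n_p`, `n_q` with `(w_p w_q)² ≠ 1` does not lie in `B` -/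
theorem comm_not_mem_borel (i j : ℕ) (hi : i < fd.l) (hj : j < fd.l) (γ : ℕ) (hγ : γ < fd.n)
    (hpos : fd.n / 2 ≤ γ) (hneg : fd.wact4 fx i j γ < fd.n / 2) :
    C.c2.nG (F := F) (fd.simples.getD i 0) (C.c2.simple_lt i hi) *
      C.c2.nG (fd.simples.getD j 0) (C.c2.simple_lt j hj) *
      (C.c2.nG (fd.simples.getD i 0) (C.c2.simple_lt i hi))⁻¹ *
      (C.c2.nG (fd.simples.getD j 0) (C.c2.simple_lt j hj))⁻¹ ∉ D.borelSubgroup F := by
  intro hB
  have hperm := C.c6.perm_mul (C.c6.perm_mul (C.c6.perm_mul (C.c6.perm_nG (F := F) i hi).1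
    (C.c6.perm_nG (F := F) j hj).1) (C.c6.perm_nG (F := F) i hi).2) (C.c6.perm_nG (F := F) j hj).2
  obtain ⟨h1, _, c, h3⟩ := hperm γ hγ
  have h3' := h3 1
  have hx : C.c2.xA γ (1 : F) ∈ D.borelSubgroup F := C.c6.xA_pos_mem_borel γ hγ hpos 1
  have hmem := mul_mem (mul_mem hB hx) (inv_mem hB)
  rw [h3'] at hmem
  have hπ : ((fd.nw fx (fd.simples.getD i 0) ∘ fd.nw fx (fd.simples.getD j 0)) ∘
      fd.nw fx (fd.simples.getD i 0)) ∘ fd.nw fx (fd.simples.getD j 0) = fd.wact4 fx i j := rfl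
  rw [hπ] at hmem h3' h1
  have hV := C.c6.xA_neg_mem_neg (F := F) _ h1 hneg (c * 1)
  have h1' : C.c2.xA (fd.wact4 fx i j γ) (c * 1) ∈ D.borelSubgroup F ⊓ D.negUnipotent F :=
    Subgroup.mem_inf.mpr ⟨hmem, hV⟩
  rw [C.c2.borel_inf_neg, Subgroup.mem_bot] at h1'
  rw [h1'] at h3'
  have : C.c2.xA γ (1 : F) = 1 := by
    have e := congrArg (fun g => (C.c2.nG (F := F) (fd.simples.getD i 0) (C.c2.simple_lt i hi) *
      C.c2.nG (fd.simples.getD j 0) (C.c2.simple_lt j hj) *
      (C.c2.nG (fd.simples.getD i 0) (C.c2.simple_lt i hi))⁻¹ *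
      (C.c2.nG (fd.simples.getD j 0) (C.c2.simple_lt j hj))⁻¹)⁻¹ * g *
      (C.c2.nG (F := F) (fd.simples.getD i 0) (C.c2.simple_lt i hi) *
      C.c2.nG (fd.simples.getD j 0) (C.c2.simple_lt j hj) *
      (C.c2.nG (fd.simples.getD i 0) (C.c2.simple_lt i hi))⁻¹ *
      (C.c2.nG (fd.simples.getD j 0) (C.c2.simple_lt j hj))⁻¹)) h3'
    simp only [mul_one, inv_mul_cancel] at e
    rw [← e]; group
  have := C.c6.xA_eq_one γ hγ (1 : F) this
  exact one_ne_zero this

/-- the (B,N)-pair is irreducible -/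
theorem irreducible : (C.c6.bnPair F).Irreducible := by
  classical
  intro J hJS hJne hJc
  -- the mask of `J`
  let inJ : ℕ → Prop := fun i => ∃ hi : i < fd.l,
    (⟨C.c2.nG (F := F) (fd.simples.getD i 0) (C.c2.simple_lt i hi), C.nG_mem_group _ _⟩ : ↥(D.group F)) ∈ J
  have hS : ∀ s : ↥(D.group F), s ∈ (C.c6.bnPair F).S → ∃ i, ∃ hi : i < fd.l,
      s = ⟨C.c2.nG (F := F) (fd.simples.getD i 0) (C.c2.simple_lt i hi), C.nG_mem_group _ _⟩ := by
    intro s hs
    obtain ⟨i, hi, e⟩ := C.c6.eq_nG_of_SSet (s : GL D.Idx F) hs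
    exact ⟨i, hi, Subtype.ext e⟩
  have hmem : ∀ i, ∀ hi : i < fd.l,
      (⟨C.c2.nG (F := F) (fd.simples.getD i 0) (C.c2.simple_lt i hi), C.nG_mem_group _ _⟩ : ↥(D.group F)) ∈
        (C.c6.bnPair F).S := fun i hi => C.c6.nG_mem_SSet i hi
  set m : List Bool := (List.range fd.l).map fun i => decide (inJ i) with hm
  have hmm : m ∈ allMasks fd.l := mem_allMasks _ _ (by simp [hm])
  have hirr := C.irr
  unfold FD.chkIrr at hirr
  rw [List.all_eq_true] at hirr
  have := hirr m hmm
  rw [Bool.or_eq_true, Bool.or_eq_true] at this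
  rcases this with (hall | hnone) | hq
  · -- every generator lies in `J`
    exfalso
    obtain ⟨s', hs'S, hs'J⟩ := hJc
    obtain ⟨j, hj, rfl⟩ := hS s' hs'S
    rw [List.all_eq_true] at hall
    have : decide (inJ j) ∈ m := List.mem_map.mpr ⟨j, List.mem_range.mpr hj, rfl⟩
    have := hall _ this
    simp only [id, decide_eq_true_eq] at this
    obtain ⟨_, h⟩ := this
    exact hs'J h
  · -- no generator lies in `J`
    exfalso
    obtain ⟨s, hsJ⟩ := hJne
    obtain ⟨i, hi, rfl⟩ := hS s (hJS hsJ)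
    rw [List.all_eq_true] at hnone
    have : decide (inJ i) ∈ m := List.mem_map.mpr ⟨i, List.mem_range.mpr hi, rfl⟩
    have := hnone _ this
    simp only [Bool.not_eq_true', decide_eq_false_iff_not] at this
    exact this ⟨hi, hsJ⟩
  · rw [List.any_eq_true] at hq
    obtain ⟨q, hq, hcond⟩ := hq
    rw [List.mem_range] at hq
    rw [Bool.and_eq_true, Bool.and_eq_true, Bool.not_eq_true', ← Bool.not_eq_true] at hcond
    obtain ⟨⟨hi', hj'⟩, hadj⟩ := hcond
    have hl : 0 < fd.l := by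
      rcases Nat.eq_zero_or_pos fd.l with h | h
      · rw [h] at hq; simp at hq
      · exact h
    have hjl : q % fd.l < fd.l := Nat.mod_lt _ hl
    rw [getD_range_map_decide] at hi' hj'
    obtain ⟨hil, hi2, hiJ⟩ := hi'
    have hjJ : ¬ inJ (q % fd.l) := fun h => hj' ⟨hjl, h⟩
    simp only [FD.adjOK, Bool.and_eq_true, natBlt_iff, Bool.not_eq_true', ← Bool.not_eq_true, not_lt] at hadj
    obtain ⟨⟨hγ, hpos⟩, hneg⟩ := hadj
    refine ⟨_, hiJ, ⟨C.c2.nG (F := F) (fd.simples.getD (q % fd.l) 0) (C.c2.simple_lt _ hjl),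
      C.nG_mem_group _ _⟩, ⟨hmem _ hjl, fun h => hjJ ⟨hjl, h⟩⟩, ?_⟩
    intro hB
    exact C.comm_not_mem_borel (q / fd.l) (q % fd.l) hil hjl _ hγ hpos hneg hB

/-- the Chevalley group is simple -/
theorem simple (hF : fd.allK1 fw = true ∨ ∃ a : F, a ≠ 0 ∧ a ≠ 1) :
    IsSimpleGroup ↥(D.group F) ∧ ¬ IsMulCommutative ↥(D.group F) := by
  have hperf := C.group_perfect hF
  have hl : 0 < fd.l := C.c2.hl
  have hp := C.c2.simple_lt 0 hl
  have : Nontrivial ↥(D.group F) := by
    refine ⟨⟨⟨C.c2.xA (fd.simples.getD 0 0) (1 : F), C.c2.xA_mem_group _ _⟩, 1, ?_⟩⟩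
    intro h
    have := congrArg Subtype.val h
    simp only [OneMemClass.coe_one] at this
    exact one_ne_zero (C.c6.xA_eq_one _ hp (1 : F) this)
  have hsolv : Group.IsSolvable ↥((C.c6.bnPair F).B) := by
    have := C.c2.borel_solvable (F := F)
    show Group.IsSolvable ↥((D.borelSubgroup F).subgroupOf (D.group F))
    have hle : D.borelSubgroup F ≤ D.group F := C.c2.borel_le_group
    exact Group.isSolvable_of_isSolvable_injective
      (f := (Subgroup.subgroupOfEquivOfLe hle).toMonoidHom)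
      (Subgroup.subgroupOfEquivOfLe hle).injective
  refine ⟨Cfsg.Agent.S0319.result (C.c6.bnPair F) C.irreducible hsolv hperf C.c6.c5.c3.borel_core, ?_⟩
  intro hc
  have : commutator ↥(D.group F) = ⊥ := by
    rw [commutator_def, Subgroup.commutator_eq_bot_iff_le_centralizer]
    intro g _ h _
    exact hc.is_comm.comm h g
  rw [this] at hperf
  exact bot_ne_top hperf

end Cert9

end Cfsg.Agent.Lib.H29.Chev
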