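import Mathlib
import Cfsg.Prelude.Def_ChevAutomorphisms
import Cfsg.Agent.Lib.H29.ChevGen37
import Cfsg.Agent.Lib.H29.ChevCert13

/-!
# A diagonal matrix in a Chevalley group lies in the diagonal subgroup
-/

set_option autoImplicit false
set_option linter.unusedSectionVars false
set_option linter.unusedSimpArgs false
set_option linter.unusedVariables false

namespace Cfsg.Agent.Lib.H29.Chev

open Cfsg.Lie Matrix

variable {D : ChevalleyDatum} {fd : FD} {fx : FX} {fc : FC} {fz : FZ} {F : Type*} [Field F]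

/-- a diagonal matrix -/
def IsDg {ι : Type*} (M : Matrix ι ι F) : Prop := ∀ a b, a ≠ b → M a b = 0

theorem IsDg.mul {ι : Type*} [Fintype ι] [DecidableEq ι] {M N : Matrix ι ι F} (hM : IsDg M) (hN : IsDg N) :
    IsDg (M * N) := by
  intro a b hab
  rw [Matrix.mul_apply]
  apply Finset.sum_eq_zero
  intro k _
  by_cases hak : a = k
  · subst hak; rw [hN a b hab, mul_zero]
  · rw [hM a k hak, zero_mul]

theorem IsDg.inv {ι : Type*} [Fintype ι] [DecidableEq ι] {x : GL ι F} (hx : IsDg (x : Matrix ι ι F)) :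
    IsDg ((x⁻¹ : GL ι F) : Matrix ι ι F) := by
  intro a b hab
  have h1 : (x : Matrix ι ι F) * ((x⁻¹ : GL ι F) : Matrix ι ι F) = 1 := by
    rw [← Units.val_mul, mul_inv_cancel]; rfl
  have e1 : ∀ c, ((x : Matrix ι ι F) * ((x⁻¹ : GL ι F) : Matrix ι ι F)) a c =
      (x : Matrix ι ι F) a a * ((x⁻¹ : GL ι F) : Matrix ι ι F) a c := by
    intro c
    rw [Matrix.mul_apply, Finset.sum_eq_single a]
    · intro k _ hka; rw [hx a k (Ne.symm hka), zero_mul]
    · intro h; exact absurd (Finset.mem_univ _) h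
  have e2 := e1 a
  rw [h1, Matrix.one_apply_eq] at e2
  have hne : (x : Matrix ι ι F) a a ≠ 0 := by
    intro h0; rw [h0, zero_mul] at e2; exact one_ne_zero e2
  have e3 := e1 b
  rw [h1, Matrix.one_apply_ne hab] at e3
  rcases mul_eq_zero.mp e3.symm with h0 | h0
  · exact absurd h0 hne
  · exact h0

theorem IsDg.isUp {ι : Type*} [Fintype ι] [DecidableEq ι] (lv : ι → ℕ) {M : Matrix ι ι F} (hM : IsDg M) :
    IsUp lv 0 M := by
  intro i j h
  by_cases hij : i = j
  · subst hij; omega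
  · exact absurd (hM i j hij) h

namespace Cert12

variable (C : Cert12 D fd fx fc fz)
include C

theorem pos_isUp (u : GL D.Idx F) (hu : u ∈ D.posUnipotent F) : IsUp (lvD D fd) 0 (u : Matrix D.Idx D.Idx F) :=
  IsUp.of_mem (posUnipotent_le C.c6.c2.agrees C.c6.c2.lev hu)

theorem borel_isUp (b : GL D.Idx F) (hb : b ∈ D.borelSubgroup F) :
    IsUp (lvD D fd) 0 (b : Matrix D.Idx D.Idx F) := by
  obtain ⟨u, hu, h, hh, rfl⟩ := C.c6.c2.borel_mem b hb
  rw [Units.val_mul]
  exact (C.pos_isUp u hu).mul (IsDg.isUp _ (C.c6.c2.diag_isDiag h hh))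

/-- an element of `V` which is upper triangular is trivial -/
theorem neg_isUp_eq_one (x : GL D.Idx F) (hx : x ∈ D.negUnipotent F)
    (hup : IsUp (lvD D fd) 0 (x : Matrix D.Idx D.Idx F)) : x = 1 := by
  have h1 : IsUp (lvN D fd) 1 ((x : Matrix D.Idx D.Idx F) - 1) := negUnipotent_le C.c6.c2.agrees C.c6.c2.lev hx
  have h2 : IsUp (lvD D fd) 0 ((x : Matrix D.Idx D.Idx F) - 1) := hup.sub IsUp.one
  apply gl_ext
  rw [Units.val_one, ← sub_eq_zero]
  ext a b
  by_contra hne
  have e1 := h1 a b hne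
  have e2 := h2 a b hne
  have e3 := lvD_le C.c6.c2.agrees (fd := fd) a
  have e4 := lvD_le C.c6.c2.agrees (fd := fd) b
  unfold lvN at e1
  unfold lvD at e2 e3 e4
  omega

/-- a diagonal matrix in `U` is trivial -/
theorem pos_isDg_eq_one (g : GL D.Idx F) (hu : g ∈ D.posUnipotent F) (h2 : IsDg (g : Matrix D.Idx D.Idx F)) :
    g = 1 := by
  have h1 : IsUp (lvD D fd) 1 ((g : Matrix D.Idx D.Idx F) - 1) :=
    posUnipotent_le C.c6.c2.agrees C.c6.c2.lev hu
  apply gl_ext
  ext a b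
  by_cases hab : a = b
  · subst hab
    by_contra hne
    have : ((g : Matrix D.Idx D.Idx F) - 1) a a ≠ 0 := by
      rw [Matrix.sub_apply]; intro h0; apply hne; rw [sub_eq_zero] at h0; exact h0
    have := h1 a a this
    omega
  · rw [h2 a b hab]; simp [hab]

/-- a diagonal matrix in the Chevalley group lies in `H` -/
theorem isDg_mem_diag (g : GL D.Idx F) (hg : g ∈ D.group F) (hd : IsDg (g : Matrix D.Idx D.Idx F)) :
    g ∈ D.diagonalSubgroup F := by
  obtain ⟨b, hb, n, hn, u, hu, rfl⟩ := C.c6.canonical_form.1 g hg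
  set g := b * n * u with hgdef
  have huB : u ∈ D.borelSubgroup F := C.c6.Uw_le_borel n hu
  have en : n = b⁻¹ * g * u⁻¹ := by rw [hgdef]; group
  have en' : n⁻¹ = u * g⁻¹ * b := by rw [hgdef]; group
  have hnup : IsUp (lvD D fd) 0 (n : Matrix D.Idx D.Idx F) := by
    rw [en, Units.val_mul, Units.val_mul]
    exact ((C.borel_isUp _ (inv_mem hb)).mul (IsDg.isUp _ hd)).mul (C.borel_isUp _ (inv_mem huB))
  have hnup' : IsUp (lvD D fd) 0 ((n⁻¹ : GL D.Idx F) : Matrix D.Idx D.Idx F) := by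
    rw [en', Units.val_mul, Units.val_mul]
    exact ((C.borel_isUp _ huB).mul (IsDg.isUp _ hd.inv)).mul (C.borel_isUp _ hb)
  obtain ⟨⟨π, hπ⟩, _⟩ := C.c6.perm_of_mem n hn
  have hnH : n ∈ D.diagonalSubgroup F := by
    apply C.mem_diag_of_pos n hn π hπ
    intro i hi
    by_contra hneg
    have hs := C.c6.c2.simple_lt i hi
    obtain ⟨h1, _, c, hc⟩ := hπ _ hs
    have h2 := hc 1
    have h3 : IsUp (lvD D fd) 0 ((C.c6.c2.xA (π (fd.simples.getD i 0)) (c * 1) : GL D.Idx F) :
        Matrix D.Idx D.Idx F) := by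
      rw [← h2, Units.val_mul, Units.val_mul]
      exact (hnup.mul (C.borel_isUp _ (C.c6.xA_pos_mem_borel _ hs (C.c6.simple_pos i hi) 1))).mul hnup'
    have h4 := C.neg_isUp_eq_one _ (C.c6.xA_neg_mem_neg _ h1 (by omega) _) h3
    rw [h4] at h2
    have h5 : C.c6.c2.xA (fd.simples.getD i 0) (1 : F) = 1 := by
      have e := congrArg (fun x => n⁻¹ * x * n) h2
      simp only [mul_one, inv_mul_cancel] at e
      rw [← e]; group
    exact one_ne_zero (C.c6.xA_eq_one _ hs _ h5)
  have hgB : g ∈ D.borelSubgroup F := mul_mem (mul_mem hb (C.c6.diag_le_borel hnH)) huB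
  obtain ⟨u', hu', h', hh', e⟩ := C.c6.c2.borel_mem g hgB
  have hu'1 : u' = 1 := by
    apply C.pos_isDg_eq_one u' hu'
    have : u' = g * h'⁻¹ := by rw [← e]; group
    rw [this, Units.val_mul]
    exact hd.mul (IsDg.inv (C.c6.c2.diag_isDiag h' hh'))
  rw [← e, hu'1, one_mul]
  exact hh'

end Cert12

/-- an element of a Chevalley group whose matrix is the diagonal matrix of a function on the roots lies in `H` -/
theorem charDiag_mem_diag (D : ChevalleyDatum)
    (hD : D ∈ [chevG2, chevB2, chevD4, chevF4, chevE6, chevE7, chevE8]) (χ : ℕ → Fˣ) (g : GL D.Idx F)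
    (hg : g ∈ D.group F) (hgχ : (g : Matrix D.Idx D.Idx F) = D.charDiag F χ) : g ∈ D.diagonalSubgroup F := by
  have hd : IsDg (g : Matrix D.Idx D.Idx F) := by
    rw [hgχ]
    intro a b hab
    unfold ChevalleyDatum.charDiag
    exact Matrix.diagonal_apply_ne _ hab
  simp only [List.mem_cons, List.mem_nil_iff, or_false] at hD
  rcases hD with rfl | rfl | rfl | rfl | rfl | rfl | rfl
  · exact cert12_G2.isDg_mem_diag g hg hd
  · exact cert12_B2.isDg_mem_diag g hg hd
  · exact cert12_D4.isDg_mem_diag g hg hd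
  · exact cert12_F4.isDg_mem_diag g hg hd
  · exact cert12_E6.isDg_mem_diag g hg hd
  · exact cert12_E7.isDg_mem_diag g hg hd
  · exact cert12_E8.isDg_mem_diag g hg hd

end Cfsg.Agent.Lib.H29.Chev
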