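import Mathlib
import Cfsg.Prelude.Def_ChevStructure
import Cfsg.Agent.Lib.H29.ChevGen3
import Cfsg.Agent.Lib.H29.ChevSparseB

/-!
# Folding: intertwining root elements of two Chevalley data through a rectangular integer matrix

The intertwining relation `x_{r₁}(t) ⋯ x_{r_m}(t) J = J x'_{r'}(t)` is checked on sparse polynomial vectors.
-/

set_option autoImplicit false
set_option linter.unusedSectionVars false
set_option linter.unusedSimpArgs false
set_option linter.unusedVariables false

namespace Cfsg.Agent.Lib.H29.Chev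

open Cfsg.Lie Matrix

variable {D D' : ChevalleyDatum} {fd fd' : FD} {F : Type*} [Field F]

/-- polynomial vectors: lists of (degree, sparse vector) -/
abbrev FPV := List (ℕ × SV)

/-- the coefficient of `t ^ m` at the index `i` -/
def FPV.coef (v : FPV) (m i : ℕ) : ℤ := (v.map fun p => if p.1 = m then SV.get p.2 i else 0).sum

/-- the value at `t` of the coordinate `i` -/
def FPV.val (v : FPV) (t : F) (i : ℕ) : F := (v.map fun p => t ^ p.1 * ((SV.get p.2 i : ℤ) : F)).sum

theorem FPV.val_nil (t : F) (i : ℕ) : FPV.val ([] : FPV) t i = 0 := rfl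

theorem FPV.val_cons (p : ℕ × SV) (v : FPV) (t : F) (i : ℕ) :
    FPV.val (p :: v) t i = t ^ p.1 * ((SV.get p.2 i : ℤ) : F) + FPV.val v t i := by
  simp [FPV.val]

theorem FPV.val_append (v w : FPV) (t : F) (i : ℕ) : FPV.val (v ++ w) t i = FPV.val v t i + FPV.val w t i := by
  simp [FPV.val]

theorem FPV.coef_cons (p : ℕ × SV) (v : FPV) (m i : ℕ) :
    FPV.coef (p :: v) m i = (if p.1 = m then SV.get p.2 i else 0) + FPV.coef v m i := by
  simp [FPV.coef]

/-- all degrees are below `M` -/
def FPV.degB (M : ℕ) (v : FPV) : Bool := v.all fun p => Nat.blt p.1 M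

/-- all indices are below `N` -/
def FPV.bdd (N : ℕ) (v : FPV) : Bool := v.all fun p => SV.bddB N p.2

theorem FPV.val_eq_sum_coef (v : FPV) (M : ℕ) (hv : FPV.degB M v = true) (t : F) (i : ℕ) :
    FPV.val v t i = ∑ m ∈ Finset.range M, t ^ m * ((FPV.coef v m i : ℤ) : F) := by
  induction v with
  | nil => simp [FPV.val, FPV.coef]
  | cons p v ih =>
    simp only [FPV.degB, List.all_cons, Bool.and_eq_true, natBlt_iff] at hv
    have ih' := ih (by simpa [FPV.degB, natBlt_iff] using hv.2)
    rw [FPV.val_cons, ih']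
    have e : ∀ m ∈ Finset.range M, t ^ m * ((FPV.coef (p :: v) m i : ℤ) : F) =
        (if p.1 = m then t ^ m * ((SV.get p.2 i : ℤ) : F) else 0) + t ^ m * ((FPV.coef v m i : ℤ) : F) := by
      intro m _
      rw [FPV.coef_cons, Int.cast_add, mul_add]
      split_ifs <;> simp
    rw [Finset.sum_congr rfl e, Finset.sum_add_distrib, Finset.sum_ite_eq (Finset.range M) p.1,
      if_pos (Finset.mem_range.mpr hv.1)]

/-- the (degree, index) pairs occurring in a polynomial vector -/
def FPV.keys (v : FPV) : List (ℕ × ℕ) := v.flatMap fun p => p.2.map fun q => (p.1, q.1)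

theorem FPV.coef_eq_zero_of_not_mem (v : FPV) (m i : ℕ) (h : (m, i) ∉ FPV.keys v) : FPV.coef v m i = 0 := by
  induction v with
  | nil => rfl
  | cons p v ih =>
    simp only [FPV.keys, List.flatMap_cons, List.mem_append, not_or] at h
    rw [FPV.coef_cons, ih h.2]
    by_cases hp : p.1 = m
    · rw [if_pos hp, add_zero]
      apply SV.get_eq_zero_of_not_mem
      intro hi
      apply h.1
      obtain ⟨q, hq, rfl⟩ := List.mem_map.mp hi
      exact List.mem_map.mpr ⟨q, hq, by rw [hp]⟩
    · rw [if_neg hp, add_zero]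

/-- Boolean test of equality of coefficients -/
def FPV.beq (v w : FPV) : Bool :=
  (FPV.keys v ++ FPV.keys w).all fun k => intBeq (FPV.coef v k.1 k.2) (FPV.coef w k.1 k.2)

theorem FPV.coef_eq_of_beq {v w : FPV} (h : FPV.beq v w = true) (m i : ℕ) : FPV.coef v m i = FPV.coef w m i := by
  by_cases hk : (m, i) ∈ FPV.keys v ++ FPV.keys w
  · simp only [FPV.beq, List.all_eq_true, intBeq_iff] at h
    exact h (m, i) hk
  · rw [List.mem_append, not_or] at hk
    rw [FPV.coef_eq_zero_of_not_mem v m i hk.1, FPV.coef_eq_zero_of_not_mem w m i hk.2]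

/-- polynomial vectors with the same coefficients have the same values -/
theorem FPV.val_eq_of_coef (v w : FPV) (M : ℕ) (hv : FPV.degB M v = true) (hw : FPV.degB M w = true) (i : ℕ)
    (h : ∀ m < M, FPV.coef v m i = FPV.coef w m i) (t : F) : FPV.val v t i = FPV.val w t i := by
  rw [FPV.val_eq_sum_coef v M hv, FPV.val_eq_sum_coef w M hw]
  apply Finset.sum_congr rfl
  intro m hm
  rw [h m (Finset.mem_range.mp hm)]

theorem FPV.val_range4 (f : ℕ → ℕ × SV) (t : F) (i : ℕ) :
    FPV.val ((List.range 4).map f) t i =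
      ∑ k ∈ Finset.range 4, t ^ (f k).1 * ((SV.get (f k).2 i : ℤ) : F) := by
  simp [FPV.val, List.range_succ, Finset.sum_range_succ]
  ring

/-- apply `x_r(t)` to a polynomial vector -/
def FPV.stepX (fd : FD) (r : ℕ) (v : FPV) : FPV :=
  v.flatMap fun p => (List.range 4).map fun k => (p.1 + k, SM.apply (fd.colA r k) p.2)

/-- apply a product of root elements -/
def FPV.stepsX (fd : FD) : List ℕ → FPV → FPV
  | [], v => v
  | r :: rs, v => FPV.stepX fd r (FPV.stepsX fd rs v)

/-- all the intermediate results are bounded -/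
def FPV.stepsB (fd : FD) (N : ℕ) : List ℕ → FPV → Bool
  | [], v => FPV.bdd N v
  | _ :: rs, v => FPV.stepsB fd N rs v && FPV.bdd N (FPV.stepsX fd rs v)

theorem XR_entry_sum (r : ℕ) (t : F) (a b : D.Idx) :
    XR D F r t a b = ∑ k ∈ Finset.range 4, t ^ k * ((Ak D r k a b : ℤ) : F) := by
  have e : XR D F r t a b = (1 : Matrix D.Idx D.Idx F) a b + t * aR D F r 1 a b + t ^ 2 * aR D F r 2 a b +
      t ^ 3 * aR D F r 3 a b := by
    simp [XR, Matrix.add_apply, Matrix.smul_apply]
  rw [e]
  simp only [Finset.sum_range_succ, Finset.sum_range_zero, zero_add, pow_zero, one_mul, pow_one, aR,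
    Matrix.map_apply, Int.coe_castRingHom, Ak_zero]
  by_cases hab : a = b
  · subst hab; simp
  · simp [Matrix.one_apply_ne hab]

/-- the action of a coefficient matrix on a sparse vector -/
theorem Ak_sum (h : Agrees D fd) (r : ℕ) (hr : r < fd.n) (k : ℕ) (w : SV) (hw : SV.bddB (fd.l + fd.n) w = true)
    (a : D.Idx) :
    ∑ b : D.Idx, Ak D r k a b * SV.get w (code D b) = SV.get (SM.apply (fd.colA r k) w) (code D a) := by
  have hw' := SV.bdd_of_bddB hw
  have hN : ∀ m < fd.l + fd.n, ∃ a : D.Idx, code D a = m := by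
    intro m hm
    exact code_surj D m (by rw [h.hl, h.hn]; exact hm)
  have e := SV.sum_code (code D) (code_injective D) (fd.l + fd.n) hN
    (fun m => SV.get (colA D r k m) (code D a)) w hw'
  simp only [Ak, SM.dens_apply]
  rw [e, SM.get_apply]
  congr 1
  apply List.map_congr_left
  intro q hq
  simp only [SV.bdd, List.all_eq_true, decide_eq_true_eq] at hw'
  rw [h.colA_eq r k q.1 hr (hw' q hq)]

theorem XR_sum_sv (h : Agrees D fd) (r : ℕ) (hr : r < fd.n) (t : F) (w : SV)
    (hw : SV.bddB (fd.l + fd.n) w = true) (a : D.Idx) :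
    ∑ b : D.Idx, XR D F r t a b * ((SV.get w (code D b) : ℤ) : F) =
      ∑ k ∈ Finset.range 4, t ^ k * ((SV.get (SM.apply (fd.colA r k) w) (code D a) : ℤ) : F) := by
  have e : ∀ b : D.Idx, XR D F r t a b * ((SV.get w (code D b) : ℤ) : F) =
      ∑ k ∈ Finset.range 4, t ^ k * ((Ak D r k a b * SV.get w (code D b) : ℤ) : F) := by
    intro b
    rw [XR_entry_sum, Finset.sum_mul]
    apply Finset.sum_congr rfl
    intro k _
    rw [Int.cast_mul]; ring
  rw [Finset.sum_congr rfl (fun b _ => e b), Finset.sum_comm]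
  apply Finset.sum_congr rfl
  intro k _
  rw [← Finset.mul_sum, ← Ak_sum h r hr k w hw a, Int.cast_sum]

theorem FPV.stepX_val (h : Agrees D fd) (r : ℕ) (hr : r < fd.n) (t : F) (v : FPV)
    (hv : FPV.bdd (fd.l + fd.n) v = true) (a : D.Idx) :
    FPV.val (FPV.stepX fd r v) t (code D a) = ∑ b : D.Idx, XR D F r t a b * FPV.val v t (code D b) := by
  induction v with
  | nil => simp [FPV.stepX, FPV.val]
  | cons p v ih =>
    simp only [FPV.bdd, List.all_cons, Bool.and_eq_true] at hv
    have ih' := ih (by simpa [FPV.bdd] using hv.2)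
    have e1 : FPV.stepX fd r (p :: v) =
        ((List.range 4).map fun k => (p.1 + k, SM.apply (fd.colA r k) p.2)) ++ FPV.stepX fd r v := by
      simp [FPV.stepX]
    rw [e1, FPV.val_append, ih']
    have e2 : ∀ b : D.Idx, XR D F r t a b * FPV.val (p :: v) t (code D b) =
        t ^ p.1 * (XR D F r t a b * ((SV.get p.2 (code D b) : ℤ) : F)) +
          XR D F r t a b * FPV.val v t (code D b) := by
      intro b
      rw [FPV.val_cons]; ring
    rw [Finset.sum_congr rfl (fun b _ => e2 b), Finset.sum_add_distrib, ← Finset.mul_sum,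
      XR_sum_sv h r hr t p.2 hv.1 a]
    congr 1
    rw [FPV.val_range4, Finset.mul_sum]
    apply Finset.sum_congr rfl
    intro k _
    simp only
    rw [pow_add]; ring

theorem FPV.stepsX_val (h : Agrees D fd) (t : F) (rs : List ℕ) (hrs : ∀ r ∈ rs, r < fd.n) (v : FPV)
    (hv : FPV.stepsB fd (fd.l + fd.n) rs v = true) (a : D.Idx) :
    FPV.val (FPV.stepsX fd rs v) t (code D a) =
      ∑ b : D.Idx, ((rs.map fun r => XR D F r t).prod) a b * FPV.val v t (code D b) := by
  induction rs generalizing a with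
  | nil =>
    simp only [FPV.stepsX, List.map_nil, List.prod_nil]
    rw [Finset.sum_eq_single a]
    · simp
    · intro b _ hb
      rw [Matrix.one_apply_ne (Ne.symm hb), zero_mul]
    · intro h'; exact absurd (Finset.mem_univ a) h'
  | cons r rs ih =>
    simp only [FPV.stepsB, Bool.and_eq_true] at hv
    have hr := hrs r List.mem_cons_self
    have hrs' : ∀ r ∈ rs, r < fd.n := fun r' hr' => hrs r' (List.mem_cons_of_mem _ hr')
    show FPV.val (FPV.stepX fd r (FPV.stepsX fd rs v)) t (code D a) = _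
    rw [FPV.stepX_val h r hr t _ hv.2 a]
    rw [List.map_cons, List.prod_cons]
    simp only [Matrix.mul_apply, Finset.sum_mul]
    rw [Finset.sum_comm]
    apply Finset.sum_congr rfl
    intro b _
    rw [ih hrs' hv.1 b, Finset.mul_sum]
    apply Finset.sum_congr rfl
    intro c _
    ring

/-- the rectangular matrix of a column function -/
def JF (D D' : ChevalleyDatum) (F : Type*) [Field F] (jc : ℕ → SV) : Matrix D.Idx D'.Idx F :=
  fun a b' => ((SV.get (jc (code D' b')) (code D a) : ℤ) : F)

/-- the check of the intertwining relation on the column `c'` -/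
def FD.foldCol (fd fd' : FD) (jc : ℕ → SV) (rs : List ℕ) (r' c' : ℕ) : Bool :=
  let v0 : FPV := [(0, jc c')]
  let lhs := FPV.stepsX fd rs v0
  let rhs : FPV := (List.range 4).map fun k => (k, SM.apply jc (fd'.colA r' k c'))
  let M := 3 * rs.length + 4
  FPV.stepsB fd (fd.l + fd.n) rs v0 && FPV.degB M lhs && FPV.degB M rhs &&
    ((List.range 4).all fun k => SV.bddB (fd'.l + fd'.n) (fd'.colA r' k c')) && FPV.beq lhs rhs

/-- the check of the intertwining relation -/
def FD.foldChk (fd fd' : FD) (jc : ℕ → SV) (rs : List ℕ) (r' : ℕ) : Bool :=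
  (List.range (fd'.l + fd'.n)).all fun c' => fd.foldCol fd' jc rs r' c'

theorem rhs_val (h' : Agrees D' fd') (jc : ℕ → SV) (r' : ℕ) (hr' : r' < fd'.n) (t : F) (b' : D'.Idx)
    (hb : ∀ k ∈ List.range 4, SV.bddB (fd'.l + fd'.n) (fd'.colA r' k (code D' b')) = true) (a : D.Idx) :
    FPV.val ((List.range 4).map fun k => (k, SM.apply jc (fd'.colA r' k (code D' b')))) t (code D a) =
      ∑ a' : D'.Idx, JF D D' F jc a a' * XR D' F r' t a' b' := by
  have hN : ∀ m < fd'.l + fd'.n, ∃ a : D'.Idx, code D' a = m := by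
    intro m hm
    exact code_surj D' m (by rw [h'.hl, h'.hn]; exact hm)
  have hcb : code D' b' < fd'.l + fd'.n := by rw [← h'.hl, ← h'.hn]; exact code_lt D' b'
  have e : ∀ a' : D'.Idx, JF D D' F jc a a' * XR D' F r' t a' b' =
      ∑ k ∈ Finset.range 4, t ^ k *
        ((SV.get (jc (code D' a')) (code D a) * SV.get (fd'.colA r' k (code D' b')) (code D' a') : ℤ) : F) := by
    intro a'
    rw [XR_entry_sum, Finset.mul_sum]
    apply Finset.sum_congr rfl
    intro k _
    simp only [JF, Ak, SM.dens_apply]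
    rw [h'.colA_eq r' k _ hr' hcb, Int.cast_mul]
    ring
  rw [Finset.sum_congr rfl (fun a' _ => e a'), Finset.sum_comm, FPV.val_range4]
  have e3 : ∀ k ∈ List.range 4,
      ((SV.get (SM.apply jc (fd'.colA r' k (code D' b'))) (code D a) : ℤ) : F) =
      ∑ a' : D'.Idx, ((SV.get (jc (code D' a')) (code D a) *
        SV.get (fd'.colA r' k (code D' b')) (code D' a') : ℤ) : F) := by
    intro k hk
    have := SV.sum_code (code D') (code_injective D') (fd'.l + fd'.n) hN
      (fun m => SV.get (jc m) (code D a)) (fd'.colA r' k (code D' b')) (SV.bdd_of_bddB (hb k hk))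
    rw [← Int.cast_sum, this, SM.get_apply]
  apply Finset.sum_congr rfl
  intro k hk
  simp only
  rw [e3 k (List.mem_range.mpr (Finset.mem_range.mp hk)), Finset.mul_sum]

/-- the intertwining relation from the check -/
theorem fold_intertwine (h : Agrees D fd) (h' : Agrees D' fd') (jc : ℕ → SV) (rs : List ℕ)
    (hrs : ∀ r ∈ rs, r < fd.n) (r' : ℕ) (hr' : r' < fd'.n) (hc : fd.foldChk fd' jc rs r' = true) (t : F) :
    (rs.map fun r => XR D F r t).prod * JF D D' F jc = JF D D' F jc * XR D' F r' t := by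
  ext a b'
  have hcb : code D' b' < fd'.l + fd'.n := by rw [← h'.hl, ← h'.hn]; exact code_lt D' b'
  simp only [FD.foldChk, List.all_eq_true, List.mem_range] at hc
  have hcol := hc (code D' b') hcb
  simp only [FD.foldCol, Bool.and_eq_true, List.all_eq_true, List.mem_range] at hcol
  obtain ⟨⟨⟨⟨k1, k2⟩, k3⟩, k4⟩, k5⟩ := hcol
  rw [Matrix.mul_apply, Matrix.mul_apply]
  have e1 := FPV.stepsX_val (F := F) h t rs hrs [(0, jc (code D' b'))] k1 a
  have e2 : ∀ b : D.Idx, FPV.val ([(0, jc (code D' b'))] : FPV) t (code D b) = JF D D' F jc b b' := by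
    intro b
    simp [FPV.val, JF]
  simp only [e2] at e1
  rw [← e1, ← rhs_val h' jc r' hr' t b' (fun k hk => k4 k (List.mem_range.mp hk)) a]
  have ha : code D a < fd.l + fd.n := by rw [← h.hl, ← h.hn]; exact code_lt D a
  exact FPV.val_eq_of_coef _ _ _ k2 k3 _ (fun m hm => FPV.coef_eq_of_beq k5 m (code D a)) t

/-- the check that `jp` is a left inverse of `jc` -/
def FD.foldInv (fd fd' : FD) (jc jp : ℕ → SV) : Bool :=
  (List.range (fd'.l + fd'.n)).all fun c' => SV.bddB (fd.l + fd.n) (jc c') &&
    (List.range (fd'.l + fd'.n)).all fun i' =>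
      intBeq (SV.get (SM.apply jp (jc c')) i') (if i' = c' then 1 else 0)

theorem fold_inv (h : Agrees D fd) (h' : Agrees D' fd') (jc jp : ℕ → SV) (hc : fd.foldInv fd' jc jp = true) :
    JF D' D F jp * JF D D' F jc = 1 := by
  ext a' b'
  have hN : ∀ m < fd.l + fd.n, ∃ a : D.Idx, code D a = m := by
    intro m hm
    exact code_surj D m (by rw [h.hl, h.hn]; exact hm)
  have hcb : code D' b' < fd'.l + fd'.n := by rw [← h'.hl, ← h'.hn]; exact code_lt D' b'
  have hca : code D' a' < fd'.l + fd'.n := by rw [← h'.hl, ← h'.hn]; exact code_lt D' a'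
  simp only [FD.foldInv, List.all_eq_true, List.mem_range, Bool.and_eq_true, intBeq_iff] at hc
  obtain ⟨k1, k2⟩ := hc (code D' b') hcb
  rw [Matrix.mul_apply]
  simp only [JF]
  have := SV.sum_code (code D) (code_injective D) (fd.l + fd.n) hN
    (fun m => SV.get (jp m) (code D' a')) (jc (code D' b')) (SV.bdd_of_bddB k1)
  simp only [← Int.cast_mul]
  rw [← Int.cast_sum, this, ← SM.get_apply, k2 (code D' a') hca]
  by_cases hab : a' = b'
  · subst hab; simp
  · have : code D' a' ≠ code D' b' := fun h => hab (code_injective D' h)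
    simp [this, Matrix.one_apply_ne hab]

end Cfsg.Agent.Lib.H29.Chev
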