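import Mathlib
import Cfsg.Prelude.Def_ChevStructure
import Cfsg.Agent.Lib.H29.ChevFold1

/-!
# Special isogenies: intertwining `T x_r(t) = x_{r'}(t^λ) T` in characteristic `p`, checked on the tables
-/

set_option autoImplicit false
set_option linter.unusedSectionVars false
set_option linter.unusedSimpArgs false
set_option linter.unusedVariables false

namespace Cfsg.Agent.Lib.H29.Chev

open Cfsg.Lie Matrix

variable {D : ChevalleyDatum} {fd : FD} {F : Type*} [Field F]

/-- two sparse vectors are congruent modulo `p` -/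
def SV.eqMod (p : ℕ) (v w : SV) : Bool :=
  (v.map Prod.fst ++ w.map Prod.fst).all fun i => intBeq ((SV.get v i - SV.get w i) % (p : ℤ)) 0

theorem SV.eqMod_spec {p : ℕ} {v w : SV} (h : SV.eqMod p v w = true) (i : ℕ) :
    (p : ℤ) ∣ SV.get v i - SV.get w i := by
  by_cases hi : i ∈ v.map Prod.fst ++ w.map Prod.fst
  · simp only [SV.eqMod, List.all_eq_true, intBeq_iff] at h
    exact Int.dvd_of_emod_eq_zero (h i hi)
  · rw [List.mem_append, not_or] at hi
    rw [SV.get_eq_zero_of_not_mem v i hi.1, SV.get_eq_zero_of_not_mem w i hi.2, sub_zero]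
    exact dvd_zero _

theorem cast_eq_of_dvd_sub (p : ℕ) [CharP F p] (a b : ℤ) (h : (p : ℤ) ∣ a - b) : (a : F) = (b : F) := by
  have : ((a - b : ℤ) : F) = 0 := (CharP.intCast_eq_zero_iff F p _).mpr h
  rw [Int.cast_sub, sub_eq_zero] at this
  exact this

/-- the coefficient of `t^j` on the left: the column `c` of `T A_r^{(j)}` -/
def FD.isoL (fd : FD) (tc : ℕ → SV) (r c j : ℕ) : SV :=
  if j < 4 then SM.apply tc (fd.colA r j c) else []

/-- the coefficient of `t^j` on the right: the column `c` of `A_{r'}^{(j/λ)} T` -/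
def FD.isoR (fd : FD) (tc : ℕ → SV) (r' lam c j : ℕ) : SV :=
  if j % lam = 0 ∧ j / lam < 4 then SM.apply (fd.colA r' (j / lam)) (tc c) else []

/-- the check of `T x_r(t) = x_{r'}(t^λ) T` modulo `p` on the column `c` -/
def FD.isoCol (fd : FD) (tc : ℕ → SV) (p r r' lam c : ℕ) : Bool :=
  SV.bddB (fd.l + fd.n) (tc c) &&
  ((List.range 4).all fun k => SV.bddB (fd.l + fd.n) (fd.colA r k c)) &&
  (List.range (3 * lam + 1)).all fun j => SV.eqMod p (fd.isoL tc r c j) (fd.isoR tc r' lam c j)

/-- the check of `T x_r(t) = x_{r'}(t^λ) T` modulo `p` -/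
def FD.isoChk (fd : FD) (tc : ℕ → SV) (p r r' lam : ℕ) : Bool :=
  (List.range (fd.l + fd.n)).all fun c => fd.isoCol tc p r r' lam c

theorem TF_mul_entry (h : Agrees D fd) (tc : ℕ → SV) (r : ℕ) (hr : r < fd.n) (t : F) (a b : D.Idx)
    (hb : ∀ k ∈ List.range 4, SV.bddB (fd.l + fd.n) (fd.colA r k (code D b)) = true) :
    (JF D D F tc * XR D F r t) a b =
      ∑ k ∈ Finset.range 4, t ^ k * ((SV.get (SM.apply tc (fd.colA r k (code D b))) (code D a) : ℤ) : F) := by
  have hN : ∀ m < fd.l + fd.n, ∃ a : D.Idx, code D a = m := by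
    intro m hm
    exact code_surj D m (by rw [h.hl, h.hn]; exact hm)
  have hcb : code D b < fd.l + fd.n := by rw [← h.hl, ← h.hn]; exact code_lt D b
  rw [Matrix.mul_apply]
  have e : ∀ c : D.Idx, JF D D F tc a c * XR D F r t c b =
      ∑ k ∈ Finset.range 4, t ^ k * ((SV.get (tc (code D c)) (code D a) *
        SV.get (fd.colA r k (code D b)) (code D c) : ℤ) : F) := by
    intro c
    rw [XR_entry_sum, Finset.mul_sum]
    apply Finset.sum_congr rfl
    intro k _
    simp only [JF, Ak, SM.dens_apply, h.colA_eq r k _ hr hcb]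
    rw [Int.cast_mul]; ring
  rw [Finset.sum_congr rfl (fun c _ => e c), Finset.sum_comm]
  apply Finset.sum_congr rfl
  intro k hk
  rw [← Finset.mul_sum, ← Int.cast_sum]
  congr 2
  have hbk := SV.bdd_of_bddB (hb k (List.mem_range.mpr (Finset.mem_range.mp hk)))
  rw [SV.sum_code (code D) (code_injective D) (fd.l + fd.n) hN
    (fun m => SV.get (tc m) (code D a)) _ hbk, SM.get_apply]

theorem XR_mul_TF_entry (h : Agrees D fd) (tc : ℕ → SV) (r' : ℕ) (hr' : r' < fd.n) (s : F) (a b : D.Idx)
    (hb : SV.bddB (fd.l + fd.n) (tc (code D b)) = true) :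
    (XR D F r' s * JF D D F tc) a b =
      ∑ k ∈ Finset.range 4, s ^ k * ((SV.get (SM.apply (fd.colA r' k) (tc (code D b))) (code D a) : ℤ) : F) := by
  rw [Matrix.mul_apply]
  exact XR_sum_sv h r' hr' s (tc (code D b)) hb a

/-- the intertwining relation in characteristic `p` -/
theorem iso_intertwine (p : ℕ) [CharP F p] (h : Agrees D fd) (tc : ℕ → SV) (r r' lam : ℕ) (hr : r < fd.n)
    (hr' : r' < fd.n) (hlam : lam = 1 ∨ lam = 2 ∨ lam = 3) (hc : fd.isoChk tc p r r' lam = true) (t : F) :
    JF D D F tc * XR D F r t = XR D F r' (t ^ lam) * JF D D F tc := by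
  ext a b
  have hcb : code D b < fd.l + fd.n := by rw [← h.hl, ← h.hn]; exact code_lt D b
  simp only [FD.isoChk, List.all_eq_true, List.mem_range] at hc
  have hcol := hc (code D b) hcb
  simp only [FD.isoCol, Bool.and_eq_true, List.all_eq_true, List.mem_range] at hcol
  obtain ⟨⟨h1, h2⟩, h3⟩ := hcol
  rw [TF_mul_entry h tc r hr t a b (fun k hk => h2 k (List.mem_range.mp hk)),
    XR_mul_TF_entry h tc r' hr' (t ^ lam) a b h1]
  have key : ∀ j < 3 * lam + 1,
      ((SV.get (fd.isoL tc r (code D b) j) (code D a) : ℤ) : F) =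
        ((SV.get (fd.isoR tc r' lam (code D b) j) (code D a) : ℤ) : F) :=
    fun j hj => cast_eq_of_dvd_sub p _ _ (SV.eqMod_spec (h3 j hj) (code D a))
  rcases hlam with rfl | rfl | rfl
  · have k0 := key 0 (by norm_num)
    have k1 := key 1 (by norm_num)
    have k2 := key 2 (by norm_num)
    have k3 := key 3 (by norm_num)
    simp only [FD.isoL, FD.isoR] at k0 k1 k2 k3
    norm_num at k0 k1 k2 k3
    simp only [Finset.sum_range_succ, Finset.sum_range_zero, pow_one]
    rw [k0, k1, k2, k3]
  · have k0 := key 0 (by norm_num)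
    have k1 := key 1 (by norm_num)
    have k2 := key 2 (by norm_num)
    have k3 := key 3 (by norm_num)
    have k4 := key 4 (by norm_num)
    have k6 := key 6 (by norm_num)
    simp only [FD.isoL, FD.isoR] at k0 k1 k2 k3 k4 k6
    norm_num at k0 k1 k2 k3 k4 k6
    simp only [Finset.sum_range_succ, Finset.sum_range_zero]
    rw [k0, k1, k2, k3, ← k4, ← k6]
    ring
  · have k0 := key 0 (by norm_num)
    have k1 := key 1 (by norm_num)
    have k2 := key 2 (by norm_num)
    have k3 := key 3 (by norm_num)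
    have k6 := key 6 (by norm_num)
    have k9 := key 9 (by norm_num)
    simp only [FD.isoL, FD.isoR] at k0 k1 k2 k3 k6 k9
    norm_num at k0 k1 k2 k3 k6 k9
    simp only [Finset.sum_range_succ, Finset.sum_range_zero]
    rw [k0, k1, k2, k3, ← k6, ← k9]
    ring

end Cfsg.Agent.Lib.H29.Chev
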