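import Mathlib
import Cfsg.Prelude.Def_ChevStructure
import Cfsg.Agent.Lib.H29.ChevIso1
import Cfsg.Agent.Lib.H29.ChevDiagG
import Cfsg.Agent.Lib.H29.BNNormal
import Cfsg.Agent.Lib.H29.ChevGen25

/-!
# Special isogenies: construction of the endomorphism from the intertwining matrix
-/

set_option autoImplicit false
set_option linter.unusedSectionVars false
set_option linter.unusedSimpArgs false
set_option linter.unusedVariables false

namespace Cfsg.Agent.Lib.H29.Chev

open Cfsg.Lie Matrix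

variable {D : ChevalleyDatum} {fd : FD} {fx : FX} {fc : FC} {fz : FZ} {F : Type*} [Field F]

section Rel

variable {ι : Type*} [Fintype ι] [DecidableEq ι] {R : Type*} [CommRing R] (T : Matrix ι ι R)

/-- the pairs of invertible matrices intertwined by `T` -/
def relT : Subgroup (GL ι R × GL ι R) where
  carrier := {q | T * (q.1 : Matrix ι ι R) = (q.2 : Matrix ι ι R) * T}
  one_mem' := by
    show T * ((1 : GL ι R × GL ι R).1 : Matrix ι ι R) = ((1 : GL ι R × GL ι R).2 : Matrix ι ι R) * T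
    simp
  mul_mem' := by
    intro a b ha hb
    have ha' : T * (a.1 : Matrix ι ι R) = (a.2 : Matrix ι ι R) * T := ha
    have hb' : T * (b.1 : Matrix ι ι R) = (b.2 : Matrix ι ι R) * T := hb
    show T * ((a * b).1 : Matrix ι ι R) = ((a * b).2 : Matrix ι ι R) * T
    rw [Prod.fst_mul, Prod.snd_mul, Units.val_mul, Units.val_mul, ← Matrix.mul_assoc, ha', Matrix.mul_assoc, hb',
      Matrix.mul_assoc]
  inv_mem' := by
    intro a ha
    have ha' : T * (a.1 : Matrix ι ι R) = (a.2 : Matrix ι ι R) * T := ha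
    show T * ((a⁻¹).1 : Matrix ι ι R) = ((a⁻¹).2 : Matrix ι ι R) * T
    rw [Prod.fst_inv, Prod.snd_inv]
    have e1 : ((a.2⁻¹ : GL ι R) : Matrix ι ι R) * (a.2 : Matrix ι ι R) = 1 := by
      rw [← Units.val_mul, inv_mul_cancel, Units.val_one]
    have e2 : (a.1 : Matrix ι ι R) * ((a.1⁻¹ : GL ι R) : Matrix ι ι R) = 1 := by
      rw [← Units.val_mul, mul_inv_cancel, Units.val_one]
    calc T * ((a.1⁻¹ : GL ι R) : Matrix ι ι R)
        = (((a.2⁻¹ : GL ι R) : Matrix ι ι R) * (a.2 : Matrix ι ι R)) * T * ((a.1⁻¹ : GL ι R) : Matrix ι ι R) := by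
          rw [e1, Matrix.one_mul]
      _ = ((a.2⁻¹ : GL ι R) : Matrix ι ι R) * (T * (a.1 : Matrix ι ι R)) * ((a.1⁻¹ : GL ι R) : Matrix ι ι R) := by
          rw [ha']; simp only [Matrix.mul_assoc]
      _ = ((a.2⁻¹ : GL ι R) : Matrix ι ι R) * T * ((a.1 : Matrix ι ι R) * ((a.1⁻¹ : GL ι R) : Matrix ι ι R)) := by
          simp only [Matrix.mul_assoc]
      _ = ((a.2⁻¹ : GL ι R) : Matrix ι ι R) * T := by rw [e2, Matrix.mul_one]

theorem mem_relT (g g' : GL ι R) : (g, g') ∈ relT T ↔ T * (g : Matrix ι ι R) = (g' : Matrix ι ι R) * T := Iff.rfl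

end Rel

/-- the facts about the tables of a special isogeny -/
structure IsoSpec (fd : FD) (tc : ℕ → SV) (p : ℕ) (rho lam : ℕ → ℕ) : Prop where
  chk : ∀ r < fd.n, fd.isoChk tc p r (rho r) (lam r) = true
  rho_lt : ∀ r < fd.n, rho r < fd.n
  lam_cases : ∀ r < fd.n, lam r = 1 ∨ lam r = p
  hp : p = 2 ∨ p = 3
  rho_surj : ∀ r' < fd.n, ∃ r < fd.n, rho r = r'
  wit2 : ∃ i < fd.l, ∃ c₀ < fd.l + fd.n, tc c₀ = [(fd.l + fd.simples.getD i 0, 1)]
  wit3 : ∃ j < fd.l, ∃ i₀ < fd.l + fd.n, ∀ k < fd.l + fd.n,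
    SV.get (tc k) i₀ = if k = fd.l + (fd.n - 1 - fd.simples.getD j 0) then 1 else 0

namespace Cert12

variable (C : Cert12 D fd fx fc fz)
include C

/-- a normal subgroup of the Chevalley group which, together with `B`, misses an element is trivial -/
theorem normal_eq_bot_of_witness (hirr : (C.c6.bnPair F).Irreducible) (N : Subgroup ↥(D.group F)) [N.Normal]
    (y : ↥(D.group F))
    (hy : ∀ b : ↥(D.group F), (b : GL D.Idx F) ∈ D.borelSubgroup F → ∀ h ∈ N, y ≠ b * h) : N = ⊥ := by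
  rcases Cfsg.Agent.Lib.H29.normal_le_B_or_sup_top (C.c6.bnPair F) hirr N with h | h
  · have h2 : N ≤ ((D.borelSubgroup F).subgroupOf (D.group F)).normalCore :=
      Subgroup.normal_le_normalCore.mpr h
    rw [C.c6.c5.c3.borel_core] at h2
    exact le_bot_iff.mp h2
  · exfalso
    have hyT : y ∈ (C.c6.bnPair F).B ⊔ N := by rw [h]; trivial
    obtain ⟨b, hb, k, hk, e⟩ := Subgroup.mem_sup_of_normal_right.mp hyT
    exact hy b (Subgroup.mem_subgroupOf.mp hb) k hk e.symm

/-- the entry of `x_{-r}(1)` at `(-r, r)` -/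
theorem xA_neg_entry (r : ℕ) (hr : r < fd.n) (a b : D.Idx) (ha : code D a = fd.l + (fd.n - 1 - r))
    (hb : code D b = fd.l + r) :
    ((C.c6.c2.xA (F := F) (fd.n - 1 - r) 1 : GL D.Idx F) : Matrix D.Idx D.Idx F) a b = -1 := by
  have hag := C.c6.c2.agrees
  have hr' : fd.n - 1 - r < fd.n := by omega
  rw [C.c6.c2.xA_val, x_eq_XR hag _ hr', XR_entry_sum]
  have hcb : code D b < fd.l + fd.n := by rw [← hag.hl, ← hag.hn]; exact code_lt D b
  have hne : r ≠ fd.n - 1 - r := by
    have := C.c6.c2.heven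
    omega
  have hk : ∀ k, Ak D (fd.n - 1 - r) k a b =
      SV.get (fd.colA (fd.n - 1 - r) k (fd.l + r)) (fd.l + (fd.n - 1 - r)) := by
    intro k
    rw [Ak, SM.dens_apply, hag.colA_eq _ _ _ hr' hcb, ha, hb]
  have e0 : fd.l + r - fd.l = r := by omega
  have e1 : fd.n - 1 - (fd.n - 1 - r) = r := by omega
  have hnl : ¬ fd.l + r < fd.l := by omega
  have k0 : SV.get (fd.colA (fd.n - 1 - r) 0 (fd.l + r)) (fd.l + (fd.n - 1 - r)) = 0 := by
    unfold FD.colA
    rw [if_pos rfl, SV.get_cons, SV.get_nil, if_neg (by omega), add_zero]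
  have k1 : SV.get (fd.colA (fd.n - 1 - r) 1 (fd.l + r)) (fd.l + (fd.n - 1 - r)) = 0 := by
    unfold FD.colA
    rw [if_neg (by norm_num), if_neg hnl, e0, if_neg hne, e1, if_pos rfl, if_pos rfl]
    apply SV.get_eq_zero_of_not_mem
    intro hmem
    rw [List.map_map] at hmem
    obtain ⟨i, hi, e⟩ := List.mem_map.mp hmem
    rw [List.mem_range] at hi
    simp only [Function.comp] at e
    omega
  have k2 : SV.get (fd.colA (fd.n - 1 - r) 2 (fd.l + r)) (fd.l + (fd.n - 1 - r)) = -1 := by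
    unfold FD.colA
    rw [if_neg (by norm_num), if_neg hnl, e0, if_neg hne, e1, if_pos rfl, if_neg (by norm_num), if_pos rfl,
      SV.get_cons, SV.get_nil, if_pos rfl, add_zero]
  have k3 : SV.get (fd.colA (fd.n - 1 - r) 3 (fd.l + r)) (fd.l + (fd.n - 1 - r)) = 0 := by
    unfold FD.colA
    rw [if_neg (by norm_num), if_neg hnl, e0, if_neg hne, e1, if_pos rfl, if_neg (by norm_num),
      if_neg (by norm_num), SV.get_nil]
  simp only [one_pow, one_mul, hk, Finset.sum_range_succ, Finset.sum_range_zero, k0, k1, k2, k3]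
  norm_num

variable {tc : ℕ → SV} {p : ℕ} {rho lam : ℕ → ℕ} [CharP F p] (IS : IsoSpec fd tc p rho lam)
include IS

/-- the root elements are intertwined -/
theorem iso_gen_rel (r : ℕ) (hr : r < fd.n) (t : F) :
    (C.c6.c2.xA r t, C.c6.c2.xA (rho r) (t ^ lam r)) ∈ relT (JF D D F tc) := by
  have hag := C.c6.c2.agrees
  rw [mem_relT, C.c6.c2.xA_val, C.c6.c2.xA_val, x_eq_XR hag r hr, x_eq_XR hag _ (IS.rho_lt r hr)]
  have hl : lam r = 1 ∨ lam r = 2 ∨ lam r = 3 := by
    rcases IS.lam_cases r hr with h | h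
    · exact Or.inl h
    · rcases IS.hp with h2 | h2
      · right; left; rw [h, h2]
      · right; right; rw [h, h2]
  exact iso_intertwine p hag tc r (rho r) (lam r) hr (IS.rho_lt r hr) hl (IS.chk r hr) t

/-- every element of the group is intertwined with some element of the group -/
theorem iso_fwd (g : GL D.Idx F) (hg : g ∈ D.group F) : ∃ g' ∈ D.group F, (g, g') ∈ relT (JF D D F tc) := by
  unfold ChevalleyDatum.group at hg
  induction hg using Subgroup.closure_induction with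
  | mem x hx =>
    obtain ⟨r, t, hx⟩ := hx
    have hr : r.val < fd.n := by rw [← C.c6.c2.nroots_eq]; exact r.isLt
    have e : x = C.c6.c2.xA r.val t := by
      apply gl_ext
      rw [hx, C.c6.c2.xA_val]
      unfold ChevalleyDatum.x
      rw [dif_pos r.isLt]
    rw [e]
    exact ⟨_, C.c6.c2.xA_mem_group _ _, C.iso_gen_rel IS r.val hr t⟩
  | one => exact ⟨1, one_mem _, one_mem _⟩
  | mul x y hx hy ihx ihy =>
    obtain ⟨x', hx', ex⟩ := ihx
    obtain ⟨y', hy', ey⟩ := ihy
    exact ⟨x' * y', mul_mem hx' hy', mul_mem ex ey⟩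
  | inv x hx ih =>
    obtain ⟨x', hx', ex⟩ := ih
    exact ⟨x'⁻¹, inv_mem hx', inv_mem ex⟩

/-- over a perfect field every element of the group is intertwined from some element of the group -/
theorem iso_bwd (hperf : ∀ x : F, ∃ y : F, y ^ p = x) (g' : GL D.Idx F) (hg : g' ∈ D.group F) :
    ∃ g ∈ D.group F, (g, g') ∈ relT (JF D D F tc) := by
  unfold ChevalleyDatum.group at hg
  induction hg using Subgroup.closure_induction with
  | mem x hx =>
    obtain ⟨r', t, hx⟩ := hx
    have hr' : r'.val < fd.n := by rw [← C.c6.c2.nroots_eq]; exact r'.isLt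
    have e : x = C.c6.c2.xA r'.val t := by
      apply gl_ext
      rw [hx, C.c6.c2.xA_val]
      unfold ChevalleyDatum.x
      rw [dif_pos r'.isLt]
    obtain ⟨r, hr, hrr⟩ := IS.rho_surj r'.val hr'
    obtain ⟨s, hs⟩ : ∃ s : F, s ^ lam r = t := by
      rcases IS.lam_cases r hr with h | h
      · exact ⟨t, by rw [h, pow_one]⟩
      · obtain ⟨y, hy⟩ := hperf t
        exact ⟨y, by rw [h, hy]⟩
    refine ⟨C.c6.c2.xA r s, C.c6.c2.xA_mem_group _ _, ?_⟩
    have := C.iso_gen_rel IS r hr s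
    rw [hrr, hs] at this
    rw [e]
    exact this
  | one => exact ⟨1, one_mem _, one_mem _⟩
  | mul x y hx hy ihx ihy =>
    obtain ⟨x', hx', ex⟩ := ihx
    obtain ⟨y', hy', ey⟩ := ihy
    exact ⟨x' * y', mul_mem hx' hy', mul_mem ex ey⟩
  | inv x hx ih =>
    obtain ⟨x', hx', ex⟩ := ih
    exact ⟨x'⁻¹, inv_mem hx', inv_mem ex⟩

end Cert12

end Cfsg.Agent.Lib.H29.Chev
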