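import Mathlib
import Cfsg.Prelude.Def_ChevStructure
import Cfsg.Agent.Lib.H29.ChevIso2

/-!
# Special isogenies: the automorphism
-/

set_option autoImplicit false
set_option linter.unusedSectionVars false
set_option linter.unusedSimpArgs false
set_option linter.unusedVariables false

namespace Cfsg.Agent.Lib.H29.Chev

open Cfsg.Lie Matrix

variable {D : ChevalleyDatum} {fd : FD} {fx : FX} {fc : FC} {fz : FZ} {F : Type*} [Field F]

/-- the elements of the group fixing the image of `T` pointwise -/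
def isoN2 (D : ChevalleyDatum) {F : Type*} [Field F] (T : Matrix D.Idx D.Idx F) : Subgroup ↥(D.group F) where
  carrier := {h | ((h : GL D.Idx F) : Matrix D.Idx D.Idx F) * T = T}
  one_mem' := by
    show (((1 : ↥(D.group F)) : GL D.Idx F) : Matrix D.Idx D.Idx F) * T = T
    simp
  mul_mem' := by
    intro a b ha hb
    have ha' : ((a : GL D.Idx F) : Matrix D.Idx D.Idx F) * T = T := ha
    have hb' : ((b : GL D.Idx F) : Matrix D.Idx D.Idx F) * T = T := hb
    show (((a * b : ↥(D.group F)) : GL D.Idx F) : Matrix D.Idx D.Idx F) * T = T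
    rw [Subgroup.coe_mul, Units.val_mul, Matrix.mul_assoc, hb', ha']
  inv_mem' := by
    intro a ha
    have ha' : ((a : GL D.Idx F) : Matrix D.Idx D.Idx F) * T = T := ha
    show (((a⁻¹ : ↥(D.group F)) : GL D.Idx F) : Matrix D.Idx D.Idx F) * T = T
    rw [Subgroup.coe_inv]
    conv_lhs => rw [← ha', ← Matrix.mul_assoc, ← Units.val_mul, inv_mul_cancel, Units.val_one, Matrix.one_mul]

/-- the elements of the group acting trivially modulo the kernel of `T` -/
def isoN3 (D : ChevalleyDatum) {F : Type*} [Field F] (T : Matrix D.Idx D.Idx F) : Subgroup ↥(D.group F) where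
  carrier := {h | T * ((h : GL D.Idx F) : Matrix D.Idx D.Idx F) = T}
  one_mem' := by
    show T * (((1 : ↥(D.group F)) : GL D.Idx F) : Matrix D.Idx D.Idx F) = T
    simp
  mul_mem' := by
    intro a b ha hb
    have ha' : T * ((a : GL D.Idx F) : Matrix D.Idx D.Idx F) = T := ha
    have hb' : T * ((b : GL D.Idx F) : Matrix D.Idx D.Idx F) = T := hb
    show T * (((a * b : ↥(D.group F)) : GL D.Idx F) : Matrix D.Idx D.Idx F) = T
    rw [Subgroup.coe_mul, Units.val_mul, ← Matrix.mul_assoc, ha', hb']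
  inv_mem' := by
    intro a ha
    have ha' : T * ((a : GL D.Idx F) : Matrix D.Idx D.Idx F) = T := ha
    show T * (((a⁻¹ : ↥(D.group F)) : GL D.Idx F) : Matrix D.Idx D.Idx F) = T
    rw [Subgroup.coe_inv]
    conv_lhs => rw [← ha', Matrix.mul_assoc, ← Units.val_mul, mul_inv_cancel, Units.val_one, Matrix.mul_one]

theorem mem_isoN2 (T : Matrix D.Idx D.Idx F) (h : ↥(D.group F)) :
    h ∈ isoN2 D T ↔ ((h : GL D.Idx F) : Matrix D.Idx D.Idx F) * T = T := Iff.rfl

theorem mem_isoN3 (T : Matrix D.Idx D.Idx F) (h : ↥(D.group F)) :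
    h ∈ isoN3 D T ↔ T * ((h : GL D.Idx F) : Matrix D.Idx D.Idx F) = T := Iff.rfl

namespace Cert12

variable (C : Cert12 D fd fx fc fz)
  {tc : ℕ → SV} {p : ℕ} {rho lam : ℕ → ℕ} [CharP F p] (IS : IsoSpec fd tc p rho lam)
include C IS

theorem isoN2_normal (hperf : ∀ x : F, ∃ y : F, y ^ p = x) : (isoN2 D (JF D D F tc)).Normal := by
  constructor
  intro h hh k
  rw [mem_isoN2] at hh ⊢
  obtain ⟨g, hg, hrel⟩ := C.iso_bwd IS hperf ((k⁻¹ : ↥(D.group F)) : GL D.Idx F) (k⁻¹).property
  rw [mem_relT] at hrel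
  have e : (((k * h * k⁻¹ : ↥(D.group F)) : GL D.Idx F) : Matrix D.Idx D.Idx F) =
      ((k : GL D.Idx F) : Matrix D.Idx D.Idx F) * ((h : GL D.Idx F) : Matrix D.Idx D.Idx F) *
        (((k⁻¹ : ↥(D.group F)) : GL D.Idx F) : Matrix D.Idx D.Idx F) := by
    rw [Subgroup.coe_mul, Subgroup.coe_mul, Units.val_mul, Units.val_mul]
  rw [e, Matrix.mul_assoc, ← hrel, ← Matrix.mul_assoc, Matrix.mul_assoc _ _ (JF D D F tc), hh, Matrix.mul_assoc,
    hrel, ← Matrix.mul_assoc, ← Units.val_mul, ← Subgroup.coe_mul, mul_inv_cancel]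
  simp

theorem isoN3_normal : (isoN3 D (JF D D F tc)).Normal := by
  constructor
  intro h hh k
  rw [mem_isoN3] at hh ⊢
  obtain ⟨k', hk', hrel⟩ := C.iso_fwd IS (k : GL D.Idx F) k.property
  rw [mem_relT] at hrel
  have e : (((k * h * k⁻¹ : ↥(D.group F)) : GL D.Idx F) : Matrix D.Idx D.Idx F) =
      ((k : GL D.Idx F) : Matrix D.Idx D.Idx F) * ((h : GL D.Idx F) : Matrix D.Idx D.Idx F) *
        (((k⁻¹ : ↥(D.group F)) : GL D.Idx F) : Matrix D.Idx D.Idx F) := by
    rw [Subgroup.coe_mul, Subgroup.coe_mul, Units.val_mul, Units.val_mul]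
  have e2 : ((k : GL D.Idx F) : Matrix D.Idx D.Idx F) *
      (((k⁻¹ : ↥(D.group F)) : GL D.Idx F) : Matrix D.Idx D.Idx F) = 1 := by
    rw [← Units.val_mul, ← Subgroup.coe_mul, mul_inv_cancel]; simp
  rw [e, ← Matrix.mul_assoc, ← Matrix.mul_assoc, hrel, Matrix.mul_assoc (k' : Matrix D.Idx D.Idx F), hh, ← hrel,
    Matrix.mul_assoc, e2, Matrix.mul_one]

omit IS [CharP F p] in
/-- the levels of a fundamental root and of its negative -/
theorem lv_simple (i : ℕ) (hi : i < fd.l) (a b : D.Idx) (ha : code D a = fd.l + (fd.n - 1 - fd.simples.getD i 0))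
    (hb : code D b = fd.l + fd.simples.getD i 0) : lvD D fd a < lvD D fd b := by
  have hlt := C.c6.c2.simple_lt i hi
  have hpos := C.c6.simple_pos i hi
  have hev := C.c6.c2.heven
  have h1 : lvD D fd a = fd.n - 1 - fd.simples.getD i 0 := by
    unfold lvD FD.lev
    rw [ha]
    split_ifs <;> omega
  have h2 : lvD D fd b = fd.simples.getD i 0 + 1 := by
    unfold lvD FD.lev
    rw [hb]
    split_ifs <;> omega
  rw [h1, h2]
  omega

/-- only the identity fixes the image of `T` pointwise -/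
theorem isoN2_eq_bot (hirr : (C.c6.bnPair F).Irreducible) (hperf : ∀ x : F, ∃ y : F, y ^ p = x) :
    isoN2 D (JF D D F tc) = ⊥ := by
  have hnorm := C.isoN2_normal IS hperf
  have hag := C.c6.c2.agrees
  obtain ⟨i, hi, c₀, hc₀, htc⟩ := IS.wit2
  have hlt := C.c6.c2.simple_lt i hi
  obtain ⟨a, ha⟩ := code_surj D (fd.l + (fd.n - 1 - fd.simples.getD i 0)) (by rw [hag.hl, hag.hn]; omega)
  obtain ⟨b, hb⟩ := code_surj D (fd.l + fd.simples.getD i 0) (by rw [hag.hl, hag.hn]; omega)
  obtain ⟨c, hc⟩ := code_surj D c₀ (by rw [hag.hl, hag.hn]; exact hc₀)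
  have hT : ∀ k : D.Idx, JF D D F tc k c = if k = b then 1 else 0 := by
    intro k
    unfold JF
    rw [hc, htc]
    by_cases hk : k = b
    · subst hk
      rw [SV.get_cons, SV.get_nil, hb, if_pos rfl, add_zero, if_pos rfl, Int.cast_one]
    · have : fd.l + fd.simples.getD i 0 ≠ code D k := by
        intro h
        apply hk
        apply code_injective D
        rw [hb, h]
      rw [SV.get_cons, SV.get_nil, if_neg this, add_zero, if_neg hk, Int.cast_zero]
  have hcol : ∀ M : Matrix D.Idx D.Idx F, (M * JF D D F tc) a c = M a b := by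
    intro M
    rw [Matrix.mul_apply, Finset.sum_eq_single b]
    · rw [hT, if_pos rfl, mul_one]
    · intro k _ hk
      rw [hT, if_neg hk, mul_zero]
    · intro h; exact absurd (Finset.mem_univ _) h
  apply C.normal_eq_bot_of_witness hirr _
    ⟨C.c6.c2.xA (fd.n - 1 - fd.simples.getD i 0) 1, C.c6.c2.xA_mem_group _ _⟩
  intro bb hbb h hh e
  rw [mem_isoN2] at hh
  have e1 := congrArg (fun g : ↥(D.group F) => ((g : GL D.Idx F) : Matrix D.Idx D.Idx F) * JF D D F tc) e
  simp only [Subgroup.coe_mul, Units.val_mul] at e1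
  rw [Matrix.mul_assoc, hh] at e1
  have e2 := congrFun (congrFun e1 a) c
  rw [hcol, hcol, C.xA_neg_entry _ hlt a b ha hb] at e2
  have hup := C.borel_isUp _ hbb a b
  have hlv := C.lv_simple i hi a b ha hb
  have : ((bb : GL D.Idx F) : Matrix D.Idx D.Idx F) a b = 0 := by
    by_contra hne
    have := hup hne
    omega
  rw [this] at e2
  norm_num at e2

/-- only the identity acts trivially modulo the kernel of `T` -/
theorem isoN3_eq_bot (hirr : (C.c6.bnPair F).Irreducible) : isoN3 D (JF D D F tc) = ⊥ := by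
  have hnorm := C.isoN3_normal (F := F) IS
  have hag := C.c6.c2.agrees
  obtain ⟨j, hj, i₀, hi₀, htc⟩ := IS.wit3
  have hlt := C.c6.c2.simple_lt j hj
  obtain ⟨a, ha⟩ := code_surj D (fd.l + (fd.n - 1 - fd.simples.getD j 0)) (by rw [hag.hl, hag.hn]; omega)
  obtain ⟨b, hb⟩ := code_surj D (fd.l + fd.simples.getD j 0) (by rw [hag.hl, hag.hn]; omega)
  obtain ⟨c, hc⟩ := code_surj D i₀ (by rw [hag.hl, hag.hn]; exact hi₀)
  have hT : ∀ k : D.Idx, JF D D F tc c k = if k = a then 1 else 0 := by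
    intro k
    unfold JF
    have hk : code D k < fd.l + fd.n := by rw [← hag.hl, ← hag.hn]; exact code_lt D k
    rw [hc, htc _ hk]
    by_cases hka : k = a
    · subst hka
      rw [if_pos ha, if_pos rfl, Int.cast_one]
    · have : code D k ≠ fd.l + (fd.n - 1 - fd.simples.getD j 0) := by
        intro h
        apply hka
        apply code_injective D
        rw [ha, h]
      rw [if_neg this, if_neg hka, Int.cast_zero]
  have hrow : ∀ M : Matrix D.Idx D.Idx F, (JF D D F tc * M) c b = M a b := by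
    intro M
    rw [Matrix.mul_apply, Finset.sum_eq_single a]
    · rw [hT, if_pos rfl, one_mul]
    · intro k _ hk
      rw [hT, if_neg hk, zero_mul]
    · intro h; exact absurd (Finset.mem_univ _) h
  apply C.normal_eq_bot_of_witness hirr _
    (⟨C.c6.c2.xA (fd.n - 1 - fd.simples.getD j 0) 1, C.c6.c2.xA_mem_group _ _⟩)⁻¹
  intro bb hbb h hh e
  have hh' := inv_mem hh
  rw [mem_isoN3] at hh'
  have e0 : (⟨C.c6.c2.xA (fd.n - 1 - fd.simples.getD j 0) 1, C.c6.c2.xA_mem_group _ _⟩ : ↥(D.group F)) =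
      h⁻¹ * bb⁻¹ := by
    rw [← _root_.mul_inv_rev, ← e, inv_inv]
  have e1 := congrArg (fun g : ↥(D.group F) => JF D D F tc * ((g : GL D.Idx F) : Matrix D.Idx D.Idx F)) e0
  simp only [Subgroup.coe_mul, Units.val_mul] at e1
  rw [← Matrix.mul_assoc, hh'] at e1
  have e2 := congrFun (congrFun e1 c) b
  rw [hrow, hrow, C.xA_neg_entry _ hlt a b ha hb] at e2
  have hbb' : ((bb⁻¹ : ↥(D.group F)) : GL D.Idx F) ∈ D.borelSubgroup F := by
    rw [Subgroup.coe_inv]; exact inv_mem hbb
  have hup := C.borel_isUp _ hbb' a b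
  have hlv := C.lv_simple j hj a b ha hb
  have : (((bb⁻¹ : ↥(D.group F)) : GL D.Idx F) : Matrix D.Idx D.Idx F) a b = 0 := by
    by_contra hne
    have := hup hne
    omega
  rw [this] at e2
  norm_num at e2

end Cert12

end Cfsg.Agent.Lib.H29.Chev
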