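import Mathlib
import Cfsg.Prelude.Def_ChevStructure
import Cfsg.Agent.Lib.H29.ChevIso3

/-!
# Special isogenies: existence of the automorphism
-/

set_option autoImplicit false
set_option linter.unusedSectionVars false
set_option linter.unusedSimpArgs false
set_option linter.unusedVariables false

namespace Cfsg.Agent.Lib.H29.Chev

open Cfsg.Lie Matrix

variable {D : ChevalleyDatum} {fd : FD} {fx : FX} {fc : FC} {fz : FZ} {F : Type*} [Field F]

namespace Cert12

variable (C : Cert12 D fd fx fc fz)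
  {tc : ℕ → SV} {p : ℕ} {rho lam : ℕ → ℕ} [CharP F p] (IS : IsoSpec fd tc p rho lam)
include C IS

/-- the second component of an intertwined pair is determined by the first -/
theorem iso_unique (hirr : (C.c6.bnPair F).Irreducible) (hperf : ∀ x : F, ∃ y : F, y ^ p = x)
    (g g' g'' : GL D.Idx F) (hg' : g' ∈ D.group F) (hg'' : g'' ∈ D.group F)
    (h1 : (g, g') ∈ relT (JF D D F tc)) (h2 : (g, g'') ∈ relT (JF D D F tc)) : g' = g'' := by
  rw [mem_relT] at h1 h2
  have hmem : (⟨g'⁻¹ * g'', mul_mem (inv_mem hg') hg''⟩ : ↥(D.group F)) ∈ isoN2 D (JF D D F tc) := by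
    rw [mem_isoN2]
    show ((g'⁻¹ * g'' : GL D.Idx F) : Matrix D.Idx D.Idx F) * JF D D F tc = JF D D F tc
    rw [Units.val_mul, Matrix.mul_assoc, ← h2, h1, ← Matrix.mul_assoc, ← Units.val_mul, inv_mul_cancel,
      Units.val_one, Matrix.one_mul]
  rw [C.isoN2_eq_bot IS hirr hperf, Subgroup.mem_bot] at hmem
  have := congrArg Subtype.val hmem
  simp only [OneMemClass.coe_one] at this
  exact inv_mul_eq_one.mp this

/-- the automorphism attached to the intertwining matrix -/
theorem exists_isogeny (hirr : (C.c6.bnPair F).Irreducible) (hperf : ∀ x : F, ∃ y : F, y ^ p = x) :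
    ∃ τ : ↥(D.group F) ≃* ↥(D.group F),
      (∀ g : ↥(D.group F), JF D D F tc * ((g : GL D.Idx F) : Matrix D.Idx D.Idx F) =
        ((τ g : GL D.Idx F) : Matrix D.Idx D.Idx F) * JF D D F tc) ∧
      (∀ r < fd.n, ∀ t : F, ((τ ⟨C.c6.c2.xA r t, C.c6.c2.xA_mem_group _ _⟩ : ↥(D.group F)) : GL D.Idx F) =
        C.c6.c2.xA (rho r) (t ^ lam r)) := by
  classical
  have hfwd := fun g : ↥(D.group F) => C.iso_fwd IS (g : GL D.Idx F) g.property
  let f : ↥(D.group F) → ↥(D.group F) := fun g => ⟨(hfwd g).choose, (hfwd g).choose_spec.1⟩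
  have hf : ∀ g : ↥(D.group F), ((g : GL D.Idx F), ((f g : ↥(D.group F)) : GL D.Idx F)) ∈ relT (JF D D F tc) :=
    fun g => (hfwd g).choose_spec.2
  have hmul : ∀ a b : ↥(D.group F), f (a * b) = f a * f b := by
    intro a b
    apply Subtype.ext
    apply C.iso_unique IS hirr hperf ((a * b : ↥(D.group F)) : GL D.Idx F) _ _ (f (a * b)).property
      (f a * f b).property (hf (a * b))
    have := mul_mem (hf a) (hf b)
    exact this
  let φ : ↥(D.group F) →* ↥(D.group F) := MonoidHom.mk' f hmul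
  have hφ : ∀ g, φ g = f g := fun g => rfl
  have hinj : Function.Injective φ := by
    rw [injective_iff_map_eq_one]
    intro g hg
    rw [hφ] at hg
    have h1 := hf g
    rw [hg, mem_relT] at h1
    have hmem : g ∈ isoN3 D (JF D D F tc) := by
      rw [mem_isoN3, h1]
      simp
    rw [C.isoN3_eq_bot IS hirr, Subgroup.mem_bot] at hmem
    exact hmem
  have hsurj : Function.Surjective φ := by
    intro g'
    obtain ⟨g, hg, hrel⟩ := C.iso_bwd IS hperf (g' : GL D.Idx F) g'.property
    refine ⟨⟨g, hg⟩, ?_⟩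
    apply Subtype.ext
    exact C.iso_unique IS hirr hperf g _ _ (f ⟨g, hg⟩).property g'.property (hf ⟨g, hg⟩) hrel
  refine ⟨MulEquiv.ofBijective φ ⟨hinj, hsurj⟩, ?_, ?_⟩
  · intro g
    exact (mem_relT _ _ _).mp (hf g)
  · intro r hr t
    exact C.iso_unique IS hirr hperf (C.c6.c2.xA r t) _ _
      (f ⟨C.c6.c2.xA r t, C.c6.c2.xA_mem_group _ _⟩).property (C.c6.c2.xA_mem_group _ _)
      (hf ⟨C.c6.c2.xA r t, C.c6.c2.xA_mem_group _ _⟩) (C.iso_gen_rel IS r hr t)

end Cert12

end Cfsg.Agent.Lib.H29.Chev
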