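import Mathlib
import Cfsg.Agent.Lib.H29.ChevIso1
import Cfsg.Agent.Lib.H29.ChevDataG2

/-! Special isogeny tables for G2 in characteristic 3 (generated) -/

set_option autoImplicit false

namespace Cfsg.Agent.Lib.H29.Chev

def tcLG2 : List SV :=
  [[],
   [(0, 1)],
   [(4, 1)],
   [(5, 1)],
   [],
   [],
   [],
   [(6, 1)],
   [(9, 1)],
   [],
   [],
   [],
   [(10, 1)],
   [(11, 1)]]

def tcG2 : ℕ → SV := fun c => tcLG2.getD c []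

def rhoLG2 : List ℕ := [2, 3, 0, 1, 5, 4, 7, 6, 10, 11, 8, 9]

def lamLG2 : List ℕ := [1, 1, 3, 3, 3, 1, 1, 3, 3, 3, 1, 1]

set_option maxRecDepth 1000000 in
theorem isoG2_chk : ∀ r < fdG2.n, fdG2.isoChk tcG2 3 r (rhoLG2.getD r 0) (lamLG2.getD r 1) = true := by
  decide +kernel

theorem isoG2_spec : ∀ r < fdG2.n, rhoLG2.getD r 0 < fdG2.n ∧ (lamLG2.getD r 1 = 1 ∨ lamLG2.getD r 1 = 3) ∧
    rhoLG2.getD (fdG2.n - 1 - r) 0 = fdG2.n - 1 - rhoLG2.getD r 0 ∧ lamLG2.getD (fdG2.n - 1 - r) 1 = lamLG2.getD r 1 ∧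
    (fdG2.n / 2 ≤ r → fdG2.n / 2 ≤ rhoLG2.getD r 0) := by
  decide +kernel

end Cfsg.Agent.Lib.H29.Chev
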