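import Mathlib
import Cfsg.Agent.Lib.H29.ChevIso4
import Cfsg.Agent.Lib.H29.ChevIsoTG2
import Cfsg.Agent.Lib.H29.ChevIrr
import Cfsg.Agent.Lib.H29.ChevCert13
import Cfsg.Agent.Lib.H29.ChevChkPerfG2

/-! The special isogeny of G2 in characteristic 3 -/

set_option autoImplicit false

namespace Cfsg.Agent.Lib.H29.Chev

open Cfsg.Lie

def rhoG2 (r : ℕ) : ℕ := rhoLG2.getD r 0

def lamG2 (r : ℕ) : ℕ := lamLG2.getD r 1

set_option maxRecDepth 1000000 in
theorem isoSpecG2 : IsoSpec fdG2 tcG2 3 rhoG2 lamG2 where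
  chk := isoG2_chk
  rho_lt := fun r hr => (isoG2_spec r hr).1
  lam_cases := fun r hr => (isoG2_spec r hr).2.1
  hp := by decide
  rho_surj := by decide +kernel
  wit2 := ⟨0, by decide, 8, by decide, by decide⟩
  wit3 := ⟨1, by decide, 6, by decide, by decide +kernel⟩

theorem irrG2 {F : Type*} [Field F] : (cert12_G2.c6.bnPair F).Irreducible :=
  cert12_G2.c6.irreducible6 fwG2 fdG2_chkIrr

/-- the special automorphism of `G2(F)` over a perfect field of characteristic 3 -/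
theorem exists_isogenyG2 {F : Type*} [Field F] [CharP F 3] (hperf : ∀ x : F, ∃ y : F, y ^ 3 = x) :
    ∃ τ : ↥(chevG2.group F) ≃* ↥(chevG2.group F),
      (∀ g : ↥(chevG2.group F), JF chevG2 chevG2 F tcG2 * ((g : GL chevG2.Idx F) : Matrix chevG2.Idx chevG2.Idx F) =
        ((τ g : GL chevG2.Idx F) : Matrix chevG2.Idx chevG2.Idx F) * JF chevG2 chevG2 F tcG2) ∧
      (∀ r < fdG2.n, ∀ t : F, ((τ ⟨cert12_G2.c6.c2.xA r t, cert12_G2.c6.c2.xA_mem_group _ _⟩ : ↥(chevG2.group F)) :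
        GL chevG2.Idx F) = cert12_G2.c6.c2.xA (rhoG2 r) (t ^ lamG2 r)) :=
  cert12_G2.exists_isogeny isoSpecG2 irrG2 hperf

end Cfsg.Agent.Lib.H29.Chev
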