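import Mathlib
import Cfsg.Prelude.Def_ChevStructure
import Cfsg.Agent.Lib.H29.ChevFast2

/-!
# Packed tables of a graph automorphism of a Chevalley datum

`rh` is the permutation of the fundamental roots, `pt` holds for each root `r` the 16-bit field `ρ(r) + 256 [ε_r = -1]`
of the signed permutation `e_r ↦ ε_r e_{ρ r}`, and `rhi`, `pti` describe the inverse signed permutation.
-/

set_option autoImplicit false
set_option linter.unusedSectionVars false
set_option linter.unusedSimpArgs false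

namespace Cfsg.Agent.Lib.H29.Chev

open Cfsg.Lie Matrix

structure GA where
  rh : List ℕ
  rhi : List ℕ
  pt : ℕ
  pti : ℕ

namespace FD

variable (fd : FD) (ga : GA)

def gRoot (_fd : FD) (ga : GA) (r : ℕ) : ℕ := (ga.pt >>> (16 * r)) &&& 255
def gEps (_fd : FD) (ga : GA) (r : ℕ) : ℤ := bif Nat.beq ((ga.pt >>> (16 * r + 8)) &&& 1) 1 then -1 else 1
def giRoot (_fd : FD) (ga : GA) (r : ℕ) : ℕ := (ga.pti >>> (16 * r)) &&& 255
def giEps (_fd : FD) (ga : GA) (r : ℕ) : ℤ := bif Nat.beq ((ga.pti >>> (16 * r + 8)) &&& 1) 1 then -1 else 1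

/-- column `c` of the signed permutation matrix -/
def pcol (c : ℕ) : SV :=
  bif Nat.blt c fd.l then [(ga.rh.getD c 0, 1)] else [(fd.l + fd.gRoot ga (c - fd.l), fd.gEps ga (c - fd.l))]

/-- column `c` of the inverse -/
def picol (c : ℕ) : SV :=
  bif Nat.blt c fd.l then [(ga.rhi.getD c 0, 1)] else [(fd.l + fd.giRoot ga (c - fd.l), fd.giEps ga (c - fd.l))]

/-- the two matrices are inverse to each other, columnwise -/
def chkGInvC (c : ℕ) : Bool :=
  SV.bddB (fd.l + fd.n) (fd.pcol ga c) && SV.bddB (fd.l + fd.n) (fd.picol ga c) &&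
  SV.beqB (SM.apply (fd.pcol ga) (fd.picol ga c)) [(c, 1)] &&
  SV.beqB (SM.apply (fd.picol ga) (fd.pcol ga c)) [(c, 1)]

def ChkGInv : Prop := ∀ c < fd.l + fd.n, fd.chkGInvC ga c = true

/-- `P A_r^{(1)} = ε_r A_{ρ r}^{(1)} P`, columnwise; `ρ r` and `ρ⁻¹ r` are roots -/
def chkGraphR (r : ℕ) : Bool :=
  Nat.blt (fd.gRoot ga r) fd.n && Nat.blt (fd.giRoot ga r) fd.n &&
  Nat.beq (fd.gRoot ga (fd.giRoot ga r)) r &&
  (List.range (fd.l + fd.n)).all fun c =>
    SV.beqB (SM.apply (fd.pcol ga) (fd.colA r 1 c))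
      (SV.smul (fd.gEps ga r) (SM.apply (fd.colA (fd.gRoot ga r) 1) (fd.pcol ga c)))

def ChkGraph : Prop := ∀ r < fd.n, fd.chkGraphR ga r = true

/-- the fundamental roots and their negatives are permuted as `rh` says, with signs `1` -/
def chkGSimple : Bool :=
  (List.range fd.l).all fun i =>
    Nat.beq (fd.gRoot ga (fd.simples.getD i 0)) (fd.simples.getD (ga.rh.getD i 0) 0) &&
    intBeq (fd.gEps ga (fd.simples.getD i 0)) 1 &&
    Nat.beq (fd.gRoot ga (fd.n - 1 - fd.simples.getD i 0)) (fd.n - 1 - fd.simples.getD (ga.rh.getD i 0) 0) &&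
    intBeq (fd.gEps ga (fd.n - 1 - fd.simples.getD i 0)) 1 &&
    Nat.blt (ga.rh.getD i 0) fd.l

end FD

end Cfsg.Agent.Lib.H29.Chev
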