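import Mathlib
import Cfsg.Prelude.Def_ChevStructure
import Cfsg.Agent.Lib.H29.ChevGen13
import Cfsg.Agent.Lib.H29.ChevFast3

/-!
# Graph automorphisms of Chevalley groups as conjugation by a signed permutation matrix
-/

set_option autoImplicit false
set_option linter.unusedSectionVars false
set_option linter.unusedSimpArgs false
set_option linter.unusedVariables false

namespace Cfsg.Agent.Lib.H29.Chev

open Cfsg.Lie Matrix

variable {D : ChevalleyDatum} {fd : FD} {fx : FX} {F : Type*} [Field F]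

/-- an integer matrix that intertwines `A_s^{(1)}` and `η A_{s'}^{(1)}` intertwines `x_s(t)` and `x_{s'}(η t)` -/
theorem conj_XR_of_Ak1 (h : Agrees D fd) (hc : fd.ChkAdd) (N : Matrix D.Idx D.Idx ℤ) (s s' : ℕ) (hs : s < fd.n)
    (hs' : s' < fd.n) (η : ℤ) (e2 : η * η = 1) (k1 : N * Ak D s 1 = η • (Ak D s' 1 * N)) (t : F) :
    N.map (Int.castRingHom F) * XR D F s t = XR D F s' ((η : F) * t) * N.map (Int.castRingHom F) := by
  have a11 : Ak D s 1 * Ak D s 1 = (2 : ℤ) • Ak D s 2 := Ak_mul1 h hc s hs 1 (Or.inl rfl)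
  have a12 : Ak D s 1 * Ak D s 2 = (3 : ℤ) • Ak D s 3 := Ak_mul1 h hc s hs 2 (Or.inr (Or.inl rfl))
  have b11 : Ak D s' 1 * Ak D s' 1 = (2 : ℤ) • Ak D s' 2 := Ak_mul1 h hc _ hs' 1 (Or.inl rfl)
  have b12 : Ak D s' 1 * Ak D s' 2 = (3 : ℤ) • Ak D s' 3 := Ak_mul1 h hc _ hs' 2 (Or.inr (Or.inl rfl))
  have k2' : N * Ak D s 2 = Ak D s' 2 * N := by
    apply int_smul_cancel 2 (by norm_num)
    rw [← Matrix.mul_smul, ← a11, ← Matrix.mul_assoc, k1, Matrix.smul_mul, Matrix.mul_assoc, k1, Matrix.mul_smul,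
      smul_smul, e2, one_smul, ← Matrix.mul_assoc, b11, Matrix.smul_mul]
  have k3' : N * Ak D s 3 = η • (Ak D s' 3 * N) := by
    apply int_smul_cancel 3 (by norm_num)
    rw [← Matrix.mul_smul, ← a12, ← Matrix.mul_assoc, k1, Matrix.smul_mul, Matrix.mul_assoc, k2', ← Matrix.mul_assoc,
      b12, Matrix.smul_mul, smul_comm]
  have k1F := congrArg (fun M => M.map (Int.castRingHom F)) k1
  have k2 := congrArg (fun M => M.map (Int.castRingHom F)) k2'
  have k3 := congrArg (fun M => M.map (Int.castRingHom F)) k3'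
  have sm : ∀ (c : ℤ) (M : Matrix D.Idx D.Idx ℤ), (c • M).map (Int.castRingHom F) =
      ((c : ℤ) : F) • M.map (Int.castRingHom F) := by
    intro c M; ext a b
    rw [Matrix.map_apply, Matrix.smul_apply, Matrix.smul_apply, Matrix.map_apply]
    simp
  simp only [Matrix.map_mul, sm] at k1F k2 k3
  have e2F : ((η : ℤ) : F) * ((η : ℤ) : F) = 1 := by
    rw [← Int.cast_mul, e2, Int.cast_one]
  unfold XR aR
  generalize ((η : ℤ) : F) = ηF at *
  rw [Matrix.mul_add, Matrix.mul_add, Matrix.mul_add, Matrix.add_mul, Matrix.add_mul, Matrix.add_mul,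
    Matrix.mul_one, Matrix.one_mul, Matrix.mul_smul, Matrix.mul_smul, Matrix.mul_smul, k1F, k2, k3,
    Matrix.smul_mul, Matrix.smul_mul, Matrix.smul_mul, smul_smul, smul_smul]
  have p2 : (ηF * t) ^ 2 = t ^ 2 := by rw [mul_pow, pow_two ηF, e2F, one_mul]
  have p3 : (ηF * t) ^ 3 = t ^ 3 * ηF := by
    rw [mul_pow, show ηF ^ 3 = ηF * ηF * ηF by ring, e2F, one_mul, mul_comm]
  rw [p2, p3, mul_comm t ηF]

theorem FD.gEps_sq (ga : GA) (r : ℕ) : fd.gEps ga r * fd.gEps ga r = 1 := by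
  unfold FD.gEps
  cases Nat.beq ((ga.pt >>> (16 * r + 8)) &&& 1) 1 <;> simp

/-- the integer matrices of the signed permutation and its inverse -/
def PZ (D : ChevalleyDatum) (fd : FD) (ga : GA) : Matrix D.Idx D.Idx ℤ := SM.dens (code D) (fd.pcol ga)
def PiZ (D : ChevalleyDatum) (fd : FD) (ga : GA) : Matrix D.Idx D.Idx ℤ := SM.dens (code D) (fd.picol ga)

theorem FD.ginv_spec {ga : GA} (hg : fd.ChkGInv ga) (c : ℕ) (hc : c < fd.l + fd.n) :
    SV.bdd (fd.l + fd.n) (fd.pcol ga c) = true ∧ SV.bdd (fd.l + fd.n) (fd.picol ga c) = true ∧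
    (∀ i, SV.get (SM.apply (fd.pcol ga) (fd.picol ga c)) i = SV.get [(c, 1)] i) ∧
    (∀ i, SV.get (SM.apply (fd.picol ga) (fd.pcol ga c)) i = SV.get [(c, 1)] i) := by
  have := hg c hc
  simp only [FD.chkGInvC, Bool.and_eq_true] at this
  obtain ⟨⟨⟨h1, h2⟩, h3⟩, h4⟩ := this
  exact ⟨SV.bdd_of_bddB h1, SV.bdd_of_bddB h2, SV.eq_of_beqB h3, SV.eq_of_beqB h4⟩

theorem dens_one_aux (h : Agrees D fd) (M : SM)
    (hM : ∀ c < fd.l + fd.n, ∀ i, SV.get (M c) i = SV.get [(c, 1)] i) :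
    SM.dens (code D) M = 1 := by
  ext a b
  have hb : code D b < fd.l + fd.n := by rw [← h.hl, ← h.hn]; exact code_lt D b
  rw [SM.dens_apply, hM _ hb, SV.get_cons, SV.get_nil, add_zero]
  by_cases hab : a = b
  · subst hab; simp
  · have : ¬ code D b = code D a := fun he => hab (code_injective D he.symm)
    simp only [this, if_false]
    rw [Matrix.one_apply_ne hab]

theorem PZ_mul_PiZ (h : Agrees D fd) {ga : GA} (hg : fd.ChkGInv ga) :
    PZ D fd ga * PiZ D fd ga = 1 ∧ PiZ D fd ga * PZ D fd ga = 1 := by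
  have hN : ∀ m < D.rank + D.nroots, ∃ a : D.Idx, code D a = m := code_surj D
  have hlt : ∀ b : D.Idx, code D b < fd.l + fd.n := by
    intro b; rw [← h.hl, ← h.hn]; exact code_lt D b
  unfold PZ PiZ
  constructor
  · rw [SM.dens_mul (code D) (code_injective D) _ hN]
    · exact dens_one_aux h _ (fun c hc i => (fd.ginv_spec hg c hc).2.2.1 i)
    · intro b; rw [h.hl, h.hn]; exact (fd.ginv_spec hg _ (hlt b)).2.1
  · rw [SM.dens_mul (code D) (code_injective D) _ hN]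
    · exact dens_one_aux h _ (fun c hc i => (fd.ginv_spec hg c hc).2.2.2 i)
    · intro b; rw [h.hl, h.hn]; exact (fd.ginv_spec hg _ (hlt b)).1

/-- the signed permutation as an invertible matrix over a field -/
noncomputable def PG (h : Agrees D fd) {ga : GA} (hg : fd.ChkGInv ga) : GL D.Idx F :=
  ⟨(PZ D fd ga).map (Int.castRingHom F), (PiZ D fd ga).map (Int.castRingHom F),
    by rw [← Matrix.map_mul, (PZ_mul_PiZ h hg).1]; simp,
    by rw [← Matrix.map_mul, (PZ_mul_PiZ h hg).2]; simp⟩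

theorem FD.graph_spec {ga : GA} (hg : fd.ChkGraph ga) (r : ℕ) (hr : r < fd.n) :
    fd.gRoot ga r < fd.n ∧ fd.giRoot ga r < fd.n ∧ fd.gRoot ga (fd.giRoot ga r) = r ∧
    ∀ c < fd.l + fd.n, ∀ i, SV.get (SM.apply (fd.pcol ga) (fd.colA r 1 c)) i =
      SV.get (SV.smul (fd.gEps ga r) (SM.apply (fd.colA (fd.gRoot ga r) 1) (fd.pcol ga c))) i := by
  have := hg r hr
  simp only [FD.chkGraphR, Bool.and_eq_true, List.all_eq_true, List.mem_range, natBlt_iff, natBeq_iff] at this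
  obtain ⟨⟨⟨h1, h2⟩, h3⟩, h4⟩ := this
  exact ⟨h1, h2, h3, fun c hc => SV.eq_of_beqB (h4 c hc)⟩

/-- `P A_r^{(1)} = ε_r A_{ρ r}^{(1)} P` -/
theorem PZ_mul_Ak1 (h : Agrees D fd) (hc : fd.ChkAdd) {ga : GA} (hgi : fd.ChkGInv ga) (hg : fd.ChkGraph ga)
    (r : ℕ) (hr : r < fd.n) :
    PZ D fd ga * Ak D r 1 = fd.gEps ga r • (Ak D (fd.gRoot ga r) 1 * PZ D fd ga) := by
  obtain ⟨hr', _, _, hcol⟩ := fd.graph_spec hg r hr
  have hN : ∀ m < D.rank + D.nroots, ∃ a : D.Idx, code D a = m := code_surj D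
  have hlt : ∀ b : D.Idx, code D b < fd.l + fd.n := by
    intro b; rw [← h.hl, ← h.hn]; exact code_lt D b
  rw [Ak_eq_dens h r 1 hr, Ak_eq_dens h _ 1 hr']
  unfold PZ
  rw [SM.dens_mul (code D) (code_injective D) _ hN, SM.dens_mul (code D) (code_injective D) _ hN]
  · ext a b
    rw [Matrix.smul_apply]
    simp only [SM.dens_apply, SM.mul]
    rw [hcol (code D b) (hlt b), SV.get_smul, smul_eq_mul, mul_comm]
  · intro b
    rw [h.hl, h.hn]
    exact (fd.ginv_spec hgi _ (hlt b)).1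
  · intro b
    rw [h.hl, h.hn]
    exact fd.colA_bdd hc r 1 _ hr (Or.inl rfl) (hlt b)

namespace Cert2

variable (C : Cert2 D fd fx)
include C

/-- conjugation by `P` maps `x_r(t)` to `x_{ρ r}(ε_r t)` -/
theorem PG_conj_x {ga : GA} (hgi : fd.ChkGInv ga) (hg : fd.ChkGraph ga) (r : ℕ) (hr : r < fd.n) (t : F) :
    PG C.agrees hgi * C.xA r t * (PG C.agrees hgi)⁻¹ = C.xA (fd.gRoot ga r) (((fd.gEps ga r : ℤ) : F) * t) := by
  obtain ⟨hr', _, _, _⟩ := fd.graph_spec hg r hr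
  apply gl_conj_eq
  rw [C.xA_val, C.xA_val, x_eq_XR C.agrees r hr, x_eq_XR C.agrees _ hr']
  exact conj_XR_of_Ak1 C.agrees C.chk.add _ r _ hr hr' _ (fd.gEps_sq ga r)
    (PZ_mul_Ak1 C.agrees C.chk.add hgi hg r hr) t

/-- conjugation by `P` maps the Chevalley group onto itself -/
theorem map_conj_PG {ga : GA} (hgi : fd.ChkGInv ga) (hg : fd.ChkGraph ga) :
    (D.group F).map (MulAut.conj (PG C.agrees hgi)).toMonoidHom = D.group F := by
  apply le_antisymm
  · rw [Subgroup.map_le_iff_le_comap]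
    unfold ChevalleyDatum.group
    rw [Subgroup.closure_le]
    rintro g ⟨r, t, hgm⟩
    have hr : r.val < fd.n := by rw [← C.nroots_eq]; exact r.isLt
    have hgx : g = C.xA r.val t := by
      apply gl_ext
      rw [hgm, C.xA_val]
      unfold ChevalleyDatum.x
      rw [dif_pos r.isLt]
    rw [SetLike.mem_coe, Subgroup.mem_comap, hgx]
    show PG C.agrees hgi * C.xA r.val t * (PG C.agrees hgi)⁻¹ ∈ Subgroup.closure _
    rw [C.PG_conj_x hgi hg r.val hr t]
    exact C.xA_mem_group _ _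
  · unfold ChevalleyDatum.group
    rw [Subgroup.closure_le]
    rintro g ⟨r, t, hgm⟩
    have hr : r.val < fd.n := by rw [← C.nroots_eq]; exact r.isLt
    have hgx : g = C.xA r.val t := by
      apply gl_ext
      rw [hgm, C.xA_val]
      unfold ChevalleyDatum.x
      rw [dif_pos r.isLt]
    obtain ⟨_, hri, hrr, _⟩ := fd.graph_spec hg r.val hr
    rw [SetLike.mem_coe, Subgroup.mem_map]
    refine ⟨C.xA (fd.giRoot ga r.val) (((fd.gEps ga (fd.giRoot ga r.val) : ℤ) : F) * t), C.xA_mem_group _ _, ?_⟩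
    show PG C.agrees hgi * C.xA _ _ * (PG C.agrees hgi)⁻¹ = g
    rw [C.PG_conj_x hgi hg _ hri, hrr, hgx, ← mul_assoc, ← Int.cast_mul, fd.gEps_sq, Int.cast_one, one_mul]

/-- the graph automorphism -/
theorem exists_graph_aut {ga : GA} (hgi : fd.ChkGInv ga) (hg : fd.ChkGraph ga) (hgs : fd.chkGSimple ga = true) :
    ∃ α : ↥(D.group F) ≃* ↥(D.group F), ∀ (g : ↥(D.group F)) (i : ℕ) (t : F), i < D.rank →
      (((g : GL D.Idx F) : Matrix D.Idx D.Idx F) = D.x F (D.simple i) t →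
        ((α g : GL D.Idx F) : Matrix D.Idx D.Idx F) = D.x F (D.simple (ga.rh.getD i 0)) t) ∧
      (((g : GL D.Idx F) : Matrix D.Idx D.Idx F) = D.x F (D.neg (D.simple i)) t →
        ((α g : GL D.Idx F) : Matrix D.Idx D.Idx F) = D.x F (D.neg (D.simple (ga.rh.getD i 0))) t) := by
  let e1 := (MulAut.conj (PG (F := F) C.agrees hgi)).subgroupMap (D.group F)
  let e2 := MulEquiv.subgroupCongr (C.map_conj_PG (F := F) hgi hg)
  refine ⟨e1.trans e2, ?_⟩
  intro g i t hi
  have hi' : i < fd.l := by rw [← C.rank_eq]; exact hi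
  have hp := C.simple_lt i hi'
  have hval : ((e1.trans e2) g : GL D.Idx F) = PG C.agrees hgi * (g : GL D.Idx F) * (PG C.agrees hgi)⁻¹ := rfl
  simp only [FD.chkGSimple, List.all_eq_true, List.mem_range, Bool.and_eq_true, natBeq_iff, intBeq_iff,
    natBlt_iff] at hgs
  obtain ⟨⟨⟨⟨s1, s2⟩, s3⟩, s4⟩, s5⟩ := hgs i hi'
  have hp' := C.simple_lt _ s5
  constructor
  · intro hgv
    have hgx : (g : GL D.Idx F) = C.xA (fd.simples.getD i 0) t := by
      apply gl_ext; rw [hgv, C.xA_val, C.agrees.simple_eq]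
    rw [hval, hgx, C.PG_conj_x hgi hg _ hp, s1, s2, C.xA_val, C.agrees.simple_eq]
    simp
  · intro hgv
    have hgx : (g : GL D.Idx F) = C.xA (fd.n - 1 - fd.simples.getD i 0) t := by
      apply gl_ext; rw [hgv, C.xA_val, C.agrees.simple_eq, C.agrees.neg_eq' _ hp]
    rw [hval, hgx, C.PG_conj_x hgi hg _ (by omega), s3, s4, C.xA_val, C.agrees.simple_eq, C.agrees.neg_eq' _ hp']
    simp

end Cert2

end Cfsg.Agent.Lib.H29.Chev
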