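import Mathlib
import Cfsg.Prelude.Def_ChevStructure
import Cfsg.Agent.Lib.H29.ChevGen34
import Cfsg.Agent.Lib.H29.ChevGen35

/-!
# Gradings by an arbitrary functional, and the coordinates of the lowest level of a unipotent element
-/

set_option autoImplicit false
set_option linter.unusedSectionVars false
set_option linter.unusedSimpArgs false
set_option linter.unusedVariables false

namespace Cfsg.Agent.Lib.H29.Chev

open Cfsg.Lie Matrix

variable {D : ChevalleyDatum} {fd : FD} {fx : FX} {fc : FC} {fz : FZ} {F : Type*} [Field F]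

/-- matrices with `1` on the diagonal whose other nonzero entries raise the weight `wt` by at least `w` -/
def GF (D : ChevalleyDatum) (F : Type*) [Field F] (wt : D.Idx → ℤ) (w : ℤ) : Set (Matrix D.Idx D.Idx F) :=
  {M | (∀ a, M a a = 1) ∧ ∀ a b, a ≠ b → M a b ≠ 0 → wt b + w ≤ wt a}

theorem GF_one (wt : D.Idx → ℤ) (w : ℤ) : (1 : Matrix D.Idx D.Idx F) ∈ GF D F wt w := by
  refine ⟨fun a => Matrix.one_apply_eq a, fun a b hab h => ?_⟩
  exact absurd (Matrix.one_apply_ne hab) h

theorem GF_mul (wt : D.Idx → ℤ) (w : ℤ) (hw : 0 < w) (M N : Matrix D.Idx D.Idx F) (hM : M ∈ GF D F wt w)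
    (hN : N ∈ GF D F wt w) : M * N ∈ GF D F wt w := by
  constructor
  · intro a
    rw [Matrix.mul_apply, Finset.sum_eq_single a]
    · rw [hM.1, hN.1, mul_one]
    · intro c _ hca
      by_contra h
      have h1 : M a c ≠ 0 := left_ne_zero_of_mul h
      have h2 : N c a ≠ 0 := right_ne_zero_of_mul h
      have := hM.2 a c (Ne.symm hca) h1
      have := hN.2 c a hca h2
      omega
    · intro h; exact absurd (Finset.mem_univ a) h
  · intro a b hab h
    rw [Matrix.mul_apply] at h
    obtain ⟨c, _, hc⟩ := Finset.exists_ne_zero_of_sum_ne_zero h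
    have h1 : M a c ≠ 0 := left_ne_zero_of_mul hc
    have h2 : N c b ≠ 0 := right_ne_zero_of_mul hc
    by_cases hac : a = c
    · subst hac
      exact hN.2 a b hab h2
    · have k1 := hM.2 a c hac h1
      by_cases hcb : c = b
      · subst hcb; exact k1
      · have k2 := hN.2 c b hcb h2
        omega

/-- the entries which raise the weight by exactly `w` are additive -/
theorem GF_entry_mul (wt : D.Idx → ℤ) (w : ℤ) (hw : 0 < w) (M N : Matrix D.Idx D.Idx F) (hM : M ∈ GF D F wt w)
    (hN : N ∈ GF D F wt w) (a b : D.Idx) (hab : wt a = wt b + w) : (M * N) a b = M a b + N a b := by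
  have hne : a ≠ b := by
    intro h; subst h; omega
  rw [Matrix.mul_apply, ← Finset.add_sum_erase _ _ (Finset.mem_univ a),
    ← Finset.add_sum_erase _ _ (Finset.mem_erase.mpr ⟨Ne.symm hne, Finset.mem_univ b⟩), hM.1, hN.1, one_mul, mul_one,
    Finset.sum_eq_zero, add_zero, add_comm]
  intro c hc
  rw [Finset.mem_erase, Finset.mem_erase] at hc
  by_contra h
  have h1 : M a c ≠ 0 := left_ne_zero_of_mul h
  have h2 : N c b ≠ 0 := right_ne_zero_of_mul h
  have k1 := hM.2 a c (Ne.symm hc.2.1) h1
  have k2 := hN.2 c b hc.1 h2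
  omega

/-- the weight of a coordinate for the functional with coefficients `a'` -/
def FD.wtA (fd : FD) (fx : FX) (D : ChevalleyDatum) (a' : ℕ → ℤ) (a : D.Idx) : ℤ := fd.om fx a' (code D a)

theorem XR_mem_GF (C : Cert2 D fd fx) (a' : ℕ → ℤ) (r : ℕ) (hr : r < fd.n) (w : ℤ) (hw : 0 < w)
    (h : w ≤ fd.omr fx a' r) (t : F) : XR D F r t ∈ GF D F (fd.wtA fx D a') w := by
  have key : ∀ k : ℕ, (k = 1 ∨ k = 2 ∨ k = 3) → ∀ a b, aR D F r k a b ≠ 0 →
      fd.wtA fx D a' b + w ≤ fd.wtA fx D a' a := by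
    intro k hk a b hab
    have := om_grad C.agrees C.chk.grad r k hr hk a' a b hab
    unfold FD.wtA
    rw [this]
    have h1 : (1 : ℤ) ≤ k := by rcases hk with rfl | rfl | rfl <;> norm_num
    nlinarith
  constructor
  · intro a
    have z : ∀ k : ℕ, (k = 1 ∨ k = 2 ∨ k = 3) → aR D F r k a a = 0 := by
      intro k hk
      by_contra h0
      have := key k hk a a h0
      omega
    rw [XR_apply', z 1 (by simp), z 2 (by simp), z 3 (by simp), Matrix.one_apply_eq]
    simp
  · intro a b hab hne
    by_contra hlt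
    apply hne
    have z : ∀ k : ℕ, (k = 1 ∨ k = 2 ∨ k = 3) → aR D F r k a b = 0 := by
      intro k hk
      by_contra h0
      exact hlt (key k hk a b h0)
    rw [XR_apply', z 1 (by simp), z 2 (by simp), z 3 (by simp), Matrix.one_apply_ne hab]
    simp

namespace Cert2

variable (C : Cert2 D fd fx)
include C

/-- the entry of `x_s(c)` in row `h_i` and column `e_{-r}` vanishes for `s ≠ r` -/
theorem XR_entry_h_ne (s r : ℕ) (hs : s < fd.n) (hr : r < fd.n) (hsr : s ≠ r) (i : Fin D.rank) (c : F) :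
    XR D F s c (Sum.inl i) (Sum.inr ⟨D.nroots - 1 - r, by have := C.nroots_eq; omega⟩) = 0 := by
  have hev := C.heven
  have hn := C.nroots_eq
  have hl := C.rank_eq
  have hi : i.val < fd.l := by rw [← hl]; exact i.isLt
  have hne : (Sum.inl i : D.Idx) ≠ Sum.inr ⟨D.nroots - 1 - r, by omega⟩ := by
    intro h
    cases h
  have e : ∀ k, aR D F s k (Sum.inl i) (Sum.inr ⟨D.nroots - 1 - r, by omega⟩) =
      ((SV.get (fd.colA s k (fd.l + (fd.n - 1 - r))) i.val : ℤ) : F) := by
    intro k
    unfold aR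
    rw [Matrix.map_apply, Ak_apply C.agrees s k hs, code_inl, code_inr]
    simp only [hl, hn, Int.coe_castRingHom]
  have z : ∀ k : ℕ, (k = 1 ∨ k = 2 ∨ k = 3) → SV.get (fd.colA s k (fd.l + (fd.n - 1 - r))) i.val = 0 := by
    intro k hk
    unfold FD.colA
    have h0 : k ≠ 0 := by rcases hk with rfl | rfl | rfl <;> norm_num
    have h1 : ¬ fd.l + (fd.n - 1 - r) < fd.l := by omega
    have h3 : fd.l + (fd.n - 1 - r) - fd.l = fd.n - 1 - r := by omega
    have h4 : ¬ fd.n - 1 - r = fd.n - 1 - s := by omega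
    rw [if_neg h0, if_neg h1, h3]
    by_cases h2 : fd.n - 1 - r = s
    · rw [if_pos h2]; rfl
    · rw [if_neg h2, if_neg h4]
      cases hq : (fd.chainL s (fd.n - 1 - r))[k - 1]? with
      | none => rfl
      | some q =>
        simp only [SV.get_cons, SV.get_nil]
        have : ¬ fd.l + q.1 = i.val := by omega
        simp [this]
  unfold XR
  simp only [Matrix.add_apply, Matrix.smul_apply, Matrix.one_apply_ne hne, e, z 1 (by simp), z 2 (by simp),
    z 3 (by simp)]
  simp

end Cert2

end Cfsg.Agent.Lib.H29.Chev
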