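import Mathlib
import Cfsg.Prelude.Def_ChevStructure
import Cfsg.Agent.Lib.H29.ChevTw1
import Cfsg.Agent.Lib.H29.ChevGen39

/-!
# The height grading and the coordinates of the lowest level
-/

set_option autoImplicit false
set_option linter.unusedSectionVars false
set_option linter.unusedSimpArgs false
set_option linter.unusedVariables false

namespace Cfsg.Agent.Lib.H29.Chev

open Cfsg.Lie Matrix

variable {D : ChevalleyDatum} {fd : FD} {fx : FX} {fc : FC} {fz : FZ} {F : Type*} [Field F]

/-- the coefficients of the height functional -/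
def hwt : ℕ → ℤ := fun _ => 1

/-- the height of a root -/
def FD.ht (fd : FD) (fx : FX) (r : ℕ) : ℤ := fd.omr fx hwt r

/-- the coordinate at the root `r` read off the entries in the rows `h_j` and the column `e_{-r}` -/
def coordM (D : ChevalleyDatum) (fd : FD) (fz : FZ) (F : Type*) [Field F] (r : ℕ) (M : Matrix D.Idx D.Idx F) : F :=
  ∑ j : Fin D.rank, ∑ b : Fin D.nroots,
    if b.val = D.nroots - 1 - r then ((fd.bzZ fz r j.val : ℤ) : F) * M (Sum.inl j) (Sum.inr b) else 0

theorem coordM_eq (r : ℕ) (hr : r < D.nroots) (M : Matrix D.Idx D.Idx F) :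
    coordM D fd fz F r M = ∑ j : Fin D.rank, ((fd.bzZ fz r j.val : ℤ) : F) *
      M (Sum.inl j) (Sum.inr ⟨D.nroots - 1 - r, by omega⟩) := by
  unfold coordM
  apply Finset.sum_congr rfl
  intro j _
  rw [Finset.sum_eq_single ⟨D.nroots - 1 - r, by omega⟩]
  · simp
  · intro b _ hb
    have : ¬ b.val = D.nroots - 1 - r := fun h => hb (Fin.ext h)
    rw [if_neg this]
  · intro h; exact absurd (Finset.mem_univ _) h

theorem coordM_one (r : ℕ) (hr : r < D.nroots) : coordM D fd fz F r (1 : Matrix D.Idx D.Idx F) = 0 := by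
  rw [coordM_eq r hr]
  apply Finset.sum_eq_zero
  intro j _
  rw [Matrix.one_apply_ne (by intro h; cases h), mul_zero]

namespace Cert12

variable (C : Cert12 D fd fx fc fz)
include C

theorem ht_neg (r : ℕ) (hr : r < fd.n) : fd.ht fx (fd.n - 1 - r) = - fd.ht fx r := by
  unfold FD.ht FD.omr
  rw [listsum_eq, listsum_eq, ← Finset.sum_neg_distrib]
  apply Finset.sum_congr rfl
  intro j hj
  rw [Finset.mem_range] at hj
  rw [C.rcZ_neg r j hr hj]
  ring

theorem wtA_inl (a' : ℕ → ℤ) (i : Fin D.rank) : fd.wtA fx D a' (Sum.inl i) = 0 := by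
  unfold FD.wtA
  rw [code_inl]
  exact fd.om_lt a' _ (by rw [← C.c6.c2.rank_eq]; exact i.isLt)

theorem wtA_inr (a' : ℕ → ℤ) (s : Fin D.nroots) : fd.wtA fx D a' (Sum.inr s) = fd.omr fx a' s.val := by
  unfold FD.wtA
  exact C.om_inr a' s

/-- the coordinates of level `m` are additive on the matrices of level at least `m` -/
theorem coordM_mul (m : ℤ) (hm : 0 < m) (r : ℕ) (hr : r < fd.n) (hrm : fd.ht fx r = m) (M N : Matrix D.Idx D.Idx F)
    (hM : M ∈ GF D F (fd.wtA fx D hwt) m) (hN : N ∈ GF D F (fd.wtA fx D hwt) m) :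
    coordM D fd fz F r (M * N) = coordM D fd fz F r M + coordM D fd fz F r N := by
  have hn := C.c6.c2.nroots_eq
  have hr' : r < D.nroots := by omega
  rw [coordM_eq r hr', coordM_eq r hr', coordM_eq r hr', ← Finset.sum_add_distrib]
  apply Finset.sum_congr rfl
  intro j _
  rw [GF_entry_mul _ m hm M N hM hN, mul_add]
  rw [C.wtA_inl, C.wtA_inr]
  simp only
  rw [hn]
  have := C.ht_neg r hr
  unfold FD.ht at this hrm
  rw [this, hrm]
  ring

/-- the coordinates of a root element -/
theorem coordM_XR (s r : ℕ) (hs : s < fd.n) (hr : r < fd.n) (t : F) :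
    coordM D fd fz F r (XR D F s t) = if s = r then t else 0 := by
  have hn := C.c6.c2.nroots_eq
  have hl := C.c6.c2.rank_eq
  have hr' : r < D.nroots := by omega
  rw [coordM_eq r hr']
  by_cases hsr : s = r
  · subst hsr
    rw [if_pos rfl]
    have e : ∀ j : Fin D.rank, ((fd.bzZ fz s j.val : ℤ) : F) *
        XR D F s t (Sum.inl j) (Sum.inr ⟨D.nroots - 1 - s, by omega⟩) =
        ((fd.bzZ fz s j.val * fd.corZ s j.val : ℤ) : F) * t := by
      intro j
      rw [C.c6.c2.XR_entry_h ⟨s, hr'⟩ j t]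
      push_cast
      ring
    rw [Finset.sum_congr rfl (fun j _ => e j), ← Finset.sum_mul, ← Int.cast_sum]
    have hb := (fd.f_spec C.f s hs).1
    rw [listsum_eq] at hb
    have : ∑ j : Fin D.rank, fd.bzZ fz s j.val * fd.corZ s j.val = 1 := by
      rw [← hb, hl]
      exact Fin.sum_univ_eq_sum_range (fun j => fd.bzZ fz s j * fd.corZ s j) fd.l
    rw [this, Int.cast_one, one_mul]
  · rw [if_neg hsr]
    apply Finset.sum_eq_zero
    intro j _
    rw [C.c6.c2.XR_entry_h_ne s r hs hr hsr j t, mul_zero]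

end Cert12

end Cfsg.Agent.Lib.H29.Chev
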