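import Mathlib
import Cfsg.Prelude.Def_ChevStructure
import Cfsg.Agent.Lib.H29.ChevTw2
import Cfsg.Agent.Lib.H29.ChevGen15
import Cfsg.Agent.Lib.H29.ChevGen49

/-!
# The twisting endomorphism `σ`: a graph automorphism followed by a field endomorphism
-/

set_option autoImplicit false
set_option linter.unusedSectionVars false
set_option linter.unusedSimpArgs false
set_option linter.unusedVariables false

namespace Cfsg.Agent.Lib.H29.Chev

open Cfsg.Lie Matrix

variable {D : ChevalleyDatum} {fd : FD} {fx : FX} {fc : FC} {fz : FZ} {F : Type*} [Field F]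

/-- the iterates of the permutation of the roots -/
def FD.gIt (fd : FD) (ga : GA) (j r : ℕ) : ℕ := (fd.gRoot ga)^[j] r

/-- the product of the signs along the orbit -/
def FD.eProd (fd : FD) (ga : GA) (r : ℕ) : ℕ → ℤ
  | 0 => 1
  | j + 1 => FD.eProd fd ga r j * fd.gEps ga (fd.gIt ga j r)

theorem FD.gIt_zero (ga : GA) (r : ℕ) : fd.gIt ga 0 r = r := rfl

theorem FD.gIt_succ (ga : GA) (j r : ℕ) : fd.gIt ga (j + 1) r = fd.gRoot ga (fd.gIt ga j r) := by
  unfold FD.gIt
  rw [Function.iterate_succ_apply']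

theorem FD.gIt_succ' (ga : GA) (j r : ℕ) : fd.gIt ga (j + 1) r = fd.gIt ga j (fd.gRoot ga r) := by
  unfold FD.gIt
  rw [Function.iterate_succ_apply]

theorem FD.eProd_sq (ga : GA) (r j : ℕ) : fd.eProd ga r j * fd.eProd ga r j = 1 := by
  induction j with
  | zero => rfl
  | succ j ih =>
    rw [FD.eProd, mul_mul_mul_comm, ih, fd.gEps_sq, one_mul]

/-- the facts about the graph automorphism used for the twisted groups -/
structure TwSpec (fd : FD) (fx : FX) (ga : GA) (k : ℕ) : Prop where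
  ginv : fd.ChkGInv ga
  graph : fd.ChkGraph ga
  inv : ∀ r < fd.n, fd.giRoot ga (fd.gRoot ga r) = r
  neg : ∀ r < fd.n, fd.gRoot ga (fd.n - 1 - r) = fd.n - 1 - fd.gRoot ga r ∧
    fd.gEps ga (fd.n - 1 - r) = fd.gEps ga r
  pos : ∀ r < fd.n, fd.n / 2 ≤ r → fd.n / 2 ≤ fd.gRoot ga r
  ht : ∀ r < fd.n, fd.ht fx (fd.gRoot ga r) = fd.ht fx r
  htpos : ∀ r < fd.n, fd.n / 2 ≤ r → 0 < fd.ht fx r
  ord : ∀ r < fd.n, fd.gIt ga k r = r ∧ fd.eProd ga r k = 1
  fix : ∀ r < fd.n, fd.gRoot ga r = r → fd.gEps ga r = 1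
  comm : ∀ r < fd.n, fd.gRoot ga r ≠ r → ∀ i < k, ∀ j < k, i ≠ j →
    fd.commT (fd.gIt ga i r) (fd.gIt ga j r) = [] ∧ fd.gIt ga i r ≠ fd.gIt ga j r ∧
    fd.gIt ga i r ≠ fd.n - 1 - fd.gIt ga j r

namespace TwSpec

variable {ga : GA} {k : ℕ} (T : TwSpec fd fx ga k)
include T

theorem gRoot_lt (r : ℕ) (hr : r < fd.n) : fd.gRoot ga r < fd.n := (fd.graph_spec T.graph r hr).1

theorem gIt_lt (j r : ℕ) (hr : r < fd.n) : fd.gIt ga j r < fd.n := by
  induction j with
  | zero => exact hr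
  | succ j ih => rw [fd.gIt_succ]; exact T.gRoot_lt _ ih

theorem gRoot_inj (r s : ℕ) (hr : r < fd.n) (hs : s < fd.n) (h : fd.gRoot ga r = fd.gRoot ga s) : r = s := by
  rw [← T.inv r hr, ← T.inv s hs, h]

theorem gIt_pos (j r : ℕ) (hr : r < fd.n) (hpos : fd.n / 2 ≤ r) : fd.n / 2 ≤ fd.gIt ga j r := by
  induction j with
  | zero => exact hpos
  | succ j ih => rw [fd.gIt_succ]; exact T.pos _ (T.gIt_lt j r hr) ih

theorem gIt_ht (j r : ℕ) (hr : r < fd.n) : fd.ht fx (fd.gIt ga j r) = fd.ht fx r := by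
  induction j with
  | zero => rfl
  | succ j ih => rw [fd.gIt_succ, T.ht _ (T.gIt_lt j r hr), ih]

end TwSpec

theorem XR_apply_ring {R : Type*} [CommRing R] (r : ℕ) (t : R) (a b : D.Idx) :
    XR D R r t a b = (1 : Matrix D.Idx D.Idx R) a b + t * aR D R r 1 a b + t ^ 2 * aR D R r 2 a b +
      t ^ 3 * aR D R r 3 a b := by
  simp [XR, Matrix.add_apply, Matrix.smul_apply]

/-- `x_r(t)` is compatible with ring homomorphisms -/
theorem XR_map_hom {R S : Type*} [CommRing R] [CommRing S] (φ : R →+* S) (r : ℕ) (t : R) :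
    (XR D R r t).map φ = XR D S r (φ t) := by
  ext a b
  have e : ∀ k, φ (aR D R r k a b) = aR D S r k a b := by
    intro k
    unfold aR
    rw [Matrix.map_apply, Matrix.map_apply]
    simp
  have e1 : φ ((1 : Matrix D.Idx D.Idx R) a b) = (1 : Matrix D.Idx D.Idx S) a b := by
    by_cases hab : a = b
    · subst hab; simp
    · simp [Matrix.one_apply_ne hab]
  rw [Matrix.map_apply, XR_apply_ring, XR_apply_ring, map_add, map_add, map_add, map_mul, map_mul, map_mul, map_pow,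
    map_pow, e, e, e, e1]

namespace Cert2

variable (C : Cert2 D fd fx)

/-- the endomorphism `σ` -/
noncomputable def sigma {ga : GA} (hgi : fd.ChkGInv ga) (φ : F →+* F) : GL D.Idx F →* GL D.Idx F :=
  (MulAut.conj (PG (F := F) C.agrees hgi)).toMonoidHom.comp (Matrix.GeneralLinearGroup.map φ)

theorem sigma_apply {ga : GA} (hgi : fd.ChkGInv ga) (φ : F →+* F) (g : GL D.Idx F) :
    C.sigma hgi φ g = PG C.agrees hgi * Matrix.GeneralLinearGroup.map φ g * (PG C.agrees hgi)⁻¹ := rfl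

theorem map_xA (φ : F →+* F) (r : ℕ) (t : F) :
    Matrix.GeneralLinearGroup.map φ (C.xA r t) = C.xA r (φ t) := by
  by_cases hr : r < fd.n
  · apply gl_ext
    have e : ((Matrix.GeneralLinearGroup.map φ (C.xA r t) : GL D.Idx F) : Matrix D.Idx D.Idx F) =
        ((C.xA r t : GL D.Idx F) : Matrix D.Idx D.Idx F).map φ := rfl
    rw [e, C.xA_val, C.xA_val, x_eq_XR C.agrees r hr, x_eq_XR C.agrees r hr, XR_map_hom]
  · unfold xA
    rw [dif_neg hr, dif_neg hr, map_one]

/-- `σ` on the root elements -/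
theorem sigma_xA {ga : GA} (hgi : fd.ChkGInv ga) (hg : fd.ChkGraph ga) (φ : F →+* F) (r : ℕ) (hr : r < fd.n)
    (t : F) : C.sigma hgi φ (C.xA r t) = C.xA (fd.gRoot ga r) (((fd.gEps ga r : ℤ) : F) * φ t) := by
  rw [C.sigma_apply, C.map_xA, C.PG_conj_x hgi hg r hr]

end Cert2

end Cfsg.Agent.Lib.H29.Chev
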