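import Mathlib
import Cfsg.Prelude.Def_ChevStructure
import Cfsg.Agent.Lib.H29.ChevTw3

/-!
# Coordinates of ordered products and of their images under `σ`
-/

set_option autoImplicit false
set_option linter.unusedSectionVars false
set_option linter.unusedSimpArgs false
set_option linter.unusedVariables false

namespace Cfsg.Agent.Lib.H29.Chev

open Cfsg.Lie Matrix

variable {D : ChevalleyDatum} {fd : FD} {fx : FX} {fc : FC} {fz : FZ} {F : Type*} [Field F]

theorem sum_range'_ite {M : Type*} [AddCommMonoid M] (b : ℕ) : ∀ (a r : ℕ) (f : ℕ → M),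
    ((List.range' a b).map fun s => if s = r then f s else 0).sum = if a ≤ r ∧ r < a + b then f r else 0 := by
  induction b with
  | zero =>
    intro a r f
    have : ¬ (a ≤ r ∧ r < a + 0) := by omega
    simp [this]
  | succ b ih =>
    intro a r f
    rw [List.range'_succ, List.map_cons, List.sum_cons, ih]
    by_cases har : a = r
    · subst har
      have h1 : ¬ (a + 1 ≤ a ∧ a < a + 1 + b) := by omega
      have h2 : a ≤ a ∧ a < a + (b + 1) := by omega
      rw [if_pos rfl, if_neg h1, if_pos h2, add_zero]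
    · rw [if_neg har, zero_add]
      by_cases h : a + 1 ≤ r ∧ r < a + 1 + b
      · have h2 : a ≤ r ∧ r < a + (b + 1) := by omega
        rw [if_pos h, if_pos h2]
      · have h2 : ¬ (a ≤ r ∧ r < a + (b + 1)) := by omega
        rw [if_neg h, if_neg h2]

namespace Cert12

variable (C : Cert12 D fd fx fc fz)
include C

theorem xA_mem_GF (s : ℕ) (hs : s < fd.n) (m : ℤ) (hm : 0 < m) (h : m ≤ fd.ht fx s) (t : F) :
    ((C.c6.c2.xA s t : GL D.Idx F) : Matrix D.Idx D.Idx F) ∈ GF D F (fd.wtA fx D hwt) m := by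
  rw [C.c6.c2.xA_val, x_eq_XR C.c6.c2.agrees s hs]
  exact XR_mem_GF C.c6.c2 hwt s hs m hm h t

theorem coordM_xA (s r : ℕ) (hs : s < fd.n) (hr : r < fd.n) (t : F) :
    coordM D fd fz F r ((C.c6.c2.xA s t : GL D.Idx F) : Matrix D.Idx D.Idx F) = if s = r then t else 0 := by
  rw [C.c6.c2.xA_val, x_eq_XR C.c6.c2.agrees s hs]
  exact C.coordM_XR s r hs hr t

/-- the coordinates of level `m` of a product -/
theorem coord_list_prod (m : ℤ) (hm : 0 < m) (r : ℕ) (hr : r < fd.n) (hrm : fd.ht fx r = m)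
    (L : List (GL D.Idx F))
    (hL : ∀ x ∈ L, ((x : GL D.Idx F) : Matrix D.Idx D.Idx F) ∈ GF D F (fd.wtA fx D hwt) m) :
    ((L.prod : GL D.Idx F) : Matrix D.Idx D.Idx F) ∈ GF D F (fd.wtA fx D hwt) m ∧
    coordM D fd fz F r ((L.prod : GL D.Idx F) : Matrix D.Idx D.Idx F) =
      (L.map fun x => coordM D fd fz F r ((x : GL D.Idx F) : Matrix D.Idx D.Idx F)).sum := by
  have hr' : r < D.nroots := by rw [C.c6.c2.nroots_eq]; exact hr
  induction L with
  | nil =>
    simp only [List.prod_nil, Units.val_one, List.map_nil, List.sum_nil]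
    exact ⟨GF_one _ _, coordM_one r hr'⟩
  | cons x L ih =>
    obtain ⟨h1, h2⟩ := ih (fun y hy => hL y (List.mem_cons_of_mem _ hy))
    have hx := hL x List.mem_cons_self
    rw [List.prod_cons, Units.val_mul, List.map_cons, List.sum_cons]
    exact ⟨GF_mul _ m hm _ _ hx h1, by rw [C.coordM_mul m hm r hr hrm _ _ hx h1, h2]⟩

/-- the factors of an ordered product whose nonzero parameters sit at roots of height at least `m` -/
theorem oprod_factor_GF (m : ℤ) (hm : 0 < m) (τ : ℕ → F) (ρ : ℕ → ℕ) (a b : ℕ) (hab : a + b ≤ fd.n)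
    (hρ : ∀ s < fd.n, ρ s < fd.n)
    (hτ : ∀ s, a ≤ s → s < fd.n → τ s ≠ 0 → m ≤ fd.ht fx (ρ s)) :
    ∀ x ∈ (List.range' a b).map (fun s => C.c6.c2.xA (ρ s) (τ s)),
      ((x : GL D.Idx F) : Matrix D.Idx D.Idx F) ∈ GF D F (fd.wtA fx D hwt) m := by
  intro x hx
  obtain ⟨s, hs, rfl⟩ := List.mem_map.mp hx
  rw [List.mem_range'_1] at hs
  by_cases h0 : τ s = 0
  · rw [h0, C.c6.c2.xA_zero, Units.val_one]
    exact GF_one _ _
  · exact C.xA_mem_GF _ (hρ s (by omega)) m hm (hτ s hs.1 (by omega) h0) _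

/-- the coordinates of level `m` of an ordered product -/
theorem coord_oprod (m : ℤ) (hm : 0 < m) (τ : ℕ → F)
    (hτ : ∀ s, fd.n / 2 ≤ s → s < fd.n → τ s ≠ 0 → m ≤ fd.ht fx s)
    (r : ℕ) (hr : r < fd.n) (hpos : fd.n / 2 ≤ r) (hrm : fd.ht fx r = m) :
    coordM D fd fz F r ((C.oprod τ (fd.n / 2) (fd.n - fd.n / 2) : GL D.Idx F) : Matrix D.Idx D.Idx F) = τ r := by
  have hL := C.oprod_factor_GF m hm τ id (fd.n / 2) (fd.n - fd.n / 2) (by omega) (fun s hs => hs) hτ
  unfold oprod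
  simp only [id] at hL
  rw [(C.coord_list_prod m hm r hr hrm _ hL).2, List.map_map]
  have e : ∀ s ∈ List.range' (fd.n / 2) (fd.n - fd.n / 2),
      ((fun x : GL D.Idx F => coordM D fd fz F r (x : Matrix D.Idx D.Idx F)) ∘
        fun s => C.c6.c2.xA s (τ s)) s = if s = r then τ s else 0 := by
    intro s hs
    rw [List.mem_range'_1] at hs
    simp only [Function.comp]
    exact C.coordM_xA s r (by omega) hr _
  rw [List.map_congr_left e, sum_range'_ite]
  have : fd.n / 2 ≤ r ∧ r < fd.n / 2 + (fd.n - fd.n / 2) := by omega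
  rw [if_pos this]

variable {ga : GA} {k : ℕ} (T : TwSpec fd fx ga k) (φ : F →+* F)

/-- `σ` of an ordered product -/
theorem sigma_oprod (τ : ℕ → F) (a b : ℕ) (hab : a + b ≤ fd.n) :
    C.c6.c2.sigma T.ginv φ (C.oprod τ a b) =
      ((List.range' a b).map fun s =>
        C.c6.c2.xA (fd.gRoot ga s) (((fd.gEps ga s : ℤ) : F) * φ (τ s))).prod := by
  unfold oprod
  rw [map_list_prod, List.map_map]
  congr 1
  apply List.map_congr_left
  intro s hs
  rw [List.mem_range'_1] at hs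
  simp only [Function.comp]
  exact C.c6.c2.sigma_xA T.ginv T.graph φ s (by omega) _

/-- the coordinates of level `m` of `σ` of an ordered product -/
theorem coord_sigma_oprod (m : ℤ) (hm : 0 < m) (τ : ℕ → F)
    (hτ : ∀ s, fd.n / 2 ≤ s → s < fd.n → τ s ≠ 0 → m ≤ fd.ht fx s)
    (r : ℕ) (hr : r < fd.n) (hpos : fd.n / 2 ≤ r) (hrm : fd.ht fx r = m) :
    coordM D fd fz F (fd.gRoot ga r)
      ((C.c6.c2.sigma T.ginv φ (C.oprod τ (fd.n / 2) (fd.n - fd.n / 2)) : GL D.Idx F) : Matrix D.Idx D.Idx F) =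
      ((fd.gEps ga r : ℤ) : F) * φ (τ r) := by
  rw [C.sigma_oprod T φ τ _ _ (by omega)]
  have hτ' : ∀ s, fd.n / 2 ≤ s → s < fd.n → ((fd.gEps ga s : ℤ) : F) * φ (τ s) ≠ 0 →
      m ≤ fd.ht fx (fd.gRoot ga s) := by
    intro s h1 h2 h3
    rw [T.ht s h2]
    apply hτ s h1 h2
    intro h0
    rw [h0, map_zero, mul_zero] at h3
    exact h3 rfl
  have hL := C.oprod_factor_GF m hm (fun s => ((fd.gEps ga s : ℤ) : F) * φ (τ s)) (fd.gRoot ga) (fd.n / 2)
    (fd.n - fd.n / 2) (by omega) T.gRoot_lt hτ'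
  have hr2 := T.gRoot_lt r hr
  rw [(C.coord_list_prod m hm _ hr2 (by rw [T.ht r hr, hrm]) _ hL).2, List.map_map]
  have e : ∀ s ∈ List.range' (fd.n / 2) (fd.n - fd.n / 2),
      ((fun x : GL D.Idx F => coordM D fd fz F (fd.gRoot ga r) (x : Matrix D.Idx D.Idx F)) ∘
        fun s => C.c6.c2.xA (fd.gRoot ga s) (((fd.gEps ga s : ℤ) : F) * φ (τ s))) s =
        if s = r then ((fd.gEps ga s : ℤ) : F) * φ (τ s) else 0 := by
    intro s hs
    rw [List.mem_range'_1] at hs
    simp only [Function.comp]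
    rw [C.coordM_xA _ _ (T.gRoot_lt s (by omega)) hr2]
    by_cases hsr : s = r
    · subst hsr; rw [if_pos rfl, if_pos rfl]
    · have : ¬ fd.gRoot ga s = fd.gRoot ga r := fun h => hsr (T.gRoot_inj s r (by omega) hr h)
      rw [if_neg hsr, if_neg this]
  rw [List.map_congr_left e, sum_range'_ite]
  have : fd.n / 2 ≤ r ∧ r < fd.n / 2 + (fd.n - fd.n / 2) := by omega
  rw [if_pos this]

/-- the coordinates of the lowest level of a `σ`-fixed element are permuted by `σ` -/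
theorem fixed_coord (Ψ : ℕ → Prop) (hΨ : fd.Closed Ψ) (m : ℤ) (hm : 0 < m)
    (hΨm : ∀ s, fd.n / 2 ≤ s → s < fd.n → Ψ s → m ≤ fd.ht fx s) (g : GL D.Idx F)
    (hg : g ∈ Vm D F Ψ (fd.n / 2)) (hfix : C.c6.c2.sigma T.ginv φ g = g)
    (r : ℕ) (hr : r < fd.n) (hpos : fd.n / 2 ≤ r) (hrm : fd.ht fx r = m) :
    coordM D fd fz F (fd.gRoot ga r) (g : Matrix D.Idx D.Idx F) =
      ((fd.gEps ga r : ℤ) : F) * φ (coordM D fd fz F r (g : Matrix D.Idx D.Idx F)) := by
  obtain ⟨τ, hτ, rfl⟩ := C.Vm_oprod Ψ hΨ (fd.n - fd.n / 2) (fd.n / 2) (by omega) (le_refl _) g hg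
  have hτ' : ∀ s, fd.n / 2 ≤ s → s < fd.n → τ s ≠ 0 → m ≤ fd.ht fx s := by
    intro s h1 h2 h3
    apply hΨm s h1 h2
    by_contra hn
    exact h3 (hτ s (fun h => hn h.1))
  rw [C.coord_oprod m hm τ hτ' r hr hpos hrm]
  conv_lhs => rw [← hfix]
  exact C.coord_sigma_oprod T φ m hm τ hτ' r hr hpos hrm

end Cert12

end Cfsg.Agent.Lib.H29.Chev
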