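import Mathlib
import Cfsg.Prelude.Def_ChevStructure
import Cfsg.Agent.Lib.H29.ChevTw4

/-!
# The `σ`-fixed elements attached to an orbit of roots
-/

set_option autoImplicit false
set_option linter.unusedSectionVars false
set_option linter.unusedSimpArgs false
set_option linter.unusedVariables false

namespace Cfsg.Agent.Lib.H29.Chev

open Cfsg.Lie Matrix

variable {D : ChevalleyDatum} {fd : FD} {fx : FX} {fc : FC} {fz : FZ} {F : Type*} [Field F]

/-- the size of the orbit of the root `r` -/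
def FD.os (fd : FD) (ga : GA) (k r : ℕ) : ℕ := if fd.gRoot ga r = r then 1 else k

/-- the admissible parameters at the root `r` -/
def Kr (fd : FD) (ga : GA) (φ : F →+* F) (r : ℕ) : Set F := {t | fd.gRoot ga r = r → φ t = t}

namespace Cert12

variable (C : Cert12 D fd fx fc fz)

/-- the `j`-th image of `x_r(t)` under `σ` -/
noncomputable def aj (ga : GA) (φ : F →+* F) (r : ℕ) (t : F) (j : ℕ) : GL D.Idx F :=
  C.c6.c2.xA (fd.gIt ga j r) (((fd.eProd ga r j : ℤ) : F) * φ^[j] t)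

/-- the `σ`-fixed element with parameter `t` at `r` -/
noncomputable def xS (ga : GA) (k : ℕ) (φ : F →+* F) (r : ℕ) (t : F) : GL D.Idx F :=
  ((List.range (fd.os ga k r)).map fun j => C.aj ga φ r t j).prod

variable {ga : GA} {k : ℕ} (T : TwSpec fd fx ga k) (φ : F →+* F)
include C T

theorem sigma_aj (r : ℕ) (hr : r < fd.n) (t : F) (j : ℕ) :
    C.c6.c2.sigma T.ginv φ (C.aj ga φ r t j) = C.aj ga φ r t (j + 1) := by
  unfold aj
  rw [C.c6.c2.sigma_xA T.ginv T.graph φ _ (T.gIt_lt j r hr), fd.gIt_succ, map_mul, map_intCast,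
    Function.iterate_succ_apply', FD.eProd]
  push_cast
  congr 1
  ring

theorem aj_zero (r : ℕ) (t : F) : C.aj ga φ r t 0 = C.c6.c2.xA r t := by
  unfold aj
  rw [fd.gIt_zero, FD.eProd, Int.cast_one, one_mul, Function.iterate_zero, id]

theorem aj_k (hφk : ∀ x : F, φ^[k] x = x) (r : ℕ) (hr : r < fd.n) (t : F) : C.aj ga φ r t k = C.aj ga φ r t 0 := by
  rw [C.aj_zero T]
  unfold aj
  rw [(T.ord r hr).1, (T.ord r hr).2, Int.cast_one, one_mul, hφk]

theorem aj_one_of_fixed (r : ℕ) (hr : r < fd.n) (hfix : fd.gRoot ga r = r) (t : F) (ht : φ t = t) :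
    C.aj ga φ r t 1 = C.aj ga φ r t 0 := by
  rw [C.aj_zero T]
  unfold aj
  rw [fd.gIt_succ, fd.gIt_zero, hfix, FD.eProd, FD.eProd, fd.gIt_zero, T.fix r hr hfix, one_mul, Int.cast_one,
    one_mul, Function.iterate_one, ht]

theorem aj_comm (r : ℕ) (hr : r < fd.n) (hfix : fd.gRoot ga r ≠ r) (t : F) (i j : ℕ) (hi : i < k) (hj : j < k)
    (hij : i ≠ j) : C.aj ga φ r t i * C.aj ga φ r t j = C.aj ga φ r t j * C.aj ga φ r t i := by
  obtain ⟨h1, h2, h3⟩ := T.comm r hr hfix j hj i hi (Ne.symm hij)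
  have := C.c6.cfg (F := F) (fd.gIt ga j r) (fd.gIt ga i r) (T.gIt_lt j r hr) (T.gIt_lt i r hr)
    (fun h => h2 h.symm) (by
      intro h
      have hlt := T.gIt_lt j r hr
      apply h3
      omega)
  unfold aj
  rw [this, h1]
  simp [Cert2.ctG]

theorem sigma_xS (hk : k = 2 ∨ k = 3) (hφk : ∀ x : F, φ^[k] x = x) (r : ℕ) (hr : r < fd.n) (t : F)
    (ht : t ∈ Kr fd ga φ r) : C.c6.c2.sigma T.ginv φ (C.xS ga k φ r t) = C.xS ga k φ r t := by
  unfold xS FD.os
  by_cases hfix : fd.gRoot ga r = r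
  · rw [if_pos hfix]
    simp only [List.range_one, List.map_cons, List.map_nil, List.prod_cons, List.prod_nil, mul_one]
    rw [C.sigma_aj T φ r hr, C.aj_one_of_fixed T φ r hr hfix t (ht hfix)]
  · rw [if_neg hfix]
    rcases hk with rfl | rfl
    · simp only [List.range_succ, List.range_zero, List.nil_append, List.cons_append, List.map_cons, List.map_nil,
        List.prod_cons, List.prod_nil, mul_one, map_mul]
      rw [C.sigma_aj T φ r hr, C.sigma_aj T φ r hr, C.aj_k T φ hφk r hr,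
        C.aj_comm T φ r hr hfix t 1 0 (by norm_num) (by norm_num) (by norm_num)]
    · simp only [List.range_succ, List.range_zero, List.nil_append, List.cons_append, List.map_cons, List.map_nil,
        List.prod_cons, List.prod_nil, mul_one, map_mul]
      rw [C.sigma_aj T φ r hr, C.sigma_aj T φ r hr, C.sigma_aj T φ r hr, C.aj_k T φ hφk r hr,
        C.aj_comm T φ r hr hfix t 2 0 (by norm_num) (by norm_num) (by norm_num), ← mul_assoc,
        C.aj_comm T φ r hr hfix t 1 0 (by norm_num) (by norm_num) (by norm_num), mul_assoc]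

theorem os_le (hk : 1 ≤ k) (r : ℕ) : fd.os ga k r ≤ k := by
  unfold FD.os
  split_ifs <;> omega

theorem os_pos (hk : 1 ≤ k) (r : ℕ) : 0 < fd.os ga k r := by
  unfold FD.os
  split_ifs <;> omega

theorem xS_mem_Vm (Ψ : ℕ → Prop) (r : ℕ) (hr : r < fd.n) (hpos : fd.n / 2 ≤ r)
    (hΨ : ∀ j < fd.os ga k r, Ψ (fd.gIt ga j r)) (t : F) : C.xS ga k φ r t ∈ Vm D F Ψ (fd.n / 2) := by
  unfold xS
  apply Subgroup.list_prod_mem
  intro x hx
  obtain ⟨j, hj, rfl⟩ := List.mem_map.mp hx
  rw [List.mem_range] at hj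
  exact C.xA_mem_Vm Ψ _ _ (T.gIt_lt j r hr) (T.gIt_pos j r hr hpos) (hΨ j hj) (T.gIt_pos j r hr hpos) _

/-- the coordinate of `x_S(t)` at `r` -/
theorem coord_xS (hk : 1 ≤ k) (r : ℕ) (hr : r < fd.n) (hpos : fd.n / 2 ≤ r) (hm : 0 < fd.ht fx r) (t : F) :
    ((C.xS ga k φ r t : GL D.Idx F) : Matrix D.Idx D.Idx F) ∈ GF D F (fd.wtA fx D hwt) (fd.ht fx r) ∧
    coordM D fd fz F r ((C.xS ga k φ r t : GL D.Idx F) : Matrix D.Idx D.Idx F) = t := by
  have hL : ∀ x ∈ (List.range (fd.os ga k r)).map (fun j => C.aj ga φ r t j),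
      ((x : GL D.Idx F) : Matrix D.Idx D.Idx F) ∈ GF D F (fd.wtA fx D hwt) (fd.ht fx r) := by
    intro x hx
    obtain ⟨j, hj, rfl⟩ := List.mem_map.mp hx
    exact C.xA_mem_GF _ (T.gIt_lt j r hr) _ hm (by rw [T.gIt_ht j r hr]) _
  obtain ⟨h1, h2⟩ := C.coord_list_prod (fd.ht fx r) hm r hr rfl _ hL
  refine ⟨h1, ?_⟩
  unfold xS
  rw [h2, List.map_map]
  have e : ∀ j ∈ List.range (fd.os ga k r),
      ((fun x : GL D.Idx F => coordM D fd fz F r (x : Matrix D.Idx D.Idx F)) ∘ fun j => C.aj ga φ r t j) j =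
        if j = 0 then t else 0 := by
    intro j hj
    rw [List.mem_range] at hj
    simp only [Function.comp]
    unfold aj
    rw [C.coordM_xA _ r (T.gIt_lt j r hr) hr]
    by_cases hj0 : j = 0
    · subst hj0
      rw [if_pos rfl, if_pos (fd.gIt_zero ga r), FD.eProd, Int.cast_one, one_mul, Function.iterate_zero, id]
    · rw [if_neg hj0, if_neg]
      intro h
      by_cases hfix : fd.gRoot ga r = r
      · unfold FD.os at hj
        rw [if_pos hfix] at hj
        omega
      · unfold FD.os at hj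
        rw [if_neg hfix] at hj
        have hk0 : 0 < k := by omega
        exact (T.comm r hr hfix j hj 0 hk0 hj0).2.1 h
  rw [List.map_congr_left e, List.range_eq_range', sum_range'_ite]
  have := C.os_pos T hk r
  have h3 : 0 ≤ 0 ∧ 0 < 0 + fd.os ga k r := by omega
  rw [if_pos h3]

end Cert12

end Cfsg.Agent.Lib.H29.Chev
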