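import Mathlib
import Cfsg.Prelude.Def_ChevStructure
import Cfsg.Agent.Lib.H29.ChevTw5

/-!
# The `σ`-fixed elements of a unipotent subgroup: peeling off one orbit of roots
-/

set_option autoImplicit false
set_option linter.unusedSectionVars false
set_option linter.unusedSimpArgs false
set_option linter.unusedVariables false

namespace Cfsg.Agent.Lib.H29.Chev

open Cfsg.Lie Matrix

variable {D : ChevalleyDatum} {fd : FD} {fx : FX} {fc : FC} {fz : FZ} {F : Type*} [Field F]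

/-- the fixed points of an endomorphism of a group -/
def fixS {G : Type*} [Group G] (σ : G →* G) : Subgroup G where
  carrier := {g | σ g = g}
  mul_mem' := by
    intro a b ha hb
    show σ (a * b) = a * b
    rw [map_mul, ha, hb]
  one_mem' := map_one σ
  inv_mem' := by
    intro a ha
    show σ a⁻¹ = a⁻¹
    rw [map_inv, ha]

theorem mem_fixS {G : Type*} [Group G] (σ : G →* G) (g : G) : g ∈ fixS σ ↔ σ g = g := Iff.rfl

/-- the roots in the orbits of the roots of the list -/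
def PsiL (fd : FD) (ga : GA) (k : ℕ) (L : List ℕ) (s : ℕ) : Prop := ∃ r ∈ L, ∃ j < k, s = fd.gIt ga j r

/-- admissible lists of representatives of orbits -/
structure Adm (fd : FD) (fx : FX) (ga : GA) (k : ℕ) (L : List ℕ) : Prop where
  pos : ∀ r ∈ L, fd.n / 2 ≤ r ∧ r < fd.n
  sorted : L.Pairwise (fun a b => fd.ht fx a ≤ fd.ht fx b)
  disj : L.Pairwise (fun a b => ∀ j < k, a ≠ fd.gIt ga j b)
  closed : fd.Closed (PsiL fd ga k L)

theorem list_prod_mem_GF (wt : D.Idx → ℤ) (m : ℤ) (hm : 0 < m) (L : List (GL D.Idx F))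
    (hL : ∀ x ∈ L, ((x : GL D.Idx F) : Matrix D.Idx D.Idx F) ∈ GF D F wt m) :
    ((L.prod : GL D.Idx F) : Matrix D.Idx D.Idx F) ∈ GF D F wt m := by
  induction L with
  | nil => simp only [List.prod_nil, Units.val_one]; exact GF_one _ _
  | cons x L ih =>
    rw [List.prod_cons, Units.val_mul]
    exact GF_mul _ m hm _ _ (hL x List.mem_cons_self) (ih (fun y hy => hL y (List.mem_cons_of_mem _ hy)))

namespace Cert12

variable (C : Cert12 D fd fx fc fz) {ga : GA} {k : ℕ} (T : TwSpec fd fx ga k) (φ : F →+* F)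
include C T

/-- the elements of a subgroup `V_Ψ` whose roots have height at least `m` are of level `m` -/
theorem Vm_mem_GF (Ψ : ℕ → Prop) (hΨ : fd.Closed Ψ) (m : ℤ) (hm : 0 < m)
    (hΨm : ∀ s, fd.n / 2 ≤ s → s < fd.n → Ψ s → m ≤ fd.ht fx s) (g : GL D.Idx F)
    (hg : g ∈ Vm D F Ψ (fd.n / 2)) :
    ((g : GL D.Idx F) : Matrix D.Idx D.Idx F) ∈ GF D F (fd.wtA fx D hwt) m ∧
    ∃ τ : ℕ → F, (∀ s, τ s ≠ 0 → Ψ s ∧ fd.n / 2 ≤ s ∧ s < fd.n) ∧
      g = C.oprod τ (fd.n / 2) (fd.n - fd.n / 2) ∧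
      ∀ r, r < fd.n → fd.n / 2 ≤ r → fd.ht fx r = m →
        coordM D fd fz F r ((g : GL D.Idx F) : Matrix D.Idx D.Idx F) = τ r := by
  obtain ⟨τ, hτ, rfl⟩ := C.Vm_oprod Ψ hΨ (fd.n - fd.n / 2) (fd.n / 2) (by omega) (le_refl _) g hg
  have hτ1 : ∀ s, τ s ≠ 0 → Ψ s ∧ fd.n / 2 ≤ s ∧ s < fd.n := by
    intro s hs
    by_contra hn
    exact hs (hτ s hn)
  have hτ' : ∀ s, fd.n / 2 ≤ s → s < fd.n → τ s ≠ 0 → m ≤ fd.ht fx s :=
    fun s h1 h2 h3 => hΨm s h1 h2 (hτ1 s h3).1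
  have hL := C.oprod_factor_GF m hm τ id (fd.n / 2) (fd.n - fd.n / 2) (by omega) (fun s hs => hs) hτ'
  refine ⟨?_, τ, hτ1, rfl, fun r hr hpos hrm => C.coord_oprod m hm τ hτ' r hr hpos hrm⟩
  unfold oprod
  exact list_prod_mem_GF _ m hm _ hL

theorem psiL_mono (r : ℕ) (L : List ℕ) (s : ℕ) (h : PsiL fd ga k L s) : PsiL fd ga k (r :: L) s := by
  obtain ⟨r', hr', j, hj, e⟩ := h
  exact ⟨r', List.mem_cons_of_mem _ hr', j, hj, e⟩

theorem psiL_pos (L : List ℕ) (hL : ∀ r ∈ L, fd.n / 2 ≤ r ∧ r < fd.n) (s : ℕ) (h : PsiL fd ga k L s) :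
    fd.n / 2 ≤ s ∧ s < fd.n := by
  obtain ⟨r', hr', j, hj, rfl⟩ := h
  exact ⟨T.gIt_pos j r' (hL r' hr').2 (hL r' hr').1, T.gIt_lt j r' (hL r' hr').2⟩

theorem psiL_ht (r : ℕ) (L : List ℕ) (hA : Adm fd fx ga k (r :: L)) (s : ℕ) (h : PsiL fd ga k (r :: L) s) :
    fd.ht fx r ≤ fd.ht fx s := by
  obtain ⟨r', hr', j, hj, rfl⟩ := h
  rw [T.gIt_ht j r' (hA.pos r' hr').2]
  rcases List.mem_cons.mp hr' with rfl | h'
  · exact le_refl _
  · exact (List.pairwise_cons.mp hA.sorted).1 r' h'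

/-- the tail of an admissible list is admissible -/
theorem adm_tail (r : ℕ) (L : List ℕ) (hA : Adm fd fx ga k (r :: L)) : Adm fd fx ga k L := by
  refine ⟨fun r' hr' => hA.pos r' (List.mem_cons_of_mem _ hr'), (List.pairwise_cons.mp hA.sorted).2,
    (List.pairwise_cons.mp hA.disj).2, ?_⟩
  intro s s' hs hs' hps hps' hne hΨs hΨs' c hc
  have h1 := hA.closed s s' hs hs' hps hps' hne (C.psiL_mono T r L s hΨs) (C.psiL_mono T r L s' hΨs') c hc
  obtain ⟨r', hr', j, hj, e⟩ := h1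
  rcases List.mem_cons.mp hr' with rfl | h'
  · exfalso
    have hr := hA.pos r' List.mem_cons_self
    have e1 := C.omr_term hwt s s' hs hs' c hc
    have e2 : fd.ht fx c.1 = fd.ht fx r' := by rw [e, T.gIt_ht j r' hr.2]
    have e3 := C.psiL_ht T r' L hA s (C.psiL_mono T r' L s hΨs)
    have e4 := C.psiL_ht T r' L hA s' (C.psiL_mono T r' L s' hΨs')
    have e5 := T.htpos r' hr.2 hr.1
    obtain ⟨i1, i2⟩ := fd.commT_ij s s' c hc
    unfold FD.ht at e2 e3 e4 e5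
    have i1' : (1 : ℤ) ≤ (c.2.2.1 : ℤ) := by exact_mod_cast i1
    have i2' : (1 : ℤ) ≤ (c.2.2.2 : ℤ) := by exact_mod_cast i2
    nlinarith
  · exact ⟨r', h', j, hj, e⟩

/-- splitting off the orbit of the first root of an admissible list -/
theorem step_decomp (hk : 1 ≤ k) (r : ℕ) (L : List ℕ) (hA : Adm fd fx ga k (r :: L)) (g : GL D.Idx F)
    (hg : g ∈ Vm D F (PsiL fd ga k (r :: L)) (fd.n / 2)) (hfix : C.c6.c2.sigma T.ginv φ g = g)
    (hxfix : ∀ t ∈ Kr fd ga φ r, C.c6.c2.sigma T.ginv φ (C.xS ga k φ r t) = C.xS ga k φ r t) :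
    coordM D fd fz F r (g : Matrix D.Idx D.Idx F) ∈ Kr fd ga φ r ∧
    (C.xS ga k φ r (coordM D fd fz F r (g : Matrix D.Idx D.Idx F)))⁻¹ * g ∈ Vm D F (PsiL fd ga k L) (fd.n / 2) := by
  have hr := hA.pos r List.mem_cons_self
  have hm := T.htpos r hr.2 hr.1
  have hΨm : ∀ s, fd.n / 2 ≤ s → s < fd.n → PsiL fd ga k (r :: L) s → fd.ht fx r ≤ fd.ht fx s :=
    fun s _ _ h => C.psiL_ht T r L hA s h
  set t := coordM D fd fz F r (g : Matrix D.Idx D.Idx F) with ht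
  have ht1 : t ∈ Kr fd ga φ r := by
    intro hrfix
    have := C.fixed_coord T φ _ hA.closed _ hm hΨm g hg hfix r hr.2 hr.1 rfl
    rw [hrfix, T.fix r hr.2 hrfix, Int.cast_one, one_mul] at this
    exact this.symm
  refine ⟨ht1, ?_⟩
  have hx1 : C.xS ga k φ r t ∈ Vm D F (PsiL fd ga k (r :: L)) (fd.n / 2) :=
    C.xS_mem_Vm T φ _ r hr.2 hr.1 (fun j hj => ⟨r, List.mem_cons_self, j,
      lt_of_lt_of_le hj (C.os_le T hk r), rfl⟩) t
  set g' := (C.xS ga k φ r t)⁻¹ * g with hg'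
  have hg'1 : g' ∈ Vm D F (PsiL fd ga k (r :: L)) (fd.n / 2) := mul_mem (inv_mem hx1) hg
  have hg'2 : C.c6.c2.sigma T.ginv φ g' = g' := by
    rw [hg', map_mul, map_inv, hxfix t ht1, hfix]
  obtain ⟨hG', τ, hτ, hgτ, hcτ⟩ := C.Vm_mem_GF T _ hA.closed _ hm hΨm g' hg'1
  obtain ⟨hG, _⟩ := C.Vm_mem_GF T _ hA.closed _ hm hΨm g hg
  obtain ⟨hGx, hcx⟩ := C.coord_xS T φ hk r hr.2 hr.1 hm t
  -- the coordinate of `g'` at `r` vanishes
  have h0 : coordM D fd fz F r (g' : Matrix D.Idx D.Idx F) = 0 := by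
    have e : (g : Matrix D.Idx D.Idx F) = (C.xS ga k φ r t : Matrix D.Idx D.Idx F) * (g' : Matrix D.Idx D.Idx F) := by
      rw [← Units.val_mul, hg', mul_inv_cancel_left]
    have := C.coordM_mul _ hm r hr.2 rfl _ _ hGx hG'
    rw [← e, hcx, ← ht] at this
    exact (add_eq_left.mp this.symm)
  -- hence at the whole orbit
  have h1 : ∀ j, coordM D fd fz F (fd.gIt ga j r) (g' : Matrix D.Idx D.Idx F) = 0 := by
    intro j
    induction j with
    | zero => exact h0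
    | succ j ih =>
      rw [fd.gIt_succ, C.fixed_coord T φ _ hA.closed _ hm hΨm g' hg'1 hg'2 _ (T.gIt_lt j r hr.2)
        (T.gIt_pos j r hr.2 hr.1) (T.gIt_ht j r hr.2), ih, map_zero, mul_zero]
  rw [hgτ]
  apply C.oprod_mem _ τ _ _ (by omega) (le_refl _)
  intro s hs1 hs2 hns
  by_contra hτs
  obtain ⟨⟨r', hr', j, hj, e⟩, _, _⟩ := hτ s hτs
  rcases List.mem_cons.mp hr' with rfl | h'
  · apply hτs
    rw [← hcτ s hs2 hs1 (by rw [e, T.gIt_ht j r' hr.2]), e]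
    exact h1 j
  · exact hns ⟨r', h', j, hj, e⟩

/-- the coordinate at `r` of a product `x_S(t) g'` -/
theorem step_coord (hk : 1 ≤ k) (r : ℕ) (L : List ℕ) (hA : Adm fd fx ga k (r :: L)) (t : F) (g' : GL D.Idx F)
    (hg' : g' ∈ Vm D F (PsiL fd ga k L) (fd.n / 2)) :
    C.xS ga k φ r t * g' ∈ Vm D F (PsiL fd ga k (r :: L)) (fd.n / 2) ∧
    coordM D fd fz F r ((C.xS ga k φ r t * g' : GL D.Idx F) : Matrix D.Idx D.Idx F) = t := by
  have hr := hA.pos r List.mem_cons_self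
  have hm := T.htpos r hr.2 hr.1
  have hA' := C.adm_tail T r L hA
  have hΨm : ∀ s, fd.n / 2 ≤ s → s < fd.n → PsiL fd ga k L s → fd.ht fx r ≤ fd.ht fx s :=
    fun s _ _ h => C.psiL_ht T r L hA s (C.psiL_mono T r L s h)
  have hx1 : C.xS ga k φ r t ∈ Vm D F (PsiL fd ga k (r :: L)) (fd.n / 2) :=
    C.xS_mem_Vm T φ _ r hr.2 hr.1 (fun j hj => ⟨r, List.mem_cons_self, j,
      lt_of_lt_of_le hj (C.os_le T hk r), rfl⟩) t
  have hsub : Vm D F (PsiL fd ga k L) (fd.n / 2) ≤ Vm D F (PsiL fd ga k (r :: L)) (fd.n / 2) := by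
    apply Subgroup.closure_mono
    rintro x ⟨s, u, h1, h2, h3, h4⟩
    exact ⟨s, u, h1, C.psiL_mono T r L s h2, h3, h4⟩
  refine ⟨mul_mem hx1 (hsub hg'), ?_⟩
  obtain ⟨hG', τ, hτ, hgτ, hcτ⟩ := C.Vm_mem_GF T _ hA'.closed _ hm hΨm g' hg'
  obtain ⟨hGx, hcx⟩ := C.coord_xS T φ hk r hr.2 hr.1 hm t
  rw [Units.val_mul, C.coordM_mul _ hm r hr.2 rfl _ _ hGx hG', hcx, hcτ r hr.2 hr.1 rfl]
  have : τ r = 0 := by
    by_contra h
    obtain ⟨⟨r', hr', j, hj, e⟩, _, _⟩ := hτ r h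
    exact (List.pairwise_cons.mp hA.disj).1 r' hr' j hj e
  rw [this, add_zero]

end Cert12

end Cfsg.Agent.Lib.H29.Chev
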