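import Mathlib
import Cfsg.Prelude.Def_ChevStructure
import Cfsg.Agent.Lib.H29.ChevTw6

/-!
# The `σ`-fixed elements of a unipotent subgroup: generators and order
-/

set_option autoImplicit false
set_option linter.unusedSectionVars false
set_option linter.unusedSimpArgs false
set_option linter.unusedVariables false

namespace Cfsg.Agent.Lib.H29.Chev

open Cfsg.Lie Matrix

variable {D : ChevalleyDatum} {fd : FD} {fx : FX} {fc : FC} {fz : FZ} {F : Type*} [Field F]

namespace Cert12

variable (C : Cert12 D fd fx fc fz) {ga : GA} {k : ℕ} (T : TwSpec fd fx ga k) (φ : F →+* F)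

/-- the `σ`-fixed elements of the subgroup attached to a list of orbits -/
noncomputable def AL (T : TwSpec fd fx ga k) (φ : F →+* F) (L : List ℕ) : Subgroup (GL D.Idx F) :=
  fixS (C.c6.c2.sigma T.ginv φ) ⊓ Vm D F (PsiL fd ga k L) (fd.n / 2)

/-- the generators attached to a list of orbits -/
def genL (ga : GA) (k : ℕ) (φ : F →+* F) (L : List ℕ) : Set (GL D.Idx F) :=
  {x | ∃ r ∈ L, ∃ t ∈ Kr fd ga φ r, x = C.xS ga k φ r t}

include T

theorem AL_nil : C.AL T φ [] = ⊥ := by
  unfold AL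
  have : Vm D F (PsiL fd ga k []) (fd.n / 2) = ⊥ := by
    unfold Vm
    rw [Subgroup.closure_eq_bot_iff]
    rintro g ⟨s, t, _, ⟨r, hr, _⟩, _⟩
    simp at hr
  rw [this, inf_bot_eq]

theorem xS_fixed (hk : k = 2 ∨ k = 3) (hφk : ∀ x : F, φ^[k] x = x) (r : ℕ) (L : List ℕ)
    (hA : Adm fd fx ga k (r :: L)) :
    ∀ t ∈ Kr fd ga φ r, C.c6.c2.sigma T.ginv φ (C.xS ga k φ r t) = C.xS ga k φ r t :=
  fun t ht => C.sigma_xS T φ hk hφk r (hA.pos r List.mem_cons_self).2 t ht

/-- the `σ`-fixed elements are products of the elements `x_S(t)` -/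
theorem AL_le_closure (hk : k = 2 ∨ k = 3) (hφk : ∀ x : F, φ^[k] x = x) (L : List ℕ) (hA : Adm fd fx ga k L) :
    C.AL T φ L ≤ Subgroup.closure (C.genL ga k φ L) := by
  have hk1 : 1 ≤ k := by omega
  induction L with
  | nil => rw [C.AL_nil T φ]; exact bot_le
  | cons r L ih =>
    intro g hg
    obtain ⟨hg1, hg2⟩ := Subgroup.mem_inf.mp hg
    rw [mem_fixS] at hg1
    have hxf := C.xS_fixed T φ hk hφk r L hA
    obtain ⟨ht, hg'⟩ := C.step_decomp T φ hk1 r L hA g hg2 hg1 hxf
    set t := coordM D fd fz F r (g : Matrix D.Idx D.Idx F)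
    have hg'f : (C.xS ga k φ r t)⁻¹ * g ∈ C.AL T φ L := by
      refine Subgroup.mem_inf.mpr ⟨?_, hg'⟩
      rw [mem_fixS, map_mul, map_inv, hxf t ht, hg1]
    have h1 := ih (C.adm_tail T r L hA) hg'f
    have hsub : Subgroup.closure (C.genL ga k φ L) ≤ Subgroup.closure (C.genL ga k φ (r :: L)) := by
      apply Subgroup.closure_mono
      rintro x ⟨r', hr', t', ht', rfl⟩
      exact ⟨r', List.mem_cons_of_mem _ hr', t', ht', rfl⟩
    have h2 : C.xS ga k φ r t ∈ Subgroup.closure (C.genL ga k φ (r :: L)) :=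
      Subgroup.subset_closure ⟨r, List.mem_cons_self, t, ht, rfl⟩
    have : g = C.xS ga k φ r t * ((C.xS ga k φ r t)⁻¹ * g) := by group
    rw [this]
    exact mul_mem h2 (hsub h1)

/-- the bijection splitting off the first orbit -/
noncomputable def stepEquiv (hk : k = 2 ∨ k = 3) (hφk : ∀ x : F, φ^[k] x = x) (r : ℕ) (L : List ℕ)
    (hA : Adm fd fx ga k (r :: L)) : ↥(C.AL T φ (r :: L)) ≃ ↥(Kr fd ga φ r) × ↥(C.AL T φ L) where
  toFun := fun g =>
    (⟨coordM D fd fz F r ((g : GL D.Idx F) : Matrix D.Idx D.Idx F),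
      (C.step_decomp T φ (by omega) r L hA g (Subgroup.mem_inf.mp g.property).2
        ((mem_fixS _ _).mp (Subgroup.mem_inf.mp g.property).1) (C.xS_fixed T φ hk hφk r L hA)).1⟩,
     ⟨(C.xS ga k φ r (coordM D fd fz F r ((g : GL D.Idx F) : Matrix D.Idx D.Idx F)))⁻¹ * g, by
      have hg1 := (mem_fixS _ _).mp (Subgroup.mem_inf.mp g.property).1
      have hxf := C.xS_fixed T φ hk hφk r L hA
      obtain ⟨ht, hg'⟩ := C.step_decomp T φ (by omega) r L hA g (Subgroup.mem_inf.mp g.property).2 hg1 hxf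
      refine Subgroup.mem_inf.mpr ⟨?_, hg'⟩
      rw [mem_fixS, map_mul, map_inv, hxf _ ht, hg1]⟩)
  invFun := fun p =>
    ⟨C.xS ga k φ r p.1.val * p.2.val, by
      have hxf := C.xS_fixed T φ hk hφk r L hA
      refine Subgroup.mem_inf.mpr ⟨?_, (C.step_coord T φ (by omega) r L hA p.1.val p.2.val
        (Subgroup.mem_inf.mp p.2.property).2).1⟩
      rw [mem_fixS, map_mul, hxf _ p.1.property, (mem_fixS _ _).mp (Subgroup.mem_inf.mp p.2.property).1]⟩
  left_inv := by
    intro g
    apply Subtype.ext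
    simp only
    group
  right_inv := by
    rintro ⟨⟨t, ht⟩, ⟨g', hg'⟩⟩
    have hc := (C.step_coord T φ (by omega) r L hA t g' (Subgroup.mem_inf.mp hg').2).2
    apply Prod.ext
    · apply Subtype.ext
      simp only
      exact hc
    · apply Subtype.ext
      simp only
      rw [hc]
      group

/-- the number of `σ`-fixed elements -/
theorem card_AL (hk : k = 2 ∨ k = 3) (hφk : ∀ x : F, φ^[k] x = x) (L : List ℕ) (hA : Adm fd fx ga k L) :
    Nat.card ↥(C.AL T φ L) = (L.map fun r => Nat.card ↥(Kr fd ga φ r)).prod := by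
  induction L with
  | nil =>
    rw [C.AL_nil T φ]
    simp
  | cons r L ih =>
    rw [Nat.card_congr (C.stepEquiv T φ hk hφk r L hA), Nat.card_prod, ih (C.adm_tail T r L hA), List.map_cons,
      List.prod_cons]

end Cert12

end Cfsg.Agent.Lib.H29.Chev
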