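import Mathlib
import Cfsg.Prelude.Def_ChevStructure
import Cfsg.Agent.Lib.H29.ChevTw7

/-!
# The `σ`-fixed elements of `U` lie in the twisted group
-/

set_option autoImplicit false
set_option linter.unusedSectionVars false
set_option linter.unusedSimpArgs false
set_option linter.unusedVariables false

namespace Cfsg.Agent.Lib.H29.Chev

open Cfsg.Lie Matrix

variable {D : ChevalleyDatum} {fd : FD} {fx : FX} {fc : FC} {fz : FZ} {F : Type*} [Field F]

namespace Cert12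

variable (C : Cert12 D fd fx fc fz) {ga : GA} {k : ℕ} (T : TwSpec fd fx ga k) (φ : F →+* F)
include C T

/-- a single orbit of positive roots is admissible -/
theorem adm_single (r : ℕ) (hr : r < fd.n) (hpos : fd.n / 2 ≤ r) : Adm fd fx ga k [r] := by
  refine ⟨fun r' hr' => by rw [List.mem_singleton] at hr'; subst hr'; exact ⟨hpos, hr⟩,
    List.pairwise_singleton _ _, List.pairwise_singleton _ _, ?_⟩
  intro s s' hs hs' hps hps' hne hΨs hΨs' c hc
  exfalso
  obtain ⟨r1, hr1, j, hj, e⟩ := hΨs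
  obtain ⟨r2, hr2, j', hj', e'⟩ := hΨs'
  rw [List.mem_singleton] at hr1 hr2
  rw [hr1] at e
  rw [hr2] at e'
  by_cases hfix : fd.gRoot ga r = r
  · have : ∀ j, fd.gIt ga j r = r := by
      intro j
      induction j with
      | zero => rfl
      | succ j ih => rw [fd.gIt_succ, ih, hfix]
    rw [this] at e e'
    exact hne (e.trans e'.symm)
  · have hjj : j ≠ j' := by
      intro h; subst h; exact hne (e.trans e'.symm)
    have := (T.comm r hr hfix j hj j' hj' hjj).1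
    rw [← e, ← e', ] at this
    rw [this] at hc
    simp at hc

/-- the elements `x_S(t)` lie in the group of `σ`-fixed elements of their orbit -/
theorem xS_mem_AL (hk : k = 2 ∨ k = 3) (hφk : ∀ x : F, φ^[k] x = x) (r : ℕ) (hr : r < fd.n) (hpos : fd.n / 2 ≤ r)
    (t : F) (ht : t ∈ Kr fd ga φ r) : C.xS ga k φ r t ∈ C.AL T φ [r] := by
  refine Subgroup.mem_inf.mpr ⟨?_, ?_⟩
  · rw [mem_fixS]
    exact C.sigma_xS T φ hk hφk r hr t ht
  · exact C.xS_mem_Vm T φ _ r hr hpos (fun j hj => ⟨r, List.mem_singleton_self r, j,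
      lt_of_lt_of_le hj (C.os_le T (by omega) r), rfl⟩) t

/-- transport of an orbit by an element of `N` fixed by `σ` -/
theorem AL_conj (G1 : Subgroup (GL D.Idx F)) (hG1 : G1 ≤ fixS (C.c6.c2.sigma T.ginv φ)) (n : GL D.Idx F)
    (hn : n ∈ G1) (π' : ℕ → ℕ) (hπ' : C.c6.c2.Perm n⁻¹ π') (r r₀ : ℕ) (hr₀ : r₀ < fd.n) (hpos₀ : fd.n / 2 ≤ r₀)
    (hrr : ∀ j < k, ∃ j' < k, π' (fd.gIt ga j r) = fd.gIt ga j' r₀)
    (h₀ : C.AL T φ [r₀] ≤ G1) : C.AL T φ [r] ≤ G1 := by
  intro g hg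
  obtain ⟨hg1, hg2⟩ := Subgroup.mem_inf.mp hg
  have hnf : C.c6.c2.sigma T.ginv φ n = n := (mem_fixS _ _).mp (hG1 hn)
  have key : n⁻¹ * g * n ∈ C.AL T φ [r₀] := by
    refine Subgroup.mem_inf.mpr ⟨?_, ?_⟩
    · rw [mem_fixS, map_mul, map_mul, map_inv, hnf, (mem_fixS _ _).mp hg1]
    · have hle : Vm D F (PsiL fd ga k [r]) (fd.n / 2) ≤
          (Vm D F (PsiL fd ga k [r₀]) (fd.n / 2)).comap (MulAut.conj n⁻¹).toMonoidHom := by
        unfold Vm
        rw [Subgroup.closure_le]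
        intro x hx
        obtain ⟨s, u, hs, _, ⟨r1, hr1, j, hj, e⟩, _, rfl⟩ := C.eq_xA_of_VmSet _ _ x hx
        rw [List.mem_singleton] at hr1
        subst hr1
        rw [SetLike.mem_coe, Subgroup.mem_comap]
        show n⁻¹ * C.c6.c2.xA s u * n⁻¹⁻¹ ∈ _
        obtain ⟨_, _, c, hc⟩ := hπ' s hs
        obtain ⟨j', hj', e'⟩ := hrr j hj
        rw [hc u, e, e']
        apply Subgroup.subset_closure
        refine ⟨_, _, (C.c6.isPos_iff _).mpr ⟨T.gIt_lt j' r₀ hr₀, T.gIt_pos j' r₀ hr₀ hpos₀⟩,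
          ⟨r₀, List.mem_singleton_self _, j', hj', rfl⟩, T.gIt_pos j' r₀ hr₀ hpos₀, C.c6.c2.xA_val _ _⟩
      have := hle hg2
      rw [Subgroup.mem_comap] at this
      simpa using this
  have := h₀ key
  have e : g = n * (n⁻¹ * g * n) * n⁻¹ := by group
  rw [e]
  exact mul_mem (mul_mem hn this) (inv_mem hn)

end Cert12

end Cfsg.Agent.Lib.H29.Chev
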