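import Mathlib
import Cfsg.Prelude.Def_ChevStructure
import Cfsg.Agent.Lib.H29.ChevTw9
import Cfsg.Agent.Lib.H29.ChevGen39

/-!
# The `σ`-fixed elements of the subgroups `V_Ψ` for `ρ`-stable closed sets `Ψ` of positive roots
-/

set_option autoImplicit false
set_option linter.unusedSectionVars false
set_option linter.unusedSimpArgs false
set_option linter.unusedVariables false

namespace Cfsg.Agent.Lib.H29.Chev

open Cfsg.Lie Matrix

variable {D : ChevalleyDatum} {fd : FD} {fx : FX} {fc : FC} {fz : FZ} {F : Type*} [Field F]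

/-- the orbit of the fundamental root `i`, as a word -/
def orbW (ga : GA) (k i : ℕ) : List ℕ :=
  (List.range (if ga.rh.getD i 0 = i then 1 else k)).map fun j => (fun x => ga.rh.getD x 0)^[j] i

/-- the facts about the representatives of the orbits of the positive roots -/
structure ChainSpec (fd : FD) (fx : FX) (ga : GA) (k : ℕ) (RL sreps : List ℕ) : Prop where
  adm : Adm fd fx ga k RL
  cover : ∀ s, fd.n / 2 ≤ s → s < fd.n → PsiL fd ga k RL s
  sreps_lt : ∀ i ∈ sreps, i < fd.l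
  chain : ∀ a < RL.length, (∃ i ∈ sreps, RL.getD a 0 = fd.simples.getD i 0) ∨
    (∃ i ∈ sreps, ∃ a' < a, ∀ j < k, ∃ j' < k,
      fd.wordP fx (orbW ga k i) (fd.gIt ga j (RL.getD a 0)) = fd.gIt ga j' (RL.getD a' 0))

namespace Cert12

variable (C : Cert12 D fd fx fc fz) {ga : GA} {k : ℕ} (T : TwSpec fd fx ga k) (φ : F →+* F)
include C T

theorem gIt_add (i j r : ℕ) : fd.gIt ga (i + j) r = fd.gIt ga i (fd.gIt ga j r) := by
  unfold FD.gIt
  rw [Function.iterate_add_apply]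

/-- the list of representatives of the orbits in a `ρ`-stable closed set -/
theorem filter_spec {RL sreps : List ℕ} (S : ChainSpec fd fx ga k RL sreps) (Ψ : ℕ → Prop) [DecidablePred Ψ]
    (hΨc : fd.Closed Ψ) (hΨρ : ∀ s < fd.n, fd.n / 2 ≤ s → Ψ s → Ψ (fd.gRoot ga s)) :
    Adm fd fx ga k (RL.filter fun r => decide (Ψ r)) ∧
    Vm D F Ψ (fd.n / 2) = Vm D F (PsiL fd ga k (RL.filter fun r => decide (Ψ r))) (fd.n / 2) := by
  have hΨj : ∀ j s, s < fd.n → fd.n / 2 ≤ s → Ψ s → Ψ (fd.gIt ga j s) := by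
    intro j
    induction j with
    | zero => intro s _ _ h; exact h
    | succ j ih =>
      intro s hs hps h
      rw [fd.gIt_succ]
      exact hΨρ _ (T.gIt_lt j s hs) (T.gIt_pos j s hs hps) (ih s hs hps h)
  have hiff : ∀ s, fd.n / 2 ≤ s → s < fd.n →
      (PsiL fd ga k (RL.filter fun r => decide (Ψ r)) s ↔ Ψ s) := by
    intro s hps hs
    constructor
    · rintro ⟨r, hr, j, hj, rfl⟩
      rw [List.mem_filter, decide_eq_true_eq] at hr
      exact hΨj j r (S.adm.pos r hr.1).2 (S.adm.pos r hr.1).1 hr.2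
    · intro h
      obtain ⟨r, hr, j, hj, e⟩ := S.cover s hps hs
      have hr' := S.adm.pos r hr
      refine ⟨r, ?_, j, hj, e⟩
      rw [List.mem_filter, decide_eq_true_eq]
      refine ⟨hr, ?_⟩
      have h1 := hΨj (k - j) s hs hps h
      rw [e, ← C.gIt_add T, Nat.sub_add_cancel (le_of_lt hj), (T.ord r hr'.2).1] at h1
      exact h1
  have hsub : ∀ r ∈ RL.filter (fun r => decide (Ψ r)), r ∈ RL := fun r hr => (List.mem_filter.mp hr).1
  constructor
  · refine ⟨fun r hr => S.adm.pos r (hsub r hr), S.adm.sorted.filter _, S.adm.disj.filter _, ?_⟩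
    intro s s' hs hs' hps hps' hne hΨs hΨs' c hc
    obtain ⟨hc1, _, hc3⟩ := fd.linc_spec C.linc s s' hs hs' c hc
    have hc4 := hc3 hps hps' hne
    rw [hiff c.1 (by omega) hc1]
    exact hΨc s s' hs hs' hps hps' hne ((hiff s hps hs).mp hΨs) ((hiff s' hps' hs').mp hΨs') c hc
  · unfold Vm VmSet
    congr 1
    ext g
    constructor
    · rintro ⟨s, t, h1, h2, h3, h4⟩
      exact ⟨s, t, h1, (hiff s h3 ((C.c6.isPos_iff s).mp h1).1).mpr h2, h3, h4⟩
    · rintro ⟨s, t, h1, h2, h3, h4⟩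
      exact ⟨s, t, h1, (hiff s h3 ((C.c6.isPos_iff s).mp h1).1).mp h2, h3, h4⟩

/-- the number of `σ`-fixed elements of `V_Ψ` -/
theorem card_fix_Vm (hk : k = 2 ∨ k = 3) (hφk : ∀ x : F, φ^[k] x = x) {RL sreps : List ℕ}
    (S : ChainSpec fd fx ga k RL sreps) (Ψ : ℕ → Prop) [DecidablePred Ψ]
    (hΨc : fd.Closed Ψ) (hΨρ : ∀ s < fd.n, fd.n / 2 ≤ s → Ψ s → Ψ (fd.gRoot ga s)) :
    Nat.card ↥(fixS (C.c6.c2.sigma T.ginv φ) ⊓ Vm D F Ψ (fd.n / 2)) =
      ((RL.filter fun r => decide (Ψ r)).map fun r => Nat.card ↥(Kr fd ga φ r)).prod := by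
  obtain ⟨h1, h2⟩ := C.filter_spec T (F := F) S Ψ hΨc hΨρ
  rw [h2]
  exact C.card_AL T φ hk hφk _ h1

/-- the `σ`-fixed elements of `U` lie in every subgroup containing the generators of the twisted group -/
theorem fixU_le (hk : k = 2 ∨ k = 3) (hφk : ∀ x : F, φ^[k] x = x) {RL sreps : List ℕ}
    (S : ChainSpec fd fx ga k RL sreps) (G1 : Subgroup (GL D.Idx F))
    (hG1 : G1 ≤ fixS (C.c6.c2.sigma T.ginv φ))
    (hgen : ∀ i ∈ sreps, ∀ t ∈ Kr fd ga φ (fd.simples.getD i 0), C.xS ga k φ (fd.simples.getD i 0) t ∈ G1)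
    (hN : ∀ i ∈ sreps, ∃ n ∈ G1, C.c6.c2.Perm n⁻¹ (fd.wordP fx (orbW ga k i))) :
    fixS (C.c6.c2.sigma T.ginv φ) ⊓ D.posUnipotent F ≤ G1 := by
  have hget : ∀ a < RL.length, RL.getD a 0 ∈ RL := by
    intro a ha
    rw [List.getD_eq_getElem _ _ ha]
    exact List.getElem_mem ha
  have step1 : ∀ a < RL.length, C.AL T φ [RL.getD a 0] ≤ G1 := by
    intro a
    induction a using Nat.strong_induction_on with
    | _ a ih =>
      intro ha
      have hr := S.adm.pos _ (hget a ha)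
      rcases S.chain a ha with ⟨i, hi, e⟩ | ⟨i, hi, a', ha', hrr⟩
      · rw [e]
        rw [e] at hr
        refine le_trans (C.AL_le_closure T φ hk hφk _ (C.adm_single T _ hr.2 hr.1)) ?_
        rw [Subgroup.closure_le]
        rintro x ⟨r, hr', t, ht, rfl⟩
        rw [List.mem_singleton] at hr'
        subst hr'
        exact hgen i hi t ht
      · obtain ⟨n, hn, hπ⟩ := hN i hi
        have hr₀ := S.adm.pos _ (hget a' (by omega))
        exact C.AL_conj T φ G1 hG1 n hn _ hπ _ _ hr₀.2 hr₀.1 hrr (ih a' ha' (by omega))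
  have e1 : D.posUnipotent F = Vm D F (PsiL fd ga k RL) (fd.n / 2) := by
    rw [C.posUnipotent_eq]
    unfold Vm VmSet
    congr 1
    ext g
    constructor
    · rintro ⟨s, t, h1, _, h3, h4⟩
      exact ⟨s, t, h1, S.cover s h3 ((C.c6.isPos_iff s).mp h1).1, h3, h4⟩
    · rintro ⟨s, t, h1, _, h3, h4⟩
      exact ⟨s, t, h1, trivial, h3, h4⟩
  rw [e1]
  refine le_trans (C.AL_le_closure T φ hk hφk RL S.adm) ?_
  rw [Subgroup.closure_le]
  rintro x ⟨r, hr, t, ht, rfl⟩
  obtain ⟨a, ha, rfl⟩ : ∃ a, a < RL.length ∧ RL.getD a 0 = r := by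
    obtain ⟨a, ha, e⟩ := List.getElem_of_mem hr
    exact ⟨a, ha, by rw [List.getD_eq_getElem _ _ ha, e]⟩
  have hr' := S.adm.pos _ hr
  exact step1 a ha (C.xS_mem_AL T φ hk hφk _ hr'.2 hr'.1 t ht)

end Cert12

end Cfsg.Agent.Lib.H29.Chev
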