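import Mathlib
import Cfsg.Prelude.Def_ChevStructure
import Cfsg.Agent.Lib.H29.ChevTw10

/-!
# The elements `n_S` of the twisted group attached to the orbits of fundamental roots
-/

set_option autoImplicit false
set_option linter.unusedSectionVars false
set_option linter.unusedSimpArgs false
set_option linter.unusedVariables false

namespace Cfsg.Agent.Lib.H29.Chev

open Cfsg.Lie Matrix

variable {D : ChevalleyDatum} {fd : FD} {fx : FX} {fc : FC} {fz : FZ} {F : Type*} [Field F]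

/-- the permutation of the fundamental roots, iterated -/
def rhIt (ga : GA) (a i : ℕ) : ℕ := (fun x => ga.rh.getD x 0)^[a] i

theorem rhIt_succ (ga : GA) (a i : ℕ) : rhIt ga (a + 1) i = ga.rh.getD (rhIt ga a i) 0 := by
  unfold rhIt
  rw [Function.iterate_succ_apply']

/-- further facts about the graph automorphism -/
structure TwSpec2 (fd : FD) (fx : FX) (ga : GA) (k : ℕ) : Prop where
  gsimple : fd.chkGSimple ga = true
  rhord : ∀ i < fd.l, rhIt ga k i = i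
  commS : ∀ i < fd.l, ga.rh.getD i 0 ≠ i → ∀ a < k, ∀ b < k, a ≠ b →
    fd.commT (fd.simples.getD (rhIt ga a i) 0) (fd.n - 1 - fd.simples.getD (rhIt ga b i) 0) = []
  sfix : ∀ i < fd.l, ga.rh.getD i 0 ≠ i → ∀ a < k, ∀ b < k, a ≠ b →
    fd.sw fx (rhIt ga a i) (fd.simples.getD (rhIt ga b i) 0) = fd.simples.getD (rhIt ga b i) 0
  car : ∀ i < fd.l, ∀ s < fd.n, fd.carZ (ga.rh.getD i 0) (fd.gRoot ga s) = fd.carZ i s
  invol : ∀ i < fd.l, ∀ s < fd.n, fd.wordP fx (orbW ga k i) (fd.wordP fx (orbW ga k i) s) = s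

theorem mul3_regroup2 {G : Type*} [Group G] (a0 a1 b0 b1 : G) (h1 : Commute a1 b0) (h2 : Commute a1 a0)
    (h3 : Commute b1 a0) : (a0 * a1) * (b0 * b1) * (a0 * a1) = (a0 * b0 * a0) * (a1 * b1 * a1) := by
  have e1 : a1 * b0 = b0 * a1 := h1.eq
  have e2 : a1 * a0 = a0 * a1 := h2.eq
  have e3 : b1 * a0 = a0 * b1 := h3.eq
  calc (a0 * a1) * (b0 * b1) * (a0 * a1) = a0 * (a1 * b0) * (b1 * a0) * a1 := by group
    _ = a0 * (b0 * a1) * (a0 * b1) * a1 := by rw [e1, e3]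
    _ = a0 * b0 * (a1 * a0) * b1 * a1 := by group
    _ = a0 * b0 * (a0 * a1) * b1 * a1 := by rw [e2]
    _ = _ := by group

theorem mul3_regroup3 {G : Type*} [Group G] (a0 a1 a2 b0 b1 b2 : G)
    (h10 : Commute a1 b0) (h20 : Commute a2 b0) (h1a : Commute a1 a0) (h2a : Commute a2 a0)
    (hb1 : Commute b1 a0) (hb2 : Commute b2 a0)
    (h21 : Commute a2 b1) (h2a1 : Commute a2 a1) (hb21 : Commute b2 a1) :
    (a0 * (a1 * a2)) * (b0 * (b1 * b2)) * (a0 * (a1 * a2)) =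
      (a0 * b0 * a0) * ((a1 * b1 * a1) * (a2 * b2 * a2)) := by
  rw [mul3_regroup2 a0 (a1 * a2) b0 (b1 * b2) (h10.mul_left h20) (h1a.mul_left h2a) (hb1.mul_left hb2),
    mul3_regroup2 a1 a2 b1 b2 h21 h2a1 hb21]

namespace Cert12

variable (C : Cert12 D fd fx fc fz) {ga : GA} {k : ℕ} (T : TwSpec fd fx ga k) (T2 : TwSpec2 fd fx ga k)
  (φ : F →+* F)
include C T T2

theorem gsimple_spec (i : ℕ) (hi : i < fd.l) :
    fd.gRoot ga (fd.simples.getD i 0) = fd.simples.getD (ga.rh.getD i 0) 0 ∧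
    fd.gEps ga (fd.simples.getD i 0) = 1 ∧
    fd.gRoot ga (fd.n - 1 - fd.simples.getD i 0) = fd.n - 1 - fd.simples.getD (ga.rh.getD i 0) 0 ∧
    fd.gEps ga (fd.n - 1 - fd.simples.getD i 0) = 1 ∧ ga.rh.getD i 0 < fd.l := by
  have := T2.gsimple
  simp only [FD.chkGSimple, List.all_eq_true, List.mem_range, Bool.and_eq_true, natBeq_iff, intBeq_iff,
    natBlt_iff] at this
  obtain ⟨⟨⟨⟨s1, s2⟩, s3⟩, s4⟩, s5⟩ := this i hi
  exact ⟨s1, s2, s3, s4, s5⟩

theorem rhIt_lt (a i : ℕ) (hi : i < fd.l) : rhIt ga a i < fd.l := by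
  induction a with
  | zero => exact hi
  | succ a ih => rw [rhIt_succ]; exact (C.gsimple_spec T T2 _ ih).2.2.2.2

theorem gIt_simple (a i : ℕ) (hi : i < fd.l) :
    fd.gIt ga a (fd.simples.getD i 0) = fd.simples.getD (rhIt ga a i) 0 ∧
    fd.eProd ga (fd.simples.getD i 0) a = 1 ∧
    fd.gIt ga a (fd.n - 1 - fd.simples.getD i 0) = fd.n - 1 - fd.simples.getD (rhIt ga a i) 0 ∧
    fd.eProd ga (fd.n - 1 - fd.simples.getD i 0) a = 1 := by
  induction a with
  | zero => exact ⟨rfl, rfl, rfl, rfl⟩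
  | succ a ih =>
    obtain ⟨h1, h2, h3, h4⟩ := ih
    obtain ⟨s1, s2, s3, s4, _⟩ := C.gsimple_spec T T2 _ (C.rhIt_lt T T2 a i hi)
    refine ⟨?_, ?_, ?_, ?_⟩
    · rw [fd.gIt_succ, h1, s1, rhIt_succ]
    · rw [FD.eProd, h2, h1, s2, one_mul]
    · rw [fd.gIt_succ, h3, s3, rhIt_succ]
    · rw [FD.eProd, h4, h3, s4, one_mul]

theorem gRoot_simple_ne (i : ℕ) (hi : i < fd.l) (h : ga.rh.getD i 0 ≠ i) :
    fd.gRoot ga (fd.simples.getD i 0) ≠ fd.simples.getD i 0 := by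
  rw [(C.gsimple_spec T T2 i hi).1]
  intro he
  apply h
  have h1 := C.c6.c2.simple_lt i hi
  have h2 := C.c6.c2.simple_lt _ (C.gsimple_spec T T2 i hi).2.2.2.2
  -- the fundamental roots are distinct: use the coordinates
  by_contra hne
  have e1 := C.rcZ_simple (ga.rh.getD i 0) i (C.gsimple_spec T T2 i hi).2.2.2.2 hi
  have e2 := C.rcZ_simple i i hi hi
  rw [he, e2, if_pos rfl, if_neg hne] at e1
  exact one_ne_zero e1

/-- root elements with no terms in the commutator formula commute -/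
theorem comm_of_empty (r s : ℕ) (hr : r < fd.n) (hs : s < fd.n) (h1 : s ≠ r) (h2 : s ≠ fd.n - 1 - r)
    (he : fd.commT r s = []) (t u : F) : Commute (C.c6.c2.xA s u) (C.c6.c2.xA r t) := by
  have := C.c6.cfg (F := F) r s hr hs h1 h2 t u
  rw [he] at this
  show C.c6.c2.xA s u * C.c6.c2.xA r t = C.c6.c2.xA r t * C.c6.c2.xA s u
  rw [this]
  simp [Cert2.ctG]

end Cert12

end Cfsg.Agent.Lib.H29.Chev
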