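import Mathlib
import Cfsg.Prelude.Def_ChevStructure
import Cfsg.Agent.Lib.H29.ChevTw11

/-!
# The elements `n_S` as products of the `σ`-fixed elements `x_S`
-/

set_option autoImplicit false
set_option linter.unusedSectionVars false
set_option linter.unusedSimpArgs false
set_option linter.unusedVariables false

namespace Cfsg.Agent.Lib.H29.Chev

open Cfsg.Lie Matrix

variable {D : ChevalleyDatum} {fd : FD} {fx : FX} {fc : FC} {fz : FZ} {F : Type*} [Field F]

theorem iterate_hom_one (φ : F →+* F) (a : ℕ) : φ^[a] 1 = 1 := by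
  induction a with
  | zero => rfl
  | succ a ih => rw [Function.iterate_succ_apply', ih, map_one]

theorem iterate_hom_neg_one (φ : F →+* F) (a : ℕ) : φ^[a] (-1) = -1 := by
  induction a with
  | zero => rfl
  | succ a ih => rw [Function.iterate_succ_apply', ih, map_neg, map_one]

namespace Cert12

variable (C : Cert12 D fd fx fc fz)

/-- the element `n_S` of the orbit of the `i`-th fundamental root -/
noncomputable def nS (F : Type*) [Field F] (ga : GA) (k i : ℕ) : GL D.Idx F := C.wordN F (orbW ga k i)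

variable {ga : GA} {k : ℕ} (T : TwSpec fd fx ga k) (T2 : TwSpec2 fd fx ga k) (φ : F →+* F)
include C T T2

theorem nG_eq_xA (r : ℕ) (hr : r < fd.n) :
    C.c6.c2.nG (F := F) r hr = C.c6.c2.xA r 1 * C.c6.c2.xA (fd.n - 1 - r) (-1) * C.c6.c2.xA r 1 := by
  rw [C.c6.c2.xA_of_lt r hr, C.c6.c2.xA_of_lt (fd.n - 1 - r) (by omega)]
  rfl

theorem aj_simple (a i : ℕ) (hi : i < fd.l) (t : F) :
    C.aj ga φ (fd.simples.getD i 0) t a = C.c6.c2.xA (fd.simples.getD (rhIt ga a i) 0) (φ^[a] t) ∧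
    C.aj ga φ (fd.n - 1 - fd.simples.getD i 0) t a =
      C.c6.c2.xA (fd.n - 1 - fd.simples.getD (rhIt ga a i) 0) (φ^[a] t) := by
  obtain ⟨h1, h2, h3, h4⟩ := C.gIt_simple T T2 a i hi
  unfold aj
  rw [h1, h2, h3, h4, Int.cast_one, one_mul]
  exact ⟨rfl, rfl⟩

theorem cPP (i : ℕ) (hi : i < fd.l) (h : ga.rh.getD i 0 ≠ i) (a b : ℕ) (ha : a < k) (hb : b < k) (hab : a ≠ b)
    (t u : F) : Commute (C.c6.c2.xA (fd.simples.getD (rhIt ga a i) 0) t)
      (C.c6.c2.xA (fd.simples.getD (rhIt ga b i) 0) u) := by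
  have hp := C.c6.c2.simple_lt i hi
  obtain ⟨h1, h2, h3⟩ := T.comm _ hp (C.gRoot_simple_ne T T2 i hi h) b hb a ha (Ne.symm hab)
  rw [(C.gIt_simple T T2 a i hi).1, (C.gIt_simple T T2 b i hi).1] at h1 h2 h3
  exact C.comm_of_empty T T2 _ _ (C.c6.c2.simple_lt _ (C.rhIt_lt T T2 b i hi))
    (C.c6.c2.simple_lt _ (C.rhIt_lt T T2 a i hi)) (fun e => h2 e.symm) (by
      intro e
      have := C.c6.c2.simple_lt _ (C.rhIt_lt T T2 b i hi)
      apply h3
      omega) h1 u t

theorem cNN (i : ℕ) (hi : i < fd.l) (h : ga.rh.getD i 0 ≠ i) (a b : ℕ) (ha : a < k) (hb : b < k) (hab : a ≠ b)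
    (t u : F) : Commute (C.c6.c2.xA (fd.n - 1 - fd.simples.getD (rhIt ga a i) 0) t)
      (C.c6.c2.xA (fd.n - 1 - fd.simples.getD (rhIt ga b i) 0) u) := by
  have hp := C.c6.c2.simple_lt i hi
  have hp' : fd.n - 1 - fd.simples.getD i 0 < fd.n := by omega
  have hne : fd.gRoot ga (fd.n - 1 - fd.simples.getD i 0) ≠ fd.n - 1 - fd.simples.getD i 0 := by
    rw [(T.neg _ hp).1]
    have := C.gRoot_simple_ne T T2 i hi h
    have := T.gRoot_lt _ hp
    omega
  obtain ⟨h1, h2, h3⟩ := T.comm _ hp' hne b hb a ha (Ne.symm hab)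
  rw [(C.gIt_simple T T2 a i hi).2.2.1, (C.gIt_simple T T2 b i hi).2.2.1] at h1 h2 h3
  have hla := C.c6.c2.simple_lt _ (C.rhIt_lt T T2 a i hi)
  have hlb := C.c6.c2.simple_lt _ (C.rhIt_lt T T2 b i hi)
  exact C.comm_of_empty T T2 _ _ (by omega) (by omega) (fun e => h2 e.symm) (by
      intro e
      apply h3
      omega) h1 u t

theorem cNP (i : ℕ) (hi : i < fd.l) (h : ga.rh.getD i 0 ≠ i) (a b : ℕ) (ha : a < k) (hb : b < k) (hab : a ≠ b)
    (t u : F) : Commute (C.c6.c2.xA (fd.n - 1 - fd.simples.getD (rhIt ga b i) 0) u)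
      (C.c6.c2.xA (fd.simples.getD (rhIt ga a i) 0) t) := by
  have hla := C.c6.c2.simple_lt _ (C.rhIt_lt T T2 a i hi)
  have hlb := C.c6.c2.simple_lt _ (C.rhIt_lt T T2 b i hi)
  have hp := C.c6.c2.simple_lt i hi
  have hev := C.c6.c2.heven
  have hpa := C.c6.simple_pos (rhIt ga a i) (C.rhIt_lt T T2 a i hi)
  have hpb := C.c6.simple_pos (rhIt ga b i) (C.rhIt_lt T T2 b i hi)
  obtain ⟨_, h2, _⟩ := T.comm _ hp (C.gRoot_simple_ne T T2 i hi h) b hb a ha (Ne.symm hab)
  rw [(C.gIt_simple T T2 a i hi).1, (C.gIt_simple T T2 b i hi).1] at h2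
  exact C.comm_of_empty T T2 _ _ hla (by omega) (by omega) (by omega) (T2.commS i hi h a ha b hb hab) t u

theorem os_simple (i : ℕ) (hi : i < fd.l) :
    fd.os ga k (fd.simples.getD i 0) = (if ga.rh.getD i 0 = i then 1 else k) ∧
    fd.os ga k (fd.n - 1 - fd.simples.getD i 0) = (if ga.rh.getD i 0 = i then 1 else k) := by
  have hp := C.c6.c2.simple_lt i hi
  unfold FD.os
  by_cases h : ga.rh.getD i 0 = i
  · have e1 : fd.gRoot ga (fd.simples.getD i 0) = fd.simples.getD i 0 := by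
      rw [(C.gsimple_spec T T2 i hi).1, h]
    have e2 : fd.gRoot ga (fd.n - 1 - fd.simples.getD i 0) = fd.n - 1 - fd.simples.getD i 0 := by
      rw [(T.neg _ hp).1, e1]
    rw [if_pos e1, if_pos e2, if_pos h]
    exact ⟨rfl, rfl⟩
  · have e1 := C.gRoot_simple_ne T T2 i hi h
    have e2 : fd.gRoot ga (fd.n - 1 - fd.simples.getD i 0) ≠ fd.n - 1 - fd.simples.getD i 0 := by
      rw [(T.neg _ hp).1]
      have := T.gRoot_lt _ hp
      omega
    rw [if_neg e1, if_neg e2, if_neg h]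
    exact ⟨rfl, rfl⟩

/-- `n_S` is a product of three `σ`-fixed elements -/
theorem nS_eq (hk : k = 2 ∨ k = 3) (i : ℕ) (hi : i < fd.l) :
    C.nS F ga k i = C.xS ga k φ (fd.simples.getD i 0) 1 * C.xS ga k φ (fd.n - 1 - fd.simples.getD i 0) (-1) *
      C.xS ga k φ (fd.simples.getD i 0) 1 := by
  obtain ⟨o1, o2⟩ := C.os_simple T T2 i hi
  unfold nS xS orbW
  rw [o1, o2]
  by_cases h : ga.rh.getD i 0 = i
  · rw [if_pos h]
    simp only [List.range_one, List.map_cons, List.map_nil, List.prod_cons, List.prod_nil, mul_one,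
      Function.iterate_zero, id, Cert12.wordN, dif_pos hi]
    rw [C.aj_zero T, C.aj_zero T, C.nG_eq_xA T T2]
  · rw [if_neg h]
    have hl : ∀ a, rhIt ga a i < fd.l := fun a => C.rhIt_lt T T2 a i hi
    have e0 : rhIt ga 0 i = i := rfl
    rcases hk with rfl | rfl
    · simp only [List.range_succ, List.range_zero, List.nil_append, List.cons_append, List.map_cons, List.map_nil,
        List.prod_cons, List.prod_nil, mul_one, Cert12.wordN]
      have e1 : (fun x => ga.rh.getD x 0)^[1] i = rhIt ga 1 i := rfl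
      have e0' : (fun x => ga.rh.getD x 0)^[0] i = rhIt ga 0 i := rfl
      rw [e1, e0', dif_pos (hl 0), dif_pos (hl 1), (C.aj_simple T T2 φ 0 i hi 1).1, (C.aj_simple T T2 φ 1 i hi 1).1,
        (C.aj_simple T T2 φ 0 i hi (-1)).2, (C.aj_simple T T2 φ 1 i hi (-1)).2, iterate_hom_one, iterate_hom_one,
        iterate_hom_neg_one, iterate_hom_neg_one, C.nG_eq_xA T T2, C.nG_eq_xA T T2]
      exact (mul3_regroup2 _ _ _ _
        (C.cNP T T2 i hi h 1 0 (by norm_num) (by norm_num) (by norm_num) _ _).symm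
        (C.cPP T T2 i hi h 1 0 (by norm_num) (by norm_num) (by norm_num) _ _)
        (C.cNP T T2 i hi h 0 1 (by norm_num) (by norm_num) (by norm_num) _ _)).symm
    · simp only [List.range_succ, List.range_zero, List.nil_append, List.cons_append, List.map_cons, List.map_nil,
        List.prod_cons, List.prod_nil, mul_one, Cert12.wordN]
      have e2 : (fun x => ga.rh.getD x 0)^[2] i = rhIt ga 2 i := rfl
      have e1 : (fun x => ga.rh.getD x 0)^[1] i = rhIt ga 1 i := rfl
      have e0' : (fun x => ga.rh.getD x 0)^[0] i = rhIt ga 0 i := rfl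
      rw [e2, e1, e0', dif_pos (hl 0), dif_pos (hl 1), dif_pos (hl 2), (C.aj_simple T T2 φ 0 i hi 1).1,
        (C.aj_simple T T2 φ 1 i hi 1).1, (C.aj_simple T T2 φ 2 i hi 1).1,
        (C.aj_simple T T2 φ 0 i hi (-1)).2, (C.aj_simple T T2 φ 1 i hi (-1)).2, (C.aj_simple T T2 φ 2 i hi (-1)).2,
        iterate_hom_one, iterate_hom_one, iterate_hom_one,
        iterate_hom_neg_one, iterate_hom_neg_one, iterate_hom_neg_one, C.nG_eq_xA T T2, C.nG_eq_xA T T2,
        C.nG_eq_xA T T2]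
      exact (mul3_regroup3 _ _ _ _ _ _
        (C.cNP T T2 i hi h 1 0 (by norm_num) (by norm_num) (by norm_num) _ _).symm
        (C.cNP T T2 i hi h 2 0 (by norm_num) (by norm_num) (by norm_num) _ _).symm
        (C.cPP T T2 i hi h 1 0 (by norm_num) (by norm_num) (by norm_num) _ _)
        (C.cPP T T2 i hi h 2 0 (by norm_num) (by norm_num) (by norm_num) _ _)
        (C.cNP T T2 i hi h 0 1 (by norm_num) (by norm_num) (by norm_num) _ _)
        (C.cNP T T2 i hi h 0 2 (by norm_num) (by norm_num) (by norm_num) _ _)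
        (C.cNP T T2 i hi h 2 1 (by norm_num) (by norm_num) (by norm_num) _ _).symm
        (C.cPP T T2 i hi h 2 1 (by norm_num) (by norm_num) (by norm_num) _ _)
        (C.cNP T T2 i hi h 1 2 (by norm_num) (by norm_num) (by norm_num) _ _)).symm

end Cert12

end Cfsg.Agent.Lib.H29.Chev
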