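import Mathlib
import Cfsg.Prelude.Def_ChevStructure
import Cfsg.Agent.Lib.H29.ChevTw12
import Cfsg.Agent.Lib.H29.ChevGen45

/-!
# `σ` on the diagonal subgroup
-/

set_option autoImplicit false
set_option linter.unusedSectionVars false
set_option linter.unusedSimpArgs false
set_option linter.unusedVariables false

namespace Cfsg.Agent.Lib.H29.Chev

open Cfsg.Lie Matrix

variable {D : ChevalleyDatum} {fd : FD} {fx : FX} {fc : FC} {fz : FZ} {F : Type*} [Field F]

/-- `σ` on the torus -/
def sigT (fd : FD) (ga : GA) (k : ℕ) (φ : F →+* F) : (Fin fd.l → Fˣ) →* (Fin fd.l → Fˣ) where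
  toFun := fun x i => if h : rhIt ga (k - 1) i.val < fd.l then Units.map φ.toMonoidHom (x ⟨rhIt ga (k - 1) i.val, h⟩) else 1
  map_one' := by
    funext i
    simp
  map_mul' := by
    intro x y
    funext i
    by_cases h : rhIt ga (k - 1) i.val < fd.l
    · simp only [Pi.mul_apply, dif_pos h, map_mul]
    · simp only [Pi.mul_apply, dif_neg h, mul_one]

namespace Cert12

variable (C : Cert12 D fd fx fc fz) {ga : GA} {k : ℕ} (T : TwSpec fd fx ga k) (T2 : TwSpec2 fd fx ga k)
  (φ : F →+* F)
include C T T2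

theorem rh_lt (i : ℕ) (hi : i < fd.l) : ga.rh.getD i 0 < fd.l := (C.gsimple_spec T T2 i hi).2.2.2.2

theorem rhIt_add (a b i : ℕ) : rhIt ga (a + b) i = rhIt ga a (rhIt ga b i) := by
  unfold rhIt
  rw [Function.iterate_add_apply]

/-- `(σ x)_{ρ i} = φ (x_i)` -/
theorem sigT_rh (hk : 1 ≤ k) (x : Fin fd.l → Fˣ) (i : Fin fd.l) :
    sigT fd ga k φ x ⟨ga.rh.getD i.val 0, C.rh_lt T T2 i.val i.isLt⟩ = Units.map φ.toMonoidHom (x i) := by
  have e : rhIt ga (k - 1) (ga.rh.getD i.val 0) = i.val := by
    have h1 : ga.rh.getD i.val 0 = rhIt ga 1 i.val := rfl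
    rw [h1, ← C.rhIt_add T T2, Nat.sub_add_cancel hk, T2.rhord i.val i.isLt]
  show (if h : rhIt ga (k - 1) (ga.rh.getD i.val 0) < fd.l then
    Units.map φ.toMonoidHom (x ⟨rhIt ga (k - 1) (ga.rh.getD i.val 0), h⟩) else 1) = _
  rw [dif_pos (by rw [e]; exact i.isLt)]
  congr 2
  exact Fin.ext e

/-- the permutation of the fundamental roots is bijective -/
theorem rhF_bijective (hk : 1 ≤ k) :
    Function.Bijective (fun i : Fin fd.l => (⟨ga.rh.getD i.val 0, C.rh_lt T T2 i.val i.isLt⟩ : Fin fd.l)) := by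
  rw [← Finite.injective_iff_bijective]
  intro i j h
  have h' : ga.rh.getD i.val 0 = ga.rh.getD j.val 0 := congrArg Fin.val h
  have e : ∀ m : ℕ, m < fd.l → rhIt ga (k - 1) (ga.rh.getD m 0) = m := by
    intro m hm
    have h1 : ga.rh.getD m 0 = rhIt ga 1 m := rfl
    rw [h1, ← C.rhIt_add T T2, Nat.sub_add_cancel hk, T2.rhord m hm]
  apply Fin.ext
  rw [← e i.val i.isLt, ← e j.val j.isLt, h']

/-- the entries of `σ` of an element of the torus -/
theorem entry_sigT (hk : 1 ≤ k) (x : Fin fd.l → Fˣ) (s : Fin D.nroots) (hs : fd.gRoot ga s.val < D.nroots) :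
    entryHom D fd F (sigT fd ga k φ x) (Sum.inr ⟨fd.gRoot ga s.val, hs⟩) =
      Units.map φ.toMonoidHom (entryHom D fd F x (Sum.inr s)) := by
  have hsn : s.val < fd.n := by rw [← C.c6.c2.nroots_eq]; exact s.isLt
  show ∏ i : Fin fd.l, sigT fd ga k φ x i ^ fd.carZ i.val (fd.gRoot ga s.val) =
    Units.map φ.toMonoidHom (∏ i : Fin fd.l, x i ^ fd.carZ i.val s.val)
  rw [map_prod, ← (C.rhF_bijective T T2 hk).prod_comp]
  apply Finset.prod_congr rfl
  intro i _
  rw [C.sigT_rh T T2 φ hk x i, map_zpow]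
  simp only
  rw [T2.car i.val i.isLt s.val hsn]

/-- `σ` on the image of the torus -/
theorem sigma_chi (hk : 1 ≤ k) (x : Fin fd.l → Fˣ) :
    C.c6.c2.sigma T.ginv φ (chiHom D fd F x) = chiHom D fd F (sigT fd ga k φ x) := by
  rw [C.c6.c2.sigma_apply]
  apply gl_conj_eq
  have hl := C.c6.c2.rank_eq
  have hn := C.c6.c2.nroots_eq
  have e1 : ((Matrix.GeneralLinearGroup.map φ (chiHom D fd F x) : GL D.Idx F) : Matrix D.Idx D.Idx F) =
      Matrix.diagonal fun a => φ ((entryHom D fd F x a : Fˣ) : F) := by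
    have : ((Matrix.GeneralLinearGroup.map φ (chiHom D fd F x) : GL D.Idx F) : Matrix D.Idx D.Idx F) =
        ((chiHom D fd F x : GL D.Idx F) : Matrix D.Idx D.Idx F).map φ := rfl
    rw [this, chiHom_val]
    ext a b
    rw [Matrix.map_apply]
    by_cases hab : a = b
    · subst hab; simp
    · simp [Matrix.diagonal_apply_ne _ hab]
  rw [e1, chiHom_val]
  ext a c
  rw [Matrix.mul_diagonal, Matrix.diagonal_mul]
  show ((PZ D fd ga).map (Int.castRingHom F)) a c * _ = _ * ((PZ D fd ga).map (Int.castRingHom F)) a c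
  rw [Matrix.map_apply]
  unfold PZ
  rw [SM.dens_apply]
  by_cases h0 : SV.get (fd.pcol ga (code D c)) (code D a) = 0
  · rw [h0]; simp
  · rw [mul_comm]
    congr 1
    unfold FD.pcol at h0
    rcases c with j | s
    · have hj : Nat.blt (code D (Sum.inl j : D.Idx)) fd.l = true := by
        rw [natBlt_iff, code_inl, ← hl]; exact j.isLt
      rw [hj, cond_true, SV.get_cons, SV.get_nil, add_zero] at h0
      have ha : ga.rh.getD (code D (Sum.inl j : D.Idx)) 0 = code D a := by
        by_contra hne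
        rw [if_neg hne] at h0
        exact h0 rfl
      rw [code_inl] at ha
      have hlt := C.rh_lt T T2 j.val (by rw [← hl]; exact j.isLt)
      rcases a with j' | s'
      · show φ ((1 : Fˣ) : F) = ((1 : Fˣ) : F)
        simp
      · rw [code_inr] at ha
        omega
    · have hj : Nat.blt (code D (Sum.inr s : D.Idx)) fd.l = false := by
        rw [← Bool.not_eq_true, natBlt_iff, code_inr]; omega
      rw [hj, cond_false, SV.get_cons, SV.get_nil, add_zero] at h0
      have ha : fd.l + fd.gRoot ga (code D (Sum.inr s : D.Idx) - fd.l) = code D a := by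
        by_contra hne
        rw [if_neg hne] at h0
        exact h0 rfl
      rw [code_inr] at ha
      have e2 : D.rank + s.val - fd.l = s.val := by omega
      rw [e2] at ha
      have hsn : s.val < fd.n := by rw [← hn]; exact s.isLt
      have hg := T.gRoot_lt s.val hsn
      rcases a with j' | s'
      · rw [code_inl] at ha
        have := j'.isLt
        omega
      · rw [code_inr] at ha
        have hs' : s' = ⟨fd.gRoot ga s.val, by omega⟩ := Fin.ext (by simp only; omega)
        rw [hs', C.entry_sigT T T2 φ hk x s]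
        rfl

end Cert12

end Cfsg.Agent.Lib.H29.Chev
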