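import Mathlib
import Cfsg.Prelude.Def_ChevStructure
import Cfsg.Agent.Lib.H29.ChevTw13

/-!
# `σ` preserves the standard subgroups of the Chevalley group
-/

set_option autoImplicit false
set_option linter.unusedSectionVars false
set_option linter.unusedSimpArgs false
set_option linter.unusedVariables false

namespace Cfsg.Agent.Lib.H29.Chev

open Cfsg.Lie Matrix

variable {D : ChevalleyDatum} {fd : FD} {fx : FX} {fc : FC} {fz : FZ} {F : Type*} [Field F]

namespace Cert12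

variable (C : Cert12 D fd fx fc fz) {ga : GA} {k : ℕ} (T : TwSpec fd fx ga k) (T2 : TwSpec2 fd fx ga k)
  (φ : F →+* F)
include C T T2

theorem xA_mem_pos (s : ℕ) (hs : s < fd.n) (hpos : fd.n / 2 ≤ s) (t : F) :
    C.c6.c2.xA s t ∈ D.posUnipotent F := by
  rw [C.c6.c2.xA_of_lt s hs]
  exact C.c6.c2.xG_mem_pos s hs hpos t

theorem xA_mem_neg (s : ℕ) (hs : s < fd.n) (hneg : s < fd.n / 2) (t : F) :
    C.c6.c2.xA s t ∈ D.negUnipotent F := by
  rw [C.c6.c2.xA_of_lt s hs]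
  exact C.c6.c2.xG_mem_neg s hs hneg t

theorem gRoot_neg_of_neg (s : ℕ) (hs : s < fd.n) (hneg : s < fd.n / 2) : fd.gRoot ga s < fd.n / 2 := by
  have hev := C.c6.c2.heven
  have h1 := T.pos (fd.n - 1 - s) (by omega) (by omega)
  rw [(T.neg s hs).1] at h1
  have := T.gRoot_lt s hs
  omega

theorem sigma_pos (g : GL D.Idx F) (hg : g ∈ D.posUnipotent F) :
    C.c6.c2.sigma T.ginv φ g ∈ D.posUnipotent F := by
  unfold ChevalleyDatum.posUnipotent at hg
  induction hg using Subgroup.closure_induction with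
  | mem x hx =>
    obtain ⟨r, t, hpos, hx⟩ := hx
    obtain ⟨hr, hpr⟩ := (C.c6.isPos_iff r).mp hpos
    have : x = C.c6.c2.xA r t := gl_ext (by rw [hx, C.c6.c2.xA_val])
    rw [this, C.c6.c2.sigma_xA T.ginv T.graph φ r hr]
    exact C.xA_mem_pos T T2 _ (T.gRoot_lt r hr) (T.pos r hr hpr) _
  | one => rw [map_one]; exact one_mem _
  | mul x y _ _ hx hy => rw [map_mul]; exact mul_mem hx hy
  | inv x _ hx => rw [map_inv]; exact inv_mem hx

theorem sigma_neg (g : GL D.Idx F) (hg : g ∈ D.negUnipotent F) :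
    C.c6.c2.sigma T.ginv φ g ∈ D.negUnipotent F := by
  unfold ChevalleyDatum.negUnipotent at hg
  induction hg using Subgroup.closure_induction with
  | mem x hx =>
    obtain ⟨r, t, hneg, hx⟩ := hx
    obtain ⟨hnr, hr⟩ := (isNeg_iff C.c6.c2.agrees C.c6.c2.lev r).mp hneg
    have : x = C.c6.c2.xA r t := gl_ext (by rw [hx, C.c6.c2.xA_val])
    rw [this, C.c6.c2.sigma_xA T.ginv T.graph φ r hr]
    exact C.xA_mem_neg T T2 _ (T.gRoot_lt r hr) (C.gRoot_neg_of_neg T T2 r hr hnr) _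
  | one => rw [map_one]; exact one_mem _
  | mul x y _ _ hx hy => rw [map_mul]; exact mul_mem hx hy
  | inv x _ hx => rw [map_inv]; exact inv_mem hx

theorem sigma_diag (hk : 1 ≤ k) (g : GL D.Idx F) (hg : g ∈ D.diagonalSubgroup F) :
    C.c6.c2.sigma T.ginv φ g ∈ D.diagonalSubgroup F := by
  rw [C.diag_eq_range] at hg ⊢
  obtain ⟨x, rfl⟩ := hg
  rw [C.sigma_chi T T2 φ hk]
  exact ⟨_, rfl⟩

theorem sigma_nG_simple (i : ℕ) (hi : i < fd.l) :
    C.c6.c2.sigma T.ginv φ (C.c6.c2.nG (fd.simples.getD i 0) (C.c6.c2.simple_lt i hi)) =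
      C.c6.c2.nG (fd.simples.getD (ga.rh.getD i 0) 0) (C.c6.c2.simple_lt _ (C.rh_lt T T2 i hi)) := by
  have hp := C.c6.c2.simple_lt i hi
  obtain ⟨s1, s2, s3, s4, _⟩ := C.gsimple_spec T T2 i hi
  rw [C.nG_eq_xA T T2, C.nG_eq_xA T T2, map_mul, map_mul, C.c6.c2.sigma_xA T.ginv T.graph φ _ hp,
    C.c6.c2.sigma_xA T.ginv T.graph φ _ (by omega), s1, s2, s3, s4]
  simp

theorem sigma_monomial (hk : 1 ≤ k) (g : GL D.Idx F) (hg : g ∈ D.monomialSubgroup F) :
    C.c6.c2.sigma T.ginv φ g ∈ D.monomialSubgroup F := by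
  rw [← C.c6.closure_SSet_sup_diag, ← Subgroup.closure_eq (D.diagonalSubgroup F), ← Subgroup.closure_union] at hg
  induction hg using Subgroup.closure_induction with
  | mem x hx =>
    rcases hx with hx | hx
    · obtain ⟨i, hi, rfl⟩ := C.c6.eq_nG_of_SSet x hx
      rw [C.sigma_nG_simple T T2 φ i hi]
      exact C.c6.c2.nG_mem_monomial _ _
    · exact (le_sup_left : D.diagonalSubgroup F ≤ D.monomialSubgroup F) (C.sigma_diag T T2 φ hk x hx)
  | one => rw [map_one]; exact one_mem _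
  | mul x y _ _ hx hy => rw [map_mul]; exact mul_mem hx hy
  | inv x _ hx => rw [map_inv]; exact inv_mem hx

/-- `σ` maps `U_m⁻` into `U_{σ m}⁻` -/
theorem sigma_Uw (hφ : Function.Surjective φ) (m : GL D.Idx F) (u : GL D.Idx F) (hu : u ∈ Uw D F m) :
    C.c6.c2.sigma T.ginv φ u ∈ Uw D F (C.c6.c2.sigma T.ginv φ m) := by
  unfold Uw at hu
  induction hu using Subgroup.closure_induction with
  | mem x hx =>
    obtain ⟨r, t, hpos, hle, hx⟩ := hx
    obtain ⟨hr, hpr⟩ := (C.c6.isPos_iff r).mp hpos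
    have : x = C.c6.c2.xA r t := gl_ext (by rw [hx, C.c6.c2.xA_val])
    rw [this, C.c6.c2.sigma_xA T.ginv T.graph φ r hr]
    apply Subgroup.subset_closure
    refine ⟨fd.gRoot ga r, _, (C.c6.isPos_iff _).mpr ⟨T.gRoot_lt r hr, T.pos r hr hpr⟩, ?_, C.c6.c2.xA_val _ _⟩
    rw [C.c6.map_conj_le_neg_iff] at hle ⊢
    intro t'
    obtain ⟨t₀, ht₀⟩ := hφ (((fd.gEps ga r : ℤ) : F) * t')
    have e : t' = ((fd.gEps ga r : ℤ) : F) * φ t₀ := by
      rw [ht₀, ← mul_assoc, ← Int.cast_mul, fd.gEps_sq, Int.cast_one, one_mul]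
    rw [e, ← C.c6.c2.sigma_xA T.ginv T.graph φ r hr, ← map_inv, ← map_mul, ← map_mul]
    exact C.sigma_neg T T2 φ _ (hle t₀)
  | one => rw [map_one]; exact one_mem _
  | mul x y _ _ hx hy => rw [map_mul]; exact mul_mem hx hy
  | inv x _ hx => rw [map_inv]; exact inv_mem hx

/-- the permutation of the roots of a `σ`-fixed element of `N` commutes with `ρ` -/
theorem perm_comm_rho (m : GL D.Idx F) (hfix : C.c6.c2.sigma T.ginv φ m = m) (π : ℕ → ℕ)
    (hπ : C.c6.c2.Perm m π) (s : ℕ) (hs : s < fd.n) : π (fd.gRoot ga s) = fd.gRoot ga (π s) := by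
  obtain ⟨h1, _, c, hc⟩ := hπ s hs
  obtain ⟨h1', _, c', hc'⟩ := hπ _ (T.gRoot_lt s hs)
  have e := congrArg (C.c6.c2.sigma T.ginv φ) (hc 1)
  rw [map_mul, map_mul, map_inv, hfix, C.c6.c2.sigma_xA T.ginv T.graph φ s hs,
    C.c6.c2.sigma_xA T.ginv T.graph φ _ h1, hc'] at e
  have hc0 : c ≠ 0 := by
    intro h0
    have := hc 1
    rw [h0, zero_mul, C.c6.c2.xA_zero] at this
    have h2 : C.c6.c2.xA s (1 : F) = 1 := by
      have : C.c6.c2.xA s (1 : F) = m⁻¹ * (m * C.c6.c2.xA s 1 * m⁻¹) * m := by group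
      rw [this, ‹m * C.c6.c2.xA s 1 * m⁻¹ = 1›]; group
    exact one_ne_zero (C.c6.xA_eq_one s hs 1 h2)
  have hε : ∀ r, ((fd.gEps ga r : ℤ) : F) ≠ 0 := by
    intro r h0
    have := fd.gEps_sq ga r
    have h2 : ((fd.gEps ga r * fd.gEps ga r : ℤ) : F) = 1 := by rw [this, Int.cast_one]
    rw [Int.cast_mul, h0, zero_mul] at h2
    exact zero_ne_one h2
  have hc0' : c' ≠ 0 := by
    intro h0
    rw [h0, zero_mul, C.c6.c2.xA_zero] at e
    have h3 := C.c6.xA_eq_one _ (T.gRoot_lt _ h1) _ e.symm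
    rcases mul_eq_zero.mp h3 with h4 | h4
    · exact hε _ h4
    · rw [mul_one] at h4
      exact hc0 ((map_eq_zero φ).mp h4)
  exact C.xA_inj _ _ h1' (T.gRoot_lt _ h1) _ _
    (mul_ne_zero hc0' (mul_ne_zero (hε s) (by rw [map_one]; exact one_ne_zero))) e

end Cert12

end Cfsg.Agent.Lib.H29.Chev
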