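import Mathlib
import Cfsg.Prelude.Def_ChevStructure
import Cfsg.Agent.Lib.H29.ChevTw14

/-!
# The `σ`-fixed elements of the diagonal subgroup
-/

set_option autoImplicit false
set_option linter.unusedSectionVars false
set_option linter.unusedSimpArgs false
set_option linter.unusedVariables false

namespace Cfsg.Agent.Lib.H29.Chev

open Cfsg.Lie Matrix

variable {D : ChevalleyDatum} {fd : FD} {fx : FX} {fc : FC} {fz : FZ} {F : Type*} [Field F]

/-- elements of the kernel of `torusHom M` have exponent `e` when `M B = e` -/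
theorem torus_ker_exp {l : ℕ} {A : Type*} [CommGroup A] (M B : Matrix (Fin l) (Fin l) ℤ) (e : ℕ)
    (hMB : M * B = (e : ℤ) • (1 : Matrix (Fin l) (Fin l) ℤ)) (z : Fin l → A)
    (hz : torusHom M z = 1) : z ^ e = 1 := by
  have h1 : torusHom (M * B) z = 1 := by rw [← torusHom_comp, hz, map_one]
  rw [hMB] at h1
  funext j
  have := congrFun h1 j
  rw [torusHom_apply, Finset.prod_eq_single j] at this
  · simpa using this
  · intro i _ hij
    simp [Matrix.one_apply_ne hij]
  · intro h; exact absurd (Finset.mem_univ j) h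

/-- the cohomological computation on the torus -/
theorem torus_fix_lift {A : Type*} [CommGroup A] (s : A →* A) (k e : ℕ) (hke : (k = 3 ∧ e = 2) ∨ (k = 2 ∧ e = 3))
    (hs : ∀ x, s^[k] x = x) (x z : A) (hxz : s x = x * z) (hz : z ^ e = 1) : s (x * s z) = x * s z := by
  rcases hke with ⟨rfl, rfl⟩ | ⟨rfl, rfl⟩
  · have h3 := hs x
    simp only [Function.iterate_succ, Function.iterate_zero, Function.comp, id] at h3
    rw [hxz, map_mul, hxz, map_mul, map_mul, hxz] at h3
    have h4 : z * s z * s (s z) = 1 := by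
      have : x * z * s z * s (s z) = x * (z * s z * s (s z)) := by group
      rw [this] at h3
      exact mul_eq_left.mp h3
    have h5 : s z * s z = 1 := by rw [← map_mul, ← pow_two, hz, map_one]
    rw [map_mul, hxz]
    have : z * s (s z) = s z := by
      have e1 : z * s (s z) * s z = 1 := by rw [mul_right_comm]; exact h4
      rw [eq_inv_of_mul_eq_one_left e1, inv_eq_iff_eq_inv, eq_inv_iff_mul_eq_one, h5]
    rw [mul_assoc, this]
  · have h3 := hs x
    simp only [Function.iterate_succ, Function.iterate_zero, Function.comp, id] at h3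
    rw [hxz, map_mul, hxz] at h3
    have h4 : z * s z = 1 := by
      have : x * z * s z = x * (z * s z) := by group
      rw [this] at h3
      exact mul_eq_left.mp h3
    have h5 : s (s z) = z := by
      have := hs z
      simpa only [Function.iterate_succ, Function.iterate_zero, Function.comp, id] using this
    rw [map_mul, hxz, h5]
    have h6 : s z = z⁻¹ := by rw [eq_inv_iff_mul_eq_one, mul_comm]; exact h4
    rw [h6]
    have h7 : z * z = z⁻¹ := by
      rw [eq_inv_iff_mul_eq_one]
      have : z * z * z = z ^ 3 := by rw [pow_succ, pow_two]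
      rw [this, hz]
    rw [mul_assoc, h7]

namespace Cert12

variable (C : Cert12 D fd fx fc fz) {ga : GA} {k : ℕ} (T : TwSpec fd fx ga k) (T2 : TwSpec2 fd fx ga k)
  (φ : F →+* F)
include C T T2

/-- the `σ`-fixed elements of `H` come from the `σ`-fixed elements of the torus -/
theorem fix_diag_le (e : ℕ) (hke : (k = 3 ∧ e = 2) ∨ (k = 2 ∧ e = 3))
    (B : Matrix (Fin fd.l) (Fin fd.l) ℤ) (hB : cartM fd * B = (e : ℤ) • (1 : Matrix (Fin fd.l) (Fin fd.l) ℤ))
    (hs : ∀ x : Fin fd.l → Fˣ, (sigT fd ga k φ)^[k] x = x) :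
    fixS (C.c6.c2.sigma T.ginv φ) ⊓ D.diagonalSubgroup F ≤ (fixS (sigT fd ga k φ)).map (chiHom D fd F) := by
  have hk : 1 ≤ k := by omega
  intro h hh
  obtain ⟨h1, h2⟩ := Subgroup.mem_inf.mp hh
  rw [mem_fixS] at h1
  rw [C.diag_eq_range] at h2
  obtain ⟨x, rfl⟩ := h2
  rw [C.sigma_chi T T2 φ hk] at h1
  set z := (sigT fd ga k φ x) * x⁻¹ with hz
  have hzk : z ∈ (chiHom D fd F).ker := by
    rw [MonoidHom.mem_ker, hz, map_mul, map_inv, h1, mul_inv_cancel]
  rw [C.ker_chi, MonoidHom.mem_ker] at hzk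
  have hze := torus_ker_exp (cartM fd) B e hB z hzk
  have hxz : sigT fd ga k φ x = x * z := by rw [hz, mul_comm (sigT fd ga k φ x), mul_inv_cancel_left]
  have key := torus_fix_lift (sigT fd ga k φ) k e hke hs x z hxz hze
  refine ⟨x * sigT fd ga k φ z, (mem_fixS _ _).mpr key, ?_⟩
  rw [map_mul, ← C.sigma_chi T T2 φ hk]
  have : chiHom D fd F z = 1 := by
    have : z ∈ (chiHom D fd F).ker := by rw [C.ker_chi, MonoidHom.mem_ker]; exact hzk
    exact this
  rw [this, map_one, mul_one]

/-- conversely the images of the `σ`-fixed elements of the torus are `σ`-fixed elements of `H` -/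
theorem map_fix_le (hk : 1 ≤ k) :
    (fixS (sigT fd ga k φ)).map (chiHom D fd F) ≤ fixS (C.c6.c2.sigma T.ginv φ) ⊓ D.diagonalSubgroup F := by
  rintro h ⟨x, hx, rfl⟩
  refine Subgroup.mem_inf.mpr ⟨?_, ?_⟩
  · rw [mem_fixS, C.sigma_chi T T2 φ hk, (mem_fixS _ _).mp hx]
  · rw [C.diag_eq_range]; exact ⟨x, rfl⟩

end Cert12

end Cfsg.Agent.Lib.H29.Chev
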