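import Mathlib
import Cfsg.Prelude.Def_ChevStructure
import Cfsg.Agent.Lib.H29.ChevGen45

/-!
# The order of `H` from a diagonalisation of the Cartan matrix
-/

set_option autoImplicit false
set_option linter.unusedSectionVars false
set_option linter.unusedSimpArgs false
set_option linter.unusedVariables false

namespace Cfsg.Agent.Lib.H29.Chev

open Cfsg.Lie Matrix

variable {D : ChevalleyDatum} {fd : FD} {fx : FX} {fc : FC} {fz : FZ} {F : Type*} [Field F]

/-- the entry `(i, j)` of a table -/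
def tblGet (M : List (List ℤ)) (i j : ℕ) : ℤ := (M.getD i []).getD j 0

/-- unimodular matrices `P`, `Q` with inverses `P'`, `Q'`, and the diagonal of `P A Q` -/
structure FS where
  P : List (List ℤ)
  P' : List (List ℤ)
  Q : List (List ℤ)
  Q' : List (List ℤ)
  d : List ℕ

def FD.ChkSmith (fd : FD) (fs : FS) : Prop :=
  (∀ i < fd.l, ∀ k < fd.l,
    ∑ j ∈ Finset.range fd.l, tblGet fs.P i j * tblGet fs.P' j k = if i = k then 1 else 0) ∧
  (∀ i < fd.l, ∀ k < fd.l,
    ∑ j ∈ Finset.range fd.l, tblGet fs.Q i j * tblGet fs.Q' j k = if i = k then 1 else 0) ∧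
  (∀ i < fd.l, ∀ k < fd.l,
    ∑ a ∈ Finset.range fd.l, ∑ b ∈ Finset.range fd.l,
      tblGet fs.P i a * fd.carZ a (fd.simples.getD b 0) * tblGet fs.Q b k =
        if i = k then ((fs.d.getD i 0 : ℕ) : ℤ) else 0)

instance (fd : FD) (fs : FS) : Decidable (fd.ChkSmith fs) := by
  unfold FD.ChkSmith
  infer_instance

namespace Cert12

variable (C : Cert12 D fd fx fc fz)
include C

/-- the order of `H` -/
theorem card_diag_smith [Finite F] (fs : FS) (h : fd.ChkSmith fs) :
    (∏ i ∈ Finset.range fd.l, (Nat.card F - 1).gcd (fs.d.getD i 0)) * Nat.card (D.diagonalSubgroup F) =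
      (Nat.card F - 1) ^ fd.l := by
  obtain ⟨h1, h2, h3⟩ := h
  have key := C.card_diag (F := F)
    (Matrix.of fun i j : Fin fd.l => tblGet fs.P i.val j.val)
    (Matrix.of fun i j : Fin fd.l => tblGet fs.P' i.val j.val)
    (Matrix.of fun i j : Fin fd.l => tblGet fs.Q i.val j.val)
    (Matrix.of fun i j : Fin fd.l => tblGet fs.Q' i.val j.val)
    (fun i => fs.d.getD i.val 0) ?_ ?_ ?_
  · rw [← Fin.prod_univ_eq_prod_range (fun i => (Nat.card F - 1).gcd (fs.d.getD i 0)) fd.l]
    exact key
  · ext i k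
    rw [Matrix.mul_apply]
    simp only [Matrix.of_apply]
    rw [Fin.sum_univ_eq_sum_range (fun j => tblGet fs.P i.val j * tblGet fs.P' j k.val) fd.l,
      h1 i.val i.isLt k.val k.isLt, Matrix.one_apply]
    simp only [Fin.ext_iff]
  · ext i k
    rw [Matrix.mul_apply]
    simp only [Matrix.of_apply]
    rw [Fin.sum_univ_eq_sum_range (fun j => tblGet fs.Q i.val j * tblGet fs.Q' j k.val) fd.l,
      h2 i.val i.isLt k.val k.isLt, Matrix.one_apply]
    simp only [Fin.ext_iff]
  · ext i k
    rw [Matrix.mul_apply]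
    simp only [Matrix.mul_apply, Matrix.of_apply, cartM, Finset.sum_mul]
    rw [Finset.sum_comm]
    have e : ∀ a : Fin fd.l, ∑ b : Fin fd.l,
        tblGet fs.P i.val a.val * fd.carZ a.val (fd.simples.getD b.val 0) * tblGet fs.Q b.val k.val =
        ∑ b ∈ Finset.range fd.l, tblGet fs.P i.val a.val * fd.carZ a.val (fd.simples.getD b 0) * tblGet fs.Q b k.val :=
      fun a => Fin.sum_univ_eq_sum_range
        (fun b => tblGet fs.P i.val a.val * fd.carZ a.val (fd.simples.getD b 0) * tblGet fs.Q b k.val) fd.l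
    rw [Finset.sum_congr rfl (fun a _ => e a),
      Fin.sum_univ_eq_sum_range (fun a => ∑ b ∈ Finset.range fd.l,
        tblGet fs.P i.val a * fd.carZ a (fd.simples.getD b 0) * tblGet fs.Q b k.val) fd.l,
      h3 i.val i.isLt k.val k.isLt, Matrix.diagonal_apply]
    simp only [Fin.ext_iff]

end Cert12

end Cfsg.Agent.Lib.H29.Chev
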