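import Mathlib
import Cfsg.Prelude.Def_ChevStructure
import Cfsg.Agent.Lib.H29.ChevTw13
import Cfsg.Agent.Lib.H29.ChevTw12

/-!
# The elements `h_S(t)` of the twisted group
-/

set_option autoImplicit false
set_option linter.unusedSectionVars false
set_option linter.unusedSimpArgs false
set_option linter.unusedVariables false

namespace Cfsg.Agent.Lib.H29.Chev

open Cfsg.Lie Matrix

variable {D : ChevalleyDatum} {fd : FD} {fx : FX} {fc : FC} {fz : FZ} {F : Type*} [Field F]

theorem list_prod_mul_prod {G : Type*} [Group G] (f g : ℕ → G) (m : ℕ)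
    (h : ∀ i < m, ∀ j < m, i ≠ j → Commute (f i) (g j)) :
    ((List.range m).map f).prod * ((List.range m).map g).prod = ((List.range m).map fun j => f j * g j).prod := by
  induction m with
  | zero => simp
  | succ m ih =>
    rw [List.range_succ, List.map_append, List.map_append, List.map_append, List.prod_append, List.prod_append,
      List.prod_append]
    simp only [List.map_cons, List.map_nil, List.prod_cons, List.prod_nil, mul_one]
    have hc : Commute (f m) ((List.range m).map g).prod := by
      apply Commute.list_prod_right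
      intro x hx
      obtain ⟨j, hj, rfl⟩ := List.mem_map.mp hx
      rw [List.mem_range] at hj
      exact h m (by omega) j (by omega) (by omega)
    rw [← ih (fun i hi j hj hij => h i (by omega) j (by omega) hij)]
    calc ((List.range m).map f).prod * f m * (((List.range m).map g).prod * g m)
        = ((List.range m).map f).prod * (f m * ((List.range m).map g).prod) * g m := by group
      _ = ((List.range m).map f).prod * (((List.range m).map g).prod * f m) * g m := by rw [hc.eq]
      _ = _ := by group

/-- the product of the products of the columns is the product of the products of the rows when the entries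
in different rows commute -/
theorem prod_swap {G : Type*} [Group G] (L : List (ℕ → G)) (m : ℕ)
    (h : ∀ f ∈ L, ∀ g ∈ L, ∀ i < m, ∀ j < m, i ≠ j → Commute (f i) (g j)) :
    (L.map fun f => ((List.range m).map f).prod).prod =
      ((List.range m).map fun j => (L.map fun f => f j).prod).prod := by
  induction L with
  | nil =>
    simp only [List.map_nil, List.prod_nil]
    symm
    apply List.prod_eq_one
    intro x hx
    obtain ⟨j, _, rfl⟩ := List.mem_map.mp hx
    rfl
  | cons f L ih =>
    rw [List.map_cons, List.prod_cons, ih (fun f' hf' g hg => h f' (List.mem_cons_of_mem _ hf') g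
      (List.mem_cons_of_mem _ hg))]
    rw [list_prod_mul_prod]
    · simp only [List.map_cons, List.prod_cons]
    · intro i hi j hj hij
      apply Commute.list_prod_right
      intro x hx
      obtain ⟨g, hg, rfl⟩ := List.mem_map.mp hx
      exact h f List.mem_cons_self g (List.mem_cons_of_mem _ hg) i hi j hj hij

theorem prod_ite_eq_pow {M : Type*} [Monoid M] (y : M) (p : ℕ → Bool) (L : List ℕ) :
    (L.map fun j => if p j = true then y else 1).prod = y ^ L.countP p := by
  induction L with
  | nil => simp
  | cons a L ih =>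
    rw [List.map_cons, List.prod_cons, ih, List.countP_cons]
    by_cases h : p a = true
    · rw [if_pos h, if_pos h, pow_succ']
    · rw [if_neg h, if_neg h, one_mul, add_zero]

theorem prod_pow_eq_pow_sum {M : Type*} [Monoid M] (y : M) (f : ℕ → ℕ) (L : List ℕ) :
    (L.map fun i => y ^ f i).prod = y ^ (L.map f).sum := by
  induction L with
  | nil => simp
  | cons a L ih => rw [List.map_cons, List.prod_cons, ih, List.map_cons, List.sum_cons, pow_add]

theorem units_iterate_val (φ : F →+* F) (j : ℕ) (u : Fˣ) :
    (((Units.map φ.toMonoidHom)^[j] u : Fˣ) : F) = φ^[j] (u : F) := by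
  induction j with
  | zero => rfl
  | succ j ih =>
    rw [Function.iterate_succ_apply', Function.iterate_succ_apply', ← ih]
    rfl

theorem iterate_neg_inv (φ : F →+* F) (j : ℕ) (t : F) : φ^[j] (-t⁻¹) = -(φ^[j] t)⁻¹ := by
  induction j with
  | zero => rfl
  | succ j ih =>
    rw [Function.iterate_succ_apply', Function.iterate_succ_apply', ih, map_neg, map_inv₀]

/-- the element of the torus attached to the orbit of the `i`-th fundamental root -/
def yS (fd : FD) (ga : GA) (k : ℕ) (φ : F →+* F) (i : ℕ) (u : Fˣ) : Fin fd.l → Fˣ :=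
  ((List.range (if ga.rh.getD i 0 = i then 1 else k)).map fun j =>
    if h : rhIt ga j i < fd.l then Pi.mulSingle (⟨rhIt ga j i, h⟩ : Fin fd.l) ((Units.map φ.toMonoidHom)^[j] u)
    else 1).prod

namespace Cert12

variable (C : Cert12 D fd fx fc fz) {ga : GA} {k : ℕ} (T : TwSpec fd fx ga k) (T2 : TwSpec2 fd fx ga k)
  (φ : F →+* F)

/-- the word `h_S(t)` in the generators of the twisted group -/
noncomputable def hS (ga : GA) (k : ℕ) (φ : F →+* F) (i : ℕ) (t : F) : GL D.Idx F :=
  C.xS ga k φ (fd.simples.getD i 0) t * C.xS ga k φ (fd.n - 1 - fd.simples.getD i 0) (-t⁻¹) *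
    C.xS ga k φ (fd.simples.getD i 0) t *
  (C.xS ga k φ (fd.simples.getD i 0) (-1) * C.xS ga k φ (fd.n - 1 - fd.simples.getD i 0) (-(-1 : F)⁻¹) *
    C.xS ga k φ (fd.simples.getD i 0) (-1))

include C T T2

theorem xS_simple (i : ℕ) (hi : i < fd.l) (t : F) :
    C.xS ga k φ (fd.simples.getD i 0) t =
      ((List.range (if ga.rh.getD i 0 = i then 1 else k)).map fun j =>
        C.c6.c2.xA (fd.simples.getD (rhIt ga j i) 0) (φ^[j] t)).prod ∧
    C.xS ga k φ (fd.n - 1 - fd.simples.getD i 0) t =
      ((List.range (if ga.rh.getD i 0 = i then 1 else k)).map fun j =>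
        C.c6.c2.xA (fd.n - 1 - fd.simples.getD (rhIt ga j i) 0) (φ^[j] t)).prod := by
  obtain ⟨o1, o2⟩ := C.os_simple T T2 i hi
  unfold xS
  rw [o1, o2]
  constructor
  · congr 1
    apply List.map_congr_left
    intro j _
    exact (C.aj_simple T T2 φ j i hi t).1
  · congr 1
    apply List.map_congr_left
    intro j _
    exact (C.aj_simple T T2 φ j i hi t).2

/-- `h_S(t)` is the image of an element of the torus -/
theorem hS_eq (i : ℕ) (hi : i < fd.l) (u : Fˣ) :
    C.hS ga k φ i (u : F) = chiHom D fd F (yS fd ga k φ i u) := by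
  unfold hS yS
  set m := (if ga.rh.getD i 0 = i then 1 else k) with hm
  have hl : ∀ a, rhIt ga a i < fd.l := fun a => C.rhIt_lt T T2 a i hi
  -- the columns
  let A : F → ℕ → GL D.Idx F := fun t j => C.c6.c2.xA (fd.simples.getD (rhIt ga j i) 0) (φ^[j] t)
  let B : F → ℕ → GL D.Idx F := fun t j => C.c6.c2.xA (fd.n - 1 - fd.simples.getD (rhIt ga j i) 0) (φ^[j] t)
  have eA : ∀ t, C.xS ga k φ (fd.simples.getD i 0) t = ((List.range m).map (A t)).prod :=
    fun t => (C.xS_simple T T2 φ i hi t).1
  have eB : ∀ t, C.xS ga k φ (fd.n - 1 - fd.simples.getD i 0) t = ((List.range m).map (B t)).prod :=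
    fun t => (C.xS_simple T T2 φ i hi t).2
  have hcomm : ∀ f ∈ [A (u : F), B (-(u : F)⁻¹), A (u : F), A (-1), B (-(-1 : F)⁻¹), A (-1)],
      ∀ g ∈ [A (u : F), B (-(u : F)⁻¹), A (u : F), A (-1), B (-(-1 : F)⁻¹), A (-1)],
      ∀ a < m, ∀ b < m, a ≠ b → Commute (f a) (g b) := by
    intro f hf g hg a ha b hb hab
    have hne : ga.rh.getD i 0 ≠ i := by
      intro h
      rw [hm, if_pos h] at ha hb
      omega
    rw [hm, if_neg hne] at ha hb
    have hf' : ∃ t, f = A t ∨ f = B t := by
      simp only [List.mem_cons, List.not_mem_nil, or_false] at hf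
      rcases hf with h | h | h | h | h | h
      · exact ⟨_, Or.inl h⟩
      · exact ⟨_, Or.inr h⟩
      · exact ⟨_, Or.inl h⟩
      · exact ⟨_, Or.inl h⟩
      · exact ⟨_, Or.inr h⟩
      · exact ⟨_, Or.inl h⟩
    have hg' : ∃ t, g = A t ∨ g = B t := by
      simp only [List.mem_cons, List.not_mem_nil, or_false] at hg
      rcases hg with h | h | h | h | h | h
      · exact ⟨_, Or.inl h⟩
      · exact ⟨_, Or.inr h⟩
      · exact ⟨_, Or.inl h⟩
      · exact ⟨_, Or.inl h⟩
      · exact ⟨_, Or.inr h⟩
      · exact ⟨_, Or.inl h⟩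
    obtain ⟨t, rfl | rfl⟩ := hf' <;> obtain ⟨s, rfl | rfl⟩ := hg'
    · exact C.cPP T T2 i hi hne a b ha hb hab _ _
    · exact (C.cNP T T2 i hi hne a b ha hb hab _ _).symm
    · exact C.cNP T T2 i hi hne b a hb ha (Ne.symm hab) _ _
    · exact C.cNN T T2 i hi hne a b ha hb hab _ _
  have key := prod_swap [A (u : F), B (-(u : F)⁻¹), A (u : F), A (-1), B (-(-1 : F)⁻¹), A (-1)] m hcomm
  simp only [List.map_cons, List.map_nil, List.prod_cons, List.prod_nil, mul_one] at key
  rw [eA, eB, eA, eB]
  have e1 : ∀ a b c d e f : GL D.Idx F, a * b * c * (d * e * f) = a * (b * (c * (d * (e * f)))) := by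
    intro a b c d e f; group
  rw [e1, key, map_list_prod, List.map_map]
  congr 1
  apply List.map_congr_left
  intro j _
  simp only [Function.comp]
  rw [dif_pos (hl j)]
  apply gl_ext
  have hp := C.c6.c2.simple_lt _ (hl j)
  rw [C.chi_single ⟨rhIt ga j i, hl j⟩, units_iterate_val]
  simp only [A, B, Units.val_mul, C.c6.c2.xA_val]
  rw [iterate_neg_inv, iterate_hom_neg_one, iterate_neg_inv, iterate_hom_neg_one]
  unfold ChevalleyDatum.hMat ChevalleyDatum.hWord ChevalleyDatum.nWord ChevalleyDatum.wordMat
  rw [C.c6.c2.agrees.neg_eq' _ hp]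
  simp only [List.cons_append, List.nil_append, List.map_cons, List.map_nil, List.prod_cons, List.prod_nil, mul_one]

end Cert12

end Cfsg.Agent.Lib.H29.Chev
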