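import Mathlib
import Cfsg.Prelude.Def_ChevStructure
import Cfsg.Agent.Lib.H29.ChevTw13
import Cfsg.Agent.Lib.H29.ChevTw20
import Cfsg.Agent.Lib.H29.ChevGen46

/-!
# The order of `σ` on the torus, and multiples of the inverse of the Cartan matrix
-/

set_option autoImplicit false
set_option linter.unusedSectionVars false
set_option linter.unusedSimpArgs false
set_option linter.unusedVariables false

namespace Cfsg.Agent.Lib.H29.Chev

open Cfsg.Lie Matrix

variable {D : ChevalleyDatum} {fd : FD} {fx : FX} {fc : FC} {fz : FZ} {F : Type*} [Field F]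

/-- the table `Bl` is `e` times the inverse of the Cartan matrix -/
def FD.ChkCartB (fd : FD) (Bl : List (List ℤ)) (e : ℕ) : Prop :=
  ∀ i < fd.l, ∀ k < fd.l,
    ∑ j ∈ Finset.range fd.l, fd.carZ i (fd.simples.getD j 0) * tblGet Bl j k = if i = k then (e : ℤ) else 0

instance (fd : FD) (Bl : List (List ℤ)) (e : ℕ) : Decidable (fd.ChkCartB Bl e) := by
  unfold FD.ChkCartB
  infer_instance

theorem cartB_of_chk (Bl : List (List ℤ)) (e : ℕ) (h : fd.ChkCartB Bl e) :
    Cert12.cartM fd * (Matrix.of fun i j : Fin fd.l => tblGet Bl i.val j.val) =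
      (e : ℤ) • (1 : Matrix (Fin fd.l) (Fin fd.l) ℤ) := by
  ext i k
  rw [Matrix.mul_apply]
  simp only [Matrix.of_apply, Cert12.cartM]
  rw [Fin.sum_univ_eq_sum_range (fun j => fd.carZ i.val (fd.simples.getD j 0) * tblGet Bl j k.val) fd.l,
    h i.val i.isLt k.val k.isLt, Matrix.smul_apply, Matrix.one_apply]
  simp only [Fin.ext_iff]
  split_ifs <;> simp

namespace Cert12

variable (C : Cert12 D fd fx fc fz) {ga : GA} {k : ℕ} (T : TwSpec fd fx ga k) (T2 : TwSpec2 fd fx ga k)
  (φ : F →+* F)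
include C T T2

theorem rhIt_mul (m i : ℕ) (hi : i < fd.l) : rhIt ga (k * m) i = i := by
  induction m with
  | zero => rfl
  | succ m ih => rw [Nat.mul_succ, C.rhIt_add T T2, T2.rhord i hi, ih]

theorem sigT_iterate (hk : 1 ≤ k) (j : ℕ) (x : Fin fd.l → Fˣ) (i : Fin fd.l) :
    ((sigT fd ga k φ)^[j] x) i =
      (Units.map φ.toMonoidHom)^[j] (x ⟨rhIt ga (j * (k - 1)) i.val, C.rhIt_lt T T2 _ i.val i.isLt⟩) := by
  induction j generalizing i with
  | zero =>
    simp only [Function.iterate_zero, id, Nat.zero_mul]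
    rfl
  | succ j ih =>
    rw [Function.iterate_succ_apply', Function.iterate_succ_apply']
    have hl := C.rhIt_lt T T2 (k - 1) i.val i.isLt
    show (if h : rhIt ga (k - 1) i.val < fd.l then
      Units.map φ.toMonoidHom (((sigT fd ga k φ)^[j] x) ⟨rhIt ga (k - 1) i.val, h⟩) else 1) = _
    rw [dif_pos hl, ih]
    congr 3
    apply Fin.ext
    show rhIt ga (j * (k - 1)) (rhIt ga (k - 1) i.val) = rhIt ga ((j + 1) * (k - 1)) i.val
    rw [← C.rhIt_add T T2, Nat.succ_mul]

/-- `σ` has order dividing `k` on the torus -/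
theorem sigT_pow (hk : 1 ≤ k) (hφk : ∀ x : F, φ^[k] x = x) (x : Fin fd.l → Fˣ) :
    (sigT fd ga k φ)^[k] x = x := by
  funext i
  rw [C.sigT_iterate T T2 φ hk]
  apply Units.ext
  rw [units_iterate_val, hφk]
  congr 2
  apply Fin.ext
  exact C.rhIt_mul T T2 (k - 1) i.val i.isLt

end Cert12

end Cfsg.Agent.Lib.H29.Chev
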