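import Mathlib
import Cfsg.Prelude.Def_ChevAutomorphisms
import Cfsg.Agent.Lib.H29.ChevGen45
import Cfsg.Agent.Lib.H29.ChevGen33
import Cfsg.Agent.Lib.H29.ChevTw3
import Cfsg.Agent.Lib.H29.ChevTw15
import Cfsg.Agent.Lib.H29.ChevTw23

/-!
# Base change of Chevalley groups along a homomorphism of fields
-/

set_option autoImplicit false
set_option linter.unusedSectionVars false
set_option linter.unusedSimpArgs false
set_option linter.unusedVariables false

namespace Cfsg.Agent.Lib.H29.Chev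

open Cfsg.Lie Matrix

variable {D : ChevalleyDatum} {fd : FD} {fx : FX} {fc : FC} {fz : FZ} {F : Type*} [Field F] {K : Type*} [Field K]

/-- base change of invertible matrices -/
noncomputable abbrev bc (D : ChevalleyDatum) (ι : K →+* F) : GL D.Idx K →* GL D.Idx F :=
  Matrix.GeneralLinearGroup.map ι

theorem bc_val (ι : K →+* F) (g : GL D.Idx K) :
    ((bc D ι g : GL D.Idx F) : Matrix D.Idx D.Idx F) = ((g : GL D.Idx K) : Matrix D.Idx D.Idx K).map ι := rfl

theorem bc_injective (ι : K →+* F) : Function.Injective (bc D ι) := by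
  intro g g' h
  apply gl_ext
  have h' := congrArg (fun g : GL D.Idx F => (g : Matrix D.Idx D.Idx F)) h
  simp only [bc_val] at h'
  ext a b
  have := congrFun (congrFun h' a) b
  rw [Matrix.map_apply, Matrix.map_apply] at this
  exact ι.injective this

namespace Cert2

variable (C : Cert2 D fd fx)
include C

theorem bc_xA (ι : K →+* F) (r : ℕ) (t : K) : bc D ι (C.xA r t) = C.xA r (ι t) := by
  by_cases hr : r < fd.n
  · apply gl_ext
    rw [bc_val, C.xA_val, C.xA_val, x_eq_XR C.agrees r hr, x_eq_XR C.agrees r hr, XR_map_hom]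
  · unfold xA
    rw [dif_neg hr, dif_neg hr, map_one]

theorem nG_eq_xA' (r : ℕ) (hr : r < fd.n) :
    C.nG (F := F) r hr = C.xA r 1 * C.xA (fd.n - 1 - r) (-1) * C.xA r 1 := by
  rw [C.xA_of_lt r hr, C.xA_of_lt (fd.n - 1 - r) (by omega)]
  rfl

theorem bc_nG (ι : K →+* F) (r : ℕ) (hr : r < fd.n) : bc D ι (C.nG r hr) = C.nG r hr := by
  rw [C.nG_eq_xA', C.nG_eq_xA', map_mul, map_mul, C.bc_xA, C.bc_xA, map_one, map_neg, map_one]

/-- base change maps the Chevalley group into the Chevalley group -/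
theorem bc_group_le (ι : K →+* F) : (D.group K).map (bc D ι) ≤ D.group F := by
  rw [Subgroup.map_le_iff_le_comap]
  unfold ChevalleyDatum.group
  rw [Subgroup.closure_le]
  rintro g ⟨r, t, hg⟩
  rw [SetLike.mem_coe, Subgroup.mem_comap]
  have e : g = C.xA r.val t := by
    apply gl_ext
    rw [hg, C.xA_val]
    unfold ChevalleyDatum.x
    rw [dif_pos r.isLt]
  rw [e, C.bc_xA]
  exact C.xA_mem_group _ _

end Cert2

theorem units_map_zpow (ι : K →+* F) (u : Kˣ) (z : ℤ) :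
    Units.map ι.toMonoidHom (u ^ z) = (Units.map ι.toMonoidHom u) ^ z := map_zpow _ _ _

/-- base change on the torus -/
theorem bc_chiHom (ι : K →+* F) (x : Fin fd.l → Kˣ) :
    bc D ι (chiHom D fd K x) = chiHom D fd F (fun i => Units.map ι.toMonoidHom (x i)) := by
  apply gl_ext
  rw [bc_val, chiHom_val, chiHom_val]
  ext a b
  rw [Matrix.map_apply]
  by_cases hab : a = b
  · subst hab
    rw [Matrix.diagonal_apply_eq, Matrix.diagonal_apply_eq]
    cases a with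
    | inl j => simp [entryHom]
    | inr s =>
      simp only [entryHom, MonoidHom.coe_mk, OneHom.coe_mk]
      have e : ι ((∏ i, x i ^ fd.carZ i.val s.val : Kˣ) : K) =
          ((Units.map ι.toMonoidHom (∏ i, x i ^ fd.carZ i.val s.val) : Fˣ) : F) := rfl
      rw [e, map_prod]
      congr 2
      funext i
      rw [map_zpow]
  · rw [Matrix.diagonal_apply_ne _ hab, Matrix.diagonal_apply_ne _ hab, map_zero]

namespace Cert12

variable (C : Cert12 D fd fx fc fz)
include C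

theorem bc_oprod (ι : K →+* F) (t : ℕ → K) (m k : ℕ) :
    bc D ι (C.oprod t m k) = C.oprod (fun r => ι (t r)) m k := by
  induction k generalizing m with
  | zero => rw [C.oprod_zero, C.oprod_zero, map_one]
  | succ k ih => rw [C.oprod_succ, C.oprod_succ, map_mul, C.c6.c2.bc_xA, ih]

/-- the torus embeds when the Cartan matrix is unimodular -/
theorem chiHom_injective (B : Matrix (Fin fd.l) (Fin fd.l) ℤ)
    (hB : cartM fd * B = ((1 : ℕ) : ℤ) • (1 : Matrix (Fin fd.l) (Fin fd.l) ℤ)) :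
    Function.Injective (chiHom D fd F) := by
  rw [injective_iff_map_eq_one]
  intro x hx
  have h1 : x ∈ (chiHom D fd F).ker := hx
  rw [C.ker_chi, MonoidHom.mem_ker] at h1
  have := torus_ker_exp (cartM fd) B 1 hB x h1
  rwa [pow_one] at this

theorem bc_pos_le (ι : K →+* F) : (D.posUnipotent K).map (bc D ι) ≤ D.posUnipotent F := by
  rw [Subgroup.map_le_iff_le_comap]
  unfold ChevalleyDatum.posUnipotent
  rw [Subgroup.closure_le]
  rintro g ⟨r, t, hr, hg⟩
  rw [SetLike.mem_coe, Subgroup.mem_comap]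
  have e : g = C.c6.c2.xA r t := gl_ext (by rw [hg, C.c6.c2.xA_val])
  rw [e, C.c6.c2.bc_xA]
  exact Subgroup.subset_closure ⟨r, _, hr, C.c6.c2.xA_val _ _⟩

theorem bc_diag_le (ι : K →+* F) : (D.diagonalSubgroup K).map (bc D ι) ≤ D.diagonalSubgroup F := by
  rw [C.diag_eq_range, C.diag_eq_range]
  rintro g ⟨h, ⟨x, rfl⟩, rfl⟩
  exact ⟨_, (bc_chiHom ι x).symm⟩

theorem bc_borel_le (ι : K →+* F) : (D.borelSubgroup K).map (bc D ι) ≤ D.borelSubgroup F := by
  unfold ChevalleyDatum.borelSubgroup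
  rw [Subgroup.map_sup]
  exact sup_le_sup (C.bc_pos_le ι) (C.bc_diag_le ι)

theorem bc_Uw (σ : F →+* F) (n u : GL D.Idx F) (hu : u ∈ Uw D F n) : bc D σ u ∈ Uw D F n := by
  unfold Uw at hu
  induction hu using Subgroup.closure_induction with
  | mem x hx =>
    obtain ⟨r, t, hr, rfl⟩ := C.c6.eq_xA_of_UwSet n x hx
    rw [C.c6.c2.bc_xA]
    exact C.c6.xA_mem_Uw n r hr _
  | one => rw [map_one]; exact one_mem _
  | mul x y _ _ hx hy => rw [map_mul]; exact mul_mem hx hy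
  | inv x _ hx => rw [map_inv]; exact inv_mem hx

theorem Uw_le_pos (n : GL D.Idx F) : Uw D F n ≤ D.posUnipotent F := by
  unfold Uw
  rw [Subgroup.closure_le]
  intro x hx
  obtain ⟨r, t, hr, rfl⟩ := C.c6.eq_xA_of_UwSet n x hx
  exact Subgroup.subset_closure ⟨r, t, (C.c6.isPos_iff r).mpr ⟨hr.1, hr.2.1⟩, C.c6.c2.xA_val r t⟩

theorem closure_SSet_le_group : Subgroup.closure (SSet D F) ≤ D.group F := by
  refine le_trans ?_ (C.c6.c2.monomial_le_group (F := F))
  rw [← C.c6.closure_SSet_sup_diag]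
  exact le_sup_left

theorem bc_SSet_lift (ι : K →+* F) (m : GL D.Idx F) (hm : m ∈ Subgroup.closure (SSet D F)) :
    ∃ m₀ ∈ Subgroup.closure (SSet D K), bc D ι m₀ = m := by
  induction hm using Subgroup.closure_induction with
  | mem x hx =>
    obtain ⟨i, hi, rfl⟩ := C.c6.eq_nG_of_SSet x hx
    exact ⟨C.c6.c2.nG _ (C.c6.c2.simple_lt i hi), Subgroup.subset_closure (C.c6.nG_mem_SSet i hi),
      C.c6.c2.bc_nG ι _ _⟩
  | one => exact ⟨1, one_mem _, map_one _⟩
  | mul x y _ _ hx hy =>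
    obtain ⟨a, ha, rfl⟩ := hx
    obtain ⟨b, hb, rfl⟩ := hy
    exact ⟨a * b, mul_mem ha hb, map_mul _ _ _⟩
  | inv x _ hx =>
    obtain ⟨a, ha, rfl⟩ := hx
    exact ⟨a⁻¹, inv_mem ha, map_inv _ _⟩

theorem bc_SSet_fix (σ : F →+* F) (m : GL D.Idx F) (hm : m ∈ Subgroup.closure (SSet D F)) : bc D σ m = m := by
  induction hm using Subgroup.closure_induction with
  | mem x hx =>
    obtain ⟨i, hi, rfl⟩ := C.c6.eq_nG_of_SSet x hx
    exact C.c6.c2.bc_nG σ _ _
  | one => exact map_one _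
  | mul x y _ _ hx hy => rw [map_mul, hx, hy]
  | inv x _ hx => rw [map_inv, hx]

section descent

variable (σ : F →+* F) (ι : K →+* F) (hfix : ∀ t : F, σ t = t → ∃ s : K, ι s = t)
include hfix

/-- fixed elements of `U` descend -/
theorem fix_pos (u : GL D.Idx F) (hu : u ∈ D.posUnipotent F) (hσ : bc D σ u = u) :
    ∃ u₀ ∈ D.posUnipotent K, bc D ι u₀ = u := by
  have hk : fd.n / 2 + (fd.n - fd.n / 2) = fd.n := by omega
  rw [C.posUnipotent_eq] at hu
  obtain ⟨t, ht, rfl⟩ := C.Vm_oprod (fun _ => True) C.closed_true (fd.n - fd.n / 2) (fd.n / 2) hk le_rfl u hu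
  rw [C.bc_oprod] at hσ
  have h1 := C.oprod_unique _ _ hk le_rfl _ _ hσ
  choose! s hs using hfix
  refine ⟨C.oprod (fun r => s (t r)) (fd.n / 2) (fd.n - fd.n / 2), ?_, ?_⟩
  · rw [C.posUnipotent_eq]
    exact C.oprod_mem _ _ _ _ hk le_rfl (fun _ _ _ h => absurd trivial h)
  · rw [C.bc_oprod]
    apply C.oprod_congr
    intro r h1' h2'
    exact hs _ (h1 r h1' (by omega))

/-- fixed elements of `H` descend, when the Cartan matrix is unimodular -/
theorem fix_diag (B : Matrix (Fin fd.l) (Fin fd.l) ℤ)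
    (hB : cartM fd * B = ((1 : ℕ) : ℤ) • (1 : Matrix (Fin fd.l) (Fin fd.l) ℤ))
    (h : GL D.Idx F) (hh : h ∈ D.diagonalSubgroup F) (hσ : bc D σ h = h) :
    ∃ h₀ ∈ D.diagonalSubgroup K, bc D ι h₀ = h := by
  rw [C.diag_eq_range] at hh
  obtain ⟨x, rfl⟩ := hh
  rw [bc_chiHom] at hσ
  have h1 := C.chiHom_injective B hB hσ
  have h2 : ∀ i, σ (x i : F) = x i := fun i => congrArg Units.val (congrFun h1 i)
  choose! s hs using hfix
  have hne : ∀ i, s (x i : F) ≠ 0 := by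
    intro i h0
    have := hs _ (h2 i)
    rw [h0, map_zero] at this
    exact (x i).ne_zero this.symm
  refine ⟨chiHom D fd K (fun i => Units.mk0 (s (x i)) (hne i)), ?_, ?_⟩
  · rw [C.diag_eq_range]
    exact ⟨_, rfl⟩
  · rw [bc_chiHom]
    congr 1
    funext i
    apply Units.ext
    exact hs _ (h2 i)

/-- fixed elements of the Chevalley group descend, when the Cartan matrix is unimodular -/
theorem fix_group (B : Matrix (Fin fd.l) (Fin fd.l) ℤ)
    (hB : cartM fd * B = ((1 : ℕ) : ℤ) • (1 : Matrix (Fin fd.l) (Fin fd.l) ℤ))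
    (g : GL D.Idx F) (hg : g ∈ D.group F) (hσ : bc D σ g = g) :
    ∃ g₀ ∈ D.group K, bc D ι g₀ = g := by
  obtain ⟨b, hb, n, hn, u, hu, rfl⟩ := C.c6.canonical_form.1 g hg
  rw [← C.c6.closure_SSet_sup_diag] at hn
  have hSN : Subgroup.closure (SSet D F) ≤ Subgroup.normalizer (D.diagonalSubgroup F : Set (GL D.Idx F)) := by
    refine le_trans ?_ (C.c6.c2.monomial_le_normalizer_diag (F := F))
    rw [← C.c6.closure_SSet_sup_diag]
    exact le_sup_left
  have hn' : n ∈ ((Subgroup.closure (SSet D F) ⊔ D.diagonalSubgroup F : Subgroup _) : Set (GL D.Idx F)) := hn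
  rw [Subgroup.coe_mul_of_left_le_normalizer_right _ _ hSN] at hn'
  obtain ⟨m, hm, k, hk, rfl⟩ := Set.mem_mul.mp hn'
  have hm' : m ∈ Subgroup.closure (SSet D F) := hm
  have hk' : k ∈ D.diagonalSubgroup F := hk
  -- move `k` to the left
  have hk2 : m * k * m⁻¹ ∈ D.diagonalSubgroup F :=
    (Subgroup.mem_normalizer_iff.mp (hSN hm') k).mp hk'
  have hu2 : u ∈ Uw D F m := by
    have := C.c6.Uw_le_mul_diag (m * k) k⁻¹ (inv_mem hk') hu
    rwa [mul_assoc, mul_inv_cancel, mul_one] at this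
  set b' := b * (m * k * m⁻¹) with hb'def
  have hb' : b' ∈ D.borelSubgroup F := mul_mem hb (C.c6.diag_le_borel hk2)
  have eg : b * (m * k) * u = b' * m * u := by rw [hb'def]; group
  rw [eg] at hσ ⊢
  have hmN : m ∈ D.monomialSubgroup F := by
    rw [← C.c6.closure_SSet_sup_diag]
    exact (le_sup_left : Subgroup.closure (SSet D F) ≤ _) hm'
  rw [map_mul, map_mul, C.bc_SSet_fix σ m hm'] at hσ
  have hσb : bc D σ b' ∈ D.borelSubgroup F := C.bc_borel_le σ ⟨b', hb', rfl⟩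
  obtain ⟨-, hun⟩ := C.c6.canonical_form.2 (bc D σ b') b' m m (bc D σ u) u hσb hb' hmN hmN
    (C.bc_Uw σ m u hu2) hu2 hσ
  obtain ⟨e1, e2⟩ := hun rfl
  -- split `b'`
  obtain ⟨u₁, hu₁, h₁, hh₁, e3⟩ := C.c6.c2.borel_mem b' hb'
  rw [← e3, map_mul] at e1
  have hσu₁ : bc D σ u₁ ∈ D.posUnipotent F := C.bc_pos_le σ ⟨u₁, hu₁, rfl⟩
  have hσh₁ : bc D σ h₁ ∈ D.diagonalSubgroup F := C.bc_diag_le σ ⟨h₁, hh₁, rfl⟩
  have e4 : u₁⁻¹ * bc D σ u₁ = h₁ * (bc D σ h₁)⁻¹ := by
    have : bc D σ u₁ = u₁ * h₁ * (bc D σ h₁)⁻¹ := by rw [← e1]; group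
    rw [this]; group
  have h5 : u₁⁻¹ * bc D σ u₁ ∈ D.posUnipotent F ⊓ D.diagonalSubgroup F :=
    Subgroup.mem_inf.mpr ⟨mul_mem (inv_mem hu₁) hσu₁, by rw [e4]; exact mul_mem hh₁ (inv_mem hσh₁)⟩
  rw [C.c6.c2.pos_inf_diag, Subgroup.mem_bot] at h5
  have e6 : bc D σ u₁ = u₁ := by
    have : bc D σ u₁ = u₁ * (u₁⁻¹ * bc D σ u₁) := by group
    rw [this, h5, mul_one]
  have e7 : bc D σ h₁ = h₁ := by
    rw [e6] at e1
    exact mul_left_cancel e1
  obtain ⟨u₁₀, hu₁₀, rfl⟩ := C.fix_pos σ ι hfix u₁ hu₁ e6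
  obtain ⟨h₁₀, hh₁₀, rfl⟩ := C.fix_diag σ ι hfix B hB h₁ hh₁ e7
  obtain ⟨m₀, hm₀, rfl⟩ := C.bc_SSet_lift ι m hm'
  obtain ⟨u₀, hu₀, rfl⟩ := C.fix_pos σ ι hfix u (C.Uw_le_pos _ hu2) e2
  refine ⟨u₁₀ * h₁₀ * m₀ * u₀, ?_, ?_⟩
  · exact mul_mem (mul_mem (mul_mem (C.c6.c2.pos_le_group hu₁₀) (C.c6.c2.diag_le_group hh₁₀))
      (C.closure_SSet_le_group hm₀)) (C.c6.c2.pos_le_group hu₀)
  · rw [map_mul, map_mul, map_mul, e3]

end descent

end Cert12

end Cfsg.Agent.Lib.H29.Chev
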