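import Mathlib
import Cfsg.Prelude.Def_ChevStructure
import Cfsg.Agent.Lib.H29.ChevGen41

/-!
# The number of positive roots made negative: composition with commuting fundamental reflections
-/

set_option autoImplicit false
set_option linter.unusedSectionVars false
set_option linter.unusedSimpArgs false
set_option linter.unusedVariables false

namespace Cfsg.Agent.Lib.H29.Chev

open Cfsg.Lie Matrix

variable {D : ChevalleyDatum} {fd : FD} {fx : FX} {fc : FC} {fz : FZ} {F : Type*} [Field F]

namespace Cert12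

variable (C : Cert12 D fd fx fc fz)
include C

/-- a fundamental reflection maps its root to the opposite root -/
theorem sw_self (i : ℕ) (hi : i < fd.l) :
    fd.sw fx i (fd.simples.getD i 0) = fd.n - 1 - fd.simples.getD i 0 := by
  have hp := C.c6.c2.simple_lt i hi
  have h1 := fd.nw_spec C.c6.c2.chk.nn _ _ hp hp
  apply C.fL_inj _ _ h1.1 (by omega)
  unfold FD.fL
  congr 1
  apply List.map_congr_left
  intro j hj
  rw [List.mem_range] at hj
  rw [h1.2 j hj, C.c6.c2.pr_self _ hp, C.rcZ_neg _ j hp hj]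
  ring

/-- composing with a fundamental reflection whose root is made negative lowers the count by one -/
theorem invC_sw (π : ℕ → ℕ) (hπ : ∀ s < fd.n, π s < fd.n ∧ π (fd.n - 1 - s) = fd.n - 1 - π s) (i : ℕ)
    (hi : i < fd.l) (hneg : π (fd.simples.getD i 0) < fd.n / 2) :
    fd.invC (fun s => π (fd.sw fx i s)) + 1 = fd.invC π := by
  classical
  have hev := C.c6.c2.heven
  have hp := C.c6.c2.simple_lt i hi
  have hpp := C.c6.simple_pos i hi
  set p := fd.simples.getD i 0 with hpdef
  unfold FD.invC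
  have hmem : p ∈ (Finset.Ico (fd.n / 2) fd.n).filter fun r => π r < fd.n / 2 := by
    simp only [Finset.mem_filter, Finset.mem_Ico]
    exact ⟨⟨hpp, hp⟩, hneg⟩
  rw [← Finset.card_erase_add_one hmem]
  congr 1
  apply Finset.card_nbij' (fd.sw fx i) (fd.sw fx i)
  · intro r hr
    rw [Finset.mem_coe] at hr ⊢
    simp only [Finset.mem_filter, Finset.mem_Ico, Finset.mem_erase] at hr ⊢
    obtain ⟨⟨h1, h2⟩, h3⟩ := hr
    have hne : r ≠ p := by
      intro e
      rw [e, C.sw_self i hi, (hπ p hp).2] at h3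
      omega
    have h4 := C.sw_pos i r hi h2 h1 hne
    have h5 := C.sw_lt i r hi h2
    refine ⟨?_, ⟨h4, h5⟩, h3⟩
    intro e
    have := C.sw_sw i r hi h2
    rw [e, C.sw_self i hi] at this
    omega
  · intro r hr
    rw [Finset.mem_coe] at hr ⊢
    simp only [Finset.mem_filter, Finset.mem_Ico, Finset.mem_erase] at hr ⊢
    obtain ⟨hne, ⟨h1, h2⟩, h3⟩ := hr
    refine ⟨⟨C.sw_pos i r hi h2 h1 hne, C.sw_lt i r hi h2⟩, ?_⟩
    rw [C.sw_sw i r hi h2]
    exact h3
  · intro r hr
    rw [Finset.mem_coe] at hr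
    simp only [Finset.mem_filter, Finset.mem_Ico] at hr
    exact C.sw_sw i r hi hr.1.2
  · intro r hr
    rw [Finset.mem_coe] at hr
    simp only [Finset.mem_filter, Finset.mem_Ico, Finset.mem_erase] at hr
    exact C.sw_sw i r hi hr.2.1.2

/-- composing with a word of pairwise orthogonal fundamental reflections whose roots are made negative -/
theorem invC_word (w : List ℕ) : ∀ (π : ℕ → ℕ), IsWd fd.l w →
    (∀ s < fd.n, π s < fd.n ∧ π (fd.n - 1 - s) = fd.n - 1 - π s) →
    w.Pairwise (fun i j => fd.sw fx i (fd.simples.getD j 0) = fd.simples.getD j 0) →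
    (∀ i ∈ w, π (fd.simples.getD i 0) < fd.n / 2) →
    fd.invC (fun s => π (fd.wordP fx w s)) + w.length = fd.invC π := by
  induction w with
  | nil => intro π _ _ _ _; rfl
  | cons i w ih =>
    intro π hw hπ hpw hneg
    obtain ⟨hi, hw'⟩ := hw.of_cons
    obtain ⟨hp1, hp2⟩ := List.pairwise_cons.mp hpw
    have hπ' : ∀ s < fd.n, π (fd.sw fx i s) < fd.n ∧
        π (fd.sw fx i (fd.n - 1 - s)) = fd.n - 1 - π (fd.sw fx i s) := by
      intro s hs
      have h1 := C.sw_lt i s hi hs
      rw [C.sw_neg i s hi hs]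
      exact ⟨(hπ _ h1).1, (hπ _ h1).2⟩
    have := ih (fun s => π (fd.sw fx i s)) hw' hπ' hp2 (fun j hj => by
      show π (fd.sw fx i (fd.simples.getD j 0)) < fd.n / 2
      rw [hp1 j hj]
      exact hneg j (List.mem_cons_of_mem _ hj))
    simp only [FD.wordP] at this ⊢
    rw [List.length_cons, ← C.invC_sw π hπ i hi (hneg i List.mem_cons_self), ← this]
    ring

end Cert12

end Cfsg.Agent.Lib.H29.Chev
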