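import Mathlib
import Cfsg.Prelude.Def_ChevStructure
import Cfsg.Agent.Lib.H29.ChevTw11

/-!
# Tables of the subgroup of the Weyl group commuting with the graph automorphism

`tab` lists the elements as permutations of the roots; every element other than the first is the product of an
earlier element and the element `w_S` of an orbit `S` of fundamental roots, and the products of every element
with every `w_S` are located in the table.
-/

set_option autoImplicit false
set_option linter.unusedSectionVars false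
set_option linter.unusedSimpArgs false
set_option linter.unusedVariables false

namespace Cfsg.Agent.Lib.H29.Chev

open Cfsg.Lie Matrix

structure FQ where
  /-- the number of elements -/
  dk : ℕ
  /-- the images of the roots under the element `a`: 8-bit fields at `8 s` -/
  tab : ℕ → ℕ
  /-- 32-bit fields at `32 a`: the position of the orbit (low byte) and the earlier element (bits 8 to 23) -/
  par : ℕ
  /-- 16-bit fields at `16 (a g + ii)`: the position of the product with the `ii`-th orbit -/
  nxt : ℕ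
  /-- 8-bit fields at `8 a`: the exponent of the order of `U_w ∩ G¹` -/
  lens : ℕ

namespace FD

variable (fd : FD) (fx : FX) (ga : GA) (k : ℕ) (sreps : List ℕ) (RL : List ℕ) (fq : FQ)

/-- the image of the root `s` under the element `a` of the table -/
def qT (_fd : FD) (fq : FQ) (a s : ℕ) : ℕ := (fq.tab a >>> (8 * s)) &&& 255

/-- the permutation of the roots of the orbit of the fundamental root `i` -/
def piS (i s : ℕ) : ℕ := fd.wordP fx (orbW ga k i) s

/-- the check that the element `a` is the product of the element `a'` and the `ii`-th orbit -/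
def chkQParAux (a ii a' : ℕ) : Bool :=
  Nat.blt ii sreps.length && Nat.blt a' a &&
    (List.range fd.n).all fun s =>
      Nat.beq (fd.qT fq a s) (fd.qT fq a' (fd.piS fx ga k (sreps.getD ii 0) s))

def chkQPar (a : ℕ) : Bool :=
  bif Nat.beq a 0 then (List.range fd.n).all fun s => Nat.beq (fd.qT fq 0 s) s
  else fd.chkQParAux fx ga k sreps fq a ((fq.par >>> (32 * a)) &&& 255) ((fq.par >>> (32 * a + 8)) &&& 65535)

/-- the check that the product of the element `a` and the `ii`-th orbit is the element `a'` -/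
def chkQNxtAux (a ii a' : ℕ) : Bool :=
  Nat.blt a' fq.dk &&
    (List.range fd.n).all fun s =>
      Nat.beq (fd.qT fq a (fd.piS fx ga k (sreps.getD ii 0) s)) (fd.qT fq a' s)

def chkQNxt (a : ℕ) : Bool :=
  (List.range sreps.length).all fun ii =>
    fd.chkQNxtAux fx ga k sreps fq a ii ((fq.nxt >>> (16 * (a * sreps.length + ii))) &&& 65535)

def chkQDist (a : ℕ) : Bool :=
  (List.range a).all fun a' => (List.range fd.n).any fun s => !(Nat.beq (fd.qT fq a s) (fd.qT fq a' s))

/-- the exponent attached to the element `a`: the sum of the sizes of the orbits of positive roots made negative -/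
def qE (a : ℕ) : ℕ :=
  ((RL.filter fun r => Nat.blt (fd.qT fq a r) (fd.n / 2)).map fun r => fd.os ga k r).sum

def qLen (a : ℕ) : ℕ := (fq.lens >>> (8 * a)) &&& 255

def chkQLen (a : ℕ) : Bool := Nat.beq (fd.qE ga k RL fq a) (qLen fq a)

def chkQA (a : ℕ) : Bool :=
  fd.chkQPar fx ga k sreps fq a && fd.chkQNxt fx ga k sreps fq a && fd.chkQDist fq a && fd.chkQLen ga k RL fq a

def ChkQ : Prop := ∀ a < fq.dk, fd.chkQA fx ga k sreps RL fq a = true

end FD

variable {fd : FD} {fx : FX} {ga : GA} {k : ℕ} {sreps RL : List ℕ} {fq : FQ}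

theorem FD.qpar_spec (hQ : fd.ChkQ fx ga k sreps RL fq) (a : ℕ) (ha : a < fq.dk) :
    (a = 0 ∧ ∀ s < fd.n, fd.qT fq 0 s = s) ∨
    (a ≠ 0 ∧ ∃ ii a', ii < sreps.length ∧ a' < a ∧
      ∀ s < fd.n, fd.qT fq a s = fd.qT fq a' (fd.piS fx ga k (sreps.getD ii 0) s)) := by
  have h := hQ a ha
  simp only [FD.chkQA, Bool.and_eq_true] at h
  obtain ⟨⟨⟨h1, _⟩, _⟩, _⟩ := h
  by_cases ha0 : a = 0
  · subst ha0
    have e : Nat.beq 0 0 = true := rfl
    rw [FD.chkQPar, e, cond_true] at h1
    simp only [List.all_eq_true, List.mem_range, natBeq_iff] at h1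
    exact Or.inl ⟨rfl, h1⟩
  · have e : Nat.beq a 0 = false := by rw [← Bool.not_eq_true, natBeq_iff]; exact ha0
    rw [FD.chkQPar, e, cond_false, FD.chkQParAux] at h1
    simp only [Bool.and_eq_true, natBlt_iff, List.all_eq_true, List.mem_range, natBeq_iff] at h1
    exact Or.inr ⟨ha0, _, _, h1.1.1, h1.1.2, h1.2⟩

theorem FD.qnxt_spec (hQ : fd.ChkQ fx ga k sreps RL fq) (a : ℕ) (ha : a < fq.dk) (ii : ℕ) (hii : ii < sreps.length) :
    ∃ a' < fq.dk, ∀ s < fd.n, fd.qT fq a (fd.piS fx ga k (sreps.getD ii 0) s) = fd.qT fq a' s := by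
  have h := hQ a ha
  simp only [FD.chkQA, Bool.and_eq_true] at h
  obtain ⟨⟨⟨_, h2⟩, _⟩, _⟩ := h
  simp only [FD.chkQNxt, FD.chkQNxtAux, List.all_eq_true, List.mem_range, Bool.and_eq_true, natBlt_iff,
    natBeq_iff] at h2
  exact ⟨_, (h2 ii hii).1, (h2 ii hii).2⟩

theorem FD.qdist_spec (hQ : fd.ChkQ fx ga k sreps RL fq) (a : ℕ) (ha : a < fq.dk) (a' : ℕ) (ha' : a' < a) :
    ∃ s < fd.n, fd.qT fq a s ≠ fd.qT fq a' s := by
  have h := hQ a ha
  simp only [FD.chkQA, Bool.and_eq_true] at h
  obtain ⟨⟨⟨_, _⟩, h3⟩, _⟩ := h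
  simp only [FD.chkQDist, List.all_eq_true, List.mem_range, List.any_eq_true, Bool.not_eq_true',
    ← Bool.not_eq_true, natBeq_iff] at h3
  exact h3 a' ha'

theorem FD.qlen_spec (hQ : fd.ChkQ fx ga k sreps RL fq) (a : ℕ) (ha : a < fq.dk) :
    fd.qE ga k RL fq a = FD.qLen fq a := by
  have h := hQ a ha
  simp only [FD.chkQA, Bool.and_eq_true] at h
  obtain ⟨⟨⟨_, _⟩, _⟩, h4⟩ := h
  simpa only [FD.chkQLen, natBeq_iff] using h4

end Cfsg.Agent.Lib.H29.Chev
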