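import Mathlib
import Cfsg.Prelude.Def_ChevStructure
import Cfsg.Agent.Lib.H29.ChevTw15
import Cfsg.Agent.Lib.H29.ChevTw16
import Cfsg.Agent.Lib.H29.ChevTwQ

/-!
# The `σ`-fixed elements of `N` induce the permutations of the table
-/

set_option autoImplicit false
set_option linter.unusedSectionVars false
set_option linter.unusedSimpArgs false
set_option linter.unusedVariables false

namespace Cfsg.Agent.Lib.H29.Chev

open Cfsg.Lie Matrix

variable {D : ChevalleyDatum} {fd : FD} {fx : FX} {fc : FC} {fz : FZ} {F : Type*} [Field F]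

namespace Cert12

variable (C : Cert12 D fd fx fc fz) {ga : GA} {k : ℕ} (T : TwSpec fd fx ga k) (T2 : TwSpec2 fd fx ga k)
  (φ : F →+* F)
include C T T2

theorem orbW_isWd (i : ℕ) (hi : i < fd.l) : IsWd fd.l (orbW ga k i) := by
  intro j hj
  unfold orbW at hj
  obtain ⟨a, _, rfl⟩ := List.mem_map.mp hj
  exact C.rhIt_lt T T2 a i hi

theorem orbW_mem (hk : 1 ≤ k) (i : ℕ) (j : ℕ) (hj : j ∈ orbW ga k i) :
    ∃ a < k, j = rhIt ga a i := by
  unfold orbW at hj
  obtain ⟨a, ha, rfl⟩ := List.mem_map.mp hj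
  rw [List.mem_range] at ha
  by_cases h : ga.rh.getD i 0 = i
  · rw [if_pos h] at ha
    exact ⟨a, by omega, rfl⟩
  · rw [if_neg h] at ha
    exact ⟨a, ha, rfl⟩

theorem orbW_pairwise (hk : k = 2 ∨ k = 3) (i : ℕ) (hi : i < fd.l) :
    (orbW ga k i).Pairwise (fun a b => fd.sw fx a (fd.simples.getD b 0) = fd.simples.getD b 0) := by
  unfold orbW
  by_cases h : ga.rh.getD i 0 = i
  · rw [if_pos h]
    simp
  · rw [if_neg h]
    have e0 : ∀ a, (fun x => ga.rh.getD x 0)^[a] i = rhIt ga a i := fun a => rfl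
    rcases hk with rfl | rfl
    · simp only [List.range_succ, List.range_zero, List.nil_append, List.cons_append, List.map_cons, List.map_nil,
        List.pairwise_cons, List.mem_cons, List.not_mem_nil, or_false, forall_eq, List.Pairwise.nil, and_true,
        IsEmpty.forall_iff, implies_true, e0]
      exact T2.sfix i hi h 0 (by norm_num) 1 (by norm_num) (by norm_num)
    · simp only [List.range_succ, List.range_zero, List.nil_append, List.cons_append, List.map_cons, List.map_nil,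
        List.pairwise_cons, List.mem_cons, List.not_mem_nil, or_false, forall_eq, List.Pairwise.nil, and_true,
        IsEmpty.forall_iff, implies_true, e0, forall_eq_or_imp]
      exact ⟨⟨T2.sfix i hi h 0 (by norm_num) 1 (by norm_num) (by norm_num),
        T2.sfix i hi h 0 (by norm_num) 2 (by norm_num) (by norm_num)⟩,
        T2.sfix i hi h 1 (by norm_num) 2 (by norm_num) (by norm_num)⟩

theorem nS_mem_monomial (i : ℕ) : C.nS F ga k i ∈ D.monomialSubgroup F := C.wordN_mem _

theorem perm_nS (i : ℕ) (hi : i < fd.l) : C.c6.c2.Perm (C.nS F ga k i) (fd.piS fx ga k i) :=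
  C.perm_wordN _ (C.orbW_isWd T T2 i hi)

theorem sigma_nS (hk : k = 2 ∨ k = 3) (hφk : ∀ x : F, φ^[k] x = x) (i : ℕ) (hi : i < fd.l) :
    C.c6.c2.sigma T.ginv φ (C.nS F ga k i) = C.nS F ga k i := by
  have hp := C.c6.c2.simple_lt i hi
  rw [C.nS_eq T T2 φ hk i hi, map_mul, map_mul,
    C.sigma_xS T φ hk hφk _ hp 1 (fun _ => map_one φ),
    C.sigma_xS T φ hk hφk _ (by omega) (-1) (fun _ => by rw [map_neg, map_one])]

theorem gIt_neg_iff (a s : ℕ) (hs : s < fd.n) : fd.gIt ga a s < fd.n / 2 ↔ s < fd.n / 2 := by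
  induction a with
  | zero => rfl
  | succ a ih =>
    rw [fd.gIt_succ]
    constructor
    · intro h
      by_contra hn
      have := T.pos _ (T.gIt_lt a s hs) (by
        by_contra h2
        exact hn (ih.mp (by omega)))
      omega
    · intro h
      exact C.gRoot_neg_of_neg T T2 _ (T.gIt_lt a s hs) (ih.mpr h)

theorem perm_comm_gIt (m : GL D.Idx F) (hfix : C.c6.c2.sigma T.ginv φ m = m) (π : ℕ → ℕ)
    (hπ : C.c6.c2.Perm m π) (a s : ℕ) (hs : s < fd.n) : π (fd.gIt ga a s) = fd.gIt ga a (π s) := by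
  induction a with
  | zero => rfl
  | succ a ih =>
    rw [fd.gIt_succ, C.perm_comm_rho T T2 φ m hfix π hπ _ (T.gIt_lt a s hs), ih, fd.gIt_succ]

/-- the permutation of a `σ`-fixed element of `N` is in the table -/
theorem descent (hk : k = 2 ∨ k = 3) (hφk : ∀ x : F, φ^[k] x = x) {sreps RL : List ℕ} {fq : FQ}
    (hQ : fd.ChkQ fx ga k sreps RL fq) (hdk : 0 < fq.dk) (hsr : ∀ i ∈ sreps, i < fd.l)
    (hcov : ∀ i < fd.l, ∃ ii < sreps.length, ∃ j < k, i = rhIt ga j (sreps.getD ii 0)) :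
    ∀ N : ℕ, ∀ (m : GL D.Idx F) (π : ℕ → ℕ), m ∈ D.monomialSubgroup F → C.c6.c2.sigma T.ginv φ m = m →
      C.c6.c2.Perm m π → fd.invC π = N → ∃ a < fq.dk, ∀ s < fd.n, π s = fd.qT fq a s := by
  have hk1 : 1 ≤ k := by omega
  intro N
  induction N using Nat.strong_induction_on with
  | _ N ih =>
    intro m π hm hfix hπ hN
    by_cases hpos : ∀ i < fd.l, fd.n / 2 ≤ π (fd.simples.getD i 0)
    · have h1 := C.mem_diag_of_pos m hm π hπ hpos
      have h2 := C.perm_unique m _ _ hπ (C.c6.perm_diag m h1)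
      rcases fd.qpar_spec hQ 0 hdk with ⟨_, h0⟩ | ⟨h0, _⟩
      · exact ⟨0, hdk, fun s hs => by rw [h2 s hs, h0 s hs]; rfl⟩
      · exact absurd rfl h0
    · have hpos' : ∃ i, i < fd.l ∧ π (fd.simples.getD i 0) < fd.n / 2 := by
        by_contra hne
        apply hpos
        intro i hi
        by_contra h2
        exact hne ⟨i, hi, by omega⟩
      obtain ⟨i, hi, hneg⟩ := hpos'
      obtain ⟨ii, hii, j, hj, e⟩ := hcov i hi
      set i₀ := sreps.getD ii 0 with hi₀def
      have hi₀ : i₀ < fd.l := by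
        apply hsr
        rw [hi₀def, List.getD_eq_getElem _ _ hii]
        exact List.getElem_mem hii
      have hp₀ := C.c6.c2.simple_lt i₀ hi₀
      -- `π` makes the whole orbit negative
      have hneg₀ : π (fd.simples.getD i₀ 0) < fd.n / 2 := by
        rw [e, ← (C.gIt_simple T T2 j i₀ hi₀).1, C.perm_comm_gIt T T2 φ m hfix π hπ j _ hp₀] at hneg
        exact (C.gIt_neg_iff T T2 j _ (hπ _ hp₀).1).mp hneg
      have hnegall : ∀ j' ∈ orbW ga k i₀, π (fd.simples.getD j' 0) < fd.n / 2 := by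
        intro j' hj'
        obtain ⟨a, ha, rfl⟩ := C.orbW_mem T T2 hk1 i₀ j' hj'
        rw [← (C.gIt_simple T T2 a i₀ hi₀).1, C.perm_comm_gIt T T2 φ m hfix π hπ a _ hp₀]
        exact (C.gIt_neg_iff T T2 a _ (hπ _ hp₀).1).mpr hneg₀
      have hπn : ∀ s < fd.n, π s < fd.n ∧ π (fd.n - 1 - s) = fd.n - 1 - π s :=
        fun s hs => ⟨(hπ s hs).1, (hπ s hs).2.1⟩
      have hlen := C.invC_word (orbW ga k i₀) π (C.orbW_isWd T T2 i₀ hi₀) hπn
        (C.orbW_pairwise T T2 hk i₀ hi₀) hnegall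
      have hlpos : 0 < (orbW ga k i₀).length := by
        unfold orbW
        rw [List.length_map, List.length_range]
        split_ifs <;> omega
      -- the element `m n_S`
      have hm' : m * C.nS F ga k i₀ ∈ D.monomialSubgroup F := mul_mem hm (C.nS_mem_monomial T T2 i₀)
      have hfix' : C.c6.c2.sigma T.ginv φ (m * C.nS F ga k i₀) = m * C.nS F ga k i₀ := by
        rw [map_mul, hfix, C.sigma_nS T T2 φ hk hφk i₀ hi₀]
      have hπ' := C.c6.perm_mul hπ (C.perm_nS T T2 (F := F) i₀ hi₀)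
      obtain ⟨a', ha', hq⟩ := ih (fd.invC (π ∘ fd.piS fx ga k i₀)) (by
        have : fd.invC (π ∘ fd.piS fx ga k i₀) = fd.invC (fun s => π (fd.wordP fx (orbW ga k i₀) s)) := rfl
        rw [this]; omega) _ _ hm' hfix' hπ' rfl
      obtain ⟨a'', ha'', hq'⟩ := fd.qnxt_spec hQ a' ha' ii hii
      refine ⟨a'', ha'', fun s hs => ?_⟩
      have h3 := hq (fd.piS fx ga k i₀ s) (C.wordP_lt _ (C.orbW_isWd T T2 i₀ hi₀) s hs)
      rw [← hq' s hs]
      show π s = fd.qT fq a' (fd.piS fx ga k i₀ s)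
      rw [← h3]
      simp only [Function.comp]
      unfold FD.piS
      rw [T2.invol i₀ hi₀ s hs]

end Cert12

end Cfsg.Agent.Lib.H29.Chev
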