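import Mathlib

/-!
# The fixed points of `x ↦ x ^ q` in a finite field with `q ^ k` elements
-/

set_option autoImplicit false

namespace Cfsg.Agent.Lib.H29.Chev

variable {K : Type*} [Field K] [Finite K]

/-- the units fixed by `x ↦ x ^ q` -/
theorem card_units_pow_eq (q k : ℕ) (hk : 1 ≤ k) (hq : 1 ≤ q) (hK : Nat.card K = q ^ k) :
    Nat.card {u : Kˣ // u ^ q = u} = q - 1 := by
  have e : {u : Kˣ // u ^ q = u} ≃ ↥(powMonoidHom (q - 1) : Kˣ →* Kˣ).ker := {
    toFun := fun u => ⟨u.val, by
      rw [MonoidHom.mem_ker, powMonoidHom_apply]
      have := u.property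
      have h2 : u.val ^ (q - 1) * u.val = u.val := by
        rw [← pow_succ, Nat.sub_add_cancel hq]; exact this
      exact mul_eq_right.mp h2⟩
    invFun := fun u => ⟨u.val, by
      have := u.property
      rw [MonoidHom.mem_ker, powMonoidHom_apply] at this
      have h2 : u.val ^ q = u.val ^ (q - 1) * u.val := by rw [← pow_succ, Nat.sub_add_cancel hq]
      rw [h2, this, one_mul]⟩
    left_inv := fun u => rfl
    right_inv := fun u => rfl }
  rw [Nat.card_congr e, IsCyclic.card_powMonoidHom_ker, Nat.card_units, hK]
  exact Nat.gcd_eq_right (Nat.sub_one_dvd_pow_sub_one q k)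

/-- the elements fixed by `x ↦ x ^ q` -/
theorem card_pow_eq (q k : ℕ) (hk : 1 ≤ k) (hq : 1 ≤ q) (hK : Nat.card K = q ^ k) :
    Nat.card {t : K // t ^ q = t} = q := by
  classical
  have e : {t : K // t ^ q = t} ≃ Option {u : Kˣ // u ^ q = u} := {
    toFun := fun t => if h : t.val = 0 then none else some ⟨Units.mk0 t.val h, by
      apply Units.ext
      rw [Units.val_pow_eq_pow_val, Units.val_mk0]
      exact t.property⟩
    invFun := fun o => match o with
      | none => ⟨0, by rw [zero_pow (by omega)]⟩
      | some u => ⟨u.val.val, by
          have := congrArg Units.val u.property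
          rwa [Units.val_pow_eq_pow_val] at this⟩
    left_inv := by
      intro t
      by_cases h : t.val = 0
      · simp only [h, dif_pos]
        exact Subtype.ext h.symm
      · simp only [h, dif_neg, not_false_eq_true]
        rfl
    right_inv := by
      intro o
      cases o with
      | none => simp
      | some u =>
        have h : (u.val : K) ≠ 0 := u.val.ne_zero
        simp only [h, dif_neg, not_false_eq_true]
        congr 1
        apply Subtype.ext
        apply Units.ext
        rfl }
  rw [Nat.card_congr e, Finite.card_option, card_units_pow_eq q k hk hq hK]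
  omega

end Cfsg.Agent.Lib.H29.Chev
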