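import Mathlib
import Cfsg.Prelude.Def_ChevStructure
import Cfsg.Agent.Lib.H29.ChevTw17
import Cfsg.Agent.Lib.H29.ChevTw8
import Cfsg.Agent.Lib.H29.ChevGen38

/-!
# Representatives in the twisted group of the elements of the table, and the orders of the groups `U_w ∩ G¹`
-/

set_option autoImplicit false
set_option linter.unusedSectionVars false
set_option linter.unusedSimpArgs false
set_option linter.unusedVariables false

namespace Cfsg.Agent.Lib.H29.Chev

open Cfsg.Lie Matrix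

variable {D : ChevalleyDatum} {fd : FD} {fx : FX} {fc : FC} {fz : FZ} {F : Type*} [Field F]

/-- the number of admissible parameters at a root -/
theorem card_Kr [Finite F] (ga : GA) (k q : ℕ) (hk : 1 ≤ k) (hq : 1 ≤ q) (hF : Nat.card F = q ^ k) (φ : F →+* F)
    (hφ : ∀ x, φ x = x ^ q) (r : ℕ) : Nat.card ↥(Kr fd ga φ r) = q ^ fd.os ga k r := by
  unfold FD.os
  by_cases h : fd.gRoot ga r = r
  · rw [if_pos h, pow_one, ← card_pow_eq (K := F) q k hk hq hF]
    apply Nat.card_congr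
    apply Equiv.subtypeEquivRight
    intro t
    show (fd.gRoot ga r = r → φ t = t) ↔ t ^ q = t
    rw [hφ]
    exact ⟨fun h' => h' h, fun h' _ => h'⟩
  · rw [if_neg h, ← hF]
    have : Kr fd ga φ r = Set.univ := by
      ext t
      simp only [Set.mem_univ, iff_true]
      intro h'
      exact absurd h' h
    rw [this]
    exact Nat.card_congr (Equiv.Set.univ F)

namespace Cert12

variable (C : Cert12 D fd fx fc fz) {ga : GA} {k : ℕ} (T : TwSpec fd fx ga k) (T2 : TwSpec2 fd fx ga k)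
  (φ : F →+* F)
include C T T2

/-- every element of the table is induced by an element of `N` lying in the twisted group -/
theorem exists_rep {sreps RL : List ℕ} {fq : FQ} (hQ : fd.ChkQ fx ga k sreps RL fq) (hsr : ∀ i ∈ sreps, i < fd.l)
    (G1 : Subgroup (GL D.Idx F)) (hNS : ∀ i ∈ sreps, C.nS F ga k i ∈ G1) (a : ℕ) (ha : a < fq.dk) :
    ∃ m ∈ D.monomialSubgroup F, m ∈ G1 ∧ C.c6.c2.Perm m (fd.qT fq a) := by
  induction a using Nat.strong_induction_on with
  | _ a ih =>
    rcases fd.qpar_spec hQ a ha with ⟨rfl, h0⟩ | ⟨_, ii, a', hii, ha', h⟩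
    · exact ⟨1, one_mem _, one_mem _, C.perm_congr _ _ _ C.c6.perm_one (fun s hs => (h0 s hs).symm)⟩
    · obtain ⟨m', hm', hm'G, hπ'⟩ := ih a' ha' (by omega)
      have hi : sreps.getD ii 0 ∈ sreps := by
        rw [List.getD_eq_getElem _ _ hii]; exact List.getElem_mem hii
      refine ⟨m' * C.nS F ga k (sreps.getD ii 0), mul_mem hm' (C.nS_mem_monomial T T2 _),
        mul_mem hm'G (hNS _ hi), ?_⟩
      exact C.perm_congr _ _ _ (C.c6.perm_mul hπ' (C.perm_nS T T2 _ (hsr _ hi))) (fun s hs => (h s hs).symm)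

/-- the order of the group of `σ`-fixed elements of `U_m⁻` for a `σ`-fixed element `m` of `N` -/
theorem card_fix_Uw [Finite F] (hk : k = 2 ∨ k = 3) (q : ℕ) (hq : 1 ≤ q) (hF : Nat.card F = q ^ k)
    (hφ : ∀ x, φ x = x ^ q) (hφk : ∀ x : F, φ^[k] x = x) {RL sreps : List ℕ}
    (S : ChainSpec fd fx ga k RL sreps) (m : GL D.Idx F) (hm : m ∈ D.monomialSubgroup F)
    (hfix : C.c6.c2.sigma T.ginv φ m = m) (π : ℕ → ℕ) (hπ : C.c6.c2.Perm m π) :
    Nat.card ↥(fixS (C.c6.c2.sigma T.ginv φ) ⊓ Uw D F m) =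
      q ^ ((RL.filter fun r => Nat.blt (π r) (fd.n / 2)).map fun r => fd.os ga k r).sum := by
  have hk1 : 1 ≤ k := by omega
  obtain ⟨⟨π', hπ', hl'⟩, _⟩ := C.perm_lin m hm
  have he := C.perm_unique m π π' hπ hπ'
  have e1 : Uw D F m = Vm D F (fun r => π r < fd.n / 2) (fd.n / 2) := by
    rw [Uw_eq_Vm (fd := fd) m (fun s hs => ((C.c6.isPos_iff s).mp hs).2)]
    unfold Vm VmSet
    congr 1
    ext g
    constructor
    · rintro ⟨s, t, h1, h2, h3, h4⟩
      exact ⟨s, t, h1, (C.psiN_iff m π hπ s ((C.c6.isPos_iff s).mp h1).1 h3).mp h2, h3, h4⟩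
    · rintro ⟨s, t, h1, h2, h3, h4⟩
      exact ⟨s, t, h1, (C.psiN_iff m π hπ s ((C.c6.isPos_iff s).mp h1).1 h3).mpr h2, h3, h4⟩
  have hcl : fd.Closed (fun r => π r < fd.n / 2) := by
    apply C.closed_of_perm π' hl' (fun s hs => (hπ' s hs).1)
    intro r hr _
    rw [he r hr]
  have hρ : ∀ s < fd.n, fd.n / 2 ≤ s → π s < fd.n / 2 → π (fd.gRoot ga s) < fd.n / 2 := by
    intro s hs _ h
    rw [C.perm_comm_rho T T2 φ m hfix π hπ s hs]
    exact C.gRoot_neg_of_neg T T2 _ (hπ s hs).1 h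
  rw [e1, C.card_fix_Vm T φ hk hφk S _ hcl hρ]
  have e2 : (RL.filter fun r => decide (π r < fd.n / 2)) = RL.filter fun r => Nat.blt (π r) (fd.n / 2) := by
    apply List.filter_congr
    intro r _
    rw [Bool.eq_iff_iff, decide_eq_true_eq, natBlt_iff]
  rw [e2]
  generalize (RL.filter fun r => Nat.blt (π r) (fd.n / 2)) = L
  induction L with
  | nil => simp
  | cons r L ih =>
    rw [List.map_cons, List.prod_cons, List.map_cons, List.sum_cons, pow_add, ih,
      card_Kr (fd := fd) ga k q hk1 hq hF φ hφ r]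

end Cert12

end Cfsg.Agent.Lib.H29.Chev
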