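import Mathlib
import Cfsg.Prelude.Def_ChevStructure
import Cfsg.Agent.Lib.H29.ChevTw18
import Cfsg.Agent.Lib.H29.ChevTw10
import Cfsg.Agent.Lib.H29.ChevPoly
import Cfsg.Agent.Lib.H29.ChevGen44

/-!
# The order of a twisted group
-/

set_option autoImplicit false
set_option linter.unusedSectionVars false
set_option linter.unusedSimpArgs false
set_option linter.unusedVariables false

namespace Cfsg.Agent.Lib.H29.Chev

open Cfsg.Lie Matrix

variable {D : ChevalleyDatum} {fd : FD} {fx : FX} {fc : FC} {fz : FZ} {F : Type*} [Field F]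

theorem Uw_le_pos (m : GL D.Idx F) : Uw D F m ≤ D.posUnipotent F := by
  unfold Uw ChevalleyDatum.posUnipotent
  apply Subgroup.closure_mono
  rintro x ⟨r, t, hpos, _, hx⟩
  exact ⟨r, t, hpos, hx⟩

namespace Cert12

variable (C : Cert12 D fd fx fc fz) {ga : GA} {k : ℕ} (T : TwSpec fd fx ga k) (T2 : TwSpec2 fd fx ga k)
  (φ : F →+* F)
include C T T2

/-- two elements of `N` inducing the same permutation differ by an element of `H` (on the other side) -/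
theorem mul_inv_mem_diag (m m' : GL D.Idx F) (hm : m ∈ D.monomialSubgroup F) (hm' : m' ∈ D.monomialSubgroup F)
    (π π' : ℕ → ℕ) (hπ : C.c6.c2.Perm m π) (hπ' : C.c6.c2.Perm m' π') (he : ∀ s < fd.n, π s = π' s) :
    m * m'⁻¹ ∈ D.diagonalSubgroup F := by
  obtain ⟨_, ⟨ρ, hρ⟩⟩ := C.c6.perm_of_mem m hm
  obtain ⟨_, ⟨ρ', hρ'⟩⟩ := C.c6.perm_of_mem m' hm'
  have h1 := C.perm_inv m π ρ hπ hρ
  have h2 := C.perm_inv m' π' ρ' hπ' hρ'
  have := C.inv_mul_mem_diag m⁻¹ m'⁻¹ (inv_mem hm) (inv_mem hm') ρ ρ' hρ hρ' (by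
    intro s hs
    have hs' : ρ s < fd.n := (hρ s hs).1
    rw [← h2.1 (ρ s) hs', ← he _ hs', h1.2 s hs])
  rwa [inv_inv] at this

/-- the order of a subgroup of the group of `σ`-fixed elements containing the generators -/
theorem card_twisted [Finite F] (hk : k = 2 ∨ k = 3) (q : ℕ) (hq : 1 ≤ q) (hF : Nat.card F = q ^ k)
    (hφ : ∀ x, φ x = x ^ q) (hφk : ∀ x : F, φ^[k] x = x) {RL sreps : List ℕ}
    (S : ChainSpec fd fx ga k RL sreps) {fq : FQ} (hQ : fd.ChkQ fx ga k sreps RL fq) (hdk : 0 < fq.dk)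
    (hcov : ∀ i < fd.l, ∃ ii < sreps.length, ∃ j < k, i = rhIt ga j (sreps.getD ii 0))
    (e : ℕ) (hke : (k = 3 ∧ e = 2) ∨ (k = 2 ∧ e = 3))
    (B : Matrix (Fin fd.l) (Fin fd.l) ℤ) (hB : cartM fd * B = (e : ℤ) • (1 : Matrix (Fin fd.l) (Fin fd.l) ℤ))
    (hs : ∀ x : Fin fd.l → Fˣ, (sigT fd ga k φ)^[k] x = x)
    (G1 : Subgroup (GL D.Idx F)) (hG1D : G1 ≤ D.group F) (hG1 : G1 ≤ fixS (C.c6.c2.sigma T.ginv φ))
    (hU : fixS (C.c6.c2.sigma T.ginv φ) ⊓ D.posUnipotent F ≤ G1)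
    (hH : (fixS (sigT fd ga k φ)).map (chiHom D fd F) ≤ G1)
    (hNS : ∀ i ∈ sreps, C.nS F ga k i ∈ G1) :
    Nat.card ↥G1 = Nat.card ↥(fixS (C.c6.c2.sigma T.ginv φ) ⊓ D.posUnipotent F) *
      Nat.card ↥((fixS (sigT fd ga k φ)).map (chiHom D fd F)) * evalN (histoN (FD.qLen fq) fq.dk) q := by
  classical
  have hk1 : 1 ≤ k := by omega
  have hsr := S.sreps_lt
  have hφs : Function.Surjective φ := Finite.surjective_of_injective φ.injective
  have hUB : D.posUnipotent F ≤ D.borelSubgroup F := le_sup_left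
  have hHB : D.diagonalSubgroup F ≤ D.borelSubgroup F := le_sup_right
  have hHN : D.diagonalSubgroup F ≤ D.monomialSubgroup F := le_sup_left
  have hH1 := C.map_fix_le T T2 φ hk1
  choose! rep hrepN hrepG hrepP using fun a (ha : a < fq.dk) => C.exists_rep T T2 hQ hsr G1 hNS a ha
  set σ := C.c6.c2.sigma T.ginv φ with hσ
  set U1 := fixS σ ⊓ D.posUnipotent F with hU1
  set H1 := (fixS (sigT fd ga k φ)).map (chiHom D fd F) with hH1def
  have hmem : ∀ (a : Fin fq.dk) (x : (↥U1 × ↥H1) × ↥(fixS σ ⊓ Uw D F (rep a.val))),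
      x.1.1.val * x.1.2.val * rep a.val * x.2.val ∈ G1 := by
    intro a x
    refine mul_mem (mul_mem (mul_mem (hU x.1.1.property) (hH x.1.2.property)) (hrepG a.val a.isLt)) (hU ?_)
    exact Subgroup.mem_inf.mpr ⟨(Subgroup.mem_inf.mp x.2.property).1, Uw_le_pos _ (Subgroup.mem_inf.mp x.2.property).2⟩
  let f : (Σ a : Fin fq.dk, (↥U1 × ↥H1) × ↥(fixS σ ⊓ Uw D F (rep a.val))) → ↥G1 :=
    fun x => ⟨x.2.1.1.val * x.2.1.2.val * rep x.1.val * x.2.2.val, hmem x.1 x.2⟩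
  have hinj : Function.Injective f := by
    rintro ⟨a, ⟨⟨u, hu⟩, ⟨h, hh⟩⟩, ⟨u', hu'⟩⟩ ⟨b, ⟨⟨v, hv⟩, ⟨h', hh'⟩⟩, ⟨v', hv'⟩⟩ hxy
    have e1 : u * h * rep a.val * u' = v * h' * rep b.val * v' := congrArg Subtype.val hxy
    have hhD := (hH1 hh).2
    have hh'D := (hH1 hh').2
    obtain ⟨k1, k2⟩ := C.c6.canonical_form.2 (u * h) (v * h') (rep a.val) (rep b.val) u' v'
      (mul_mem (hUB hu.2) (hHB hhD)) (mul_mem (hUB hv.2) (hHB hh'D)) (hrepN _ a.isLt) (hrepN _ b.isLt)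
      hu'.2 hv'.2 e1
    have hab : ∀ s < fd.n, fd.qT fq a.val s = fd.qT fq b.val s := by
      intro s hs
      obtain ⟨_, ⟨ρ, hρ⟩⟩ := C.c6.perm_of_mem _ (hrepN _ a.isLt)
      have p1 := C.c6.perm_diag _ k1
      have p2 := C.c6.perm_mul hρ (hrepP _ b.isLt)
      have p3 := C.perm_unique _ _ _ p1 p2 s hs
      have p4 := C.perm_inv _ _ _ (hrepP _ a.isLt) hρ
      simp only [Function.comp, id] at p3
      have hb' : fd.qT fq b.val s < fd.n := ((hrepP _ b.isLt) s hs).1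
      rw [← p4.2 _ hb', ← p3]
    have hab' : a = b := by
      apply Fin.ext
      rcases Nat.lt_trichotomy a.val b.val with h1 | h1 | h1
      · obtain ⟨s, hs, hne⟩ := fd.qdist_spec hQ b.val b.isLt a.val h1
        exact absurd (hab s hs).symm hne
      · exact h1
      · obtain ⟨s, hs, hne⟩ := fd.qdist_spec hQ a.val a.isLt b.val h1
        exact absurd (hab s hs) hne
    subst hab'
    obtain ⟨k3, k4⟩ := k2 rfl
    have h1 : v⁻¹ * u ∈ D.posUnipotent F ⊓ D.diagonalSubgroup F := by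
      refine Subgroup.mem_inf.mpr ⟨mul_mem (inv_mem hv.2) hu.2, ?_⟩
      have : v⁻¹ * u = h' * h⁻¹ := by
        have : v⁻¹ * u = v⁻¹ * (u * h) * h⁻¹ := by group
        rw [this, k3]; group
      rw [this]
      exact mul_mem hh'D (inv_mem hhD)
    rw [C.c6.c2.pos_inf_diag, Subgroup.mem_bot] at h1
    have hu_eq : u = v := by
      have : u = v * (v⁻¹ * u) := by group
      rw [this, h1, mul_one]
    subst hu_eq
    have hh_eq : h = h' := mul_left_cancel k3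
    subst hh_eq
    subst k4
    rfl
  have hsurj : Function.Surjective f := by
    rintro ⟨g, hg⟩
    have hgfix : σ g = g := hG1 hg
    obtain ⟨b, hb, n, hn, u', hu', rfl⟩ := C.c6.canonical_form.1 g (hG1D hg)
    obtain ⟨u, hu, h, hh, rfl⟩ := C.c6.c2.borel_mem b hb
    set n' := h * n with hn'def
    have hn' : n' ∈ D.monomialSubgroup F := mul_mem (hHN hh) hn
    have hu'n : u' ∈ Uw D F n' := C.c6.Uw_le_diag_mul n h hh hu'
    have eg : u * h * n * u' = u * n' * u' := by rw [hn'def]; group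
    rw [eg] at hgfix
    rw [map_mul, map_mul] at hgfix
    have hσn' : σ n' = n' :=
      C.c6.canon_sharp (σ u) u (σ n') n' (σ u') u' (C.sigma_pos T T2 φ u hu) hu
        (C.sigma_monomial T T2 φ hk1 n' hn') hn' (C.sigma_Uw T T2 φ hφs n' u' hu'n) hu'n hgfix
    rw [hσn'] at hgfix
    have hσu'U : σ u' ∈ Uw D F n' := by
      have := C.sigma_Uw T T2 φ hφs n' u' hu'n
      rwa [← hσ, hσn'] at this
    obtain ⟨k3, k4⟩ := (C.c6.canonical_form.2 (σ u) u n' n' (σ u') u' (hUB (C.sigma_pos T T2 φ u hu)) (hUB hu)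
      hn' hn' hσu'U hu'n hgfix).2 rfl
    obtain ⟨⟨π, hπ⟩, _⟩ := C.c6.perm_of_mem n' hn'
    obtain ⟨a, ha, hπa⟩ := C.descent T T2 φ hk hφk hQ hdk hsr hcov _ n' π hn' hσn' hπ rfl
    set h'' := n' * (rep a)⁻¹ with hh''def
    have hh''D : h'' ∈ D.diagonalSubgroup F :=
      C.mul_inv_mem_diag T T2 n' (rep a) hn' (hrepN a ha) π _ hπ (hrepP a ha) hπa
    have hh''fix : σ h'' = h'' := by
      rw [hh''def, map_mul, map_inv, hσn', hG1 (hrepG a ha)]
    have hh''1 : h'' ∈ H1 :=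
      C.fix_diag_le T T2 φ e hke B hB hs (Subgroup.mem_inf.mpr ⟨hh''fix, hh''D⟩)
    have en' : n' = h'' * rep a := by rw [hh''def]; group
    have hu'a : u' ∈ Uw D F (rep a) := by
      have := C.c6.Uw_le_diag_mul n' h''⁻¹ (inv_mem hh''D) hu'n
      have e2 : h''⁻¹ * n' = rep a := by rw [en']; group
      rwa [e2] at this
    refine ⟨⟨⟨a, ha⟩, ⟨⟨u, Subgroup.mem_inf.mpr ⟨k3, hu⟩⟩, ⟨h'', hh''1⟩⟩,
      ⟨u', Subgroup.mem_inf.mpr ⟨k4, hu'a⟩⟩⟩, ?_⟩
    apply Subtype.ext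
    show u * h'' * rep a * u' = u * h * n * u'
    rw [eg, en']; group
  rw [← Nat.card_congr (Equiv.ofBijective f ⟨hinj, hsurj⟩), Nat.card_sigma, evalN_histoN,
    ← Fin.sum_univ_eq_sum_range (fun a => q ^ FD.qLen fq a), Finset.mul_sum]
  apply Finset.sum_congr rfl
  intro a _
  rw [Nat.card_prod, Nat.card_prod,
    C.card_fix_Uw T T2 φ hk q hq hF hφ hφk S (rep a.val) (hrepN _ a.isLt) (hG1 (hrepG _ a.isLt)) _ (hrepP _ a.isLt),
    ← fd.qlen_spec hQ a.val a.isLt]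
  rfl

end Cert12

end Cfsg.Agent.Lib.H29.Chev
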