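import Mathlib
import Cfsg.Prelude.Def_ChevStructure
import Cfsg.Agent.Lib.H29.ChevTw20

/-!
# The `σ`-fixed elements of the torus are products of the elements attached to the orbits
-/

set_option autoImplicit false
set_option linter.unusedSectionVars false
set_option linter.unusedSimpArgs false
set_option linter.unusedVariables false

namespace Cfsg.Agent.Lib.H29.Chev

open Cfsg.Lie Matrix

variable {D : ChevalleyDatum} {fd : FD} {fx : FX} {fc : FC} {fz : FZ} {F : Type*} [Field F]

/-- the fundamental root `c` lies in exactly one of the orbits of the list, once -/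
def chkOrb (ga : GA) (k : ℕ) (sreps : List ℕ) (c : ℕ) : Bool :=
  Nat.beq ((sreps.map fun i =>
    (List.range (if ga.rh.getD i 0 = i then 1 else k)).countP fun j => Nat.beq (rhIt ga j i) c).sum) 1

namespace Cert12

variable (C : Cert12 D fd fx fc fz) {ga : GA} {k : ℕ} (T : TwSpec fd fx ga k) (T2 : TwSpec2 fd fx ga k)
  (φ : F →+* F)
include C T T2

theorem fix_coord (hk : 1 ≤ k) (x : Fin fd.l → Fˣ) (hx : sigT fd ga k φ x = x) (i : ℕ) (hi : i < fd.l) (j : ℕ) :
    x ⟨rhIt ga j i, C.rhIt_lt T T2 j i hi⟩ = (Units.map φ.toMonoidHom)^[j] (x ⟨i, hi⟩) := by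
  induction j with
  | zero => rfl
  | succ j ih =>
    rw [Function.iterate_succ_apply', ← ih]
    have h1 := C.sigT_rh T T2 φ hk x ⟨rhIt ga j i, C.rhIt_lt T T2 j i hi⟩
    rw [hx] at h1
    rw [← h1]
    congr 1
    apply Fin.ext
    exact rhIt_succ ga j i

/-- a `σ`-fixed element of the torus is the product of its components on the orbits -/
theorem fix_decomp (hk : 1 ≤ k) {sreps : List ℕ} (hsr : ∀ i ∈ sreps, i < fd.l)
    (hO : ∀ c < fd.l, chkOrb ga k sreps c = true) (x : Fin fd.l → Fˣ) (hx : sigT fd ga k φ x = x) :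
    x = (sreps.map fun i => yS fd ga k φ i (if h : i < fd.l then x ⟨i, h⟩ else 1)).prod := by
  funext c
  rw [Pi.list_prod_apply, List.map_map]
  have e1 : ∀ i ∈ sreps, ((fun f : Fin fd.l → Fˣ => f c) ∘
      fun i => yS fd ga k φ i (if h : i < fd.l then x ⟨i, h⟩ else 1)) i =
      (x c) ^ ((List.range (if ga.rh.getD i 0 = i then 1 else k)).countP fun j => Nat.beq (rhIt ga j i) c.val) := by
    intro i hi
    have hil := hsr i hi
    simp only [Function.comp]
    rw [dif_pos hil]
    unfold yS
    rw [Pi.list_prod_apply, List.map_map, ← prod_ite_eq_pow]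
    congr 1
    apply List.map_congr_left
    intro j _
    simp only [Function.comp]
    rw [dif_pos (C.rhIt_lt T T2 j i hil), Pi.mulSingle_apply]
    by_cases h : rhIt ga j i = c.val
    · have hc : c = ⟨rhIt ga j i, C.rhIt_lt T T2 j i hil⟩ := Fin.ext h.symm
      rw [if_pos hc, if_pos ((natBeq_iff _ _).mpr h), ← C.fix_coord T T2 φ hk x hx i hil j, ← hc]
    · have hc : c ≠ ⟨rhIt ga j i, C.rhIt_lt T T2 j i hil⟩ := fun e => h (by rw [e])
      rw [if_neg hc, if_neg (fun e => h ((natBeq_iff _ _).mp e))]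
  rw [List.map_congr_left e1, prod_pow_eq_pow_sum]
  have := hO c.val c.isLt
  rw [chkOrb, natBeq_iff] at this
  rw [this, pow_one]

end Cert12

end Cfsg.Agent.Lib.H29.Chev
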