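import Mathlib
import Cfsg.Prelude.Def_ChevStructure
import Cfsg.Agent.Lib.H29.ChevTw19
import Cfsg.Agent.Lib.H29.ChevTw21

/-!
# The order of the group generated by the `σ`-fixed elements attached to the orbits of fundamental roots
-/

set_option autoImplicit false
set_option linter.unusedSectionVars false
set_option linter.unusedSimpArgs false
set_option linter.unusedVariables false

namespace Cfsg.Agent.Lib.H29.Chev

open Cfsg.Lie Matrix

variable {D : ChevalleyDatum} {fd : FD} {fx : FX} {fc : FC} {fz : FZ} {F : Type*} [Field F]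

namespace Cert12

variable (C : Cert12 D fd fx fc fz)

/-- the generators of the twisted group -/
def twGen (ga : GA) (k : ℕ) (φ : F →+* F) (sreps : List ℕ) : Set (GL D.Idx F) :=
  {g | ∃ i ∈ sreps, ∃ t ∈ Kr fd ga φ (fd.simples.getD i 0),
    g = C.xS ga k φ (fd.simples.getD i 0) t ∨ g = C.xS ga k φ (fd.n - 1 - fd.simples.getD i 0) t}

variable {ga : GA} {k : ℕ} (T : TwSpec fd fx ga k) (T2 : TwSpec2 fd fx ga k) (φ : F →+* F)
include C T T2

theorem Kr_neg (r : ℕ) (hr : r < fd.n) (t : F) (ht : t ∈ Kr fd ga φ r) : t ∈ Kr fd ga φ (fd.n - 1 - r) := by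
  intro h
  apply ht
  rw [(T.neg r hr).1] at h
  have := T.gRoot_lt r hr
  omega

theorem xS_mem_group (r : ℕ) (t : F) : C.xS ga k φ r t ∈ D.group F := by
  unfold xS
  apply Subgroup.list_prod_mem
  intro x hx
  obtain ⟨j, _, rfl⟩ := List.mem_map.mp hx
  exact C.c6.c2.xA_mem_group _ _

/-- the facts about the group generated by the `σ`-fixed elements -/
theorem twGen_spec (hk : k = 2 ∨ k = 3) (hφk : ∀ x : F, φ^[k] x = x) {RL sreps : List ℕ}
    (S : ChainSpec fd fx ga k RL sreps) (hO : ∀ c < fd.l, chkOrb ga k sreps c = true) :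
    Subgroup.closure (C.twGen ga k φ sreps) ≤ D.group F ∧
    Subgroup.closure (C.twGen ga k φ sreps) ≤ fixS (C.c6.c2.sigma T.ginv φ) ∧
    fixS (C.c6.c2.sigma T.ginv φ) ⊓ D.posUnipotent F ≤ Subgroup.closure (C.twGen ga k φ sreps) ∧
    (fixS (sigT fd ga k φ)).map (chiHom D fd F) ≤ Subgroup.closure (C.twGen ga k φ sreps) ∧
    ∀ i ∈ sreps, C.nS F ga k i ∈ Subgroup.closure (C.twGen ga k φ sreps) := by
  have hk1 : 1 ≤ k := by omega
  have hsr := S.sreps_lt
  set G1 := Subgroup.closure (C.twGen ga k φ sreps) with hG1def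
  have hP : ∀ i ∈ sreps, ∀ t ∈ Kr fd ga φ (fd.simples.getD i 0), C.xS ga k φ (fd.simples.getD i 0) t ∈ G1 :=
    fun i hi t ht => Subgroup.subset_closure ⟨i, hi, t, ht, Or.inl rfl⟩
  have hN : ∀ i ∈ sreps, ∀ t ∈ Kr fd ga φ (fd.simples.getD i 0),
      C.xS ga k φ (fd.n - 1 - fd.simples.getD i 0) t ∈ G1 :=
    fun i hi t ht => Subgroup.subset_closure ⟨i, hi, t, ht, Or.inr rfl⟩
  have h1 : G1 ≤ D.group F := by
    rw [hG1def, Subgroup.closure_le]
    rintro g ⟨i, _, t, _, rfl | rfl⟩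
    · exact C.xS_mem_group T T2 φ _ _
    · exact C.xS_mem_group T T2 φ _ _
  have h2 : G1 ≤ fixS (C.c6.c2.sigma T.ginv φ) := by
    rw [hG1def, Subgroup.closure_le]
    rintro g ⟨i, hi, t, ht, rfl | rfl⟩
    · exact C.sigma_xS T φ hk hφk _ (C.c6.c2.simple_lt i (hsr i hi)) t ht
    · have hp := C.c6.c2.simple_lt i (hsr i hi)
      exact C.sigma_xS T φ hk hφk _ (by omega) t (C.Kr_neg T T2 φ _ hp t ht)
  have h1K : ∀ r, (1 : F) ∈ Kr fd ga φ r := fun r _ => map_one φ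
  have hm1K : ∀ r, (-1 : F) ∈ Kr fd ga φ r := fun r _ => by rw [map_neg, map_one]
  have h5 : ∀ i ∈ sreps, C.nS F ga k i ∈ G1 := by
    intro i hi
    rw [C.nS_eq T T2 φ hk i (hsr i hi)]
    exact mul_mem (mul_mem (hP i hi 1 (h1K _)) (hN i hi (-1) (hm1K _))) (hP i hi 1 (h1K _))
  have h3 : fixS (C.c6.c2.sigma T.ginv φ) ⊓ D.posUnipotent F ≤ G1 := by
    apply C.fixU_le T φ hk hφk S G1 h2 hP
    intro i hi
    refine ⟨C.nS F ga k i, h5 i hi, ?_⟩
    have hil := hsr i hi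
    have hπ := C.perm_nS T T2 (F := F) i hil
    obtain ⟨_, ⟨ρ, hρ⟩⟩ := C.c6.perm_of_mem _ (C.nS_mem_monomial T T2 (F := F) i)
    have hinv := C.perm_inv _ _ _ hπ hρ
    apply C.perm_congr _ _ _ hρ
    intro s hs
    have hs' : fd.piS fx ga k i s < fd.n := (hπ s hs).1
    have e := hinv.1 _ hs'
    have e2 : fd.piS fx ga k i (fd.piS fx ga k i s) = s := T2.invol i hil s hs
    rw [e2] at e
    exact e
  refine ⟨h1, h2, h3, ?_, h5⟩
  rintro _ ⟨x, hx, rfl⟩
  have hx' : sigT fd ga k φ x = x := hx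
  rw [C.fix_decomp T T2 φ hk1 hsr hO x hx', map_list_prod]
  apply Subgroup.list_prod_mem
  intro g hg
  rw [List.map_map] at hg
  obtain ⟨i, hi, rfl⟩ := List.mem_map.mp hg
  have hil := hsr i hi
  simp only [Function.comp]
  rw [dif_pos hil, ← C.hS_eq T T2 φ i hil]
  have hu : ((x ⟨i, hil⟩ : Fˣ) : F) ∈ Kr fd ga φ (fd.simples.getD i 0) := by
    intro hfix
    have hrh : ga.rh.getD i 0 = i := by
      by_contra hne
      exact C.gRoot_simple_ne T T2 i hil hne hfix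
    have := C.fix_coord T T2 φ hk1 x hx' i hil 1
    have e1 : (⟨rhIt ga 1 i, C.rhIt_lt T T2 1 i hil⟩ : Fin fd.l) = ⟨i, hil⟩ := Fin.ext hrh
    rw [e1, Function.iterate_one] at this
    have := congrArg Units.val this
    exact this.symm
  have hu' : (-((x ⟨i, hil⟩ : Fˣ) : F)⁻¹) ∈ Kr fd ga φ (fd.simples.getD i 0) := by
    intro hfix
    rw [map_neg, map_inv₀, hu hfix]
  have h11 : (-(-1 : F)⁻¹) ∈ Kr fd ga φ (fd.simples.getD i 0) := by
    intro hfix
    rw [map_neg, map_inv₀, map_neg, map_one]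
  unfold hS
  exact mul_mem (mul_mem (mul_mem (hP i hi _ hu) (hN i hi _ hu')) (hP i hi _ hu))
    (mul_mem (mul_mem (hP i hi _ (hm1K _)) (hN i hi _ h11)) (hP i hi _ (hm1K _)))

/-- the order of the group of `σ`-fixed elements of `U` -/
theorem card_fix_pos [Finite F] (hk : k = 2 ∨ k = 3) (q : ℕ) (hq : 1 ≤ q) (hF : Nat.card F = q ^ k)
    (hφ : ∀ x, φ x = x ^ q) (hφk : ∀ x : F, φ^[k] x = x) {RL sreps : List ℕ}
    (S : ChainSpec fd fx ga k RL sreps) :
    Nat.card ↥(fixS (C.c6.c2.sigma T.ginv φ) ⊓ D.posUnipotent F) = q ^ (RL.map fun r => fd.os ga k r).sum := by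
  have hk1 : 1 ≤ k := by omega
  rw [C.posUnipotent_eq, C.card_fix_Vm T φ hk hφk S (fun _ => True) (fun _ _ _ _ _ _ _ _ _ _ _ => trivial)
    (fun _ _ _ _ => trivial)]
  have e2 : (RL.filter fun r => decide ((fun _ => True) r)) = RL := by
    simp
  rw [e2]
  generalize RL = L
  induction L with
  | nil => simp
  | cons r L ih =>
    rw [List.map_cons, List.prod_cons, List.map_cons, List.sum_cons, pow_add, ih,
      card_Kr (fd := fd) ga k q hk1 hq hF φ hφ r]

/-- the order of the group generated by the `σ`-fixed elements attached to the orbits -/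
theorem card_twGen [Finite F] (hk : k = 2 ∨ k = 3) (q : ℕ) (hq : 1 ≤ q) (hF : Nat.card F = q ^ k)
    (hφ : ∀ x, φ x = x ^ q) (hφk : ∀ x : F, φ^[k] x = x) {RL sreps : List ℕ}
    (S : ChainSpec fd fx ga k RL sreps) {fq : FQ} (hQ : fd.ChkQ fx ga k sreps RL fq) (hdk : 0 < fq.dk)
    (hcov : ∀ i < fd.l, ∃ ii < sreps.length, ∃ j < k, i = rhIt ga j (sreps.getD ii 0))
    (hO : ∀ c < fd.l, chkOrb ga k sreps c = true)
    (e : ℕ) (hke : (k = 3 ∧ e = 2) ∨ (k = 2 ∧ e = 3))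
    (B : Matrix (Fin fd.l) (Fin fd.l) ℤ) (hB : cartM fd * B = (e : ℤ) • (1 : Matrix (Fin fd.l) (Fin fd.l) ℤ))
    (hs : ∀ x : Fin fd.l → Fˣ, (sigT fd ga k φ)^[k] x = x) :
    Nat.card ↥(Subgroup.closure (C.twGen ga k φ sreps)) = q ^ (RL.map fun r => fd.os ga k r).sum *
      Nat.card ↥((fixS (sigT fd ga k φ)).map (chiHom D fd F)) * evalN (histoN (FD.qLen fq) fq.dk) q ∧
    Nat.card ↥(D.posUnipotent F ⊓ Subgroup.closure (C.twGen ga k φ sreps)) =
      q ^ (RL.map fun r => fd.os ga k r).sum := by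
  obtain ⟨h1, h2, h3, h4, h5⟩ := C.twGen_spec T T2 φ hk hφk S hO
  constructor
  · rw [C.card_twisted T T2 φ hk q hq hF hφ hφk S hQ hdk hcov e hke B hB hs _ h1 h2 h3 h4 h5,
      C.card_fix_pos T T2 φ hk q hq hF hφ hφk S]
  · rw [← C.card_fix_pos T T2 φ hk q hq hF hφ hφk S]
    congr 2
    apply le_antisymm
    · intro g hg
      exact Subgroup.mem_inf.mpr ⟨h2 (Subgroup.mem_inf.mp hg).2, (Subgroup.mem_inf.mp hg).1⟩
    · intro g hg
      exact Subgroup.mem_inf.mpr ⟨(Subgroup.mem_inf.mp hg).2, h3 hg⟩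

end Cert12

end Cfsg.Agent.Lib.H29.Chev
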