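import Mathlib
import Cfsg.Prelude.Def_ChevStructure
import Cfsg.Agent.Lib.H29.ChevTw22

/-!
# The decomposition `G¹ = U¹ N¹ U¹` of a twisted group
-/

set_option autoImplicit false
set_option linter.unusedSectionVars false
set_option linter.unusedSimpArgs false
set_option linter.unusedVariables false

namespace Cfsg.Agent.Lib.H29.Chev

open Cfsg.Lie Matrix

variable {D : ChevalleyDatum} {fd : FD} {fx : FX} {fc : FC} {fz : FZ} {F : Type*} [Field F]

namespace Cert12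

variable (C : Cert12 D fd fx fc fz) {ga : GA} {k : ℕ} (T : TwSpec fd fx ga k) (T2 : TwSpec2 fd fx ga k)
  (φ : F →+* F)

/-- the subgroup generated by the elements `n_S` -/
def nsGen (F : Type*) [Field F] (ga : GA) (k : ℕ) (sreps : List ℕ) : Subgroup (GL D.Idx F) :=
  Subgroup.closure {g | ∃ i ∈ sreps, g = C.nS F ga k i}

include C T T2

/-- a `σ`-fixed element of `N` is the product of an element of `H` and a product of elements `n_S` -/
theorem tw_N_decomp (hk : k = 2 ∨ k = 3) (hφk : ∀ x : F, φ^[k] x = x) {RL sreps : List ℕ}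
    (S : ChainSpec fd fx ga k RL sreps) {fq : FQ} (hQ : fd.ChkQ fx ga k sreps RL fq) (hdk : 0 < fq.dk)
    (hcov : ∀ i < fd.l, ∃ ii < sreps.length, ∃ j < k, i = rhIt ga j (sreps.getD ii 0))
    (m : GL D.Idx F) (hm : m ∈ D.monomialSubgroup F) (hfix : C.c6.c2.sigma T.ginv φ m = m) :
    ∃ r ∈ C.nsGen F ga k sreps, r ∈ D.monomialSubgroup F ∧ m * r⁻¹ ∈ D.diagonalSubgroup F := by
  have hsr := S.sreps_lt
  obtain ⟨⟨π, hπ⟩, _⟩ := C.c6.perm_of_mem m hm
  obtain ⟨a, ha, hπa⟩ := C.descent T T2 φ hk hφk hQ hdk hsr hcov _ m π hm hfix hπ rfl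
  obtain ⟨r, hrN, hrG, hrP⟩ := C.exists_rep T T2 (F := F) hQ hsr (C.nsGen F ga k sreps)
    (fun i hi => Subgroup.subset_closure ⟨i, hi, rfl⟩) a ha
  exact ⟨r, hrG, hrN, C.mul_inv_mem_diag T T2 m r hm hrN π _ hπ hrP hπa⟩

/-- the decomposition `G¹ = U¹ N¹ U¹` -/
theorem tw_canon [Finite F] (hk : k = 2 ∨ k = 3) (hφk : ∀ x : F, φ^[k] x = x)
    (G1 : Subgroup (GL D.Idx F)) (hG1D : G1 ≤ D.group F) (hG1 : G1 ≤ fixS (C.c6.c2.sigma T.ginv φ))
    (g : GL D.Idx F) (hg : g ∈ G1) :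
    ∃ u ∈ fixS (C.c6.c2.sigma T.ginv φ) ⊓ D.posUnipotent F,
    ∃ m ∈ D.monomialSubgroup F, C.c6.c2.sigma T.ginv φ m = m ∧
    ∃ u' ∈ fixS (C.c6.c2.sigma T.ginv φ) ⊓ D.posUnipotent F, g = u * m * u' := by
  have hk1 : 1 ≤ k := by omega
  have hφs : Function.Surjective φ := Finite.surjective_of_injective φ.injective
  have hUB : D.posUnipotent F ≤ D.borelSubgroup F := le_sup_left
  have hHN : D.diagonalSubgroup F ≤ D.monomialSubgroup F := le_sup_left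
  set σ := C.c6.c2.sigma T.ginv φ with hσ
  have hgfix : σ g = g := hG1 hg
  obtain ⟨b, hb, n, hn, u', hu', rfl⟩ := C.c6.canonical_form.1 g (hG1D hg)
  obtain ⟨u, hu, h, hh, rfl⟩ := C.c6.c2.borel_mem b hb
  set n' := h * n with hn'def
  have hn' : n' ∈ D.monomialSubgroup F := mul_mem (hHN hh) hn
  have hu'n : u' ∈ Uw D F n' := C.c6.Uw_le_diag_mul n h hh hu'
  have eg : u * h * n * u' = u * n' * u' := by rw [hn'def]; group
  rw [eg] at hgfix
  rw [map_mul, map_mul] at hgfix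
  have hσn' : σ n' = n' :=
    C.c6.canon_sharp (σ u) u (σ n') n' (σ u') u' (C.sigma_pos T T2 φ u hu) hu
      (C.sigma_monomial T T2 φ hk1 n' hn') hn' (C.sigma_Uw T T2 φ hφs n' u' hu'n) hu'n hgfix
  rw [hσn'] at hgfix
  have hσu'U : σ u' ∈ Uw D F n' := by
    have := C.sigma_Uw T T2 φ hφs n' u' hu'n
    rwa [← hσ, hσn'] at this
  obtain ⟨k3, k4⟩ := (C.c6.canonical_form.2 (σ u) u n' n' (σ u') u' (hUB (C.sigma_pos T T2 φ u hu)) (hUB hu)
    hn' hn' hσu'U hu'n hgfix).2 rfl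
  exact ⟨u, Subgroup.mem_inf.mpr ⟨k3, hu⟩, n', hn', hσn', u', Subgroup.mem_inf.mpr ⟨k4, Uw_le_pos _ hu'n⟩, eg⟩

end Cert12

end Cfsg.Agent.Lib.H29.Chev
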