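import Mathlib
import Cfsg.Prelude.Def_ChevStructure
import Cfsg.Agent.Lib.H29.ChevTw25

/-!
# The double coset axiom for a twisted group
-/

set_option autoImplicit false
set_option linter.unusedSectionVars false
set_option linter.unusedSimpArgs false
set_option linter.unusedVariables false

namespace Cfsg.Agent.Lib.H29.Chev

open Cfsg.Lie Matrix

variable {D : ChevalleyDatum} {fd : FD} {fx : FX} {fc : FC} {fz : FZ} {F : Type*} [Field F]

namespace FD

variable (fd : FD) (fx : FX) (ga : GA) (k : ℕ)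

/-- the subwords of the word of an orbit that commute with the graph automorphism are the empty and the full one -/
def chkSub (i : ℕ) : Bool :=
  (orbW ga k i).sublists.all fun w' =>
    !((List.range fd.n).all fun s => Nat.beq (fd.wordP fx w' (fd.gRoot ga s)) (fd.gRoot ga (fd.wordP fx w' s))) ||
    (List.range fd.n).all (fun s => Nat.beq (fd.wordP fx w' s) s) ||
    (List.range fd.n).all (fun s => Nat.beq (fd.wordP fx w' s) (fd.piS fx ga k i s))

end FD

theorem FD.chkSub_spec {ga : GA} {k : ℕ} (i : ℕ) (h : fd.chkSub fx ga k i = true) (w' : List ℕ)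
    (hw' : w'.Sublist (orbW ga k i))
    (hc : ∀ s < fd.n, fd.wordP fx w' (fd.gRoot ga s) = fd.gRoot ga (fd.wordP fx w' s)) :
    (∀ s < fd.n, fd.wordP fx w' s = s) ∨ (∀ s < fd.n, fd.wordP fx w' s = fd.piS fx ga k i s) := by
  simp only [FD.chkSub, List.all_eq_true, List.mem_sublists, Bool.or_eq_true, Bool.not_eq_true',
    ← Bool.not_eq_true, List.mem_range, natBeq_iff] at h
  rcases h w' hw' with (h1 | h1) | h1
  · exact absurd hc (by
      intro hc'
      apply h1
      intro s hs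
      exact hc' s hs)
  · exact Or.inl h1
  · exact Or.inr h1

namespace Cert12

variable (C : Cert12 D fd fx fc fz) {ga : GA} {k : ℕ} (T : TwSpec fd fx ga k) (T2 : TwSpec2 fd fx ga k)
  (φ : F →+* F)
include C

/-- the double coset axiom for a word in the fundamental reflections -/
theorem wordN_borel_mul (w : List ℕ) (hw : IsWd fd.l w) (n : GL D.Idx F) (hn : n ∈ D.monomialSubgroup F)
    (b : GL D.Idx F) (hb : b ∈ D.borelSubgroup F) :
    ∃ w' : List ℕ, w'.Sublist w ∧ C.wordN F w * b * n ∈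
      DoubleCoset.doubleCoset (C.wordN F w' * n) (D.borelSubgroup F : Set (GL D.Idx F)) (D.borelSubgroup F) := by
  induction w generalizing b with
  | nil =>
    refine ⟨[], List.Sublist.refl _, ?_⟩
    rw [DoubleCoset.mem_doubleCoset]
    exact ⟨b, hb, 1, one_mem _, by simp [wordN]⟩
  | cons i w ih =>
    obtain ⟨hi, hw'⟩ := hw.of_cons
    obtain ⟨w', hs', hmem⟩ := ih hw' b hb
    rw [DoubleCoset.mem_doubleCoset] at hmem
    obtain ⟨b₁, hb₁, b₂, hb₂, e⟩ := hmem
    have hn' : C.wordN F w' * n ∈ D.monomialSubgroup F := mul_mem (C.wordN_mem w') hn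
    have e0 : C.wordN F (i :: w) * b * n =
        C.c6.c2.nG (fd.simples.getD i 0) (C.c6.c2.simple_lt i hi) * b₁ * (C.wordN F w' * n) * b₂ := by
      simp only [wordN, dif_pos hi]
      calc C.c6.c2.nG (fd.simples.getD i 0) (C.c6.c2.simple_lt i hi) * C.wordN F w * b * n
          = C.c6.c2.nG (fd.simples.getD i 0) (C.c6.c2.simple_lt i hi) * (C.wordN F w * b * n) := by group
        _ = _ := by rw [e]; group
    rcases C.c6.nG_mul_borel_mul i hi (C.wordN F w' * n) hn' b₁ hb₁ with h | h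
    · rw [DoubleCoset.mem_doubleCoset] at h
      obtain ⟨c₁, hc₁, c₂, hc₂, e'⟩ := h
      refine ⟨i :: w', hs'.cons_cons i, ?_⟩
      rw [DoubleCoset.mem_doubleCoset]
      refine ⟨c₁, hc₁, c₂ * b₂, mul_mem hc₂ hb₂, ?_⟩
      rw [e0, e']
      simp only [wordN, dif_pos hi]
      group
    · rw [DoubleCoset.mem_doubleCoset] at h
      obtain ⟨c₁, hc₁, c₂, hc₂, e'⟩ := h
      refine ⟨w', hs'.cons i, ?_⟩
      rw [DoubleCoset.mem_doubleCoset]
      refine ⟨c₁, hc₁, c₂ * b₂, mul_mem hc₂ hb₂, ?_⟩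
      rw [e0, e']
      group

open Cfsg.Agent.Lib.H2.BN in
/-- two elements of `N` in the same double coset of `B` differ by an element of `H` -/
theorem bruhat_disjoint (m m' : GL D.Idx F) (hm : m ∈ D.monomialSubgroup F) (hm' : m' ∈ D.monomialSubgroup F)
    (g : GL D.Idx F)
    (h1 : g ∈ DoubleCoset.doubleCoset m (D.borelSubgroup F : Set (GL D.Idx F)) (D.borelSubgroup F))
    (h2 : g ∈ DoubleCoset.doubleCoset m' (D.borelSubgroup F : Set (GL D.Idx F)) (D.borelSubgroup F)) :
    m⁻¹ * m' ∈ D.diagonalSubgroup F := by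
  have hmG := C.c6.c2.monomial_le_group hm
  have hm'G := C.c6.c2.monomial_le_group hm'
  obtain ⟨b₁, hb₁, u₁, hu₁, e₁⟩ := C.c6.canon_exists_aux _ (⟨m, hmG⟩ : ↥(D.group F))
    (Subgroup.mem_subgroupOf.mpr hm) rfl g h1
  obtain ⟨b₂, hb₂, u₂, hu₂, e₂⟩ := C.c6.canon_exists_aux _ (⟨m', hm'G⟩ : ↥(D.group F))
    (Subgroup.mem_subgroupOf.mpr hm') rfl g h2
  exact (C.c6.canonical_form.2 b₁ b₂ m m' u₁ u₂ hb₁ hb₂ hm hm' hu₁ hu₂ (e₁.symm.trans e₂)).1

end Cert12

end Cfsg.Agent.Lib.H29.Chev
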