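import Mathlib
import Cfsg.Prelude.Def_ChevStructure
import Cfsg.Agent.Lib.H29.ChevTw26

/-!
# The double coset axiom for a twisted group, in the group
-/

set_option autoImplicit false
set_option linter.unusedSectionVars false
set_option linter.unusedSimpArgs false
set_option linter.unusedVariables false

namespace Cfsg.Agent.Lib.H29.Chev

open Cfsg.Lie Matrix

variable {D : ChevalleyDatum} {fd : FD} {fx : FX} {fc : FC} {fz : FZ} {F : Type*} [Field F]

namespace Cert12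

variable (C : Cert12 D fd fx fc fz) {ga : GA} {k : ℕ} (T : TwSpec fd fx ga k) (T2 : TwSpec2 fd fx ga k)
  (φ : F →+* F)
include C T T2

/-- if `m⁻¹ m' ∈ H` the permutations agree -/
theorem perm_eq_of_diag (m m' : GL D.Idx F) (hm : m ∈ D.monomialSubgroup F) (π π' : ℕ → ℕ)
    (hπ : C.c6.c2.Perm m π) (hπ' : C.c6.c2.Perm m' π') (h : m⁻¹ * m' ∈ D.diagonalSubgroup F) :
    ∀ s < fd.n, π s = π' s := by
  intro s hs
  obtain ⟨_, ⟨ρ, hρ⟩⟩ := C.c6.perm_of_mem m hm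
  have p1 := C.c6.perm_diag _ h
  have p2 := C.c6.perm_mul hρ hπ'
  have p3 := C.perm_unique _ _ _ p1 p2 s hs
  have p4 := C.perm_inv _ _ _ hπ hρ
  simp only [Function.comp, id] at p3
  have hb' : π' s < fd.n := (hπ' s hs).1
  rw [← p4.2 _ hb', ← p3]

/-- the double coset axiom for a twisted group -/
theorem tw_mul_mem_union [Finite F] (hk : k = 2 ∨ k = 3) (hφk : ∀ x : F, φ^[k] x = x)
    (G1 : Subgroup (GL D.Idx F)) (hG1D : G1 ≤ D.group F) (hG1 : G1 ≤ fixS (C.c6.c2.sigma T.ginv φ))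
    (hU : fixS (C.c6.c2.sigma T.ginv φ) ⊓ D.posUnipotent F ≤ G1)
    (i : ℕ) (hi : i < fd.l) (hNS : C.nS F ga k i ∈ G1) (hchk : fd.chkSub fx ga k i = true)
    (n : GL D.Idx F) (hn : n ∈ D.monomialSubgroup F ⊓ G1) (b : GL D.Idx F) (hb : b ∈ D.borelSubgroup F ⊓ G1) :
    ∃ x ∈ D.borelSubgroup F ⊓ G1, ∃ y ∈ D.borelSubgroup F ⊓ G1,
      C.nS F ga k i * b * n = x * (C.nS F ga k i * n) * y ∨ C.nS F ga k i * b * n = x * n * y := by
  have hUB : D.posUnipotent F ≤ D.borelSubgroup F := le_sup_left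
  have hHB : D.diagonalSubgroup F ≤ D.borelSubgroup F := le_sup_right
  obtain ⟨hnN, hnG⟩ := Subgroup.mem_inf.mp hn
  obtain ⟨hbB, hbG⟩ := Subgroup.mem_inf.mp hb
  set s := C.nS F ga k i with hs
  have hgG : s * b * n ∈ G1 := mul_mem (mul_mem hNS hbG) hnG
  obtain ⟨u, hu, m, hm, hmfix, u', hu', eg⟩ := C.tw_canon T T2 φ hk hφk G1 hG1D hG1 _ hgG
  have huG := hU hu
  have hu'G := hU hu'
  have hmG : m ∈ G1 := by
    have : m = u⁻¹ * (s * b * n) * u'⁻¹ := by rw [eg]; group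
    rw [this]
    exact mul_mem (mul_mem (inv_mem huG) hgG) (inv_mem hu'G)
  -- the ambient double cosets
  have hwd := C.orbW_isWd T T2 i hi
  obtain ⟨w', hsub, hmem⟩ := C.wordN_borel_mul (orbW ga k i) hwd n hnN b hbB
  have hwd' : IsWd fd.l w' := fun j hj => hwd j (hsub.subset hj)
  have hm' : C.wordN F w' * n ∈ D.monomialSubgroup F := mul_mem (C.wordN_mem w') hnN
  have hmem2 : s * b * n ∈ DoubleCoset.doubleCoset m (D.borelSubgroup F : Set (GL D.Idx F)) (D.borelSubgroup F) := by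
    rw [DoubleCoset.mem_doubleCoset]
    exact ⟨u, hUB hu.2, u', hUB hu'.2, eg⟩
  have hdiag := C.bruhat_disjoint m (C.wordN F w' * n) hm hm' _ hmem2 hmem
  -- the permutations
  obtain ⟨⟨πm, hπm⟩, _⟩ := C.c6.perm_of_mem m hm
  obtain ⟨⟨πn, hπn⟩, ⟨ρn, hρn⟩⟩ := C.c6.perm_of_mem n hnN
  have hπ' := C.c6.perm_mul (C.perm_wordN w' hwd') hπn
  have key := C.perm_eq_of_diag T T2 m _ hm _ _ hπm hπ' hdiag
  simp only [Function.comp] at key
  have hnfix : C.c6.c2.sigma T.ginv φ n = n := hG1 hnG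
  have hinv := C.perm_inv _ _ _ hπn hρn
  have hcomm : ∀ t < fd.n, fd.wordP fx w' (fd.gRoot ga t) = fd.gRoot ga (fd.wordP fx w' t) := by
    intro t ht
    have ht' : ρn t < fd.n := (hρn t ht).1
    have e1 : πn (ρn t) = t := hinv.2 t ht
    have e2 := C.perm_comm_rho T T2 φ n hnfix πn hπn (ρn t) ht'
    have e3 := C.perm_comm_rho T T2 φ m hmfix πm hπm (ρn t) ht'
    rw [e1] at e2
    rw [← e2, ← key _ (T.gRoot_lt _ ht'), e3, key _ ht', e1]
  have hsplit := fd.chkSub_spec i hchk w' hsub hcomm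
  have hmn : ∀ h : GL D.Idx F, h ∈ D.diagonalSubgroup F → h ∈ G1 → u * h ∈ D.borelSubgroup F ⊓ G1 :=
    fun h h1 h2 => Subgroup.mem_inf.mpr ⟨mul_mem (hUB hu.2) (hHB h1), mul_mem huG h2⟩
  have hu'B : u' ∈ D.borelSubgroup F ⊓ G1 := Subgroup.mem_inf.mpr ⟨hUB hu'.2, hu'G⟩
  rcases hsplit with h1 | h1
  · have hd := C.mul_inv_mem_diag T T2 m n hm hnN πm πn hπm hπn (fun t ht => by
      rw [key t ht, h1 _ (hπn t ht).1])
    refine ⟨u * (m * n⁻¹), hmn _ hd (mul_mem hmG (inv_mem hnG)), u', hu'B, Or.inr ?_⟩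
    rw [eg]; group
  · have hsN : s ∈ D.monomialSubgroup F := C.nS_mem_monomial T T2 i
    have hπs := C.c6.perm_mul (C.perm_nS T T2 (F := F) i hi) hπn
    have hd := C.mul_inv_mem_diag T T2 m (s * n) hm (mul_mem hsN hnN) πm _ hπm hπs (fun t ht => by
      simp only [Function.comp]
      rw [key t ht, h1 _ (hπn t ht).1])
    refine ⟨u * (m * (s * n)⁻¹), hmn _ hd (mul_mem hmG (inv_mem (mul_mem hNS hnG))), u', hu'B, Or.inl ?_⟩
    rw [eg]; group

end Cert12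

end Cfsg.Agent.Lib.H29.Chev
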