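import Mathlib
import Cfsg.Prelude.Def_ChevStructure
import Cfsg.Prelude.Def_LieExceptional
import Cfsg.Agent.Lib.H29.ChevTw27

/-!
# The `(B, N)`-pair of a twisted group
-/

set_option autoImplicit false
set_option linter.unusedSectionVars false
set_option linter.unusedSimpArgs false
set_option linter.unusedVariables false

namespace Cfsg.Agent.Lib.H29.Chev

open Cfsg.Lie Matrix

variable {D : ChevalleyDatum} {fd : FD} {fx : FX} {fc : FC} {fz : FZ} {F : Type*} [Field F]

namespace FD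

variable (fd : FD) (fx : FX) (ga : GA) (k : ℕ)

/-- the elements `w_S` are distinct, and make the roots of their orbits negative -/
def chkInjS (sreps : List ℕ) : Bool :=
  (sreps.all fun i => sreps.all fun i' =>
    Nat.beq i i' || (List.range fd.n).any fun s => !(Nat.beq (fd.piS fx ga k i s) (fd.piS fx ga k i' s))) &&
  (sreps.all fun i => (orbW ga k i).all fun j => Nat.blt (fd.piS fx ga k i (fd.simples.getD j 0)) (fd.n / 2)) &&
  (sreps.all fun i => fd.chkSub fx ga k i)

end FD

namespace Cert12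

variable (C : Cert12 D fd fx fc fz) {ga : GA} {k : ℕ} (T : TwSpec fd fx ga k) (T2 : TwSpec2 fd fx ga k)
  (φ : F →+* F)
include C T T2

/-- conjugation by `n_S` maps `x_S(t)` into `V` -/
theorem nS_conj_xS_mem_neg (i : ℕ) (hi : i < fd.l)
    (hneg : ∀ j ∈ orbW ga k i, fd.piS fx ga k i (fd.simples.getD j 0) < fd.n / 2) (t : F) :
    C.nS F ga k i * C.xS ga k φ (fd.simples.getD i 0) t * (C.nS F ga k i)⁻¹ ∈ D.negUnipotent F := by
  rw [(C.xS_simple T T2 φ i hi t).1]
  have e : ∀ L : List (GL D.Idx F), C.nS F ga k i * L.prod * (C.nS F ga k i)⁻¹ =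
      (L.map fun x => C.nS F ga k i * x * (C.nS F ga k i)⁻¹).prod := by
    intro L
    induction L with
    | nil => simp
    | cons a L ih =>
      rw [List.prod_cons, List.map_cons, List.prod_cons, ← ih]
      group
  rw [e]
  apply Subgroup.list_prod_mem
  intro x hx
  rw [List.map_map] at hx
  obtain ⟨j, hj, rfl⟩ := List.mem_map.mp hx
  simp only [Function.comp]
  have hjo : rhIt ga j i ∈ orbW ga k i := by
    unfold orbW
    exact List.mem_map.mpr ⟨j, hj, rfl⟩
  have hp := C.c6.c2.simple_lt _ (C.rhIt_lt T T2 j i hi)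
  obtain ⟨h1, _, c, h3⟩ := C.perm_nS T T2 (F := F) i hi _ hp
  rw [h3]
  exact C.c6.xA_neg_mem_neg _ h1 (hneg _ hjo) _

/-- `x_S(1)` is not the identity -/
theorem xS_one_ne (hk : 1 ≤ k) (i : ℕ) (hi : i < fd.l) : C.xS ga k φ (fd.simples.getD i 0) (1 : F) ≠ 1 := by
  intro h
  have hp := C.c6.c2.simple_lt i hi
  have hpp := C.c6.simple_pos i hi
  have := (C.coord_xS T φ hk _ hp hpp (T.htpos _ hp hpp) (1 : F)).2
  rw [h, Units.val_one, coordM_one _ (by rw [C.c6.c2.nroots_eq]; exact hp)] at this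
  exact zero_ne_one this

/-- the `(B, N)`-pair of a twisted group -/
noncomputable def twBN [Finite F] (hk : k = 2 ∨ k = 3) (hφk : ∀ x : F, φ^[k] x = x) {RL sreps : List ℕ}
    (S : ChainSpec fd fx ga k RL sreps) {fq : FQ} (hQ : fd.ChkQ fx ga k sreps RL fq) (hdk : 0 < fq.dk)
    (hcov : ∀ i < fd.l, ∃ ii < sreps.length, ∃ j < k, i = rhIt ga j (sreps.getD ii 0))
    (hO : ∀ c < fd.l, chkOrb ga k sreps c = true) (hI : fd.chkInjS fx ga k sreps = true) :
    Cfsg.BNPair ↥(Subgroup.closure (C.twGen ga k φ sreps)) :=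
  have hk1 : 1 ≤ k := by omega
  have hsr := S.sreps_lt
  have hspec := C.twGen_spec T T2 φ hk hφk S hO
  have h1 := hspec.1
  have h2 := hspec.2.1
  have h3 := hspec.2.2.1
  have h5 := hspec.2.2.2.2
  have hUB : D.posUnipotent F ≤ D.borelSubgroup F := le_sup_left
  have hHB : D.diagonalSubgroup F ≤ D.borelSubgroup F := le_sup_right
  have hHN : D.diagonalSubgroup F ≤ D.monomialSubgroup F := le_sup_left
  have hIs : (∀ i ∈ sreps, ∀ i' ∈ sreps, i = i' ∨ ∃ s < fd.n, fd.piS fx ga k i s ≠ fd.piS fx ga k i' s) ∧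
      (∀ i ∈ sreps, ∀ j ∈ orbW ga k i, fd.piS fx ga k i (fd.simples.getD j 0) < fd.n / 2) ∧
      (∀ i ∈ sreps, fd.chkSub fx ga k i = true) := by
    simp only [FD.chkInjS, Bool.and_eq_true, List.all_eq_true, Bool.or_eq_true, natBeq_iff, List.any_eq_true,
      List.mem_range, Bool.not_eq_true', ← Bool.not_eq_true, natBlt_iff] at hI
    exact ⟨hI.1.1, hI.1.2, hI.2⟩
  { B := (D.borelSubgroup F ⊓ Subgroup.closure (C.twGen ga k φ sreps)).subgroupOf
      (Subgroup.closure (C.twGen ga k φ sreps))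
    N := (D.monomialSubgroup F ⊓ Subgroup.closure (C.twGen ga k φ sreps)).subgroupOf
      (Subgroup.closure (C.twGen ga k φ sreps))
    S := {s | ∃ i ∈ sreps, (s : GL D.Idx F) = C.nS F ga k i}
    sup_eq_top := by
      rw [eq_top_iff]
      rintro ⟨g, hg⟩ _
      obtain ⟨u, hu, m, hm, hmfix, u', hu', eg⟩ := C.tw_canon T T2 φ hk hφk _ h1 h2 g hg
      have huG := h3 hu
      have hu'G := h3 hu'
      have hmG : m ∈ Subgroup.closure (C.twGen ga k φ sreps) := by
        have : m = u⁻¹ * g * u'⁻¹ := by rw [eg]; group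
        rw [this]
        exact mul_mem (mul_mem (inv_mem huG) hg) (inv_mem hu'G)
      have e : (⟨g, hg⟩ : ↥(Subgroup.closure (C.twGen ga k φ sreps))) = ⟨u, huG⟩ * ⟨m, hmG⟩ * ⟨u', hu'G⟩ :=
        Subtype.ext eg
      rw [e]
      refine mul_mem (mul_mem (Subgroup.mem_sup_left ?_) (Subgroup.mem_sup_right ?_)) (Subgroup.mem_sup_left ?_)
      · exact Subgroup.mem_subgroupOf.mpr (Subgroup.mem_inf.mpr ⟨hUB hu.2, huG⟩)
      · exact Subgroup.mem_subgroupOf.mpr (Subgroup.mem_inf.mpr ⟨hm, hmG⟩)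
      · exact Subgroup.mem_subgroupOf.mpr (Subgroup.mem_inf.mpr ⟨hUB hu'.2, hu'G⟩)
    conj_mem := by
      rintro ⟨n, hnG⟩ hn ⟨t, htG⟩ ht
      obtain ⟨ht1, ht2⟩ := Subgroup.mem_inf.mp ht
      have hnN := (Subgroup.mem_inf.mp (Subgroup.mem_subgroupOf.mp hn)).1
      have htB := (Subgroup.mem_inf.mp (Subgroup.mem_subgroupOf.mp ht1)).1
      have htN := (Subgroup.mem_inf.mp (Subgroup.mem_subgroupOf.mp ht2)).1
      have htH : t ∈ D.diagonalSubgroup F := by
        rw [← C.c6.c2.borel_inf_monomial]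
        exact Subgroup.mem_inf.mpr ⟨htB, htN⟩
      have := (Subgroup.mem_normalizer_iff.mp (C.c6.c2.monomial_le_normalizer_diag hnN) t).mp htH
      apply Subgroup.mem_subgroupOf.mpr
      exact Subgroup.mem_inf.mpr ⟨hHB this, mul_mem (mul_mem hnG htG) (inv_mem hnG)⟩
    subset := by
      rintro ⟨s, hsG⟩ ⟨i, hi, hs⟩
      simp only at hs
      apply Subgroup.mem_subgroupOf.mpr
      refine Subgroup.mem_inf.mpr ⟨?_, hsG⟩
      show s ∈ D.monomialSubgroup F
      rw [hs]
      exact C.nS_mem_monomial T T2 i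
    sq_mem := by
      rintro ⟨s, hsG⟩ ⟨i, hi, hs⟩
      simp only at hs
      apply Subgroup.mem_subgroupOf.mpr
      refine Subgroup.mem_inf.mpr ⟨?_, mul_mem hsG hsG⟩
      show s * s ∈ D.borelSubgroup F
      rw [hs]
      have hil := hsr i hi
      have hπ := C.perm_nS T T2 (F := F) i hil
      have hsN := C.nS_mem_monomial T T2 (F := F) i
      have := C.mul_inv_mem_diag T T2 (C.nS F ga k i * C.nS F ga k i) 1 (mul_mem hsN hsN) (one_mem _) _ _
        (C.c6.perm_mul hπ hπ) C.c6.perm_one (fun t ht => by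
          simp only [Function.comp, id]
          exact T2.invol i hil t ht)
      rw [inv_one, mul_one] at this
      exact hHB this
    inj := by
      rintro ⟨s, hsG⟩ ⟨i, hi, hs⟩ ⟨s', hs'G⟩ ⟨i', hi', hs'⟩ hmem
      simp only at hs hs'
      apply Subtype.ext
      show s = s'
      have hB := (Subgroup.mem_inf.mp (Subgroup.mem_subgroupOf.mp hmem)).1
      have hB' : s⁻¹ * s' ∈ D.borelSubgroup F := hB
      rw [hs, hs'] at hB' ⊢
      have hN : (C.nS F ga k i)⁻¹ * C.nS F ga k i' ∈ D.monomialSubgroup F :=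
        mul_mem (inv_mem (C.nS_mem_monomial T T2 i)) (C.nS_mem_monomial T T2 i')
      have hH : (C.nS F ga k i)⁻¹ * C.nS F ga k i' ∈ D.diagonalSubgroup F := by
        rw [← C.c6.c2.borel_inf_monomial]
        exact Subgroup.mem_inf.mpr ⟨hB', hN⟩
      have hpe := C.perm_eq_of_diag T T2 _ _ (C.nS_mem_monomial T T2 i) _ _
        (C.perm_nS T T2 (F := F) i (hsr i hi)) (C.perm_nS T T2 (F := F) i' (hsr i' hi')) hH
      rcases hIs.1 i hi i' hi' with rfl | ⟨t, ht, hne⟩
      · rfl
      · exact absurd (hpe t ht) hne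
    closure_sup := by
      apply le_antisymm
      · apply sup_le
        · rw [Subgroup.closure_le]
          rintro ⟨s, hsG⟩ ⟨i, hi, hs⟩
          simp only at hs
          apply Subgroup.mem_subgroupOf.mpr
          refine Subgroup.mem_inf.mpr ⟨?_, hsG⟩
          show s ∈ D.monomialSubgroup F
          rw [hs]
          exact C.nS_mem_monomial T T2 i
        · exact inf_le_right
      · rintro ⟨n, hnG⟩ hn
        have hnN := (Subgroup.mem_inf.mp (Subgroup.mem_subgroupOf.mp hn)).1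
        have hnN' : n ∈ D.monomialSubgroup F := hnN
        obtain ⟨r, hr, hrN, hd⟩ := C.tw_N_decomp T T2 φ hk hφk S hQ hdk hcov n hnN' (h2 hnG)
        have key : ∀ r ∈ C.nsGen F ga k sreps, ∃ h : r ∈ Subgroup.closure (C.twGen ga k φ sreps),
            (⟨r, h⟩ : ↥(Subgroup.closure (C.twGen ga k φ sreps))) ∈
              Subgroup.closure {s : ↥(Subgroup.closure (C.twGen ga k φ sreps)) |
                ∃ i ∈ sreps, (s : GL D.Idx F) = C.nS F ga k i} := by
          intro r hr
          unfold nsGen at hr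
          induction hr using Subgroup.closure_induction with
          | mem x hx =>
            obtain ⟨i, hi, rfl⟩ := hx
            exact ⟨h5 i hi, Subgroup.subset_closure ⟨i, hi, rfl⟩⟩
          | one => exact ⟨one_mem _, one_mem _⟩
          | mul x y _ _ hx hy =>
            obtain ⟨hx1, hx2⟩ := hx
            obtain ⟨hy1, hy2⟩ := hy
            exact ⟨mul_mem hx1 hy1, mul_mem hx2 hy2⟩
          | inv x _ hx =>
            obtain ⟨hx1, hx2⟩ := hx
            exact ⟨inv_mem hx1, inv_mem hx2⟩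
        obtain ⟨hrG, hrS⟩ := key r hr
        have hdG : n * r⁻¹ ∈ Subgroup.closure (C.twGen ga k φ sreps) := mul_mem hnG (inv_mem hrG)
        have e : (⟨n, hnG⟩ : ↥(Subgroup.closure (C.twGen ga k φ sreps))) = ⟨r, hrG⟩ * ⟨r⁻¹ * n, mul_mem (inv_mem hrG) hnG⟩ :=
          Subtype.ext (by simp)
        rw [e]
        refine mul_mem (Subgroup.mem_sup_left hrS) (Subgroup.mem_sup_right ?_)
        have hd' : r⁻¹ * n ∈ D.diagonalSubgroup F := by
          have := (Subgroup.mem_normalizer_iff.mp (C.c6.c2.monomial_le_normalizer_diag (inv_mem hrN)) _).mp hd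
          have e2 : r⁻¹ * (n * r⁻¹) * r⁻¹⁻¹ = r⁻¹ * n := by group
          rwa [e2] at this
        refine Subgroup.mem_inf.mpr ⟨?_, ?_⟩
        · exact Subgroup.mem_subgroupOf.mpr (Subgroup.mem_inf.mpr ⟨hHB hd', mul_mem (inv_mem hrG) hnG⟩)
        · exact Subgroup.mem_subgroupOf.mpr (Subgroup.mem_inf.mpr ⟨hHN hd', mul_mem (inv_mem hrG) hnG⟩)
    mul_mem_union := by
      rintro ⟨s, hsG⟩ ⟨i, hi, hs⟩ ⟨n, hnG⟩ hn ⟨b, hbG⟩ hb
      simp only at hs
      have hn' := Subgroup.mem_subgroupOf.mp hn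
      have hb' := Subgroup.mem_subgroupOf.mp hb
      obtain ⟨x, hx, y, hy, e⟩ := C.tw_mul_mem_union T T2 φ hk hφk _ h1 h2 h3 i (hsr i hi) (h5 i hi) (hIs.2.2 i hi)
        n hn' b hb'
      have hxG := (Subgroup.mem_inf.mp hx).2
      have hyG := (Subgroup.mem_inf.mp hy).2
      rcases e with e | e
      · left
        rw [DoubleCoset.mem_doubleCoset]
        refine ⟨⟨x, hxG⟩, Subgroup.mem_subgroupOf.mpr hx, ⟨y, hyG⟩, Subgroup.mem_subgroupOf.mpr hy, ?_⟩
        apply Subtype.ext
        show s * b * n = x * (s * n) * y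
        rw [hs]
        exact e
      · right
        rw [DoubleCoset.mem_doubleCoset]
        refine ⟨⟨x, hxG⟩, Subgroup.mem_subgroupOf.mpr hx, ⟨y, hyG⟩, Subgroup.mem_subgroupOf.mpr hy, ?_⟩
        apply Subtype.ext
        show s * b * n = x * n * y
        rw [hs]
        exact e
    conj_ne := by
      rintro ⟨s, hsG⟩ ⟨i, hi, hs⟩ heq
      simp only at hs
      have hil := hsr i hi
      have hp := C.c6.c2.simple_lt i hil
      have hpp := C.c6.simple_pos i hil
      have h1K : (1 : F) ∈ Kr fd ga φ (fd.simples.getD i 0) := fun _ => map_one φ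
      have hxG : C.xS ga k φ (fd.simples.getD i 0) (1 : F) ∈ Subgroup.closure (C.twGen ga k φ sreps) :=
        Subgroup.subset_closure ⟨i, hi, 1, h1K, Or.inl rfl⟩
      have hxU : C.xS ga k φ (fd.simples.getD i 0) (1 : F) ∈ D.posUnipotent F := by
        rw [C.posUnipotent_eq]
        exact C.xS_mem_Vm T φ _ _ hp hpp (fun _ _ => trivial) 1
      have hmem : (⟨s, hsG⟩ * ⟨C.xS ga k φ (fd.simples.getD i 0) (1 : F), hxG⟩ * ⟨s, hsG⟩ :
          ↥(Subgroup.closure (C.twGen ga k φ sreps))) ∈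
          ((D.borelSubgroup F ⊓ Subgroup.closure (C.twGen ga k φ sreps)).subgroupOf
            (Subgroup.closure (C.twGen ga k φ sreps)) : Set ↥(Subgroup.closure (C.twGen ga k φ sreps))) := by
        rw [← heq]
        exact ⟨_, Subgroup.mem_subgroupOf.mpr (Subgroup.mem_inf.mpr ⟨hUB hxU, hxG⟩), rfl⟩
      have hB : s * C.xS ga k φ (fd.simples.getD i 0) (1 : F) * s ∈ D.borelSubgroup F :=
        (Subgroup.mem_inf.mp (Subgroup.mem_subgroupOf.mp hmem)).1
      rw [hs] at hB
      have hsN := C.nS_mem_monomial T T2 (F := F) i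
      have hπ := C.perm_nS T T2 (F := F) i hil
      have hsq : C.nS F ga k i * C.nS F ga k i ∈ D.diagonalSubgroup F := by
        have := C.mul_inv_mem_diag T T2 (C.nS F ga k i * C.nS F ga k i) 1 (mul_mem hsN hsN) (one_mem _) _ _
          (C.c6.perm_mul hπ hπ) C.c6.perm_one (fun t ht => by
            simp only [Function.comp, id]
            exact T2.invol i hil t ht)
        rwa [inv_one, mul_one] at this
      have hB2 := mul_mem hB (hHB (inv_mem hsq))
      have e : C.nS F ga k i * C.xS ga k φ (fd.simples.getD i 0) (1 : F) * C.nS F ga k i *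
          (C.nS F ga k i * C.nS F ga k i)⁻¹ =
          C.nS F ga k i * C.xS ga k φ (fd.simples.getD i 0) (1 : F) * (C.nS F ga k i)⁻¹ := by group
      rw [e] at hB2
      have hV := C.nS_conj_xS_mem_neg T T2 φ i hil (hIs.2.1 i hi) (1 : F)
      have h0 : C.nS F ga k i * C.xS ga k φ (fd.simples.getD i 0) (1 : F) * (C.nS F ga k i)⁻¹ ∈
          D.borelSubgroup F ⊓ D.negUnipotent F := Subgroup.mem_inf.mpr ⟨hB2, hV⟩
      rw [C.c6.c2.borel_inf_neg, Subgroup.mem_bot] at h0
      apply C.xS_one_ne T T2 φ hk1 i hil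
      have : C.xS ga k φ (fd.simples.getD i 0) (1 : F) =
          (C.nS F ga k i)⁻¹ * (C.nS F ga k i * C.xS ga k φ (fd.simples.getD i 0) (1 : F) * (C.nS F ga k i)⁻¹) *
            C.nS F ga k i := by group
      rw [this, h0]
      group }

end Cert12

end Cfsg.Agent.Lib.H29.Chev
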