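import Mathlib
import Cfsg.Prelude.Def_ChevStructure
import Cfsg.Prelude.Def_LieExceptional
import Cfsg.Agent.Lib.H29.ChevTw28
import Cfsg.Agent.Lib.H29.ChevGen27

/-!
# The diagonal subgroup of a twisted group, and irreducibility of its `(B, N)`-pair
-/

set_option autoImplicit false
set_option linter.unusedSectionVars false
set_option linter.unusedSimpArgs false
set_option linter.unusedVariables false

namespace Cfsg.Agent.Lib.H29.Chev

open Cfsg.Lie Matrix

variable {D : ChevalleyDatum} {fd : FD} {fx : FX} {fc : FC} {fz : FZ} {F : Type*} [Field F]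

namespace FD

variable (fd : FD) (fx : FX) (ga : GA) (k : ℕ)

/-- the elements `w_S`, `w_S'` do not commute -/
def ncS (i i' : ℕ) : Bool :=
  (List.range fd.n).any fun s =>
    !(Nat.beq (fd.piS fx ga k i (fd.piS fx ga k i' s)) (fd.piS fx ga k i' (fd.piS fx ga k i s)))

/-- the twisted Weyl group is irreducible -/
def chkIrrS (sreps : List ℕ) : Bool :=
  (allMasks sreps.length).all fun m => m.all id || m.all (fun b => !b) ||
    (List.range (sreps.length * sreps.length)).any fun q =>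
      m.getD (q / sreps.length) false && !(m.getD (q % sreps.length) false) &&
        fd.ncS fx ga k (sreps.getD (q / sreps.length) 0) (sreps.getD (q % sreps.length) 0)

end FD

namespace Cert12

variable (C : Cert12 D fd fx fc fz) {ga : GA} {k : ℕ} (T : TwSpec fd fx ga k) (T2 : TwSpec2 fd fx ga k)
  (φ : F →+* F)
include C T T2

/-- the diagonal elements of a twisted group -/
theorem diag_inf_tw (e : ℕ) (hke : (k = 3 ∧ e = 2) ∨ (k = 2 ∧ e = 3))
    (B : Matrix (Fin fd.l) (Fin fd.l) ℤ) (hB : cartM fd * B = (e : ℤ) • (1 : Matrix (Fin fd.l) (Fin fd.l) ℤ))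
    (hs : ∀ x : Fin fd.l → Fˣ, (sigT fd ga k φ)^[k] x = x)
    (G1 : Subgroup (GL D.Idx F)) (hG1 : G1 ≤ fixS (C.c6.c2.sigma T.ginv φ))
    (hH : (fixS (sigT fd ga k φ)).map (chiHom D fd F) ≤ G1) :
    D.diagonalSubgroup F ⊓ G1 = (fixS (sigT fd ga k φ)).map (chiHom D fd F) := by
  apply le_antisymm
  · intro h hh
    obtain ⟨h1, h2⟩ := Subgroup.mem_inf.mp hh
    exact C.fix_diag_le T T2 φ e hke B hB hs (Subgroup.mem_inf.mpr ⟨hG1 h2, h1⟩)
  · intro h hh
    refine Subgroup.mem_inf.mpr ⟨?_, hH hh⟩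
    obtain ⟨x, _, rfl⟩ := Subgroup.mem_map.mp hh
    rw [C.diag_eq_range]
    exact ⟨x, rfl⟩

/-- the commutator of `n_S` and `n_S'` does not lie in `B` if `w_S` and `w_S'` do not commute -/
theorem comm_nS_not_mem_borel (i i' : ℕ) (hi : i < fd.l) (hi' : i' < fd.l)
    (hnc : fd.ncS fx ga k i i' = true) :
    C.nS F ga k i * C.nS F ga k i' * (C.nS F ga k i)⁻¹ * (C.nS F ga k i')⁻¹ ∉ D.borelSubgroup F := by
  intro hB
  have hN := C.nS_mem_monomial T T2 (F := F) i
  have hN' := C.nS_mem_monomial T T2 (F := F) i'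
  have hcN : C.nS F ga k i * C.nS F ga k i' * (C.nS F ga k i)⁻¹ * (C.nS F ga k i')⁻¹ ∈ D.monomialSubgroup F :=
    mul_mem (mul_mem (mul_mem hN hN') (inv_mem hN)) (inv_mem hN')
  have hcH : C.nS F ga k i * C.nS F ga k i' * (C.nS F ga k i)⁻¹ * (C.nS F ga k i')⁻¹ ∈ D.diagonalSubgroup F := by
    rw [← C.c6.c2.borel_inf_monomial]
    exact Subgroup.mem_inf.mpr ⟨hB, hcN⟩
  have hm : C.nS F ga k i' * C.nS F ga k i ∈ D.monomialSubgroup F := mul_mem hN' hN
  have hconj := (Subgroup.mem_normalizer_iff.mp (C.c6.c2.monomial_le_normalizer_diag (inv_mem hm)) _).mp hcH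
  have e : (C.nS F ga k i' * C.nS F ga k i)⁻¹ *
      (C.nS F ga k i * C.nS F ga k i' * (C.nS F ga k i)⁻¹ * (C.nS F ga k i')⁻¹) *
      (C.nS F ga k i' * C.nS F ga k i)⁻¹⁻¹ =
      (C.nS F ga k i' * C.nS F ga k i)⁻¹ * (C.nS F ga k i * C.nS F ga k i') := by group
  rw [e] at hconj
  have hpe := C.perm_eq_of_diag T T2 _ _ hm _ _
    (C.c6.perm_mul (C.perm_nS T T2 (F := F) i' hi') (C.perm_nS T T2 (F := F) i hi))
    (C.c6.perm_mul (C.perm_nS T T2 (F := F) i hi) (C.perm_nS T T2 (F := F) i' hi')) hconj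
  unfold FD.ncS at hnc
  rw [List.any_eq_true] at hnc
  obtain ⟨s, hs, hne⟩ := hnc
  rw [List.mem_range] at hs
  rw [Bool.not_eq_true', ← Bool.not_eq_true, natBeq_iff] at hne
  exact hne (hpe s hs).symm

/-- the `(B, N)`-pair of a twisted group is irreducible -/
theorem tw_irreducible [Finite F] (hk : k = 2 ∨ k = 3) (hφk : ∀ x : F, φ^[k] x = x) {RL sreps : List ℕ}
    (S : ChainSpec fd fx ga k RL sreps) {fq : FQ} (hQ : fd.ChkQ fx ga k sreps RL fq) (hdk : 0 < fq.dk)
    (hcov : ∀ i < fd.l, ∃ ii < sreps.length, ∃ j < k, i = rhIt ga j (sreps.getD ii 0))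
    (hO : ∀ c < fd.l, chkOrb ga k sreps c = true) (hI : fd.chkInjS fx ga k sreps = true)
    (hIrr : fd.chkIrrS fx ga k sreps = true) :
    (C.twBN T T2 φ hk hφk S hQ hdk hcov hO hI).Irreducible := by
  classical
  have hsr := S.sreps_lt
  have h5 := (C.twGen_spec T T2 φ hk hφk S hO).2.2.2.2
  intro J hJS hJne hJc
  have hSdef : ∀ s : ↥(Subgroup.closure (C.twGen ga k φ sreps)),
      s ∈ (C.twBN T T2 φ hk hφk S hQ hdk hcov hO hI).S ↔ ∃ i ∈ sreps, (s : GL D.Idx F) = C.nS F ga k i :=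
    fun s => Iff.rfl
  have hBdef : ∀ s : ↥(Subgroup.closure (C.twGen ga k φ sreps)),
      s ∈ (C.twBN T T2 φ hk hφk S hQ hdk hcov hO hI).B → (s : GL D.Idx F) ∈ D.borelSubgroup F :=
    fun s hs => (Subgroup.mem_inf.mp (Subgroup.mem_subgroupOf.mp hs)).1
  have hget : ∀ ii < sreps.length, sreps.getD ii 0 ∈ sreps := by
    intro ii hii
    rw [List.getD_eq_getElem _ _ hii]; exact List.getElem_mem hii
  let inJ : ℕ → Prop := fun ii => ∃ hii : ii < sreps.length,
    (⟨C.nS F ga k (sreps.getD ii 0), h5 _ (hget ii hii)⟩ : ↥(Subgroup.closure (C.twGen ga k φ sreps))) ∈ J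
  have hS : ∀ s : ↥(Subgroup.closure (C.twGen ga k φ sreps)),
      s ∈ (C.twBN T T2 φ hk hφk S hQ hdk hcov hO hI).S → ∃ ii, ∃ hii : ii < sreps.length,
      s = ⟨C.nS F ga k (sreps.getD ii 0), h5 _ (hget ii hii)⟩ := by
    intro s hs
    obtain ⟨i, hi, e⟩ := (hSdef s).mp hs
    obtain ⟨ii, hii, rfl⟩ := List.getElem_of_mem hi
    refine ⟨ii, hii, Subtype.ext ?_⟩
    show (s : GL D.Idx F) = C.nS F ga k (sreps.getD ii 0)
    rw [e, List.getD_eq_getElem _ _ hii]
  set m : List Bool := (List.range sreps.length).map fun ii => decide (inJ ii) with hm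
  have hmm : m ∈ allMasks sreps.length := mem_allMasks _ _ (by simp [hm])
  unfold FD.chkIrrS at hIrr
  rw [List.all_eq_true] at hIrr
  have := hIrr m hmm
  rw [Bool.or_eq_true, Bool.or_eq_true] at this
  rcases this with (hall | hnone) | hq
  · exfalso
    obtain ⟨s', hs'S, hs'J⟩ := hJc
    obtain ⟨j, hj, rfl⟩ := hS s' hs'S
    rw [List.all_eq_true] at hall
    have : decide (inJ j) ∈ m := List.mem_map.mpr ⟨j, List.mem_range.mpr hj, rfl⟩
    have := hall _ this
    simp only [id, decide_eq_true_eq] at this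
    obtain ⟨_, h⟩ := this
    exact hs'J h
  · exfalso
    obtain ⟨s, hsJ⟩ := hJne
    obtain ⟨i, hi, rfl⟩ := hS s (hJS hsJ)
    rw [List.all_eq_true] at hnone
    have : decide (inJ i) ∈ m := List.mem_map.mpr ⟨i, List.mem_range.mpr hi, rfl⟩
    have := hnone _ this
    simp only [Bool.not_eq_true', decide_eq_false_iff_not] at this
    exact this ⟨hi, hsJ⟩
  · rw [List.any_eq_true] at hq
    obtain ⟨q, hq, hcond⟩ := hq
    rw [List.mem_range] at hq
    rw [Bool.and_eq_true, Bool.and_eq_true, Bool.not_eq_true', ← Bool.not_eq_true] at hcond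
    obtain ⟨⟨hi', hj'⟩, hadj⟩ := hcond
    have hl : 0 < sreps.length := by
      rcases Nat.eq_zero_or_pos sreps.length with h | h
      · rw [h] at hq; simp at hq
      · exact h
    have hjl : q % sreps.length < sreps.length := Nat.mod_lt _ hl
    rw [getD_range_map_decide] at hi' hj'
    obtain ⟨hil, hi2, hiJ⟩ := hi'
    have hjJ : ¬ inJ (q % sreps.length) := fun h => hj' ⟨hjl, h⟩
    refine ⟨_, hiJ, ⟨C.nS F ga k (sreps.getD (q % sreps.length) 0), h5 _ (hget _ hjl)⟩,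
      ⟨(hSdef _).mpr ⟨_, hget _ hjl, rfl⟩, fun h => hjJ ⟨hjl, h⟩⟩, ?_⟩
    intro hB
    have hB' := hBdef _ hB
    exact C.comm_nS_not_mem_borel T T2 _ _ (hsr _ (hget _ hil)) (hsr _ (hget _ hjl)) hadj hB'

end Cert12

end Cfsg.Agent.Lib.H29.Chev
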