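import Mathlib
import Cfsg.Prelude.Def_ChevStructure
import Cfsg.Prelude.Def_LieExceptional
import Cfsg.Agent.Lib.H29.ChevTw29

/-!
# The core of the Borel subgroup of a twisted group
-/

set_option autoImplicit false
set_option linter.unusedSectionVars false
set_option linter.unusedSimpArgs false
set_option linter.unusedVariables false

namespace Cfsg.Agent.Lib.H29.Chev

open Cfsg.Lie Matrix

variable {D : ChevalleyDatum} {fd : FD} {fx : FX} {fc : FC} {fz : FZ} {F : Type*} [Field F]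

/-- the element `a` of the table maps the positive roots to negative roots -/
def FD.chkQW0 (fd : FD) (fq : FQ) (a : ℕ) : Bool :=
  Nat.blt a fq.dk && (List.range fd.n).all fun s => Nat.blt s (fd.n / 2) || Nat.blt (fd.qT fq a s) (fd.n / 2)

theorem FD.chkQW0_spec {fq : FQ} {a : ℕ} (h : fd.chkQW0 fq a = true) :
    a < fq.dk ∧ ∀ s < fd.n, fd.n / 2 ≤ s → fd.qT fq a s < fd.n / 2 := by
  simp only [FD.chkQW0, Bool.and_eq_true, natBlt_iff, List.all_eq_true, List.mem_range, Bool.or_eq_true] at h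
  refine ⟨h.1, fun s hs hpos => ?_⟩
  rcases h.2 s hs with h' | h'
  · omega
  · exact h'

namespace Cert12

variable (C : Cert12 D fd fx fc fz)
include C

/-- an element of `N` mapping all positive roots to negative roots conjugates `U` into `V` -/
theorem conj_pos_mem_neg (m : GL D.Idx F) (π : ℕ → ℕ) (hπ : C.c6.c2.Perm m π)
    (hw0 : ∀ s < fd.n, fd.n / 2 ≤ s → π s < fd.n / 2) (u : GL D.Idx F) (hu : u ∈ D.posUnipotent F) :
    m * u * m⁻¹ ∈ D.negUnipotent F := by
  unfold ChevalleyDatum.posUnipotent at hu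
  induction hu using Subgroup.closure_induction with
  | mem x hx =>
    obtain ⟨s, t, hs, hg⟩ := hx
    obtain ⟨hs1, hs2⟩ := (C.c6.isPos_iff s).mp hs
    have hgx : x = C.c6.c2.xA s t := gl_ext (by rw [hg, C.c6.c2.xA_val])
    obtain ⟨h1, _, c, h3⟩ := hπ s hs1
    rw [hgx, h3]
    exact C.c6.xA_neg_mem_neg _ h1 (hw0 s hs1 hs2) _
  | one => simp
  | mul x y _ _ hx hy =>
    have : m * (x * y) * m⁻¹ = (m * x * m⁻¹) * (m * y * m⁻¹) := by group
    rw [this]; exact mul_mem hx hy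
  | inv x _ hx =>
    have : m * x⁻¹ * m⁻¹ = (m * x * m⁻¹)⁻¹ := by group
    rw [this]; exact inv_mem hx

theorem carZ_neg (i : Fin fd.l) (s : ℕ) (hs : s < fd.n) : fd.carZ i.val (fd.n - 1 - s) = - fd.carZ i.val s := by
  rw [C.carZ_eq_sum i _ (by omega), C.carZ_eq_sum i s hs, ← Finset.sum_neg_distrib]
  apply Finset.sum_congr rfl
  intro j _
  rw [C.rcZ_neg s j.val hs j.isLt]
  ring

/-- the entries of an element of the torus at opposite roots are inverse to each other -/
theorem entry_neg (x : Fin fd.l → Fˣ) (s : Fin D.nroots) (hs' : fd.n - 1 - s.val < D.nroots) :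
    entryHom D fd F x (Sum.inr ⟨fd.n - 1 - s.val, hs'⟩) = (entryHom D fd F x (Sum.inr s))⁻¹ := by
  have hs : s.val < fd.n := by rw [← C.c6.c2.nroots_eq]; exact s.isLt
  show ∏ i : Fin fd.l, x i ^ fd.carZ i.val (fd.n - 1 - s.val) = (∏ i : Fin fd.l, x i ^ fd.carZ i.val s.val)⁻¹
  rw [← Finset.prod_inv_distrib]
  apply Finset.prod_congr rfl
  intro i _
  rw [C.carZ_neg i s.val hs, _root_.zpow_neg]

variable {ga : GA} {k : ℕ} (T : TwSpec fd fx ga k) (T2 : TwSpec2 fd fx ga k) (φ : F →+* F)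
include T T2

/-- an element of a twisted group all of whose conjugates lie in `B` is trivial -/
theorem tw_core_trivial (hk : k = 2 ∨ k = 3) (hφk : ∀ x : F, φ^[k] x = x) (G1 : Subgroup (GL D.Idx F))
    (hU : fixS (C.c6.c2.sigma T.ginv φ) ⊓ D.posUnipotent F ≤ G1)
    (n0 : GL D.Idx F) (hn0 : n0 ∈ D.monomialSubgroup F) (hn0G : n0 ∈ G1) (π0 : ℕ → ℕ)
    (hπ0 : C.c6.c2.Perm n0 π0) (hw0 : ∀ s < fd.n, fd.n / 2 ≤ s → π0 s < fd.n / 2)
    (g : GL D.Idx F) (hg : ∀ b ∈ G1, b * g * b⁻¹ ∈ D.borelSubgroup F) : g = 1 := by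
  have hk1 : 1 ≤ k := by omega
  -- step 1: such elements lie in `H`
  have step1 : ∀ g : GL D.Idx F, (∀ b ∈ G1, b * g * b⁻¹ ∈ D.borelSubgroup F) → g ∈ D.diagonalSubgroup F := by
    intro g hg
    have hgB : g ∈ D.borelSubgroup F := by
      have := hg 1 (one_mem _)
      simpa using this
    have h1 := hg n0⁻¹ (inv_mem hn0G)
    rw [inv_inv] at h1
    obtain ⟨u, hu, h, hh, huh⟩ := C.c6.c2.borel_mem _ h1
    have hg2 : g = (n0 * u * n0⁻¹) * (n0 * h * n0⁻¹) := by
      have : n0 * (n0⁻¹ * g * n0) * n0⁻¹ = g := by group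
      rw [← this, ← huh]; group
    have m1 : n0 * u * n0⁻¹ ∈ D.negUnipotent F := C.conj_pos_mem_neg n0 π0 hπ0 hw0 u hu
    have m2 : n0 * h * n0⁻¹ ∈ D.diagonalSubgroup F :=
      ((Subgroup.mem_normalizer_iff.mp (C.c6.c2.monomial_le_normalizer_diag hn0)) h).mp hh
    have : g ∈ D.borelSubgroup F ⊓ (D.negUnipotent F ⊔ D.diagonalSubgroup F) := by
      refine ⟨hgB, ?_⟩
      rw [hg2]
      exact mul_mem ((le_sup_left : D.negUnipotent F ≤ _) m1) ((le_sup_right : D.diagonalSubgroup F ≤ _) m2)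
    rwa [C.c6.c2.borel_inf_negdiag] at this
  have hgH := step1 g hg
  obtain ⟨hcar, _⟩ := C.c6.c2.diag_conj_x g hgH
  have hdiag := C.c6.c2.diag_isDiag g hgH
  have hn := C.c6.c2.nroots_eq
  -- step 2: the entries at the negative roots are `1`
  have step2 : ∀ r : ℕ, ∀ hr : r < fd.n, fd.n / 2 ≤ r →
      (g : Matrix D.Idx D.Idx F) (Sum.inr ⟨fd.n - 1 - r, by omega⟩) (Sum.inr ⟨fd.n - 1 - r, by omega⟩) = 1 := by
    intro r hr hpos
    set y := C.xS ga k φ r (1 : F) with hy
    have h1K : (1 : F) ∈ Kr fd ga φ r := fun _ => map_one φ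
    have hyU : y ∈ D.posUnipotent F := by
      rw [C.posUnipotent_eq]
      exact C.xS_mem_Vm T φ _ _ hr hpos (fun _ _ => trivial) 1
    have hyG : y ∈ G1 := hU (Subgroup.mem_inf.mpr ⟨C.sigma_xS T φ hk hφk r hr 1 h1K, hyU⟩)
    have hyH : y * g * y⁻¹ ∈ D.diagonalSubgroup F := by
      apply step1
      intro b hb
      have : b * (y * g * y⁻¹) * b⁻¹ = (b * y) * g * (b * y)⁻¹ := by group
      rw [this]
      exact hg _ (mul_mem hb hyG)
    have hc1 : y * g * y⁻¹ * g⁻¹ ∈ D.diagonalSubgroup F := mul_mem hyH (inv_mem hgH)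
    have hc2 : y * g * y⁻¹ * g⁻¹ ∈ D.posUnipotent F := by
      have := (Subgroup.mem_normalizer_iff.mp (C.c6.c2.diag_le_normalizer_pos hgH) y⁻¹).mp (inv_mem hyU)
      have e : y * g * y⁻¹ * g⁻¹ = y * (g * y⁻¹ * g⁻¹) := by group
      rw [e]
      exact mul_mem hyU this
    have hc : y * g * y⁻¹ * g⁻¹ = 1 := by
      have : y * g * y⁻¹ * g⁻¹ ∈ D.posUnipotent F ⊓ D.diagonalSubgroup F := Subgroup.mem_inf.mpr ⟨hc2, hc1⟩
      rwa [C.c6.c2.pos_inf_diag, Subgroup.mem_bot] at this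
    have hcomm : y * g = g * y := by
      have : y * g = (y * g * y⁻¹ * g⁻¹) * (g * y) := by group
      rw [this, hc, one_mul]
    have hm := congrArg (fun z : GL D.Idx F => (z : Matrix D.Idx D.Idx F)) hcomm
    simp only [Units.val_mul] at hm
    have hent : ∀ j : Fin D.rank, (y : Matrix D.Idx D.Idx F) (Sum.inl j) (Sum.inr ⟨fd.n - 1 - r, by omega⟩) *
        (g : Matrix D.Idx D.Idx F) (Sum.inr ⟨fd.n - 1 - r, by omega⟩) (Sum.inr ⟨fd.n - 1 - r, by omega⟩) =
        (y : Matrix D.Idx D.Idx F) (Sum.inl j) (Sum.inr ⟨fd.n - 1 - r, by omega⟩) := by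
      intro j
      have := congrFun (congrFun hm (Sum.inl j)) (Sum.inr ⟨fd.n - 1 - r, by omega⟩)
      rw [Matrix.mul_apply, Matrix.mul_apply, Finset.sum_eq_single (Sum.inr ⟨fd.n - 1 - r, by omega⟩),
        Finset.sum_eq_single (Sum.inl j), hcar j, one_mul] at this
      · exact this
      · intro b _ hb
        rw [hdiag _ _ (Ne.symm hb), zero_mul]
      · intro h; exact absurd (Finset.mem_univ _) h
      · intro b _ hb
        rw [hdiag _ _ hb, mul_zero]
      · intro h; exact absurd (Finset.mem_univ _) h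
    have hco := (C.coord_xS T φ hk1 r hr hpos (T.htpos r hr hpos) (1 : F)).2
    rw [coordM_eq r (by omega)] at hco
    have e2 : (∑ j : Fin D.rank, ((fd.bzZ fz r j.val : ℤ) : F) *
        (y : Matrix D.Idx D.Idx F) (Sum.inl j) (Sum.inr ⟨D.nroots - 1 - r, by omega⟩)) *
        (g : Matrix D.Idx D.Idx F) (Sum.inr ⟨fd.n - 1 - r, by omega⟩) (Sum.inr ⟨fd.n - 1 - r, by omega⟩) =
        ∑ j : Fin D.rank, ((fd.bzZ fz r j.val : ℤ) : F) *
        (y : Matrix D.Idx D.Idx F) (Sum.inl j) (Sum.inr ⟨D.nroots - 1 - r, by omega⟩) := by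
      rw [Finset.sum_mul]
      apply Finset.sum_congr rfl
      intro j _
      have := hent j
      have e3 : (⟨D.nroots - 1 - r, by omega⟩ : Fin D.nroots) = ⟨fd.n - 1 - r, by omega⟩ :=
        Fin.ext (by simp only; omega)
      rw [e3, mul_assoc, this]
    rw [hco, one_mul] at e2
    exact e2
  -- step 3: `g = 1`
  rw [C.diag_eq_range] at hgH
  obtain ⟨x, rfl⟩ := hgH
  have hneg : ∀ s : Fin D.nroots, s.val < fd.n / 2 → entryHom D fd F x (Sum.inr s) = 1 := by
    intro s hs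
    have hsn : s.val < fd.n := by rw [← hn]; exact s.isLt
    have := step2 (fd.n - 1 - s.val) (by omega) (by have := C.c6.c2.heven; omega)
    rw [chiHom_val, Matrix.diagonal_apply_eq] at this
    have e : (⟨fd.n - 1 - (fd.n - 1 - s.val), by omega⟩ : Fin D.nroots) = s := Fin.ext (by simp only; omega)
    rw [e] at this
    exact Units.ext this
  have hall : entryHom D fd F x = 1 := by
    funext a
    cases a with
    | inl j => rfl
    | inr s =>
      have hsn : s.val < fd.n := by rw [← hn]; exact s.isLt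
      by_cases hs : s.val < fd.n / 2
      · exact hneg s hs
      · have h1 := C.entry_neg x s (by omega)
        rw [hneg _ (by have := C.c6.c2.heven; simp only; omega)] at h1
        rw [Pi.one_apply, ← _root_.inv_inj, ← h1, inv_one]
  show (diagHom D.Idx F) (entryHom D fd F x) = 1
  rw [hall, map_one]

/-- the core of the Borel subgroup of a twisted group is trivial -/
theorem tw_borel_core (hk : k = 2 ∨ k = 3) (hφk : ∀ x : F, φ^[k] x = x) {RL sreps : List ℕ}
    (S : ChainSpec fd fx ga k RL sreps) {fq : FQ} (hQ : fd.ChkQ fx ga k sreps RL fq)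
    (hO : ∀ c < fd.l, chkOrb ga k sreps c = true) (a0 : ℕ) (hw : fd.chkQW0 fq a0 = true) :
    ((D.borelSubgroup F ⊓ Subgroup.closure (C.twGen ga k φ sreps)).subgroupOf
      (Subgroup.closure (C.twGen ga k φ sreps))).normalCore = ⊥ := by
  have hspec := C.twGen_spec T T2 φ hk hφk S hO
  obtain ⟨ha0, hw0⟩ := fd.chkQW0_spec hw
  obtain ⟨n0, hn0, hn0G, hπ0⟩ := C.exists_rep T T2 hQ S.sreps_lt _ hspec.2.2.2.2 a0 ha0
  rw [eq_bot_iff]
  intro g hg
  rw [Subgroup.mem_bot]
  have : (g : GL D.Idx F) = 1 := by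
    apply C.tw_core_trivial T T2 φ hk hφk _ hspec.2.2.1 n0 hn0 hn0G _ hπ0 hw0
    intro b hb
    have := hg ⟨b, hb⟩
    exact (Subgroup.mem_inf.mp (Subgroup.mem_subgroupOf.mp this)).1
  exact Subtype.ext this

end Cert12

end Cfsg.Agent.Lib.H29.Chev
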