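import Mathlib
import Cfsg.Prelude.Def_ChevStructure
import Cfsg.Prelude.Def_LieExceptional
import Cfsg.Agent.Lib.H29.ChevTw30

/-!
# The elements `x_S(t)` of a twisted group: additivity, the action of the torus
-/

set_option autoImplicit false
set_option linter.unusedSectionVars false
set_option linter.unusedSimpArgs false
set_option linter.unusedVariables false

namespace Cfsg.Agent.Lib.H29.Chev

open Cfsg.Lie Matrix

variable {D : ChevalleyDatum} {fd : FD} {fx : FX} {fc : FC} {fz : FZ} {F : Type*} [Field F]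

theorem iterate_hom_add (φ : F →+* F) (j : ℕ) (a b : F) : φ^[j] (a + b) = φ^[j] a + φ^[j] b := by
  induction j with
  | zero => rfl
  | succ j ih => rw [Function.iterate_succ_apply', Function.iterate_succ_apply', Function.iterate_succ_apply', ih,
      map_add]

theorem iterate_hom_mul (φ : F →+* F) (j : ℕ) (a b : F) : φ^[j] (a * b) = φ^[j] a * φ^[j] b := by
  induction j with
  | zero => rfl
  | succ j ih => rw [Function.iterate_succ_apply', Function.iterate_succ_apply', Function.iterate_succ_apply', ih,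
      map_mul]

theorem iterate_hom_zero (φ : F →+* F) (j : ℕ) : φ^[j] (0 : F) = 0 := by
  induction j with
  | zero => rfl
  | succ j ih => rw [Function.iterate_succ_apply', ih, map_zero]

/-- conjugation of a commutator subgroup -/
theorem conj_mem_commutator {G : Type*} [Group G] (H : Subgroup G) (m x : G) (hm : m ∈ H) (hx : x ∈ ⁅H, H⁆) :
    m * x * m⁻¹ ∈ ⁅H, H⁆ := by
  have hle : ⁅H, H⁆ ≤ H := by
    rw [Subgroup.commutator_le]
    intro g₁ h₁ g₂ h₂
    rw [commutatorElement_def]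
    exact mul_mem (mul_mem (mul_mem h₁ h₂) (inv_mem h₁)) (inv_mem h₂)
  have hxH : x ∈ H := hle hx
  have e : m * x * m⁻¹ = (m * x * m⁻¹ * x⁻¹) * x := by group
  rw [e, ← commutatorElement_def]
  exact mul_mem (Subgroup.commutator_mem_commutator hm hxH) hx

namespace Cert12

variable (C : Cert12 D fd fx fc fz) {ga : GA} {k : ℕ} (T : TwSpec fd fx ga k) (φ : F →+* F)
include C

theorem xA_param_inj (r : ℕ) (hr : r < fd.n) (a b : F) (h : C.c6.c2.xA r a = C.c6.c2.xA r b) : a = b := by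
  have : C.c6.c2.xA r (a + -b) = 1 := by
    rw [← C.c6.c2.xA_mul, ← C.c6.c2.xA_inv, h, mul_inv_cancel]
  have := C.c6.xA_eq_one r hr _ this
  linear_combination this

include T

theorem aj_comm' (r : ℕ) (hr : r < fd.n) (hfix : fd.gRoot ga r ≠ r) (t t' : F) (i j : ℕ) (hi : i < k) (hj : j < k)
    (hij : i ≠ j) : C.aj ga φ r t i * C.aj ga φ r t' j = C.aj ga φ r t' j * C.aj ga φ r t i := by
  obtain ⟨h1, h2, h3⟩ := T.comm r hr hfix j hj i hi (Ne.symm hij)
  have := C.c6.cfg (F := F) (fd.gIt ga j r) (fd.gIt ga i r) (T.gIt_lt j r hr) (T.gIt_lt i r hr)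
    (fun h => h2 h.symm) (by
      intro h
      have hlt := T.gIt_lt j r hr
      apply h3
      omega)
  unfold aj
  rw [this, h1]
  simp [Cert2.ctG]

omit T in
theorem aj_add (r : ℕ) (t t' : F) (j : ℕ) : C.aj ga φ r t j * C.aj ga φ r t' j = C.aj ga φ r (t + t') j := by
  unfold aj
  rw [C.c6.c2.xA_mul, iterate_hom_add, mul_add]

omit T in
theorem aj_param_zero (r : ℕ) (j : ℕ) : C.aj ga φ r (0 : F) j = 1 := by
  unfold aj
  rw [iterate_hom_zero, mul_zero, C.c6.c2.xA_zero]

/-- `x_S(t) x_S(t') = x_S(t + t')` -/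
theorem xS_add (hk : k = 2 ∨ k = 3) (r : ℕ) (hr : r < fd.n) (t t' : F) :
    C.xS ga k φ r t * C.xS ga k φ r t' = C.xS ga k φ r (t + t') := by
  unfold xS FD.os
  by_cases hfix : fd.gRoot ga r = r
  · rw [if_pos hfix]
    simp only [List.range_one, List.map_cons, List.map_nil, List.prod_cons, List.prod_nil, mul_one]
    exact C.aj_add φ r t t' 0
  · rw [if_neg hfix]
    rcases hk with rfl | rfl
    · simp only [List.range_succ, List.range_zero, List.nil_append, List.cons_append, List.map_cons, List.map_nil,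
        List.prod_cons, List.prod_nil, mul_one]
      rw [← C.aj_add φ r t t' 0, ← C.aj_add φ r t t' 1]
      have e1 := C.aj_comm' T φ r hr hfix t t' 1 0 (by norm_num) (by norm_num) (by norm_num)
      calc C.aj ga φ r t 0 * C.aj ga φ r t 1 * (C.aj ga φ r t' 0 * C.aj ga φ r t' 1)
          = C.aj ga φ r t 0 * (C.aj ga φ r t 1 * C.aj ga φ r t' 0) * C.aj ga φ r t' 1 := by group
        _ = C.aj ga φ r t 0 * (C.aj ga φ r t' 0 * C.aj ga φ r t 1) * C.aj ga φ r t' 1 := by rw [e1]
        _ = _ := by group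
    · simp only [List.range_succ, List.range_zero, List.nil_append, List.cons_append, List.map_cons, List.map_nil,
        List.prod_cons, List.prod_nil, mul_one]
      rw [← C.aj_add φ r t t' 0, ← C.aj_add φ r t t' 1, ← C.aj_add φ r t t' 2]
      have e10 := C.aj_comm' T φ r hr hfix t t' 1 0 (by norm_num) (by norm_num) (by norm_num)
      have e20 := C.aj_comm' T φ r hr hfix t t' 2 0 (by norm_num) (by norm_num) (by norm_num)
      have e21 := C.aj_comm' T φ r hr hfix t t' 2 1 (by norm_num) (by norm_num) (by norm_num)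
      calc C.aj ga φ r t 0 * (C.aj ga φ r t 1 * C.aj ga φ r t 2) *
            (C.aj ga φ r t' 0 * (C.aj ga φ r t' 1 * C.aj ga φ r t' 2))
          = C.aj ga φ r t 0 * C.aj ga φ r t 1 * (C.aj ga φ r t 2 * C.aj ga φ r t' 0) *
              (C.aj ga φ r t' 1 * C.aj ga φ r t' 2) := by group
        _ = C.aj ga φ r t 0 * (C.aj ga φ r t 1 * C.aj ga φ r t' 0) * (C.aj ga φ r t 2 *
              C.aj ga φ r t' 1) * C.aj ga φ r t' 2 := by rw [e20]; group
        _ = C.aj ga φ r t 0 * (C.aj ga φ r t' 0 * C.aj ga φ r t 1) * (C.aj ga φ r t' 1 *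
              C.aj ga φ r t 2) * C.aj ga φ r t' 2 := by rw [e10, e21]
        _ = _ := by group

omit T in
theorem xS_param_zero (r : ℕ) : C.xS ga k φ r (0 : F) = 1 := by
  unfold xS
  apply List.prod_eq_one
  intro x hx
  obtain ⟨j, _, rfl⟩ := List.mem_map.mp hx
  exact C.aj_param_zero φ r j

theorem xS_inv (hk : k = 2 ∨ k = 3) (r : ℕ) (hr : r < fd.n) (t : F) :
    (C.xS ga k φ r t)⁻¹ = C.xS ga k φ r (-t) := by
  rw [inv_eq_iff_mul_eq_one, C.xS_add T φ hk r hr, add_neg_cancel, C.xS_param_zero]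

/-- the coefficients of a `σ`-fixed element acting diagonally on the root subgroups -/
theorem fix_conj_coef (h : GL D.Idx F) (hfix : C.c6.c2.sigma T.ginv φ h = h) (c : ℕ → F)
    (hc : ∀ s < fd.n, ∀ t, h * C.c6.c2.xA s t * h⁻¹ = C.c6.c2.xA s (c s * t)) (s : ℕ) (hs : s < fd.n) :
    c (fd.gRoot ga s) = φ (c s) := by
  have h1 := hc s hs 1
  have h2 := congrArg (C.c6.c2.sigma T.ginv φ) h1
  rw [map_mul, map_mul, map_inv, hfix, C.c6.c2.sigma_xA T.ginv T.graph φ s hs,
    C.c6.c2.sigma_xA T.ginv T.graph φ s hs, hc _ (T.gRoot_lt s hs)] at h2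
  have h3 := C.xA_param_inj _ (T.gRoot_lt s hs) _ _ h2
  rw [map_one, mul_one, map_mul, map_one, mul_one] at h3
  have hε : ((fd.gEps ga s : ℤ) : F) * ((fd.gEps ga s : ℤ) : F) = 1 := by
    rw [← Int.cast_mul, fd.gEps_sq, Int.cast_one]
  calc c (fd.gRoot ga s) = c (fd.gRoot ga s) * (((fd.gEps ga s : ℤ) : F) * ((fd.gEps ga s : ℤ) : F)) := by
        rw [hε, mul_one]
    _ = (c (fd.gRoot ga s) * ((fd.gEps ga s : ℤ) : F)) * ((fd.gEps ga s : ℤ) : F) := by ring
    _ = (((fd.gEps ga s : ℤ) : F) * φ (c s)) * ((fd.gEps ga s : ℤ) : F) := by rw [h3]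
    _ = φ (c s) * (((fd.gEps ga s : ℤ) : F) * ((fd.gEps ga s : ℤ) : F)) := by ring
    _ = φ (c s) := by rw [hε, mul_one]

theorem fix_conj_coef_it (h : GL D.Idx F) (hfix : C.c6.c2.sigma T.ginv φ h = h) (c : ℕ → F)
    (hc : ∀ s < fd.n, ∀ t, h * C.c6.c2.xA s t * h⁻¹ = C.c6.c2.xA s (c s * t)) (s : ℕ) (hs : s < fd.n) (j : ℕ) :
    c (fd.gIt ga j s) = φ^[j] (c s) := by
  induction j with
  | zero => rfl
  | succ j ih =>
    rw [fd.gIt_succ, C.fix_conj_coef T φ h hfix c hc _ (T.gIt_lt j s hs), ih, Function.iterate_succ_apply']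

/-- conjugation of `x_S(t)` by a `σ`-fixed element acting diagonally on the root subgroups -/
theorem conj_xS (h : GL D.Idx F) (hfix : C.c6.c2.sigma T.ginv φ h = h) (c : ℕ → F)
    (hc : ∀ s < fd.n, ∀ t, h * C.c6.c2.xA s t * h⁻¹ = C.c6.c2.xA s (c s * t)) (r : ℕ) (hr : r < fd.n) (t : F) :
    h * C.xS ga k φ r t * h⁻¹ = C.xS ga k φ r (c r * t) := by
  have e : ∀ L : List (GL D.Idx F), h * L.prod * h⁻¹ = (L.map fun x => h * x * h⁻¹).prod := by
    intro L
    induction L with
    | nil => simp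
    | cons a L ih =>
      rw [List.prod_cons, List.map_cons, List.prod_cons, ← ih]
      group
  unfold xS
  rw [e, List.map_map]
  congr 1
  apply List.map_congr_left
  intro j _
  simp only [Function.comp]
  unfold aj
  rw [hc _ (T.gIt_lt j r hr), C.fix_conj_coef_it T φ h hfix c hc r hr j, iterate_hom_mul]
  congr 1
  ring

/-- the torus trick: `x_S(t)` is a commutator if some `σ`-fixed element of the group acts on it by a scalar
other than `1` -/
theorem xS_mem_comm_of_torus (hk : k = 2 ∨ k = 3) (G1 : Subgroup (GL D.Idx F))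
    (h : GL D.Idx F) (hG : h ∈ G1) (hfix : C.c6.c2.sigma T.ginv φ h = h) (c : ℕ → F)
    (hc : ∀ s < fd.n, ∀ t, h * C.c6.c2.xA s t * h⁻¹ = C.c6.c2.xA s (c s * t)) (r : ℕ) (hr : r < fd.n)
    (hxG : ∀ t ∈ Kr fd ga φ r, C.xS ga k φ r t ∈ G1) (hne : c r ≠ 1) (t : F) (ht : t ∈ Kr fd ga φ r) :
    C.xS ga k φ r t ∈ ⁅G1, G1⁆ := by
  have hsub : c r - 1 ≠ 0 := sub_ne_zero.mpr hne
  have ht' : (c r - 1)⁻¹ * t ∈ Kr fd ga φ r := by
    intro hf
    have hcf := C.fix_conj_coef T φ h hfix c hc r hr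
    rw [hf] at hcf
    rw [map_mul, map_inv₀, map_sub, map_one, ← hcf, ht hf]
  have hy := hxG _ ht'
  have e := C.conj_xS T φ h hfix c hc r hr ((c r - 1)⁻¹ * t)
  have e2 : C.xS ga k φ r t = h * C.xS ga k φ r ((c r - 1)⁻¹ * t) * h⁻¹ * (C.xS ga k φ r ((c r - 1)⁻¹ * t))⁻¹ := by
    rw [e, C.xS_inv T φ hk r hr, C.xS_add T φ hk r hr]
    congr 1
    field_simp
    ring
  rw [e2, ← commutatorElement_def]
  exact Subgroup.commutator_mem_commutator hG hy

end Cert12

end Cfsg.Agent.Lib.H29.Chev
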