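import Mathlib
import Cfsg.Prelude.Def_ChevAutomorphisms
import Cfsg.Agent.Lib.H29.ChevFld1
import Cfsg.Agent.Lib.H29.ChevTw31

/-!
# The fixed points of a field automorphism of prime order of a Chevalley group
-/

set_option autoImplicit false
set_option linter.unusedSectionVars false
set_option linter.unusedSimpArgs false
set_option linter.unusedVariables false

namespace Cfsg.Agent.Lib.H29.Chev

open Cfsg.Lie Matrix

variable {D : ChevalleyDatum} {fd : FD} {fx : FX} {fc : FC} {fz : FZ} {F : Type*} [Field F] {K : Type*} [Field K]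

/-- the fixed field of an automorphism of a finite field, as a field in `Type` -/
theorem exists_fixed_field [Fintype F] (σ : F ≃+* F) (r : ℕ) (hr : orderOf σ = r) :
    ∃ (F₀ : Type) (_ : Field F₀) (_ : Fintype F₀) (ι : F₀ →+* F), Fintype.card F = Fintype.card F₀ ^ r ∧
      (∀ t : F, σ t = t → ∃ s, ι s = t) ∧ ∀ s, σ (ι s) = ι s := by
  classical
  let G := Subgroup.zpowers σ
  have : Finite (F ≃+* F) :=
    Finite.of_injective (fun e : F ≃+* F => (e : F → F)) (fun a b h => RingEquiv.ext (congrFun h))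
  have : Fintype G := Fintype.ofFinite G
  let F₀' := FixedPoints.subfield G F
  have h1 : Module.finrank F₀' F = Fintype.card G := FixedPoints.finrank_eq_card G F
  have h2 : Fintype.card G = r := by
    show Fintype.card (Subgroup.zpowers σ) = r
    rw [Fintype.card_eq_nat_card, Nat.card_zpowers, hr]
  have : Fintype F₀' := Fintype.ofFinite _
  have h3 : Fintype.card F = Fintype.card F₀' ^ r := by
    rw [← h2, ← h1]
    exact Module.card_eq_pow_finrank
  obtain ⟨p, _, n, hp, hn⟩ := FiniteField.card' F₀'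
  have := Fact.mk hp
  have : Fintype (GaloisField p n) := Fintype.ofFinite _
  have hc : Fintype.card (GaloisField p n) = Fintype.card F₀' := by
    rw [hn, Fintype.card_eq_nat_card, GaloisField.card p n n.ne_zero]
  let e : GaloisField p n ≃+* F₀' := FiniteField.ringEquivOfCardEq hc
  refine ⟨GaloisField p n, inferInstance, inferInstance, F₀'.subtype.comp e.toRingHom, ?_, ?_, ?_⟩
  · rw [h3, hc]
  swap
  · intro s
    exact (e s).property ⟨σ, Subgroup.mem_zpowers σ⟩
  · intro t ht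
    have hmem : t ∈ F₀' := by
      intro g
      obtain ⟨g, hg⟩ := g
      have : Subgroup.zpowers σ ≤ MulAction.stabilizer (F ≃+* F) t := by
        rw [Subgroup.zpowers_le]
        exact ht
      exact this hg
    refine ⟨e.symm ⟨t, hmem⟩, ?_⟩
    simp

theorem bc_id (g : GL D.Idx F) : bc D (RingHom.id F) g = g := by
  apply gl_ext
  rw [bc_val]
  ext a b
  rfl

theorem bc_comp {L : Type*} [Field L] (ι : K →+* F) (κ : F →+* L) (g : GL D.Idx K) :
    bc D (κ.comp ι) g = bc D κ (bc D ι g) := by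
  apply gl_ext
  rw [bc_val, bc_val, bc_val]
  ext a b
  rfl

/-- `φ` is the field automorphism attached to `σ` -/
def IsFieldAutOf (D : ChevalleyDatum) (φ : MulAut ↥(D.group F)) (σ : F ≃+* F) : Prop :=
  ∀ g : ↥(D.group F), ((φ g : ↥(D.group F)) : GL D.Idx F) = bc D (σ : F →+* F) g.val

theorem IsFieldAutOf.one : IsFieldAutOf D (1 : MulAut ↥(D.group F)) (1 : F ≃+* F) := by
  intro g
  exact (bc_id g.val).symm

theorem IsFieldAutOf.mul {φ ψ : MulAut ↥(D.group F)} {σ τ : F ≃+* F} (h1 : IsFieldAutOf D φ σ)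
    (h2 : IsFieldAutOf D ψ τ) : IsFieldAutOf D (φ * ψ) (σ * τ) := by
  intro g
  rw [MulAut.mul_apply, h1, h2, ← bc_comp]
  rfl

theorem IsFieldAutOf.pow {φ : MulAut ↥(D.group F)} {σ : F ≃+* F} (h : IsFieldAutOf D φ σ) (k : ℕ) :
    IsFieldAutOf D (φ ^ k) (σ ^ k) := by
  induction k with
  | zero => rw [pow_zero, pow_zero]; exact IsFieldAutOf.one
  | succ k ih => rw [pow_succ, pow_succ]; exact ih.mul h

namespace Cert12

variable (C : Cert12 D fd fx fc fz)
include C

/-- a field automorphism acts by base change -/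
theorem isFieldAutOf (φ : MulAut ↥(D.group F)) (σ : F ≃+* F)
    (hφ : ∀ (g : ↥(D.group F)) (r : ℕ) (t : F), r < D.nroots →
      ((g : GL D.Idx F) : Matrix D.Idx D.Idx F) = D.x F r t →
        ((φ g : GL D.Idx F) : Matrix D.Idx D.Idx F) = D.x F r (σ t)) : IsFieldAutOf D φ σ := by
  have key : ∀ g (hg : g ∈ D.group F), ((φ ⟨g, hg⟩ : ↥(D.group F)) : GL D.Idx F) = bc D (σ : F →+* F) g := by
    intro g hg
    refine Subgroup.closure_induction
      (p := fun g hg => ((φ ⟨g, hg⟩ : ↥(D.group F)) : GL D.Idx F) = bc D (σ : F →+* F) g) ?_ ?_ ?_ ?_ hg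
    · rintro x ⟨r, t, hx⟩
      have hx' : ((x : GL D.Idx F) : Matrix D.Idx D.Idx F) = D.x F r.val t := by
        rw [hx]
        unfold ChevalleyDatum.x
        rw [dif_pos r.isLt]
      have e : x = C.c6.c2.xA r.val t := gl_ext (by rw [hx', C.c6.c2.xA_val])
      have hmem : x ∈ D.group F := Subgroup.subset_closure ⟨r, t, hx⟩
      show ((φ ⟨x, hmem⟩ : ↥(D.group F)) : GL D.Idx F) = bc D (σ : F →+* F) x
      apply gl_ext
      rw [hφ ⟨x, hmem⟩ r.val t r.isLt hx', e, C.c6.c2.bc_xA, C.c6.c2.xA_val]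
      rfl
    · show ((φ (1 : ↥(D.group F)) : ↥(D.group F)) : GL D.Idx F) = bc D (σ : F →+* F) 1
      rw [map_one, map_one]
      rfl
    · intro x y hx hy ihx ihy
      show ((φ ((⟨x, hx⟩ : ↥(D.group F)) * ⟨y, hy⟩) : ↥(D.group F)) : GL D.Idx F) = bc D (σ : F →+* F) (x * y)
      rw [map_mul, Subgroup.coe_mul, ihx, ihy, map_mul]
    · intro x hx ihx
      show ((φ ((⟨x, hx⟩ : ↥(D.group F))⁻¹) : ↥(D.group F)) : GL D.Idx F) = bc D (σ : F →+* F) x⁻¹
      rw [map_inv, Subgroup.coe_inv, ihx, map_inv]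
  intro g
  exact key g.val g.property

/-- the automorphism is trivial exactly when the field automorphism is -/
theorem fieldAut_eq_one_iff {φ : MulAut ↥(D.group F)} {σ : F ≃+* F} (h : IsFieldAutOf D φ σ) :
    φ = 1 ↔ σ = 1 := by
  constructor
  · intro h1
    apply RingEquiv.ext
    intro t
    have hr := C.c6.c2.simple_lt 0 C.c6.c2.hl
    have h2 := h ⟨C.c6.c2.xA (fd.simples.getD 0 0) t, C.c6.c2.xA_mem_group _ _⟩
    rw [h1, C.c6.c2.bc_xA] at h2
    exact (C.xA_param_inj _ hr _ _ h2).symm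
  · intro h1
    apply MulEquiv.ext
    intro g
    apply Subtype.ext
    rw [h, h1]
    exact bc_id g.val

theorem fieldAut_orderOf {φ : MulAut ↥(D.group F)} {σ : F ≃+* F} (h : IsFieldAutOf D φ σ) :
    orderOf φ = orderOf σ := by
  rw [orderOf_eq_orderOf_iff]
  intro k
  exact C.fieldAut_eq_one_iff (h.pow k)

/-- the fixed points of a field automorphism of order `r`, when the Cartan matrix is unimodular -/
theorem field_aut_fixed [Fintype F] (B : Matrix (Fin fd.l) (Fin fd.l) ℤ)
    (hB : cartM fd * B = ((1 : ℕ) : ℤ) • (1 : Matrix (Fin fd.l) (Fin fd.l) ℤ))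
    (φ : MulAut ↥(D.group F)) (hφ : D.IsFieldAut φ) (r : ℕ) (ho : orderOf φ = r) :
    ∃ (F₀ : Type) (_ : Field F₀) (_ : Fintype F₀), Fintype.card F = Fintype.card F₀ ^ r ∧
      Nonempty (↥((MulEquiv.toMonoidHom φ).eqLocus (MonoidHom.id ↥(D.group F))) ≃* ↥(D.group F₀)) := by
  obtain ⟨σ, hσ⟩ := hφ
  have h := C.isFieldAutOf φ σ hσ
  have ho' : orderOf σ = r := by rw [← C.fieldAut_orderOf h, ho]
  obtain ⟨F₀, i1, i2, ι, hcard, hfix, hι⟩ := exists_fixed_field σ r ho'
  refine ⟨F₀, i1, i2, hcard, ⟨?_⟩⟩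
  have hmem : ∀ g₀ : ↥(D.group F₀), bc D ι g₀.val ∈ D.group F :=
    fun g₀ => C.c6.c2.bc_group_le ι ⟨g₀.val, g₀.property, rfl⟩
  have hσι : (σ : F →+* F).comp ι = ι := RingHom.ext hι
  have hfixed : ∀ g₀ : ↥(D.group F₀),
      (⟨bc D ι g₀.val, hmem g₀⟩ : ↥(D.group F)) ∈
        (MulEquiv.toMonoidHom φ).eqLocus (MonoidHom.id ↥(D.group F)) := by
    intro g₀
    show φ ⟨bc D ι g₀.val, hmem g₀⟩ = ⟨bc D ι g₀.val, hmem g₀⟩
    apply Subtype.ext
    rw [h]
    show bc D (σ : F →+* F) (bc D ι g₀.val) = bc D ι g₀.val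
    rw [← bc_comp, hσι]
  let f : ↥(D.group F₀) →* ↥((MulEquiv.toMonoidHom φ).eqLocus (MonoidHom.id ↥(D.group F))) :=
    { toFun := fun g₀ => ⟨⟨bc D ι g₀.val, hmem g₀⟩, hfixed g₀⟩
      map_one' := by
        apply Subtype.ext
        apply Subtype.ext
        show bc D ι (1 : GL D.Idx F₀) = 1
        exact map_one _
      map_mul' := by
        intro a b
        apply Subtype.ext
        apply Subtype.ext
        show bc D ι (a.val * b.val) = bc D ι a.val * bc D ι b.val
        exact map_mul _ _ _ }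
  have hinj : Function.Injective f := by
    intro a b hab
    apply Subtype.ext
    apply bc_injective ι
    exact congrArg (fun x => (x.val.val : GL D.Idx F)) hab
  have hsurj : Function.Surjective f := by
    rintro ⟨⟨g, hg⟩, hgfix⟩
    have hgfix' : φ ⟨g, hg⟩ = ⟨g, hg⟩ := hgfix
    have h1 : bc D (σ : F →+* F) g = g := by
      have := h ⟨g, hg⟩
      rw [hgfix'] at this
      exact this.symm
    obtain ⟨g₀, hg₀, e⟩ := C.fix_group (σ : F →+* F) ι hfix B hB g hg h1
    refine ⟨⟨g₀, hg₀⟩, ?_⟩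
    apply Subtype.ext
    apply Subtype.ext
    exact e
  exact (MulEquiv.ofBijective f ⟨hinj, hsurj⟩).symm

end Cert12

end Cfsg.Agent.Lib.H29.Chev
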