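import Mathlib
import Cfsg.Prelude.Def_ChevStructure
import Cfsg.Prelude.Def_LieExceptional
import Cfsg.Agent.Lib.H29.ChevTw31

/-!
# Perfectness of a twisted group
-/

set_option autoImplicit false
set_option linter.unusedSectionVars false
set_option linter.unusedSimpArgs false
set_option linter.unusedVariables false

namespace Cfsg.Agent.Lib.H29.Chev

open Cfsg.Lie Matrix

variable {D : ChevalleyDatum} {fd : FD} {fx : FX} {fc : FC} {fz : FZ} {F : Type*} [Field F]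

/-- the scalar by which the image of `x` acts on the root subgroup of `s` -/
noncomputable def chiC (D : ChevalleyDatum) (fd : FD) (F : Type*) [Field F] (x : Fin fd.l → Fˣ) (s : ℕ) : F :=
  if hs : s < D.nroots then ((entryHom D fd F x (Sum.inr ⟨s, hs⟩) : Fˣ) : F) else 0

theorem entry_mulSingle (i : Fin fd.l) (v : Fˣ) (s : Fin D.nroots) :
    entryHom D fd F (Pi.mulSingle i v) (Sum.inr s) = v ^ fd.carZ i.val s.val := by
  show ∏ i' : Fin fd.l, (Pi.mulSingle i v : Fin fd.l → Fˣ) i' ^ fd.carZ i'.val s.val = _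
  rw [Finset.prod_eq_single i]
  · rw [Pi.mulSingle_eq_same]
  · intro b _ hb
    rw [Pi.mulSingle_eq_of_ne hb, _root_.one_zpow]
  · intro h; exact absurd (Finset.mem_univ _) h

namespace FD

/-- the torus element of a non-trivial orbit acts on its root subgroup by the square -/
def chkTorA (fd : FD) (ga : GA) (k i : ℕ) : Bool :=
  intBeq (fd.carZ i (fd.simples.getD i 0)) 2 &&
    (List.range k).all fun j => Nat.beq j 0 || intBeq (fd.carZ (rhIt ga j i) (fd.simples.getD i 0)) 0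

/-- the data `(tgt, a, r, s, γ)`: the commutator of `X_r` and `X_s` is `X_γ`, and the element `a` of the table
maps `γ` to `tgt` -/
def chkPerfW (fd : FD) (ga : GA) (fq : FQ) (w : ℕ × ℕ × ℕ × ℕ × ℕ) : Bool :=
  Nat.blt w.2.1 fq.dk && Nat.blt w.2.2.1 fd.n && Nat.blt w.2.2.2.1 fd.n && Nat.blt w.2.2.2.2 fd.n &&
  Nat.ble (fd.n / 2) w.2.2.1 && Nat.ble (fd.n / 2) w.2.2.2.1 &&
  Nat.beq (fd.gRoot ga w.2.2.1) w.2.2.1 && Nat.beq (fd.gRoot ga w.2.2.2.1) w.2.2.2.1 &&
  Nat.beq (fd.gRoot ga w.2.2.2.2) w.2.2.2.2 && Nat.beq (fd.gRoot ga w.1) w.1 &&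
  !(Nat.beq w.2.2.2.1 w.2.2.1) && !(Nat.beq w.2.2.2.1 (fd.n - 1 - w.2.2.1)) &&
  (FD.ctBeq (fd.commT w.2.2.1 w.2.2.2.1) [(w.2.2.2.2, 1, 1, 1)] ||
    FD.ctBeq (fd.commT w.2.2.1 w.2.2.2.1) [(w.2.2.2.2, -1, 1, 1)]) &&
  Nat.beq (fd.qT fq w.2.1 w.2.2.2.2) w.1

/-- the data for all orbits of fundamental roots -/
def chkPerfS (fd : FD) (ga : GA) (k : ℕ) (fq : FQ) (sreps : List ℕ) (wit : List (ℕ × ℕ × ℕ × ℕ × ℕ)) : Bool :=
  (wit.all fun w => fd.chkPerfW ga fq w) &&
  sreps.all fun i =>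
    bif Nat.beq (ga.rh.getD i 0) i then
      (wit.any fun w => Nat.beq w.1 (fd.simples.getD i 0)) &&
        (wit.any fun w => Nat.beq w.1 (fd.n - 1 - fd.simples.getD i 0))
    else fd.chkTorA ga k i

end FD

namespace Cert12

variable (C : Cert12 D fd fx fc fz) {ga : GA} {k : ℕ} (T : TwSpec fd fx ga k) (T2 : TwSpec2 fd fx ga k)
  (φ : F →+* F)
include C

theorem chi_conj_xA (x : Fin fd.l → Fˣ) (s : ℕ) (hs : s < fd.n) (t : F) :
    chiHom D fd F x * C.c6.c2.xA s t * (chiHom D fd F x)⁻¹ = C.c6.c2.xA s (chiC D fd F x s * t) := by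
  have hs' : s < D.nroots := by rw [C.c6.c2.nroots_eq]; exact hs
  have hH : chiHom D fd F x ∈ D.diagonalSubgroup F := by
    rw [C.diag_eq_range]; exact ⟨x, rfl⟩
  have := (C.c6.c2.diag_conj_x _ hH).2 ⟨s, hs'⟩ t
  rw [chiHom_val, Matrix.diagonal_apply_eq] at this
  unfold chiC
  rw [dif_pos hs']
  exact this

include T T2

/-- the scalars by which `h_S(u)` acts on the root subgroups of `± p`, for an orbit of size `k` -/
theorem chiC_yS (hk : k = 2 ∨ k = 3) (i : ℕ) (hi : i < fd.l) (hne : ga.rh.getD i 0 ≠ i)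
    (hchk : fd.chkTorA ga k i = true) (u : Fˣ) :
    chiC D fd F (yS fd ga k φ i u) (fd.simples.getD i 0) = (u : F) ^ 2 ∧
    chiC D fd F (yS fd ga k φ i u) (fd.n - 1 - fd.simples.getD i 0) = ((u : F) ^ 2)⁻¹ := by
  have hp := C.c6.c2.simple_lt i hi
  have hn := C.c6.c2.nroots_eq
  have hp' : fd.simples.getD i 0 < D.nroots := by omega
  have hl : ∀ a, rhIt ga a i < fd.l := fun a => C.rhIt_lt T T2 a i hi
  simp only [FD.chkTorA, Bool.and_eq_true, intBeq_iff, List.all_eq_true, List.mem_range, Bool.or_eq_true,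
    natBeq_iff] at hchk
  obtain ⟨c0, call⟩ := hchk
  have key : entryHom D fd F (yS fd ga k φ i u) (Sum.inr ⟨fd.simples.getD i 0, hp'⟩) = u ^ 2 := by
    unfold yS
    rw [if_neg hne]
    rcases hk with rfl | rfl
    · have c1 := (call 1 (by norm_num)).resolve_left (by norm_num)
      simp only [List.range_succ, List.range_zero, List.nil_append, List.cons_append, List.map_cons, List.map_nil,
        List.prod_cons, List.prod_nil, mul_one, map_mul, Pi.mul_apply, dif_pos (hl 0), dif_pos (hl 1)]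
      rw [entry_mulSingle, entry_mulSingle]
      simp only
      rw [c1, zpow_zero, mul_one]
      show ((Units.map φ.toMonoidHom)^[0] u) ^ fd.carZ i (fd.simples.getD i 0) = u ^ 2
      rw [c0]
      rfl
    · have c1 := (call 1 (by norm_num)).resolve_left (by norm_num)
      have c2 := (call 2 (by norm_num)).resolve_left (by norm_num)
      simp only [List.range_succ, List.range_zero, List.nil_append, List.cons_append, List.map_cons, List.map_nil,
        List.prod_cons, List.prod_nil, mul_one, map_mul, Pi.mul_apply, dif_pos (hl 0), dif_pos (hl 1),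
        dif_pos (hl 2)]
      rw [entry_mulSingle, entry_mulSingle, entry_mulSingle]
      simp only
      rw [c1, c2, zpow_zero, zpow_zero, mul_one, mul_one]
      show ((Units.map φ.toMonoidHom)^[0] u) ^ fd.carZ i (fd.simples.getD i 0) = u ^ 2
      rw [c0]
      rfl
  constructor
  · unfold chiC
    rw [dif_pos hp', key]
    push_cast
    rfl
  · unfold chiC
    rw [dif_pos (by omega), C.entry_neg _ ⟨fd.simples.getD i 0, hp'⟩, key]
    push_cast
    rfl

omit T2 in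
/-- the commutator of two `σ`-fixed root elements -/
theorem xA_mem_comm_of_cf (G1 : Subgroup (GL D.Idx F)) (r s γ : ℕ) (hr : r < fd.n) (hs : s < fd.n)
    (h1 : s ≠ r) (h2 : s ≠ fd.n - 1 - r) (ε : ℤ) (hε : ε = 1 ∨ ε = -1) (hct : fd.commT r s = [(γ, ε, 1, 1)])
    (hrG : ∀ t, φ t = t → C.c6.c2.xA r t ∈ G1) (hsG : ∀ t, φ t = t → C.c6.c2.xA s t ∈ G1)
    (t : F) (ht : φ t = t) : C.c6.c2.xA γ t ∈ ⁅G1, G1⁆ := by
  have cf := C.c6.cfg (F := F) r s hr hs h1 h2
  have := cf 1 (-(ε : F) * t)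
  rw [hct] at this
  unfold Cert2.ctG at this
  simp only [List.map_cons, List.map_nil, List.prod_cons, List.prod_nil, mul_one, pow_one] at this
  have e : ((ε : ℤ) : F) * -1 * (-(ε : F) * t) = t := by
    rcases hε with rfl | rfl <;> push_cast <;> ring
  rw [e] at this
  have hx : C.c6.c2.xA s (-(ε : F) * t) ∈ G1 := by
    apply hsG
    rw [map_mul, map_neg, map_intCast, ht]
  have hy : C.c6.c2.xA r (1 : F) ∈ G1 := hrG 1 (map_one φ)
  generalize C.c6.c2.xA s (-(ε : F) * t) = x at this hx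
  generalize C.c6.c2.xA r (1 : F) = y at this hy
  have e2 : C.c6.c2.xA γ t = x⁻¹ * y⁻¹ * x⁻¹⁻¹ * y⁻¹⁻¹ := by
    rw [inv_inv, inv_inv, mul_assoc (x⁻¹ * y⁻¹), this]
    group
  rw [e2, ← commutatorElement_def]
  exact Subgroup.commutator_mem_commutator (inv_mem hx) (inv_mem hy)

omit T2 in
/-- transport of a `σ`-fixed root subgroup by a `σ`-fixed element of `N` -/
theorem xA_mem_comm_transport (G1 : Subgroup (GL D.Idx F)) (hG1 : G1 ≤ fixS (C.c6.c2.sigma T.ginv φ))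
    (m : GL D.Idx F) (hm : m ∈ G1) (π : ℕ → ℕ) (hπ : C.c6.c2.Perm m π) (γ : ℕ) (hγ : γ < fd.n)
    (hγf : fd.gRoot ga γ = γ) (htf : fd.gRoot ga (π γ) = π γ)
    (hγc : ∀ t, φ t = t → C.c6.c2.xA γ t ∈ ⁅G1, G1⁆) (t : F) (ht : φ t = t) :
    C.c6.c2.xA (π γ) t ∈ ⁅G1, G1⁆ := by
  obtain ⟨hπγ, _, c, hc⟩ := hπ γ hγ
  have hmf : C.c6.c2.sigma T.ginv φ m = m := (mem_fixS _ _).mp (hG1 hm)
  have hc0 : c ≠ 0 := by
    intro h0
    have := hc 1
    rw [h0, zero_mul, C.c6.c2.xA_zero] at this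
    have h1 : C.c6.c2.xA γ (1 : F) = 1 := by
      have e : C.c6.c2.xA γ (1 : F) = m⁻¹ * (m * C.c6.c2.xA γ 1 * m⁻¹) * m := by group
      rw [e, this]; group
    exact one_ne_zero (C.c6.xA_eq_one γ hγ (1 : F) h1)
  have e1 := hc (c⁻¹ * t)
  rw [← mul_assoc, mul_inv_cancel₀ hc0, one_mul] at e1
  -- the parameter `c⁻¹ t` lies in the fixed field
  have hfix : φ (c⁻¹ * t) = c⁻¹ * t := by
    have e2 := congrArg (C.c6.c2.sigma T.ginv φ) e1
    rw [map_mul, map_mul, map_inv, hmf, C.c6.c2.sigma_xA T.ginv T.graph φ γ hγ,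
      C.c6.c2.sigma_xA T.ginv T.graph φ _ hπγ, hγf, htf, T.fix γ hγ hγf, T.fix _ hπγ htf, Int.cast_one, one_mul,
      one_mul, ht, ← e1] at e2
    have e3 : C.c6.c2.xA γ (φ (c⁻¹ * t)) = C.c6.c2.xA γ (c⁻¹ * t) := by
      have : C.c6.c2.xA γ (φ (c⁻¹ * t)) = m⁻¹ * (m * C.c6.c2.xA γ (φ (c⁻¹ * t)) * m⁻¹) * m := by group
      rw [this, e2]; group
    exact C.xA_param_inj γ hγ _ _ e3
  rw [← e1]
  exact conj_mem_commutator G1 m _ hm (hγc _ hfix)

end Cert12

end Cfsg.Agent.Lib.H29.Chev
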