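import Mathlib
import Cfsg.Prelude.Def_ChevStructure
import Cfsg.Prelude.Def_LieExceptional
import Cfsg.Agent.Lib.H29.ChevTw32
import Cfsg.Agent.S0319

/-!
# Perfectness and simplicity of a twisted group
-/

set_option autoImplicit false
set_option linter.unusedSectionVars false
set_option linter.unusedSimpArgs false
set_option linter.unusedVariables false

namespace Cfsg.Agent.Lib.H29.Chev

open Cfsg.Lie Matrix

variable {D : ChevalleyDatum} {fd : FD} {fx : FX} {fc : FC} {fz : FZ} {F : Type*} [Field F]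

theorem FD.chkPerfW_spec {ga : GA} {fq : FQ} {w : ℕ × ℕ × ℕ × ℕ × ℕ} (h : fd.chkPerfW ga fq w = true) :
    w.2.1 < fq.dk ∧ w.2.2.1 < fd.n ∧ w.2.2.2.1 < fd.n ∧ w.2.2.2.2 < fd.n ∧
    fd.n / 2 ≤ w.2.2.1 ∧ fd.n / 2 ≤ w.2.2.2.1 ∧
    fd.gRoot ga w.2.2.1 = w.2.2.1 ∧ fd.gRoot ga w.2.2.2.1 = w.2.2.2.1 ∧
    fd.gRoot ga w.2.2.2.2 = w.2.2.2.2 ∧ fd.gRoot ga w.1 = w.1 ∧
    w.2.2.2.1 ≠ w.2.2.1 ∧ w.2.2.2.1 ≠ fd.n - 1 - w.2.2.1 ∧
    (∃ ε : ℤ, (ε = 1 ∨ ε = -1) ∧ fd.commT w.2.2.1 w.2.2.2.1 = [(w.2.2.2.2, ε, 1, 1)]) ∧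
    fd.qT fq w.2.1 w.2.2.2.2 = w.1 := by
  simp only [FD.chkPerfW, Bool.and_eq_true, natBlt_iff, natBeq_iff, Nat.ble_eq, Bool.not_eq_true',
    ← Bool.not_eq_true, Bool.or_eq_true, ctBeq_iff] at h
  obtain ⟨⟨⟨⟨⟨⟨⟨⟨⟨⟨⟨⟨⟨h1, h2⟩, h3⟩, h4⟩, h5⟩, h6⟩, h7⟩, h8⟩, h9⟩, h10⟩, h11⟩, h12⟩, h13⟩, h14⟩ := h
  refine ⟨h1, h2, h3, h4, h5, h6, h7, h8, h9, h10, h11, h12, ?_, h14⟩
  rcases h13 with h | h
  · exact ⟨1, Or.inl rfl, h⟩
  · exact ⟨-1, Or.inr rfl, h⟩

namespace Cert12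

variable (C : Cert12 D fd fx fc fz) {ga : GA} {k : ℕ} (T : TwSpec fd fx ga k) (T2 : TwSpec2 fd fx ga k)
  (φ : F →+* F)
include C T T2

/-- `x_S(t)` at a fixed root -/
theorem xS_of_fixed (r : ℕ) (hf : fd.gRoot ga r = r) (t : F) : C.xS ga k φ r t = C.c6.c2.xA r t := by
  unfold xS FD.os
  rw [if_pos hf]
  simp only [List.range_one, List.map_cons, List.map_nil, List.prod_cons, List.prod_nil, mul_one]
  exact C.aj_zero T φ r t

/-- a twisted group is perfect -/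
theorem tw_perfect (hk : k = 2 ∨ k = 3) (hφk : ∀ x : F, φ^[k] x = x) {RL sreps : List ℕ}
    (S : ChainSpec fd fx ga k RL sreps) {fq : FQ} (hQ : fd.ChkQ fx ga k sreps RL fq)
    (hO : ∀ c < fd.l, chkOrb ga k sreps c = true)
    (wit : List (ℕ × ℕ × ℕ × ℕ × ℕ)) (hW : fd.chkPerfS ga k fq sreps wit = true)
    (hu : ∃ u : F, u ≠ 0 ∧ u ^ 2 ≠ 1) :
    commutator ↥(Subgroup.closure (C.twGen ga k φ sreps)) = ⊤ := by
  have hk1 : 1 ≤ k := by omega
  have hsr := S.sreps_lt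
  obtain ⟨hGD, hGfix, hU, hH, hNS⟩ := C.twGen_spec T T2 φ hk hφk S hO
  set G1 := Subgroup.closure (C.twGen ga k φ sreps) with hG1
  simp only [FD.chkPerfS, Bool.and_eq_true, List.all_eq_true] at hW
  obtain ⟨hW1, hW2⟩ := hW
  -- positive fixed root elements lie in the group
  have hposG : ∀ r < fd.n, fd.n / 2 ≤ r → fd.gRoot ga r = r → ∀ t, φ t = t → C.c6.c2.xA r t ∈ G1 := by
    intro r hr hpos hf t ht
    rw [← C.xS_of_fixed T T2 φ r hf t]
    refine hU (Subgroup.mem_inf.mpr ⟨C.sigma_xS T φ hk hφk r hr t (fun _ => ht), ?_⟩)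
    rw [C.posUnipotent_eq]
    exact C.xS_mem_Vm T φ _ _ hr hpos (fun _ _ => trivial) t
  -- the targets of the witnesses
  have key : ∀ w ∈ wit, ∀ t, φ t = t → C.c6.c2.xA w.1 t ∈ ⁅G1, G1⁆ := by
    intro w hw t ht
    obtain ⟨ha, hr, hs, hγ, hpr, hps, gr, gs, gγ, gt, ne1, ne2, ⟨ε, hε, hct⟩, hq⟩ := fd.chkPerfW_spec (hW1 w hw)
    obtain ⟨m, _, hmG, hπ⟩ := C.exists_rep T T2 hQ hsr G1 hNS w.2.1 ha
    have hc := C.xA_mem_comm_of_cf T φ G1 _ _ _ hr hs ne1 ne2 ε hε hct (hposG _ hr hpr gr) (hposG _ hs hps gs)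
    have := C.xA_mem_comm_transport T φ G1 hGfix m hmG _ hπ _ hγ gγ (by rw [hq]; exact gt) hc t ht
    rwa [hq] at this
  have h1 : G1 ≤ ⁅G1, G1⁆ := by
    rw [hG1, Subgroup.closure_le]
    rintro g ⟨i, hi, t, ht, hg⟩
    rw [SetLike.mem_coe, ← hG1]
    have hil := hsr i hi
    have hp := C.c6.c2.simple_lt i hil
    have hWi := hW2 i hi
    by_cases hfix : ga.rh.getD i 0 = i
    · have e : Nat.beq (ga.rh.getD i 0) i = true := (natBeq_iff _ _).mpr hfix
      rw [e, cond_true, Bool.and_eq_true, List.any_eq_true, List.any_eq_true] at hWi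
      obtain ⟨⟨w, hw, hw1⟩, ⟨w', hw', hw1'⟩⟩ := hWi
      rw [natBeq_iff] at hw1 hw1'
      have gp : fd.gRoot ga (fd.simples.getD i 0) = fd.simples.getD i 0 := by
        rw [(C.gsimple_spec T T2 i hil).1, hfix]
      have gn : fd.gRoot ga (fd.n - 1 - fd.simples.getD i 0) = fd.n - 1 - fd.simples.getD i 0 := by
        rw [(T.neg _ hp).1, gp]
      have htf : φ t = t := ht gp
      rcases hg with rfl | rfl
      · rw [C.xS_of_fixed T T2 φ _ gp, ← hw1]
        exact key w hw t htf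
      · rw [C.xS_of_fixed T T2 φ _ gn, ← hw1']
        exact key w' hw' t htf
    · have e : Nat.beq (ga.rh.getD i 0) i = false := by rw [← Bool.not_eq_true, natBeq_iff]; exact hfix
      rw [e, cond_false] at hWi
      obtain ⟨u, hu0, hu2⟩ := hu
      have gne := C.gRoot_simple_ne T T2 i hil hfix
      have hKall : ∀ t : F, t ∈ Kr fd ga φ (fd.simples.getD i 0) := fun t h => absurd h gne
      have hKalln : ∀ t : F, t ∈ Kr fd ga φ (fd.n - 1 - fd.simples.getD i 0) :=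
        fun t => C.Kr_neg T T2 φ _ hp t (hKall t)
      have hxp : ∀ t : F, C.xS ga k φ (fd.simples.getD i 0) t ∈ G1 :=
        fun t => Subgroup.subset_closure ⟨i, hi, t, hKall t, Or.inl rfl⟩
      have hxn : ∀ t : F, C.xS ga k φ (fd.n - 1 - fd.simples.getD i 0) t ∈ G1 :=
        fun t => Subgroup.subset_closure ⟨i, hi, t, hKall t, Or.inr rfl⟩
      have hhG : C.hS ga k φ i u ∈ G1 := by
        unfold hS
        exact mul_mem (mul_mem (mul_mem (hxp _) (hxn _)) (hxp _)) (mul_mem (mul_mem (hxp _) (hxn _)) (hxp _))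
      have hhfix : C.c6.c2.sigma T.ginv φ (C.hS ga k φ i u) = C.hS ga k φ i u := (mem_fixS _ _).mp (hGfix hhG)
      have heq := C.hS_eq T T2 φ i hil (Units.mk0 u hu0)
      rw [Units.val_mk0] at heq
      have hc : ∀ s < fd.n, ∀ t, C.hS ga k φ i u * C.c6.c2.xA s t * (C.hS ga k φ i u)⁻¹ =
          C.c6.c2.xA s (chiC D fd F (yS fd ga k φ i (Units.mk0 u hu0)) s * t) := by
        intro s hs t
        rw [heq]
        exact C.chi_conj_xA _ s hs t
      obtain ⟨c1, c2⟩ := C.chiC_yS T T2 φ hk i hil hfix hWi (Units.mk0 u hu0)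
      rw [Units.val_mk0] at c1 c2
      rcases hg with rfl | rfl
      · exact C.xS_mem_comm_of_torus T φ hk G1 _ hhG hhfix _ hc _ hp (fun t _ => hxp t) (by rw [c1]; exact hu2) t ht
      · exact C.xS_mem_comm_of_torus T φ hk G1 _ hhG hhfix _ hc _ (by omega) (fun t _ => hxn t)
          (by rw [c2]; intro h; exact hu2 (inv_eq_one.mp h)) t (hKalln t)
  apply Subgroup.map_injective G1.subtype_injective
  rw [Subgroup.map_subtype_commutator, ← MonoidHom.range_eq_map, Subgroup.range_subtype]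
  refine le_antisymm ?_ h1
  rw [Subgroup.commutator_le]
  intro g₁ h₁ g₂ h₂
  rw [commutatorElement_def]
  exact mul_mem (mul_mem (mul_mem h₁ h₂) (inv_mem h₁)) (inv_mem h₂)

/-- a twisted group is simple -/
theorem tw_simple [Finite F] (hk : k = 2 ∨ k = 3) (hφk : ∀ x : F, φ^[k] x = x) {RL sreps : List ℕ}
    (S : ChainSpec fd fx ga k RL sreps) {fq : FQ} (hQ : fd.ChkQ fx ga k sreps RL fq) (hdk : 0 < fq.dk)
    (hcov : ∀ i < fd.l, ∃ ii < sreps.length, ∃ j < k, i = rhIt ga j (sreps.getD ii 0))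
    (hO : ∀ c < fd.l, chkOrb ga k sreps c = true) (hI : fd.chkInjS fx ga k sreps = true)
    (hIrr : fd.chkIrrS fx ga k sreps = true) (a0 : ℕ) (hw : fd.chkQW0 fq a0 = true)
    (wit : List (ℕ × ℕ × ℕ × ℕ × ℕ)) (hW : fd.chkPerfS ga k fq sreps wit = true)
    (hu : ∃ u : F, u ≠ 0 ∧ u ^ 2 ≠ 1) :
    IsSimpleGroup ↥(Subgroup.closure (C.twGen ga k φ sreps)) ∧
      ¬ IsMulCommutative ↥(Subgroup.closure (C.twGen ga k φ sreps)) := by
  have hk1 : 1 ≤ k := by omega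
  have hsr := S.sreps_lt
  have hperf := C.tw_perfect T T2 φ hk hφk S hQ hO wit hW hu
  have hcore := C.tw_borel_core T T2 φ hk hφk S hQ hO a0 hw
  have hirr := C.tw_irreducible T T2 φ hk hφk S hQ hdk hcov hO hI hIrr
  obtain ⟨ii, hii, _, _, _⟩ := hcov 0 C.c6.c2.hl
  have hi : sreps.getD ii 0 ∈ sreps := by
    rw [List.getD_eq_getElem _ _ hii]; exact List.getElem_mem hii
  have hil := hsr _ hi
  have h1K : (1 : F) ∈ Kr fd ga φ (fd.simples.getD (sreps.getD ii 0) 0) := fun _ => map_one φ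
  have : Nontrivial ↥(Subgroup.closure (C.twGen ga k φ sreps)) := by
    refine ⟨⟨⟨C.xS ga k φ (fd.simples.getD (sreps.getD ii 0) 0) (1 : F),
      Subgroup.subset_closure ⟨_, hi, 1, h1K, Or.inl rfl⟩⟩, 1, ?_⟩⟩
    intro h
    have := congrArg Subtype.val h
    simp only [OneMemClass.coe_one] at this
    exact C.xS_one_ne T T2 φ hk1 _ hil this
  have hsolv : Group.IsSolvable ↥((C.twBN T T2 φ hk hφk S hQ hdk hcov hO hI).B) := by
    have := C.c6.c2.borel_solvable (F := F)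
    show Group.IsSolvable ↥((D.borelSubgroup F ⊓ Subgroup.closure (C.twGen ga k φ sreps)).subgroupOf
      (Subgroup.closure (C.twGen ga k φ sreps)))
    have hle : D.borelSubgroup F ⊓ Subgroup.closure (C.twGen ga k φ sreps) ≤
        Subgroup.closure (C.twGen ga k φ sreps) := inf_le_right
    have hle2 : D.borelSubgroup F ⊓ Subgroup.closure (C.twGen ga k φ sreps) ≤ D.borelSubgroup F := inf_le_left
    exact Group.isSolvable_of_isSolvable_injective
      (f := (Subgroup.inclusion hle2).comp (Subgroup.subgroupOfEquivOfLe hle).toMonoidHom)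
      ((Subgroup.inclusion_injective hle2).comp (Subgroup.subgroupOfEquivOfLe hle).injective)
  refine ⟨Cfsg.Agent.S0319.result (C.twBN T T2 φ hk hφk S hQ hdk hcov hO hI) hirr hsolv hperf hcore, ?_⟩
  intro hc
  have : commutator ↥(Subgroup.closure (C.twGen ga k φ sreps)) = ⊥ := by
    rw [commutator_def, Subgroup.commutator_eq_bot_iff_le_centralizer]
    intro g _ h _
    exact hc.is_comm.comm h g
  rw [this] at hperf
  exact bot_ne_top hperf

end Cert12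

end Cfsg.Agent.Lib.H29.Chev
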