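import Mathlib
import Cfsg.Prelude.Def_ChevStructure
import Cfsg.Agent.Lib.H29.ChevTw33
import Cfsg.Agent.Lib.H29.ChevFld2

/-!
# Endomorphisms of a Chevalley group acting on the root elements by `x_r(t) ↦ x_{ρ r}(ψ_r t)`

The standard subgroups are preserved and the canonical form of a fixed element has fixed factors.
-/

set_option autoImplicit false
set_option linter.unusedSectionVars false
set_option linter.unusedSimpArgs false
set_option linter.unusedVariables false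

namespace Cfsg.Agent.Lib.H29.Chev

open Cfsg.Lie Matrix

variable {D : ChevalleyDatum} {fd : FD} {fx : FX} {fc : FC} {fz : FZ} {F : Type*} [Field F]

/-- induction on the closure of a subset of a subgroup `H`, for an endomorphism of `H` -/
theorem sub_closure_induction {G : Type*} [Group G] (H : Subgroup G) (σ : ↥H →* ↥H) (S : Set G) (hS : S ⊆ H)
    (T : Subgroup G) (hgen : ∀ x (hx : x ∈ S), ((σ ⟨x, hS hx⟩ : ↥H) : G) ∈ T) (g : ↥H)
    (hg : (g : G) ∈ Subgroup.closure S) : ((σ g : ↥H) : G) ∈ T := by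
  have key : ∀ x (hx : x ∈ Subgroup.closure S), ∃ hH : x ∈ H, ((σ ⟨x, hH⟩ : ↥H) : G) ∈ T := by
    intro x hx
    induction hx using Subgroup.closure_induction with
    | mem x hx => exact ⟨hS hx, hgen x hx⟩
    | one =>
      refine ⟨one_mem _, ?_⟩
      have : (⟨1, one_mem _⟩ : ↥H) = 1 := rfl
      rw [this, map_one]
      exact one_mem _
    | mul x y _ _ hx hy =>
      obtain ⟨h1, h1'⟩ := hx
      obtain ⟨h2, h2'⟩ := hy
      refine ⟨mul_mem h1 h2, ?_⟩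
      have : (⟨x * y, mul_mem h1 h2⟩ : ↥H) = ⟨x, h1⟩ * ⟨y, h2⟩ := rfl
      rw [this, map_mul]
      exact mul_mem h1' h2'
    | inv x _ hx =>
      obtain ⟨h1, h1'⟩ := hx
      refine ⟨inv_mem h1, ?_⟩
      have : (⟨x⁻¹, inv_mem h1⟩ : ↥H) = (⟨x, h1⟩ : ↥H)⁻¹ := rfl
      rw [this, map_inv]
      exact inv_mem h1'
  obtain ⟨hH, h⟩ := key g.1 hg
  exact h

theorem Cert12.xA_pos_mem (C : Cert12 D fd fx fc fz) (s : ℕ) (hs : s < fd.n) (hpos : fd.n / 2 ≤ s) (t : F) :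
    C.c6.c2.xA s t ∈ D.posUnipotent F := by
  rw [C.c6.c2.xA_of_lt s hs]
  exact C.c6.c2.xG_mem_pos s hs hpos t

theorem Cert12.xA_neg_mem (C : Cert12 D fd fx fc fz) (s : ℕ) (hs : s < fd.n) (hneg : s < fd.n / 2) (t : F) :
    C.c6.c2.xA s t ∈ D.negUnipotent F := by
  rw [C.c6.c2.xA_of_lt s hs]
  exact C.c6.c2.xG_mem_neg s hs hneg t

/-- `σ` acts on the root elements by `x_r(t) ↦ x_{ρ r}(ψ_r t)` -/
structure RootTw (C : Cert12 D fd fx fc fz) (σ : ↥(D.group F) →* ↥(D.group F)) (ρ : ℕ → ℕ)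
    (ψ : ℕ → F →+* F) : Prop where
  rho_lt : ∀ r < fd.n, ρ r < fd.n
  rho_neg : ∀ r < fd.n, ρ (fd.n - 1 - r) = fd.n - 1 - ρ r
  rho_pos : ∀ r < fd.n, fd.n / 2 ≤ r → fd.n / 2 ≤ ρ r
  psi_neg : ∀ r < fd.n, ψ (fd.n - 1 - r) = ψ r
  psi_surj : ∀ r < fd.n, Function.Surjective (ψ r)
  sig_xA : ∀ r < fd.n, ∀ t : F,
    ((σ ⟨C.c6.c2.xA r t, C.c6.c2.xA_mem_group r t⟩ : ↥(D.group F)) : GL D.Idx F) = C.c6.c2.xA (ρ r) (ψ r t)

namespace RootTw

variable {C : Cert12 D fd fx fc fz} {σ : ↥(D.group F) →* ↥(D.group F)} {ρ : ℕ → ℕ} {ψ : ℕ → F →+* F}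
  (R : RootTw C σ ρ ψ)
include R

theorem sig_xA' (r : ℕ) (hr : r < fd.n) (t : F) (h : C.c6.c2.xA r t ∈ D.group F) :
    ((σ ⟨C.c6.c2.xA r t, h⟩ : ↥(D.group F)) : GL D.Idx F) = C.c6.c2.xA (ρ r) (ψ r t) :=
  R.sig_xA r hr t

theorem rho_neg_of_neg (r : ℕ) (hr : r < fd.n) (hneg : r < fd.n / 2) : ρ r < fd.n / 2 := by
  have hev := C.c6.c2.heven
  have h1 := R.rho_pos (fd.n - 1 - r) (by omega) (by omega)
  rw [R.rho_neg r hr] at h1
  have := R.rho_lt r hr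
  omega

theorem sig_pos (g : ↥(D.group F)) (hg : (g : GL D.Idx F) ∈ D.posUnipotent F) :
    ((σ g : ↥(D.group F)) : GL D.Idx F) ∈ D.posUnipotent F := by
  unfold ChevalleyDatum.posUnipotent at hg
  refine sub_closure_induction (D.group F) σ _ ?_ (D.posUnipotent F) ?_ g hg
  · rintro x ⟨r, t, hpos, hx⟩
    have : x = C.c6.c2.xA r t := gl_ext (by rw [hx, C.c6.c2.xA_val])
    rw [this]
    exact C.c6.c2.xA_mem_group r t
  · rintro x ⟨r, t, hpos, hx⟩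
    obtain ⟨hr, hpr⟩ := (C.c6.isPos_iff r).mp hpos
    have hx' : x = C.c6.c2.xA r t := gl_ext (by rw [hx, C.c6.c2.xA_val])
    subst hx'
    rw [R.sig_xA' r hr t]
    exact C.xA_pos_mem _ (R.rho_lt r hr) (R.rho_pos r hr hpr) _

theorem sig_neg (g : ↥(D.group F)) (hg : (g : GL D.Idx F) ∈ D.negUnipotent F) :
    ((σ g : ↥(D.group F)) : GL D.Idx F) ∈ D.negUnipotent F := by
  unfold ChevalleyDatum.negUnipotent at hg
  refine sub_closure_induction (D.group F) σ _ ?_ (D.negUnipotent F) ?_ g hg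
  · rintro x ⟨r, t, hneg, hx⟩
    have : x = C.c6.c2.xA r t := gl_ext (by rw [hx, C.c6.c2.xA_val])
    rw [this]
    exact C.c6.c2.xA_mem_group r t
  · rintro x ⟨r, t, hneg, hx⟩
    obtain ⟨hnr, hr⟩ := (isNeg_iff C.c6.c2.agrees C.c6.c2.lev r).mp hneg
    have hx' : x = C.c6.c2.xA r t := gl_ext (by rw [hx, C.c6.c2.xA_val])
    subst hx'
    rw [R.sig_xA' r hr t]
    exact C.xA_neg_mem _ (R.rho_lt r hr) (R.rho_neg_of_neg r hr hnr) _

end RootTw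

/-- the element `n_r(c) = x_r(c) x_{-r}(-c⁻¹) x_r(c)` -/
noncomputable def Cert12.nE (C : Cert12 D fd fx fc fz) (r : ℕ) (c : F) : GL D.Idx F :=
  C.c6.c2.xA r c * C.c6.c2.xA (fd.n - 1 - r) (-c⁻¹) * C.c6.c2.xA r c

theorem Cert12.nE_mem_group (C : Cert12 D fd fx fc fz) (r : ℕ) (c : F) : C.nE r c ∈ D.group F :=
  mul_mem (mul_mem (C.c6.c2.xA_mem_group _ _) (C.c6.c2.xA_mem_group _ _)) (C.c6.c2.xA_mem_group _ _)

theorem Cert12.nE_val (C : Cert12 D fd fx fc fz) (r : ℕ) (hr : r < fd.n) (c : F) :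
    ((C.nE r c : GL D.Idx F) : Matrix D.Idx D.Idx F) = D.nMat F r c := by
  unfold Cert12.nE ChevalleyDatum.nMat ChevalleyDatum.nWord ChevalleyDatum.wordMat
  rw [C.c6.c2.agrees.neg_eq' r hr]
  simp only [Units.val_mul, C.c6.c2.xA_val, List.map_cons, List.map_nil, List.prod_cons, List.prod_nil, mul_one,
    Matrix.mul_assoc]

theorem Cert12.hgen_eq_nE (C : Cert12 D fd fx fc fz) (g : GL D.Idx F) (r : ℕ) (hr : r < fd.n) (c : F)
    (hg : (g : Matrix D.Idx D.Idx F) = D.hMat F r c) : g = C.nE r c * C.nE r (-1) := by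
  apply gl_ext
  rw [hg, Units.val_mul, C.nE_val r hr, C.nE_val r hr]
  unfold ChevalleyDatum.hMat ChevalleyDatum.hWord ChevalleyDatum.nMat
  rw [wordMat_append]

theorem Cert12.nE_one (C : Cert12 D fd fx fc fz) (r : ℕ) (hr : r < fd.n) :
    C.nE (F := F) r 1 = C.c6.c2.nG r hr := by
  rw [C.c6.c2.nG_eq_xA' r hr]
  unfold Cert12.nE
  rw [inv_one]

namespace RootTw

variable {C : Cert12 D fd fx fc fz} {σ : ↥(D.group F) →* ↥(D.group F)} {ρ : ℕ → ℕ} {ψ : ℕ → F →+* F}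
  (R : RootTw C σ ρ ψ)
include R

theorem sig_nE (r : ℕ) (hr : r < fd.n) (c : F) :
    ((σ ⟨C.nE r c, C.nE_mem_group r c⟩ : ↥(D.group F)) : GL D.Idx F) = C.nE (ρ r) (ψ r c) := by
  have e : (⟨C.nE r c, C.nE_mem_group r c⟩ : ↥(D.group F)) =
      ⟨C.c6.c2.xA r c, C.c6.c2.xA_mem_group _ _⟩ * ⟨C.c6.c2.xA (fd.n - 1 - r) (-c⁻¹), C.c6.c2.xA_mem_group _ _⟩ *
        ⟨C.c6.c2.xA r c, C.c6.c2.xA_mem_group _ _⟩ := rfl
  rw [e, map_mul, map_mul, Subgroup.coe_mul, Subgroup.coe_mul, R.sig_xA r hr, R.sig_xA _ (by omega),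
    R.rho_neg r hr, R.psi_neg r hr, map_neg, map_inv₀]
  rfl

theorem sig_diag (g : ↥(D.group F)) (hg : (g : GL D.Idx F) ∈ D.diagonalSubgroup F) :
    ((σ g : ↥(D.group F)) : GL D.Idx F) ∈ D.diagonalSubgroup F := by
  unfold ChevalleyDatum.diagonalSubgroup at hg
  refine sub_closure_induction (D.group F) σ _ ?_ (D.diagonalSubgroup F) ?_ g hg
  · rintro x ⟨r, t, hr, ht, hx⟩
    rw [C.c6.c2.nroots_eq] at hr
    rw [C.hgen_eq_nE x r hr t hx]
    exact mul_mem (C.nE_mem_group _ _) (C.nE_mem_group _ _)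
  · rintro x ⟨r, t, hr, ht, hx⟩
    rw [C.c6.c2.nroots_eq] at hr
    have hx' := C.hgen_eq_nE x r hr t hx
    subst hx'
    have e : (⟨C.nE r t * C.nE r (-1), mul_mem (C.nE_mem_group _ _) (C.nE_mem_group _ _)⟩ : ↥(D.group F)) =
        ⟨C.nE r t, C.nE_mem_group _ _⟩ * ⟨C.nE r (-1), C.nE_mem_group _ _⟩ := rfl
    rw [e, map_mul, Subgroup.coe_mul, R.sig_nE r hr, R.sig_nE r hr, map_neg, map_one]
    apply Subgroup.subset_closure
    refine ⟨ρ r, ψ r t, by rw [C.c6.c2.nroots_eq]; exact R.rho_lt r hr, ?_, ?_⟩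
    · rw [Ne, map_eq_zero]; exact ht
    · rw [Units.val_mul, C.nE_val _ (R.rho_lt r hr), C.nE_val _ (R.rho_lt r hr)]
      unfold ChevalleyDatum.hMat ChevalleyDatum.hWord ChevalleyDatum.nMat
      rw [wordMat_append]

theorem sig_monomial (g : ↥(D.group F)) (hg : (g : GL D.Idx F) ∈ D.monomialSubgroup F) :
    ((σ g : ↥(D.group F)) : GL D.Idx F) ∈ D.monomialSubgroup F := by
  unfold ChevalleyDatum.monomialSubgroup at hg
  rw [← Subgroup.closure_eq (D.diagonalSubgroup F), ← Subgroup.closure_union] at hg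
  refine sub_closure_induction (D.group F) σ _ ?_ (D.monomialSubgroup F) ?_ g hg
  · rintro x (hx | ⟨r, hr, hx⟩)
    · exact C.c6.c2.diag_le_group hx
    · rw [C.c6.c2.nroots_eq] at hr
      have : x = C.nE r 1 := gl_ext (by rw [hx, C.nE_val r hr])
      rw [this]
      exact C.nE_mem_group _ _
  · rintro x (hx | ⟨r, hr, hx⟩)
    · exact (le_sup_left : D.diagonalSubgroup F ≤ D.monomialSubgroup F) (R.sig_diag ⟨x, _⟩ hx)
    · rw [C.c6.c2.nroots_eq] at hr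
      have hx' : x = C.nE r 1 := gl_ext (by rw [hx, C.nE_val r hr])
      subst hx'
      rw [R.sig_nE r hr, map_one, C.nE_one _ (R.rho_lt r hr)]
      exact C.c6.c2.nG_mem_monomial _ _

/-- `σ` maps `U_m⁻` into `U_{σ m}⁻` -/
theorem sig_Uw (m u : ↥(D.group F)) (hu : (u : GL D.Idx F) ∈ Uw D F (m : GL D.Idx F)) :
    ((σ u : ↥(D.group F)) : GL D.Idx F) ∈ Uw D F ((σ m : ↥(D.group F)) : GL D.Idx F) := by
  unfold Uw at hu
  refine sub_closure_induction (D.group F) σ _ ?_ (Uw D F ((σ m : ↥(D.group F)) : GL D.Idx F)) ?_ u hu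
  · rintro x ⟨r, t, hpos, hle, hx⟩
    have : x = C.c6.c2.xA r t := gl_ext (by rw [hx, C.c6.c2.xA_val])
    rw [this]
    exact C.c6.c2.xA_mem_group r t
  · rintro x ⟨r, t, hpos, hle, hx⟩
    obtain ⟨hr, hpr⟩ := (C.c6.isPos_iff r).mp hpos
    have hx' : x = C.c6.c2.xA r t := gl_ext (by rw [hx, C.c6.c2.xA_val])
    subst hx'
    rw [R.sig_xA' r hr t]
    apply Subgroup.subset_closure
    refine ⟨ρ r, _, (C.c6.isPos_iff _).mpr ⟨R.rho_lt r hr, R.rho_pos r hr hpr⟩, ?_, C.c6.c2.xA_val _ _⟩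
    rw [C.c6.map_conj_le_neg_iff] at hle ⊢
    intro t'
    obtain ⟨t₀, rfl⟩ := R.psi_surj r hr t'
    have hmem : ((m * ⟨C.c6.c2.xA r t₀, C.c6.c2.xA_mem_group _ _⟩ * m⁻¹ : ↥(D.group F)) : GL D.Idx F) ∈
        D.negUnipotent F := by
      rw [Subgroup.coe_mul, Subgroup.coe_mul, Subgroup.coe_inv]
      exact hle t₀
    have := R.sig_neg _ hmem
    rw [map_mul, map_mul, map_inv, Subgroup.coe_mul, Subgroup.coe_mul, Subgroup.coe_inv, R.sig_xA r hr] at this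
    exact this

/-- the permutation of the roots of a `σ`-fixed element of `N` commutes with `ρ` -/
theorem perm_comm (m : ↥(D.group F)) (hfix : σ m = m) (π : ℕ → ℕ)
    (hπ : C.c6.c2.Perm (m : GL D.Idx F) π) (s : ℕ) (hs : s < fd.n) : π (ρ s) = ρ (π s) := by
  obtain ⟨h1, _, c, hc⟩ := hπ s hs
  obtain ⟨h1', _, c', hc'⟩ := hπ _ (R.rho_lt s hs)
  have e0 : m * ⟨C.c6.c2.xA s 1, C.c6.c2.xA_mem_group _ _⟩ * m⁻¹ =
      ⟨C.c6.c2.xA (π s) (c * 1), C.c6.c2.xA_mem_group _ _⟩ := Subtype.ext (hc 1)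
  have e := congrArg (fun x => ((σ x : ↥(D.group F)) : GL D.Idx F)) e0
  simp only [map_mul, map_inv, hfix, Subgroup.coe_mul, Subgroup.coe_inv] at e
  rw [R.sig_xA s hs, R.sig_xA _ h1, hc', map_one, mul_one, mul_one] at e
  have hc0 : c ≠ 0 := by
    intro h0
    have := hc 1
    rw [h0, zero_mul, C.c6.c2.xA_zero] at this
    have h2 : C.c6.c2.xA s (1 : F) = 1 := by
      have e2 : ∀ a b : GL D.Idx F, b = a⁻¹ * (a * b * a⁻¹) * a := fun a b => by group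
      rw [e2 (m : GL D.Idx F) (C.c6.c2.xA s (1 : F)), this]; group
    exact one_ne_zero (C.c6.xA_eq_one s hs 1 h2)
  have hc0' : c' ≠ 0 := by
    intro h0
    rw [h0, C.c6.c2.xA_zero] at e
    have h3 := C.c6.xA_eq_one _ (R.rho_lt _ h1) _ e.symm
    exact hc0 ((map_eq_zero (ψ (π s))).mp h3)
  exact C.xA_inj _ _ h1' (R.rho_lt _ h1) _ _ hc0' e

/-- the factors of the canonical form of a fixed element are fixed -/
theorem fix_canon (g : ↥(D.group F)) (hfix : σ g = g) :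
    ∃ u : ↥(D.group F), (u : GL D.Idx F) ∈ D.posUnipotent F ∧ σ u = u ∧
    ∃ m : ↥(D.group F), (m : GL D.Idx F) ∈ D.monomialSubgroup F ∧ σ m = m ∧
    ∃ u' : ↥(D.group F), (u' : GL D.Idx F) ∈ Uw D F (m : GL D.Idx F) ∧ σ u' = u' ∧ g = u * m * u' := by
  have hUB : D.posUnipotent F ≤ D.borelSubgroup F := le_sup_left
  have hHN : D.diagonalSubgroup F ≤ D.monomialSubgroup F := le_sup_left
  obtain ⟨b, hb, n, hn, u', hu', e⟩ := C.c6.canonical_form.1 (g : GL D.Idx F) g.property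
  obtain ⟨u, hu, h, hh, rfl⟩ := C.c6.c2.borel_mem b hb
  have hn' : h * n ∈ D.monomialSubgroup F := mul_mem (hHN hh) hn
  have hu'n : u' ∈ Uw D F (h * n) := C.c6.Uw_le_diag_mul n h hh hu'
  have huG : u ∈ D.group F := C.c6.c2.pos_le_group hu
  have hnG : h * n ∈ D.group F := C.c6.c2.monomial_le_group hn'
  have hu'G : u' ∈ D.group F := C.c6.c2.pos_le_group (Uw_le_pos _ hu'n)
  have eg : g = ⟨u, huG⟩ * ⟨h * n, hnG⟩ * ⟨u', hu'G⟩ := by
    apply Subtype.ext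
    rw [e]
    simp only [Subgroup.coe_mul]
    group
  have hgfix := hfix
  rw [eg, map_mul, map_mul] at hgfix
  have hgfix' := congrArg (Subtype.val) hgfix
  simp only [Subgroup.coe_mul] at hgfix'
  have hσn' : ((σ ⟨h * n, hnG⟩ : ↥(D.group F)) : GL D.Idx F) = h * n :=
    C.c6.canon_sharp _ u _ (h * n) _ u' (R.sig_pos ⟨u, huG⟩ hu) hu
      (R.sig_monomial ⟨h * n, hnG⟩ hn') hn' (R.sig_Uw ⟨h * n, hnG⟩ ⟨u', hu'G⟩ hu'n) hu'n hgfix'
  have hσu'U : ((σ ⟨u', hu'G⟩ : ↥(D.group F)) : GL D.Idx F) ∈ Uw D F (h * n) := by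
    have := R.sig_Uw ⟨h * n, hnG⟩ ⟨u', hu'G⟩ hu'n
    rwa [hσn'] at this
  rw [hσn'] at hgfix'
  obtain ⟨k3, k4⟩ := (C.c6.canonical_form.2 _ u (h * n) (h * n) _ u' (hUB (R.sig_pos ⟨u, huG⟩ hu)) (hUB hu)
    hn' hn' hσu'U hu'n hgfix').2 rfl
  exact ⟨⟨u, huG⟩, hu, Subtype.ext k3, ⟨h * n, hnG⟩, hn', Subtype.ext hσn', ⟨u', hu'G⟩, hu'n, Subtype.ext k4, eg⟩

end RootTw

end Cfsg.Agent.Lib.H29.Chev
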