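import Mathlib
import Cfsg.Prelude.Def_ChevStructure
import Cfsg.Prelude.Def_LieTwisted
import Cfsg.Agent.Lib.H29.ChevRee1
import Cfsg.Agent.Lib.H29.ChevIsoSG2

/-!
# The endomorphism `σ` of `G₂(K)`, `|K| = 3^(2m+1)`, whose fixed points form the Ree group
-/

set_option autoImplicit false
set_option linter.unusedSectionVars false
set_option linter.unusedSimpArgs false
set_option linter.unusedVariables false

namespace Cfsg.Agent.Lib.H29.Chev

open Cfsg.Lie Matrix

/-- the characteristic of a finite field with `p ^ k` elements -/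
theorem charP_of_card_pow {K : Type*} [Field K] [Fintype K] (p k : ℕ) (hp : p.Prime)
    (hK : Fintype.card K = p ^ k) : CharP K p := by
  obtain ⟨p', hp'⟩ := CharP.exists K
  have := hp'
  obtain ⟨n, hpr, hn⟩ := FiniteField.card K p'
  have hk : k ≠ 0 := by
    rintro rfl
    rw [pow_zero] at hK
    have := Fintype.one_lt_card (α := K)
    omega
  have h1 : p' ∣ p ^ k := by
    rw [← hK, hn]
    exact dvd_pow_self p' n.ne_zero
  have h2 := (Nat.prime_dvd_prime_iff_eq hpr hp).mp (hpr.dvd_of_dvd_pow h1)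
  rw [← h2]
  exact hp'

variable {D : ChevalleyDatum} {fd : FD} {fx : FX} {fc : FC} {fz : FZ}

/-- base change along an endomorphism of the field, on the Chevalley group -/
noncomputable def bcG {K : Type*} [Field K] (C : Cert2 D fd fx) (θ : K →+* K) : ↥(D.group K) →* ↥(D.group K) :=
  ((bc D θ).comp (D.group K).subtype).codRestrict (D.group K) (fun g => C.bc_group_le θ ⟨g, g.2, rfl⟩)

theorem bcG_val {K : Type*} [Field K] (C : Cert2 D fd fx) (θ : K →+* K) (g : ↥(D.group K)) :
    ((bcG C θ g : ↥(D.group K)) : GL D.Idx K) = bc D θ (g : GL D.Idx K) := rfl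

section Ree0

variable {K : Type*} [Field K] [CharP K 3]

/-- the field automorphism `t ↦ t ^ (3 ^ m)` -/
noncomputable def reeTheta (K : Type*) [Field K] [CharP K 3] (m : ℕ) : K →+* K := iterateFrobenius K 3 m

theorem reeTheta_apply (m : ℕ) (t : K) : reeTheta K m t = t ^ 3 ^ m := iterateFrobenius_def 3 m t

/-- the endomorphisms `ψ_r` of the field -/
noncomputable def reePsi (K : Type*) [Field K] [CharP K 3] (m : ℕ) (r : ℕ) : K →+* K :=
  if lamG2 r = 3 then (frobenius K 3).comp (reeTheta K m) else reeTheta K m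

theorem lamG2_cases (r : ℕ) : lamG2 r = 1 ∨ lamG2 r = 3 := by
  by_cases hr : r < 12
  · interval_cases r <;> decide
  · left
    unfold lamG2
    rw [List.getD_eq_default _ _ (by simp [lamLG2]; omega)]

theorem reePsi_apply (m r : ℕ) (t : K) : reePsi K m r t = (t ^ 3 ^ m) ^ lamG2 r := by
  unfold reePsi
  rcases lamG2_cases r with h | h
  · rw [if_neg (by omega), h, pow_one, reeTheta_apply]
  · rw [if_pos h, h, RingHom.comp_apply, frobenius_def, reeTheta_apply]

end Ree0

section Ree

variable {K : Type*} [Field K] [Fintype K] [CharP K 3]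

theorem perfect3 (x : K) : ∃ y : K, y ^ 3 = x := by
  have hinj : Function.Injective (frobenius K 3) := (frobenius K 3).injective
  obtain ⟨y, hy⟩ := Finite.surjective_of_injective hinj x
  exact ⟨y, by rw [← hy, frobenius_def]⟩

/-- the special isogeny of `G₂(K)` -/
noncomputable def reeTau : ↥(chevG2.group K) ≃* ↥(chevG2.group K) := (exists_isogenyG2 (F := K) perfect3).choose

theorem reeTau_xA (r : ℕ) (hr : r < fdG2.n) (t : K) (h : cert12_G2.c6.c2.xA r t ∈ chevG2.group K) :
    ((reeTau ⟨cert12_G2.c6.c2.xA r t, h⟩ : ↥(chevG2.group K)) : GL chevG2.Idx K) =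
      cert12_G2.c6.c2.xA (rhoG2 r) (t ^ lamG2 r) :=
  (exists_isogenyG2 (F := K) perfect3).choose_spec.2 r hr t

/-- the endomorphism `σ` -/
noncomputable def reeSigma (m : ℕ) : ↥(chevG2.group K) →* ↥(chevG2.group K) :=
  (reeTau (K := K)).toMonoidHom.comp (bcG cert12_G2.c6.c2 (reeTheta K m))

theorem reeSigma_xA (m r : ℕ) (hr : r < fdG2.n) (t : K) :
    ((reeSigma m ⟨cert12_G2.c6.c2.xA r t, cert12_G2.c6.c2.xA_mem_group r t⟩ : ↥(chevG2.group K)) : GL chevG2.Idx K) =
      cert12_G2.c6.c2.xA (rhoG2 r) (reePsi K m r t) := by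
  have e : bcG cert12_G2.c6.c2 (reeTheta K m) ⟨cert12_G2.c6.c2.xA r t, cert12_G2.c6.c2.xA_mem_group r t⟩ =
      ⟨cert12_G2.c6.c2.xA r (reeTheta K m t), cert12_G2.c6.c2.xA_mem_group _ _⟩ := by
    apply Subtype.ext
    rw [bcG_val]
    exact cert12_G2.c6.c2.bc_xA _ r t
  unfold reeSigma
  rw [MonoidHom.comp_apply, e]
  show ((reeTau _ : ↥(chevG2.group K)) : GL chevG2.Idx K) = _
  rw [reeTau_xA r hr, reePsi_apply, reeTheta_apply]

theorem reeRootTw (m : ℕ) : RootTw cert12_G2 (reeSigma (K := K) m) rhoG2 (reePsi K m) where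
  rho_lt := isoSpecG2.rho_lt
  rho_neg := by
    intro r hr
    have hr' : r < 12 := hr
    interval_cases r <;> decide
  rho_pos := by
    intro r hr
    have hr' : r < 12 := hr
    interval_cases r <;> decide
  psi_neg := by
    intro r hr
    have hr' : r < 12 := hr
    have : lamG2 (fdG2.n - 1 - r) = lamG2 r := by interval_cases r <;> decide
    unfold reePsi
    rw [this]
  psi_surj := fun r _ => Finite.surjective_of_injective (reePsi K m r).injective
  sig_xA := fun r hr t => reeSigma_xA m r hr t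

end Ree

end Cfsg.Agent.Lib.H29.Chev
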