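import Mathlib
import Cfsg.Prelude.Def_ChevStructure
import Cfsg.Prelude.Def_LieTwisted
import Cfsg.Agent.Lib.H29.ChevRee2

/-!
# The Ree elements of `U` and `V` are fixed by `σ`
-/

set_option autoImplicit false
set_option linter.unusedSectionVars false
set_option linter.unusedSimpArgs false
set_option linter.unusedVariables false

namespace Cfsg.Agent.Lib.H29.Chev

open Cfsg.Lie Matrix

section Generic

variable {D : ChevalleyDatum} {fd : FD} {fx : FX} {fc : FC} {fz : FZ} {F : Type*} [Field F]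
  {C : Cert12 D fd fx fc fz} {σ : ↥(D.group F) →* ↥(D.group F)} {ρ : ℕ → ℕ} {ψ : ℕ → F →+* F}

theorem RootTw.sig_wordG (R : RootTw C σ ρ ψ) (w : List (ℕ × F)) (hw : ∀ p ∈ w, p.1 < fd.n) :
    ((σ ⟨C.c6.c2.wordG w, C.c6.c2.wordG_mem w⟩ : ↥(D.group F)) : GL D.Idx F) =
      C.c6.c2.wordG (w.map fun p => (ρ p.1, ψ p.1 p.2)) := by
  induction w with
  | nil =>
    have : (⟨C.c6.c2.wordG [], C.c6.c2.wordG_mem []⟩ : ↥(D.group F)) = 1 :=
      Subtype.ext (by simp [Cert2.wordG])
    rw [this, map_one]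
    simp [Cert2.wordG]
  | cons p w ih =>
    have e : (⟨C.c6.c2.wordG (p :: w), C.c6.c2.wordG_mem _⟩ : ↥(D.group F)) =
        ⟨C.c6.c2.xA p.1 p.2, C.c6.c2.xA_mem_group _ _⟩ * ⟨C.c6.c2.wordG w, C.c6.c2.wordG_mem w⟩ :=
      Subtype.ext (by simp [Cert2.wordG])
    rw [e, map_mul, Subgroup.coe_mul, R.sig_xA _ (hw p List.mem_cons_self),
      ih (fun q hq => hw q (List.mem_cons_of_mem _ hq))]
    simp [Cert2.wordG]

/-- rearranging a product of two products of four factors -/
theorem four_mul_four {M : Type*} [Monoid M] (a b c d a' b' c' d' : M) (h1 : Commute b a') (h2 : Commute c a')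
    (h3 : Commute d a') (h4 : Commute c b') (h5 : Commute d b') (h6 : Commute d c') :
    (a * b * c * d) * (a' * b' * c' * d') = (a * a') * (b * b') * (c * c') * (d * d') := by
  calc (a * b * c * d) * (a' * b' * c' * d')
      = a * (b * (c * (d * a'))) * (b' * c' * d') := by simp only [mul_assoc]
    _ = a * (b * (c * (a' * d))) * (b' * c' * d') := by rw [h3.eq]
    _ = a * (b * ((c * a') * d)) * (b' * c' * d') := by simp only [mul_assoc]
    _ = a * (b * ((a' * c) * d)) * (b' * c' * d') := by rw [h2.eq]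
    _ = a * ((b * a') * (c * d)) * (b' * c' * d') := by simp only [mul_assoc]
    _ = a * ((a' * b) * (c * d)) * (b' * c' * d') := by rw [h1.eq]
    _ = a * a' * b * (c * (d * b')) * (c' * d') := by simp only [mul_assoc]
    _ = a * a' * b * (c * (b' * d)) * (c' * d') := by rw [h5.eq]
    _ = a * a' * b * ((c * b') * d) * (c' * d') := by simp only [mul_assoc]
    _ = a * a' * b * ((b' * c) * d) * (c' * d') := by rw [h4.eq]
    _ = a * a' * (b * b') * c * ((d * c') * d') := by simp only [mul_assoc]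
    _ = a * a' * (b * b') * c * ((c' * d) * d') := by rw [h6.eq]
    _ = _ := by simp only [mul_assoc]

end Generic

section Ree

variable {K : Type*} [Field K]

/-- the root elements of `G₂(K)` -/
noncomputable abbrev gX (r : ℕ) (t : K) : GL chevG2.Idx K := cert12_G2.c6.c2.xA r t

theorem gX_comm_nil (r s : ℕ) (hr : r < 12) (hs : s < 12) (h1 : s ≠ r) (h2 : s ≠ 11 - r)
    (hnil : fdG2.commT r s = []) (t u : K) : Commute (gX r t) (gX s u) := by
  have := cert12_G2.c6.cfg (F := K) r s hr hs h1 h2 t u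
  rw [hnil] at this
  simp only [Cert2.ctG, List.map_nil, List.prod_nil, mul_one] at this
  exact this.symm

theorem int3_cast [CharP K 3] : ((3 : ℤ) : K) = 0 := by
  have := CharP.cast_eq_zero K 3
  push_cast at this ⊢
  exact this

theorem gX_comm_three [CharP K 3] (r s q : ℕ) (c : ℤ) (hr : r < 12) (hs : s < 12) (h1 : s ≠ r) (h2 : s ≠ 11 - r)
    (hc : c = 3 ∨ c = -3) (h3 : fdG2.commT r s = [(q, c, 1, 1)]) (t u : K) : Commute (gX r t) (gX s u) := by
  have := cert12_G2.c6.cfg (F := K) r s hr hs h1 h2 t u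
  rw [h3] at this
  have hc0 : ((c : ℤ) : K) = 0 := by
    rcases hc with rfl | rfl
    · exact int3_cast
    · rw [Int.cast_neg, int3_cast, neg_zero]
  simp only [Cert2.ctG, List.map_cons, List.map_nil, List.prod_cons, List.prod_nil, mul_one, hc0, zero_mul,
    cert12_G2.c6.c2.xA_zero] at this
  exact this.symm

section Z

variable [CharP K 3]

theorem c89 (t u : K) : Commute (gX 8 t) (gX 9 u) :=
  gX_comm_three 8 9 11 3 (by decide) (by decide) (by decide) (by decide) (Or.inl rfl) (by decide +kernel) t u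
theorem c8a (t u : K) : Commute (gX 8 t) (gX 10 u) :=
  gX_comm_nil 8 10 (by decide) (by decide) (by decide) (by decide) (by decide +kernel) t u
theorem c8b (t u : K) : Commute (gX 8 t) (gX 11 u) :=
  gX_comm_nil 8 11 (by decide) (by decide) (by decide) (by decide) (by decide +kernel) t u
theorem c9a (t u : K) : Commute (gX 9 t) (gX 10 u) :=
  gX_comm_nil 9 10 (by decide) (by decide) (by decide) (by decide) (by decide +kernel) t u
theorem c9b (t u : K) : Commute (gX 9 t) (gX 11 u) :=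
  gX_comm_nil 9 11 (by decide) (by decide) (by decide) (by decide) (by decide +kernel) t u
theorem cab (t u : K) : Commute (gX 10 t) (gX 11 u) :=
  gX_comm_nil 10 11 (by decide) (by decide) (by decide) (by decide) (by decide +kernel) t u

/-- the elements of the abelian subgroup `X₈ X₉ X₁₀ X₁₁` -/
noncomputable def gZ (a b c d : K) : GL chevG2.Idx K := gX 8 a * gX 9 b * gX 10 c * gX 11 d

theorem gZ_mul (a b c d a' b' c' d' : K) : gZ a b c d * gZ a' b' c' d' = gZ (a + a') (b + b') (c + c') (d + d') := by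
  unfold gZ
  rw [four_mul_four _ _ _ _ _ _ _ _ (c89 a' b).symm (c8a a' c).symm (c8b a' d).symm (c9a b' c).symm
    (c9b b' d).symm (cab c' d).symm]
  simp only [gX, cert12_G2.c6.c2.xA_mul]

theorem gZ_8 (a : K) : gX 8 a = gZ a 0 0 0 := by
  unfold gZ; simp only [gX, cert12_G2.c6.c2.xA_zero, mul_one]
theorem gZ_9 (a : K) : gX 9 a = gZ 0 a 0 0 := by
  unfold gZ; simp only [gX, cert12_G2.c6.c2.xA_zero, mul_one, one_mul]
theorem gZ_a (a : K) : gX 10 a = gZ 0 0 a 0 := by
  unfold gZ; simp only [gX, cert12_G2.c6.c2.xA_zero, mul_one, one_mul]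
theorem gZ_b (a : K) : gX 11 a = gZ 0 0 0 a := by
  unfold gZ; simp only [gX, cert12_G2.c6.c2.xA_zero, mul_one, one_mul]

/-- the commutator of `x_a` and `x_b` -/
theorem c76 (A B : K) : gX 6 B * gX 7 A = gX 7 A * gX 6 B * gZ (A * B) (A ^ 2 * B) (-(A ^ 3 * B)) (-(A ^ 3 * B ^ 2)) := by
  have := cert12_G2.c6.cfg (F := K) 7 6 (by decide) (by decide) (by decide) (by decide) A B
  have h : fdG2.commT 7 6 = [(8, -1, 1, 1), (9, 1, 2, 1), (10, 1, 3, 1), (11, 1, 3, 2)] := by decide +kernel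
  rw [h] at this
  rw [this]
  unfold gZ
  simp only [Cert2.ctG, List.map_cons, List.map_nil, List.prod_cons, List.prod_nil, mul_one, gX, mul_assoc]
  congr 3
  · congr 1; push_cast; ring
  congr 1
  · congr 1; push_cast; ring
  congr 1
  · congr 1; push_cast; ring
  · congr 1; push_cast; ring

/-- the Ree elements of `U` -/
noncomputable def uR (m : ℕ) (t u v : K) : GL chevG2.Idx K := cert12_G2.c6.c2.wordG (reeWordU (3 ^ m) t u v)

theorem uR_val (m : ℕ) (t u v : K) :
    ((uR m t u v : GL chevG2.Idx K) : Matrix chevG2.Idx chevG2.Idx K) = chevG2.wordMat K (reeWordU (3 ^ m) t u v) :=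
  cert12_G2.c6.c2.wordG_val _

theorem uR_mem_group (m : ℕ) (t u v : K) : uR m t u v ∈ chevG2.group K := cert12_G2.c6.c2.wordG_mem _

theorem uR_eq (m : ℕ) (t u v : K) :
    uR m t u v = gX 7 (reeTheta K m t) * gX 6 t *
      gZ (reeTheta K m t * t + reeTheta K m u) (reeTheta K m t ^ 2 * t + reeTheta K m v) u v := by
  unfold uR gZ Cert2.wordG reeWordU g2a g2b g2ab g2aab g2aaab g2aaabb
  simp only [List.map_cons, List.map_nil, List.prod_cons, List.prod_nil, mul_one, gX, mul_assoc, reeTheta_apply]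
  have e1 : t ^ (3 ^ m + 1) = t ^ 3 ^ m * t := pow_succ _ _
  have e2 : t ^ (2 * 3 ^ m + 1) = (t ^ 3 ^ m) ^ 2 * t := by rw [pow_succ, mul_comm 2, pow_mul]
  rw [e1, e2]

end Z

section Fin

variable [Fintype K] [CharP K 3]

theorem theta_theta_frob (m : ℕ) (hK : Fintype.card K = 3 ^ (2 * m + 1)) (x : K) :
    frobenius K 3 (reeTheta K m (reeTheta K m x)) = x := by
  rw [frobenius_def, reeTheta_apply, reeTheta_apply, ← pow_mul, ← pow_mul]
  have : 3 ^ m * (3 ^ m * 3) = Fintype.card K := by rw [hK]; ring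
  rw [this, FiniteField.pow_card]

theorem theta_frob_theta (m : ℕ) (hK : Fintype.card K = 3 ^ (2 * m + 1)) (x : K) :
    reeTheta K m (frobenius K 3 (reeTheta K m x)) = x := by
  rw [frobenius_def, reeTheta_apply, reeTheta_apply, ← pow_mul, ← pow_mul]
  have : 3 ^ m * (3 * 3 ^ m) = Fintype.card K := by rw [hK]; ring
  rw [this, FiniteField.pow_card]

theorem rhoG2_vals : rhoG2 0 = 2 ∧ rhoG2 1 = 3 ∧ rhoG2 2 = 0 ∧ rhoG2 3 = 1 ∧ rhoG2 4 = 5 ∧ rhoG2 5 = 4 ∧
    rhoG2 6 = 7 ∧ rhoG2 7 = 6 ∧ rhoG2 8 = 10 ∧ rhoG2 9 = 11 ∧ rhoG2 10 = 8 ∧ rhoG2 11 = 9 := by decide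

theorem reePsi_short (m r : ℕ) (h : lamG2 r = 3) (x : K) : reePsi K m r x = frobenius K 3 (reeTheta K m x) := by
  unfold reePsi; rw [if_pos h]; rfl

theorem reePsi_long (m r : ℕ) (h : lamG2 r = 1) (x : K) : reePsi K m r x = reeTheta K m x := by
  unfold reePsi; rw [if_neg (by omega)]

/-- the Ree elements of `U` are fixed by `σ` -/
theorem uR_fixed (m : ℕ) (hK : Fintype.card K = 3 ^ (2 * m + 1)) (t u v : K) :
    ((reeSigma m ⟨uR m t u v, uR_mem_group m t u v⟩ : ↥(chevG2.group K)) : GL chevG2.Idx K) = uR m t u v := by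
  have hw : ∀ p ∈ reeWordU (3 ^ m) t u v, p.1 < fdG2.n := by
    intro p hp
    simp only [reeWordU, List.mem_cons, List.not_mem_nil, or_false] at hp
    rcases hp with rfl | rfl | rfl | rfl | rfl | rfl <;> dsimp only <;> decide
  have h1 := (reeRootTw (K := K) m).sig_wordG (reeWordU (3 ^ m) t u v) hw
  have e0 : (⟨uR m t u v, uR_mem_group m t u v⟩ : ↥(chevG2.group K)) =
      ⟨cert12_G2.c6.c2.wordG (reeWordU (3 ^ m) t u v), cert12_G2.c6.c2.wordG_mem _⟩ := rfl
  rw [e0, h1, uR_eq]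
  obtain ⟨_, _, _, _, _, _, r6, r7, r8, r9, r10, r11⟩ := rhoG2_vals
  unfold Cert2.wordG reeWordU g2a g2b g2ab g2aab g2aaab g2aaabb
  simp only [List.map_cons, List.map_nil, List.prod_cons, List.prod_nil, mul_one, r6, r7, r8, r9, r10, r11]
  rw [reePsi_short m 7 (by decide), reePsi_long m 6 (by decide), reePsi_short m 8 (by decide),
    reePsi_short m 9 (by decide), reePsi_long m 10 (by decide), reePsi_long m 11 (by decide)]
  have e1 : t ^ (3 ^ m + 1) = reeTheta K m t * t := by rw [reeTheta_apply]; exact pow_succ _ _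
  have e2 : t ^ (2 * 3 ^ m + 1) = reeTheta K m t ^ 2 * t := by
    rw [reeTheta_apply, pow_succ, mul_comm 2, pow_mul]
  rw [e1, e2, ← reeTheta_apply, ← reeTheta_apply, ← reeTheta_apply, theta_theta_frob m hK]
  simp only [map_add, map_mul, map_pow, theta_theta_frob m hK]
  set A := reeTheta K m t with hA
  rw [frobenius_def]
  have hc := c76 A t
  change gX 6 t * (gX 7 A * (gX 10 (t * A ^ 3 + u) * (gX 11 (t ^ 2 * A ^ 3 + v) *
    (gX 8 (reeTheta K m u) * gX 9 (reeTheta K m v))))) = _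
  rw [← mul_assoc, hc, gZ_a, gZ_b, gZ_8, gZ_9]
  simp only [mul_assoc, gZ_mul]
  congr 3 <;> ring

end Fin

end Ree

end Cfsg.Agent.Lib.H29.Chev
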