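import Mathlib
import Cfsg.Prelude.Def_ChevStructure
import Cfsg.Prelude.Def_LieTwisted
import Cfsg.Agent.Lib.H29.ChevRee3

/-!
# The Ree elements of `V` are fixed by `σ`
-/

set_option autoImplicit false
set_option linter.unusedSectionVars false
set_option linter.unusedSimpArgs false
set_option linter.unusedVariables false

namespace Cfsg.Agent.Lib.H29.Chev

open Cfsg.Lie Matrix

section Ree

variable {K : Type*} [Field K]

section Z

variable [CharP K 3]

theorem c32 (t u : K) : Commute (gX 3 t) (gX 2 u) :=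
  gX_comm_three 3 2 0 (-3) (by decide) (by decide) (by decide) (by decide) (Or.inr rfl) (by decide +kernel) t u
theorem c31 (t u : K) : Commute (gX 3 t) (gX 1 u) :=
  gX_comm_nil 3 1 (by decide) (by decide) (by decide) (by decide) (by decide +kernel) t u
theorem c30 (t u : K) : Commute (gX 3 t) (gX 0 u) :=
  gX_comm_nil 3 0 (by decide) (by decide) (by decide) (by decide) (by decide +kernel) t u
theorem c21 (t u : K) : Commute (gX 2 t) (gX 1 u) :=
  gX_comm_nil 2 1 (by decide) (by decide) (by decide) (by decide) (by decide +kernel) t u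
theorem c20 (t u : K) : Commute (gX 2 t) (gX 0 u) :=
  gX_comm_nil 2 0 (by decide) (by decide) (by decide) (by decide) (by decide +kernel) t u
theorem c10 (t u : K) : Commute (gX 1 t) (gX 0 u) :=
  gX_comm_nil 1 0 (by decide) (by decide) (by decide) (by decide) (by decide +kernel) t u

/-- the elements of the abelian subgroup `X₃ X₂ X₁ X₀` -/
noncomputable def gZn (a b c d : K) : GL chevG2.Idx K := gX 3 a * gX 2 b * gX 1 c * gX 0 d

theorem gZn_mul (a b c d a' b' c' d' : K) :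
    gZn a b c d * gZn a' b' c' d' = gZn (a + a') (b + b') (c + c') (d + d') := by
  unfold gZn
  rw [four_mul_four _ _ _ _ _ _ _ _ (c32 a' b).symm (c31 a' c).symm (c30 a' d).symm (c21 b' c).symm
    (c20 b' d).symm (c10 c' d).symm]
  simp only [gX, cert12_G2.c6.c2.xA_mul]

theorem gZn_3 (a : K) : gX 3 a = gZn a 0 0 0 := by
  unfold gZn; simp only [gX, cert12_G2.c6.c2.xA_zero, mul_one]
theorem gZn_2 (a : K) : gX 2 a = gZn 0 a 0 0 := by
  unfold gZn; simp only [gX, cert12_G2.c6.c2.xA_zero, mul_one, one_mul]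
theorem gZn_1 (a : K) : gX 1 a = gZn 0 0 a 0 := by
  unfold gZn; simp only [gX, cert12_G2.c6.c2.xA_zero, mul_one, one_mul]
theorem gZn_0 (a : K) : gX 0 a = gZn 0 0 0 a := by
  unfold gZn; simp only [gX, cert12_G2.c6.c2.xA_zero, mul_one, one_mul]

/-- the commutator of `x_{-a}` and `x_{-b}` -/
theorem c45 (A B : K) : gX 5 B * gX 4 A = gX 4 A * gX 5 B * gZn (-(A * B)) (A ^ 2 * B) (A ^ 3 * B) (-(A ^ 3 * B ^ 2)) := by
  have := cert12_G2.c6.cfg (F := K) 4 5 (by decide) (by decide) (by decide) (by decide) A B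
  have h : fdG2.commT 4 5 = [(3, 1, 1, 1), (2, 1, 2, 1), (1, -1, 3, 1), (0, 1, 3, 2)] := by decide +kernel
  rw [h] at this
  rw [this]
  unfold gZn
  simp only [Cert2.ctG, List.map_cons, List.map_nil, List.prod_cons, List.prod_nil, mul_one, gX, mul_assoc]
  congr 3
  · congr 1; push_cast; ring
  congr 1
  · congr 1; push_cast; ring
  congr 1
  · congr 1; push_cast; ring
  · congr 1; push_cast; ring

/-- the Ree elements of `V` -/
noncomputable def vR (m : ℕ) (t u v : K) : GL chevG2.Idx K := cert12_G2.c6.c2.wordG (reeWordV (3 ^ m) t u v)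

theorem vR_val (m : ℕ) (t u v : K) :
    ((vR m t u v : GL chevG2.Idx K) : Matrix chevG2.Idx chevG2.Idx K) = chevG2.wordMat K (reeWordV (3 ^ m) t u v) :=
  cert12_G2.c6.c2.wordG_val _

theorem vR_mem_group (m : ℕ) (t u v : K) : vR m t u v ∈ chevG2.group K := cert12_G2.c6.c2.wordG_mem _

theorem negIdx_vals : chevG2.negIdx.getD 7 0 = 4 ∧ chevG2.negIdx.getD 6 0 = 5 ∧ chevG2.negIdx.getD 8 0 = 3 ∧
    chevG2.negIdx.getD 9 0 = 2 ∧ chevG2.negIdx.getD 10 0 = 1 ∧ chevG2.negIdx.getD 11 0 = 0 := by decide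

theorem reeWordV_eq (m : ℕ) (t u v : K) : reeWordV (3 ^ m) t u v =
    [(4, -(t ^ 3 ^ m)), (5, -t), (3, -(t ^ (3 ^ m + 1) + u ^ 3 ^ m)), (2, -(t ^ (2 * 3 ^ m + 1) + v ^ 3 ^ m)),
      (1, -u), (0, -v)] := by
  obtain ⟨h1, h2, h3, h4, h5, h6⟩ := negIdx_vals
  unfold reeWordV ChevalleyDatum.negWord reeWordU g2a g2b g2ab g2aab g2aaab g2aaabb
  simp only [List.map_cons, List.map_nil, h1, h2, h3, h4, h5, h6]

theorem vR_eq (m : ℕ) (t u v : K) :
    vR m t u v = gX 4 (-reeTheta K m t) * gX 5 (-t) *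
      gZn (-(reeTheta K m t * t + reeTheta K m u)) (-(reeTheta K m t ^ 2 * t + reeTheta K m v)) (-u) (-v) := by
  unfold vR
  rw [reeWordV_eq]
  unfold gZn Cert2.wordG
  simp only [List.map_cons, List.map_nil, List.prod_cons, List.prod_nil, mul_one, gX, mul_assoc, reeTheta_apply]
  have e1 : t ^ (3 ^ m + 1) = t ^ 3 ^ m * t := pow_succ _ _
  have e2 : t ^ (2 * 3 ^ m + 1) = (t ^ 3 ^ m) ^ 2 * t := by rw [pow_succ, mul_comm 2, pow_mul]
  rw [e1, e2]

end Z

section Fin

variable [Fintype K] [CharP K 3]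

/-- the Ree elements of `V` are fixed by `σ` -/
theorem vR_fixed (m : ℕ) (hK : Fintype.card K = 3 ^ (2 * m + 1)) (t u v : K) :
    ((reeSigma m ⟨vR m t u v, vR_mem_group m t u v⟩ : ↥(chevG2.group K)) : GL chevG2.Idx K) = vR m t u v := by
  have hw : ∀ p ∈ reeWordV (3 ^ m) t u v, p.1 < fdG2.n := by
    intro p hp
    rw [reeWordV_eq] at hp
    simp only [List.mem_cons, List.not_mem_nil, or_false] at hp
    rcases hp with rfl | rfl | rfl | rfl | rfl | rfl <;> dsimp only <;> decide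
  have h1 := (reeRootTw (K := K) m).sig_wordG (reeWordV (3 ^ m) t u v) hw
  have e0 : (⟨vR m t u v, vR_mem_group m t u v⟩ : ↥(chevG2.group K)) =
      ⟨cert12_G2.c6.c2.wordG (reeWordV (3 ^ m) t u v), cert12_G2.c6.c2.wordG_mem _⟩ := rfl
  rw [e0, h1, vR_eq, reeWordV_eq]
  obtain ⟨r0, r1, r2, r3, r4, r5, _, _, _, _, _, _⟩ := rhoG2_vals
  unfold Cert2.wordG
  simp only [List.map_cons, List.map_nil, List.prod_cons, List.prod_nil, mul_one, r0, r1, r2, r3, r4, r5]
  rw [reePsi_short m 4 (by decide), reePsi_long m 5 (by decide), reePsi_short m 3 (by decide),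
    reePsi_short m 2 (by decide), reePsi_long m 1 (by decide), reePsi_long m 0 (by decide)]
  have e1 : t ^ (3 ^ m + 1) = reeTheta K m t * t := by rw [reeTheta_apply]; exact pow_succ _ _
  have e2 : t ^ (2 * 3 ^ m + 1) = reeTheta K m t ^ 2 * t := by
    rw [reeTheta_apply, pow_succ, mul_comm 2, pow_mul]
  rw [e1, e2, ← reeTheta_apply, ← reeTheta_apply, ← reeTheta_apply]
  simp only [map_neg, map_add, map_mul, map_pow, theta_theta_frob m hK]
  set A := reeTheta K m t with hA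
  rw [frobenius_def]
  have hc := c45 (-A) (-t)
  change gX 5 (-t) * (gX 4 (-A) * (gX 1 (-(t * A ^ 3 + u)) * (gX 0 (-(t ^ 2 * A ^ 3 + v)) *
    (gX 3 (-reeTheta K m u) * gX 2 (-reeTheta K m v))))) = _
  rw [← mul_assoc, hc, gZn_1, gZn_0, gZn_3, gZn_2]
  simp only [mul_assoc, gZn_mul]
  congr 3 <;> ring

end Fin

end Ree

end Cfsg.Agent.Lib.H29.Chev
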