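import Mathlib
import Cfsg.Prelude.Def_ChevStructure
import Cfsg.Prelude.Def_LieTwisted
import Cfsg.Agent.Lib.H29.ChevRee4

/-!
# The fixed points of `σ` in `U` are the Ree elements
-/

set_option autoImplicit false
set_option linter.unusedSectionVars false
set_option linter.unusedSimpArgs false
set_option linter.unusedVariables false

namespace Cfsg.Agent.Lib.H29.Chev

open Cfsg.Lie Matrix

/-- the fixed points of an endomorphism of a subgroup, as a subgroup of the ambient group -/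
def fixGL {G : Type*} [Group G] {H : Subgroup G} (σ : ↥H →* ↥H) : Subgroup G := (fixS σ).map H.subtype

theorem mem_fixGL {G : Type*} [Group G] {H : Subgroup G} (σ : ↥H →* ↥H) (g : G) :
    g ∈ fixGL σ ↔ ∃ hg : g ∈ H, ((σ ⟨g, hg⟩ : ↥H) : G) = g := by
  unfold fixGL
  constructor
  · rintro ⟨x, hx, rfl⟩
    refine ⟨x.2, ?_⟩
    have : σ x = x := hx
    exact congrArg Subtype.val this
  · rintro ⟨hg, h⟩
    exact ⟨⟨g, hg⟩, Subtype.ext h, rfl⟩

theorem fixGL_le {G : Type*} [Group G] {H : Subgroup G} (σ : ↥H →* ↥H) : fixGL σ ≤ H := by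
  intro g hg
  exact ((mem_fixGL σ g).mp hg).1

section Ree

variable {K : Type*} [Field K]

section Z

variable [CharP K 3]

/-- the canonical products in `U` -/
noncomputable def opr6 (a b c d e f : K) : GL chevG2.Idx K := gX 6 a * gX 7 b * gZ c d e f

theorem opr6_eq_oprod (a b c d e f : K) :
    opr6 a b c d e f = cert12_G2.oprod (fun r => [a, b, c, d, e, f].getD (r - 6) 0) 6 6 := by
  rw [cert12_G2.oprod_succ, cert12_G2.oprod_succ, cert12_G2.oprod_succ, cert12_G2.oprod_succ,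
    cert12_G2.oprod_succ, cert12_G2.oprod_succ, cert12_G2.oprod_zero]
  unfold opr6 gZ
  simp only [gX, mul_assoc, mul_one]
  rfl

theorem opr6_inj (a b c d e f a' b' c' d' e' f' : K) (h : opr6 a b c d e f = opr6 a' b' c' d' e' f') :
    a = a' ∧ b = b' ∧ c = c' ∧ d = d' ∧ e = e' ∧ f = f' := by
  rw [opr6_eq_oprod, opr6_eq_oprod] at h
  have key := cert12_G2.oprod_unique 6 6 (by decide) (by decide) _ _ h
  exact ⟨key 6 (by decide) (by decide), key 7 (by decide) (by decide), key 8 (by decide) (by decide),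
    key 9 (by decide) (by decide), key 10 (by decide) (by decide), key 11 (by decide) (by decide)⟩

theorem mem_pos_opr6 (g : GL chevG2.Idx K) (hg : g ∈ chevG2.posUnipotent K) :
    ∃ a b c d e f : K, g = opr6 a b c d e f := by
  rw [cert12_G2.posUnipotent_eq] at hg
  obtain ⟨τ, _, rfl⟩ := cert12_G2.Vm_oprod _ cert12_G2.closed_true 6 6 (by decide) (by decide) g hg
  refine ⟨τ 6, τ 7, τ 8, τ 9, τ 10, τ 11, ?_⟩
  rw [opr6_eq_oprod]
  apply cert12_G2.oprod_congr
  intro r h1 h2
  have h2' : r < 12 := h2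
  interval_cases r <;> rfl

theorem opr6_mem_pos (a b c d e f : K) : opr6 a b c d e f ∈ chevG2.posUnipotent K := by
  unfold opr6 gZ
  have h : ∀ r, 6 ≤ r → r < 12 → ∀ t : K, gX r t ∈ chevG2.posUnipotent K :=
    fun r h1 h2 t => cert12_G2.xA_pos_mem r h2 h1 t
  exact mul_mem (mul_mem (h 6 (by decide) (by decide) _) (h 7 (by decide) (by decide) _))
    (mul_mem (mul_mem (mul_mem (h 8 (by decide) (by decide) _) (h 9 (by decide) (by decide) _))
      (h 10 (by decide) (by decide) _)) (h 11 (by decide) (by decide) _))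

theorem gZ_zero : gZ (0 : K) 0 0 0 = 1 := by
  unfold gZ; simp only [gX, cert12_G2.c6.c2.xA_zero, mul_one]

theorem gZ_inv (a b c d : K) : (gZ a b c d)⁻¹ = gZ (-a) (-b) (-c) (-d) := by
  rw [inv_eq_iff_mul_eq_one, gZ_mul]
  simp only [add_neg_cancel, gZ_zero]

/-- the reverse form of the commutator of `x_a` and `x_b` -/
theorem c67 (A B : K) : gX 7 A * gX 6 B = gX 6 B * gX 7 A * gZ (-(A * B)) (-(A ^ 2 * B)) (A ^ 3 * B) (A ^ 3 * B ^ 2) := by
  rw [c76, mul_assoc, gZ_mul]
  simp only [add_neg_cancel, neg_add_cancel, gZ_zero, mul_one]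

/-- the Ree elements in canonical form -/
theorem uR_opr6 (m : ℕ) (t u v : K) :
    uR m t u v = opr6 t (reeTheta K m t) (reeTheta K m u) (reeTheta K m v)
      (reeTheta K m t ^ 3 * t + u) (reeTheta K m t ^ 3 * t ^ 2 + v) := by
  rw [uR_eq, c67, mul_assoc, gZ_mul]
  unfold opr6
  congr 2 <;> ring

theorem uR_mem_pos (m : ℕ) (t u v : K) : uR m t u v ∈ chevG2.posUnipotent K := by
  rw [uR_opr6]; exact opr6_mem_pos _ _ _ _ _ _

theorem uR_inj (m : ℕ) (t u v t' u' v' : K) (h : uR m t u v = uR m t' u' v') : t = t' ∧ u = u' ∧ v = v' := by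
  rw [uR_opr6, uR_opr6] at h
  obtain ⟨h1, _, _, _, h5, h6⟩ := opr6_inj _ _ _ _ _ _ _ _ _ _ _ _ h
  subst h1
  exact ⟨rfl, add_left_cancel h5, add_left_cancel h6⟩

end Z

section Fin

variable [Fintype K] [CharP K 3]

theorem opr6_mem_group (a b c d e f : K) : opr6 a b c d e f ∈ chevG2.group K :=
  cert12_G2.c6.c2.pos_le_group (opr6_mem_pos a b c d e f)

/-- the action of `σ` on the canonical products -/
theorem sig_opr6 (m : ℕ) (a b c d e f : K) :
    ((reeSigma m ⟨opr6 a b c d e f, opr6_mem_group a b c d e f⟩ : ↥(chevG2.group K)) : GL chevG2.Idx K) =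
      opr6 (frobenius K 3 (reeTheta K m b)) (reeTheta K m a)
        (reeTheta K m e - reeTheta K m a * frobenius K 3 (reeTheta K m b))
        (reeTheta K m f - reeTheta K m a ^ 2 * frobenius K 3 (reeTheta K m b))
        (frobenius K 3 (reeTheta K m c) + reeTheta K m a ^ 3 * frobenius K 3 (reeTheta K m b))
        (frobenius K 3 (reeTheta K m d) + reeTheta K m a ^ 3 * frobenius K 3 (reeTheta K m b) ^ 2) := by
  have ew : opr6 a b c d e f = cert12_G2.c6.c2.wordG [(6, a), (7, b), (8, c), (9, d), (10, e), (11, f)] := by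
    unfold opr6 gZ Cert2.wordG
    simp only [List.map_cons, List.map_nil, List.prod_cons, List.prod_nil, mul_one, gX, mul_assoc]
  have hw : ∀ p ∈ [((6 : ℕ), a), (7, b), (8, c), (9, d), (10, e), (11, f)], p.1 < fdG2.n := by
    intro p hp
    simp only [List.mem_cons, List.not_mem_nil, or_false] at hp
    rcases hp with rfl | rfl | rfl | rfl | rfl | rfl <;> dsimp only <;> decide
  have h1 := (reeRootTw (K := K) m).sig_wordG _ hw
  have e0 : (⟨opr6 a b c d e f, opr6_mem_group a b c d e f⟩ : ↥(chevG2.group K)) =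
      ⟨cert12_G2.c6.c2.wordG [(6, a), (7, b), (8, c), (9, d), (10, e), (11, f)], cert12_G2.c6.c2.wordG_mem _⟩ :=
    Subtype.ext ew
  rw [e0, h1]
  obtain ⟨_, _, _, _, _, _, r6, r7, r8, r9, r10, r11⟩ := rhoG2_vals
  unfold Cert2.wordG
  simp only [List.map_cons, List.map_nil, List.prod_cons, List.prod_nil, mul_one, r6, r7, r8, r9, r10, r11]
  rw [reePsi_short m 7 (by decide), reePsi_long m 6 (by decide), reePsi_short m 8 (by decide),
    reePsi_short m 9 (by decide), reePsi_long m 10 (by decide), reePsi_long m 11 (by decide)]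
  set A := reeTheta K m a
  set B := frobenius K 3 (reeTheta K m b)
  change gX 7 A * (gX 6 B * (gX 10 _ * (gX 11 _ * (gX 8 _ * gX 9 _)))) = _
  rw [← mul_assoc, c67, gZ_a, gZ_b, gZ_8, gZ_9]
  unfold opr6
  simp only [mul_assoc, gZ_mul]
  congr 3 <;> ring

/-- the fixed points of `σ` in `U` are the Ree elements -/
theorem fix_pos_eq_uR (m : ℕ) (hK : Fintype.card K = 3 ^ (2 * m + 1)) (g : GL chevG2.Idx K)
    (hg : g ∈ chevG2.posUnipotent K) (hfix : g ∈ fixGL (reeSigma (K := K) m)) : ∃ t u v : K, g = uR m t u v := by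
  obtain ⟨a, b, c, d, e, f, rfl⟩ := mem_pos_opr6 g hg
  obtain ⟨_, h⟩ := (mem_fixGL _ _).mp hfix
  rw [sig_opr6] at h
  obtain ⟨h1, h2, h3, h4, h5, h6⟩ := opr6_inj _ _ _ _ _ _ _ _ _ _ _ _ h
  refine ⟨a, e - reeTheta K m a ^ 3 * a, f - reeTheta K m a ^ 3 * a ^ 2, ?_⟩
  rw [uR_opr6]
  have hθθ : reeTheta K m (reeTheta K m a) ^ 3 = a := by
    have := theta_theta_frob m hK a
    rwa [frobenius_def] at this
  congr 1
  · exact h2.symm
  · rw [← h3, h1, map_sub, map_mul, map_pow, hθθ]; ring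
  · rw [← h4, h1, map_sub, map_mul, map_pow, map_pow, hθθ]; ring
  · ring
  · ring

end Fin

end Ree

end Cfsg.Agent.Lib.H29.Chev
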