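import Mathlib
import Cfsg.Prelude.Def_ChevStructure
import Cfsg.Agent.Lib.H29.ChevGen23

/-!
# The Chevalley group is generated by the root elements of the fundamental roots and of their negatives
-/

set_option autoImplicit false
set_option linter.unusedSectionVars false
set_option linter.unusedSimpArgs false
set_option linter.unusedVariables false

namespace Cfsg.Agent.Lib.H29.Chev

open Cfsg.Lie Matrix

variable {D : ChevalleyDatum} {fd : FD} {fx : FX} {fc : FC} {F : Type*} [Field F]

/-- the root elements of the fundamental roots and of their negatives -/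
def SimGen (D : ChevalleyDatum) (fd : FD) (F : Type*) [Field F] : Set (GL D.Idx F) :=
  {g | ∃ i < fd.l, ∃ t : F, (g : Matrix D.Idx D.Idx F) = D.x F (fd.simples.getD i 0) t ∨
    (g : Matrix D.Idx D.Idx F) = D.x F (fd.n - 1 - fd.simples.getD i 0) t}

namespace Cert6

variable (C : Cert6 D fd fx fc)
include C

theorem xA_simple_mem_SimGen (i : ℕ) (hi : i < fd.l) (t : F) :
    C.c2.xA (fd.simples.getD i 0) t ∈ Subgroup.closure (SimGen D fd F) :=
  Subgroup.subset_closure ⟨i, hi, t, Or.inl (C.c2.xA_val _ _)⟩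

theorem xA_negsimple_mem_SimGen (i : ℕ) (hi : i < fd.l) (t : F) :
    C.c2.xA (fd.n - 1 - fd.simples.getD i 0) t ∈ Subgroup.closure (SimGen D fd F) :=
  Subgroup.subset_closure ⟨i, hi, t, Or.inr (C.c2.xA_val _ _)⟩

theorem nG_simple_mem_SimGen (i : ℕ) (hi : i < fd.l) :
    C.c2.nG (F := F) (fd.simples.getD i 0) (C.c2.simple_lt i hi) ∈ Subgroup.closure (SimGen D fd F) := by
  rw [C.nG_eq]
  exact mul_mem (mul_mem (C.xA_simple_mem_SimGen i hi 1) (C.xA_negsimple_mem_SimGen i hi (-1)))
    (C.xA_simple_mem_SimGen i hi 1)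

/-- if all `x_{w_p r}(t)` lie in the subgroup then so do all `x_r(t)` -/
theorem xA_mem_of_nw (j r : ℕ) (hj : j < fd.l) (hr : r < fd.n)
    (h : ∀ t : F, C.c2.xA (fd.nw fx (fd.simples.getD j 0) r) t ∈ Subgroup.closure (SimGen D fd F)) (t : F) :
    C.c2.xA r t ∈ Subgroup.closure (SimGen D fd F) := by
  have hp := C.c2.simple_lt j hj
  have hs := C.nG_simple_mem_SimGen (F := F) j hj
  have c1 := C.c2.nG_conj_x (F := F) _ r hp hr (fd.conj_spec C.c5.c3.conj j r hj hr) t
  have key : C.c2.xA r t = (C.c2.nG (F := F) (fd.simples.getD j 0) hp)⁻¹ *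
      (C.c2.nG (fd.simples.getD j 0) hp * C.c2.xA r t * (C.c2.nG (fd.simples.getD j 0) hp)⁻¹) *
      C.c2.nG (fd.simples.getD j 0) hp := by group
  rw [key, c1]
  exact mul_mem (mul_mem (inv_mem hs) (h _)) hs

/-- all the root elements lie in the subgroup generated by the fundamental ones and their negatives -/
theorem xA_mem_closure_SimGen (m : ℕ) :
    ∀ r, ∀ hr : r < fd.n, fd.n / 2 ≤ r → (fd.coH r).toNat = m →
      (∀ t : F, C.c2.xA r t ∈ Subgroup.closure (SimGen D fd F)) ∧
      (∀ t : F, C.c2.xA (fd.n - 1 - r) t ∈ Subgroup.closure (SimGen D fd F)) := by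
  induction m using Nat.strong_induction_on with
  | _ m ih =>
    intro r hr hpos hm
    have hr' : fd.n - 1 - r < fd.n := by omega
    obtain ⟨_, hdesc⟩ := fd.desc_spec C.desc r hr
    rcases hdesc hpos with ⟨j, hj, hjr⟩ | ⟨j, hj, hc, hpr, hpos'⟩
    · subst hjr
      exact ⟨fun t => C.xA_simple_mem_SimGen j hj t, fun t => C.xA_negsimple_mem_SimGen j hj t⟩
    · have hp := C.c2.simple_lt j hj
      have hw := (fd.nw_spec C.c2.chk.nn _ r hp hr).1
      have hH := C.coH_nw j r hj hr
      have hH0 := C.coH_nonneg _ hw hpos'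
      have hlt : (fd.coH (fd.nw fx (fd.simples.getD j 0) r)).toNat < m := by
        rw [← hm]
        apply (Int.toNat_lt_toNat (by linarith)).mpr
        linarith
      obtain ⟨i1, i2⟩ := ih _ hlt _ hw hpos' rfl
      refine ⟨C.xA_mem_of_nw j r hj hr i1, ?_⟩
      apply C.xA_mem_of_nw j _ hj hr'
      rw [(fd.up_spec C.up j hj r hr).1]
      exact i2

theorem xA_mem_closure_SimGen' (r : ℕ) (t : F) : C.c2.xA r t ∈ Subgroup.closure (SimGen D fd F) := by
  have hev := C.c2.heven
  by_cases hr : r < fd.n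
  · by_cases hpos : fd.n / 2 ≤ r
    · exact (C.xA_mem_closure_SimGen _ r hr hpos rfl).1 t
    · have hr' : fd.n - 1 - r < fd.n := by omega
      have := (C.xA_mem_closure_SimGen (F := F) _ (fd.n - 1 - r) hr' (by omega) rfl).2 t
      have e : fd.n - 1 - (fd.n - 1 - r) = r := by omega
      rwa [e] at this
  · unfold Cert2.xA
    rw [dif_neg hr]
    exact one_mem _

/-- the Chevalley group is generated by the root elements of the fundamental roots and of their negatives -/
theorem group_eq_closure_SimGen : D.group F = Subgroup.closure (SimGen D fd F) := by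
  apply le_antisymm
  · unfold ChevalleyDatum.group
    rw [Subgroup.closure_le]
    rintro g ⟨r, t, hg⟩
    have e : g = C.c2.xA r.val t := by
      apply gl_ext
      rw [hg, C.c2.xA_val]
      unfold ChevalleyDatum.x
      rw [dif_pos r.isLt]
    rw [SetLike.mem_coe, e]
    exact C.xA_mem_closure_SimGen' _ _
  · rw [Subgroup.closure_le]
    rintro g ⟨i, hi, t, hg | hg⟩
    · have e : g = C.c2.xA (fd.simples.getD i 0) t := gl_ext (by rw [hg, C.c2.xA_val])
      rw [SetLike.mem_coe, e]; exact C.c2.xA_mem_group _ _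
    · have e : g = C.c2.xA (fd.n - 1 - fd.simples.getD i 0) t := gl_ext (by rw [hg, C.c2.xA_val])
      rw [SetLike.mem_coe, e]; exact C.c2.xA_mem_group _ _

end Cert6

end Cfsg.Agent.Lib.H29.Chev
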