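import Mathlib
import Cfsg.Prelude.Def_ChevStructure
import Cfsg.Agent.Lib.H29.ChevRee1
import Cfsg.Agent.Lib.H29.ChevSimpleGen

/-!
# Diagonal entries of the elements of `H`; the action of `σ` on `H`
-/

set_option autoImplicit false
set_option linter.unusedSectionVars false
set_option linter.unusedSimpArgs false
set_option linter.unusedVariables false

namespace Cfsg.Agent.Lib.H29.Chev

open Cfsg.Lie Matrix

variable {D : ChevalleyDatum} {fd : FD} {fx : FX} {fc : FC} {fz : FZ} {F : Type*} [Field F]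

/-- the diagonal entry of a matrix at the root `r` -/
def dE (D : ChevalleyDatum) (g : GL D.Idx F) (r : ℕ) : F :=
  if h : r < D.nroots then (g : Matrix D.Idx D.Idx F) (Sum.inr ⟨r, h⟩) (Sum.inr ⟨r, h⟩) else 1

namespace Cert12

variable (C : Cert12 D fd fx fc fz)
include C

theorem diag_conj_xA (h : GL D.Idx F) (hh : h ∈ D.diagonalSubgroup F) (r : ℕ) (hr : r < fd.n) (t : F) :
    h * C.c6.c2.xA r t * h⁻¹ = C.c6.c2.xA r (dE D h r * t) := by
  have hr' : r < D.nroots := by rw [C.c6.c2.nroots_eq]; exact hr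
  have := (C.c6.c2.diag_conj_x h hh).2 ⟨r, hr'⟩ t
  unfold dE
  rw [dif_pos hr']
  exact this

theorem xA_param_inj' (r : ℕ) (hr : r < fd.n) (a b : F) (h : C.c6.c2.xA r a = C.c6.c2.xA r b) : a = b := by
  have h1 : C.c6.c2.xA r (a - b) = 1 := by
    rw [sub_eq_add_neg, ← C.c6.c2.xA_mul, ← C.c6.c2.xA_inv, h, mul_inv_cancel]
  exact sub_eq_zero.mp (C.c6.xA_eq_one r hr _ h1)

theorem dE_mul (h h' : GL D.Idx F) (hh : h ∈ D.diagonalSubgroup F) (hh' : h' ∈ D.diagonalSubgroup F) (r : ℕ)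
    (hr : r < fd.n) : dE D (h * h') r = dE D h r * dE D h' r := by
  apply C.xA_param_inj' r hr
  have e1 := C.diag_conj_xA (h * h') (mul_mem hh hh') r hr 1
  have e2 := C.diag_conj_xA h' hh' r hr 1
  have e3 := C.diag_conj_xA h hh r hr (dE D h' r * 1)
  have : h * h' * C.c6.c2.xA r 1 * (h * h')⁻¹ = h * (h' * C.c6.c2.xA r 1 * h'⁻¹) * h⁻¹ := by group
  rw [this, e2, e3] at e1
  simp only [mul_one] at e1
  exact e1.symm

theorem dE_one (r : ℕ) : dE D (1 : GL D.Idx F) r = 1 := by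
  unfold dE
  split_ifs <;> simp

theorem dE_ne_zero (h : GL D.Idx F) (hh : h ∈ D.diagonalSubgroup F) (r : ℕ) (hr : r < fd.n) : dE D h r ≠ 0 := by
  intro h0
  have e1 := C.dE_mul h h⁻¹ hh (inv_mem hh) r hr
  rw [mul_inv_cancel, C.dE_one, h0, zero_mul] at e1
  exact one_ne_zero e1

theorem dE_inv (h : GL D.Idx F) (hh : h ∈ D.diagonalSubgroup F) (r : ℕ) (hr : r < fd.n) :
    dE D h⁻¹ r = (dE D h r)⁻¹ := by
  have e1 := C.dE_mul h h⁻¹ hh (inv_mem hh) r hr
  rw [mul_inv_cancel, C.dE_one] at e1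
  exact eq_inv_of_mul_eq_one_right e1.symm

theorem dE_neg (h : GL D.Idx F) (hh : h ∈ D.diagonalSubgroup F) (r : ℕ) (hr : r < fd.n) :
    dE D h (fd.n - 1 - r) = (dE D h r)⁻¹ := by
  have hn := C.c6.c2.nroots_eq
  rw [C.diag_eq_range] at hh
  obtain ⟨x, rfl⟩ := hh
  have hr' : r < D.nroots := by omega
  have hr'' : fd.n - 1 - r < D.nroots := by omega
  unfold dE
  rw [dif_pos hr', dif_pos hr'', chiHom_val, Matrix.diagonal_apply_eq, Matrix.diagonal_apply_eq,
    C.entry_neg x ⟨r, hr'⟩ hr'']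
  simp

/-- an element of `H` is determined by its entries at the fundamental roots -/
theorem diag_ext (h h' : GL D.Idx F) (hh : h ∈ D.diagonalSubgroup F) (hh' : h' ∈ D.diagonalSubgroup F)
    (he : ∀ i < fd.l, dE D h (fd.simples.getD i 0) = dE D h' (fd.simples.getD i 0)) : h = h' := by
  have hk : h⁻¹ * h' ∈ D.diagonalSubgroup F := mul_mem (inv_mem hh) hh'
  have h1 : ∀ i < fd.l, dE D (h⁻¹ * h') (fd.simples.getD i 0) = 1 := by
    intro i hi
    have hs := C.c6.c2.simple_lt i hi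
    rw [C.dE_mul _ _ (inv_mem hh) hh' _ hs, C.dE_inv h hh _ hs, he i hi,
      inv_mul_cancel₀ (C.dE_ne_zero h' hh' _ hs)]
  have hcomm : ∀ g ∈ D.group F, g * (h⁻¹ * h') = (h⁻¹ * h') * g := by
    intro g hg
    rw [C.c6.group_eq_closure_SimGen] at hg
    induction hg using Subgroup.closure_induction with
    | mem x hx =>
      obtain ⟨i, hi, t, hx | hx⟩ := hx
      · have hs := C.c6.c2.simple_lt i hi
        have ex : x = C.c6.c2.xA (fd.simples.getD i 0) t := gl_ext (by rw [hx, C.c6.c2.xA_val])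
        have := C.diag_conj_xA _ hk _ hs t
        rw [h1 i hi, one_mul, ← ex] at this
        exact (mul_inv_eq_iff_eq_mul.mp this).symm
      · have hs := C.c6.c2.simple_lt i hi
        have hs' : fd.n - 1 - fd.simples.getD i 0 < fd.n := by omega
        have ex : x = C.c6.c2.xA (fd.n - 1 - fd.simples.getD i 0) t := gl_ext (by rw [hx, C.c6.c2.xA_val])
        have := C.diag_conj_xA _ hk _ hs' t
        rw [C.dE_neg _ hk _ hs, h1 i hi, inv_one, one_mul, ← ex] at this
        exact (mul_inv_eq_iff_eq_mul.mp this).symm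
    | one => simp
    | mul x y _ _ hx hy => rw [mul_assoc, hy, ← mul_assoc, hx, mul_assoc]
    | inv x _ hx =>
      have : x⁻¹ * (h⁻¹ * h') = x⁻¹ * ((h⁻¹ * h') * x) * x⁻¹ := by group
      rw [this, ← hx]; group
  have hone : h⁻¹ * h' = 1 := by
    apply C.c6.c5.c3.core_trivial
    intro b hb
    rw [hcomm b hb, mul_inv_cancel_right]
    exact C.c6.diag_le_borel hk
  exact inv_mul_eq_one.mp hone

end Cert12

namespace RootTw

variable {C : Cert12 D fd fx fc fz} {σ : ↥(D.group F) →* ↥(D.group F)} {ρ : ℕ → ℕ} {ψ : ℕ → F →+* F}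
  (R : RootTw C σ ρ ψ)
include R

/-- the diagonal entries of the image under `σ` of an element of `H` -/
theorem sig_dE (h : ↥(D.group F)) (hh : (h : GL D.Idx F) ∈ D.diagonalSubgroup F) (r : ℕ) (hr : r < fd.n) :
    dE D ((σ h : ↥(D.group F)) : GL D.Idx F) (ρ r) = ψ r (dE D (h : GL D.Idx F) r) := by
  apply C.xA_param_inj' (ρ r) (R.rho_lt r hr)
  have e1 := C.diag_conj_xA (h : GL D.Idx F) hh r hr 1
  have e0 : h * ⟨C.c6.c2.xA r 1, C.c6.c2.xA_mem_group _ _⟩ * h⁻¹ =
      ⟨C.c6.c2.xA r (dE D (h : GL D.Idx F) r * 1), C.c6.c2.xA_mem_group _ _⟩ := Subtype.ext e1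
  have e2 := congrArg (fun x => ((σ x : ↥(D.group F)) : GL D.Idx F)) e0
  simp only [map_mul, map_inv, Subgroup.coe_mul, Subgroup.coe_inv] at e2
  rw [R.sig_xA r hr, R.sig_xA r hr, C.diag_conj_xA _ (R.sig_diag h hh) _ (R.rho_lt r hr), map_one, mul_one,
    mul_one] at e2
  exact e2

end RootTw

end Cfsg.Agent.Lib.H29.Chev
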