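import Mathlib
import Cfsg.Prelude.Def_ChevStructure
import Cfsg.Agent.Lib.H29.ChevRee7

/-!
# Fixed points of `σ` when `ρ` is transitive on the fundamental roots (twisted rank one)
-/

set_option autoImplicit false
set_option linter.unusedSectionVars false
set_option linter.unusedSimpArgs false
set_option linter.unusedVariables false

namespace Cfsg.Agent.Lib.H29.Chev

open Cfsg.Lie Matrix

variable {D : ChevalleyDatum} {fd : FD} {fx : FX} {fc : FC} {fz : FZ} {F : Type*} [Field F]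

namespace Cert12

variable (C : Cert12 D fd fx fc fz)
include C

/-- `U_h⁻` is trivial for `h ∈ H` -/
theorem Uw_diag (h : GL D.Idx F) (hh : h ∈ D.diagonalSubgroup F) : Uw D F h = ⊥ := by
  unfold Uw
  rw [Subgroup.closure_eq_bot_iff]
  rintro x ⟨r, t, hpos, hle, hx⟩
  exfalso
  rw [C.c6.map_conj_le_neg_iff] at hle
  obtain ⟨hr, hpr⟩ := (C.c6.isPos_iff r).mp hpos
  have := (C.Wn_iff h id (C.c6.perm_diag h hh) r).mp ⟨hr, hpr, hle⟩
  simp only [id] at this
  omega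

/-- `U_m⁻ = U` when `m` makes all positive roots negative -/
theorem Uw_w0 (m : GL D.Idx F) (π : ℕ → ℕ) (hπ : C.c6.c2.Perm m π)
    (hw0 : ∀ s < fd.n, fd.n / 2 ≤ s → π s < fd.n / 2) : Uw D F m = D.posUnipotent F := by
  apply le_antisymm (C.Uw_le_pos m)
  unfold ChevalleyDatum.posUnipotent
  rw [Subgroup.closure_le]
  rintro x ⟨r, t, hpos, hx⟩
  obtain ⟨hr, hpr⟩ := (C.c6.isPos_iff r).mp hpos
  apply Subgroup.subset_closure
  refine ⟨r, t, hpos, ?_, hx⟩
  rw [C.c6.map_conj_le_neg_iff]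
  exact ((C.Wn_iff m π hπ r).mpr ⟨hr, hpr, hw0 r hr hpr⟩).2.2

end Cert12

namespace RootTw

variable {C : Cert12 D fd fx fc fz} {σ : ↥(D.group F) →* ↥(D.group F)} {ρ : ℕ → ℕ} {ψ : ℕ → F →+* F}
  (R : RootTw C σ ρ ψ)
include R

theorem rho_iter_lt (k : ℕ) (r : ℕ) (hr : r < fd.n) : ρ^[k] r < fd.n := by
  induction k with
  | zero => exact hr
  | succ k ih => rw [Function.iterate_succ_apply']; exact R.rho_lt _ ih

theorem rho_iter_pos (k : ℕ) (r : ℕ) (hr : r < fd.n) (hpos : fd.n / 2 ≤ r) : fd.n / 2 ≤ ρ^[k] r := by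
  induction k with
  | zero => exact hpos
  | succ k ih => rw [Function.iterate_succ_apply']; exact R.rho_pos _ (R.rho_iter_lt k r hr) ih

theorem rho_iter_neg (k : ℕ) (r : ℕ) (hr : r < fd.n) (hneg : r < fd.n / 2) : ρ^[k] r < fd.n / 2 := by
  induction k with
  | zero => exact hneg
  | succ k ih => rw [Function.iterate_succ_apply']; exact R.rho_neg_of_neg _ (R.rho_iter_lt k r hr) ih

theorem perm_comm_iter (m : ↥(D.group F)) (hfix : σ m = m) (π : ℕ → ℕ)
    (hπ : C.c6.c2.Perm (m : GL D.Idx F) π) (k : ℕ) (s : ℕ) (hs : s < fd.n) : π (ρ^[k] s) = ρ^[k] (π s) := by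
  induction k with
  | zero => rfl
  | succ k ih =>
    rw [Function.iterate_succ_apply', Function.iterate_succ_apply', R.perm_comm m hfix π hπ _ (R.rho_iter_lt k s hs), ih]

/-- a fixed element of `N` lies in `H` or in `n₀ H` -/
theorem fix_monomial_cases (htr : ∀ i < fd.l, ∀ j < fd.l, ∃ k, ρ^[k] (fd.simples.getD i 0) = fd.simples.getD j 0)
    (n₀ : GL D.Idx F) (hn₀ : n₀ ∈ D.monomialSubgroup F) (hπ₀ : C.c6.c2.Perm n₀ (fun s => fd.n - 1 - s))
    (m : ↥(D.group F)) (hm : (m : GL D.Idx F) ∈ D.monomialSubgroup F) (hfix : σ m = m) :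
    (m : GL D.Idx F) ∈ D.diagonalSubgroup F ∨ n₀⁻¹ * (m : GL D.Idx F) ∈ D.diagonalSubgroup F := by
  have hev := C.c6.c2.heven
  obtain ⟨⟨π, hπ⟩, _⟩ := C.c6.perm_of_mem (m : GL D.Idx F) hm
  have hl : 0 < fd.l := C.c6.c2.hl
  have hs0 := C.c6.c2.simple_lt 0 hl
  by_cases h0 : fd.n / 2 ≤ π (fd.simples.getD 0 0)
  · left
    apply C.mem_diag_of_pos _ hm π hπ
    intro j hj
    obtain ⟨k, hk⟩ := htr 0 hl j hj
    rw [← hk, R.perm_comm_iter m hfix π hπ k _ hs0]
    exact R.rho_iter_pos k _ (hπ _ hs0).1 h0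
  · right
    obtain ⟨_, ⟨π', hπ'⟩⟩ := C.c6.perm_of_mem n₀ hn₀
    have hinv := (C.perm_inv n₀ _ π' hπ₀ hπ').1
    apply C.mem_diag_of_pos _ (mul_mem (inv_mem hn₀) hm) _ (C.c6.perm_mul hπ' hπ)
    intro j hj
    obtain ⟨k, hk⟩ := htr 0 hl j hj
    have hneg : π (fd.simples.getD j 0) < fd.n / 2 := by
      rw [← hk, R.perm_comm_iter m hfix π hπ k _ hs0]
      exact R.rho_iter_neg k _ (hπ _ hs0).1 (by omega)
    have hlt := (hπ _ (C.c6.c2.simple_lt j hj)).1
    simp only [Function.comp]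
    have e := hinv (fd.n - 1 - π (fd.simples.getD j 0)) (by omega)
    have e2 : fd.n - 1 - (fd.n - 1 - π (fd.simples.getD j 0)) = π (fd.simples.getD j 0) := by omega
    rw [e2] at e
    rw [e]
    omega

end RootTw

end Cfsg.Agent.Lib.H29.Chev
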