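import Mathlib
import Cfsg.Prelude.Def_ChevStructure
import Cfsg.Agent.Lib.H29.ChevRee8
import Cfsg.Agent.Lib.H29.ChevRee5
import Cfsg.Agent.Lib.H29.ChevGen34

/-!
# Splitting the unipotent subgroup attached to a closed set of roots along an ideal, and fixed points
-/

set_option autoImplicit false
set_option linter.unusedSectionVars false
set_option linter.unusedSimpArgs false
set_option linter.unusedVariables false

namespace Cfsg.Agent.Lib.H29.Chev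

open Cfsg.Lie Matrix

variable {D : ChevalleyDatum} {fd : FD} {fx : FX} {fc : FC} {fz : FZ} {F : Type*} [Field F]

/-- `Ψ'` absorbs the commutators with the roots of `S` -/
def FD.IdealP (fd : FD) (S Ψ' : ℕ → Prop) : Prop :=
  ∀ r s, r < fd.n → s < fd.n → fd.n / 2 ≤ r → fd.n / 2 ≤ s → S r → Ψ' s → r ≠ s ∧ ∀ c ∈ fd.commT r s, Ψ' c.1

theorem FD.closed_inter (Ψ₁ Ψ₂ : ℕ → Prop) (h1 : fd.Closed Ψ₁) (h2 : fd.Closed Ψ₂) :
    fd.Closed (fun s => Ψ₁ s ∧ Ψ₂ s) := by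
  intro r s hr hs hpr hps hne hΨr hΨs c hc
  exact ⟨h1 r s hr hs hpr hps hne hΨr.1 hΨs.1 c hc, h2 r s hr hs hpr hps hne hΨr.2 hΨs.2 c hc⟩

theorem Vm_mono (Ψ₁ Ψ₂ : ℕ → Prop) (m : ℕ) (h : ∀ s, Ψ₁ s → Ψ₂ s) : Vm D F Ψ₁ m ≤ Vm D F Ψ₂ m := by
  apply Subgroup.closure_mono
  rintro g ⟨s, t, h1, h2, h3, h4⟩
  exact ⟨s, t, h1, h s h2, h3, h4⟩

theorem Vm_congr (Ψ₁ Ψ₂ : ℕ → Prop) (m : ℕ) (h : ∀ s, Ψ₁ s ↔ Ψ₂ s) : Vm D F Ψ₁ m = Vm D F Ψ₂ m :=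
  le_antisymm (Vm_mono Ψ₁ Ψ₂ m fun s => (h s).mp) (Vm_mono Ψ₂ Ψ₁ m fun s => (h s).mpr)

/-- conjugation into a subgroup, checked on generators -/
theorem conj_closure_mem {G : Type*} [Group G] (S : Set G) (T : Subgroup G) (a : G)
    (h : ∀ g ∈ S, a * g * a⁻¹ ∈ T) (y : G) (hy : y ∈ Subgroup.closure S) : a * y * a⁻¹ ∈ T := by
  induction hy using Subgroup.closure_induction with
  | mem x hx => exact h x hx
  | one => simp
  | mul x y _ _ hx hy =>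
    have : a * (x * y) * a⁻¹ = (a * x * a⁻¹) * (a * y * a⁻¹) := by group
    rw [this]; exact mul_mem hx hy
  | inv x _ hx =>
    have : a * x⁻¹ * a⁻¹ = (a * x * a⁻¹)⁻¹ := by group
    rw [this]; exact inv_mem hx

/-- the elements conjugating a subgroup into itself, together with their inverses -/
def conjStab {G : Type*} [Group G] (T : Subgroup G) : Subgroup G where
  carrier := {x | ∀ y ∈ T, x * y * x⁻¹ ∈ T ∧ x⁻¹ * y * x ∈ T}
  one_mem' := by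
    intro y hy
    simp [hy]
  mul_mem' := by
    intro a b ha hb y hy
    constructor
    · have : a * b * y * (a * b)⁻¹ = a * (b * y * b⁻¹) * a⁻¹ := by group
      rw [this]; exact (ha _ (hb y hy).1).1
    · have : (a * b)⁻¹ * y * (a * b) = b⁻¹ * (a⁻¹ * y * a) * b := by group
      rw [this]; exact (hb _ (ha y hy).2).2
  inv_mem' := by
    intro a ha y hy
    constructor
    · rw [inv_inv]; exact (ha y hy).2
    · rw [inv_inv]; exact (ha y hy).1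

namespace Cert12

variable (C : Cert12 D fd fx fc fz)
include C

/-- a root element of `S` conjugates `V_{Ψ'}` into itself -/
theorem xA_conj_Vm (S Ψ' : ℕ → Prop) (hI : fd.IdealP S Ψ') (r : ℕ) (hr : r < fd.n) (hpr : fd.n / 2 ≤ r) (hS : S r)
    (t : F) (y : GL D.Idx F) (hy : y ∈ Vm D F Ψ' (fd.n / 2)) :
    C.c6.c2.xA r t * y * (C.c6.c2.xA r t)⁻¹ ∈ Vm D F Ψ' (fd.n / 2) := by
  have hev := C.c6.c2.heven
  apply conj_closure_mem _ _ _ _ y hy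
  intro g hg
  obtain ⟨s, u, hs, hps, hΨs, _, rfl⟩ := C.eq_xA_of_VmSet Ψ' _ g hg
  obtain ⟨hne, hc⟩ := hI r s hr hs hpr hps hS hΨs
  have hcf := C.c6.cfg (F := F) r s hr hs (fun h => hne h.symm) (by omega) (-t) u
  -- `x_s(u) x_r(-t) = x_r(-t) x_s(u) ctG`
  have e : C.c6.c2.xA r t * C.c6.c2.xA s u * (C.c6.c2.xA r t)⁻¹ =
      C.c6.c2.xA s u * C.c6.c2.ctG (fd.commT r s) (-t) u := by
    rw [C.c6.c2.xA_inv, mul_assoc, hcf, ← mul_assoc, ← mul_assoc, C.c6.c2.xA_mul, add_neg_cancel, C.c6.c2.xA_zero,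
      one_mul]
  rw [e]
  apply mul_mem (C.xA_mem_Vm Ψ' _ s hs hps hΨs hps u)
  apply C.ctG_mem_Vm
  intro c hcm
  obtain ⟨h1, _, h3⟩ := fd.linc_spec C.linc r s hr hs c hcm
  have := h3 hpr hps hne
  exact ⟨h1, by omega, hc c hcm, by omega⟩

/-- `V_S` normalizes `V_{Ψ'}` -/
theorem Vm_conj_Vm (S Ψ' : ℕ → Prop) (hI : fd.IdealP S Ψ') (x : GL D.Idx F) (hx : x ∈ Vm D F S (fd.n / 2))
    (y : GL D.Idx F) (hy : y ∈ Vm D F Ψ' (fd.n / 2)) :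
    x * y * x⁻¹ ∈ Vm D F Ψ' (fd.n / 2) ∧ x⁻¹ * y * x ∈ Vm D F Ψ' (fd.n / 2) := by
  have hle : Vm D F S (fd.n / 2) ≤ conjStab (Vm D F Ψ' (fd.n / 2)) := by
    unfold Vm
    rw [Subgroup.closure_le]
    intro x hx
    obtain ⟨r, t, hr, hpr, hSr, _, rfl⟩ := C.eq_xA_of_VmSet S _ x hx
    intro y hy
    refine ⟨C.xA_conj_Vm S Ψ' hI r hr hpr hSr t y hy, ?_⟩
    have := C.xA_conj_Vm S Ψ' hI r hr hpr hSr (-t) y hy
    rwa [← C.c6.c2.xA_inv, inv_inv] at this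
  exact hle hx y hy

/-- splitting `V_Ψ` as `V_S V_{Ψ'}` -/
theorem split_exists (S Ψ' Ψ : ℕ → Prop) (hI : fd.IdealP S Ψ') (hΨ : ∀ s, Ψ s → S s ∨ Ψ' s)
    (g : GL D.Idx F) (hg : g ∈ Vm D F Ψ (fd.n / 2)) :
    ∃ x ∈ Vm D F S (fd.n / 2), ∃ g' ∈ Vm D F Ψ' (fd.n / 2), g = x * g' := by
  have step : ∀ (s : ℕ) (u : F), s < fd.n → fd.n / 2 ≤ s → Ψ s → ∀ x ∈ Vm D F S (fd.n / 2),
      ∀ g' ∈ Vm D F Ψ' (fd.n / 2), ∃ x' ∈ Vm D F S (fd.n / 2), ∃ g'' ∈ Vm D F Ψ' (fd.n / 2),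
        C.c6.c2.xA s u * (x * g') = x' * g'' := by
    intro s u hs hps hΨs x hx g' hg'
    rcases hΨ s hΨs with h | h
    · exact ⟨C.c6.c2.xA s u * x, mul_mem (C.xA_mem_Vm S _ s hs hps h hps u) hx, g', hg', by group⟩
    · refine ⟨x, hx, (x⁻¹ * C.c6.c2.xA s u * x) * g', mul_mem ?_ hg', by group⟩
      exact (C.Vm_conj_Vm S Ψ' hI x hx _ (C.xA_mem_Vm Ψ' _ s hs hps h hps u)).2
  unfold Vm at hg
  induction hg using Subgroup.closure_induction_left with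
  | one => exact ⟨1, one_mem _, 1, one_mem _, by group⟩
  | mul_left a ha y _ ih =>
    obtain ⟨x, hx, g', hg', rfl⟩ := ih
    obtain ⟨s, u, hs, hps, hΨs, _, rfl⟩ := C.eq_xA_of_VmSet Ψ _ a ha
    exact step s u hs hps hΨs x hx g' hg'
  | inv_mul_cancel a ha y _ ih =>
    obtain ⟨x, hx, g', hg', rfl⟩ := ih
    obtain ⟨s, u, hs, hps, hΨs, _, rfl⟩ := C.eq_xA_of_VmSet Ψ _ a ha
    rw [C.c6.c2.xA_inv]
    exact step s (-u) hs hps hΨs x hx g' hg'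

/-- `V_S` and `V_{Ψ'}` meet trivially when `S` and `Ψ'` are disjoint -/
theorem split_inf (S Ψ' : ℕ → Prop) (hS : fd.Closed S) (hΨ' : fd.Closed Ψ') (hdis : ∀ s, S s → ¬ Ψ' s) :
    Vm D F S (fd.n / 2) ⊓ Vm D F Ψ' (fd.n / 2) = ⊥ := by
  have hev := C.c6.c2.heven
  have hk : fd.n / 2 + (fd.n - fd.n / 2) = fd.n := by omega
  rw [eq_bot_iff]
  rintro g ⟨h1, h2⟩
  obtain ⟨t, ht, e1⟩ := C.Vm_oprod S hS _ _ hk (le_refl _) g h1
  obtain ⟨t', ht', e2⟩ := C.Vm_oprod Ψ' hΨ' _ _ hk (le_refl _) g h2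
  have hu := C.oprod_unique _ _ hk (le_refl _) t t' (e1.symm.trans e2)
  rw [Subgroup.mem_bot, e1]
  have : C.oprod t (fd.n / 2) (fd.n - fd.n / 2) = C.oprod (fun _ => (0 : F)) (fd.n / 2) (fd.n - fd.n / 2) := by
    apply C.oprod_congr
    intro r hr1 hr2
    by_cases hSr : S r
    · rw [hu r hr1 (by omega)]
      apply ht'
      intro h
      exact hdis r hSr h.1
    · apply ht
      intro h
      exact hSr h.1
  rw [this]
  have h0 := C.oprod_mem (F := F) (fun _ => False) (fun _ => (0 : F)) _ _ hk (le_refl _) (fun _ _ _ _ => rfl)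
  have hbot : Vm D F (fun _ => False) (fd.n / 2) = ⊥ := by
    unfold Vm
    rw [Subgroup.closure_eq_bot_iff]
    rintro g ⟨s, t, _, h, _⟩
    exact absurd h id
  rw [hbot, Subgroup.mem_bot] at h0
  exact h0

theorem split_unique (S Ψ' : ℕ → Prop) (hS : fd.Closed S) (hΨ' : fd.Closed Ψ') (hdis : ∀ s, S s → ¬ Ψ' s)
    (x x' g' g'' : GL D.Idx F) (hx : x ∈ Vm D F S (fd.n / 2)) (hx' : x' ∈ Vm D F S (fd.n / 2))
    (hg' : g' ∈ Vm D F Ψ' (fd.n / 2)) (hg'' : g'' ∈ Vm D F Ψ' (fd.n / 2)) (h : x * g' = x' * g'') :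
    x = x' ∧ g' = g'' := by
  have e : x'⁻¹ * x = g'' * g'⁻¹ := by
    calc x'⁻¹ * x = x'⁻¹ * (x * g') * g'⁻¹ := by group
      _ = x'⁻¹ * (x' * g'') * g'⁻¹ := by rw [h]
      _ = g'' * g'⁻¹ := by group
  have hmem : x'⁻¹ * x ∈ Vm D F S (fd.n / 2) ⊓ Vm D F Ψ' (fd.n / 2) := by
    refine Subgroup.mem_inf.mpr ⟨Subgroup.mul_mem _ (Subgroup.inv_mem _ hx') hx, ?_⟩
    rw [e]
    exact Subgroup.mul_mem _ hg'' (Subgroup.inv_mem _ hg')
  rw [C.split_inf S Ψ' hS hΨ' hdis, Subgroup.mem_bot] at hmem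
  have hx_eq : x = x' := by
    have := congrArg (fun z => x' * z) hmem
    simpa using this
  refine ⟨hx_eq, ?_⟩
  rw [hx_eq] at h
  exact mul_left_cancel h

end Cert12

end Cfsg.Agent.Lib.H29.Chev
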