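import Mathlib
import Cfsg.Prelude.Def_ChevStructure
import Cfsg.Agent.Lib.H29.ChevF4b

/-!
# The fixed points of a twisting endomorphism in the unipotent subgroups attached to closed sets of roots
-/

set_option autoImplicit false
set_option linter.unusedSectionVars false
set_option linter.unusedSimpArgs false
set_option linter.unusedVariables false

namespace Cfsg.Agent.Lib.H29.Chev

open Cfsg.Lie Matrix

variable {D : ChevalleyDatum} {fd : FD} {fx : FX} {fc : FC} {fz : FZ} {F : Type*} [Field F]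

/-- the roots lying in one of the classes of a list -/
def PL (L : List (List ℕ)) (s : ℕ) : Prop := ∃ c ∈ L, s ∈ c

instance (L : List (List ℕ)) : DecidablePred (PL L) := fun s => by unfold PL; infer_instance

/-- a chain of classes of positive roots, each absorbing the commutators with the later ones -/
def ChainOK (fd : FD) (ρ : ℕ → ℕ) : List (List ℕ) → Prop
  | [] => True
  | c :: L => c ≠ [] ∧ (∀ s ∈ c, fd.n / 2 ≤ s ∧ s < fd.n ∧ ρ s ∈ c) ∧ fd.Closed (· ∈ c) ∧ fd.Closed (PL L) ∧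
      fd.IdealP (· ∈ c) (PL L) ∧ (∀ s ∈ c, ¬ PL L s) ∧ ChainOK fd ρ L

theorem ChainOK.rho_stable {ρ : ℕ → ℕ} : ∀ (L : List (List ℕ)), ChainOK fd ρ L → ∀ s, PL L s → PL L (ρ s)
  | [], _, s, h => by obtain ⟨c, hc, _⟩ := h; simp at hc
  | c :: L, hL, s, h => by
    obtain ⟨c', hc', hs⟩ := h
    rcases List.mem_cons.mp hc' with rfl | hc'
    · exact ⟨c', List.mem_cons_self, (hL.2.1 s hs).2.2⟩
    · obtain ⟨c'', hc'', hs''⟩ := ChainOK.rho_stable L hL.2.2.2.2.2.2 s ⟨c', hc', hs⟩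
      exact ⟨c'', List.mem_cons_of_mem _ hc'', hs''⟩

theorem ChainOK.pos {ρ : ℕ → ℕ} : ∀ (L : List (List ℕ)), ChainOK fd ρ L → ∀ s, PL L s → fd.n / 2 ≤ s ∧ s < fd.n
  | [], _, s, h => by obtain ⟨c, hc, _⟩ := h; simp at hc
  | c :: L, hL, s, h => by
    obtain ⟨c', hc', hs⟩ := h
    rcases List.mem_cons.mp hc' with rfl | hc'
    · exact ⟨(hL.2.1 s hs).1, (hL.2.1 s hs).2.1⟩
    · exact ChainOK.pos L hL.2.2.2.2.2.2 s ⟨c', hc', hs⟩

theorem Vm_false (m : ℕ) : Vm D F (fun _ => False) m = ⊥ := by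
  unfold Vm
  rw [Subgroup.closure_eq_bot_iff]
  rintro g ⟨s, t, _, h, _⟩
  exact absurd h id

theorem Vm_le_pos (Ψ : ℕ → Prop) (m : ℕ) : Vm D F Ψ m ≤ D.posUnipotent F := by
  unfold Vm ChevalleyDatum.posUnipotent
  apply Subgroup.closure_mono
  rintro g ⟨s, t, h1, _, _, h4⟩
  exact ⟨s, t, h1, h4⟩

namespace RootTw

variable {C : Cert12 D fd fx fc fz} {σ : ↥(D.group F) →* ↥(D.group F)} {ρ : ℕ → ℕ} {ψ : ℕ → F →+* F}
  (R : RootTw C σ ρ ψ)
include R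

theorem Vm_le_group (Ψ : ℕ → Prop) (m : ℕ) : Vm D F Ψ m ≤ D.group F :=
  (Vm_le_pos Ψ m).trans C.c6.c2.pos_le_group

/-- `σ` preserves `V_Ψ` for a `ρ`-stable `Ψ` -/
theorem sig_Vm (Ψ : ℕ → Prop) (hρ : ∀ s, s < fd.n → fd.n / 2 ≤ s → Ψ s → Ψ (ρ s)) (g : ↥(D.group F))
    (hg : (g : GL D.Idx F) ∈ Vm D F Ψ (fd.n / 2)) :
    ((σ g : ↥(D.group F)) : GL D.Idx F) ∈ Vm D F Ψ (fd.n / 2) := by
  unfold Vm at hg
  refine sub_closure_induction (D.group F) σ _ ?_ (Vm D F Ψ (fd.n / 2)) ?_ g hg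
  · rintro x hx
    obtain ⟨s, t, hs, hps, hΨs, _, rfl⟩ := C.eq_xA_of_VmSet Ψ _ x hx
    exact C.c6.c2.xA_mem_group s t
  · rintro x hx
    obtain ⟨s, t, hs, hps, hΨs, _, rfl⟩ := C.eq_xA_of_VmSet Ψ _ x hx
    rw [R.sig_xA' s hs t]
    exact C.xA_mem_Vm Ψ _ _ (R.rho_lt s hs) (R.rho_pos s hs hps) (hρ s hs hps hΨs) (R.rho_pos s hs hps) _

/-- splitting a fixed element of `V_Ψ` -/
theorem fix_split (S Ψ' Ψ : ℕ → Prop) (hI : fd.IdealP S Ψ') (hΨ : ∀ s, Ψ s → S s ∨ Ψ' s)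
    (hS : fd.Closed S) (hΨ' : fd.Closed Ψ') (hdis : ∀ s, S s → ¬ Ψ' s)
    (hρS : ∀ s, s < fd.n → fd.n / 2 ≤ s → S s → S (ρ s)) (hρΨ' : ∀ s, s < fd.n → fd.n / 2 ≤ s → Ψ' s → Ψ' (ρ s))
    (g : GL D.Idx F) (hg : g ∈ fixGL σ ⊓ Vm D F Ψ (fd.n / 2)) :
    ∃ x ∈ fixGL σ ⊓ Vm D F S (fd.n / 2), ∃ g' ∈ fixGL σ ⊓ Vm D F Ψ' (fd.n / 2), g = x * g' := by
  obtain ⟨hgf, hgV⟩ := Subgroup.mem_inf.mp hg
  obtain ⟨hgG, hfix⟩ := (mem_fixGL σ g).mp hgf
  obtain ⟨x, hx, g', hg', rfl⟩ := C.split_exists S Ψ' Ψ hI hΨ g hgV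
  have hxG := R.Vm_le_group S _ hx
  have hg'G := R.Vm_le_group Ψ' _ hg'
  have e : (⟨x * g', hgG⟩ : ↥(D.group F)) = ⟨x, hxG⟩ * ⟨g', hg'G⟩ := rfl
  rw [e, map_mul, Subgroup.coe_mul] at hfix
  have h1 := R.sig_Vm S hρS ⟨x, hxG⟩ hx
  have h2 := R.sig_Vm Ψ' hρΨ' ⟨g', hg'G⟩ hg'
  obtain ⟨e1, e2⟩ := C.split_unique S Ψ' hS hΨ' hdis _ _ _ _ h1 hx h2 hg' hfix
  exact ⟨x, Subgroup.mem_inf.mpr ⟨(mem_fixGL σ x).mpr ⟨hxG, e1⟩, hx⟩, g',
    Subgroup.mem_inf.mpr ⟨(mem_fixGL σ g').mpr ⟨hg'G, e2⟩, hg'⟩, rfl⟩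

/-- the fixed points of `V_Ψ` lie in any subgroup containing the fixed points of the classes in `Ψ` -/
theorem fix_chain_le (Ψ : ℕ → Prop) (hΨc : fd.Closed Ψ)
    (hΨρ : ∀ s, s < fd.n → fd.n / 2 ≤ s → Ψ s → Ψ (ρ s)) (T : Subgroup (GL D.Idx F)) :
    ∀ (L : List (List ℕ)), ChainOK fd ρ L → (∀ c ∈ L, (∀ s ∈ c, Ψ s) ∨ (∀ s ∈ c, ¬ Ψ s)) →
    (∀ c ∈ L, (∀ s ∈ c, Ψ s) → fixGL σ ⊓ Vm D F (· ∈ c) (fd.n / 2) ≤ T) →
    fixGL σ ⊓ Vm D F (fun s => Ψ s ∧ PL L s) (fd.n / 2) ≤ T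
  | [], _, _, _ => by
    have : Vm D F (fun s => Ψ s ∧ PL [] s) (fd.n / 2) = ⊥ := by
      rw [← Vm_false (D := D) (F := F) (fd.n / 2)]
      apply Vm_congr
      intro s
      constructor
      · rintro ⟨_, c, hc, _⟩; simp at hc
      · exact fun h => absurd h id
    rw [this, inf_bot_eq]
    exact bot_le
  | c :: L, hL, hU, hT => by
    obtain ⟨hne, hc, hcc, hLc, hI, hdis, hL'⟩ := hL
    have ih := fix_chain_le Ψ hΨc hΨρ T L hL' (fun c' hc' => hU c' (List.mem_cons_of_mem _ hc'))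
      (fun c' hc' => hT c' (List.mem_cons_of_mem _ hc'))
    rcases hU c List.mem_cons_self with hcΨ | hcΨ
    · intro g hg
      have hI' : fd.IdealP (· ∈ c) (fun s => Ψ s ∧ PL L s) := by
        intro r s hr hs hpr hps hSr hΨ's
        obtain ⟨hne, h⟩ := hI r s hr hs hpr hps hSr hΨ's.2
        exact ⟨hne, fun c' hc' => ⟨hΨc r s hr hs hpr hps hne (hcΨ r hSr) hΨ's.1 c' hc', h c' hc'⟩⟩
      obtain ⟨x, hx, g', hg', rfl⟩ := R.fix_split (· ∈ c) (fun s => Ψ s ∧ PL L s) (fun s => Ψ s ∧ PL (c :: L) s)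
        hI' (by
          rintro s ⟨hΨs, c', hc', hs⟩
          rcases List.mem_cons.mp hc' with rfl | hc'
          · exact Or.inl hs
          · exact Or.inr ⟨hΨs, c', hc', hs⟩) hcc (FD.closed_inter _ _ hΨc hLc)
        (fun s hs h => hdis s hs h.2) (fun s _ _ hs => (hc s hs).2.2)
        (fun s hs hps h => ⟨hΨρ s hs hps h.1, ChainOK.rho_stable L hL' s h.2⟩) g hg
      exact mul_mem (hT c List.mem_cons_self hcΨ hx) (ih hg')
    · have : Vm D F (fun s => Ψ s ∧ PL (c :: L) s) (fd.n / 2) = Vm D F (fun s => Ψ s ∧ PL L s) (fd.n / 2) := by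
        apply Vm_congr
        intro s
        constructor
        · rintro ⟨hΨs, c', hc', hs⟩
          rcases List.mem_cons.mp hc' with rfl | hc'
          · exact absurd hΨs (hcΨ s hs)
          · exact ⟨hΨs, c', hc', hs⟩
        · rintro ⟨hΨs, c', hc', hs⟩
          exact ⟨hΨs, c', List.mem_cons_of_mem _ hc', hs⟩
      rw [this]
      exact ih

/-- the number of fixed points of `V_Ψ` is the product of the numbers of fixed points of the classes in `Ψ` -/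
theorem card_fix_chain (Ψ : ℕ → Prop) [DecidablePred Ψ] (hΨc : fd.Closed Ψ)
    (hΨρ : ∀ s, s < fd.n → fd.n / 2 ≤ s → Ψ s → Ψ (ρ s)) :
    ∀ (L : List (List ℕ)), ChainOK fd ρ L → (∀ c ∈ L, (∀ s ∈ c, Ψ s) ∨ (∀ s ∈ c, ¬ Ψ s)) →
    Nat.card ↥(fixGL σ ⊓ Vm D F (fun s => Ψ s ∧ PL L s) (fd.n / 2)) =
      (L.map fun c => if ∀ s ∈ c, Ψ s then Nat.card ↥(fixGL σ ⊓ Vm D F (· ∈ c) (fd.n / 2)) else 1).prod
  | [], _, _ => by
    have : Vm D F (fun s => Ψ s ∧ PL [] s) (fd.n / 2) = ⊥ := by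
      rw [← Vm_false (D := D) (F := F) (fd.n / 2)]
      apply Vm_congr
      intro s
      constructor
      · rintro ⟨_, c, hc, _⟩; simp at hc
      · exact fun h => absurd h id
    rw [this, inf_bot_eq, List.map_nil, List.prod_nil]
    exact Subgroup.card_bot
  | c :: L, hL, hU => by
    obtain ⟨hne, hc, hcc, hLc, hI, hdis, hL'⟩ := hL
    have ih := card_fix_chain Ψ hΨc hΨρ L hL' (fun c' hc' => hU c' (List.mem_cons_of_mem _ hc'))
    rw [List.map_cons, List.prod_cons, ← ih]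
    rcases hU c List.mem_cons_self with hcΨ | hcΨ
    · rw [if_pos hcΨ]
      have hI' : fd.IdealP (· ∈ c) (fun s => Ψ s ∧ PL L s) := by
        intro r s hr hs hpr hps hSr hΨ's
        obtain ⟨hne, h⟩ := hI r s hr hs hpr hps hSr hΨ's.2
        exact ⟨hne, fun c' hc' => ⟨hΨc r s hr hs hpr hps hne (hcΨ r hSr) hΨ's.1 c' hc', h c' hc'⟩⟩
      have hsub1 : Vm D F (· ∈ c) (fd.n / 2) ≤ Vm D F (fun s => Ψ s ∧ PL (c :: L) s) (fd.n / 2) :=
        Vm_mono _ _ _ (fun s hs => ⟨hcΨ s hs, c, List.mem_cons_self, hs⟩)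
      have hsub2 : Vm D F (fun s => Ψ s ∧ PL L s) (fd.n / 2) ≤ Vm D F (fun s => Ψ s ∧ PL (c :: L) s) (fd.n / 2) :=
        Vm_mono _ _ _ (fun s hs => ⟨hs.1, by
          obtain ⟨c', hc', hs'⟩ := hs.2
          exact ⟨c', List.mem_cons_of_mem _ hc', hs'⟩⟩)
      have hbij : Function.Bijective (fun p : ↥(fixGL σ ⊓ Vm D F (· ∈ c) (fd.n / 2)) ×
          ↥(fixGL σ ⊓ Vm D F (fun s => Ψ s ∧ PL L s) (fd.n / 2)) =>
          (⟨(p.1 : GL D.Idx F) * (p.2 : GL D.Idx F), Subgroup.mem_inf.mpr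
            ⟨mul_mem (Subgroup.mem_inf.mp p.1.2).1 (Subgroup.mem_inf.mp p.2.2).1,
             mul_mem (hsub1 (Subgroup.mem_inf.mp p.1.2).2) (hsub2 (Subgroup.mem_inf.mp p.2.2).2)⟩⟩ :
            ↥(fixGL σ ⊓ Vm D F (fun s => Ψ s ∧ PL (c :: L) s) (fd.n / 2)))) := by
        constructor
        · rintro ⟨⟨x, hx⟩, ⟨g', hg'⟩⟩ ⟨⟨x', hx'⟩, ⟨g'', hg''⟩⟩ h
          have h' : x * g' = x' * g'' := congrArg Subtype.val h
          obtain ⟨e1, e2⟩ := C.split_unique (· ∈ c) (fun s => Ψ s ∧ PL L s) hcc (FD.closed_inter _ _ hΨc hLc)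
            (fun s hs h => hdis s hs h.2) x x' g' g'' (Subgroup.mem_inf.mp hx).2 (Subgroup.mem_inf.mp hx').2
            (Subgroup.mem_inf.mp hg').2 (Subgroup.mem_inf.mp hg'').2 h'
          subst e1; subst e2; rfl
        · rintro ⟨g, hg⟩
          obtain ⟨x, hx, g', hg', rfl⟩ := R.fix_split (· ∈ c) (fun s => Ψ s ∧ PL L s) (fun s => Ψ s ∧ PL (c :: L) s)
            hI' (by
              rintro s ⟨hΨs, c', hc', hs⟩
              rcases List.mem_cons.mp hc' with rfl | hc'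
              · exact Or.inl hs
              · exact Or.inr ⟨hΨs, c', hc', hs⟩) hcc (FD.closed_inter _ _ hΨc hLc)
            (fun s hs h => hdis s hs h.2) (fun s _ _ hs => (hc s hs).2.2)
            (fun s hs hps h => ⟨hΨρ s hs hps h.1, ChainOK.rho_stable L hL' s h.2⟩) g hg
          exact ⟨⟨⟨x, hx⟩, ⟨g', hg'⟩⟩, rfl⟩
      rw [← Nat.card_prod]
      exact (Nat.card_congr (Equiv.ofBijective _ hbij)).symm
    · rw [if_neg (fun h => by
        obtain ⟨s, hs⟩ := List.exists_mem_of_ne_nil c hne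
        exact hcΨ s hs (h s hs)), one_mul]
      have : Vm D F (fun s => Ψ s ∧ PL (c :: L) s) (fd.n / 2) = Vm D F (fun s => Ψ s ∧ PL L s) (fd.n / 2) := by
        apply Vm_congr
        intro s
        constructor
        · rintro ⟨hΨs, c', hc', hs⟩
          rcases List.mem_cons.mp hc' with rfl | hc'
          · exact absurd hΨs (hcΨ s hs)
          · exact ⟨hΨs, c', hc', hs⟩
        · rintro ⟨hΨs, c', hc', hs⟩
          exact ⟨hΨs, c', List.mem_cons_of_mem _ hc', hs⟩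
      rw [this]

end RootTw

end Cfsg.Agent.Lib.H29.Chev
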