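import Mathlib
import Cfsg.Agent.Lib.H29.ChevFast7

/-! Witness tables for perfectness and irreducibility, type F4 (generated) -/

set_option autoImplicit false

namespace Cfsg.Agent.Lib.H29.Chev

def fwF4 : FW where
  pw := 0x12e18012f17012f15012821012f10012f0f012e0f012c0e012c0d012c0c012c0b012c0a012c09012c08012c07012f05012f04012e0401280a012809012808012f02012e02012f01012e00012d01012d00012707012607012507012b01012b00012a00012803012703012603012503012403012303012203012103012001012000011f00010e07011a00011800011701
  gam := 0x180000190019000019001b00002100

end Cfsg.Agent.Lib.H29.Chev
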