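import Mathlib
import Cfsg.Agent.Lib.H29.ChevIso1
import Cfsg.Agent.Lib.H29.ChevDataF4

/-! Special isogeny tables for F4 in characteristic 2 (generated) -/

set_option autoImplicit false

namespace Cfsg.Agent.Lib.H29.Chev

def tcLF4 : List SV :=
  [[],
   [],
   [(1, 1)],
   [(0, 1)],
   [(7, 1)],
   [(11, 1)],
   [(12, 1)],
   [],
   [(13, 1)],
   [(15, 1)],
   [(22, 1)],
   [],
   [],
   [],
   [],
   [],
   [],
   [],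
   [],
   [(14, 1)],
   [(16, 1)],
   [(23, 1)],
   [],
   [],
   [],
   [(17, 1)],
   [(24, 1)],
   [(18, 1)],
   [(37, 1)],
   [(31, 1)],
   [(38, 1)],
   [],
   [],
   [],
   [(32, 1)],
   [(39, 1)],
   [(41, 1)],
   [],
   [],
   [],
   [],
   [],
   [],
   [],
   [],
   [(33, 1)],
   [(40, 1)],
   [(42, 1)],
   [],
   [(43, 1)],
   [(44, 1)],
   [(48, 1)]]

def tcF4 : ℕ → SV := fun c => tcLF4.getD c []

def rhoLF4 : List ℕ := [3, 7, 8, 0, 9, 11, 18, 1, 2, 4, 15, 5, 16, 21, 23, 10, 12, 19, 6, 17, 22, 13, 20, 14, 33, 27, 34, 25, 30, 41, 28, 35, 37, 24, 26, 31, 42, 32, 43, 45, 46, 29, 36, 38, 47, 39, 40, 44]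

def lamLF4 : List ℕ := [1, 1, 1, 2, 1, 1, 1, 2, 2, 2, 2, 2, 2, 2, 2, 1, 1, 1, 2, 2, 2, 1, 1, 1, 1, 1, 1, 2, 2, 2, 1, 1, 1, 2, 2, 2, 2, 2, 2, 2, 2, 1, 1, 1, 2, 1, 1, 1]

set_option maxRecDepth 1000000 in
theorem isoF4_chk : ∀ r < fdF4.n, fdF4.isoChk tcF4 2 r (rhoLF4.getD r 0) (lamLF4.getD r 1) = true := by
  decide +kernel

theorem isoF4_spec : ∀ r < fdF4.n, rhoLF4.getD r 0 < fdF4.n ∧ (lamLF4.getD r 1 = 1 ∨ lamLF4.getD r 1 = 2) ∧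
    rhoLF4.getD (fdF4.n - 1 - r) 0 = fdF4.n - 1 - rhoLF4.getD r 0 ∧ lamLF4.getD (fdF4.n - 1 - r) 1 = lamLF4.getD r 1 ∧
    (fdF4.n / 2 ≤ r → fdF4.n / 2 ≤ rhoLF4.getD r 0) := by
  decide +kernel

end Cfsg.Agent.Lib.H29.Chev
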