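import Mathlib
import Cfsg.Agent.Lib.H29.ChevIso4
import Cfsg.Agent.Lib.H29.ChevIsoTF4
import Cfsg.Agent.Lib.H29.ChevIrr
import Cfsg.Agent.Lib.H29.ChevCert13
import Cfsg.Agent.Lib.H29.ChevChkPerfF4

/-! The special isogeny of F4 in characteristic 2 -/

set_option autoImplicit false

namespace Cfsg.Agent.Lib.H29.Chev

open Cfsg.Lie

def rhoF4 (r : ℕ) : ℕ := rhoLF4.getD r 0

def lamF4 (r : ℕ) : ℕ := lamLF4.getD r 1

set_option maxRecDepth 1000000 in
theorem isoSpecF4 : IsoSpec fdF4 tcF4 2 rhoF4 lamF4 where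
  chk := isoF4_chk
  rho_lt := fun r hr => (isoF4_spec r hr).1
  lam_cases := fun r hr => (isoF4_spec r hr).2.1
  hp := by decide
  rho_surj := by decide +kernel
  wit2 := ⟨0, by decide, 28, by decide, by decide⟩
  wit3 := ⟨2, by decide, 24, by decide, by decide +kernel⟩

theorem irrF4 {F : Type*} [Field F] : (cert12_F4.c6.bnPair F).Irreducible :=
  cert12_F4.c6.irreducible6 fwF4 fdF4_chkIrr

/-- the special automorphism of `F4(F)` over a perfect field of characteristic 2 -/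
theorem exists_isogenyF4 {F : Type*} [Field F] [CharP F 2] (hperf : ∀ x : F, ∃ y : F, y ^ 2 = x) :
    ∃ τ : ↥(chevF4.group F) ≃* ↥(chevF4.group F),
      (∀ g : ↥(chevF4.group F), JF chevF4 chevF4 F tcF4 * ((g : GL chevF4.Idx F) : Matrix chevF4.Idx chevF4.Idx F) =
        ((τ g : GL chevF4.Idx F) : Matrix chevF4.Idx chevF4.Idx F) * JF chevF4 chevF4 F tcF4) ∧
      (∀ r < fdF4.n, ∀ t : F, ((τ ⟨cert12_F4.c6.c2.xA r t, cert12_F4.c6.c2.xA_mem_group _ _⟩ : ↥(chevF4.group F)) :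
        GL chevF4.Idx F) = cert12_F4.c6.c2.xA (rhoF4 r) (t ^ lamF4 r)) :=
  cert12_F4.exists_isogeny isoSpecF4 irrF4 hperf

end Cfsg.Agent.Lib.H29.Chev
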