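import Mathlib
import Cfsg.Prelude.Def_ChevStructure
import Cfsg.Prelude.Def_LieTwisted
import Cfsg.Agent.Lib.H29.ChevRee2
import Cfsg.Agent.Lib.H29.ChevIsoSF4

/-!
# The endomorphism `σ` of `F₄(K)`, `|K| = 2^(2m+1)`, whose fixed points form the large Ree group
-/

set_option autoImplicit false
set_option linter.unusedSectionVars false
set_option linter.unusedSimpArgs false
set_option linter.unusedVariables false

namespace Cfsg.Agent.Lib.H29.Chev

open Cfsg.Lie Matrix

section F0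

variable {K : Type*} [Field K] [CharP K 2]

/-- the field automorphism `t ↦ t ^ (2 ^ m)` -/
noncomputable def f4Theta (K : Type*) [Field K] [CharP K 2] (m : ℕ) : K →+* K := iterateFrobenius K 2 m

theorem f4Theta_apply (m : ℕ) (t : K) : f4Theta K m t = t ^ 2 ^ m := iterateFrobenius_def 2 m t

/-- the endomorphisms `ψ_r` of the field -/
noncomputable def f4Psi (K : Type*) [Field K] [CharP K 2] (m : ℕ) (r : ℕ) : K →+* K :=
  if lamF4 r = 2 then (frobenius K 2).comp (f4Theta K m) else f4Theta K m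

theorem lamF4_cases (r : ℕ) : lamF4 r = 1 ∨ lamF4 r = 2 := by
  by_cases hr : r < 48
  · interval_cases r <;> decide
  · left
    unfold lamF4
    rw [List.getD_eq_default _ _ (by simp [lamLF4]; omega)]

theorem f4Psi_apply (m r : ℕ) (t : K) : f4Psi K m r t = (t ^ 2 ^ m) ^ lamF4 r := by
  unfold f4Psi
  rcases lamF4_cases r with h | h
  · rw [if_neg (by omega), h, pow_one, f4Theta_apply]
  · rw [if_pos h, h, RingHom.comp_apply, frobenius_def, f4Theta_apply]

theorem f4Psi_short (m r : ℕ) (h : lamF4 r = 2) (x : K) : f4Psi K m r x = frobenius K 2 (f4Theta K m x) := by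
  unfold f4Psi; rw [if_pos h]; rfl

theorem f4Psi_long (m r : ℕ) (h : lamF4 r = 1) (x : K) : f4Psi K m r x = f4Theta K m x := by
  unfold f4Psi; rw [if_neg (by omega)]

end F0

section F4

variable {K : Type*} [Field K] [Fintype K] [CharP K 2]

theorem perfect2 (x : K) : ∃ y : K, y ^ 2 = x := by
  have hinj : Function.Injective (frobenius K 2) := (frobenius K 2).injective
  obtain ⟨y, hy⟩ := Finite.surjective_of_injective hinj x
  exact ⟨y, by rw [← hy, frobenius_def]⟩

/-- the special isogeny of `F₄(K)` -/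
noncomputable def f4Tau : ↥(chevF4.group K) ≃* ↥(chevF4.group K) := (exists_isogenyF4 (F := K) perfect2).choose

theorem f4Tau_xA (r : ℕ) (hr : r < fdF4.n) (t : K) (h : cert12_F4.c6.c2.xA r t ∈ chevF4.group K) :
    ((f4Tau ⟨cert12_F4.c6.c2.xA r t, h⟩ : ↥(chevF4.group K)) : GL chevF4.Idx K) =
      cert12_F4.c6.c2.xA (rhoF4 r) (t ^ lamF4 r) :=
  (exists_isogenyF4 (F := K) perfect2).choose_spec.2 r hr t

/-- the endomorphism `σ` -/
noncomputable def f4Sigma (m : ℕ) : ↥(chevF4.group K) →* ↥(chevF4.group K) :=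
  (f4Tau (K := K)).toMonoidHom.comp (bcG cert12_F4.c6.c2 (f4Theta K m))

theorem f4Sigma_xA (m r : ℕ) (hr : r < fdF4.n) (t : K) :
    ((f4Sigma m ⟨cert12_F4.c6.c2.xA r t, cert12_F4.c6.c2.xA_mem_group r t⟩ : ↥(chevF4.group K)) : GL chevF4.Idx K) =
      cert12_F4.c6.c2.xA (rhoF4 r) (f4Psi K m r t) := by
  have e : bcG cert12_F4.c6.c2 (f4Theta K m) ⟨cert12_F4.c6.c2.xA r t, cert12_F4.c6.c2.xA_mem_group r t⟩ =
      ⟨cert12_F4.c6.c2.xA r (f4Theta K m t), cert12_F4.c6.c2.xA_mem_group _ _⟩ := by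
    apply Subtype.ext
    rw [bcG_val]
    exact cert12_F4.c6.c2.bc_xA _ r t
  unfold f4Sigma
  rw [MonoidHom.comp_apply, e]
  show ((f4Tau _ : ↥(chevF4.group K)) : GL chevF4.Idx K) = _
  rw [f4Tau_xA r hr, f4Psi_apply, f4Theta_apply]

theorem rhoF4_neg : ∀ r < 48, rhoF4 (48 - 1 - r) = 48 - 1 - rhoF4 r := by decide
theorem rhoF4_pos : ∀ r < 48, 24 ≤ r → 24 ≤ rhoF4 r := by decide
theorem lamF4_neg : ∀ r < 48, lamF4 (48 - 1 - r) = lamF4 r := by decide
theorem rhoF4_rho : ∀ r < 48, rhoF4 (rhoF4 r) = r := by decide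
theorem lamF4_rho : ∀ r < 48, lamF4 (rhoF4 r) * lamF4 r = 2 := by decide

theorem f4RootTw (m : ℕ) : RootTw cert12_F4 (f4Sigma (K := K) m) rhoF4 (f4Psi K m) where
  rho_lt := isoSpecF4.rho_lt
  rho_neg := fun r hr => rhoF4_neg r hr
  rho_pos := fun r hr h => rhoF4_pos r hr h
  psi_neg := by
    intro r hr
    have := lamF4_neg r hr
    unfold f4Psi
    rw [show fdF4.n - 1 - r = 48 - 1 - r from rfl, this]
  psi_surj := fun r _ => Finite.surjective_of_injective (f4Psi K m r).injective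
  sig_xA := fun r hr t => f4Sigma_xA m r hr t

end F4

end Cfsg.Agent.Lib.H29.Chev
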