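import Mathlib
import Cfsg.Prelude.Def_ChevStructure
import Cfsg.Prelude.Def_LieTwisted
import Cfsg.Agent.Lib.H29.ChevF4a
import Cfsg.Agent.Lib.H29.ChevRee3

/-!
# The generators of the large Ree group are fixed by `σ`
-/

set_option autoImplicit false
set_option linter.unusedSectionVars false
set_option linter.unusedSimpArgs false
set_option linter.unusedVariables false

namespace Cfsg.Agent.Lib.H29.Chev

open Cfsg.Lie Matrix

section F4

variable {K : Type*} [Field K]

/-- the root elements of `F₄(K)` -/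
noncomputable abbrev fX (r : ℕ) (t : K) : GL chevF4.Idx K := cert12_F4.c6.c2.xA r t

theorem fX_comm_nil (r s : ℕ) (hr : r < 48) (hs : s < 48) (h1 : s ≠ r) (h2 : s ≠ 47 - r)
    (hnil : fdF4.commT r s = []) (t u : K) : Commute (fX r t) (fX s u) := by
  have := cert12_F4.c6.cfg (F := K) r s hr hs h1 h2 t u
  rw [hnil] at this
  simp only [Cert2.ctG, List.map_nil, List.prod_nil, mul_one] at this
  exact this.symm

theorem fX_mul (r : ℕ) (t u : K) : fX r t * fX r u = fX r (t + u) := cert12_F4.c6.c2.xA_mul r t u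

variable [CharP K 2]

theorem int2_cast : ((2 : ℤ) : K) = 0 := by
  have := CharP.cast_eq_zero K 2
  push_cast at this ⊢
  exact this

theorem fX_comm_two (r s q : ℕ) (c : ℤ) (hr : r < 48) (hs : s < 48) (h1 : s ≠ r) (h2 : s ≠ 47 - r)
    (hc : c = 2 ∨ c = -2) (h3 : fdF4.commT r s = [(q, c, 1, 1)]) (t u : K) : Commute (fX r t) (fX s u) := by
  have := cert12_F4.c6.cfg (F := K) r s hr hs h1 h2 t u
  rw [h3] at this
  have hc0 : ((c : ℤ) : K) = 0 := by
    rcases hc with rfl | rfl
    · exact int2_cast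
    · rw [Int.cast_neg, int2_cast, neg_zero]
  unfold Cert2.ctG at this
  simp only [List.map_cons, List.map_nil, List.prod_cons, List.prod_nil, mul_one, hc0, zero_mul,
    cert12_F4.c6.c2.xA_zero] at this
  exact this.symm

theorem pm_one_cast (e : ℤ) (he : e = 1 ∨ e = -1) : ((e : ℤ) : K) = 1 := by
  rcases he with rfl | rfl
  · exact Int.cast_one
  · rw [Int.cast_neg, Int.cast_one, CharTwo.neg_eq]

/-- the commutator relation of a short and a long fundamental root of a subsystem of type `B₂`, in characteristic 2 -/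
theorem fX_b2 (a b c d : ℕ) (e1 e2 : ℤ) (ha : a < 48) (hb : b < 48) (h1 : b ≠ a) (h2 : b ≠ 47 - a)
    (he1 : e1 = 1 ∨ e1 = -1) (he2 : e2 = 1 ∨ e2 = -1) (hT : fdF4.commT a b = [(c, e1, 1, 1), (d, e2, 2, 1)])
    (t u : K) : fX b u * fX a t = fX a t * fX b u * (fX c (t * u) * fX d (t ^ 2 * u)) := by
  have := cert12_F4.c6.cfg (F := K) a b ha hb h1 h2 t u
  rw [hT] at this
  rw [this]
  unfold Cert2.ctG
  simp only [List.map_cons, List.map_nil, List.prod_cons, List.prod_nil, mul_one, pm_one_cast e1 he1,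
    pm_one_cast e2 he2, one_mul, CharTwo.neg_eq, pow_one]

end F4

end Cfsg.Agent.Lib.H29.Chev
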