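import Mathlib
import Cfsg.Prelude.Def_ChevStructure
import Cfsg.Prelude.Def_LieTwisted
import Cfsg.Agent.Lib.H29.ChevF4d

/-!
# The generators of the large Ree group
-/

set_option autoImplicit false
set_option linter.unusedSectionVars false
set_option linter.unusedSimpArgs false
set_option linter.unusedVariables false

namespace Cfsg.Agent.Lib.H29.Chev

open Cfsg.Lie Matrix

section F4

variable {K : Type*} [Field K] [CharP K 2]

/-- the element `x_r(t^θ) x_r̄(t)` -/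
noncomputable def pairEl (m : ℕ) (r rbar : ℕ) (t : K) : GL chevF4.Idx K := fX r (f4Theta K m t) * fX rbar t

/-- the element `x_a(t^θ) x_b(t) x_{a+b}(t^{θ+1} + u) x_{2a+b}(u^{2θ})` -/
noncomputable def clsEl (m : ℕ) (a b c d : ℕ) (t u : K) : GL chevF4.Idx K :=
  fX a (f4Theta K m t) * fX b t * fX c (f4Theta K m t * t + u) * fX d (f4Theta K m u ^ 2)

theorem pairEl_val (m r rbar : ℕ) (t : K) :
    ((pairEl m r rbar t : GL chevF4.Idx K) : Matrix chevF4.Idx chevF4.Idx K) =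
      chevF4.wordMat K (f4PairWord (2 ^ m) r rbar t) := by
  rw [← cert12_F4.c6.c2.wordG_val]
  unfold pairEl f4PairWord Cert2.wordG
  simp only [List.map_cons, List.map_nil, List.prod_cons, List.prod_nil, mul_one, f4Theta_apply]

theorem clsEl_val (m a b c d : ℕ) (t u : K) :
    ((clsEl m a b c d t u : GL chevF4.Idx K) : Matrix chevF4.Idx chevF4.Idx K) =
      chevF4.wordMat K (b2ClassWord (2 ^ m) a b c d t u) := by
  rw [← cert12_F4.c6.c2.wordG_val]
  unfold clsEl b2ClassWord Cert2.wordG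
  simp only [List.map_cons, List.map_nil, List.prod_cons, List.prod_nil, mul_one, f4Theta_apply, mul_assoc]
  have e1 : t ^ (2 ^ m + 1) = t ^ 2 ^ m * t := pow_succ _ _
  have e2 : u ^ (2 * 2 ^ m) = (u ^ 2 ^ m) ^ 2 := by rw [mul_comm, pow_mul]
  rw [e1, e2]

theorem pairEl_mem_group (m r rbar : ℕ) (t : K) : pairEl m r rbar t ∈ chevF4.group K :=
  mul_mem (cert12_F4.c6.c2.xA_mem_group _ _) (cert12_F4.c6.c2.xA_mem_group _ _)

theorem clsEl_mem_group (m a b c d : ℕ) (t u : K) : clsEl m a b c d t u ∈ chevF4.group K :=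
  mul_mem (mul_mem (mul_mem (cert12_F4.c6.c2.xA_mem_group _ _) (cert12_F4.c6.c2.xA_mem_group _ _))
    (cert12_F4.c6.c2.xA_mem_group _ _)) (cert12_F4.c6.c2.xA_mem_group _ _)

/-- the four families of generators -/
noncomputable abbrev pU (m : ℕ) (t : K) : GL chevF4.Idx K := pairEl m 33 24 t
noncomputable abbrev pV (m : ℕ) (t : K) : GL chevF4.Idx K := pairEl m 14 23 t
noncomputable abbrev cU (m : ℕ) (t u : K) : GL chevF4.Idx K := clsEl m 27 25 28 30 t u
noncomputable abbrev cV (m : ℕ) (t u : K) : GL chevF4.Idx K := clsEl m 20 22 19 17 t u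

theorem pU_mem_tw (m : ℕ) (t : K) : pU m t ∈ twistedF4 K (2 ^ m) :=
  Subgroup.subset_closure ⟨_, Or.inl ⟨t, Or.inl rfl⟩, pairEl_val m _ _ t⟩
theorem pV_mem_tw (m : ℕ) (t : K) : pV m t ∈ twistedF4 K (2 ^ m) :=
  Subgroup.subset_closure ⟨_, Or.inl ⟨t, Or.inr rfl⟩, pairEl_val m _ _ t⟩
theorem cU_mem_tw (m : ℕ) (t u : K) : cU m t u ∈ twistedF4 K (2 ^ m) :=
  Subgroup.subset_closure ⟨_, Or.inr ⟨t, u, Or.inl rfl⟩, clsEl_val m _ _ _ _ t u⟩
theorem cV_mem_tw (m : ℕ) (t u : K) : cV m t u ∈ twistedF4 K (2 ^ m) :=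
  Subgroup.subset_closure ⟨_, Or.inr ⟨t, u, Or.inr rfl⟩, clsEl_val m _ _ _ _ t u⟩

/-- the large Ree group is generated by the four families -/
theorem twistedF4_le (m : ℕ) (T : Subgroup (GL chevF4.Idx K)) (h1 : ∀ t : K, pU m t ∈ T) (h2 : ∀ t : K, pV m t ∈ T)
    (h3 : ∀ t u : K, cU m t u ∈ T) (h4 : ∀ t u : K, cV m t u ∈ T) : twistedF4 K (2 ^ m) ≤ T := by
  unfold twistedF4 ChevalleyDatum.genSubgroup
  rw [Subgroup.closure_le]
  rintro g ⟨w, (⟨t, rfl | rfl⟩ | ⟨t, u, rfl | rfl⟩), hg⟩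
  · have : g = pU m t := gl_ext (by rw [hg, pairEl_val]; rfl)
    rw [this]; exact h1 t
  · have : g = pV m t := gl_ext (by rw [hg, pairEl_val]; rfl)
    rw [this]; exact h2 t
  · have : g = cU m t u := gl_ext (by rw [hg, clsEl_val]; rfl)
    rw [this]; exact h3 t u
  · have : g = cV m t u := gl_ext (by rw [hg, clsEl_val]; rfl)
    rw [this]; exact h4 t u

variable [Fintype K]

theorem f4_theta_theta_sq (m : ℕ) (hK : Fintype.card K = 2 ^ (2 * m + 1)) (x : K) :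
    f4Theta K m (f4Theta K m x) ^ 2 = x := by
  rw [f4Theta_apply, f4Theta_apply, ← pow_mul, ← pow_mul]
  have : 2 ^ m * (2 ^ m * 2) = Fintype.card K := by rw [hK]; ring
  rw [this, FiniteField.pow_card]

theorem f4_theta_sq_theta (m : ℕ) (hK : Fintype.card K = 2 ^ (2 * m + 1)) (x : K) :
    f4Theta K m (f4Theta K m x ^ 2) = x := by
  rw [map_pow, f4_theta_theta_sq m hK]

/-- the pair elements are fixed by `σ` -/
theorem pairEl_fixed (m : ℕ) (hK : Fintype.card K = 2 ^ (2 * m + 1)) (r rbar : ℕ) (hr : r < 48) (hrb : rbar < 48)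
    (h1 : rhoF4 r = rbar) (h2 : rhoF4 rbar = r) (h3 : lamF4 r = 2) (h4 : lamF4 rbar = 1)
    (hc : ∀ t u : K, Commute (fX r t) (fX rbar u)) (t : K) :
    ((f4Sigma m ⟨pairEl m r rbar t, pairEl_mem_group m r rbar t⟩ : ↥(chevF4.group K)) : GL chevF4.Idx K) =
      pairEl m r rbar t := by
  have e : (⟨pairEl m r rbar t, pairEl_mem_group m r rbar t⟩ : ↥(chevF4.group K)) =
      ⟨fX r (f4Theta K m t), cert12_F4.c6.c2.xA_mem_group _ _⟩ * ⟨fX rbar t, cert12_F4.c6.c2.xA_mem_group _ _⟩ := rfl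
  rw [e, map_mul, Subgroup.coe_mul, f4Sigma_xA m r hr, f4Sigma_xA m rbar hrb, h1, h2, f4Psi_short m r h3,
    f4Psi_long m rbar h4, frobenius_def, f4_theta_theta_sq m hK]
  unfold pairEl
  exact ((hc _ _).eq).symm

/-- the class elements are fixed by `σ` -/
theorem clsEl_fixed (m : ℕ) (hK : Fintype.card K = 2 ^ (2 * m + 1)) (a b c d : ℕ) (ha : a < 48) (hb : b < 48)
    (hc : c < 48) (hd : d < 48)
    (r1 : rhoF4 a = b) (r2 : rhoF4 b = a) (r3 : rhoF4 c = d) (r4 : rhoF4 d = c)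
    (l1 : lamF4 a = 2) (l2 : lamF4 b = 1) (l3 : lamF4 c = 2) (l4 : lamF4 d = 1)
    (hab : ∀ t u : K, fX b u * fX a t = fX a t * fX b u * (fX c (t * u) * fX d (t ^ 2 * u)))
    (hcd : ∀ t u : K, Commute (fX c t) (fX d u)) (t u : K) :
    ((f4Sigma m ⟨clsEl m a b c d t u, clsEl_mem_group m a b c d t u⟩ : ↥(chevF4.group K)) : GL chevF4.Idx K) =
      clsEl m a b c d t u := by
  have e : (⟨clsEl m a b c d t u, clsEl_mem_group m a b c d t u⟩ : ↥(chevF4.group K)) =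
      ⟨fX a (f4Theta K m t), cert12_F4.c6.c2.xA_mem_group _ _⟩ * ⟨fX b t, cert12_F4.c6.c2.xA_mem_group _ _⟩ *
      ⟨fX c (f4Theta K m t * t + u), cert12_F4.c6.c2.xA_mem_group _ _⟩ *
      ⟨fX d (f4Theta K m u ^ 2), cert12_F4.c6.c2.xA_mem_group _ _⟩ := rfl
  rw [e, map_mul, map_mul, map_mul, Subgroup.coe_mul, Subgroup.coe_mul, Subgroup.coe_mul, f4Sigma_xA m a ha,
    f4Sigma_xA m b hb, f4Sigma_xA m c hc, f4Sigma_xA m d hd, r1, r2, r3, r4, f4Psi_short m a l1, f4Psi_long m b l2,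
    f4Psi_short m c l3, f4Psi_long m d l4, frobenius_def, frobenius_def, f4_theta_theta_sq m hK,
    f4_theta_sq_theta m hK, hab]
  unfold clsEl
  have e1 : fX a (f4Theta K m t) * fX b t * (fX c (f4Theta K m t * t) * fX d (f4Theta K m t ^ 2 * t)) *
      fX d (f4Theta K m (f4Theta K m t * t + u) ^ 2) * fX c u =
      fX a (f4Theta K m t) * fX b t * (fX c (f4Theta K m t * t) * fX c u) *
        (fX d (f4Theta K m t ^ 2 * t) * fX d (f4Theta K m (f4Theta K m t * t + u) ^ 2)) := by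
    have h1 := (hcd u (f4Theta K m (f4Theta K m t * t + u) ^ 2)).eq
    have h2 := (hcd u (f4Theta K m t ^ 2 * t)).eq
    simp only [mul_assoc]
    rw [← h1, ← mul_assoc (fX d _) (fX c u), ← h2]
    simp only [mul_assoc]
  rw [e1, fX_mul, fX_mul]
  have e2 : f4Theta K m t ^ 2 * t + f4Theta K m (f4Theta K m t * t + u) ^ 2 = f4Theta K m u ^ 2 := by
    rw [map_add, map_mul, add_sq, mul_pow, f4_theta_theta_sq m hK]
    have h2 : (2 : K) = 0 := by
      have := CharP.cast_eq_zero K 2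
      exact_mod_cast this
    have : f4Theta K m t ^ 2 * t + (t * f4Theta K m t ^ 2 + 2 * (f4Theta K m (f4Theta K m t) * f4Theta K m t) *
        f4Theta K m u + f4Theta K m u ^ 2) = 2 * (f4Theta K m t ^ 2 * t + (f4Theta K m (f4Theta K m t) * f4Theta K m t) *
        f4Theta K m u) + f4Theta K m u ^ 2 := by ring
    rw [this, h2, zero_mul, zero_add]
  rw [e2]

end F4

end Cfsg.Agent.Lib.H29.Chev
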