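import Mathlib
import Cfsg.Prelude.Def_ChevStructure
import Cfsg.Prelude.Def_LieTwisted
import Cfsg.Agent.Lib.H29.ChevF4e
import Cfsg.Agent.Lib.H29.ChevF4c

/-!
# The fixed points of `σ` in the root subgroups of the two fundamental classes
-/

set_option autoImplicit false
set_option linter.unusedSectionVars false
set_option linter.unusedSimpArgs false
set_option linter.unusedVariables false

namespace Cfsg.Agent.Lib.H29.Chev

open Cfsg.Lie Matrix

section Gen

variable {D : ChevalleyDatum} {fd : FD} {fx : FX} {fc : FC} {fz : FZ} {F : Type*} [Field F]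

/-- an ordered product whose parameters vanish outside a list of roots -/
theorem Cert12.oprod_filter (C : Cert12 D fd fx fc fz) (t : ℕ → F) (p : ℕ → Bool) (h : ∀ r, p r = false → t r = 0)
    (k : ℕ) : ∀ m, C.oprod t m k = (((List.range' m k).filter p).map fun r => C.c6.c2.xA r (t r)).prod := by
  induction k with
  | zero => intro m; simp [Cert12.oprod]
  | succ k ih =>
    intro m
    rw [C.oprod_succ, ih (m + 1), List.range'_succ, List.filter_cons]
    by_cases hp : p m = true
    · rw [if_pos hp, List.map_cons, List.prod_cons]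
    · rw [if_neg hp, h m (by simpa using hp), C.c6.c2.xA_zero, one_mul]

/-- the elements of `V_Ψ` for `Ψ` given by a sorted list of positive roots -/
theorem Cert12.mem_Vm_list (C : Cert12 D fd fx fc fz) (Ls : List ℕ) (hcl : fd.Closed (· ∈ Ls))
    (hs : (List.range' (fd.n / 2) (fd.n - fd.n / 2)).filter (fun r => decide (r ∈ Ls)) = Ls)
    (g : GL D.Idx F) (hg : g ∈ Vm D F (· ∈ Ls) (fd.n / 2)) :
    ∃ t : ℕ → F, g = (Ls.map fun r => C.c6.c2.xA r (t r)).prod := by
  have hev := C.c6.c2.heven
  have hk : fd.n / 2 + (fd.n - fd.n / 2) = fd.n := by omega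
  obtain ⟨t, ht, rfl⟩ := C.Vm_oprod _ hcl _ _ hk (le_refl _) g hg
  refine ⟨t, ?_⟩
  rw [C.oprod_filter t (fun r => decide (r ∈ Ls)) (fun r hr => ht r (fun h => by simp [h.1] at hr)), hs]

theorem Cert12.list_prod_inj (C : Cert12 D fd fx fc fz) (Ls : List ℕ)
    (hs : (List.range' (fd.n / 2) (fd.n - fd.n / 2)).filter (fun r => decide (r ∈ Ls)) = Ls)
    (t t' : ℕ → F) (h : (Ls.map fun r => C.c6.c2.xA r (t r)).prod = (Ls.map fun r => C.c6.c2.xA r (t' r)).prod) :
    ∀ r ∈ Ls, t r = t' r := by
  have hev := C.c6.c2.heven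
  have hk : fd.n / 2 + (fd.n - fd.n / 2) = fd.n := by omega
  classical
  let T : ℕ → F := fun r => if r ∈ Ls then t r else 0
  let T' : ℕ → F := fun r => if r ∈ Ls then t' r else 0
  have e1 := C.oprod_filter T (fun r => decide (r ∈ Ls)) (fun r hr => by
    simp only [T]; rw [if_neg (by simpa using hr)]) (fd.n - fd.n / 2) (fd.n / 2)
  have e2 := C.oprod_filter T' (fun r => decide (r ∈ Ls)) (fun r hr => by
    simp only [T']; rw [if_neg (by simpa using hr)]) (fd.n - fd.n / 2) (fd.n / 2)
  rw [hs] at e1 e2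
  have c1 : (Ls.map fun r => C.c6.c2.xA r (T r)) = Ls.map fun r => C.c6.c2.xA r (t r) := by
    apply List.map_congr_left
    intro r hr
    simp only [T]; rw [if_pos hr]
  have c2 : (Ls.map fun r => C.c6.c2.xA r (T' r)) = Ls.map fun r => C.c6.c2.xA r (t' r) := by
    apply List.map_congr_left
    intro r hr
    simp only [T']; rw [if_pos hr]
  rw [c1] at e1
  rw [c2] at e2
  have := C.oprod_unique _ _ hk (le_refl _) T T' (by rw [e1, e2, h])
  intro r hr
  have hr' : r ∈ (List.range' (fd.n / 2) (fd.n - fd.n / 2)).filter (fun r => decide (r ∈ Ls)) := by rw [hs]; exact hr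
  rw [List.mem_filter, List.mem_range'_1] at hr'
  have := this r hr'.1.1 (by omega)
  simp only [T, T'] at this
  rwa [if_pos hr, if_pos hr] at this

end Gen

end Cfsg.Agent.Lib.H29.Chev
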