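import Mathlib
import Cfsg.Prelude.Def_ChevStructure
import Cfsg.Agent.Lib.H29.ChevF4c

/-!
# A checker for chains of classes of roots
-/

set_option autoImplicit false
set_option linter.unusedSectionVars false
set_option linter.unusedSimpArgs false
set_option linter.unusedVariables false

namespace Cfsg.Agent.Lib.H29.Chev

open Cfsg.Lie Matrix

variable {fd : FD}

/-- membership in one of the classes of a list, as a Boolean -/
def plB (L : List (List ℕ)) (s : ℕ) : Bool := L.any fun c => c.contains s

theorem plB_iff (L : List (List ℕ)) (s : ℕ) : plB L s = true ↔ PL L s := by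
  unfold plB PL
  rw [List.any_eq_true]
  constructor
  · rintro ⟨c, hc, h⟩
    exact ⟨c, hc, by simpa using h⟩
  · rintro ⟨c, hc, h⟩
    exact ⟨c, hc, by simpa using h⟩

/-- closedness of a Boolean predicate on the positive roots -/
def FD.chkClosedB (fd : FD) (p : ℕ → Bool) : Bool :=
  (List.range fd.n).all fun r => (List.range fd.n).all fun s =>
    !(decide (fd.n / 2 ≤ r) && decide (fd.n / 2 ≤ s) && !(decide (r = s)) && p r && p s) ||
      (fd.commT r s).all fun c => p c.1

theorem FD.chkClosedB_spec (p : ℕ → Bool) (h : fd.chkClosedB p = true) : fd.Closed (fun s => p s = true) := by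
  intro r s hr hs hpr hps hne hΨr hΨs c hc
  unfold FD.chkClosedB at h
  rw [List.all_eq_true] at h
  have h1 := h r (List.mem_range.mpr hr)
  rw [List.all_eq_true] at h1
  have h2 := h1 s (List.mem_range.mpr hs)
  rw [Bool.or_eq_true] at h2
  rcases h2 with h2 | h2
  · exfalso
    simp only [Bool.not_eq_true', Bool.and_eq_false_iff, Bool.not_eq_false', decide_eq_false_iff_not, decide_eq_true_eq] at h2
    rcases h2 with (((h2 | h2) | h2) | h2) | h2
    · exact h2 hpr
    · exact h2 hps
    · exact hne h2
    · rw [hΨr] at h2; exact absurd h2 (by decide)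
    · rw [hΨs] at h2; exact absurd h2 (by decide)
  · rw [List.all_eq_true] at h2
    exact h2 c hc

/-- the ideal condition, as a Boolean -/
def FD.chkIdealB (fd : FD) (p q : ℕ → Bool) : Bool :=
  (List.range fd.n).all fun r => (List.range fd.n).all fun s =>
    !(decide (fd.n / 2 ≤ r) && decide (fd.n / 2 ≤ s) && p r && q s) ||
      (!(decide (r = s)) && (fd.commT r s).all fun c => q c.1)

theorem FD.chkIdealB_spec (p q : ℕ → Bool) (h : fd.chkIdealB p q = true) :
    fd.IdealP (fun s => p s = true) (fun s => q s = true) := by
  intro r s hr hs hpr hps hSr hΨs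
  unfold FD.chkIdealB at h
  rw [List.all_eq_true] at h
  have h1 := h r (List.mem_range.mpr hr)
  rw [List.all_eq_true] at h1
  have h2 := h1 s (List.mem_range.mpr hs)
  rw [Bool.or_eq_true] at h2
  rcases h2 with h2 | h2
  · exfalso
    simp only [Bool.not_eq_true', Bool.and_eq_false_iff, decide_eq_false_iff_not] at h2
    rcases h2 with ((h2 | h2) | h2) | h2
    · exact h2 hpr
    · exact h2 hps
    · rw [hSr] at h2; exact absurd h2 (by decide)
    · rw [hΨs] at h2; exact absurd h2 (by decide)
  · rw [Bool.and_eq_true] at h2
    obtain ⟨h3, h4⟩ := h2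
    refine ⟨?_, ?_⟩
    · intro he
      simp only [Bool.not_eq_true', decide_eq_false_iff_not] at h3
      exact h3 he
    · rw [List.all_eq_true] at h4
      exact h4

/-- the chain condition, as a Boolean -/
def FD.chkChainF4 (fd : FD) (ρ : ℕ → ℕ) : List (List ℕ) → Bool
  | [] => true
  | c :: L => !c.isEmpty && (c.all fun s => decide (fd.n / 2 ≤ s) && decide (s < fd.n) && c.contains (ρ s)) &&
      fd.chkClosedB (fun s => c.contains s) && fd.chkClosedB (plB L) &&
      fd.chkIdealB (fun s => c.contains s) (plB L) && (c.all fun s => !plB L s) && fd.chkChainF4 ρ L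

theorem FD.chkChainF4_spec (ρ : ℕ → ℕ) : ∀ L : List (List ℕ), fd.chkChainF4 ρ L = true → ChainOK fd ρ L
  | [], _ => trivial
  | c :: L, h => by
    unfold FD.chkChainF4 at h
    simp only [Bool.and_eq_true] at h
    obtain ⟨⟨⟨⟨⟨⟨h1, h2⟩, h3⟩, h4⟩, h5⟩, h6⟩, h7⟩ := h
    refine ⟨?_, ?_, ?_, ?_, ?_, ?_, FD.chkChainF4_spec ρ L h7⟩
    · intro he
      rw [he] at h1
      exact absurd h1 (by decide)
    · intro s hs
      rw [List.all_eq_true] at h2
      have := h2 s hs
      simp only [Bool.and_eq_true, decide_eq_true_eq, List.contains_iff_mem] at this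
      exact ⟨this.1.1, this.1.2, this.2⟩
    · have := FD.chkClosedB_spec _ h3
      have e : (fun s => c.contains s = true) = (· ∈ c) := by
        funext s; simp
      rwa [e] at this
    · have := FD.chkClosedB_spec _ h4
      have e : (fun s => plB L s = true) = PL L := by
        funext s; exact propext (plB_iff L s)
      rwa [e] at this
    · have := FD.chkIdealB_spec _ _ h5
      have e : (fun s => c.contains s = true) = (· ∈ c) := by
        funext s; simp
      have e' : (fun s => plB L s = true) = PL L := by
        funext s; exact propext (plB_iff L s)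
      rwa [e, e'] at this
    · intro s hs hP
      rw [List.all_eq_true] at h6
      have := h6 s hs
      rw [← plB_iff] at hP
      rw [hP] at this
      exact absurd this (by decide)

end Cfsg.Agent.Lib.H29.Chev
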