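import Mathlib
import Cfsg.Prelude.Def_ChevStructure
import Cfsg.Prelude.Def_LieTwisted
import Cfsg.Agent.Lib.H29.ChevF4e
import Cfsg.Agent.Lib.H29.ChevF4g
import Cfsg.Agent.Lib.H29.ChevRee5

/-!
# The large Ree group lies in the fixed points of `σ`
-/

set_option autoImplicit false
set_option linter.unusedSectionVars false
set_option linter.unusedSimpArgs false
set_option linter.unusedVariables false

namespace Cfsg.Agent.Lib.H29.Chev

open Cfsg.Lie Matrix

section F4

variable {K : Type*} [Field K] [CharP K 2]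

theorem fX_33_24 (t u : K) : Commute (fX 33 t) (fX 24 u) :=
  fX_comm_nil 33 24 (by decide) (by decide) (by decide) (by decide) (by decide) t u
theorem fX_33_23 (t u : K) : Commute (fX 33 t) (fX 23 u) :=
  fX_comm_nil 33 23 (by decide) (by decide) (by decide) (by decide) (by decide) t u
theorem fX_14_24 (t u : K) : Commute (fX 14 t) (fX 24 u) :=
  fX_comm_nil 14 24 (by decide) (by decide) (by decide) (by decide) (by decide) t u
theorem fX_14_23 (t u : K) : Commute (fX 14 t) (fX 23 u) :=
  fX_comm_nil 14 23 (by decide) (by decide) (by decide) (by decide) (by decide) t u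
theorem fX_28_30 (t u : K) : Commute (fX 28 t) (fX 30 u) :=
  fX_comm_nil 28 30 (by decide) (by decide) (by decide) (by decide) (by decide) t u
theorem fX_19_17 (t u : K) : Commute (fX 19 t) (fX 17 u) :=
  fX_comm_nil 19 17 (by decide) (by decide) (by decide) (by decide) (by decide) t u
theorem fX_27_30 (t u : K) : Commute (fX 27 t) (fX 30 u) :=
  fX_comm_nil 27 30 (by decide) (by decide) (by decide) (by decide) (by decide) t u
theorem fX_25_28 (t u : K) : Commute (fX 25 t) (fX 28 u) :=
  fX_comm_nil 25 28 (by decide) (by decide) (by decide) (by decide) (by decide) t u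
theorem fX_25_30 (t u : K) : Commute (fX 25 t) (fX 30 u) :=
  fX_comm_nil 25 30 (by decide) (by decide) (by decide) (by decide) (by decide) t u
theorem fX_27_28 (t u : K) : Commute (fX 27 t) (fX 28 u) :=
  fX_comm_two 27 28 30 2 (by decide) (by decide) (by decide) (by decide) (Or.inl rfl) (by decide) t u

theorem fX_b2_27 (t u : K) : fX 25 u * fX 27 t = fX 27 t * fX 25 u * (fX 28 (t * u) * fX 30 (t ^ 2 * u)) :=
  fX_b2 27 25 28 30 (-1) (-1) (by decide) (by decide) (by decide) (by decide) (Or.inr rfl) (Or.inr rfl) (by decide) t u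

theorem fX_b2_20 (t u : K) : fX 22 u * fX 20 t = fX 20 t * fX 22 u * (fX 19 (t * u) * fX 17 (t ^ 2 * u)) :=
  fX_b2 20 22 19 17 1 (-1) (by decide) (by decide) (by decide) (by decide) (Or.inl rfl) (Or.inr rfl) (by decide) t u

variable [Fintype K]

theorem pU_fixed (m : ℕ) (hK : Fintype.card K = 2 ^ (2 * m + 1)) (t : K) :
    ((f4Sigma m ⟨pU m t, pairEl_mem_group m 33 24 t⟩ : ↥(chevF4.group K)) : GL chevF4.Idx K) = pU m t :=
  pairEl_fixed m hK 33 24 (by decide) (by decide) (by decide) (by decide) (by decide) (by decide) fX_33_24 t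

theorem pV_fixed (m : ℕ) (hK : Fintype.card K = 2 ^ (2 * m + 1)) (t : K) :
    ((f4Sigma m ⟨pV m t, pairEl_mem_group m 14 23 t⟩ : ↥(chevF4.group K)) : GL chevF4.Idx K) = pV m t :=
  pairEl_fixed m hK 14 23 (by decide) (by decide) (by decide) (by decide) (by decide) (by decide) fX_14_23 t

theorem cU_fixed (m : ℕ) (hK : Fintype.card K = 2 ^ (2 * m + 1)) (t u : K) :
    ((f4Sigma m ⟨cU m t u, clsEl_mem_group m 27 25 28 30 t u⟩ : ↥(chevF4.group K)) : GL chevF4.Idx K) = cU m t u :=
  clsEl_fixed m hK 27 25 28 30 (by decide) (by decide) (by decide) (by decide) (by decide) (by decide) (by decide)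
    (by decide) (by decide) (by decide) (by decide) (by decide) fX_b2_27 fX_28_30 t u

theorem cV_fixed (m : ℕ) (hK : Fintype.card K = 2 ^ (2 * m + 1)) (t u : K) :
    ((f4Sigma m ⟨cV m t u, clsEl_mem_group m 20 22 19 17 t u⟩ : ↥(chevF4.group K)) : GL chevF4.Idx K) = cV m t u :=
  clsEl_fixed m hK 20 22 19 17 (by decide) (by decide) (by decide) (by decide) (by decide) (by decide) (by decide)
    (by decide) (by decide) (by decide) (by decide) (by decide) fX_b2_20 fX_19_17 t u

/-- the large Ree group consists of fixed points of `σ` -/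
theorem twistedF4_le_fix (m : ℕ) (hK : Fintype.card K = 2 ^ (2 * m + 1)) :
    twistedF4 K (2 ^ m) ≤ fixGL (f4Sigma (K := K) m) := by
  apply twistedF4_le
  · intro t; exact (mem_fixGL _ _).mpr ⟨_, pU_fixed m hK t⟩
  · intro t; exact (mem_fixGL _ _).mpr ⟨_, pV_fixed m hK t⟩
  · intro t u; exact (mem_fixGL _ _).mpr ⟨_, cU_fixed m hK t u⟩
  · intro t u; exact (mem_fixGL _ _).mpr ⟨_, cV_fixed m hK t u⟩

theorem twistedF4_le_group (m : ℕ) : twistedF4 K (2 ^ m) ≤ chevF4.group K := by
  apply twistedF4_le
  · intro t; exact pairEl_mem_group m _ _ t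
  · intro t; exact pairEl_mem_group m _ _ t
  · intro t u; exact clsEl_mem_group m _ _ _ _ t u
  · intro t u; exact clsEl_mem_group m _ _ _ _ t u

/-- the chain of the classes of positive roots -/
def chainLF4 : List (List ℕ) :=
  [[24, 33], [26, 34, 36, 42], [38, 43], [29, 41, 44, 47], [39, 45], [31, 35, 40, 46], [32, 37], [25, 27, 28, 30]]

theorem chainF4 : ChainOK fdF4 rhoF4 chainLF4 := FD.chkChainF4_spec rhoF4 chainLF4 (by decide +kernel)

end F4

end Cfsg.Agent.Lib.H29.Chev
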