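import Mathlib
import Cfsg.Prelude.Def_ChevStructure
import Cfsg.Agent.Lib.H29.ChevGen19
import Cfsg.Agent.Lib.H29.ChevGen13

/-!
# Identities between words in root elements with constant parameters, in characteristic `p`
-/

set_option autoImplicit false
set_option linter.unusedSectionVars false
set_option linter.unusedSimpArgs false
set_option linter.unusedVariables false

namespace Cfsg.Agent.Lib.H29.Chev

open Cfsg.Lie Matrix

variable {D : ChevalleyDatum} {fd : FD} {fx : FX} {F : Type*} [Field F]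

/-- the sum of the coefficients of `e_i` in a polynomial vector -/
def FD.pvSum : PV → ℕ → ℤ
  | [], _ => 0
  | e :: v, i => (bif Nat.beq e.1 i then e.2.2.2 else 0) + FD.pvSum v i

/-- reduction of a vector modulo `p`, one entry for each index below `N` -/
def FD.pvNorm (p N : ℕ) (v : PV) : PV := (List.range N).map fun i => (i, 0, 0, FD.pvSum v i % (p : ℤ))

/-- apply a word with constant parameters, the last letter first, reducing modulo `p` after each letter -/
def FD.pvWordN (fd : FD) (p : ℕ) (w : List (ℕ × ℤ × ℕ × ℕ)) (v : PV) : PV :=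
  w.foldr (fun x v => FD.pvNorm p (fd.l + fd.n) (fd.pvX x.1 x.2.1 0 0 v)) v

/-- two words with constant parameters have the same matrix modulo `p` -/
def FD.wordEqMod (fd : FD) (p : ℕ) (w₁ w₂ : List (ℕ × ℤ × ℕ × ℕ)) : Bool :=
  (w₁.all fun x => Nat.blt x.1 fd.n) && (w₂.all fun x => Nat.blt x.1 fd.n) &&
  (List.range (fd.l + fd.n)).all fun c =>
    (List.range (fd.l + fd.n)).all fun i =>
      intBeq ((FD.pvSum (fd.pvWordN p w₁ [(c, 0, 0, 1)]) i - FD.pvSum (fd.pvWordN p w₂ [(c, 0, 0, 1)]) i) % (p : ℤ)) 0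

theorem pvEv_one (v : PV) (i : D.Idx) : pvEv D (1 : F) 1 v i = ((FD.pvSum v (code D i) : ℤ) : F) := by
  induction v with
  | nil => simp [pvEv, FD.pvSum]
  | cons e v ih =>
    rw [pvEv_cons, ih]
    show _ = (((bif Nat.beq e.1 (code D i) then e.2.2.2 else 0) + FD.pvSum v (code D i) : ℤ) : F)
    by_cases h : e.1 = code D i
    · have : Nat.beq e.1 (code D i) = true := (natBeq_iff _ _).mpr h
      simp [h, this]
    · have : Nat.beq e.1 (code D i) = false := by
        rw [← Bool.not_eq_true, natBeq_iff]; exact h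
      simp [h, this]

theorem pvSum_append (v w : PV) (i : ℕ) : FD.pvSum (v ++ w) i = FD.pvSum v i + FD.pvSum w i := by
  induction v with
  | nil => simp [FD.pvSum]
  | cons e v ih =>
    show (bif Nat.beq e.1 i then e.2.2.2 else 0) + FD.pvSum (v ++ w) i = _
    rw [ih]
    show _ = (bif Nat.beq e.1 i then e.2.2.2 else 0) + FD.pvSum v i + FD.pvSum w i
    ring

theorem pvSum_range (N : ℕ) (f : ℕ → ℤ) (i : ℕ) :
    FD.pvSum ((List.range N).map fun j => (j, 0, 0, f j)) i = if i < N then f i else 0 := by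
  induction N with
  | zero => simp [FD.pvSum]
  | succ N ih =>
    rw [List.range_succ, List.map_append, pvSum_append, ih]
    show _ + ((bif Nat.beq N i then f N else 0) + 0) = _
    by_cases h : N = i
    · subst h
      have : Nat.beq N N = true := (natBeq_iff _ _).mpr rfl
      simp [this]
    · have : Nat.beq N i = false := by
        rw [← Bool.not_eq_true, natBeq_iff]; exact h
      simp only [this, cond_false, add_zero]
      by_cases h2 : i < N
      · rw [if_pos h2, if_pos (by omega)]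
      · rw [if_neg h2, if_neg (by omega)]

theorem pvEv_pvNorm (p : ℕ) [CharP F p] (h : Agrees D fd) (v : PV) :
    pvEv D (1 : F) 1 (FD.pvNorm p (fd.l + fd.n) v) = pvEv D (1 : F) 1 v := by
  funext i
  have hi : code D i < fd.l + fd.n := by rw [← h.hl, ← h.hn]; exact code_lt D i
  rw [pvEv_one, pvEv_one]
  unfold FD.pvNorm
  rw [pvSum_range, if_pos hi]
  have h2 : ((p : ℤ)) ∣ FD.pvSum v (code D i) % (p : ℤ) - FD.pvSum v (code D i) := by
    rw [Int.emod_def]
    exact ⟨-(FD.pvSum v (code D i) / (p : ℤ)), by ring⟩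
  have h3 := (CharP.intCast_eq_zero_iff F p _).mpr h2
  rw [Int.cast_sub, sub_eq_zero] at h3
  exact h3

theorem pvBdd_pvNorm (p N : ℕ) (v : PV) : pvBdd N (FD.pvNorm p N v) := by
  intro e he
  unfold FD.pvNorm at he
  obtain ⟨j, hj, rfl⟩ := List.mem_map.mp he
  exact List.mem_range.mp hj

theorem pvWordN_spec (p : ℕ) [CharP F p] (h : Agrees D fd) (hc : fd.ChkAdd) (w : List (ℕ × ℤ × ℕ × ℕ))
    (hw : ∀ x ∈ w, x.1 < fd.n) (v : PV) (hv : pvBdd (fd.l + fd.n) v) :
    pvBdd (fd.l + fd.n) (fd.pvWordN p w v) ∧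
      pvEv D (1 : F) 1 (fd.pvWordN p w v) = (wMat D (1 : F) 1 w).mulVec (pvEv D (1 : F) 1 v) := by
  induction w with
  | nil => exact ⟨hv, by simp [FD.pvWordN, wMat]⟩
  | cons x w ih =>
    obtain ⟨b1, e1⟩ := ih (fun y hy => hw y (List.mem_cons_of_mem _ hy))
    have hx := hw x List.mem_cons_self
    have e0 : fd.pvWordN p (x :: w) v = FD.pvNorm p (fd.l + fd.n) (fd.pvX x.1 x.2.1 0 0 (fd.pvWordN p w v)) := rfl
    rw [e0]
    refine ⟨pvBdd_pvNorm _ _ _, ?_⟩
    rw [pvEv_pvNorm p h, pvEv_pvX h _ hx _ _ _ 1 1 _ b1, e1, Matrix.mulVec_mulVec]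
    unfold wMat
    rw [List.map_cons, List.prod_cons]
    simp only [one_pow, mul_one]

theorem wordEqMod_sound (p : ℕ) [CharP F p] (h : Agrees D fd) (hc : fd.ChkAdd) (w₁ w₂ : List (ℕ × ℤ × ℕ × ℕ))
    (hchk : fd.wordEqMod p w₁ w₂ = true) : wMat D (1 : F) 1 w₁ = wMat D (1 : F) 1 w₂ := by
  simp only [FD.wordEqMod, Bool.and_eq_true, List.all_eq_true, List.mem_range, natBlt_iff, intBeq_iff] at hchk
  obtain ⟨⟨hw₁, hw₂⟩, hcols⟩ := hchk
  apply mat_eq_of_cols h _ _ (1 : F) 1
  intro c hcn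
  have hv : pvBdd (fd.l + fd.n) [(c, 0, 0, 1)] := by
    intro e he; rw [List.mem_singleton] at he; rw [he]; exact hcn
  rw [← (pvWordN_spec p h hc _ hw₁ _ hv).2, ← (pvWordN_spec p h hc _ hw₂ _ hv).2]
  funext i
  rw [pvEv_one, pvEv_one]
  have hi : code D i < fd.l + fd.n := by rw [← h.hl, ← h.hn]; exact code_lt D i
  have := hcols c hcn (code D i) hi
  have h2 : ((p : ℤ)) ∣ FD.pvSum (fd.pvWordN p w₁ [(c, 0, 0, 1)]) (code D i) -
      FD.pvSum (fd.pvWordN p w₂ [(c, 0, 0, 1)]) (code D i) := Int.dvd_of_emod_eq_zero this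
  have h3 := (CharP.intCast_eq_zero_iff F p _).mpr h2
  rw [Int.cast_sub, sub_eq_zero] at h3
  exact h3

namespace Cert2

variable (C : Cert2 D fd fx)
include C

/-- the matrix of a word with integer parameters -/
theorem wordG_int_val (w : List (ℕ × ℤ × ℕ × ℕ)) (hw : ∀ x ∈ w, x.1 < fd.n) :
    ((C.wordG (w.map fun x => (x.1, ((x.2.1 : ℤ) : F))) : GL D.Idx F) : Matrix D.Idx D.Idx F) =
      wMat D (1 : F) 1 w := by
  rw [C.wordG_val]
  unfold ChevalleyDatum.wordMat wMat
  rw [List.map_map]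
  congr 1
  apply List.map_congr_left
  intro x hx
  simp only [Function.comp, one_pow, mul_one]
  exact x_eq_XR C.agrees x.1 (hw x hx) _

/-- two words with integer parameters which agree modulo `p` -/
theorem wordG_eq_of_mod (p : ℕ) [CharP F p] (w₁ w₂ : List (ℕ × ℤ × ℕ × ℕ))
    (hchk : fd.wordEqMod p w₁ w₂ = true) :
    C.wordG (w₁.map fun x => (x.1, ((x.2.1 : ℤ) : F))) = C.wordG (w₂.map fun x => (x.1, ((x.2.1 : ℤ) : F))) := by
  have hchk' := hchk
  simp only [FD.wordEqMod, Bool.and_eq_true, List.all_eq_true, List.mem_range, natBlt_iff] at hchk'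
  obtain ⟨⟨hw₁, hw₂⟩, _⟩ := hchk'
  apply gl_ext
  rw [C.wordG_int_val w₁ hw₁, C.wordG_int_val w₂ hw₂]
  exact wordEqMod_sound p C.agrees C.chk.add w₁ w₂ hchk

end Cert2

end Cfsg.Agent.Lib.H29.Chev
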