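import Mathlib
import Cfsg.Prelude.Def_ChevStructure
import Cfsg.Agent.Lib.H29.ChevRee10

/-!
# Identities between words with constant parameters in characteristic `p`: a sparse checker
-/

set_option autoImplicit false
set_option linter.unusedSectionVars false
set_option linter.unusedSimpArgs false
set_option linter.unusedVariables false

namespace Cfsg.Agent.Lib.H29.Chev

open Cfsg.Lie Matrix

variable {D : ChevalleyDatum} {fd : FD} {fx : FX} {F : Type*} [Field F]

/-- reduction modulo `p`, dropping the zero entries -/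
def FD.pvNormS (p N : ℕ) (v : PV) : PV := (FD.pvNorm p N v).filter fun e => !(intBeq e.2.2.2 0)

/-- apply a word with constant parameters, the last letter first, reducing after each letter -/
def FD.pvWordS (fd : FD) (p : ℕ) (w : List (ℕ × ℤ × ℕ × ℕ)) (v : PV) : PV :=
  w.foldr (fun x v => FD.pvNormS p (fd.l + fd.n) (fd.pvX x.1 x.2.1 0 0 v)) v

/-- equality of the indices and of the coefficients -/
def FD.pvBeq : PV → PV → Bool
  | [], [] => true
  | a :: l, b :: l' => Nat.beq a.1 b.1 && intBeq a.2.2.2 b.2.2.2 && FD.pvBeq l l'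
  | _, _ => false

/-- two words with constant parameters have the same matrix modulo `p` -/
def FD.wordEqModS (fd : FD) (p : ℕ) (w₁ w₂ : List (ℕ × ℤ × ℕ × ℕ)) : Bool :=
  (w₁.all fun x => Nat.blt x.1 fd.n) && (w₂.all fun x => Nat.blt x.1 fd.n) &&
  (List.range (fd.l + fd.n)).all fun c => FD.pvBeq (fd.pvWordS p w₁ [(c, 0, 0, 1)]) (fd.pvWordS p w₂ [(c, 0, 0, 1)])

theorem pvBeq_sum : ∀ (v w : PV), FD.pvBeq v w = true → ∀ i, FD.pvSum v i = FD.pvSum w i
  | [], [], _, _ => rfl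
  | a :: l, b :: l', h, i => by
    simp only [FD.pvBeq, Bool.and_eq_true, natBeq_iff, intBeq_iff] at h
    obtain ⟨⟨h1, h2⟩, h3⟩ := h
    show (bif Nat.beq a.1 i then a.2.2.2 else 0) + FD.pvSum l i = (bif Nat.beq b.1 i then b.2.2.2 else 0) + FD.pvSum l' i
    rw [h1, h2, pvBeq_sum l l' h3 i]
  | [], _ :: _, h, _ => by simp [FD.pvBeq] at h
  | _ :: _, [], h, _ => by simp [FD.pvBeq] at h

theorem pvSum_filter (v : PV) (i : ℕ) :
    FD.pvSum (v.filter fun e => !(intBeq e.2.2.2 0)) i = FD.pvSum v i := by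
  induction v with
  | nil => rfl
  | cons e v ih =>
    by_cases h : e.2.2.2 = 0
    · have : (!(intBeq e.2.2.2 0)) = false := by
        rw [Bool.not_eq_false']; exact (intBeq_iff _ _).mpr h
      rw [List.filter_cons_of_neg (p := fun e : ℕ × ℕ × ℕ × ℤ => !(intBeq e.2.2.2 0)) (by rw [this]; simp), ih]
      show _ = (bif Nat.beq e.1 i then e.2.2.2 else 0) + FD.pvSum v i
      rw [h]
      cases Nat.beq e.1 i <;> simp
    · have : (!(intBeq e.2.2.2 0)) = true := by
        rw [Bool.not_eq_true']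
        rw [← Bool.not_eq_true, intBeq_iff]; exact h
      rw [List.filter_cons_of_pos (p := fun e : ℕ × ℕ × ℕ × ℤ => !(intBeq e.2.2.2 0)) this]
      show (bif Nat.beq e.1 i then e.2.2.2 else 0) + _ = (bif Nat.beq e.1 i then e.2.2.2 else 0) + FD.pvSum v i
      rw [ih]

theorem pvEv_pvNormS (p : ℕ) [CharP F p] (h : Agrees D fd) (v : PV) :
    pvEv D (1 : F) 1 (FD.pvNormS p (fd.l + fd.n) v) = pvEv D (1 : F) 1 v := by
  rw [← pvEv_pvNorm p h v]
  funext i
  rw [pvEv_one, pvEv_one]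
  unfold FD.pvNormS
  rw [pvSum_filter]

theorem pvBdd_pvNormS (p N : ℕ) (v : PV) : pvBdd N (FD.pvNormS p N v) := by
  intro e he
  unfold FD.pvNormS at he
  exact pvBdd_pvNorm p N v e (List.mem_filter.mp he).1

theorem pvWordS_spec (p : ℕ) [CharP F p] (h : Agrees D fd) (hc : fd.ChkAdd) (w : List (ℕ × ℤ × ℕ × ℕ))
    (hw : ∀ x ∈ w, x.1 < fd.n) (v : PV) (hv : pvBdd (fd.l + fd.n) v) :
    pvBdd (fd.l + fd.n) (fd.pvWordS p w v) ∧
      pvEv D (1 : F) 1 (fd.pvWordS p w v) = (wMat D (1 : F) 1 w).mulVec (pvEv D (1 : F) 1 v) := by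
  induction w with
  | nil => exact ⟨hv, by simp [FD.pvWordS, wMat]⟩
  | cons x w ih =>
    obtain ⟨b1, e1⟩ := ih (fun y hy => hw y (List.mem_cons_of_mem _ hy))
    have hx := hw x List.mem_cons_self
    have e0 : fd.pvWordS p (x :: w) v = FD.pvNormS p (fd.l + fd.n) (fd.pvX x.1 x.2.1 0 0 (fd.pvWordS p w v)) := rfl
    rw [e0]
    refine ⟨pvBdd_pvNormS _ _ _, ?_⟩
    rw [pvEv_pvNormS p h, pvEv_pvX h _ hx _ _ _ 1 1 _ b1, e1, Matrix.mulVec_mulVec]
    unfold wMat
    rw [List.map_cons, List.prod_cons]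
    simp only [one_pow, mul_one]

theorem wordEqModS_sound (p : ℕ) [CharP F p] (h : Agrees D fd) (hc : fd.ChkAdd) (w₁ w₂ : List (ℕ × ℤ × ℕ × ℕ))
    (hchk : fd.wordEqModS p w₁ w₂ = true) : wMat D (1 : F) 1 w₁ = wMat D (1 : F) 1 w₂ := by
  simp only [FD.wordEqModS, Bool.and_eq_true, List.all_eq_true, List.mem_range, natBlt_iff] at hchk
  obtain ⟨⟨hw₁, hw₂⟩, hcols⟩ := hchk
  apply mat_eq_of_cols h _ _ (1 : F) 1
  intro c hcn
  have hv : pvBdd (fd.l + fd.n) [(c, 0, 0, 1)] := by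
    intro e he; rw [List.mem_singleton] at he; rw [he]; exact hcn
  rw [← (pvWordS_spec p h hc _ hw₁ _ hv).2, ← (pvWordS_spec p h hc _ hw₂ _ hv).2]
  funext i
  rw [pvEv_one, pvEv_one, pvBeq_sum _ _ (hcols c hcn)]

namespace Cert2

variable (C : Cert2 D fd fx)
include C

/-- two words with integer parameters which agree modulo `p` -/
theorem wordG_eq_of_modS (p : ℕ) [CharP F p] (w₁ w₂ : List (ℕ × ℤ × ℕ × ℕ))
    (hchk : fd.wordEqModS p w₁ w₂ = true) :
    C.wordG (w₁.map fun x => (x.1, ((x.2.1 : ℤ) : F))) = C.wordG (w₂.map fun x => (x.1, ((x.2.1 : ℤ) : F))) := by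
  have hchk' := hchk
  simp only [FD.wordEqModS, Bool.and_eq_true, List.all_eq_true, List.mem_range, natBlt_iff] at hchk'
  obtain ⟨⟨hw₁, hw₂⟩, _⟩ := hchk'
  apply gl_ext
  rw [C.wordG_int_val w₁ hw₁, C.wordG_int_val w₂ hw₂]
  exact wordEqModS_sound p C.agrees C.chk.add w₁ w₂ hchk

end Cert2

end Cfsg.Agent.Lib.H29.Chev
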