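import Mathlib
import Cfsg.Prelude.Def_ChevStructure
import Cfsg.Prelude.Def_LieTwisted
import Cfsg.Agent.Lib.H29.ChevF4h
import Cfsg.Agent.Lib.H29.ChevModS
import Cfsg.Agent.Lib.H29.ChevGen39

/-!
# The two generators of the group `N¹` of the large Ree group
-/

set_option autoImplicit false
set_option linter.unusedSectionVars false
set_option linter.unusedSimpArgs false
set_option linter.unusedVariables false

namespace Cfsg.Agent.Lib.H29.Chev

open Cfsg.Lie Matrix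

section F4

variable {K : Type*} [Field K] [CharP K 2]

/-- the element `n₁` -/
noncomputable def fN1 (K : Type*) [Field K] : GL chevF4.Idx K := cert12_F4.wordN K [0, 3]

/-- the element `n₂` -/
noncomputable def fN2 (K : Type*) [Field K] : GL chevF4.Idx K := cert12_F4.wordN K [1, 2, 1, 2]

theorem fN1_mem_monomial : fN1 K ∈ chevF4.monomialSubgroup K := cert12_F4.wordN_mem _
theorem fN2_mem_monomial : fN2 K ∈ chevF4.monomialSubgroup K := cert12_F4.wordN_mem _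

theorem perm_fN1 : cert12_F4.c6.c2.Perm (fN1 K) (fdF4.wordP fxF4 [0, 3]) :=
  cert12_F4.perm_wordN _ (by unfold IsWd; decide)

theorem perm_fN2 : cert12_F4.c6.c2.Perm (fN2 K) (fdF4.wordP fxF4 [1, 2, 1, 2]) :=
  cert12_F4.perm_wordN _ (by unfold IsWd; decide)

def wN1a : List (ℕ × ℤ × ℕ × ℕ) :=
  [(33, 1, 0, 0), (24, 1, 0, 0), (14, 1, 0, 0), (23, 1, 0, 0), (33, 1, 0, 0), (24, 1, 0, 0)]
def wN1b : List (ℕ × ℤ × ℕ × ℕ) :=
  [(33, 1, 0, 0), (14, -1, 0, 0), (33, 1, 0, 0), (24, 1, 0, 0), (23, -1, 0, 0), (24, 1, 0, 0)]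

set_option maxRecDepth 100000 in
theorem wN1_chk : fdF4.wordEqModS 2 wN1a wN1b = true := by decide +kernel

def wN2a : List (ℕ × ℤ × ℕ × ℕ) :=
  [(28, 1, 0, 0), (30, 1, 0, 0), (19, 1, 0, 0), (17, 1, 0, 0), (28, 1, 0, 0), (30, 1, 0, 0), (19, 1, 0, 0), (17, 1, 0, 0),
   (28, 1, 0, 0), (30, 1, 0, 0)]
def wN2b : List (ℕ × ℤ × ℕ × ℕ) :=
  [(27, 1, 0, 0), (20, -1, 0, 0), (27, 1, 0, 0), (25, 1, 0, 0), (22, -1, 0, 0), (25, 1, 0, 0),
   (27, 1, 0, 0), (20, -1, 0, 0), (27, 1, 0, 0), (25, 1, 0, 0), (22, -1, 0, 0), (25, 1, 0, 0)]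

set_option maxRecDepth 100000 in
theorem wN2_chk : fdF4.wordEqModS 2 wN2a wN2b = true := by decide +kernel

theorem f4Theta_one (m : ℕ) : f4Theta K m 1 = 1 := map_one _
theorem f4Theta_zero (m : ℕ) : f4Theta K m 0 = 0 := map_zero _

theorem pU_one (m : ℕ) : pU m (1 : K) = fX 33 1 * fX 24 1 := by
  unfold pU pairEl; rw [f4Theta_one]
theorem pV_one (m : ℕ) : pV m (1 : K) = fX 14 1 * fX 23 1 := by
  unfold pV pairEl; rw [f4Theta_one]
theorem cU_zero_one (m : ℕ) : cU m (0 : K) 1 = fX 28 1 * fX 30 1 := by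
  unfold cU clsEl
  simp only [f4Theta_zero, f4Theta_one, cert12_F4.c6.c2.xA_zero, mul_zero, zero_add, one_pow, one_mul]
theorem cV_zero_one (m : ℕ) : cV m (0 : K) 1 = fX 19 1 * fX 17 1 := by
  unfold cV clsEl
  simp only [f4Theta_zero, f4Theta_one, cert12_F4.c6.c2.xA_zero, mul_zero, zero_add, one_pow, one_mul]

theorem fN1_eq (m : ℕ) : fN1 K = pU m 1 * pV m 1 * pU m 1 := by
  have key := cert12_F4.c6.c2.wordG_eq_of_modS (F := K) 2 wN1a wN1b wN1_chk
  unfold Cert2.wordG wN1a wN1b at key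
  simp only [List.map_cons, List.map_nil, List.prod_cons, List.prod_nil, mul_one, Int.cast_one, Int.cast_neg] at key
  unfold fN1
  simp only [Cert12.wordN, show (0 : ℕ) < fdF4.l from by decide, show (3 : ℕ) < fdF4.l from by decide, dite_true, mul_one]
  rw [pU_one, pV_one]
  have e0 : fdF4.simples.getD 0 0 = 33 := by decide
  have e3 : fdF4.simples.getD 3 0 = 24 := by decide
  have h0 : cert12_F4.c6.c2.nG (F := K) (fdF4.simples.getD 0 0) (cert12_F4.c6.c2.simple_lt 0 (by decide)) =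
      fX 33 1 * fX 14 (-1) * fX 33 1 := cert12_F4.c6.c2.nG_eq_xA' _ _
  have h3 : cert12_F4.c6.c2.nG (F := K) (fdF4.simples.getD 3 0) (cert12_F4.c6.c2.simple_lt 3 (by decide)) =
      fX 24 1 * fX 23 (-1) * fX 24 1 := cert12_F4.c6.c2.nG_eq_xA' _ _
  rw [h0, h3]
  simp only [fX, mul_assoc]
  exact key.symm

theorem fN2_eq (m : ℕ) : fN2 K = cU m 0 1 * cV m 0 1 * cU m 0 1 * cV m 0 1 * cU m 0 1 := by
  have key := cert12_F4.c6.c2.wordG_eq_of_modS (F := K) 2 wN2a wN2b wN2_chk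
  unfold Cert2.wordG wN2a wN2b at key
  simp only [List.map_cons, List.map_nil, List.prod_cons, List.prod_nil, mul_one, Int.cast_one, Int.cast_neg] at key
  unfold fN2
  simp only [Cert12.wordN, show (1 : ℕ) < fdF4.l from by decide, show (2 : ℕ) < fdF4.l from by decide, dite_true, mul_one]
  rw [cU_zero_one, cV_zero_one]
  have h1 : cert12_F4.c6.c2.nG (F := K) (fdF4.simples.getD 1 0) (cert12_F4.c6.c2.simple_lt 1 (by decide)) =
      fX 27 1 * fX 20 (-1) * fX 27 1 := cert12_F4.c6.c2.nG_eq_xA' _ _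
  have h2 : cert12_F4.c6.c2.nG (F := K) (fdF4.simples.getD 2 0) (cert12_F4.c6.c2.simple_lt 2 (by decide)) =
      fX 25 1 * fX 22 (-1) * fX 25 1 := cert12_F4.c6.c2.nG_eq_xA' _ _
  rw [h1, h2]
  simp only [fX, mul_assoc]
  exact key.symm

theorem fN1_mem_tw (m : ℕ) : fN1 K ∈ twistedF4 K (2 ^ m) := by
  rw [fN1_eq m]
  exact mul_mem (mul_mem (pU_mem_tw m _) (pV_mem_tw m _)) (pU_mem_tw m _)

theorem fN2_mem_tw (m : ℕ) : fN2 K ∈ twistedF4 K (2 ^ m) := by
  rw [fN2_eq m]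
  exact mul_mem (mul_mem (mul_mem (mul_mem (cU_mem_tw m _ _) (cV_mem_tw m _ _)) (cU_mem_tw m _ _)) (cV_mem_tw m _ _))
    (cU_mem_tw m _ _)

end F4

end Cfsg.Agent.Lib.H29.Chev
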