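import Mathlib
import Cfsg.Prelude.Def_ChevStructure
import Cfsg.Prelude.Def_LieTwisted
import Cfsg.Agent.Lib.H29.ChevF4i
import Cfsg.Agent.Lib.H29.ChevTw16
import Cfsg.Agent.Lib.H29.ChevGen37

/-!
# The permutations of the roots induced by the fixed points of `σ` in `N`
-/

set_option autoImplicit false
set_option linter.unusedSectionVars false
set_option linter.unusedSimpArgs false
set_option linter.unusedVariables false

namespace Cfsg.Agent.Lib.H29.Chev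

open Cfsg.Lie Matrix

/-- the sixteen permutations of the roots: `(w₁ w₂)^k w₁^ε` at the place `2 k + ε` -/
def tabF4 : List (List ℕ) :=
  [[0, 1, 2, 3, 4, 5, 6, 7, 8, 9, 10, 11, 12, 13, 14, 15, 16, 17, 18, 19, 20, 21, 22, 23, 24, 25, 26, 27, 28, 29, 30, 31, 32, 33, 34, 35, 36, 37, 38, 39, 40, 41, 42, 43, 44, 45, 46, 47],
   [1, 0, 2, 7, 15, 17, 16, 3, 8, 10, 9, 19, 18, 20, 33, 4, 6, 5, 12, 11, 13, 22, 21, 24, 23, 26, 25, 34, 36, 35, 42, 41, 43, 14, 27, 29, 28, 38, 37, 39, 44, 31, 30, 32, 40, 45, 47, 46],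
   [1, 17, 15, 7, 2, 0, 16, 19, 10, 8, 33, 3, 20, 18, 9, 24, 22, 42, 12, 36, 34, 6, 26, 4, 43, 21, 41, 13, 11, 35, 5, 25, 23, 38, 29, 27, 44, 14, 39, 37, 28, 31, 47, 45, 40, 32, 30, 46],
   [17, 1, 15, 19, 24, 42, 22, 7, 10, 33, 8, 36, 12, 34, 38, 2, 16, 0, 20, 3, 18, 26, 6, 43, 4, 41, 21, 29, 44, 27, 47, 31, 45, 9, 13, 35, 11, 39, 14, 37, 40, 25, 5, 23, 28, 32, 46, 30],
   [17, 42, 24, 19, 15, 1, 22, 36, 33, 10, 38, 7, 34, 12, 8, 43, 26, 47, 20, 44, 29, 16, 41, 2, 45, 6, 31, 18, 3, 27, 0, 21, 4, 39, 35, 13, 40, 9, 37, 14, 11, 25, 46, 32, 28, 23, 5, 30],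
   [42, 17, 24, 36, 43, 47, 26, 19, 33, 38, 10, 44, 20, 29, 39, 15, 22, 1, 34, 7, 12, 41, 16, 45, 2, 31, 6, 35, 40, 13, 46, 25, 32, 8, 18, 27, 3, 37, 9, 14, 28, 21, 0, 4, 11, 23, 30, 5],
   [42, 47, 43, 36, 24, 17, 26, 44, 38, 33, 39, 19, 29, 20, 10, 45, 41, 46, 34, 40, 35, 22, 31, 15, 32, 16, 25, 12, 7, 13, 1, 6, 2, 37, 27, 18, 28, 8, 14, 9, 3, 21, 30, 23, 11, 4, 0, 5],
   [47, 42, 43, 44, 45, 46, 41, 36, 38, 39, 33, 40, 34, 35, 37, 24, 26, 17, 29, 19, 20, 31, 22, 32, 15, 25, 16, 27, 28, 18, 30, 21, 23, 10, 12, 13, 7, 14, 8, 9, 11, 6, 1, 2, 3, 4, 5, 0],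
   [47, 46, 45, 44, 43, 42, 41, 40, 39, 38, 37, 36, 35, 34, 33, 32, 31, 30, 29, 28, 27, 26, 25, 24, 23, 22, 21, 20, 19, 18, 17, 16, 15, 14, 13, 12, 11, 10, 9, 8, 7, 6, 5, 4, 3, 2, 1, 0],
   [46, 47, 45, 40, 32, 30, 31, 44, 39, 37, 38, 28, 29, 27, 14, 43, 41, 42, 35, 36, 34, 25, 26, 23, 24, 21, 22, 13, 11, 12, 5, 6, 4, 33, 20, 18, 19, 9, 10, 8, 3, 16, 17, 15, 7, 2, 0, 1],
   [46, 30, 32, 40, 45, 47, 31, 28, 37, 39, 14, 44, 27, 29, 38, 23, 25, 5, 35, 11, 13, 41, 21, 43, 4, 26, 6, 34, 36, 12, 42, 22, 24, 9, 18, 20, 3, 33, 8, 10, 19, 16, 0, 2, 7, 15, 17, 1],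
   [30, 46, 32, 28, 23, 5, 25, 40, 37, 14, 39, 11, 35, 13, 9, 45, 31, 47, 27, 44, 29, 21, 41, 4, 43, 6, 26, 18, 3, 20, 0, 16, 2, 38, 34, 12, 36, 8, 33, 10, 7, 22, 42, 24, 19, 15, 1, 17],
   [30, 5, 23, 28, 32, 46, 25, 11, 14, 37, 9, 40, 13, 35, 39, 4, 21, 0, 27, 3, 18, 31, 6, 45, 2, 41, 16, 29, 44, 20, 47, 26, 43, 8, 12, 34, 7, 38, 10, 33, 36, 22, 1, 15, 19, 24, 42, 17],
   [5, 30, 23, 11, 4, 0, 21, 28, 14, 9, 37, 3, 27, 18, 8, 32, 25, 46, 13, 40, 35, 6, 31, 2, 45, 16, 41, 12, 7, 34, 1, 22, 15, 39, 29, 20, 44, 10, 38, 33, 19, 26, 47, 43, 36, 24, 17, 42],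
   [5, 0, 4, 11, 23, 30, 21, 3, 9, 14, 8, 28, 18, 27, 37, 2, 6, 1, 13, 7, 12, 25, 16, 32, 15, 31, 22, 35, 40, 34, 46, 41, 45, 10, 20, 29, 19, 39, 33, 38, 44, 26, 17, 24, 36, 43, 47, 42],
   [0, 5, 4, 3, 2, 1, 6, 11, 9, 8, 14, 7, 13, 12, 10, 23, 21, 30, 18, 28, 27, 16, 25, 15, 32, 22, 31, 20, 19, 29, 17, 26, 24, 37, 35, 34, 40, 33, 39, 38, 36, 41, 46, 45, 44, 43, 42, 47]]

/-- their multiplication table -/
def mulLF4 : List (List ℕ) :=
  [[0, 1, 2, 3, 4, 5, 6, 7, 8, 9, 10, 11, 12, 13, 14, 15],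
   [1, 0, 15, 14, 13, 12, 11, 10, 9, 8, 7, 6, 5, 4, 3, 2],
   [2, 3, 4, 5, 6, 7, 8, 9, 10, 11, 12, 13, 14, 15, 0, 1],
   [3, 2, 1, 0, 15, 14, 13, 12, 11, 10, 9, 8, 7, 6, 5, 4],
   [4, 5, 6, 7, 8, 9, 10, 11, 12, 13, 14, 15, 0, 1, 2, 3],
   [5, 4, 3, 2, 1, 0, 15, 14, 13, 12, 11, 10, 9, 8, 7, 6],
   [6, 7, 8, 9, 10, 11, 12, 13, 14, 15, 0, 1, 2, 3, 4, 5],
   [7, 6, 5, 4, 3, 2, 1, 0, 15, 14, 13, 12, 11, 10, 9, 8],
   [8, 9, 10, 11, 12, 13, 14, 15, 0, 1, 2, 3, 4, 5, 6, 7],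
   [9, 8, 7, 6, 5, 4, 3, 2, 1, 0, 15, 14, 13, 12, 11, 10],
   [10, 11, 12, 13, 14, 15, 0, 1, 2, 3, 4, 5, 6, 7, 8, 9],
   [11, 10, 9, 8, 7, 6, 5, 4, 3, 2, 1, 0, 15, 14, 13, 12],
   [12, 13, 14, 15, 0, 1, 2, 3, 4, 5, 6, 7, 8, 9, 10, 11],
   [13, 12, 11, 10, 9, 8, 7, 6, 5, 4, 3, 2, 1, 0, 15, 14],
   [14, 15, 0, 1, 2, 3, 4, 5, 6, 7, 8, 9, 10, 11, 12, 13],
   [15, 14, 13, 12, 11, 10, 9, 8, 7, 6, 5, 4, 3, 2, 1, 0]]

def tF4 (a s : ℕ) : ℕ := (tabF4.getD a []).getD s 0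
def mulF4 (a b : ℕ) : ℕ := (mulLF4.getD a []).getD b 0
def nx1 (a : ℕ) : ℕ := if a % 2 = 0 then a + 1 else a - 1
def nx2 (a : ℕ) : ℕ := if a % 2 = 1 then (a + 1) % 16 else (a + 15) % 16

theorem tF4_zero : ∀ s < 48, tF4 0 s = s := by decide +kernel
theorem tF4_lt : ∀ a < 16, ∀ s < 48, tF4 a s < 48 := by decide +kernel
theorem tF4_w1 : ∀ a < 16, ∀ s < 48, tF4 a (fdF4.wordP fxF4 [0, 3] s) = tF4 (nx1 a) s := by decide +kernel
theorem tF4_w2 : ∀ a < 16, ∀ s < 48, tF4 a (fdF4.wordP fxF4 [1, 2, 1, 2] s) = tF4 (nx2 a) s := by decide +kernel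
theorem w1_invol : ∀ s < 48, fdF4.wordP fxF4 [0, 3] (fdF4.wordP fxF4 [0, 3] s) = s := by decide +kernel
theorem w2_invol : ∀ s < 48, fdF4.wordP fxF4 [1, 2, 1, 2] (fdF4.wordP fxF4 [1, 2, 1, 2] s) = s := by decide +kernel
theorem w1_lt : ∀ s < 48, fdF4.wordP fxF4 [0, 3] s < 48 := by decide +kernel
theorem w2_lt : ∀ s < 48, fdF4.wordP fxF4 [1, 2, 1, 2] s < 48 := by decide +kernel
theorem nx1_lt : ∀ a < 16, nx1 a < 16 := by decide
theorem nx2_lt : ∀ a < 16, nx2 a < 16 := by decide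
theorem nx1_nx1 : ∀ a < 16, nx1 (nx1 a) = a := by decide
theorem nx2_nx2 : ∀ a < 16, nx2 (nx2 a) = a := by decide
theorem tF4_mul : ∀ a < 16, ∀ b < 16, ∀ s < 48, tF4 a (tF4 b s) = tF4 (mulF4 a b) s := by decide +kernel
theorem mulF4_lt : ∀ a < 16, ∀ b < 16, mulF4 a b < 16 := by decide +kernel
theorem tF4_inj : ∀ a < 16, ∀ b < 16, tF4 a 24 = tF4 b 24 → tF4 a 25 = tF4 b 25 → a = b := by decide +kernel
theorem rhoF4_neg' : ∀ r < 24, rhoF4 r < 24 := by decide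

section F4

variable {K : Type*} [Field K] [Fintype K] [CharP K 2]

theorem hpi_sw (π : ℕ → ℕ) (hπ : ∀ s < fdF4.n, π s < fdF4.n ∧ π (fdF4.n - 1 - s) = fdF4.n - 1 - π s) (i : ℕ)
    (hi : i < fdF4.l) :
    ∀ s < fdF4.n, π (fdF4.sw fxF4 i s) < fdF4.n ∧
      π (fdF4.sw fxF4 i (fdF4.n - 1 - s)) = fdF4.n - 1 - π (fdF4.sw fxF4 i s) := by
  intro s hs
  have h1 := cert12_F4.sw_lt i s hi hs
  rw [cert12_F4.sw_neg i s hi hs]
  exact ⟨(hπ _ h1).1, (hπ _ h1).2⟩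

/-- the permutation of a fixed element of `N` is in the table -/
theorem f4_descent (m : ℕ) (hK : Fintype.card K = 2 ^ (2 * m + 1)) :
    ∀ N : ℕ, ∀ (g : GL chevF4.Idx K) (π : ℕ → ℕ), g ∈ chevF4.monomialSubgroup K → g ∈ fixGL (f4Sigma (K := K) m) →
      cert12_F4.c6.c2.Perm g π → fdF4.invC π = N → ∃ a < 16, ∀ s < 48, π s = tF4 a s := by
  intro N
  induction N using Nat.strong_induction_on with
  | _ N ih =>
    intro g π hg hfix hπ hN
    obtain ⟨hgG, hfix'⟩ := (mem_fixGL _ _).mp hfix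
    have hfix'' : f4Sigma (K := K) m ⟨g, hgG⟩ = ⟨g, hgG⟩ := Subtype.ext hfix'
    have hρ : ∀ s < 48, π (rhoF4 s) = rhoF4 (π s) := fun s hs =>
      (f4RootTw (K := K) m).perm_comm ⟨g, hgG⟩ hfix'' π hπ s hs
    have hπn : ∀ s < fdF4.n, π s < fdF4.n ∧ π (fdF4.n - 1 - s) = fdF4.n - 1 - π s :=
      fun s hs => ⟨(hπ s hs).1, (hπ s hs).2.1⟩
    by_cases hpos : ∀ i < fdF4.l, fdF4.n / 2 ≤ π (fdF4.simples.getD i 0)
    · have h1 := cert12_F4.mem_diag_of_pos g hg π hπ hpos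
      have h2 := cert12_F4.perm_unique g _ _ hπ (cert12_F4.c6.perm_diag g h1)
      exact ⟨0, by norm_num, fun s hs => by rw [h2 s hs, tF4_zero s hs]; rfl⟩
    · have hcases : (π 33 < 24 ∧ π 24 < 24) ∨ (π 27 < 24 ∧ π 25 < 24) := by
        by_contra hne
        rw [not_or] at hne
        apply hpos
        have h24 : π 24 = rhoF4 (π 33) := hρ 33 (by norm_num)
        have h33 : π 33 = rhoF4 (π 24) := hρ 24 (by norm_num)
        have h25 : π 25 = rhoF4 (π 27) := hρ 27 (by norm_num)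
        have h27 : π 27 = rhoF4 (π 25) := hρ 25 (by norm_num)
        have a33 : 24 ≤ π 33 := by
          by_contra h
          have h' : π 33 < 24 := by omega
          have := rhoF4_neg' _ h'
          rw [← h24] at this
          exact hne.1 ⟨h', this⟩
        have a24 : 24 ≤ π 24 := by
          by_contra h
          have h' : π 24 < 24 := by omega
          have := rhoF4_neg' _ h'
          rw [← h33] at this
          omega
        have a27 : 24 ≤ π 27 := by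
          by_contra h
          have h' : π 27 < 24 := by omega
          have := rhoF4_neg' _ h'
          rw [← h25] at this
          exact hne.2 ⟨h', this⟩
        have a25 : 24 ≤ π 25 := by
          by_contra h
          have h' : π 25 < 24 := by omega
          have := rhoF4_neg' _ h'
          rw [← h27] at this
          omega
        intro i hi
        have hi' : i < 4 := hi
        interval_cases i
        · exact a33
        · exact a27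
        · exact a25
        · exact a24
      rcases hcases with ⟨n33, n24⟩ | ⟨n27, n25⟩
      · -- the orbit `{33, 24}`
        have hlen := cert12_F4.invC_word [0, 3] π (by unfold IsWd; decide) hπn (by decide +kernel) (by
          intro i hi
          simp only [List.mem_cons, List.not_mem_nil, or_false] at hi
          rcases hi with rfl | rfl
          · exact n33
          · exact n24)
        have hg' : g * fN1 K ∈ chevF4.monomialSubgroup K := mul_mem hg fN1_mem_monomial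
        have hf' : g * fN1 K ∈ fixGL (f4Sigma (K := K) m) :=
          mul_mem hfix (twistedF4_le_fix m hK (fN1_mem_tw m))
        have hπ' := cert12_F4.c6.perm_mul hπ (perm_fN1 (K := K))
        obtain ⟨a', ha', hq⟩ := ih (fdF4.invC (π ∘ fdF4.wordP fxF4 [0, 3])) (by
          have : fdF4.invC (π ∘ fdF4.wordP fxF4 [0, 3]) = fdF4.invC (fun s => π (fdF4.wordP fxF4 [0, 3] s)) := rfl
          rw [this]
          simp only [List.length_cons, List.length_nil] at hlen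
          omega) _ _ hg' hf' hπ' rfl
        refine ⟨nx1 a', nx1_lt a' ha', fun s hs => ?_⟩
        have h3 := hq (fdF4.wordP fxF4 [0, 3] s) (w1_lt s hs)
        simp only [Function.comp] at h3
        rw [w1_invol s hs] at h3
        rw [h3, tF4_w1 a' ha' s hs]
      · -- the orbit `{27, 25}`
        obtain ⟨⟨π', hπ', hl'⟩, _⟩ := cert12_F4.perm_lin g hg
        have hu := cert12_F4.perm_unique g _ _ hπ hπ'
        have hcl : fdF4.Closed (fun r => π r < 24) := by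
          apply cert12_F4.closed_of_perm π' hl' (fun s hs => (hπ' s hs).1)
          intro r hr _
          rw [hu r hr]
          rfl
        have n28 : π 28 < 24 :=
          hcl 27 25 (by decide) (by decide) (by decide) (by decide) (by decide) n27 n25 (28, -1, 1, 1) (by decide)
        have n30 : π 30 < 24 :=
          hcl 27 25 (by decide) (by decide) (by decide) (by decide) (by decide) n27 n25 (30, -1, 2, 1) (by decide)
        have e1 : fdF4.simples.getD 1 0 = 27 := by decide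
        have e2 : fdF4.simples.getD 2 0 = 25 := by decide
        have s1 : fdF4.sw fxF4 1 25 = 30 := by decide
        have s2 : fdF4.sw fxF4 2 27 = 28 := by decide
        have s3 : fdF4.sw fxF4 1 28 = 28 := by decide
        have s4 : fdF4.sw fxF4 2 30 = 30 := by decide
        have s5 : fdF4.sw fxF4 1 30 = 25 := by decide
        have hπ1 := hpi_sw π hπn 1 (by decide)
        have l1 := cert12_F4.invC_sw π hπn 1 (by decide) (by rw [e1]; exact n27)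
        have hπ2 := hpi_sw _ hπ1 2 (by decide)
        have l2 := cert12_F4.invC_sw _ hπ1 2 (by decide) (by rw [e2]; show π (fdF4.sw fxF4 1 25) < _; rw [s1]; exact n30)
        have hπ3 := hpi_sw _ hπ2 1 (by decide)
        have l3 := cert12_F4.invC_sw _ hπ2 1 (by decide) (by
          rw [e1]; show π (fdF4.sw fxF4 1 (fdF4.sw fxF4 2 27)) < _; rw [s2, s3]; exact n28)
        have l4 := cert12_F4.invC_sw _ hπ3 2 (by decide) (by
          rw [e2]; show π (fdF4.sw fxF4 1 (fdF4.sw fxF4 2 (fdF4.sw fxF4 1 25))) < _; rw [s1, s4, s5]; exact n25)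
        have hg' : g * fN2 K ∈ chevF4.monomialSubgroup K := mul_mem hg fN2_mem_monomial
        have hf' : g * fN2 K ∈ fixGL (f4Sigma (K := K) m) :=
          mul_mem hfix (twistedF4_le_fix m hK (fN2_mem_tw m))
        have hπ'' := cert12_F4.c6.perm_mul hπ (perm_fN2 (K := K))
        obtain ⟨a', ha', hq⟩ := ih (fdF4.invC (π ∘ fdF4.wordP fxF4 [1, 2, 1, 2])) (by
          have : fdF4.invC (π ∘ fdF4.wordP fxF4 [1, 2, 1, 2]) =
              fdF4.invC (fun s => π (fdF4.sw fxF4 1 (fdF4.sw fxF4 2 (fdF4.sw fxF4 1 (fdF4.sw fxF4 2 s))))) := rfl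
          rw [this]
          omega) _ _ hg' hf' hπ'' rfl
        refine ⟨nx2 a', nx2_lt a' ha', fun s hs => ?_⟩
        have h3 := hq (fdF4.wordP fxF4 [1, 2, 1, 2] s) (w2_lt s hs)
        simp only [Function.comp] at h3
        rw [w2_invol s hs] at h3
        rw [h3, tF4_w2 a' ha' s hs]

end F4

end Cfsg.Agent.Lib.H29.Chev
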