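import Mathlib
import Cfsg.Prelude.Def_ChevStructure
import Cfsg.Prelude.Def_LieTwisted
import Cfsg.Agent.Lib.H29.ChevF4j

/-!
# The quotient `N¹ / H¹` of the large Ree group is dihedral of order 16
-/

set_option autoImplicit false
set_option linter.unusedSectionVars false
set_option linter.unusedSimpArgs false
set_option linter.unusedVariables false

namespace Cfsg.Agent.Lib.H29.Chev

open Cfsg.Lie Matrix

/-- the element of the dihedral group attached to a place of the table -/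
def dF4 (a : ℕ) : DihedralGroup 8 :=
  if a % 2 = 0 then DihedralGroup.r ((a / 2 : ℕ) : ZMod 8) else DihedralGroup.sr (-((a / 2 : ℕ) : ZMod 8))

theorem dF4_mul : ∀ a < 16, ∀ b < 16, dF4 (mulF4 a b) = dF4 a * dF4 b := by decide +kernel
theorem dF4_inj : ∀ a < 16, ∀ b < 16, dF4 a = dF4 b → a = b := by decide +kernel
theorem dF4_surj : ∀ d : DihedralGroup 8, ∃ a < 16, dF4 a = d := by decide +kernel
theorem dF4_zero : dF4 0 = 1 := by decide +kernel

section F4

variable {K : Type*} [Field K] [Fintype K] [CharP K 2]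

/-- the elements of `N` fixed by `σ` act on the roots as in the table -/
theorem f4_perm_exists (m : ℕ) (hK : Fintype.card K = 2 ^ (2 * m + 1)) (g : GL chevF4.Idx K)
    (hg : g ∈ chevF4.monomialSubgroup K) (hfix : g ∈ fixGL (f4Sigma (K := K) m)) :
    ∃ a < 16, cert12_F4.c6.c2.Perm g (tF4 a) := by
  obtain ⟨⟨π, hπ, _⟩, _⟩ := cert12_F4.perm_lin g hg
  obtain ⟨a, ha, h⟩ := f4_descent m hK _ g π hg hfix hπ rfl
  exact ⟨a, ha, cert12_F4.perm_congr g _ _ hπ h⟩

theorem f4_perm_unique (g : GL chevF4.Idx K) (a b : ℕ) (ha : a < 16) (hb : b < 16)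
    (h1 : cert12_F4.c6.c2.Perm g (tF4 a)) (h2 : cert12_F4.c6.c2.Perm g (tF4 b)) : a = b := by
  have := cert12_F4.perm_unique g _ _ h1 h2
  exact tF4_inj a ha b hb (this 24 (by decide)) (this 25 (by decide))

theorem f4_perm_mul (g g' : GL chevF4.Idx K) (a b : ℕ) (ha : a < 16) (hb : b < 16)
    (h1 : cert12_F4.c6.c2.Perm g (tF4 a)) (h2 : cert12_F4.c6.c2.Perm g' (tF4 b)) :
    cert12_F4.c6.c2.Perm (g * g') (tF4 (mulF4 a b)) :=
  cert12_F4.perm_congr _ _ _ (cert12_F4.c6.perm_mul h1 h2) (fun s hs => tF4_mul a ha b hb s hs)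

theorem f4_perm_one : cert12_F4.c6.c2.Perm (1 : GL chevF4.Idx K) (tF4 0) :=
  cert12_F4.perm_congr _ _ _ cert12_F4.c6.perm_one (fun s hs => (tF4_zero s hs).symm)

/-- every permutation of the table is induced by an element of `N¹` -/
theorem f4_perm_surj (m : ℕ) : ∀ a < 16, ∃ g ∈ chevF4.monomialSubgroup K ⊓ twistedF4 K (2 ^ m),
    cert12_F4.c6.c2.Perm g (tF4 a) := by
  intro a
  induction a with
  | zero => exact fun _ => ⟨1, one_mem _, f4_perm_one⟩
  | succ a ih =>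
    intro ha
    obtain ⟨g, hg, hπ⟩ := ih (by omega)
    by_cases hpar : a % 2 = 0
    · refine ⟨g * fN1 K, mul_mem hg (Subgroup.mem_inf.mpr ⟨fN1_mem_monomial, fN1_mem_tw m⟩), ?_⟩
      have e : a + 1 = nx1 a := by unfold nx1; rw [if_pos hpar]
      rw [e]
      exact cert12_F4.perm_congr _ _ _ (cert12_F4.c6.perm_mul hπ perm_fN1) (fun s hs => tF4_w1 a (by omega) s hs)
    · refine ⟨g * fN2 K, mul_mem hg (Subgroup.mem_inf.mpr ⟨fN2_mem_monomial, fN2_mem_tw m⟩), ?_⟩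
      have e : a + 1 = nx2 a := by
        unfold nx2; rw [if_pos (by omega)]; omega
      rw [e]
      exact cert12_F4.perm_congr _ _ _ (cert12_F4.c6.perm_mul hπ perm_fN2) (fun s hs => tF4_w2 a (by omega) s hs)

/-- the place in the table of the permutation of an element of `N¹` -/
noncomputable def idxF4 (m : ℕ) (hK : Fintype.card K = 2 ^ (2 * m + 1))
    (x : ↥(chevF4.monomialSubgroup K ⊓ twistedF4 K (2 ^ m))) : ℕ :=
  (f4_perm_exists m hK x.1 (Subgroup.mem_inf.mp x.2).1 (twistedF4_le_fix m hK (Subgroup.mem_inf.mp x.2).2)).choose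

theorem idxF4_spec (m : ℕ) (hK : Fintype.card K = 2 ^ (2 * m + 1))
    (x : ↥(chevF4.monomialSubgroup K ⊓ twistedF4 K (2 ^ m))) :
    idxF4 m hK x < 16 ∧ cert12_F4.c6.c2.Perm (x : GL chevF4.Idx K) (tF4 (idxF4 m hK x)) :=
  (f4_perm_exists m hK x.1 (Subgroup.mem_inf.mp x.2).1 (twistedF4_le_fix m hK (Subgroup.mem_inf.mp x.2).2)).choose_spec

theorem idxF4_eq (m : ℕ) (hK : Fintype.card K = 2 ^ (2 * m + 1))
    (x : ↥(chevF4.monomialSubgroup K ⊓ twistedF4 K (2 ^ m))) (a : ℕ) (ha : a < 16)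
    (h : cert12_F4.c6.c2.Perm (x : GL chevF4.Idx K) (tF4 a)) : idxF4 m hK x = a :=
  f4_perm_unique _ _ _ (idxF4_spec m hK x).1 ha (idxF4_spec m hK x).2 h

/-- the homomorphism of `N¹` onto the dihedral group of order 16 -/
noncomputable def phiF4 (m : ℕ) (hK : Fintype.card K = 2 ^ (2 * m + 1)) :
    ↥(chevF4.monomialSubgroup K ⊓ twistedF4 K (2 ^ m)) →* DihedralGroup 8 :=
  MonoidHom.mk' (fun x => dF4 (idxF4 m hK x)) (by
    intro x y
    obtain ⟨hx, px⟩ := idxF4_spec m hK x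
    obtain ⟨hy, py⟩ := idxF4_spec m hK y
    have := idxF4_eq m hK (x * y) _ (mulF4_lt _ hx _ hy) (f4_perm_mul _ _ _ _ hx hy px py)
    show dF4 (idxF4 m hK (x * y)) = _
    rw [this, dF4_mul _ hx _ hy])

theorem phiF4_apply (m : ℕ) (hK : Fintype.card K = 2 ^ (2 * m + 1))
    (x : ↥(chevF4.monomialSubgroup K ⊓ twistedF4 K (2 ^ m))) : phiF4 m hK x = dF4 (idxF4 m hK x) := rfl

theorem phiF4_surjective (m : ℕ) (hK : Fintype.card K = 2 ^ (2 * m + 1)) : Function.Surjective (phiF4 m hK) := by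
  intro d
  obtain ⟨a, ha, rfl⟩ := dF4_surj d
  obtain ⟨g, hg, hπ⟩ := f4_perm_surj (K := K) m a ha
  refine ⟨⟨g, hg⟩, ?_⟩
  rw [phiF4_apply, idxF4_eq m hK ⟨g, hg⟩ a ha hπ]

theorem phiF4_ker (m : ℕ) (hK : Fintype.card K = 2 ^ (2 * m + 1)) :
    (phiF4 m hK).ker = (chevF4.diagonalSubgroup K ⊓ twistedF4 K (2 ^ m)).subgroupOf
      (chevF4.monomialSubgroup K ⊓ twistedF4 K (2 ^ m)) := by
  ext x
  rw [MonoidHom.mem_ker, Subgroup.mem_subgroupOf, phiF4_apply, Subgroup.mem_inf]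
  obtain ⟨hx, px⟩ := idxF4_spec m hK x
  constructor
  · intro h
    have h0 : idxF4 m hK x = 0 := dF4_inj _ hx 0 (by norm_num) (by rw [h, dF4_zero])
    rw [h0] at px
    refine ⟨?_, (Subgroup.mem_inf.mp x.2).2⟩
    apply cert12_F4.mem_diag_of_pos _ (Subgroup.mem_inf.mp x.2).1 _ px
    intro i hi
    rw [tF4_zero _ (cert12_F4.c6.c2.simple_lt i hi)]
    exact cert12_F4.c6.simple_pos i hi
  · rintro ⟨h, _⟩
    have := idxF4_eq m hK x 0 (by norm_num)
      (cert12_F4.perm_congr _ _ _ (cert12_F4.c6.perm_diag _ h) (fun s hs => (tF4_zero s hs).symm))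
    rw [this, dF4_zero]

end F4

end Cfsg.Agent.Lib.H29.Chev
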