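import Mathlib
import Cfsg.Prelude.Def_ChevStructure
import Cfsg.Prelude.Def_LieTwisted
import Cfsg.Agent.Lib.H29.ChevF4k
import Cfsg.Agent.Lib.H29.ChevRee7

/-!
# The torus of the large Ree group
-/

set_option autoImplicit false
set_option linter.unusedSectionVars false
set_option linter.unusedSimpArgs false
set_option linter.unusedVariables false

namespace Cfsg.Agent.Lib.H29.Chev

open Cfsg.Lie Matrix

section Gen

variable {D : ChevalleyDatum} {fd : FD} {fx : FX} {fc : FC} {fz : FZ} {F : Type*} [Field F]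

namespace Cert12

variable (C : Cert12 D fd fx fc fz)
include C

/-- the diagonal entries of a conjugate of an element of `H` by an element of `N` -/
theorem dE_conj (n h : GL D.Idx F) (hn : n ∈ D.monomialSubgroup F) (hh : h ∈ D.diagonalSubgroup F) (π : ℕ → ℕ)
    (hπ : C.c6.c2.Perm n π) (r : ℕ) (hr : r < fd.n) : dE D (n * h * n⁻¹) (π r) = dE D h r := by
  obtain ⟨h1, _, c, hc⟩ := hπ r hr
  have hc0 : c ≠ 0 := by
    intro h0
    have := hc 1
    rw [h0, zero_mul, C.c6.c2.xA_zero] at this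
    have h2 : C.c6.c2.xA r (1 : F) = 1 := by
      have : C.c6.c2.xA r (1 : F) = n⁻¹ * (n * C.c6.c2.xA r 1 * n⁻¹) * n := by group
      rw [this, ‹n * C.c6.c2.xA r 1 * n⁻¹ = 1›]; group
    exact one_ne_zero (C.c6.xA_eq_one r hr _ h2)
  have hk : n * h * n⁻¹ ∈ D.diagonalSubgroup F :=
    (Subgroup.mem_normalizer_iff.mp (C.c6.c2.monomial_le_normalizer_diag hn) h).mp hh
  have e1 := C.diag_conj_xA (n * h * n⁻¹) hk (π r) h1 (c * 1)
  have e2 : n * h * n⁻¹ * C.c6.c2.xA (π r) (c * 1) * (n * h * n⁻¹)⁻¹ =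
      n * (h * C.c6.c2.xA r 1 * h⁻¹) * n⁻¹ := by
    rw [← hc 1]; group
  rw [e2, C.diag_conj_xA h hh r hr, hc] at e1
  have := C.xA_param_inj' (π r) h1 _ _ e1
  rw [mul_one, mul_one, mul_comm] at this
  exact (mul_right_cancel₀ hc0 this).symm

end Cert12

end Gen

theorem interleave3 {M : Type*} [Monoid M] (a1 a2 a3 b1 b2 b3 : M) (h12 : Commute b1 a2) (h13 : Commute b1 a3)
    (h23 : Commute b2 a3) : a1 * b1 * (a2 * b2) * (a3 * b3) = a1 * a2 * a3 * (b1 * b2 * b3) := by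
  calc a1 * b1 * (a2 * b2) * (a3 * b3) = a1 * (b1 * a2) * (b2 * a3) * b3 := by simp only [mul_assoc]
    _ = a1 * (a2 * b1) * (a3 * b2) * b3 := by rw [h12.eq, h23.eq]
    _ = a1 * a2 * (b1 * a3) * b2 * b3 := by simp only [mul_assoc]
    _ = a1 * a2 * (a3 * b1) * b2 * b3 := by rw [h13.eq]
    _ = a1 * a2 * a3 * (b1 * b2 * b3) := by simp only [mul_assoc]

section F4

variable {K : Type*} [Field K] [CharP K 2]

/-- the element `h_r(t)` -/
noncomputable def fH (r : ℕ) (t : K) : GL chevF4.Idx K := cert12_F4.nE r t * cert12_F4.nE r (-1)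

theorem fH_val (r : ℕ) (hr : r < 48) (t : K) :
    ((fH r t : GL chevF4.Idx K) : Matrix chevF4.Idx chevF4.Idx K) = chevF4.hMat K r t := by
  unfold fH
  rw [Units.val_mul, cert12_F4.nE_val r hr, cert12_F4.nE_val r hr]
  unfold ChevalleyDatum.hMat ChevalleyDatum.hWord ChevalleyDatum.nMat
  rw [wordMat_append]

theorem fH_mem_diag (r : ℕ) (hr : r < 48) (t : K) (ht : t ≠ 0) : fH r t ∈ chevF4.diagonalSubgroup K :=
  Subgroup.subset_closure ⟨r, t, hr, ht, fH_val r hr t⟩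

theorem dE_fH (r s : ℕ) (hr : r < 48) (hs : s < 48) (t : K) (ht : t ≠ 0) :
    dE chevF4 (fH r t) s = t ^ fdF4.pr s r := by
  have hs' : s < chevF4.nroots := hs
  unfold dE
  rw [dif_pos hs', fH_val r hr, cert12_F4.c6.c2.hMat_eq r hr t ht, Td_apply, if_pos rfl,
    cert12_F4.c6.c2.hExp_inr]

theorem nE_char2 (r : ℕ) (c : K) : cert12_F4.nE r c = fX r c * fX (47 - r) c⁻¹ * fX r c := by
  unfold Cert12.nE
  rw [CharTwo.neg_eq]
  rfl

theorem neg_one_char2 : (-1 : K) = 1 := CharTwo.neg_eq 1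

/-- the element `h₁(z) = h_{33}(z^θ) h_{24}(z)` -/
noncomputable def fH1 (m : ℕ) (z : K) : GL chevF4.Idx K := fH 33 (f4Theta K m z) * fH 24 z

theorem fH1_mem_diag (m : ℕ) (z : K) (hz : z ≠ 0) : fH1 m z ∈ chevF4.diagonalSubgroup K :=
  mul_mem (fH_mem_diag 33 (by decide) _ (by rw [Ne, map_eq_zero]; exact hz)) (fH_mem_diag 24 (by decide) _ hz)

theorem comm_A_B (a b c d e f : K) :
    Commute (fX 24 a * fX 23 b * fX 24 c) (fX 33 d * fX 14 e * fX 33 f) := by
  have h1 := fun t u : K => (fX_33_24 u t).symm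
  have h2 := fun t u : K => (fX_14_24 u t).symm
  have h3 := fun t u : K => (fX_33_23 u t).symm
  have h4 := fun t u : K => (fX_14_23 u t).symm
  exact (((h1 a d).mul_right (h2 a e)).mul_right (h1 a f)).mul_left
    (((h3 b d).mul_right (h4 b e)).mul_right (h3 b f)) |>.mul_left (((h1 c d).mul_right (h2 c e)).mul_right (h1 c f))

theorem pUVU_eq (m : ℕ) (z : K) :
    pU m z * pV m z⁻¹ * pU m z = cert12_F4.nE 33 (f4Theta K m z) * cert12_F4.nE 24 z := by
  rw [nE_char2, nE_char2]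
  unfold pU pV pairEl
  rw [map_inv₀]
  exact interleave3 _ _ _ _ _ _ (fX_14_24 _ _).symm (fX_33_24 _ _).symm (fX_33_23 _ _).symm

theorem fH1_eq (m : ℕ) (z : K) : fH1 m z = pU m z * pV m z⁻¹ * pU m z * (pU m 1 * pV m 1 * pU m 1) := by
  have h1 := pUVU_eq m z
  have h2 := pUVU_eq m (1 : K)
  rw [inv_one] at h2
  rw [h1, h2, f4Theta_one]
  unfold fH1 fH
  rw [neg_one_char2]
  have hc : Commute (cert12_F4.nE 24 z) (cert12_F4.nE (F := K) 33 1) := by
    rw [nE_char2, nE_char2]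
    exact comm_A_B _ _ _ _ _ _
  simp only [mul_assoc]
  rw [← mul_assoc (cert12_F4.nE 24 z), hc.eq]
  simp only [mul_assoc]

theorem fH1_mem_tw (m : ℕ) (z : K) : fH1 m z ∈ twistedF4 K (2 ^ m) := by
  rw [fH1_eq]
  exact mul_mem (mul_mem (mul_mem (pU_mem_tw m _) (pV_mem_tw m _)) (pU_mem_tw m _))
    (mul_mem (mul_mem (pU_mem_tw m _) (pV_mem_tw m _)) (pU_mem_tw m _))

theorem dE_fH1 (m : ℕ) (z : K) (hz : z ≠ 0) (s : ℕ) (hs : s < 48) :
    dE chevF4 (fH1 m z) s = f4Theta K m z ^ fdF4.pr s 33 * z ^ fdF4.pr s 24 := by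
  have hz' : f4Theta K m z ≠ 0 := by rw [Ne, map_eq_zero]; exact hz
  unfold fH1
  rw [cert12_F4.dE_mul _ _ (fH_mem_diag 33 (by decide) _ hz') (fH_mem_diag 24 (by decide) _ hz) s hs,
    dE_fH 33 s (by decide) hs _ hz', dE_fH 24 s (by decide) hs _ hz]

end F4

end Cfsg.Agent.Lib.H29.Chev
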