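import Mathlib
import Cfsg.Prelude.Def_ChevStructure
import Cfsg.Prelude.Def_LieTwisted
import Cfsg.Agent.Lib.H29.ChevF4l

/-!
# The order of the torus of the large Ree group
-/

set_option autoImplicit false
set_option linter.unusedSectionVars false
set_option linter.unusedSimpArgs false
set_option linter.unusedVariables false

namespace Cfsg.Agent.Lib.H29.Chev

open Cfsg.Lie Matrix

section Alg

variable {K : Type*} [Field K] [CharP K 2]

theorem sq_inj_char2 (x y : K) (h : x ^ 2 = y ^ 2) : x = y := by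
  have := (frobenius K 2).injective (a₁ := x) (a₂ := y)
  apply this
  rw [frobenius_def, frobenius_def, h]

theorem f4_tor_surj (θ : K →+* K) (hθ : ∀ x, θ (θ x) ^ 2 = x) (A B : K) (hA : A ≠ 0) (hB : B ≠ 0) :
    (A * θ A * θ B ^ 2 * B) ^ 2 * (θ (B * (A * θ A * θ B ^ 2 * B)) ^ 2)⁻¹ = A ∧
      (A * θ A * θ B ^ 2 * B)⁻¹ * (B * (A * θ A * θ B ^ 2 * B)) = B := by
  have hθA : θ A ≠ 0 := by rw [Ne, map_eq_zero]; exact hA
  have hθB : θ B ≠ 0 := by rw [Ne, map_eq_zero]; exact hB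
  constructor
  · simp only [map_mul, map_pow]
    have hA2 := hθ A
    have hB2 := hθ B
    have he0 : θ (θ A) ≠ 0 := by rw [Ne, map_eq_zero]; exact hθA
    have hf0 : θ (θ B) ≠ 0 := by rw [Ne, map_eq_zero]; exact hθB
    generalize θ (θ A) = e at hA2 he0 ⊢
    generalize θ (θ B) = f at hB2 hf0 ⊢
    generalize θ A = c at hθA ⊢
    generalize θ B = d at hθB ⊢
    subst hA2
    subst hB2
    field_simp
  · field_simp

theorem f4_tor_inj (θ : K →+* K) (hθ : ∀ x, θ (θ x) ^ 2 = x) (x y x' y' : K) (hx : x ≠ 0) (hy : y ≠ 0)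
    (hx' : x' ≠ 0) (hy' : y' ≠ 0) (h1 : x ^ 2 * (θ y ^ 2)⁻¹ = x' ^ 2 * (θ y' ^ 2)⁻¹)
    (h2 : x⁻¹ * y = x'⁻¹ * y') : x = x' ∧ y = y' := by
  have hθy : θ y ≠ 0 := by rw [Ne, map_eq_zero]; exact hy
  have hθy' : θ y' ≠ 0 := by rw [Ne, map_eq_zero]; exact hy'
  have hθx : θ x ≠ 0 := by rw [Ne, map_eq_zero]; exact hx
  have hθx' : θ x' ≠ 0 := by rw [Ne, map_eq_zero]; exact hx'
  have e2 : y * x' = y' * x := by
    field_simp at h2
    rw [h2]; ring
  have e1 : (x * θ y') ^ 2 = (x' * θ y) ^ 2 := by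
    field_simp at h1
    rw [mul_pow, mul_pow, h1]
    ring
  have e3 := sq_inj_char2 _ _ e1
  have e4 : θ y * θ x' = θ y' * θ x := by rw [← map_mul, ← map_mul, e2]
  -- `a = x / x'` is fixed by `θ`
  have e5 : θ (x * x'⁻¹) = x * x'⁻¹ := by
    rw [map_mul, map_inv₀]
    field_simp
    have : θ x * x' * θ y' = θ x' * x * θ y' := by
      calc θ x * x' * θ y' = x' * (θ y' * θ x) := by ring
        _ = x' * (θ y * θ x') := by rw [e4]
        _ = (x' * θ y) * θ x' := by ring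
        _ = (x * θ y') * θ x' := by rw [e3]
        _ = θ x' * x * θ y' := by ring
    exact mul_right_cancel₀ hθy' this
  have e6 : (x * x'⁻¹) ^ 2 = x * x'⁻¹ := by
    have := hθ (x * x'⁻¹)
    rw [e5, e5] at this
    exact this
  have e7 : x * x'⁻¹ = 1 := by
    have h0 : x * x'⁻¹ ≠ 0 := mul_ne_zero hx (inv_ne_zero hx')
    have : (x * x'⁻¹) * (x * x'⁻¹) = (x * x'⁻¹) * 1 := by rw [← sq, e6, mul_one]
    exact mul_left_cancel₀ h0 this
  have e8 : x = x' := by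
    field_simp at e7
    exact e7
  refine ⟨e8, ?_⟩
  subst e8
  exact mul_right_cancel₀ hx e2

end Alg

section F4

variable {K : Type*} [Field K] [Fintype K] [CharP K 2]

/-- the entries of a fixed element of `H` at the short fundamental roots -/
theorem fix_dE (m : ℕ) (h : GL chevF4.Idx K) (hh : h ∈ chevF4.diagonalSubgroup K)
    (hf : h ∈ fixGL (f4Sigma (K := K) m)) :
    dE chevF4 h 33 = f4Theta K m (dE chevF4 h 24) ∧ dE chevF4 h 27 = f4Theta K m (dE chevF4 h 25) := by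
  obtain ⟨hG, hfix⟩ := (mem_fixGL _ _).mp hf
  have e1 := (f4RootTw (K := K) m).sig_dE ⟨h, hG⟩ hh 24 (by decide)
  have e2 := (f4RootTw (K := K) m).sig_dE ⟨h, hG⟩ hh 25 (by decide)
  rw [hfix, f4Psi_long m 24 (by decide)] at e1
  rw [hfix, f4Psi_long m 25 (by decide)] at e2
  exact ⟨e1, e2⟩

/-- a fixed element of `H` is determined by its entries at the long fundamental roots -/
theorem fix_diag_ext (m : ℕ) (h h' : GL chevF4.Idx K) (hh : h ∈ chevF4.diagonalSubgroup K)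
    (hh' : h' ∈ chevF4.diagonalSubgroup K) (hf : h ∈ fixGL (f4Sigma (K := K) m))
    (hf' : h' ∈ fixGL (f4Sigma (K := K) m)) (e24 : dE chevF4 h 24 = dE chevF4 h' 24)
    (e25 : dE chevF4 h 25 = dE chevF4 h' 25) : h = h' := by
  obtain ⟨a1, a2⟩ := fix_dE m h hh hf
  obtain ⟨b1, b2⟩ := fix_dE m h' hh' hf'
  apply cert12_F4.diag_ext h h' hh hh'
  intro i hi
  have hi' : i < 4 := hi
  interval_cases i
  · show dE chevF4 h 33 = dE chevF4 h' 33
    rw [a1, b1, e24]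
  · show dE chevF4 h 27 = dE chevF4 h' 27
    rw [a2, b2, e25]
  · exact e25
  · exact e24

/-- the elements of the torus -/
noncomputable def fPhi (m : ℕ) (p : Kˣ × Kˣ) : GL chevF4.Idx K :=
  fH1 m (p.1 : K) * (fN2 K * fH1 m (p.2 : K) * (fN2 K)⁻¹)

theorem fPhi_mem_diag (m : ℕ) (p : Kˣ × Kˣ) : fPhi m p ∈ chevF4.diagonalSubgroup K := by
  apply mul_mem (fH1_mem_diag m _ p.1.ne_zero)
  exact (Subgroup.mem_normalizer_iff.mp (cert12_F4.c6.c2.monomial_le_normalizer_diag fN2_mem_monomial) _).mp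
    (fH1_mem_diag m _ p.2.ne_zero)

theorem fPhi_mem_tw (m : ℕ) (p : Kˣ × Kˣ) : fPhi m p ∈ twistedF4 K (2 ^ m) :=
  mul_mem (fH1_mem_tw m _) (mul_mem (mul_mem (fN2_mem_tw m) (fH1_mem_tw m _)) (inv_mem (fN2_mem_tw m)))

theorem dE_fPhi_24 (m : ℕ) (p : Kˣ × Kˣ) :
    dE chevF4 (fPhi m p) 24 = (p.1 : K) ^ 2 * (f4Theta K m (p.2 : K) ^ 2)⁻¹ := by
  unfold fPhi
  have hc : fN2 K * fH1 m (p.2 : K) * (fN2 K)⁻¹ ∈ chevF4.diagonalSubgroup K :=
    (Subgroup.mem_normalizer_iff.mp (cert12_F4.c6.c2.monomial_le_normalizer_diag fN2_mem_monomial) _).mp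
      (fH1_mem_diag m _ p.2.ne_zero)
  rw [cert12_F4.dE_mul _ _ (fH1_mem_diag m _ p.1.ne_zero) hc 24 (by decide)]
  have e1 := cert12_F4.dE_conj (fN2 K) (fH1 m (p.2 : K)) fN2_mem_monomial (fH1_mem_diag m _ p.2.ne_zero) _
    perm_fN2 32 (by decide)
  have e2 : fdF4.wordP fxF4 [1, 2, 1, 2] 32 = 24 := by decide
  rw [e2] at e1
  rw [e1, dE_fH1 m _ p.1.ne_zero 24 (by decide), dE_fH1 m _ p.2.ne_zero 32 (by decide)]
  have a1 : fdF4.pr 24 33 = 0 := by decide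
  have a2 : fdF4.pr 24 24 = 2 := by decide
  have a3 : fdF4.pr 32 33 = -2 := by decide
  have a4 : fdF4.pr 32 24 = 0 := by decide
  rw [a1, a2, a3, a4]
  simp only [zpow_zero, pow_zero, one_mul, mul_one, _root_.zpow_neg, zpow_ofNat]

theorem dE_fPhi_25 (m : ℕ) (p : Kˣ × Kˣ) :
    dE chevF4 (fPhi m p) 25 = (p.1 : K)⁻¹ * (p.2 : K) := by
  unfold fPhi
  have hc : fN2 K * fH1 m (p.2 : K) * (fN2 K)⁻¹ ∈ chevF4.diagonalSubgroup K :=
    (Subgroup.mem_normalizer_iff.mp (cert12_F4.c6.c2.monomial_le_normalizer_diag fN2_mem_monomial) _).mp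
      (fH1_mem_diag m _ p.2.ne_zero)
  rw [cert12_F4.dE_mul _ _ (fH1_mem_diag m _ p.1.ne_zero) hc 25 (by decide)]
  have e1 := cert12_F4.dE_conj (fN2 K) (fH1 m (p.2 : K)) fN2_mem_monomial (fH1_mem_diag m _ p.2.ne_zero) _
    perm_fN2 22 (by decide)
  have e2 : fdF4.wordP fxF4 [1, 2, 1, 2] 22 = 25 := by decide
  rw [e2] at e1
  rw [e1, dE_fH1 m _ p.1.ne_zero 25 (by decide), dE_fH1 m _ p.2.ne_zero 22 (by decide)]
  have a1 : fdF4.pr 25 33 = 0 := by decide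
  have a2 : fdF4.pr 25 24 = -1 := by decide
  have a3 : fdF4.pr 22 33 = 0 := by decide
  have a4 : fdF4.pr 22 24 = 1 := by decide
  rw [a1, a2, a3, a4]
  simp only [zpow_zero, one_mul, mul_one, _root_.zpow_neg, zpow_one]

theorem fPhi_injective (m : ℕ) (hK : Fintype.card K = 2 ^ (2 * m + 1)) : Function.Injective (fPhi (K := K) m) := by
  intro p q h
  have h1 : dE chevF4 (fPhi m p) 24 = dE chevF4 (fPhi m q) 24 := by rw [h]
  have h2 : dE chevF4 (fPhi m p) 25 = dE chevF4 (fPhi m q) 25 := by rw [h]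
  rw [dE_fPhi_24, dE_fPhi_24] at h1
  rw [dE_fPhi_25, dE_fPhi_25] at h2
  obtain ⟨e1, e2⟩ := f4_tor_inj (f4Theta K m) (f4_theta_theta_sq m hK) _ _ _ _ p.1.ne_zero p.2.ne_zero q.1.ne_zero
    q.2.ne_zero h1 h2
  exact Prod.ext (Units.ext e1) (Units.ext e2)

/-- every fixed element of `H` is one of the elements above -/
theorem fPhi_surj (m : ℕ) (hK : Fintype.card K = 2 ^ (2 * m + 1)) (h : GL chevF4.Idx K)
    (hh : h ∈ chevF4.diagonalSubgroup K) (hf : h ∈ fixGL (f4Sigma (K := K) m)) : ∃ p, fPhi m p = h := by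
  have hA := cert12_F4.dE_ne_zero h hh 24 (by decide)
  have hB := cert12_F4.dE_ne_zero h hh 25 (by decide)
  set A := dE chevF4 h 24 with hAdef
  set B := dE chevF4 h 25 with hBdef
  have hθA : f4Theta K m A ≠ 0 := by rw [Ne, map_eq_zero]; exact hA
  have hθB : f4Theta K m B ≠ 0 := by rw [Ne, map_eq_zero]; exact hB
  have hz' : A * f4Theta K m A * f4Theta K m B ^ 2 * B ≠ 0 :=
    mul_ne_zero (mul_ne_zero (mul_ne_zero hA hθA) (pow_ne_zero _ hθB)) hB
  have hz : B * (A * f4Theta K m A * f4Theta K m B ^ 2 * B) ≠ 0 := mul_ne_zero hB hz'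
  obtain ⟨s1, s2⟩ := f4_tor_surj (f4Theta K m) (f4_theta_theta_sq m hK) A B hA hB
  refine ⟨(Units.mk0 _ hz', Units.mk0 _ hz), ?_⟩
  apply fix_diag_ext m _ _ (fPhi_mem_diag m _) hh (twistedF4_le_fix m hK (fPhi_mem_tw m _)) hf
  · rw [dE_fPhi_24]
    exact s1
  · rw [dE_fPhi_25]
    exact s2

/-- the torus of the large Ree group -/
theorem f4_torus_eq (m : ℕ) (hK : Fintype.card K = 2 ^ (2 * m + 1)) :
    chevF4.diagonalSubgroup K ⊓ twistedF4 K (2 ^ m) = chevF4.diagonalSubgroup K ⊓ fixGL (f4Sigma (K := K) m) := by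
  apply le_antisymm
  · exact inf_le_inf_left _ (twistedF4_le_fix m hK)
  · rintro h hh
    obtain ⟨h1, h2⟩ := Subgroup.mem_inf.mp hh
    obtain ⟨p, rfl⟩ := fPhi_surj m hK h h1 h2
    exact Subgroup.mem_inf.mpr ⟨h1, fPhi_mem_tw m p⟩

theorem card_f4_torus (m : ℕ) (hK : Fintype.card K = 2 ^ (2 * m + 1)) :
    Nat.card ↥(chevF4.diagonalSubgroup K ⊓ twistedF4 K (2 ^ m)) = (2 ^ (2 * m + 1) - 1) ^ 2 := by
  have hbij : Function.Bijective (fun p : Kˣ × Kˣ =>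
      (⟨fPhi m p, Subgroup.mem_inf.mpr ⟨fPhi_mem_diag m p, fPhi_mem_tw m p⟩⟩ :
        ↥(chevF4.diagonalSubgroup K ⊓ twistedF4 K (2 ^ m)))) := by
    constructor
    · intro p q h
      exact fPhi_injective m hK (congrArg Subtype.val h)
    · rintro ⟨h, hh⟩
      obtain ⟨h1, h2⟩ := Subgroup.mem_inf.mp hh
      obtain ⟨p, hp⟩ := fPhi_surj m hK h h1 (twistedF4_le_fix m hK h2)
      exact ⟨p, Subtype.ext hp⟩
  rw [← Nat.card_congr (Equiv.ofBijective _ hbij), Nat.card_prod, Nat.card_units, Nat.card_eq_fintype_card, hK]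
  ring

end F4

end Cfsg.Agent.Lib.H29.Chev
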