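import Mathlib
import Cfsg.Prelude.Def_ChevStructure
import Cfsg.Prelude.Def_LieTwisted
import Cfsg.Agent.Lib.H29.ChevF4m
import Cfsg.Agent.Lib.H29.ChevF4f

/-!
# The fixed points of `σ` in the two basic classes of root subgroups
-/

set_option autoImplicit false
set_option linter.unusedSectionVars false
set_option linter.unusedSimpArgs false
set_option linter.unusedVariables false

namespace Cfsg.Agent.Lib.H29.Chev

open Cfsg.Lie Matrix

section F4

variable {K : Type*} [Field K] [CharP K 2]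

theorem closed_C1 : fdF4.Closed (· ∈ [24, 33]) := by
  have := FD.chkClosedB_spec (fd := fdF4) (fun s => [24, 33].contains s) (by decide +kernel)
  have e : (fun s => [24, 33].contains s = true) = (· ∈ [24, 33]) := by funext s; simp
  rwa [e] at this

theorem closed_C2 : fdF4.Closed (· ∈ [25, 27, 28, 30]) := by
  have := FD.chkClosedB_spec (fd := fdF4) (fun s => [25, 27, 28, 30].contains s) (by decide +kernel)
  have e : (fun s => [25, 27, 28, 30].contains s = true) = (· ∈ [25, 27, 28, 30]) := by funext s; simp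
  rwa [e] at this

theorem sorted_C1 : (List.range' (fdF4.n / 2) (fdF4.n - fdF4.n / 2)).filter (fun r => decide (r ∈ [24, 33])) = [24, 33] := by
  decide +kernel

theorem sorted_C2 :
    (List.range' (fdF4.n / 2) (fdF4.n - fdF4.n / 2)).filter (fun r => decide (r ∈ [25, 27, 28, 30])) = [25, 27, 28, 30] := by
  decide +kernel

theorem fX_inv_char2 (r : ℕ) (t : K) : (fX r t)⁻¹ = fX r t := by
  rw [cert12_F4.c6.c2.xA_inv, CharTwo.neg_eq]

/-- `x_a(t) x_b(u) = x_b(u) x_a(t) x_{a+b}(tu) x_{2a+b}(t²u)` -/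
theorem fX_b2_27' (t u : K) : fX 27 t * fX 25 u = fX 25 u * fX 27 t * (fX 28 (t * u) * fX 30 (t ^ 2 * u)) := by
  have h := fX_b2_27 t u
  have e : fX 27 t * fX 25 u = fX 25 u * fX 27 t * (fX 28 (t * u) * fX 30 (t ^ 2 * u))⁻¹ := by
    rw [h]; group
  rw [e, _root_.mul_inv_rev, fX_inv_char2, fX_inv_char2, (fX_28_30 _ _).eq]

theorem pU_sorted (m : ℕ) (t : K) : pU m t = fX 24 t * fX 33 (f4Theta K m t) := by
  unfold pU pairEl
  exact (fX_33_24 _ _).eq

theorem cU_sorted (m : ℕ) (t u : K) :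
    cU m t u = fX 25 t * fX 27 (f4Theta K m t) * fX 28 u * fX 30 (f4Theta K m t ^ 2 * t + f4Theta K m u ^ 2) := by
  unfold cU clsEl
  rw [fX_b2_27']
  have e : fX 25 t * fX 27 (f4Theta K m t) * (fX 28 (f4Theta K m t * t) * fX 30 (f4Theta K m t ^ 2 * t)) *
      fX 28 (f4Theta K m t * t + u) * fX 30 (f4Theta K m u ^ 2) =
      fX 25 t * fX 27 (f4Theta K m t) * (fX 28 (f4Theta K m t * t) * fX 28 (f4Theta K m t * t + u)) *
        (fX 30 (f4Theta K m t ^ 2 * t) * fX 30 (f4Theta K m u ^ 2)) := by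
    simp only [mul_assoc]
    rw [← mul_assoc (fX 30 _) (fX 28 _), ← (fX_28_30 _ _).eq]
    simp only [mul_assoc]
  rw [e, fX_mul, fX_mul]
  have : f4Theta K m t * t + (f4Theta K m t * t + u) = u := by
    rw [← add_assoc, CharTwo.add_self_eq_zero, zero_add]
  rw [this]

theorem pU_mem_Vm (m : ℕ) (t : K) : pU m t ∈ Vm chevF4 K (· ∈ [24, 33]) (fdF4.n / 2) := by
  rw [pU_sorted]
  exact mul_mem (cert12_F4.xA_mem_Vm _ _ 24 (by decide) (by decide) (by simp) (by decide) _)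
    (cert12_F4.xA_mem_Vm _ _ 33 (by decide) (by decide) (by simp) (by decide) _)

theorem cU_mem_Vm (m : ℕ) (t u : K) : cU m t u ∈ Vm chevF4 K (· ∈ [25, 27, 28, 30]) (fdF4.n / 2) := by
  rw [cU_sorted]
  exact mul_mem (mul_mem (mul_mem (cert12_F4.xA_mem_Vm _ _ 25 (by decide) (by decide) (by simp) (by decide) _)
    (cert12_F4.xA_mem_Vm _ _ 27 (by decide) (by decide) (by simp) (by decide) _))
    (cert12_F4.xA_mem_Vm _ _ 28 (by decide) (by decide) (by simp) (by decide) _))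
    (cert12_F4.xA_mem_Vm _ _ 30 (by decide) (by decide) (by simp) (by decide) _)

variable [Fintype K]

/-- the fixed points in the class `{24, 33}` -/
theorem fix_C1 (m : ℕ) (hK : Fintype.card K = 2 ^ (2 * m + 1)) (g : GL chevF4.Idx K)
    (hg : g ∈ fixGL (f4Sigma (K := K) m) ⊓ Vm chevF4 K (· ∈ [24, 33]) (fdF4.n / 2)) : ∃ t : K, g = pU m t := by
  obtain ⟨hf, hV⟩ := Subgroup.mem_inf.mp hg
  obtain ⟨hG, hfix⟩ := (mem_fixGL _ _).mp hf
  obtain ⟨t, rfl⟩ := cert12_F4.mem_Vm_list [24, 33] closed_C1 sorted_C1 g hV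
  simp only [List.map_cons, List.map_nil, List.prod_cons, List.prod_nil, mul_one] at hG hfix ⊢
  have e : (⟨cert12_F4.c6.c2.xA 24 (t 24) * cert12_F4.c6.c2.xA 33 (t 33), hG⟩ : ↥(chevF4.group K)) =
      ⟨fX 24 (t 24), cert12_F4.c6.c2.xA_mem_group _ _⟩ * ⟨fX 33 (t 33), cert12_F4.c6.c2.xA_mem_group _ _⟩ := rfl
  rw [e, map_mul, Subgroup.coe_mul, f4Sigma_xA m 24 (by decide), f4Sigma_xA m 33 (by decide),
    show rhoF4 24 = 33 from by decide, show rhoF4 33 = 24 from by decide, f4Psi_long m 24 (by decide),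
    f4Psi_short m 33 (by decide), frobenius_def, (fX_33_24 _ _).eq] at hfix
  let t' : ℕ → K := fun r => if r = 24 then f4Theta K m (t 33) ^ 2 else f4Theta K m (t 24)
  have h2 := cert12_F4.list_prod_inj [24, 33] sorted_C1 t' t (by
    simp only [List.map_cons, List.map_nil, List.prod_cons, List.prod_nil, mul_one, t']
    exact hfix)
  have h33 := h2 33 (by simp)
  simp only [t'] at h33
  rw [if_neg (by norm_num)] at h33
  refine ⟨t 24, ?_⟩
  rw [pU_sorted, h33]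

/-- the fixed points in the class `{25, 27, 28, 30}` -/
theorem fix_C2 (m : ℕ) (hK : Fintype.card K = 2 ^ (2 * m + 1)) (g : GL chevF4.Idx K)
    (hg : g ∈ fixGL (f4Sigma (K := K) m) ⊓ Vm chevF4 K (· ∈ [25, 27, 28, 30]) (fdF4.n / 2)) :
    ∃ t u : K, g = cU m t u := by
  obtain ⟨hf, hV⟩ := Subgroup.mem_inf.mp hg
  obtain ⟨hG, hfix⟩ := (mem_fixGL _ _).mp hf
  obtain ⟨t, rfl⟩ := cert12_F4.mem_Vm_list [25, 27, 28, 30] closed_C2 sorted_C2 g hV
  simp only [List.map_cons, List.map_nil, List.prod_cons, List.prod_nil, mul_one] at hG hfix ⊢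
  have e : (⟨cert12_F4.c6.c2.xA 25 (t 25) * (cert12_F4.c6.c2.xA 27 (t 27) * (cert12_F4.c6.c2.xA 28 (t 28) *
      cert12_F4.c6.c2.xA 30 (t 30))), hG⟩ : ↥(chevF4.group K)) =
      ⟨fX 25 (t 25), cert12_F4.c6.c2.xA_mem_group _ _⟩ * (⟨fX 27 (t 27), cert12_F4.c6.c2.xA_mem_group _ _⟩ *
      (⟨fX 28 (t 28), cert12_F4.c6.c2.xA_mem_group _ _⟩ * ⟨fX 30 (t 30), cert12_F4.c6.c2.xA_mem_group _ _⟩)) := rfl
  rw [e, map_mul, map_mul, map_mul, Subgroup.coe_mul, Subgroup.coe_mul, Subgroup.coe_mul,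
    f4Sigma_xA m 25 (by decide), f4Sigma_xA m 27 (by decide), f4Sigma_xA m 28 (by decide),
    f4Sigma_xA m 30 (by decide),
    show rhoF4 25 = 27 from by decide, show rhoF4 27 = 25 from by decide, show rhoF4 28 = 30 from by decide,
    show rhoF4 30 = 28 from by decide, f4Psi_long m 25 (by decide), f4Psi_short m 27 (by decide),
    f4Psi_short m 28 (by decide), f4Psi_long m 30 (by decide), frobenius_def, frobenius_def] at hfix
  obtain ⟨β, hβ⟩ : ∃ β, β = t 25 := ⟨_, rfl⟩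
  obtain ⟨α, hα⟩ : ∃ α, α = t 27 := ⟨_, rfl⟩
  obtain ⟨γ, hγ⟩ : ∃ γ, γ = t 28 := ⟨_, rfl⟩
  obtain ⟨δ, hδ⟩ : ∃ δ, δ = t 30 := ⟨_, rfl⟩
  obtain ⟨θ, hθ⟩ : ∃ θ, θ = f4Theta K m := ⟨_, rfl⟩
  rw [← hβ, ← hα, ← hγ, ← hδ, ← hθ] at hfix
  have e2 : fX 27 (θ β) * (fX 25 (θ α ^ 2) * (fX 30 (θ γ ^ 2) * fX 28 (θ δ))) =
      fX 25 (θ α ^ 2) * (fX 27 (θ β) * (fX 28 (θ β * θ α ^ 2 + θ δ) * fX 30 ((θ β) ^ 2 * θ α ^ 2 + θ γ ^ 2))) := by
    rw [← mul_assoc, fX_b2_27', (fX_28_30 _ _).eq.symm, ← fX_mul, ← fX_mul]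
    have c1 := (fX_28_30 (θ δ) ((θ β) ^ 2 * θ α ^ 2)).eq
    simp only [mul_assoc]
    rw [← mul_assoc (fX 30 _) (fX 28 (θ δ)), ← c1]
    simp only [mul_assoc]
  rw [e2] at hfix
  let t' : ℕ → K := fun r => if r = 25 then θ α ^ 2 else if r = 27 then θ β else if r = 28 then θ β * θ α ^ 2 + θ δ
    else (θ β) ^ 2 * θ α ^ 2 + θ γ ^ 2
  have h2 := cert12_F4.list_prod_inj [25, 27, 28, 30] sorted_C2 t' t (by
    simp only [List.map_cons, List.map_nil, List.prod_cons, List.prod_nil, mul_one, t']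
    rw [← hβ, ← hα, ← hγ, ← hδ]
    exact hfix)
  have h25 := h2 25 (by simp)
  have h27 := h2 27 (by simp)
  have h30 := h2 30 (by simp)
  simp only [t'] at h25 h27 h30
  norm_num at h25 h27 h30
  rw [← hβ] at h25
  rw [← hα] at h27
  rw [← hδ] at h30
  refine ⟨β, γ, ?_⟩
  rw [cU_sorted, ← hθ]
  have e3 : θ β ^ 2 * β + θ γ ^ 2 = δ := by
    rw [← h30, h25]
  rw [e3, h27, hβ, hα, hγ, hδ]
  simp only [mul_assoc]

theorem pU_injective (m : ℕ) : Function.Injective (pU (K := K) m) := by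
  intro t t' h
  rw [pU_sorted, pU_sorted] at h
  let a : ℕ → K := fun r => if r = 24 then t else f4Theta K m t
  let a' : ℕ → K := fun r => if r = 24 then t' else f4Theta K m t'
  have := cert12_F4.list_prod_inj [24, 33] sorted_C1 a a' (by
    simp only [List.map_cons, List.map_nil, List.prod_cons, List.prod_nil, mul_one, a, a']
    norm_num
    exact h) 24 (by simp)
  simpa [a, a'] using this

theorem cU_injective (m : ℕ) : Function.Injective (fun p : K × K => cU m p.1 p.2) := by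
  rintro ⟨t, u⟩ ⟨t', u'⟩ h
  simp only at h
  rw [cU_sorted, cU_sorted] at h
  let a : ℕ → K := fun r => if r = 25 then t else if r = 27 then f4Theta K m t else if r = 28 then u else
    f4Theta K m t ^ 2 * t + f4Theta K m u ^ 2
  let a' : ℕ → K := fun r => if r = 25 then t' else if r = 27 then f4Theta K m t' else if r = 28 then u' else
    f4Theta K m t' ^ 2 * t' + f4Theta K m u' ^ 2
  have key := cert12_F4.list_prod_inj [25, 27, 28, 30] sorted_C2 a a' (by
    simp only [List.map_cons, List.map_nil, List.prod_cons, List.prod_nil, mul_one, a, a']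
    norm_num
    simp only [mul_assoc] at h
    exact h)
  have h1 := key 25 (by simp)
  have h2 := key 28 (by simp)
  simp only [a, a'] at h1 h2
  norm_num at h1 h2
  rw [h1, h2]

theorem fix_C1_le (m : ℕ) (hK : Fintype.card K = 2 ^ (2 * m + 1)) :
    fixGL (f4Sigma (K := K) m) ⊓ Vm chevF4 K (· ∈ [24, 33]) (fdF4.n / 2) ≤ twistedF4 K (2 ^ m) := by
  intro g hg
  obtain ⟨t, rfl⟩ := fix_C1 m hK g hg
  exact pU_mem_tw m t

theorem fix_C2_le (m : ℕ) (hK : Fintype.card K = 2 ^ (2 * m + 1)) :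
    fixGL (f4Sigma (K := K) m) ⊓ Vm chevF4 K (· ∈ [25, 27, 28, 30]) (fdF4.n / 2) ≤ twistedF4 K (2 ^ m) := by
  intro g hg
  obtain ⟨t, u, rfl⟩ := fix_C2 m hK g hg
  exact cU_mem_tw m t u

theorem card_fix_C1 (m : ℕ) (hK : Fintype.card K = 2 ^ (2 * m + 1)) :
    Nat.card ↥(fixGL (f4Sigma (K := K) m) ⊓ Vm chevF4 K (· ∈ [24, 33]) (fdF4.n / 2)) = 2 ^ (2 * m + 1) := by
  have hbij : Function.Bijective (fun t : K =>
      (⟨pU m t, Subgroup.mem_inf.mpr ⟨twistedF4_le_fix m hK (pU_mem_tw m t), pU_mem_Vm m t⟩⟩ :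
        ↥(fixGL (f4Sigma (K := K) m) ⊓ Vm chevF4 K (· ∈ [24, 33]) (fdF4.n / 2)))) := by
    constructor
    · intro t t' h
      exact pU_injective m (congrArg Subtype.val h)
    · rintro ⟨g, hg⟩
      obtain ⟨t, rfl⟩ := fix_C1 m hK g hg
      exact ⟨t, rfl⟩
  rw [← Nat.card_congr (Equiv.ofBijective _ hbij), Nat.card_eq_fintype_card, hK]

theorem card_fix_C2 (m : ℕ) (hK : Fintype.card K = 2 ^ (2 * m + 1)) :
    Nat.card ↥(fixGL (f4Sigma (K := K) m) ⊓ Vm chevF4 K (· ∈ [25, 27, 28, 30]) (fdF4.n / 2)) =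
      (2 ^ (2 * m + 1)) ^ 2 := by
  have hbij : Function.Bijective (fun p : K × K =>
      (⟨cU m p.1 p.2, Subgroup.mem_inf.mpr ⟨twistedF4_le_fix m hK (cU_mem_tw m _ _), cU_mem_Vm m _ _⟩⟩ :
        ↥(fixGL (f4Sigma (K := K) m) ⊓ Vm chevF4 K (· ∈ [25, 27, 28, 30]) (fdF4.n / 2)))) := by
    constructor
    · intro p p' h
      exact cU_injective m (congrArg Subtype.val h)
    · rintro ⟨g, hg⟩
      obtain ⟨t, u, rfl⟩ := fix_C2 m hK g hg
      exact ⟨(t, u), rfl⟩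
  rw [← Nat.card_congr (Equiv.ofBijective _ hbij), Nat.card_prod, Nat.card_eq_fintype_card, hK, sq]

end F4

end Cfsg.Agent.Lib.H29.Chev
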