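import Mathlib
import Cfsg.Prelude.Def_ChevStructure
import Cfsg.Prelude.Def_LieTwisted
import Cfsg.Agent.Lib.H29.ChevF4n

/-!
# The fixed points of `σ` in the classes of root subgroups and in `U`
-/

set_option autoImplicit false
set_option linter.unusedSectionVars false
set_option linter.unusedSimpArgs false
set_option linter.unusedVariables false

namespace Cfsg.Agent.Lib.H29.Chev

open Cfsg.Lie Matrix

section Gen

variable {D : ChevalleyDatum} {fd : FD} {fx : FX} {fc : FC} {fz : FZ} {F : Type*} [Field F]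

theorem Vm_congr' (C : Cert12 D fd fx fc fz) (Ψ₁ Ψ₂ : ℕ → Prop) (m : ℕ)
    (h : ∀ s, s < fd.n → fd.n / 2 ≤ s → (Ψ₁ s ↔ Ψ₂ s)) : Vm D F Ψ₁ m = Vm D F Ψ₂ m := by
  unfold Vm
  congr 1
  ext g
  constructor
  · rintro ⟨s, t, h1, h2, h3, h4⟩
    obtain ⟨a, b⟩ := (C.c6.isPos_iff s).mp h1
    exact ⟨s, t, h1, (h s a b).mp h2, h3, h4⟩
  · rintro ⟨s, t, h1, h2, h3, h4⟩
    obtain ⟨a, b⟩ := (C.c6.isPos_iff s).mp h1
    exact ⟨s, t, h1, (h s a b).mpr h2, h3, h4⟩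

/-- conjugation by an element of `N` maps `V_S` into `V_{S'}` when its permutation maps `S` into `S'` -/
theorem Cert12.conj_Vm_mem (C : Cert12 D fd fx fc fz) (n : GL D.Idx F) (π : ℕ → ℕ) (hπ : C.c6.c2.Perm n π)
    (S S' : ℕ → Prop) (h : ∀ s, s < fd.n → fd.n / 2 ≤ s → S s → fd.n / 2 ≤ π s ∧ S' (π s)) (y : GL D.Idx F)
    (hy : y ∈ Vm D F S (fd.n / 2)) : n * y * n⁻¹ ∈ Vm D F S' (fd.n / 2) := by
  apply conj_closure_mem _ _ _ _ y hy
  intro g hg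
  obtain ⟨s, u, hs, hps, hSs, _, rfl⟩ := C.eq_xA_of_VmSet S _ g hg
  obtain ⟨h1, _, c, hc⟩ := hπ s hs
  rw [hc]
  obtain ⟨h2, h3⟩ := h s hs hps hSs
  exact C.xA_mem_Vm S' _ (π s) h1 h2 h3 h2 _

end Gen

/-- the basic class of the same type as the class at the place `j` of the chain -/
def bF4 (j : ℕ) : List ℕ := if j % 2 = 0 then [24, 33] else [25, 27, 28, 30]

/-- the place in the table of the inverse of the permutation at the place `j` -/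
def invF4 (j : ℕ) : ℕ := [0, 1, 14, 3, 12, 5, 10, 7].getD j 0

theorem bF4_to : ∀ j < 8, ∀ s ∈ bF4 j, 24 ≤ tF4 j s ∧ tF4 j s ∈ chainLF4.getD j [] := by decide +kernel
theorem bF4_from : ∀ j < 8, ∀ s ∈ chainLF4.getD j [], 24 ≤ tF4 (invF4 j) s ∧ tF4 (invF4 j) s ∈ bF4 j := by
  decide +kernel
theorem invF4_lt : ∀ j < 8, invF4 j < 16 := by decide

section F4

variable {K : Type*} [Field K] [Fintype K] [CharP K 2]

theorem fix_base_le (m : ℕ) (hK : Fintype.card K = 2 ^ (2 * m + 1)) (j : ℕ) :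
    fixGL (f4Sigma (K := K) m) ⊓ Vm chevF4 K (· ∈ bF4 j) (fdF4.n / 2) ≤ twistedF4 K (2 ^ m) := by
  unfold bF4
  by_cases h : j % 2 = 0
  · rw [if_pos h]; exact fix_C1_le m hK
  · rw [if_neg h]; exact fix_C2_le m hK

theorem card_fix_base (m : ℕ) (hK : Fintype.card K = 2 ^ (2 * m + 1)) (j : ℕ) :
    Nat.card ↥(fixGL (f4Sigma (K := K) m) ⊓ Vm chevF4 K (· ∈ bF4 j) (fdF4.n / 2)) =
      (2 ^ (2 * m + 1)) ^ (1 + j % 2) := by
  unfold bF4
  by_cases h : j % 2 = 0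
  · rw [if_pos h, h, card_fix_C1 m hK]; ring
  · have h1 : j % 2 = 1 := by omega
    rw [if_neg h, h1, card_fix_C2 m hK]

/-- conjugation of the fixed points of a class by a fixed element of `N` -/
theorem fix_conj_mem (m : ℕ) (n : GL chevF4.Idx K) (hn : n ∈ fixGL (f4Sigma (K := K) m)) (π : ℕ → ℕ)
    (hπ : cert12_F4.c6.c2.Perm n π) (c c' : List ℕ) (h : ∀ s ∈ c, 24 ≤ π s ∧ π s ∈ c') (g : GL chevF4.Idx K)
    (hg : g ∈ fixGL (f4Sigma (K := K) m) ⊓ Vm chevF4 K (· ∈ c) (fdF4.n / 2)) :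
    n * g * n⁻¹ ∈ fixGL (f4Sigma (K := K) m) ⊓ Vm chevF4 K (· ∈ c') (fdF4.n / 2) := by
  obtain ⟨h1, h2⟩ := Subgroup.mem_inf.mp hg
  refine Subgroup.mem_inf.mpr ⟨mul_mem (mul_mem hn h1) (inv_mem hn), ?_⟩
  exact cert12_F4.conj_Vm_mem n π hπ _ _ (fun s _ _ hs => h s hs) g h2

theorem fix_class_le (m : ℕ) (hK : Fintype.card K = 2 ^ (2 * m + 1)) (j : ℕ) (hj : j < 8) :
    fixGL (f4Sigma (K := K) m) ⊓ Vm chevF4 K (· ∈ chainLF4.getD j []) (fdF4.n / 2) ≤ twistedF4 K (2 ^ m) := by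
  intro g hg
  obtain ⟨n, hn, hπ⟩ := f4_perm_surj (K := K) m (invF4 j) (invF4_lt j hj)
  have hnG := (Subgroup.mem_inf.mp hn).2
  have := fix_base_le m hK j (fix_conj_mem m n (twistedF4_le_fix m hK hnG) _ hπ _ _ (bF4_from j hj) g hg)
  have e : g = n⁻¹ * (n * g * n⁻¹) * n := by group
  rw [e]
  exact mul_mem (mul_mem (inv_mem hnG) this) hnG

theorem card_fix_class (m : ℕ) (hK : Fintype.card K = 2 ^ (2 * m + 1)) (j : ℕ) (hj : j < 8) :
    Nat.card ↥(fixGL (f4Sigma (K := K) m) ⊓ Vm chevF4 K (· ∈ chainLF4.getD j []) (fdF4.n / 2)) =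
      (2 ^ (2 * m + 1)) ^ (1 + j % 2) := by
  rw [← card_fix_base m hK j]
  obtain ⟨n, hn, hπ⟩ := f4_perm_surj (K := K) m (invF4 j) (invF4_lt j hj)
  obtain ⟨n', hn', hπ'⟩ := f4_perm_surj (K := K) m j (by omega)
  have hnF := twistedF4_le_fix m hK (Subgroup.mem_inf.mp hn).2
  have hnF' := twistedF4_le_fix m hK (Subgroup.mem_inf.mp hn').2
  apply le_antisymm
  · apply Nat.card_le_card_of_injective (fun g : ↥(fixGL (f4Sigma (K := K) m) ⊓
        Vm chevF4 K (· ∈ chainLF4.getD j []) (fdF4.n / 2)) =>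
      (⟨n * g.1 * n⁻¹, fix_conj_mem m n hnF _ hπ _ _ (bF4_from j hj) g.1 g.2⟩ :
        ↥(fixGL (f4Sigma (K := K) m) ⊓ Vm chevF4 K (· ∈ bF4 j) (fdF4.n / 2))))
    intro g g' h
    have h' : n * g.1 * n⁻¹ = n * g'.1 * n⁻¹ := congrArg Subtype.val h
    exact Subtype.ext (mul_left_cancel (mul_right_cancel h'))
  · apply Nat.card_le_card_of_injective (fun g : ↥(fixGL (f4Sigma (K := K) m) ⊓
        Vm chevF4 K (· ∈ bF4 j) (fdF4.n / 2)) =>
      (⟨n' * g.1 * n'⁻¹, fix_conj_mem m n' hnF' _ hπ' _ _ (bF4_to j hj) g.1 g.2⟩ :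
        ↥(fixGL (f4Sigma (K := K) m) ⊓ Vm chevF4 K (· ∈ chainLF4.getD j []) (fdF4.n / 2))))
    intro g g' h
    have h' : n' * g.1 * n'⁻¹ = n' * g'.1 * n'⁻¹ := congrArg Subtype.val h
    exact Subtype.ext (mul_left_cancel (mul_right_cancel h'))

theorem mem_chainLF4 (c : List ℕ) (hc : c ∈ chainLF4) : ∃ j < 8, c = chainLF4.getD j [] := by
  unfold chainLF4 at hc
  simp only [List.mem_cons, List.not_mem_nil, or_false] at hc
  rcases hc with rfl | rfl | rfl | rfl | rfl | rfl | rfl | rfl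
  · exact ⟨0, by norm_num, rfl⟩
  · exact ⟨1, by norm_num, rfl⟩
  · exact ⟨2, by norm_num, rfl⟩
  · exact ⟨3, by norm_num, rfl⟩
  · exact ⟨4, by norm_num, rfl⟩
  · exact ⟨5, by norm_num, rfl⟩
  · exact ⟨6, by norm_num, rfl⟩
  · exact ⟨7, by norm_num, rfl⟩

theorem PL_chainLF4_B : ∀ s < 48, 24 ≤ s → plB chainLF4 s = true := by decide +kernel

theorem PL_chainLF4 : ∀ s, s < 48 → 24 ≤ s → PL chainLF4 s := by
  intro s h1 h2
  rw [← plB_iff]
  exact PL_chainLF4_B s h1 h2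

/-- the fixed points of `σ` in `V_Ψ` lie in the large Ree group -/
theorem fix_Vm_le (m : ℕ) (hK : Fintype.card K = 2 ^ (2 * m + 1)) (Ψ : ℕ → Prop) (hΨc : fdF4.Closed Ψ)
    (hΨρ : ∀ s, s < 48 → 24 ≤ s → Ψ s → Ψ (rhoF4 s))
    (hU : ∀ c ∈ chainLF4, (∀ s ∈ c, Ψ s) ∨ (∀ s ∈ c, ¬ Ψ s)) :
    fixGL (f4Sigma (K := K) m) ⊓ Vm chevF4 K Ψ (fdF4.n / 2) ≤ twistedF4 K (2 ^ m) := by
  have e : Vm chevF4 K Ψ (fdF4.n / 2) = Vm chevF4 K (fun s => Ψ s ∧ PL chainLF4 s) (fdF4.n / 2) :=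
    Vm_congr' cert12_F4 _ _ _ (fun s h1 h2 => ⟨fun h => ⟨h, PL_chainLF4 s h1 h2⟩, fun h => h.1⟩)
  rw [e]
  apply (f4RootTw (K := K) m).fix_chain_le Ψ hΨc hΨρ _ chainLF4 chainF4 hU
  intro c hc _
  obtain ⟨j, hj, rfl⟩ := mem_chainLF4 c hc
  exact fix_class_le m hK j hj

theorem ite_pow_one {q a : ℕ} (p : Prop) [Decidable p] : (if p then q ^ a else 1) = q ^ (if p then a else 0) := by
  split_ifs <;> simp

/-- the number of fixed points of `σ` in `V_Ψ` -/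
theorem card_fix_Vm (m : ℕ) (hK : Fintype.card K = 2 ^ (2 * m + 1)) (Ψ : ℕ → Prop) [DecidablePred Ψ]
    (hΨc : fdF4.Closed Ψ) (hΨρ : ∀ s, s < 48 → 24 ≤ s → Ψ s → Ψ (rhoF4 s))
    (hU : ∀ c ∈ chainLF4, (∀ s ∈ c, Ψ s) ∨ (∀ s ∈ c, ¬ Ψ s)) :
    Nat.card ↥(fixGL (f4Sigma (K := K) m) ⊓ Vm chevF4 K Ψ (fdF4.n / 2)) =
      (2 ^ (2 * m + 1)) ^ (((List.range 8).map fun j =>
        if ∀ s ∈ chainLF4.getD j [], Ψ s then 1 + j % 2 else 0).sum) := by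
  have e : Vm chevF4 K Ψ (fdF4.n / 2) = Vm chevF4 K (fun s => Ψ s ∧ PL chainLF4 s) (fdF4.n / 2) :=
    Vm_congr' cert12_F4 _ _ _ (fun s h1 h2 => ⟨fun h => ⟨h, PL_chainLF4 s h1 h2⟩, fun h => h.1⟩)
  rw [e, (f4RootTw (K := K) m).card_fix_chain Ψ hΨc hΨρ chainLF4 chainF4 hU]
  have c0 := card_fix_class m hK 0 (by norm_num)
  have c1 := card_fix_class m hK 1 (by norm_num)
  have c2 := card_fix_class m hK 2 (by norm_num)
  have c3 := card_fix_class m hK 3 (by norm_num)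
  have c4 := card_fix_class m hK 4 (by norm_num)
  have c5 := card_fix_class m hK 5 (by norm_num)
  have c6 := card_fix_class m hK 6 (by norm_num)
  have c7 := card_fix_class m hK 7 (by norm_num)
  have g0 : chainLF4.getD 0 [] = [24, 33] := rfl
  have g1 : chainLF4.getD 1 [] = [26, 34, 36, 42] := rfl
  have g2 : chainLF4.getD 2 [] = [38, 43] := rfl
  have g3 : chainLF4.getD 3 [] = [29, 41, 44, 47] := rfl
  have g4 : chainLF4.getD 4 [] = [39, 45] := rfl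
  have g5 : chainLF4.getD 5 [] = [31, 35, 40, 46] := rfl
  have g6 : chainLF4.getD 6 [] = [32, 37] := rfl
  have g7 : chainLF4.getD 7 [] = [25, 27, 28, 30] := rfl
  rw [g0] at c0
  rw [g1] at c1
  rw [g2] at c2
  rw [g3] at c3
  rw [g4] at c4
  rw [g5] at c5
  rw [g6] at c6
  rw [g7] at c7
  have hr : List.range 8 = [0, 1, 2, 3, 4, 5, 6, 7] := rfl
  rw [hr]
  simp only [List.map_cons, List.map_nil, List.sum_cons, List.sum_nil, g0, g1, g2, g3, g4, g5, g6, g7, add_zero]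
  unfold chainLF4
  simp only [List.map_cons, List.map_nil, List.prod_cons, List.prod_nil, mul_one]
  rw [c0, c1, c2, c3, c4, c5, c6, c7]
  generalize (2 ^ (2 * m + 1)) = q
  simp only [ite_pow_one, ← pow_add]

end F4

end Cfsg.Agent.Lib.H29.Chev
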