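import Mathlib
import Cfsg.Prelude.Def_ChevStructure
import Cfsg.Prelude.Def_LieTwisted
import Cfsg.Agent.Lib.H29.ChevF4o

/-!
# The unipotent subgroup of the large Ree group
-/

set_option autoImplicit false
set_option linter.unusedSectionVars false
set_option linter.unusedSimpArgs false
set_option linter.unusedVariables false

namespace Cfsg.Agent.Lib.H29.Chev

open Cfsg.Lie Matrix

section F4

variable {K : Type*} [Field K] [Fintype K] [CharP K 2]

theorem f4_fixU_le (m : ℕ) (hK : Fintype.card K = 2 ^ (2 * m + 1)) :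
    fixGL (f4Sigma (K := K) m) ⊓ chevF4.posUnipotent K ≤ twistedF4 K (2 ^ m) := by
  rw [cert12_F4.posUnipotent_eq]
  exact fix_Vm_le m hK (fun _ => True) (fun _ _ _ _ _ _ _ _ _ _ _ => trivial) (fun _ _ _ _ => trivial)
    (fun _ _ => Or.inl (fun _ _ => trivial))

theorem f4_U_eq (m : ℕ) (hK : Fintype.card K = 2 ^ (2 * m + 1)) :
    chevF4.posUnipotent K ⊓ twistedF4 K (2 ^ m) = fixGL (f4Sigma (K := K) m) ⊓ chevF4.posUnipotent K := by
  apply le_antisymm
  · intro g hg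
    obtain ⟨h1, h2⟩ := Subgroup.mem_inf.mp hg
    exact Subgroup.mem_inf.mpr ⟨twistedF4_le_fix m hK h2, h1⟩
  · intro g hg
    exact Subgroup.mem_inf.mpr ⟨(Subgroup.mem_inf.mp hg).2, f4_fixU_le m hK hg⟩

theorem card_f4_fixU (m : ℕ) (hK : Fintype.card K = 2 ^ (2 * m + 1)) :
    Nat.card ↥(fixGL (f4Sigma (K := K) m) ⊓ chevF4.posUnipotent K) = (2 ^ (2 * m + 1)) ^ 12 := by
  rw [cert12_F4.posUnipotent_eq]
  rw [card_fix_Vm m hK (fun _ => True) (fun _ _ _ _ _ _ _ _ _ _ _ => trivial) (fun _ _ _ _ => trivial)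
    (fun _ _ => Or.inl (fun _ _ => trivial))]
  congr 1

theorem card_f4_U (m : ℕ) (hK : Fintype.card K = 2 ^ (2 * m + 1)) :
    Nat.card ↥(chevF4.posUnipotent K ⊓ twistedF4 K (2 ^ m)) = (2 ^ (2 * m + 1)) ^ 12 := by
  rw [f4_U_eq m hK, card_f4_fixU m hK]

end F4

end Cfsg.Agent.Lib.H29.Chev
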