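import Mathlib
import Cfsg.Prelude.Def_ChevStructure
import Cfsg.Prelude.Def_LieTwisted
import Cfsg.Agent.Lib.H29.ChevF4p
import Cfsg.Agent.Lib.H29.ChevGen29
import Cfsg.Agent.Lib.H29.ChevGen36

/-!
# The large Ree group is the group of fixed points of `σ`; its order
-/

set_option autoImplicit false
set_option linter.unusedSectionVars false
set_option linter.unusedSimpArgs false
set_option linter.unusedVariables false

namespace Cfsg.Agent.Lib.H29.Chev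

open Cfsg.Lie Matrix

/-- the exponent of `q` in the number of fixed points of `U_w⁻` -/
def eF4 (a : ℕ) : ℕ :=
  ((List.range 8).map fun j => if ∀ s ∈ chainLF4.getD j [], tF4 a s < 24 then 1 + j % 2 else 0).sum

theorem eF4_vals : (List.range 16).map eF4 = [0, 1, 3, 4, 6, 7, 9, 10, 12, 11, 9, 8, 6, 5, 3, 2] := by decide +kernel

theorem tF4_rho : ∀ a < 16, ∀ s < 48, 24 ≤ s → tF4 a s < 24 → tF4 a (rhoF4 s) < 24 := by decide +kernel

theorem tF4_union : ∀ a < 16, ∀ c ∈ chainLF4, (∀ s ∈ c, tF4 a s < 24) ∨ (∀ s ∈ c, ¬ tF4 a s < 24) := by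
  decide +kernel

section F4

variable {K : Type*} [Field K] [Fintype K] [CharP K 2]

/-- the canonical form of a fixed element -/
theorem f4_fix_canon (m : ℕ) (g : GL chevF4.Idx K) (hg : g ∈ fixGL (f4Sigma (K := K) m)) :
    ∃ u ∈ fixGL (f4Sigma (K := K) m) ⊓ chevF4.posUnipotent K,
    ∃ n ∈ fixGL (f4Sigma (K := K) m) ⊓ chevF4.monomialSubgroup K,
    ∃ u' ∈ fixGL (f4Sigma (K := K) m) ⊓ Uw chevF4 K n, g = u * n * u' := by
  obtain ⟨hG, hfix⟩ := (mem_fixGL _ _).mp hg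
  obtain ⟨u, hu, fu, n, hn, fn, u', hu', fu', e⟩ :=
    (f4RootTw (K := K) m).fix_canon ⟨g, hG⟩ (Subtype.ext hfix)
  refine ⟨u.1, Subgroup.mem_inf.mpr ⟨(mem_fixGL _ _).mpr ⟨u.2, congrArg Subtype.val fu⟩, hu⟩,
    n.1, Subgroup.mem_inf.mpr ⟨(mem_fixGL _ _).mpr ⟨n.2, congrArg Subtype.val fn⟩, hn⟩,
    u'.1, Subgroup.mem_inf.mpr ⟨(mem_fixGL _ _).mpr ⟨u'.2, congrArg Subtype.val fu'⟩, hu'⟩, ?_⟩
  have := congrArg Subtype.val e
  simpa using this

/-- a fixed element of `N` is the product of a fixed element of `H` and an element of `N¹` -/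
theorem f4_fix_monomial (m : ℕ) (hK : Fintype.card K = 2 ^ (2 * m + 1)) (n : GL chevF4.Idx K)
    (hn : n ∈ chevF4.monomialSubgroup K) (hf : n ∈ fixGL (f4Sigma (K := K) m)) (r : GL chevF4.Idx K)
    (hr : r ∈ chevF4.monomialSubgroup K) (a : ℕ) (ha : a < 16) (hπ : cert12_F4.c6.c2.Perm n (tF4 a))
    (hπr : cert12_F4.c6.c2.Perm r (tF4 a)) : n * r⁻¹ ∈ chevF4.diagonalSubgroup K := by
  obtain ⟨_, ⟨π', hπ', _⟩⟩ := cert12_F4.perm_lin r hr
  have hinv := cert12_F4.perm_inv r _ _ hπr hπ'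
  have hp := cert12_F4.c6.perm_mul hπ hπ'
  apply cert12_F4.mem_diag_of_pos _ (mul_mem hn (inv_mem hr)) _ hp
  intro i hi
  simp only [Function.comp]
  have hs := cert12_F4.c6.c2.simple_lt i hi
  -- `π' s = s'` with `tF4 a s' = s`
  have h1 := hinv.2 _ hs
  rw [h1]
  exact cert12_F4.c6.simple_pos i hi

theorem f4_fix_le (m : ℕ) (hK : Fintype.card K = 2 ^ (2 * m + 1)) :
    fixGL (f4Sigma (K := K) m) ≤ twistedF4 K (2 ^ m) := by
  intro g hg
  obtain ⟨u, hu, n, hn, u', hu', rfl⟩ := f4_fix_canon m g hg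
  obtain ⟨hnf, hnN⟩ := Subgroup.mem_inf.mp hn
  obtain ⟨a, ha, hπ⟩ := f4_perm_exists m hK n hnN hnf
  obtain ⟨r, hr, hπr⟩ := f4_perm_surj (K := K) m a ha
  obtain ⟨hrN, hrG⟩ := Subgroup.mem_inf.mp hr
  have hd := f4_fix_monomial m hK n hnN hnf r hrN a ha hπ hπr
  have hdf : n * r⁻¹ ∈ fixGL (f4Sigma (K := K) m) := mul_mem hnf (inv_mem (twistedF4_le_fix m hK hrG))
  have hdG : n * r⁻¹ ∈ twistedF4 K (2 ^ m) := by
    have : n * r⁻¹ ∈ chevF4.diagonalSubgroup K ⊓ twistedF4 K (2 ^ m) := by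
      rw [f4_torus_eq m hK]
      exact Subgroup.mem_inf.mpr ⟨hd, hdf⟩
    exact (Subgroup.mem_inf.mp this).2
  have hnG : n ∈ twistedF4 K (2 ^ m) := by
    have : n = n * r⁻¹ * r := by group
    rw [this]
    exact mul_mem hdG hrG
  have hu'G : u' ∈ twistedF4 K (2 ^ m) :=
    f4_fixU_le m hK (Subgroup.mem_inf.mpr ⟨(Subgroup.mem_inf.mp hu').1, Uw_le_pos _ (Subgroup.mem_inf.mp hu').2⟩)
  exact mul_mem (mul_mem (f4_fixU_le m hK hu) hnG) hu'G

theorem f4_eq_fix (m : ℕ) (hK : Fintype.card K = 2 ^ (2 * m + 1)) :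
    twistedF4 K (2 ^ m) = fixGL (f4Sigma (K := K) m) :=
  le_antisymm (twistedF4_le_fix m hK) (f4_fix_le m hK)

/-- the number of fixed points in `U_n⁻` -/
theorem card_fix_Uw_F4 (m : ℕ) (hK : Fintype.card K = 2 ^ (2 * m + 1)) (n : GL chevF4.Idx K)
    (hn : n ∈ chevF4.monomialSubgroup K) (a : ℕ) (ha : a < 16) (hπ : cert12_F4.c6.c2.Perm n (tF4 a)) :
    Nat.card ↥(fixGL (f4Sigma (K := K) m) ⊓ Uw chevF4 K n) = (2 ^ (2 * m + 1)) ^ eF4 a := by
  obtain ⟨⟨π', hπ', hl'⟩, _⟩ := cert12_F4.perm_lin n hn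
  have he := cert12_F4.perm_unique n _ π' hπ hπ'
  have e1 : Uw chevF4 K n = Vm chevF4 K (fun r => tF4 a r < 24) (fdF4.n / 2) := by
    rw [Cert12.Uw_eq_Vm (fd := fdF4) n (fun s hs => ((cert12_F4.c6.isPos_iff s).mp hs).2)]
    exact Vm_congr' cert12_F4 _ _ _ (fun s h1 h2 => cert12_F4.psiN_iff n _ hπ s h1 h2)
  have hcl : fdF4.Closed (fun r => tF4 a r < 24) := by
    apply cert12_F4.closed_of_perm π' hl' (fun s hs => (hπ' s hs).1)
    intro r hr _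
    rw [he r hr]
    rfl
  rw [e1, card_fix_Vm m hK _ hcl (tF4_rho a ha) (tF4_union a ha)]
  rfl

end F4

end Cfsg.Agent.Lib.H29.Chev
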