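import Mathlib
import Cfsg.Prelude.Def_ChevStructure
import Cfsg.Prelude.Def_LieTwisted
import Cfsg.Agent.Lib.H29.ChevF4q

/-!
# The order of the large Ree group
-/

set_option autoImplicit false
set_option linter.unusedSectionVars false
set_option linter.unusedSimpArgs false
set_option linter.unusedVariables false

namespace Cfsg.Agent.Lib.H29.Chev

open Cfsg.Lie Matrix

theorem eF4_getD : ∀ a < 16, eF4 a = ([0, 1, 3, 4, 6, 7, 9, 10, 12, 11, 9, 8, 6, 5, 3, 2] : List ℕ).getD a 0 := by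
  decide +kernel

section F4

variable {K : Type*} [Field K] [Fintype K] [CharP K 2]

theorem card_f4_cells (m : ℕ) (hK : Fintype.card K = 2 ^ (2 * m + 1)) :
    Nat.card ↥(twistedF4 K (2 ^ m)) =
      ∑ a ∈ Finset.range 16, (2 ^ (2 * m + 1)) ^ 12 * (2 ^ (2 * m + 1) - 1) ^ 2 * (2 ^ (2 * m + 1)) ^ eF4 a := by
  classical
  have hUB : chevF4.posUnipotent K ≤ chevF4.borelSubgroup K := le_sup_left
  have hHB : chevF4.diagonalSubgroup K ≤ chevF4.borelSubgroup K := le_sup_right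
  choose! rep hrep using fun a (ha : a < 16) => f4_perm_surj (K := K) m a ha
  have hrepN : ∀ a < 16, rep a ∈ chevF4.monomialSubgroup K := fun a ha => (Subgroup.mem_inf.mp (hrep a ha).1).1
  have hrepG : ∀ a < 16, rep a ∈ twistedF4 K (2 ^ m) := fun a ha => (Subgroup.mem_inf.mp (hrep a ha).1).2
  have hrepP : ∀ a < 16, cert12_F4.c6.c2.Perm (rep a) (tF4 a) := fun a ha => (hrep a ha).2
  set σ := f4Sigma (K := K) m with hσ
  set U1 := fixGL σ ⊓ chevF4.posUnipotent K with hU1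
  set H1 := chevF4.diagonalSubgroup K ⊓ twistedF4 K (2 ^ m) with hH1
  have hmem : ∀ (a : Fin 16) (x : (↥U1 × ↥H1) × ↥(fixGL σ ⊓ Uw chevF4 K (rep a.val))),
      x.1.1.val * x.1.2.val * rep a.val * x.2.val ∈ twistedF4 K (2 ^ m) := by
    intro a x
    refine mul_mem (mul_mem (mul_mem (f4_fixU_le m hK x.1.1.property) (Subgroup.mem_inf.mp x.1.2.property).2)
      (hrepG a.val a.isLt)) (f4_fixU_le m hK ?_)
    exact Subgroup.mem_inf.mpr ⟨(Subgroup.mem_inf.mp x.2.property).1, Uw_le_pos _ (Subgroup.mem_inf.mp x.2.property).2⟩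
  let f : (Σ a : Fin 16, (↥U1 × ↥H1) × ↥(fixGL σ ⊓ Uw chevF4 K (rep a.val))) → ↥(twistedF4 K (2 ^ m)) :=
    fun x => ⟨x.2.1.1.val * x.2.1.2.val * rep x.1.val * x.2.2.val, hmem x.1 x.2⟩
  have hinj : Function.Injective f := by
    rintro ⟨a, ⟨⟨u, hu⟩, ⟨h, hh⟩⟩, ⟨u', hu'⟩⟩ ⟨b, ⟨⟨v, hv⟩, ⟨h', hh'⟩⟩, ⟨v', hv'⟩⟩ hxy
    have e1 : u * h * rep a.val * u' = v * h' * rep b.val * v' := congrArg Subtype.val hxy
    have hhD := (Subgroup.mem_inf.mp hh).1
    have hh'D := (Subgroup.mem_inf.mp hh').1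
    obtain ⟨k1, k2⟩ := cert12_F4.c6.canonical_form.2 (u * h) (v * h') (rep a.val) (rep b.val) u' v'
      (mul_mem (hUB (Subgroup.mem_inf.mp hu).2) (hHB hhD)) (mul_mem (hUB (Subgroup.mem_inf.mp hv).2) (hHB hh'D))
      (hrepN _ a.isLt) (hrepN _ b.isLt) (Subgroup.mem_inf.mp hu').2 (Subgroup.mem_inf.mp hv').2 e1
    have hab' : a = b := by
      apply Fin.ext
      have p1 := cert12_F4.c6.perm_mul (hrepP _ a.isLt) (cert12_F4.c6.perm_diag _ k1)
      have e2 : rep a.val * ((rep a.val)⁻¹ * rep b.val) = rep b.val := by group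
      rw [e2] at p1
      exact f4_perm_unique _ _ _ a.isLt b.isLt p1 (hrepP _ b.isLt)
    subst hab'
    obtain ⟨k3, k4⟩ := k2 rfl
    have h1 : v⁻¹ * u ∈ chevF4.posUnipotent K ⊓ chevF4.diagonalSubgroup K := by
      refine Subgroup.mem_inf.mpr ⟨mul_mem (inv_mem (Subgroup.mem_inf.mp hv).2) (Subgroup.mem_inf.mp hu).2, ?_⟩
      have : v⁻¹ * u = h' * h⁻¹ := by
        have : v⁻¹ * u = v⁻¹ * (u * h) * h⁻¹ := by group
        rw [this, k3]; group
      rw [this]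
      exact mul_mem hh'D (inv_mem hhD)
    rw [cert12_F4.c6.c2.pos_inf_diag, Subgroup.mem_bot] at h1
    have hu_eq : u = v := by
      have : u = v * (v⁻¹ * u) := by group
      rw [this, h1, mul_one]
    subst hu_eq
    have hh_eq : h = h' := mul_left_cancel k3
    subst hh_eq
    subst k4
    rfl
  have hsurj : Function.Surjective f := by
    rintro ⟨g, hg⟩
    obtain ⟨u, hu, n, hn, u', hu', rfl⟩ := f4_fix_canon m g (twistedF4_le_fix m hK hg)
    obtain ⟨hnf, hnN⟩ := Subgroup.mem_inf.mp hn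
    obtain ⟨a, ha, hπ⟩ := f4_perm_exists m hK n hnN hnf
    have hd := f4_fix_monomial m hK n hnN hnf (rep a) (hrepN a ha) a ha hπ (hrepP a ha)
    have hdf : n * (rep a)⁻¹ ∈ fixGL σ := mul_mem hnf (inv_mem (twistedF4_le_fix m hK (hrepG a ha)))
    have hdH : n * (rep a)⁻¹ ∈ H1 := by
      rw [hH1, f4_torus_eq m hK]
      exact Subgroup.mem_inf.mpr ⟨hd, hdf⟩
    have en : n = n * (rep a)⁻¹ * rep a := by group
    have hu'a : u' ∈ Uw chevF4 K (rep a) := by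
      have := cert12_F4.c6.Uw_le_diag_mul n (n * (rep a)⁻¹)⁻¹ (inv_mem hd) (Subgroup.mem_inf.mp hu').2
      have e2 : (n * (rep a)⁻¹)⁻¹ * n = rep a := by group
      rwa [e2] at this
    refine ⟨⟨⟨a, ha⟩, ⟨⟨u, hu⟩, ⟨n * (rep a)⁻¹, hdH⟩⟩,
      ⟨u', Subgroup.mem_inf.mpr ⟨(Subgroup.mem_inf.mp hu').1, hu'a⟩⟩⟩, ?_⟩
    apply Subtype.ext
    show u * (n * (rep a)⁻¹) * rep a * u' = u * n * u'
    group
  rw [← Nat.card_congr (Equiv.ofBijective f ⟨hinj, hsurj⟩), Nat.card_sigma,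
    ← Fin.sum_univ_eq_sum_range (fun a => (2 ^ (2 * m + 1)) ^ 12 * (2 ^ (2 * m + 1) - 1) ^ 2 * (2 ^ (2 * m + 1)) ^ eF4 a)]
  apply Finset.sum_congr rfl
  intro a _
  rw [Nat.card_prod, Nat.card_prod, card_fix_Uw_F4 m hK (rep a.val) (hrepN _ a.isLt) a.val a.isLt (hrepP _ a.isLt),
    hU1, card_f4_fixU m hK, hH1, card_f4_torus m hK]

/-- the order of the large Ree group -/
theorem card_f4 (m : ℕ) (hK : Fintype.card K = 2 ^ (2 * m + 1)) :
    Nat.card ↥(twistedF4 K (2 ^ m)) =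
      (2 ^ (2 * m + 1)) ^ 12 * (2 ^ (2 * m + 1) - 1) * ((2 ^ (2 * m + 1)) ^ 3 + 1) * ((2 ^ (2 * m + 1)) ^ 4 - 1) *
        ((2 ^ (2 * m + 1)) ^ 6 + 1) := by
  rw [card_f4_cells m hK]
  simp only [Finset.sum_range_succ, Finset.sum_range_zero, zero_add]
  rw [eF4_getD 0 (by norm_num), eF4_getD 1 (by norm_num), eF4_getD 2 (by norm_num), eF4_getD 3 (by norm_num),
    eF4_getD 4 (by norm_num), eF4_getD 5 (by norm_num), eF4_getD 6 (by norm_num), eF4_getD 7 (by norm_num),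
    eF4_getD 8 (by norm_num), eF4_getD 9 (by norm_num), eF4_getD 10 (by norm_num), eF4_getD 11 (by norm_num),
    eF4_getD 12 (by norm_num), eF4_getD 13 (by norm_num), eF4_getD 14 (by norm_num), eF4_getD 15 (by norm_num)]
  simp only [List.getD_cons_zero, List.getD_cons_succ]
  have hq1 : 1 ≤ 2 ^ (2 * m + 1) := Nat.one_le_two_pow
  generalize 2 ^ (2 * m + 1) = q at hq1 ⊢
  have h4 : 1 ≤ q ^ 4 := Nat.one_le_pow _ _ hq1
  zify [hq1, h4]
  ring

end F4

end Cfsg.Agent.Lib.H29.Chev
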