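import Mathlib
import Cfsg.Prelude.Def_ChevStructure
import Cfsg.Prelude.Def_LieTwisted
import Cfsg.Agent.Lib.H29.ChevF4r
import Cfsg.Agent.Lib.H29.ChevTw26
import Cfsg.Agent.Lib.H29.ChevGen38

/-!
# The double coset axiom for the large Ree group
-/

set_option autoImplicit false
set_option linter.unusedSectionVars false
set_option linter.unusedSimpArgs false
set_option linter.unusedVariables false

namespace Cfsg.Agent.Lib.H29.Chev

open Cfsg.Lie Matrix

section Gen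

variable {D : ChevalleyDatum} {fd : FD} {fx : FX} {fc : FC} {fz : FZ} {F : Type*} [Field F]

namespace Cert12

variable (C : Cert12 D fd fx fc fz)
include C

/-- if `m⁻¹ m' ∈ H` the permutations agree -/
theorem perm_eq_of_diag' (m m' : GL D.Idx F) (hm : m ∈ D.monomialSubgroup F) (π π' : ℕ → ℕ)
    (hπ : C.c6.c2.Perm m π) (hπ' : C.c6.c2.Perm m' π') (h : m⁻¹ * m' ∈ D.diagonalSubgroup F) :
    ∀ s < fd.n, π s = π' s := by
  intro s hs
  obtain ⟨_, ⟨ρ, hρ⟩⟩ := C.c6.perm_of_mem m hm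
  have p1 := C.c6.perm_diag _ h
  have p2 := C.c6.perm_mul hρ hπ'
  have p3 := C.perm_unique _ _ _ p1 p2 s hs
  have p4 := C.perm_inv _ _ _ hπ hρ
  simp only [Function.comp, id] at p3
  have hb' : π' s < fd.n := (hπ' s hs).1
  rw [← p4.2 _ hb', ← p3]

/-- two elements of `N` inducing the same permutation differ by an element of `H` (on the other side) -/
theorem mul_inv_mem_diag' (m m' : GL D.Idx F) (hm : m ∈ D.monomialSubgroup F) (hm' : m' ∈ D.monomialSubgroup F)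
    (π π' : ℕ → ℕ) (hπ : C.c6.c2.Perm m π) (hπ' : C.c6.c2.Perm m' π') (he : ∀ s < fd.n, π s = π' s) :
    m * m'⁻¹ ∈ D.diagonalSubgroup F := by
  obtain ⟨_, ⟨ρ, hρ⟩⟩ := C.c6.perm_of_mem m hm
  obtain ⟨_, ⟨ρ', hρ'⟩⟩ := C.c6.perm_of_mem m' hm'
  have h1 := C.perm_inv m π ρ hπ hρ
  have h2 := C.perm_inv m' π' ρ' hπ' hρ'
  have := C.inv_mul_mem_diag m⁻¹ m'⁻¹ (inv_mem hm) (inv_mem hm') ρ ρ' hρ hρ' (by
    intro s hs
    have hs' : ρ s < fd.n := (hρ s hs).1
    rw [← h2.1 (ρ s) hs', ← he _ hs', h1.2 s hs])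
  rwa [inv_inv] at this

/-- conjugation by an element of `N` maps `V_S` into `V` when its permutation makes the roots of `S` negative -/
theorem conj_Vm_mem_neg (n : GL D.Idx F) (π : ℕ → ℕ) (hπ : C.c6.c2.Perm n π)
    (S : ℕ → Prop) (h : ∀ s, s < fd.n → fd.n / 2 ≤ s → S s → π s < fd.n / 2) (y : GL D.Idx F)
    (hy : y ∈ Vm D F S (fd.n / 2)) : n * y * n⁻¹ ∈ D.negUnipotent F := by
  apply conj_closure_mem _ _ _ _ y hy
  intro g hg
  obtain ⟨s, u, hs, hps, hSs, _, rfl⟩ := C.eq_xA_of_VmSet S _ g hg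
  obtain ⟨h1, _, c, hc⟩ := hπ s hs
  rw [hc]
  exact C.c6.xA_neg_mem_neg _ h1 (h s hs hps hSs) _

end Cert12

end Gen

/-- the subwords of a word whose permutations commute with `ρ` are trivial or induce the permutation of the word -/
def chkSubF4 (w : List ℕ) : Bool :=
  w.sublists.all fun w' =>
    !((List.range 48).all fun s => Nat.beq (fdF4.wordP fxF4 w' (rhoF4 s)) (rhoF4 (fdF4.wordP fxF4 w' s))) ||
    (List.range 48).all (fun s => Nat.beq (fdF4.wordP fxF4 w' s) s) ||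
    (List.range 48).all (fun s => Nat.beq (fdF4.wordP fxF4 w' s) (fdF4.wordP fxF4 w s))

theorem chkSubF4_spec (w : List ℕ) (h : chkSubF4 w = true) (w' : List ℕ) (hw' : w'.Sublist w)
    (hc : ∀ s < 48, fdF4.wordP fxF4 w' (rhoF4 s) = rhoF4 (fdF4.wordP fxF4 w' s)) :
    (∀ s < 48, fdF4.wordP fxF4 w' s = s) ∨ (∀ s < 48, fdF4.wordP fxF4 w' s = fdF4.wordP fxF4 w s) := by
  simp only [chkSubF4, List.all_eq_true, List.mem_sublists, Bool.or_eq_true, Bool.not_eq_true',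
    ← Bool.not_eq_true, List.mem_range, natBeq_iff] at h
  rcases h w' hw' with (h1 | h1) | h1
  · exact absurd hc (by
      intro hc'
      apply h1
      intro s hs
      exact hc' s hs)
  · exact Or.inl h1
  · exact Or.inr h1

theorem chkSubF4_1 : chkSubF4 [0, 3] = true := by decide +kernel
theorem chkSubF4_2 : chkSubF4 [1, 2, 1, 2] = true := by decide +kernel

section F4

variable {K : Type*} [Field K] [Fintype K] [CharP K 2]

/-- the double coset axiom -/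
theorem f4_mul_mem_union (m : ℕ) (hK : Fintype.card K = 2 ^ (2 * m + 1)) (w : List ℕ) (hw : IsWd fdF4.l w)
    (hsG : cert12_F4.wordN K w ∈ twistedF4 K (2 ^ m)) (hchk : chkSubF4 w = true)
    (n : GL chevF4.Idx K) (hn : n ∈ chevF4.monomialSubgroup K ⊓ twistedF4 K (2 ^ m)) (b : GL chevF4.Idx K)
    (hb : b ∈ chevF4.borelSubgroup K ⊓ twistedF4 K (2 ^ m)) :
    ∃ x ∈ chevF4.borelSubgroup K ⊓ twistedF4 K (2 ^ m), ∃ y ∈ chevF4.borelSubgroup K ⊓ twistedF4 K (2 ^ m),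
      cert12_F4.wordN K w * b * n = x * (cert12_F4.wordN K w * n) * y ∨ cert12_F4.wordN K w * b * n = x * n * y := by
  have hUB : chevF4.posUnipotent K ≤ chevF4.borelSubgroup K := le_sup_left
  have hHB : chevF4.diagonalSubgroup K ≤ chevF4.borelSubgroup K := le_sup_right
  obtain ⟨hnN, hnG⟩ := Subgroup.mem_inf.mp hn
  obtain ⟨hbB, hbG⟩ := Subgroup.mem_inf.mp hb
  set s := cert12_F4.wordN K w with hs
  have hgG : s * b * n ∈ twistedF4 K (2 ^ m) := mul_mem (mul_mem hsG hbG) hnG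
  obtain ⟨u, hu, m', hm', u', hu', eg⟩ := f4_fix_canon m _ (twistedF4_le_fix m hK hgG)
  obtain ⟨hm'f, hm'N⟩ := Subgroup.mem_inf.mp hm'
  have huG := f4_fixU_le m hK hu
  have hu'U : u' ∈ chevF4.posUnipotent K := Uw_le_pos _ (Subgroup.mem_inf.mp hu').2
  have hu'G := f4_fixU_le m hK (Subgroup.mem_inf.mpr ⟨(Subgroup.mem_inf.mp hu').1, hu'U⟩)
  have hmG : m' ∈ twistedF4 K (2 ^ m) := f4_fix_le m hK hm'f
  -- the ambient double cosets
  obtain ⟨w', hsub, hmem⟩ := cert12_F4.wordN_borel_mul w hw n hnN b hbB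
  have hwd' : IsWd fdF4.l w' := fun j hj => hw j (hsub.subset hj)
  have hmn' : cert12_F4.wordN K w' * n ∈ chevF4.monomialSubgroup K := mul_mem (cert12_F4.wordN_mem w') hnN
  have hmem2 : s * b * n ∈ DoubleCoset.doubleCoset m' (chevF4.borelSubgroup K : Set (GL chevF4.Idx K))
      (chevF4.borelSubgroup K) := by
    rw [DoubleCoset.mem_doubleCoset]
    exact ⟨u, hUB (Subgroup.mem_inf.mp hu).2, u', hUB hu'U, eg⟩
  have hdiag := cert12_F4.bruhat_disjoint m' (cert12_F4.wordN K w' * n) hm'N hmn' _ hmem2 hmem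
  -- the permutations
  obtain ⟨⟨πm, hπm⟩, _⟩ := cert12_F4.c6.perm_of_mem m' hm'N
  obtain ⟨⟨πn, hπn⟩, ⟨ρn, hρn⟩⟩ := cert12_F4.c6.perm_of_mem n hnN
  have hπ' := cert12_F4.c6.perm_mul (cert12_F4.perm_wordN (F := K) w' hwd') hπn
  have key := cert12_F4.perm_eq_of_diag' m' _ hm'N _ _ hπm hπ' hdiag
  simp only [Function.comp] at key
  have hnf := twistedF4_le_fix m hK hnG
  obtain ⟨hnGr, hnfix⟩ := (mem_fixGL _ _).mp hnf
  obtain ⟨hmGr, hmfix⟩ := (mem_fixGL _ _).mp hm'f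
  have hinv := cert12_F4.perm_inv _ _ _ hπn hρn
  have hcomm : ∀ t < 48, fdF4.wordP fxF4 w' (rhoF4 t) = rhoF4 (fdF4.wordP fxF4 w' t) := by
    intro t ht
    have ht' : ρn t < 48 := (hρn t ht).1
    have e1 : πn (ρn t) = t := hinv.2 t ht
    have e2 := (f4RootTw (K := K) m).perm_comm ⟨n, hnGr⟩ (Subtype.ext hnfix) πn hπn (ρn t) ht'
    have e3 := (f4RootTw (K := K) m).perm_comm ⟨m', hmGr⟩ (Subtype.ext hmfix) πm hπm (ρn t) ht'
    rw [e1] at e2
    rw [← e2, ← key _ (isoSpecF4.rho_lt _ ht'), e3, key _ ht', e1]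
  have hsplit := chkSubF4_spec w hchk w' hsub hcomm
  have hmn : ∀ h : GL chevF4.Idx K, h ∈ chevF4.diagonalSubgroup K → h ∈ twistedF4 K (2 ^ m) →
      u * h ∈ chevF4.borelSubgroup K ⊓ twistedF4 K (2 ^ m) :=
    fun h h1 h2 => Subgroup.mem_inf.mpr ⟨mul_mem (hUB (Subgroup.mem_inf.mp hu).2) (hHB h1), mul_mem huG h2⟩
  have hu'B : u' ∈ chevF4.borelSubgroup K ⊓ twistedF4 K (2 ^ m) := Subgroup.mem_inf.mpr ⟨hUB hu'U, hu'G⟩
  rcases hsplit with h1 | h1
  · have hd := cert12_F4.mul_inv_mem_diag' m' n hm'N hnN πm πn hπm hπn (fun t ht => by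
      rw [key t ht, h1 _ (hπn t ht).1])
    refine ⟨u * (m' * n⁻¹), hmn _ hd (mul_mem hmG (inv_mem hnG)), u', hu'B, Or.inr ?_⟩
    rw [eg]; group
  · have hsN : s ∈ chevF4.monomialSubgroup K := cert12_F4.wordN_mem w
    have hπs := cert12_F4.c6.perm_mul (cert12_F4.perm_wordN (F := K) w hw) hπn
    have hd := cert12_F4.mul_inv_mem_diag' m' (s * n) hm'N (mul_mem hsN hnN) πm _ hπm hπs (fun t ht => by
      simp only [Function.comp]
      rw [key t ht, h1 _ (hπn t ht).1])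
    refine ⟨u * (m' * (s * n)⁻¹), hmn _ hd (mul_mem hmG (inv_mem (mul_mem hsG hnG))), u', hu'B, Or.inl ?_⟩
    rw [eg]; group

end F4

end Cfsg.Agent.Lib.H29.Chev
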