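import Mathlib
import Cfsg.Prelude.Def_ChevStructure
import Cfsg.Prelude.Def_LieTwisted
import Cfsg.Prelude.Def_LieExceptional
import Cfsg.Agent.Lib.H29.ChevF4s

/-!
# The `(B, N)`-pair of the large Ree group
-/

set_option autoImplicit false
set_option linter.unusedSectionVars false
set_option linter.unusedSimpArgs false
set_option linter.unusedVariables false

namespace Cfsg.Agent.Lib.H29.Chev

open Cfsg.Lie Matrix

theorem w1_ne_w2 : fdF4.wordP fxF4 [0, 3] 24 ≠ fdF4.wordP fxF4 [1, 2, 1, 2] 24 := by decide +kernel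
theorem w1_neg : ∀ s ∈ [24, 33], fdF4.wordP fxF4 [0, 3] s < 24 := by decide +kernel
theorem w2_neg : ∀ s ∈ [25, 27, 28, 30], fdF4.wordP fxF4 [1, 2, 1, 2] s < 24 := by decide +kernel

section F4

variable {K : Type*} [Field K] [Fintype K] [CharP K 2]

/-- every permutation of the table is induced by a product of the elements `n₁`, `n₂` -/
theorem f4_perm_surj' : ∀ a < 16, ∃ g ∈ Subgroup.closure ({fN1 K, fN2 K} : Set (GL chevF4.Idx K)),
    cert12_F4.c6.c2.Perm g (tF4 a) := by
  intro a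
  induction a with
  | zero => exact fun _ => ⟨1, one_mem _, f4_perm_one⟩
  | succ a ih =>
    intro ha
    obtain ⟨g, hg, hπ⟩ := ih (by omega)
    by_cases hpar : a % 2 = 0
    · refine ⟨g * fN1 K, mul_mem hg (Subgroup.subset_closure (by simp)), ?_⟩
      have e : a + 1 = nx1 a := by unfold nx1; rw [if_pos hpar]
      rw [e]
      exact cert12_F4.perm_congr _ _ _ (cert12_F4.c6.perm_mul hπ perm_fN1) (fun s hs => tF4_w1 a (by omega) s hs)
    · refine ⟨g * fN2 K, mul_mem hg (Subgroup.subset_closure (by simp)), ?_⟩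
      have e : a + 1 = nx2 a := by
        unfold nx2; rw [if_pos (by omega)]; omega
      rw [e]
      exact cert12_F4.perm_congr _ _ _ (cert12_F4.c6.perm_mul hπ perm_fN2) (fun s hs => tF4_w2 a (by omega) s hs)

theorem fN_sq_mem_diag (w : List ℕ) (hw : IsWd fdF4.l w)
    (hinv : ∀ s < 48, fdF4.wordP fxF4 w (fdF4.wordP fxF4 w s) = s) :
    cert12_F4.wordN K w * cert12_F4.wordN K w ∈ chevF4.diagonalSubgroup K := by
  have hπ := cert12_F4.perm_wordN (F := K) w hw
  have hN := cert12_F4.wordN_mem (F := K) w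
  have := cert12_F4.mul_inv_mem_diag' (cert12_F4.wordN K w * cert12_F4.wordN K w) 1 (mul_mem hN hN) (one_mem _) _ _
    (cert12_F4.c6.perm_mul hπ hπ) cert12_F4.c6.perm_one (fun t ht => by
      simp only [Function.comp, id]
      exact hinv t ht)
  rwa [inv_one, mul_one] at this

theorem pU_one_ne (m : ℕ) : pU m (1 : K) ≠ 1 := by
  intro h
  have h0 : pU m (0 : K) = 1 := by
    unfold pU pairEl fX
    rw [f4Theta_zero, cert12_F4.c6.c2.xA_zero, cert12_F4.c6.c2.xA_zero, one_mul]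
  exact one_ne_zero (pU_injective m (h.trans h0.symm))

theorem cU_zero_one_ne (m : ℕ) : cU m (0 : K) 1 ≠ 1 := by
  intro h
  have h0 : cU m (0 : K) 0 = 1 := by
    unfold cU clsEl fX
    simp only [f4Theta_zero, cert12_F4.c6.c2.xA_zero, mul_zero, zero_add, one_mul, ne_eq, OfNat.ofNat_ne_zero,
      not_false_eq_true, zero_pow]
  have := cU_injective (K := K) m (a₁ := (0, 1)) (a₂ := (0, 0)) (h.trans h0.symm)
  exact one_ne_zero (congrArg Prod.snd this)

/-- `s B s ≠ B` -/
theorem f4_conj_ne (m : ℕ) (w : List ℕ) (hw : IsWd fdF4.l w)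
    (hinv : ∀ s < 48, fdF4.wordP fxF4 w (fdF4.wordP fxF4 w s) = s) (c : List ℕ)
    (hneg : ∀ s ∈ c, fdF4.wordP fxF4 w s < 24) (x : GL chevF4.Idx K)
    (hx : x ∈ Vm chevF4 K (· ∈ c) (fdF4.n / 2)) (hx1 : x ≠ 1)
    (hB : cert12_F4.wordN K w * x * cert12_F4.wordN K w ∈ chevF4.borelSubgroup K) : False := by
  have hHB : chevF4.diagonalSubgroup K ≤ chevF4.borelSubgroup K := le_sup_right
  set s := cert12_F4.wordN K w with hs
  have hsq := fN_sq_mem_diag (K := K) w hw hinv
  have hB2 := mul_mem hB (hHB (inv_mem hsq))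
  have e : s * x * s * (s * s)⁻¹ = s * x * s⁻¹ := by group
  rw [← hs, e] at hB2
  have hV := cert12_F4.conj_Vm_mem_neg s _ (cert12_F4.perm_wordN (F := K) w hw) (· ∈ c)
    (fun t _ _ ht => hneg t ht) x hx
  have h0 : s * x * s⁻¹ ∈ chevF4.borelSubgroup K ⊓ chevF4.negUnipotent K := Subgroup.mem_inf.mpr ⟨hB2, hV⟩
  rw [cert12_F4.c6.c2.borel_inf_neg, Subgroup.mem_bot] at h0
  apply hx1
  have : x = s⁻¹ * (s * x * s⁻¹) * s := by group
  rw [this, h0]
  group

end F4

end Cfsg.Agent.Lib.H29.Chev
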