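import Mathlib
import Cfsg.Prelude.Def_ChevStructure
import Cfsg.Prelude.Def_LieTwisted
import Cfsg.Prelude.Def_LieExceptional
import Cfsg.Agent.Lib.H29.ChevF4t

/-!
# The `(B, N)`-pair of the large Ree group
-/

set_option autoImplicit false
set_option linter.unusedSectionVars false
set_option linter.unusedSimpArgs false
set_option linter.unusedVariables false

namespace Cfsg.Agent.Lib.H29.Chev

open Cfsg.Lie Matrix

section F4

variable {K : Type*} [Field K] [Fintype K] [CharP K 2]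

theorem isWd_w1 : IsWd fdF4.l [0, 3] := by unfold IsWd; decide
theorem isWd_w2 : IsWd fdF4.l [1, 2, 1, 2] := by unfold IsWd; decide

/-- the `(B, N)`-pair of the large Ree group -/
noncomputable def f4BN (m : ℕ) (hK : Fintype.card K = 2 ^ (2 * m + 1)) : Cfsg.BNPair ↥(twistedF4 K (2 ^ m)) :=
  have hUB : chevF4.posUnipotent K ≤ chevF4.borelSubgroup K := le_sup_left
  have hHB : chevF4.diagonalSubgroup K ≤ chevF4.borelSubgroup K := le_sup_right
  have hHN : chevF4.diagonalSubgroup K ≤ chevF4.monomialSubgroup K := le_sup_left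
  { B := (chevF4.borelSubgroup K ⊓ twistedF4 K (2 ^ m)).subgroupOf (twistedF4 K (2 ^ m))
    N := (chevF4.monomialSubgroup K ⊓ twistedF4 K (2 ^ m)).subgroupOf (twistedF4 K (2 ^ m))
    S := {s | (s : GL chevF4.Idx K) = fN1 K ∨ (s : GL chevF4.Idx K) = fN2 K}
    sup_eq_top := by
      rw [eq_top_iff]
      rintro ⟨g, hg⟩ _
      obtain ⟨u, hu, n, hn, u', hu', eg⟩ := f4_fix_canon m g (twistedF4_le_fix m hK hg)
      have huG := f4_fixU_le m hK hu
      have hu'U : u' ∈ chevF4.posUnipotent K := Uw_le_pos _ (Subgroup.mem_inf.mp hu').2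
      have hu'G := f4_fixU_le m hK (Subgroup.mem_inf.mpr ⟨(Subgroup.mem_inf.mp hu').1, hu'U⟩)
      have hnG : n ∈ twistedF4 K (2 ^ m) := f4_fix_le m hK (Subgroup.mem_inf.mp hn).1
      have e : (⟨g, hg⟩ : ↥(twistedF4 K (2 ^ m))) = ⟨u, huG⟩ * ⟨n, hnG⟩ * ⟨u', hu'G⟩ := Subtype.ext eg
      rw [e]
      refine mul_mem (mul_mem (Subgroup.mem_sup_left ?_) (Subgroup.mem_sup_right ?_)) (Subgroup.mem_sup_left ?_)
      · exact Subgroup.mem_subgroupOf.mpr (Subgroup.mem_inf.mpr ⟨hUB (Subgroup.mem_inf.mp hu).2, huG⟩)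
      · exact Subgroup.mem_subgroupOf.mpr (Subgroup.mem_inf.mpr ⟨(Subgroup.mem_inf.mp hn).2, hnG⟩)
      · exact Subgroup.mem_subgroupOf.mpr (Subgroup.mem_inf.mpr ⟨hUB hu'U, hu'G⟩)
    conj_mem := by
      rintro ⟨n, hnG⟩ hn ⟨t, htG⟩ ht
      obtain ⟨ht1, ht2⟩ := Subgroup.mem_inf.mp ht
      have hnN := (Subgroup.mem_inf.mp (Subgroup.mem_subgroupOf.mp hn)).1
      have htB := (Subgroup.mem_inf.mp (Subgroup.mem_subgroupOf.mp ht1)).1
      have htN := (Subgroup.mem_inf.mp (Subgroup.mem_subgroupOf.mp ht2)).1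
      have htH : t ∈ chevF4.diagonalSubgroup K := by
        rw [← cert12_F4.c6.c2.borel_inf_monomial]
        exact Subgroup.mem_inf.mpr ⟨htB, htN⟩
      have := (Subgroup.mem_normalizer_iff.mp (cert12_F4.c6.c2.monomial_le_normalizer_diag hnN) t).mp htH
      apply Subgroup.mem_subgroupOf.mpr
      exact Subgroup.mem_inf.mpr ⟨hHB this, mul_mem (mul_mem hnG htG) (inv_mem hnG)⟩
    subset := by
      rintro ⟨s, hsG⟩ hs
      apply Subgroup.mem_subgroupOf.mpr
      refine Subgroup.mem_inf.mpr ⟨?_, hsG⟩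
      show s ∈ chevF4.monomialSubgroup K
      rcases hs with hs | hs
      · simp only at hs; rw [hs]; exact fN1_mem_monomial
      · simp only at hs; rw [hs]; exact fN2_mem_monomial
    sq_mem := by
      rintro ⟨s, hsG⟩ hs
      apply Subgroup.mem_subgroupOf.mpr
      refine Subgroup.mem_inf.mpr ⟨?_, mul_mem hsG hsG⟩
      show s * s ∈ chevF4.borelSubgroup K
      rcases hs with hs | hs
      · simp only at hs; rw [hs]; exact hHB (fN_sq_mem_diag _ isWd_w1 w1_invol)
      · simp only at hs; rw [hs]; exact hHB (fN_sq_mem_diag _ isWd_w2 w2_invol)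
    inj := by
      have hne : ∀ (a b : GL chevF4.Idx K), a = fN1 K → b = fN2 K → a⁻¹ * b ∈ chevF4.borelSubgroup K → False := by
        intro a b ha hb hB
        rw [ha, hb] at hB
        have hN : (fN1 K)⁻¹ * fN2 K ∈ chevF4.monomialSubgroup K := mul_mem (inv_mem fN1_mem_monomial) fN2_mem_monomial
        have hH : (fN1 K)⁻¹ * fN2 K ∈ chevF4.diagonalSubgroup K := by
          rw [← cert12_F4.c6.c2.borel_inf_monomial]
          exact Subgroup.mem_inf.mpr ⟨hB, hN⟩
        have := cert12_F4.perm_eq_of_diag' _ _ fN1_mem_monomial _ _ perm_fN1 perm_fN2 hH 24 (by decide)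
        exact w1_ne_w2 this
      rintro ⟨s, hsG⟩ hs ⟨s', hs'G⟩ hs' hmem
      apply Subtype.ext
      show s = s'
      have hB := (Subgroup.mem_inf.mp (Subgroup.mem_subgroupOf.mp hmem)).1
      have hB' : s⁻¹ * s' ∈ chevF4.borelSubgroup K := hB
      rcases hs with hs | hs <;> rcases hs' with hs' | hs' <;> simp only at hs hs'
      · rw [hs, hs']
      · exact absurd hB' (fun h => hne s s' hs hs' h)
      · exfalso
        have : s'⁻¹ * s ∈ chevF4.borelSubgroup K := by
          have e : s'⁻¹ * s = (s⁻¹ * s')⁻¹ := by group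
          rw [e]; exact inv_mem hB'
        exact hne s' s hs' hs this
      · rw [hs, hs']
    closure_sup := by
      apply le_antisymm
      · apply sup_le
        · rw [Subgroup.closure_le]
          rintro ⟨s, hsG⟩ hs
          apply Subgroup.mem_subgroupOf.mpr
          refine Subgroup.mem_inf.mpr ⟨?_, hsG⟩
          show s ∈ chevF4.monomialSubgroup K
          rcases hs with hs | hs
          · simp only at hs; rw [hs]; exact fN1_mem_monomial
          · simp only at hs; rw [hs]; exact fN2_mem_monomial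
        · exact inf_le_right
      · rintro ⟨n, hnG⟩ hn
        have hnN := (Subgroup.mem_inf.mp (Subgroup.mem_subgroupOf.mp hn)).1
        have hnN' : n ∈ chevF4.monomialSubgroup K := hnN
        obtain ⟨a, ha, hπ⟩ := f4_perm_exists m hK n hnN' (twistedF4_le_fix m hK hnG)
        obtain ⟨r, hr, hπr⟩ := f4_perm_surj' (K := K) a ha
        have key : ∀ r ∈ Subgroup.closure ({fN1 K, fN2 K} : Set (GL chevF4.Idx K)),
            ∃ h : r ∈ twistedF4 K (2 ^ m), r ∈ chevF4.monomialSubgroup K ∧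
            (⟨r, h⟩ : ↥(twistedF4 K (2 ^ m))) ∈
              Subgroup.closure {s : ↥(twistedF4 K (2 ^ m)) |
                (s : GL chevF4.Idx K) = fN1 K ∨ (s : GL chevF4.Idx K) = fN2 K} := by
          intro r hr
          induction hr using Subgroup.closure_induction with
          | mem x hx =>
            rcases hx with rfl | hx
            · exact ⟨fN1_mem_tw m, fN1_mem_monomial, Subgroup.subset_closure (Or.inl rfl)⟩
            · rw [Set.mem_singleton_iff] at hx
              subst hx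
              exact ⟨fN2_mem_tw m, fN2_mem_monomial, Subgroup.subset_closure (Or.inr rfl)⟩
          | one => exact ⟨one_mem _, one_mem _, one_mem _⟩
          | mul x y _ _ hx hy =>
            obtain ⟨hx1, hx2, hx3⟩ := hx
            obtain ⟨hy1, hy2, hy3⟩ := hy
            exact ⟨mul_mem hx1 hy1, mul_mem hx2 hy2, mul_mem hx3 hy3⟩
          | inv x _ hx =>
            obtain ⟨hx1, hx2, hx3⟩ := hx
            exact ⟨inv_mem hx1, inv_mem hx2, inv_mem hx3⟩
        obtain ⟨hrG, hrN, hrS⟩ := key r hr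
        have hd : r⁻¹ * n ∈ chevF4.diagonalSubgroup K :=
          cert12_F4.inv_mul_mem_diag r n hrN hnN' _ _ hπr hπ (fun _ _ => rfl)
        have e : (⟨n, hnG⟩ : ↥(twistedF4 K (2 ^ m))) = ⟨r, hrG⟩ * ⟨r⁻¹ * n, mul_mem (inv_mem hrG) hnG⟩ :=
          Subtype.ext (by simp)
        rw [e]
        refine mul_mem (Subgroup.mem_sup_left hrS) (Subgroup.mem_sup_right ?_)
        refine Subgroup.mem_inf.mpr ⟨?_, ?_⟩
        · exact Subgroup.mem_subgroupOf.mpr (Subgroup.mem_inf.mpr ⟨hHB hd, mul_mem (inv_mem hrG) hnG⟩)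
        · exact Subgroup.mem_subgroupOf.mpr (Subgroup.mem_inf.mpr ⟨hHN hd, mul_mem (inv_mem hrG) hnG⟩)
    mul_mem_union := by
      rintro ⟨s, hsG⟩ hs ⟨n, hnG⟩ hn ⟨b, hbG⟩ hb
      have hn' := Subgroup.mem_subgroupOf.mp hn
      have hb' := Subgroup.mem_subgroupOf.mp hb
      have hmain : ∃ x ∈ chevF4.borelSubgroup K ⊓ twistedF4 K (2 ^ m),
          ∃ y ∈ chevF4.borelSubgroup K ⊓ twistedF4 K (2 ^ m), s * b * n = x * (s * n) * y ∨ s * b * n = x * n * y := by
        rcases hs with hs | hs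
        · simp only at hs
          rw [hs]
          exact f4_mul_mem_union m hK [0, 3] isWd_w1 (fN1_mem_tw m) chkSubF4_1 n hn' b hb'
        · simp only at hs
          rw [hs]
          exact f4_mul_mem_union m hK [1, 2, 1, 2] isWd_w2 (fN2_mem_tw m) chkSubF4_2 n hn' b hb'
      obtain ⟨x, hx, y, hy, e⟩ := hmain
      have hxG := (Subgroup.mem_inf.mp hx).2
      have hyG := (Subgroup.mem_inf.mp hy).2
      rcases e with e | e
      · left
        rw [DoubleCoset.mem_doubleCoset]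
        exact ⟨⟨x, hxG⟩, Subgroup.mem_subgroupOf.mpr hx, ⟨y, hyG⟩, Subgroup.mem_subgroupOf.mpr hy, Subtype.ext e⟩
      · right
        rw [DoubleCoset.mem_doubleCoset]
        exact ⟨⟨x, hxG⟩, Subgroup.mem_subgroupOf.mpr hx, ⟨y, hyG⟩, Subgroup.mem_subgroupOf.mpr hy, Subtype.ext e⟩
    conj_ne := by
      rintro ⟨s, hsG⟩ hs heq
      have hcase : ∀ (x : GL chevF4.Idx K) (hxG : x ∈ twistedF4 K (2 ^ m)), x ∈ chevF4.posUnipotent K →
          s * x * s ∈ chevF4.borelSubgroup K := by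
        intro x hxG hxU
        have hmem : (⟨s, hsG⟩ * ⟨x, hxG⟩ * ⟨s, hsG⟩ : ↥(twistedF4 K (2 ^ m))) ∈
            ((chevF4.borelSubgroup K ⊓ twistedF4 K (2 ^ m)).subgroupOf (twistedF4 K (2 ^ m)) :
              Set ↥(twistedF4 K (2 ^ m))) := by
          rw [← heq]
          exact ⟨_, Subgroup.mem_subgroupOf.mpr (Subgroup.mem_inf.mpr ⟨hUB hxU, hxG⟩), rfl⟩
        exact (Subgroup.mem_inf.mp (Subgroup.mem_subgroupOf.mp hmem)).1
      rcases hs with hs | hs
      · simp only at hs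
        have hB := hcase (pU m 1) (pU_mem_tw m 1) (Vm_le_pos _ _ (pU_mem_Vm m 1))
        rw [hs] at hB
        exact f4_conj_ne m [0, 3] isWd_w1 w1_invol [24, 33] w1_neg _ (pU_mem_Vm m 1) (pU_one_ne m) hB
      · simp only at hs
        have hB := hcase (cU m 0 1) (cU_mem_tw m 0 1) (Vm_le_pos _ _ (cU_mem_Vm m 0 1))
        rw [hs] at hB
        exact f4_conj_ne m [1, 2, 1, 2] isWd_w2 w2_invol [25, 27, 28, 30] w2_neg _ (cU_mem_Vm m 0 1)
          (cU_zero_one_ne m) hB }

theorem f4BN_B (m : ℕ) (hK : Fintype.card K = 2 ^ (2 * m + 1)) :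
    (f4BN m hK).B = (chevF4.borelSubgroup K ⊓ twistedF4 K (2 ^ m)).subgroupOf (twistedF4 K (2 ^ m)) := rfl

theorem f4BN_N (m : ℕ) (hK : Fintype.card K = 2 ^ (2 * m + 1)) :
    (f4BN m hK).N = (chevF4.monomialSubgroup K ⊓ twistedF4 K (2 ^ m)).subgroupOf (twistedF4 K (2 ^ m)) := rfl

end F4

end Cfsg.Agent.Lib.H29.Chev
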