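import Mathlib
import Cfsg.Prelude.Def_ChevStructure
import Cfsg.Prelude.Def_LieTwisted
import Cfsg.Agent.Lib.H29.ChevF4u
import Cfsg.Agent.Lib.H29.ChevTw30

/-!
# The core of the Borel subgroup of the large Ree group is trivial
-/

set_option autoImplicit false
set_option linter.unusedSectionVars false
set_option linter.unusedSimpArgs false
set_option linter.unusedVariables false

namespace Cfsg.Agent.Lib.H29.Chev

open Cfsg.Lie Matrix

theorem tF4_w0 : ∀ s < 48, 24 ≤ s → tF4 8 s < 24 := by decide +kernel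

section F4

variable {K : Type*} [Field K] [Fintype K] [CharP K 2]

/-- an element all of whose conjugates under `G¹` lie in `B` lies in `H` -/
theorem f4_core_diag (m : ℕ) (hK : Fintype.card K = 2 ^ (2 * m + 1)) (k : GL chevF4.Idx K)
    (hk : ∀ g ∈ twistedF4 K (2 ^ m), g * k * g⁻¹ ∈ chevF4.borelSubgroup K ⊓ twistedF4 K (2 ^ m)) :
    k ∈ chevF4.diagonalSubgroup K := by
  have h1 := hk 1 (one_mem _)
  rw [one_mul, inv_one, mul_one] at h1
  obtain ⟨u, hu, h, hh, rfl⟩ := cert12_F4.c6.c2.borel_mem k (Subgroup.mem_inf.mp h1).1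
  obtain ⟨n₀, hn₀, hπ⟩ := f4_perm_surj (K := K) m 8 (by norm_num)
  obtain ⟨hn₀N, hn₀G⟩ := Subgroup.mem_inf.mp hn₀
  have h2 := (hk n₀ hn₀G).1
  have hc : n₀ * h * n₀⁻¹ ∈ chevF4.diagonalSubgroup K :=
    (Subgroup.mem_normalizer_iff.mp (cert12_F4.c6.c2.monomial_le_normalizer_diag hn₀N) _).mp hh
  have e : n₀ * u * n₀⁻¹ = (n₀ * (u * h) * n₀⁻¹) * (n₀ * h * n₀⁻¹)⁻¹ := by group
  have h3 : n₀ * u * n₀⁻¹ ∈ chevF4.borelSubgroup K := by
    rw [e]
    exact mul_mem h2 (inv_mem (cert12_F4.c6.diag_le_borel hc))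
  have h4 := cert12_F4.conj_pos_mem_neg n₀ _ hπ tF4_w0 u hu
  have h5 : n₀ * u * n₀⁻¹ ∈ chevF4.borelSubgroup K ⊓ chevF4.negUnipotent K := Subgroup.mem_inf.mpr ⟨h3, h4⟩
  rw [cert12_F4.c6.c2.borel_inf_neg, Subgroup.mem_bot] at h5
  have hu1 : u = 1 := by
    have : u = n₀⁻¹ * (n₀ * u * n₀⁻¹) * n₀ := by group
    rw [this, h5]; group
  rw [hu1, one_mul]
  exact hh

/-- such an element commutes with the elements of `U¹` -/
theorem f4_core_comm (m : ℕ) (hK : Fintype.card K = 2 ^ (2 * m + 1)) (k : GL chevF4.Idx K)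
    (hk : ∀ g ∈ twistedF4 K (2 ^ m), g * k * g⁻¹ ∈ chevF4.borelSubgroup K ⊓ twistedF4 K (2 ^ m))
    (u : GL chevF4.Idx K) (hu : u ∈ chevF4.posUnipotent K) (huG : u ∈ twistedF4 K (2 ^ m)) :
    k * u * k⁻¹ = u := by
  have hkD := f4_core_diag m hK k hk
  have hk' : ∀ g ∈ twistedF4 K (2 ^ m), g * (u⁻¹ * k * u⁻¹⁻¹) * g⁻¹ ∈
      chevF4.borelSubgroup K ⊓ twistedF4 K (2 ^ m) := by
    intro g hg
    have := hk (g * u⁻¹) (mul_mem hg (inv_mem huG))
    have e : g * u⁻¹ * k * (g * u⁻¹)⁻¹ = g * (u⁻¹ * k * u⁻¹⁻¹) * g⁻¹ := by group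
    rwa [e] at this
  have hD2 := f4_core_diag m hK _ hk'
  have hmem : u⁻¹ * (k * u * k⁻¹) ∈ chevF4.posUnipotent K ⊓ chevF4.diagonalSubgroup K := by
    refine Subgroup.mem_inf.mpr ⟨?_, ?_⟩
    · exact mul_mem (inv_mem hu)
        ((Subgroup.mem_normalizer_iff.mp (cert12_F4.c6.c2.diag_le_normalizer_pos hkD) u).mp hu)
    · have e : u⁻¹ * (k * u * k⁻¹) = (u⁻¹ * k * u⁻¹⁻¹) * k⁻¹ := by group
      rw [e]
      exact mul_mem hD2 (inv_mem hkD)
  rw [cert12_F4.c6.c2.pos_inf_diag, Subgroup.mem_bot] at hmem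
  have : k * u * k⁻¹ = u * (u⁻¹ * (k * u * k⁻¹)) := by group
  rw [this, hmem, mul_one]

/-- an element of `G¹` all of whose conjugates under `G¹` lie in `B` is trivial -/
theorem f4_core_trivial (m : ℕ) (hK : Fintype.card K = 2 ^ (2 * m + 1)) (k : GL chevF4.Idx K)
    (hk : ∀ g ∈ twistedF4 K (2 ^ m), g * k * g⁻¹ ∈ chevF4.borelSubgroup K ⊓ twistedF4 K (2 ^ m)) : k = 1 := by
  have hkD := f4_core_diag m hK k hk
  have c1 := f4_core_comm m hK k hk (pU m 1) (Vm_le_pos _ _ (pU_mem_Vm m 1)) (pU_mem_tw m 1)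
  have c2 := f4_core_comm m hK k hk (cU m 1 0) (Vm_le_pos _ _ (cU_mem_Vm m 1 0)) (cU_mem_tw m 1 0)
  rw [pU_sorted, f4Theta_one] at c1
  rw [cU_sorted, f4Theta_one, f4Theta_zero] at c2
  have e1 : k * (fX 24 1 * fX 33 1) * k⁻¹ = (k * fX 24 1 * k⁻¹) * (k * fX 33 1 * k⁻¹) := by group
  have e2 : k * (fX 25 1 * fX 27 1 * fX 28 0 * fX 30 (1 ^ 2 * 1 + 0 ^ 2)) * k⁻¹ =
      (k * fX 25 1 * k⁻¹) * ((k * fX 27 1 * k⁻¹) * ((k * fX 28 0 * k⁻¹) *
        ((k * fX 30 (1 ^ 2 * 1 + 0 ^ 2) * k⁻¹) * 1))) := by group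
  rw [e1, cert12_F4.diag_conj_xA k hkD 24 (by decide), cert12_F4.diag_conj_xA k hkD 33 (by decide)] at c1
  rw [e2, cert12_F4.diag_conj_xA k hkD 25 (by decide), cert12_F4.diag_conj_xA k hkD 27 (by decide),
    cert12_F4.diag_conj_xA k hkD 28 (by decide), cert12_F4.diag_conj_xA k hkD 30 (by decide)] at c2
  let a : ℕ → K := fun r => dE chevF4 k r * 1
  let a' : ℕ → K := fun _ => 1
  have k1 := cert12_F4.list_prod_inj [24, 33] sorted_C1 a a' (by
    simp only [List.map_cons, List.map_nil, List.prod_cons, List.prod_nil, mul_one, a, a']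
    simp only [mul_one] at c1
    exact c1)
  let b : ℕ → K := fun r => if r = 28 then dE chevF4 k 28 * 0 else if r = 30 then dE chevF4 k 30 * (1 ^ 2 * 1 + 0 ^ 2)
    else dE chevF4 k r * 1
  let b' : ℕ → K := fun r => if r = 28 then 0 else if r = 30 then (1 ^ 2 * 1 + 0 ^ 2) else 1
  have k2 := cert12_F4.list_prod_inj [25, 27, 28, 30] sorted_C2 b b' (by
    simp only [List.map_cons, List.map_nil, List.prod_cons, List.prod_nil, b, b']
    norm_num
    norm_num at c2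
    simp only [mul_assoc] at c2 ⊢
    exact c2)
  have d24 : dE chevF4 k 24 = 1 := by
    have := k1 24 (by simp)
    simpa [a, a'] using this
  have d33 : dE chevF4 k 33 = 1 := by
    have := k1 33 (by simp)
    simpa [a, a'] using this
  have d25 : dE chevF4 k 25 = 1 := by
    have := k2 25 (by simp)
    simpa [b, b'] using this
  have d27 : dE chevF4 k 27 = 1 := by
    have := k2 27 (by simp)
    simpa [b, b'] using this
  apply cert12_F4.diag_ext k 1 hkD (one_mem _)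
  intro i hi
  have hi' : i < 4 := hi
  rw [cert12_F4.dE_one]
  interval_cases i
  · exact d33
  · exact d27
  · exact d25
  · exact d24

theorem f4_borel_core (m : ℕ) (hK : Fintype.card K = 2 ^ (2 * m + 1)) :
    ((chevF4.borelSubgroup K ⊓ twistedF4 K (2 ^ m)).subgroupOf (twistedF4 K (2 ^ m))).normalCore = ⊥ := by
  rw [eq_bot_iff]
  intro g hg
  rw [Subgroup.mem_bot]
  have : (g : GL chevF4.Idx K) = 1 := by
    apply f4_core_trivial m hK
    intro b hb
    have := hg ⟨b, hb⟩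
    exact Subgroup.mem_subgroupOf.mp this
  exact Subtype.ext this

end F4

end Cfsg.Agent.Lib.H29.Chev
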