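import Mathlib
import Cfsg.Prelude.Def_ChevStructure
import Cfsg.Prelude.Def_LieTwisted
import Cfsg.Agent.Lib.H29.ChevF4v

/-!
# The multiplication of the generators of the large Ree group and the action of the torus
-/

set_option autoImplicit false
set_option linter.unusedSectionVars false
set_option linter.unusedSimpArgs false
set_option linter.unusedVariables false

namespace Cfsg.Agent.Lib.H29.Chev

open Cfsg.Lie Matrix

theorem cls_mul_aux {G : Type*} [Group G] (A A' B B' Z Z' Z'' : G) (h1 : B * A' = A' * B * Z'')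
    (c1 : Commute Z A') (c2 : Commute Z B') (c3 : Commute Z'' B') :
    A * B * Z * (A' * B' * Z') = (A * A') * (B * B') * (Z'' * Z * Z') := by
  calc A * B * Z * (A' * B' * Z') = A * B * (Z * A') * B' * Z' := by group
    _ = A * B * (A' * Z) * B' * Z' := by rw [c1.eq]
    _ = A * (B * A') * (Z * B') * Z' := by group
    _ = A * (A' * B * Z'') * (B' * Z) * Z' := by rw [h1, c2.eq]
    _ = A * A' * B * (Z'' * B') * Z * Z' := by group
    _ = A * A' * B * (B' * Z'') * Z * Z' := by rw [c3.eq]
    _ = (A * A') * (B * B') * (Z'' * Z * Z') := by group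

section F4

variable {K : Type*} [Field K] [CharP K 2]

theorem pairEl_mul (m r rbar : ℕ) (hc : ∀ t u : K, Commute (fX r t) (fX rbar u)) (t t' : K) :
    pairEl m r rbar t * pairEl m r rbar t' = pairEl m r rbar (t + t') := by
  unfold pairEl
  rw [map_add, ← fX_mul, ← fX_mul]
  have := (hc (f4Theta K m t') t).eq
  simp only [mul_assoc]
  rw [← mul_assoc (fX rbar t), ← this]
  simp only [mul_assoc]

theorem pairEl_zero (m r rbar : ℕ) : pairEl m r rbar (0 : K) = 1 := by
  unfold pairEl fX
  rw [f4Theta_zero, cert12_F4.c6.c2.xA_zero, cert12_F4.c6.c2.xA_zero, one_mul]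

theorem pairEl_inv (m r rbar : ℕ) (hc : ∀ t u : K, Commute (fX r t) (fX rbar u)) (t : K) :
    (pairEl m r rbar t)⁻¹ = pairEl m r rbar t := by
  rw [inv_eq_iff_mul_eq_one, pairEl_mul m r rbar hc, CharTwo.add_self_eq_zero, pairEl_zero]

/-- the action of an element of the torus on a pair element -/
theorem pairEl_conj (m r rbar : ℕ) (hr : r < 48) (hrb : rbar < 48) (h : GL chevF4.Idx K)
    (hh : h ∈ chevF4.diagonalSubgroup K) (he : dE chevF4 h r = f4Theta K m (dE chevF4 h rbar)) (t : K) :
    h * pairEl m r rbar t * h⁻¹ = pairEl m r rbar (dE chevF4 h rbar * t) := by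
  unfold pairEl
  have e : h * (fX r (f4Theta K m t) * fX rbar t) * h⁻¹ = (h * fX r (f4Theta K m t) * h⁻¹) * (h * fX rbar t * h⁻¹) := by
    group
  rw [e, cert12_F4.diag_conj_xA h hh r hr, cert12_F4.diag_conj_xA h hh rbar hrb, he, map_mul]

/-- the multiplication of the class elements -/
theorem clsEl_mul (m a b c d : ℕ) (hθ : ∀ x : K, f4Theta K m (f4Theta K m x) ^ 2 = x)
    (hab : ∀ t u : K, fX b u * fX a t = fX a t * fX b u * (fX c (t * u) * fX d (t ^ 2 * u)))
    (hcd : ∀ t u : K, Commute (fX c t) (fX d u)) (hac : ∀ t u : K, Commute (fX a t) (fX c u))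
    (had : ∀ t u : K, Commute (fX a t) (fX d u)) (hbc : ∀ t u : K, Commute (fX b t) (fX c u))
    (hbd : ∀ t u : K, Commute (fX b t) (fX d u)) (t u t' u' : K) :
    clsEl m a b c d t u * clsEl m a b c d t' u' = clsEl m a b c d (t + t') (u + u' + f4Theta K m t * t') := by
  have hZ : ∀ x y x' y' : K, (fX c x * fX d y) * (fX c x' * fX d y') = fX c (x + x') * fX d (y + y') := by
    intro x y x' y'
    rw [← fX_mul, ← fX_mul]
    have := (hcd x' y).eq
    simp only [mul_assoc]
    rw [← mul_assoc (fX d y), ← this]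
    simp only [mul_assoc]
  have hcl : ∀ t u : K, clsEl m a b c d t u =
      fX a (f4Theta K m t) * fX b t * (fX c (f4Theta K m t * t + u) * fX d (f4Theta K m u ^ 2)) := by
    intro t u
    unfold clsEl
    simp only [mul_assoc]
  rw [hcl, hcl, hcl]
  rw [cls_mul_aux _ _ _ _ _ _ _ (hab (f4Theta K m t') t)
    (((hac _ _).symm).mul_left ((had _ _).symm)) (((hbc _ _).symm).mul_left ((hbd _ _).symm))
    (((hbc _ _).symm).mul_left ((hbd _ _).symm)), fX_mul, fX_mul, hZ, hZ, ← map_add]
  have e1 : f4Theta K m t' * t + (f4Theta K m t * t + u) + (f4Theta K m t' * t' + u') =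
      f4Theta K m (t + t') * (t + t') + (u + u' + f4Theta K m t * t') := by
    rw [map_add]
    have h2 : (2 : K) = 0 := by
      have := CharP.cast_eq_zero K 2
      exact_mod_cast this
    have : (f4Theta K m t + f4Theta K m t') * (t + t') + (u + u' + f4Theta K m t * t') =
        f4Theta K m t' * t + (f4Theta K m t * t + u) + (f4Theta K m t' * t' + u') + 2 * (f4Theta K m t * t') := by ring
    rw [this, h2, zero_mul, add_zero]
  have e2 : f4Theta K m t' ^ 2 * t + f4Theta K m u ^ 2 + f4Theta K m u' ^ 2 =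
      f4Theta K m (u + u' + f4Theta K m t * t') ^ 2 := by
    rw [map_add, map_add, map_mul, add_sq, add_sq, mul_pow, hθ t]
    have h2 : (2 : K) = 0 := by
      have := CharP.cast_eq_zero K 2
      exact_mod_cast this
    rw [h2]
    ring
  rw [e1, e2]

/-- the action of an element of the torus on a class element -/
theorem clsEl_conj (m a b c d : ℕ) (ha : a < 48) (hb : b < 48) (hc : c < 48) (hd : d < 48)
    (hθ : ∀ x : K, f4Theta K m (f4Theta K m x) ^ 2 = x) (h : GL chevF4.Idx K)
    (hh : h ∈ chevF4.diagonalSubgroup K) (ea : dE chevF4 h a = f4Theta K m (dE chevF4 h b))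
    (ec : dE chevF4 h c = f4Theta K m (dE chevF4 h b) * dE chevF4 h b)
    (ed : dE chevF4 h d = f4Theta K m (dE chevF4 h b) ^ 2 * dE chevF4 h b) (t u : K) :
    h * clsEl m a b c d t u * h⁻¹ =
      clsEl m a b c d (dE chevF4 h b * t) (f4Theta K m (dE chevF4 h b) * dE chevF4 h b * u) := by
  unfold clsEl
  have e : h * (fX a (f4Theta K m t) * fX b t * fX c (f4Theta K m t * t + u) * fX d (f4Theta K m u ^ 2)) * h⁻¹ =
      (h * fX a (f4Theta K m t) * h⁻¹) * (h * fX b t * h⁻¹) * (h * fX c (f4Theta K m t * t + u) * h⁻¹) *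
        (h * fX d (f4Theta K m u ^ 2) * h⁻¹) := by group
  rw [e, cert12_F4.diag_conj_xA h hh a ha, cert12_F4.diag_conj_xA h hh b hb, cert12_F4.diag_conj_xA h hh c hc,
    cert12_F4.diag_conj_xA h hh d hd, ea, ec, ed]
  set l := dE chevF4 h b with hl
  have e1 : f4Theta K m l * f4Theta K m t = f4Theta K m (l * t) := (map_mul _ _ _).symm
  have e2 : f4Theta K m l * l * (f4Theta K m t * t + u) = f4Theta K m (l * t) * (l * t) + f4Theta K m l * l * u := by
    rw [map_mul]; ring
  have e3 : f4Theta K m l ^ 2 * l * f4Theta K m u ^ 2 = f4Theta K m (f4Theta K m l * l * u) ^ 2 := by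
    rw [map_mul, map_mul, mul_pow, mul_pow, hθ l]
    ring
  rw [e1, e2, e3]

end F4

end Cfsg.Agent.Lib.H29.Chev
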