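import Mathlib
import Cfsg.Prelude.Def_ChevStructure
import Cfsg.Prelude.Def_LieTwisted
import Cfsg.Agent.Lib.H29.ChevRee5

/-!
# The Ree group is contained in the fixed points of `σ`; its intersection with `U`
-/

set_option autoImplicit false
set_option linter.unusedSectionVars false
set_option linter.unusedSimpArgs false
set_option linter.unusedVariables false

namespace Cfsg.Agent.Lib.H29.Chev

open Cfsg.Lie Matrix

section Ree

variable {K : Type*} [Field K]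

theorem uR_mem_tw [CharP K 3] (m : ℕ) (t u v : K) : uR m t u v ∈ twistedG2 K (3 ^ m) :=
  Subgroup.subset_closure ⟨_, ⟨t, u, v, Or.inl rfl⟩, uR_val m t u v⟩

theorem vR_mem_tw [CharP K 3] (m : ℕ) (t u v : K) : vR m t u v ∈ twistedG2 K (3 ^ m) :=
  Subgroup.subset_closure ⟨_, ⟨t, u, v, Or.inr rfl⟩, vR_val m t u v⟩

variable [Fintype K] [CharP K 3]

theorem twistedG2_le_fix (m : ℕ) (hK : Fintype.card K = 3 ^ (2 * m + 1)) :
    twistedG2 K (3 ^ m) ≤ fixGL (reeSigma (K := K) m) := by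
  unfold twistedG2 ChevalleyDatum.genSubgroup
  rw [Subgroup.closure_le]
  rintro g ⟨w, ⟨t, u, v, rfl | rfl⟩, hg⟩
  · have : g = uR m t u v := gl_ext (by rw [hg, uR_val])
    rw [this]
    exact (mem_fixGL _ _).mpr ⟨uR_mem_group m t u v, uR_fixed m hK t u v⟩
  · have : g = vR m t u v := gl_ext (by rw [hg, vR_val])
    rw [this]
    exact (mem_fixGL _ _).mpr ⟨vR_mem_group m t u v, vR_fixed m hK t u v⟩

theorem twistedG2_le_group (m : ℕ) (hK : Fintype.card K = 3 ^ (2 * m + 1)) :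
    twistedG2 K (3 ^ m) ≤ chevG2.group K := (twistedG2_le_fix m hK).trans (fixGL_le _)

/-- the elements of `U ∩ G¹` -/
theorem mem_pos_inf_tw (m : ℕ) (hK : Fintype.card K = 3 ^ (2 * m + 1)) (g : GL chevG2.Idx K) :
    g ∈ chevG2.posUnipotent K ⊓ twistedG2 K (3 ^ m) ↔ ∃ t u v : K, g = uR m t u v := by
  constructor
  · intro hg
    exact fix_pos_eq_uR m hK g hg.1 (twistedG2_le_fix m hK hg.2)
  · rintro ⟨t, u, v, rfl⟩
    exact ⟨uR_mem_pos m t u v, uR_mem_tw m t u v⟩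

theorem card_pos_inf_tw (m : ℕ) (hK : Fintype.card K = 3 ^ (2 * m + 1)) :
    Nat.card ↥(chevG2.posUnipotent K ⊓ twistedG2 K (3 ^ m)) = (3 ^ (2 * m + 1)) ^ 3 := by
  have hbij : Function.Bijective (fun x : K × K × K =>
      (⟨uR m x.1 x.2.1 x.2.2, (mem_pos_inf_tw m hK _).mpr ⟨_, _, _, rfl⟩⟩ :
        ↥(chevG2.posUnipotent K ⊓ twistedG2 K (3 ^ m)))) := by
    constructor
    · rintro ⟨t, u, v⟩ ⟨t', u', v'⟩ h
      have h' := congrArg Subtype.val h
      obtain ⟨rfl, rfl, rfl⟩ := uR_inj m _ _ _ _ _ _ h'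
      rfl
    · rintro ⟨g, hg⟩
      obtain ⟨t, u, v, rfl⟩ := (mem_pos_inf_tw m hK g).mp hg
      exact ⟨(t, u, v), rfl⟩
  rw [← Nat.card_congr (Equiv.ofBijective _ hbij), Nat.card_prod, Nat.card_prod, Nat.card_eq_fintype_card, hK]
  ring

end Ree

end Cfsg.Agent.Lib.H29.Chev
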