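import Mathlib
import Cfsg.Prelude.Def_ChevStructure
import Cfsg.Prelude.Def_LieTwisted
import Cfsg.Agent.Lib.H29.ChevRee8
import Cfsg.Agent.Lib.H29.ChevRee6

/-!
# The fixed points of `σ` in `H` for `G₂`
-/

set_option autoImplicit false
set_option linter.unusedSectionVars false
set_option linter.unusedSimpArgs false
set_option linter.unusedVariables false

namespace Cfsg.Agent.Lib.H29.Chev

open Cfsg.Lie Matrix

theorem torus_calc1 {A : Type*} [CommGroup A] (w z : A) :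
    (w ^ 2 * z) ^ (-3 : ℤ) * (w ^ 3 * z ^ 2) ^ (2 : ℤ) = z := by
  simp only [mul_zpow, ← zpow_natCast, ← _root_.zpow_mul]
  rw [mul_mul_mul_comm, ← _root_.zpow_add, ← _root_.zpow_add]
  norm_num

theorem torus_calc2 {A : Type*} [CommGroup A] (w z : A) :
    (w ^ 2 * z) ^ (2 : ℤ) * (w ^ 3 * z ^ 2) ^ (-1 : ℤ) = w := by
  simp only [mul_zpow, ← zpow_natCast, ← _root_.zpow_mul]
  rw [mul_mul_mul_comm, ← _root_.zpow_add, ← _root_.zpow_add]
  norm_num

section Ree

variable {K : Type*} [Field K] [CharP K 3]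

/-- `θ` on the units -/
noncomputable def thetaU (K : Type*) [Field K] [CharP K 3] (m : ℕ) : Kˣ →* Kˣ :=
  Units.map (reeTheta K m : K →* K)

theorem thetaU_val (m : ℕ) (z : Kˣ) : ((thetaU K m z : Kˣ) : K) = reeTheta K m (z : K) := rfl

/-- the parameters of the torus elements `h(z)`, with `χ(b) = z`, `χ(a) = θ z` -/
noncomputable def torR (K : Type*) [Field K] [CharP K 3] (m : ℕ) : Kˣ →* (Fin fdG2.l → Kˣ) where
  toFun := fun z i => if i.val = 0 then thetaU K m z ^ 2 * z else thetaU K m z ^ 3 * z ^ 2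
  map_one' := by
    funext i
    by_cases h : i.val = 0 <;> simp [h]
  map_mul' := by
    intro x y
    funext i
    by_cases h : i.val = 0
    · simp only [h, if_true, map_mul, Pi.mul_apply]
      rw [mul_pow]; exact mul_mul_mul_comm _ _ _ _
    · simp only [h, if_false, map_mul, Pi.mul_apply]
      rw [mul_pow, mul_pow]; exact mul_mul_mul_comm _ _ _ _

/-- the torus elements `h(z)` -/
noncomputable def hR (K : Type*) [Field K] [CharP K 3] (m : ℕ) : Kˣ →* GL chevG2.Idx K :=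
  (chiHom chevG2 fdG2 K).comp (torR K m)

theorem hR_mem_diag (m : ℕ) (z : Kˣ) : hR K m z ∈ chevG2.diagonalSubgroup K := by
  rw [cert12_G2.diag_eq_range]
  exact ⟨_, rfl⟩

theorem dE_chi (x : Fin fdG2.l → Kˣ) (s : ℕ) (hs : s < 12) :
    dE chevG2 (chiHom chevG2 fdG2 K x) s = ((x ⟨0, by decide⟩ ^ fdG2.carZ 0 s * x ⟨1, by decide⟩ ^ fdG2.carZ 1 s : Kˣ) : K) := by
  have hs' : s < chevG2.nroots := hs
  unfold dE
  rw [dif_pos hs', chiHom_val, Matrix.diagonal_apply_eq]
  congr 1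
  show ∏ i : Fin fdG2.l, x i ^ fdG2.carZ i.val s = _
  exact Fin.prod_univ_two (fun i : Fin 2 => x i ^ fdG2.carZ i.val s)

theorem dE_hR_6 (m : ℕ) (z : Kˣ) : dE chevG2 (hR K m z) 6 = (z : K) := by
  unfold hR
  rw [MonoidHom.comp_apply, dE_chi _ 6 (by decide)]
  have h0 : fdG2.carZ 0 6 = -3 := by decide
  have h1 : fdG2.carZ 1 6 = 2 := by decide
  rw [h0, h1]
  congr 1
  simp only [torR, MonoidHom.coe_mk, OneHom.coe_mk, if_true, Fin.val_one, one_ne_zero, if_false]
  exact torus_calc1 _ _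

theorem dE_hR_7 (m : ℕ) (z : Kˣ) : dE chevG2 (hR K m z) 7 = reeTheta K m (z : K) := by
  unfold hR
  rw [MonoidHom.comp_apply, dE_chi _ 7 (by decide), ← thetaU_val]
  have h0 : fdG2.carZ 0 7 = 2 := by decide
  have h1 : fdG2.carZ 1 7 = -1 := by decide
  rw [h0, h1]
  congr 1
  simp only [torR, MonoidHom.coe_mk, OneHom.coe_mk, if_true, Fin.val_one, one_ne_zero, if_false]
  exact torus_calc2 _ _

theorem hR_mem_group (m : ℕ) (z : Kˣ) : hR K m z ∈ chevG2.group K :=
  cert12_G2.c6.c2.diag_le_group (hR_mem_diag m z)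

theorem simples_G2 : fdG2.simples.getD 0 0 = 7 ∧ fdG2.simples.getD 1 0 = 6 := by decide

/-- an element of `H` is determined by its entries at the roots `a`, `b` -/
theorem diag_ext_G2 (h h' : GL chevG2.Idx K) (hh : h ∈ chevG2.diagonalSubgroup K)
    (hh' : h' ∈ chevG2.diagonalSubgroup K) (h6 : dE chevG2 h 6 = dE chevG2 h' 6)
    (h7 : dE chevG2 h 7 = dE chevG2 h' 7) : h = h' := by
  apply cert12_G2.diag_ext h h' hh hh'
  intro i hi
  have hi' : i < 2 := hi
  interval_cases i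
  · rw [simples_G2.1]; exact h7
  · rw [simples_G2.2]; exact h6

variable [Fintype K]

theorem hR_fixed (m : ℕ) (hK : Fintype.card K = 3 ^ (2 * m + 1)) (z : Kˣ) :
    hR K m z ∈ fixGL (reeSigma (K := K) m) := by
  rw [mem_fixGL]
  refine ⟨hR_mem_group m z, ?_⟩
  have R := reeRootTw (K := K) m
  have hd := R.sig_diag ⟨hR K m z, hR_mem_group m z⟩ (hR_mem_diag m z)
  obtain ⟨_, _, _, _, _, _, r6, r7, _⟩ := rhoG2_vals
  apply diag_ext_G2 _ _ hd (hR_mem_diag m z)
  · have := R.sig_dE ⟨hR K m z, hR_mem_group m z⟩ (hR_mem_diag m z) 7 (by decide)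
    rw [r7] at this
    rw [this, reePsi_short m 7 (by decide), dE_hR_7, dE_hR_6, theta_theta_frob m hK]
  · have := R.sig_dE ⟨hR K m z, hR_mem_group m z⟩ (hR_mem_diag m z) 6 (by decide)
    rw [r6] at this
    rw [this, reePsi_long m 6 (by decide), dE_hR_7, dE_hR_6]

/-- the fixed points of `σ` in `H` -/
theorem fix_diag_eq_hR (m : ℕ) (h : GL chevG2.Idx K) (hh : h ∈ chevG2.diagonalSubgroup K)
    (hfix : h ∈ fixGL (reeSigma (K := K) m)) : ∃ z : Kˣ, h = hR K m z := by
  obtain ⟨hG, hσ⟩ := (mem_fixGL _ _).mp hfix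
  have R := reeRootTw (K := K) m
  obtain ⟨_, _, _, _, _, _, r6, r7, _⟩ := rhoG2_vals
  refine ⟨Units.mk0 (dE chevG2 h 6) (cert12_G2.dE_ne_zero h hh 6 (by decide)), ?_⟩
  apply diag_ext_G2 _ _ hh (hR_mem_diag m _)
  · rw [dE_hR_6]; rfl
  · rw [dE_hR_7]
    have := R.sig_dE ⟨h, hG⟩ hh 6 (by decide)
    rw [r6, hσ, reePsi_long m 6 (by decide)] at this
    rw [this]; rfl

theorem hR_injective (m : ℕ) : Function.Injective (hR K m) := by
  intro z z' h
  have := congrArg (fun g => dE chevG2 g 6) h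
  simp only [dE_hR_6] at this
  exact Units.ext this

end Ree

end Cfsg.Agent.Lib.H29.Chev
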