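import Mathlib
import Cfsg.Prelude.Def_ChevStructure
import Cfsg.Prelude.Def_LieTwisted
import Cfsg.Agent.Lib.H29.ChevRee9
import Cfsg.Agent.Lib.H29.ChevRee10

/-!
# The elements `n₀` and `h(-1)` of the Ree group
-/

set_option autoImplicit false
set_option linter.unusedSectionVars false
set_option linter.unusedSimpArgs false
set_option linter.unusedVariables false

namespace Cfsg.Agent.Lib.H29.Chev

open Cfsg.Lie Matrix

section Ree

variable {K : Type*} [Field K] [CharP K 3]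

/-- the representative `n₀ = n_{a+b} n_{3a+b}` of the longest element -/
noncomputable def n0R (K : Type*) [Field K] : GL chevG2.Idx K :=
  cert12_G2.c6.c2.nG 8 (by decide) * cert12_G2.c6.c2.nG 10 (by decide)

theorem n0R_mem_monomial : n0R K ∈ chevG2.monomialSubgroup K :=
  mul_mem (cert12_G2.c6.c2.nG_mem_monomial _ _) (cert12_G2.c6.c2.nG_mem_monomial _ _)

theorem chkConj_8 : ∀ s < 12, fdG2.chkConj fxG2 8 s = true := by decide +kernel
theorem chkConj_10 : ∀ s < 12, fdG2.chkConj fxG2 10 s = true := by decide +kernel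
theorem nw_8_10 : ∀ s < 12, fdG2.nw fxG2 10 s < 12 ∧ fdG2.nw fxG2 8 (fdG2.nw fxG2 10 s) = 11 - s := by
  decide +kernel

/-- `n₀` acts on the roots by `r ↦ -r` -/
theorem perm_n0R : cert12_G2.c6.c2.Perm (n0R K) (fun s => fdG2.n - 1 - s) := by
  intro s hs
  have hs' : s < 12 := hs
  refine ⟨by show 12 - 1 - s < 12; omega, by show 12 - 1 - (12 - 1 - s) = 12 - 1 - (12 - 1 - s); rfl,
    ((fdG2.neta fxG2 8 (fdG2.nw fxG2 10 s) : ℤ) : K) * ((fdG2.neta fxG2 10 s : ℤ) : K), fun t => ?_⟩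
  obtain ⟨h1, h2⟩ := nw_8_10 s hs'
  have e1 := cert12_G2.c6.c2.nG_conj_x (F := K) 10 s (by decide) hs (chkConj_10 s hs') t
  have e2 := cert12_G2.c6.c2.nG_conj_x (F := K) 8 (fdG2.nw fxG2 10 s) (by decide) h1 (chkConj_8 _ h1)
    (((fdG2.neta fxG2 10 s : ℤ) : K) * t)
  unfold n0R
  have : ∀ a b x : GL chevG2.Idx K, a * b * x * (a * b)⁻¹ = a * (b * x * b⁻¹) * a⁻¹ := fun a b x => by group
  rw [this, e1, e2, h2, mul_assoc]
  rfl

theorem uR_010 (m : ℕ) : uR m (0 : K) 1 0 = gX 8 1 * gX 10 1 := by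
  rw [uR_eq]
  unfold gZ
  simp only [map_zero, map_one, gX, cert12_G2.c6.c2.xA_zero, mul_zero, zero_add, add_zero, one_mul, mul_one,
    ne_eq, OfNat.ofNat_ne_zero, not_false_eq_true, zero_pow]

theorem vR_010 (m : ℕ) : vR m (0 : K) 1 0 = gX 3 (-1) * gX 1 (-1) := by
  rw [vR_eq]
  unfold gZn
  simp only [map_zero, map_one, gX, cert12_G2.c6.c2.xA_zero, mul_zero, zero_add, add_zero, one_mul, mul_one,
    ne_eq, OfNat.ofNat_ne_zero, not_false_eq_true, zero_pow, neg_zero]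

theorem uR_100 (m : ℕ) : uR m (1 : K) 0 0 = gX 7 1 * gX 6 1 * gX 8 1 * gX 9 1 := by
  rw [uR_eq]
  unfold gZ
  simp only [map_zero, map_one, gX, cert12_G2.c6.c2.xA_zero, mul_zero, zero_add, add_zero, one_mul, mul_one,
    one_pow, mul_assoc]

theorem vR_111 (m : ℕ) : vR m (1 : K) 1 1 = gX 4 (-1) * gX 5 (-1) * gX 3 (-2) * gX 2 (-2) * gX 1 (-1) * gX 0 (-1) := by
  rw [vR_eq]
  unfold gZn
  simp only [map_one, gX, one_mul, mul_one, one_pow, mul_assoc]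
  norm_num

theorem theta_neg_one (m : ℕ) : reeTheta K m (-1) = -1 := by
  rw [map_neg, map_one]

theorem vR_m1m11 (m : ℕ) : vR m (-1 : K) (-1) 1 = gX 4 1 * gX 5 1 * gX 1 1 * gX 0 (-1) := by
  rw [vR_eq]
  unfold gZn
  simp only [theta_neg_one, map_one, gX, neg_neg, mul_assoc]
  have e1 : -((-1 : K) * -1 + -1) = 0 := by ring
  have e2 : -((-1 : K) ^ 2 * -1 + 1) = 0 := by ring
  rw [e1, e2]
  simp only [cert12_G2.c6.c2.xA_zero, one_mul]

/-- the two words for `n₀` -/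
def wN0a : List (ℕ × ℤ × ℕ × ℕ) := [(8, 1, 0, 0), (10, 1, 0, 0), (3, -1, 0, 0), (1, -1, 0, 0), (8, 1, 0, 0), (10, 1, 0, 0)]
def wN0b : List (ℕ × ℤ × ℕ × ℕ) := [(8, 1, 0, 0), (3, -1, 0, 0), (8, 1, 0, 0), (10, 1, 0, 0), (1, -1, 0, 0), (10, 1, 0, 0)]

set_option maxRecDepth 100000 in
theorem wN0_chk : fdG2.wordEqMod 3 wN0a wN0b = true := by decide +kernel

theorem nG8_eq : cert12_G2.c6.c2.nG (F := K) 8 (by decide) = gX 8 1 * gX 3 (-1) * gX 8 1 :=
  cert12_G2.c6.c2.nG_eq_xA' 8 _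

theorem nG10_eq : cert12_G2.c6.c2.nG (F := K) 10 (by decide) = gX 10 1 * gX 1 (-1) * gX 10 1 :=
  cert12_G2.c6.c2.nG_eq_xA' 10 _

/-- `n₀` is a product of Ree elements -/
theorem n0R_eq (m : ℕ) : n0R K = uR m 0 1 0 * vR m 0 1 0 * uR m 0 1 0 := by
  have key := cert12_G2.c6.c2.wordG_eq_of_mod (F := K) 3 wN0a wN0b wN0_chk
  unfold Cert2.wordG wN0a wN0b at key
  simp only [List.map_cons, List.map_nil, List.prod_cons, List.prod_nil, mul_one, Int.cast_one, Int.cast_neg] at key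
  unfold n0R
  rw [uR_010, vR_010, nG8_eq, nG10_eq]
  simp only [gX, mul_assoc]
  exact key.symm

theorem n0R_mem_tw (m : ℕ) : n0R K ∈ twistedG2 K (3 ^ m) := by
  rw [n0R_eq m]
  exact mul_mem (mul_mem (uR_mem_tw m _ _ _) (vR_mem_tw m _ _ _)) (uR_mem_tw m _ _ _)

/-- the two words for `h(-1) n₀` -/
def wM2a : List (ℕ × ℤ × ℕ × ℕ) := [(4, 1, 0, 0), (5, 1, 0, 0), (1, 1, 0, 0), (0, -1, 0, 0), (7, 1, 0, 0), (6, 1, 0, 0),
  (8, 1, 0, 0), (9, 1, 0, 0), (4, -1, 0, 0), (5, -1, 0, 0), (3, -2, 0, 0), (2, -2, 0, 0), (1, -1, 0, 0), (0, -1, 0, 0)]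
def wM2b : List (ℕ × ℤ × ℕ × ℕ) := [(8, -1, 0, 0), (3, 1, 0, 0), (8, -1, 0, 0), (8, -1, 0, 0), (3, 1, 0, 0), (8, -1, 0, 0),
  (8, 1, 0, 0), (3, -1, 0, 0), (8, 1, 0, 0), (10, 1, 0, 0), (1, -1, 0, 0), (10, 1, 0, 0)]

set_option maxRecDepth 100000 in
theorem wM2_chk : fdG2.wordEqMod 3 wM2a wM2b = true := by decide +kernel

/-- the element `h_{a+b}(-1)` -/
noncomputable def hM1 (K : Type*) [Field K] : GL chevG2.Idx K := cert12_G2.nE 8 (-1) * cert12_G2.nE 8 (-1)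

theorem hM1_val : ((hM1 K : GL chevG2.Idx K) : Matrix chevG2.Idx chevG2.Idx K) = chevG2.hMat K 8 (-1) := by
  unfold hM1
  rw [Units.val_mul, cert12_G2.nE_val 8 (by decide)]
  unfold ChevalleyDatum.hMat ChevalleyDatum.hWord ChevalleyDatum.nMat
  rw [wordMat_append]

theorem hM1_mem_diag : hM1 K ∈ chevG2.diagonalSubgroup K :=
  Subgroup.subset_closure ⟨8, -1, by decide, by norm_num, hM1_val⟩

theorem dE_hM1 (s : ℕ) (hs : s < 12) : dE chevG2 (hM1 K) s = (-1 : K) ^ fdG2.pr s 8 := by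
  have hs' : s < chevG2.nroots := hs
  unfold dE
  rw [dif_pos hs', hM1_val, cert12_G2.c6.c2.hMat_eq 8 (by decide) (-1) (by norm_num), Td_apply, if_pos rfl,
    cert12_G2.c6.c2.hExp_inr]

theorem hM1_eq_hR (m : ℕ) : hM1 K = hR K m (-1) := by
  apply diag_ext_G2 _ _ hM1_mem_diag (hR_mem_diag m _)
  · rw [dE_hM1 6 (by decide), dE_hR_6]
    have : fdG2.pr 6 8 = 3 := by decide +kernel
    rw [this]
    norm_num
  · rw [dE_hM1 7 (by decide), dE_hR_7]
    have : fdG2.pr 7 8 = -1 := by decide +kernel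
    rw [this]
    simp only [Units.val_neg, Units.val_one, theta_neg_one]
    norm_num

/-- `h(-1) n₀` is a product of Ree elements -/
theorem hM1_n0R_eq (m : ℕ) : hR K m (-1) * n0R K = vR m (-1) (-1) 1 * uR m 1 0 0 * vR m 1 1 1 := by
  have key := cert12_G2.c6.c2.wordG_eq_of_mod (F := K) 3 wM2a wM2b wM2_chk
  unfold Cert2.wordG wM2a wM2b at key
  simp only [List.map_cons, List.map_nil, List.prod_cons, List.prod_nil, mul_one, Int.cast_one, Int.cast_neg,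
    Int.cast_ofNat] at key
  rw [← hM1_eq_hR]
  unfold n0R hM1 Cert12.nE
  rw [vR_m1m11, uR_100, vR_111, nG8_eq, nG10_eq]
  have e1 : -(-1 : K)⁻¹ = 1 := by norm_num
  have e2 : fdG2.n - 1 - 8 = 3 := rfl
  rw [e1, e2]
  simp only [gX, mul_assoc]
  exact key.symm

theorem hM1_n0R_mem_tw (m : ℕ) : hR K m (-1) * n0R K ∈ twistedG2 K (3 ^ m) := by
  rw [hM1_n0R_eq m]
  exact mul_mem (mul_mem (vR_mem_tw m _ _ _) (uR_mem_tw m _ _ _)) (vR_mem_tw m _ _ _)

theorem hM1_mem_tw (m : ℕ) : hR K m (-1) ∈ twistedG2 K (3 ^ m) := by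
  have := mul_mem (hM1_n0R_mem_tw (K := K) m) (inv_mem (n0R_mem_tw (K := K) m))
  rwa [mul_inv_cancel_right] at this

end Ree

end Cfsg.Agent.Lib.H29.Chev
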