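import Mathlib
import Cfsg.Prelude.Def_ChevStructure
import Cfsg.Prelude.Def_LieTwisted
import Cfsg.Agent.Lib.H29.ChevRee11

/-!
# Conjugation of the Ree elements by the torus
-/

set_option autoImplicit false
set_option linter.unusedSectionVars false
set_option linter.unusedSimpArgs false
set_option linter.unusedVariables false

namespace Cfsg.Agent.Lib.H29.Chev

open Cfsg.Lie Matrix

section Generic

variable {D : ChevalleyDatum} {fd : FD} {fx : FX} {fc : FC} {fz : FZ} {F : Type*} [Field F]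

namespace Cert12

variable (C : Cert12 D fd fx fc fz)
include C

/-- conjugation by an element of `N` permutes the diagonal entries of the elements of `H` -/
theorem conj_diag_dE (n : GL D.Idx F) (π : ℕ → ℕ) (hπ : C.c6.c2.Perm n π) (h : GL D.Idx F)
    (hh : h ∈ D.diagonalSubgroup F) (hnh : n * h * n⁻¹ ∈ D.diagonalSubgroup F) (s : ℕ) (hs : s < fd.n) :
    dE D (n * h * n⁻¹) (π s) = dE D h s := by
  obtain ⟨h1, _, c, hc⟩ := hπ s hs
  have hc0 : c ≠ 0 := by
    intro h0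
    have := hc 1
    rw [h0, zero_mul, C.c6.c2.xA_zero] at this
    have h2 : C.c6.c2.xA s (1 : F) = 1 := by
      have e2 : ∀ a b : GL D.Idx F, b = a⁻¹ * (a * b * a⁻¹) * a := fun a b => by group
      rw [e2 n (C.c6.c2.xA s (1 : F)), this]; group
    exact one_ne_zero (C.c6.xA_eq_one s hs 1 h2)
  have e1 := C.diag_conj_xA (n * h * n⁻¹) hnh (π s) h1 (c * 1)
  have e2 : n * h * n⁻¹ * C.c6.c2.xA (π s) (c * 1) * (n * h * n⁻¹)⁻¹ =
      n * (h * (n⁻¹ * C.c6.c2.xA (π s) (c * 1) * n) * h⁻¹) * n⁻¹ := by group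
  have e3 : n⁻¹ * C.c6.c2.xA (π s) (c * 1) * n = C.c6.c2.xA s 1 := by
    rw [← hc 1]; group
  rw [e2, e3, C.diag_conj_xA h hh s hs, hc] at e1
  have := C.xA_param_inj' _ h1 _ _ e1
  rw [mul_one, mul_one] at this
  have h3 : c * dE D h s = c * dE D (n * h * n⁻¹) (π s) := by rw [this]; ring
  exact (mul_left_cancel₀ hc0 h3).symm

/-- an element of `N` acting by `r ↦ -r` inverts `H` -/
theorem conj_diag_inv (n : GL D.Idx F) (hn : n ∈ D.monomialSubgroup F)
    (hπ : C.c6.c2.Perm n (fun s => fd.n - 1 - s)) (h : GL D.Idx F) (hh : h ∈ D.diagonalSubgroup F) :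
    n * h * n⁻¹ = h⁻¹ := by
  have hnh : n * h * n⁻¹ ∈ D.diagonalSubgroup F :=
    (Subgroup.mem_normalizer_iff.mp (C.c6.c2.monomial_le_normalizer_diag hn) _).mp hh
  apply C.diag_ext _ _ hnh (inv_mem hh)
  intro i hi
  have hs := C.c6.c2.simple_lt i hi
  have := C.conj_diag_dE n _ hπ h hh hnh (fd.n - 1 - fd.simples.getD i 0) (by omega)
  have e : fd.n - 1 - (fd.n - 1 - fd.simples.getD i 0) = fd.simples.getD i 0 := by omega
  rw [e] at this
  rw [this, C.dE_neg h hh _ hs, C.dE_inv h hh _ hs]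

/-- conjugation of a word in root elements by an element of `H` -/
theorem diag_conj_wordG (h : GL D.Idx F) (hh : h ∈ D.diagonalSubgroup F) (w : List (ℕ × F))
    (hw : ∀ p ∈ w, p.1 < fd.n) :
    h * C.c6.c2.wordG w * h⁻¹ = C.c6.c2.wordG (w.map fun p => (p.1, dE D h p.1 * p.2)) := by
  induction w with
  | nil => simp [Cert2.wordG]
  | cons p w ih =>
    have e : C.c6.c2.wordG (p :: w) = C.c6.c2.xA p.1 p.2 * C.c6.c2.wordG w := by simp [Cert2.wordG]
    have e' : C.c6.c2.wordG ((p :: w).map fun p => (p.1, dE D h p.1 * p.2)) =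
        C.c6.c2.xA p.1 (dE D h p.1 * p.2) * C.c6.c2.wordG (w.map fun p => (p.1, dE D h p.1 * p.2)) := by
      simp [Cert2.wordG]
    rw [e, e', ← ih (fun q hq => hw q (List.mem_cons_of_mem _ hq)),
      ← C.diag_conj_xA h hh p.1 (hw p List.mem_cons_self)]
    group

end Cert12

end Generic

theorem torus_calc3 {A : Type*} [CommGroup A] (w z : A) (c0 c1 : ℤ) :
    (w ^ 2 * z) ^ c0 * (w ^ 3 * z ^ 2) ^ c1 = w ^ (2 * c0 + 3 * c1) * z ^ (c0 + 2 * c1) := by
  simp only [mul_zpow, ← zpow_natCast, ← _root_.zpow_mul]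
  rw [mul_mul_mul_comm, ← _root_.zpow_add, ← _root_.zpow_add]
  norm_num

section Ree

variable {K : Type*} [Field K] [CharP K 3]

theorem dE_hR (m : ℕ) (z : Kˣ) (s : ℕ) (hs : s < 12) :
    dE chevG2 (hR K m z) s =
      ((thetaU K m z ^ (2 * fdG2.carZ 0 s + 3 * fdG2.carZ 1 s) * z ^ (fdG2.carZ 0 s + 2 * fdG2.carZ 1 s) : Kˣ) : K) := by
  unfold hR
  rw [MonoidHom.comp_apply, dE_chi _ s hs]
  congr 1
  simp only [torR, MonoidHom.coe_mk, OneHom.coe_mk, if_true, Fin.val_one, one_ne_zero, if_false]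
  exact torus_calc3 _ _ _ _

theorem dE_hR_8 (m : ℕ) (z : Kˣ) : dE chevG2 (hR K m z) 8 = reeTheta K m (z : K) * z := by
  rw [dE_hR m z 8 (by decide)]
  have h0 : fdG2.carZ 0 8 = -1 := by decide
  have h1 : fdG2.carZ 1 8 = 1 := by decide
  rw [h0, h1]
  norm_num
  rfl

theorem dE_hR_9 (m : ℕ) (z : Kˣ) : dE chevG2 (hR K m z) 9 = reeTheta K m (z : K) ^ 2 * z := by
  rw [dE_hR m z 9 (by decide)]
  have h0 : fdG2.carZ 0 9 = 1 := by decide
  have h1 : fdG2.carZ 1 9 = 0 := by decide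
  rw [h0, h1]
  norm_num
  rfl

theorem dE_hR_10 (m : ℕ) (z : Kˣ) : dE chevG2 (hR K m z) 10 = reeTheta K m (z : K) ^ 3 * z := by
  rw [dE_hR m z 10 (by decide)]
  have h0 : fdG2.carZ 0 10 = 3 := by decide
  have h1 : fdG2.carZ 1 10 = -1 := by decide
  rw [h0, h1]
  norm_num
  rfl

theorem dE_hR_11 (m : ℕ) (z : Kˣ) : dE chevG2 (hR K m z) 11 = reeTheta K m (z : K) ^ 3 * z ^ 2 := by
  rw [dE_hR m z 11 (by decide)]
  have h0 : fdG2.carZ 0 11 = 0 := by decide
  have h1 : fdG2.carZ 1 11 = 1 := by decide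
  rw [h0, h1]
  norm_num
  rfl

theorem conj_gX (h : GL chevG2.Idx K) (hh : h ∈ chevG2.diagonalSubgroup K) (r : ℕ) (hr : r < 12) (c : K) :
    MulAut.conj h (gX r c) = gX r (dE chevG2 h r * c) := by
  rw [MulAut.conj_apply]
  exact cert12_G2.diag_conj_xA h hh r hr c

variable [Fintype K]

theorem theta_theta_cube (m : ℕ) (hK : Fintype.card K = 3 ^ (2 * m + 1)) (x : K) :
    reeTheta K m (reeTheta K m x) ^ 3 = x := by
  have := theta_theta_frob m hK x
  rwa [frobenius_def] at this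

/-- conjugation of the Ree elements of `U` by the torus -/
theorem hR_conj_uR (m : ℕ) (hK : Fintype.card K = 3 ^ (2 * m + 1)) (z : Kˣ) (t u v : K) :
    hR K m z * uR m t u v * (hR K m z)⁻¹ =
      uR m (z * t) (reeTheta K m (z : K) ^ 3 * z * u) (reeTheta K m (z : K) ^ 3 * (z : K) ^ 2 * v) := by
  have hh := hR_mem_diag (K := K) m z
  rw [← MulAut.conj_apply, uR_eq, uR_eq]
  unfold gZ
  simp only [map_mul (MulAut.conj (hR K m z))]
  rw [conj_gX _ hh 7 (by decide), conj_gX _ hh 6 (by decide), conj_gX _ hh 8 (by decide),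
    conj_gX _ hh 9 (by decide), conj_gX _ hh 10 (by decide), conj_gX _ hh 11 (by decide),
    dE_hR_6, dE_hR_7, dE_hR_8, dE_hR_9, dE_hR_10, dE_hR_11]
  have hc := theta_theta_cube m hK (z : K)
  set w := reeTheta K m (z : K) with hw
  simp only [map_mul, map_pow, ← hw, hc]
  have e : ∀ a b c d e f a' b' c' d' e' f' : K, a = a' → b = b' → c = c' → d = d' → e = e' → f = f' →
      gX 7 a * gX 6 b * (gX 8 c * gX 9 d * gX 10 e * gX 11 f) =
        gX 7 a' * gX 6 b' * (gX 8 c' * gX 9 d' * gX 10 e' * gX 11 f') := by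
    intros; subst_vars; rfl
  apply e <;> ring

theorem dE_inv_neg (h : GL chevG2.Idx K) (hh : h ∈ chevG2.diagonalSubgroup K) (r r' : ℕ) (hr : r < 12)
    (hr' : r' = 11 - r) : dE chevG2 h⁻¹ r' = dE chevG2 h r := by
  subst hr'
  have := cert12_G2.dE_neg h⁻¹ (inv_mem hh) r hr
  rw [cert12_G2.dE_inv h hh r hr, inv_inv] at this
  exact this

/-- conjugation of the Ree elements of `V` by the torus -/
theorem hR_conj_vR (m : ℕ) (hK : Fintype.card K = 3 ^ (2 * m + 1)) (z : Kˣ) (t u v : K) :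
    (hR K m z)⁻¹ * vR m t u v * ((hR K m z)⁻¹)⁻¹ =
      vR m (z * t) (reeTheta K m (z : K) ^ 3 * z * u) (reeTheta K m (z : K) ^ 3 * (z : K) ^ 2 * v) := by
  have hh := hR_mem_diag (K := K) m z
  have hh' := inv_mem hh
  rw [← MulAut.conj_apply, vR_eq, vR_eq]
  unfold gZn
  simp only [map_mul (MulAut.conj (hR K m z)⁻¹)]
  rw [conj_gX _ hh' 4 (by decide), conj_gX _ hh' 5 (by decide), conj_gX _ hh' 3 (by decide),
    conj_gX _ hh' 2 (by decide), conj_gX _ hh' 1 (by decide), conj_gX _ hh' 0 (by decide),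
    dE_inv_neg _ hh 7 4 (by decide) rfl, dE_inv_neg _ hh 6 5 (by decide) rfl, dE_inv_neg _ hh 8 3 (by decide) rfl,
    dE_inv_neg _ hh 9 2 (by decide) rfl, dE_inv_neg _ hh 10 1 (by decide) rfl, dE_inv_neg _ hh 11 0 (by decide) rfl,
    dE_hR_6, dE_hR_7, dE_hR_8, dE_hR_9, dE_hR_10, dE_hR_11]
  have hc := theta_theta_cube m hK (z : K)
  set w := reeTheta K m (z : K) with hw
  simp only [map_mul, map_pow, ← hw, hc]
  have e : ∀ a b c d e f a' b' c' d' e' f' : K, a = a' → b = b' → c = c' → d = d' → e = e' → f = f' →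
      gX 4 a * gX 5 b * (gX 3 c * gX 2 d * gX 1 e * gX 0 f) =
        gX 4 a' * gX 5 b' * (gX 3 c' * gX 2 d' * gX 1 e' * gX 0 f') := by
    intros; subst_vars; rfl
  apply e <;> ring

end Ree

end Cfsg.Agent.Lib.H29.Chev
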