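import Mathlib
import Cfsg.Prelude.Def_ChevStructure
import Cfsg.Prelude.Def_LieTwisted
import Cfsg.Agent.Lib.H29.ChevRee12

/-!
# The Ree group is the group of fixed points of `σ`
-/

set_option autoImplicit false
set_option linter.unusedSectionVars false
set_option linter.unusedSimpArgs false
set_option linter.unusedVariables false

namespace Cfsg.Agent.Lib.H29.Chev

open Cfsg.Lie Matrix

section Ree

variable {K : Type*} [Field K] [CharP K 3] [Fintype K]

/-- the torus elements `h(z)` normalise the Ree group -/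
theorem hR_conj_mem_tw (m : ℕ) (hK : Fintype.card K = 3 ^ (2 * m + 1)) (z : Kˣ) (g : GL chevG2.Idx K)
    (hg : g ∈ twistedG2 K (3 ^ m)) : hR K m z * g * (hR K m z)⁻¹ ∈ twistedG2 K (3 ^ m) := by
  have hle : twistedG2 K (3 ^ m) ≤ (twistedG2 K (3 ^ m)).comap (MulAut.conj (hR K m z)).toMonoidHom := by
    conv_lhs => unfold twistedG2 ChevalleyDatum.genSubgroup
    rw [Subgroup.closure_le]
    rintro x ⟨w, ⟨t, u, v, rfl | rfl⟩, hx⟩
    · have : x = uR m t u v := gl_ext (by rw [hx, uR_val])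
      rw [this, SetLike.mem_coe, Subgroup.mem_comap]
      show MulAut.conj (hR K m z) (uR m t u v) ∈ _
      rw [MulAut.conj_apply, hR_conj_uR m hK]
      exact uR_mem_tw m _ _ _
    · have : x = vR m t u v := gl_ext (by rw [hx, vR_val])
      rw [this, SetLike.mem_coe, Subgroup.mem_comap]
      show MulAut.conj (hR K m z) (vR m t u v) ∈ _
      have e : hR K m z = (hR K m z⁻¹)⁻¹ := by rw [map_inv, inv_inv]
      rw [MulAut.conj_apply]
      have := hR_conj_vR m hK z⁻¹ t u v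
      rw [← e] at this
      rw [this]
      exact vR_mem_tw m _ _ _
  have := hle hg
  rw [Subgroup.mem_comap] at this
  have h2 : (MulAut.conj (hR K m z)).toMonoidHom g = hR K m z * g * (hR K m z)⁻¹ := MulAut.conj_apply _ _
  rwa [h2] at this

/-- the squares of the torus lie in the Ree group -/
theorem hR_sq_mem_tw (m : ℕ) (hK : Fintype.card K = 3 ^ (2 * m + 1)) (z : Kˣ) :
    hR K m (z * z) ∈ twistedG2 K (3 ^ m) := by
  have h1 := hR_conj_mem_tw m hK z _ (hM1_n0R_mem_tw (K := K) m)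
  have hinv := cert12_G2.conj_diag_inv (n0R K) n0R_mem_monomial perm_n0R _ (inv_mem (hR_mem_diag (K := K) m z))
  rw [inv_inv] at hinv
  have e : hR K m z * (hR K m (-1) * n0R K) * (hR K m z)⁻¹ = hR K m (-1) * hR K m (z * z) * n0R K := by
    have e1 : hR K m z * (hR K m (-1) * n0R K) * (hR K m z)⁻¹ =
        hR K m z * hR K m (-1) * (n0R K * (hR K m z)⁻¹ * (n0R K)⁻¹) * n0R K := by group
    rw [e1, hinv, ← map_mul, ← map_mul, ← map_mul]
    congr 2
    rw [mul_comm z (-1), mul_assoc]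
  rw [e] at h1
  have h2 := mul_mem (mul_mem (inv_mem (hM1_mem_tw (K := K) m)) h1) (inv_mem (n0R_mem_tw (K := K) m))
  have e2 : (hR K m (-1))⁻¹ * (hR K m (-1) * hR K m (z * z) * n0R K) * (n0R K)⁻¹ = hR K m (z * z) := by group
  rwa [e2] at h2

theorem card_mod_four (m : ℕ) (hK : Fintype.card K = 3 ^ (2 * m + 1)) : Fintype.card K % 4 = 3 := by
  rw [hK, pow_succ, pow_mul, Nat.mul_mod, Nat.pow_mod]
  norm_num

/-- every unit is a square or minus a square -/
theorem unit_sq_or_neg_sq (m : ℕ) (hK : Fintype.card K = 3 ^ (2 * m + 1)) (w : Kˣ) :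
    ∃ z : Kˣ, w = z * z ∨ w = -1 * (z * z) := by
  have h2 : ringChar K ≠ 2 := by
    rw [ringChar.eq K 3]; norm_num
  have hm1 : ¬ IsSquare (-1 : K) := by
    rw [FiniteField.isSquare_neg_one_iff, card_mod_four m hK]
    simp
  have hw0 : (w : K) ≠ 0 := w.ne_zero
  by_cases hsq : IsSquare (w : K)
  · obtain ⟨y, hy⟩ := hsq
    have hy0 : y ≠ 0 := by
      rintro rfl
      rw [mul_zero] at hy
      exact hw0 hy
    exact ⟨Units.mk0 y hy0, Or.inl (Units.ext hy)⟩
  · have e1 : (w : K) ^ (Fintype.card K / 2) = -1 := by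
      rcases FiniteField.pow_dichotomy h2 hw0 with h | h
      · exact absurd ((FiniteField.isSquare_iff h2 hw0).mpr h) hsq
      · exact h
    have e2 : (-1 : K) ^ (Fintype.card K / 2) = -1 := by
      rcases FiniteField.pow_dichotomy h2 (neg_ne_zero.mpr one_ne_zero) with h | h
      · exact absurd ((FiniteField.isSquare_iff h2 (neg_ne_zero.mpr one_ne_zero)).mpr h) hm1
      · exact h
    have hnw0 : (-1 : K) * w ≠ 0 := mul_ne_zero (neg_ne_zero.mpr one_ne_zero) hw0
    have e3 : ((-1 : K) * w) ^ (Fintype.card K / 2) = 1 := by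
      rw [mul_pow, e1, e2]; norm_num
    obtain ⟨y, hy⟩ := (FiniteField.isSquare_iff h2 hnw0).mpr e3
    have hy0 : y ≠ 0 := by
      rintro rfl
      rw [mul_zero] at hy
      exact hnw0 hy
    refine ⟨Units.mk0 y hy0, Or.inr (Units.ext ?_)⟩
    simp only [Units.val_mul, Units.val_neg, Units.val_one, Units.val_mk0]
    rw [← hy]; ring

/-- the torus elements `h(z)` lie in the Ree group -/
theorem hR_mem_tw (m : ℕ) (hK : Fintype.card K = 3 ^ (2 * m + 1)) (w : Kˣ) : hR K m w ∈ twistedG2 K (3 ^ m) := by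
  obtain ⟨z, rfl | rfl⟩ := unit_sq_or_neg_sq m hK w
  · exact hR_sq_mem_tw m hK z
  · rw [map_mul]
    exact mul_mem (hM1_mem_tw m) (hR_sq_mem_tw m hK z)

theorem htr_G2 : ∀ i < fdG2.l, ∀ j < fdG2.l, ∃ k, rhoG2^[k] (fdG2.simples.getD i 0) = fdG2.simples.getD j 0 := by
  intro i hi j hj
  have hi' : i < 2 := hi
  have hj' : j < 2 := hj
  interval_cases i <;> interval_cases j
  · exact ⟨0, rfl⟩
  · exact ⟨1, by decide⟩
  · exact ⟨1, by decide⟩
  · exact ⟨0, rfl⟩

/-- the decomposition of the fixed points of `σ` -/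
theorem fix_decomp (m : ℕ) (hK : Fintype.card K = 3 ^ (2 * m + 1)) (g : GL chevG2.Idx K)
    (hg : g ∈ fixGL (reeSigma (K := K) m)) :
    (∃ (t u v : K) (z : Kˣ), g = uR m t u v * hR K m z) ∨
    (∃ (t u v : K) (z : Kˣ) (t' u' v' : K), g = uR m t u v * (n0R K * hR K m z) * uR m t' u' v') := by
  obtain ⟨hgG, hσ⟩ := (mem_fixGL _ _).mp hg
  have R := reeRootTw (K := K) m
  obtain ⟨u, hu, hfu, n, hn, hfn, u', hu', hfu', e⟩ := R.fix_canon ⟨g, hgG⟩ (Subtype.ext hσ)
  have e' : g = (u : GL chevG2.Idx K) * n * u' := congrArg Subtype.val e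
  have hfixu : (u : GL chevG2.Idx K) ∈ fixGL (reeSigma (K := K) m) :=
    (mem_fixGL _ _).mpr ⟨u.2, congrArg Subtype.val hfu⟩
  have hfixu' : (u' : GL chevG2.Idx K) ∈ fixGL (reeSigma (K := K) m) :=
    (mem_fixGL _ _).mpr ⟨u'.2, congrArg Subtype.val hfu'⟩
  have hfixn : (n : GL chevG2.Idx K) ∈ fixGL (reeSigma (K := K) m) :=
    (mem_fixGL _ _).mpr ⟨n.2, congrArg Subtype.val hfn⟩
  obtain ⟨t, a, b, hu1⟩ := fix_pos_eq_uR m hK _ hu hfixu
  rcases R.fix_monomial_cases htr_G2 (n0R K) n0R_mem_monomial perm_n0R n hn hfn with hd | hd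
  · left
    obtain ⟨z, hz⟩ := fix_diag_eq_hR m _ hd hfixn
    have hbot := cert12_G2.Uw_diag (n : GL chevG2.Idx K) hd
    rw [hbot, Subgroup.mem_bot] at hu'
    exact ⟨t, a, b, z, by rw [e', hu', mul_one, hu1, hz]⟩
  · right
    have hfix0 : n0R K ∈ fixGL (reeSigma (K := K) m) := twistedG2_le_fix m hK (n0R_mem_tw m)
    obtain ⟨z, hz⟩ := fix_diag_eq_hR m _ hd (mul_mem (inv_mem hfix0) hfixn)
    have hu'pos := cert12_G2.Uw_le_pos _ hu'
    obtain ⟨t', a', b', hu2⟩ := fix_pos_eq_uR m hK _ hu'pos hfixu'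
    refine ⟨t, a, b, z, t', a', b', ?_⟩
    rw [e', hu1, hu2, ← hz, mul_inv_cancel_left]

theorem twistedG2_eq_fix (m : ℕ) (hK : Fintype.card K = 3 ^ (2 * m + 1)) :
    twistedG2 K (3 ^ m) = fixGL (reeSigma (K := K) m) := by
  apply le_antisymm (twistedG2_le_fix m hK)
  intro g hg
  rcases fix_decomp m hK g hg with ⟨t, u, v, z, rfl⟩ | ⟨t, u, v, z, t', u', v', rfl⟩
  · exact mul_mem (uR_mem_tw m _ _ _) (hR_mem_tw m hK z)
  · exact mul_mem (mul_mem (uR_mem_tw m _ _ _) (mul_mem (n0R_mem_tw m) (hR_mem_tw m hK z))) (uR_mem_tw m _ _ _)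

end Ree

end Cfsg.Agent.Lib.H29.Chev
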