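import Mathlib
import Cfsg.Prelude.Def_ChevStructure
import Cfsg.Prelude.Def_LieTwisted
import Cfsg.Agent.Lib.H29.ChevRee13

/-!
# The torus and the order of the Ree group
-/

set_option autoImplicit false
set_option linter.unusedSectionVars false
set_option linter.unusedSimpArgs false
set_option linter.unusedVariables false

namespace Cfsg.Agent.Lib.H29.Chev

open Cfsg.Lie Matrix

section Ree

variable {K : Type*} [Field K] [CharP K 3] [Fintype K]

/-- the elements of `H ∩ G¹` -/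
theorem mem_diag_inf_tw (m : ℕ) (hK : Fintype.card K = 3 ^ (2 * m + 1)) (g : GL chevG2.Idx K) :
    g ∈ chevG2.diagonalSubgroup K ⊓ twistedG2 K (3 ^ m) ↔ ∃ z : Kˣ, g = hR K m z := by
  constructor
  · intro hg
    exact fix_diag_eq_hR m g hg.1 (twistedG2_le_fix m hK hg.2)
  · rintro ⟨z, rfl⟩
    exact ⟨hR_mem_diag m z, hR_mem_tw m hK z⟩

/-- `H ∩ G¹` is isomorphic to the multiplicative group of the field -/
noncomputable def diagInfTwEquiv (m : ℕ) (hK : Fintype.card K = 3 ^ (2 * m + 1)) :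
    Kˣ ≃* ↥(chevG2.diagonalSubgroup K ⊓ twistedG2 K (3 ^ m)) :=
  MulEquiv.ofBijective ((hR K m).codRestrict _ (fun z => (mem_diag_inf_tw m hK _).mpr ⟨z, rfl⟩)) (by
    constructor
    · intro z z' h
      exact hR_injective m (congrArg Subtype.val h)
    · rintro ⟨g, hg⟩
      obtain ⟨z, rfl⟩ := (mem_diag_inf_tw m hK g).mp hg
      exact ⟨z, rfl⟩)

theorem card_diag_inf_tw (m : ℕ) (hK : Fintype.card K = 3 ^ (2 * m + 1)) :
    Nat.card ↥(chevG2.diagonalSubgroup K ⊓ twistedG2 K (3 ^ m)) = 3 ^ (2 * m + 1) - 1 := by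
  classical
  rw [← Nat.card_congr (diagInfTwEquiv m hK).toEquiv, Nat.card_eq_fintype_card, Fintype.card_units, hK]

theorem cyclic_diag_inf_tw (m : ℕ) (hK : Fintype.card K = 3 ^ (2 * m + 1)) :
    IsCyclic ↥(chevG2.diagonalSubgroup K ⊓ twistedG2 K (3 ^ m)) :=
  isCyclic_of_surjective (diagInfTwEquiv m hK) (diagInfTwEquiv m hK).surjective

end Ree

end Cfsg.Agent.Lib.H29.Chev
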