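import Mathlib
import Cfsg.Prelude.Def_ChevStructure
import Cfsg.Prelude.Def_LieTwisted
import Cfsg.Agent.Lib.H29.ChevRee14

/-!
# The order of the Ree group
-/

set_option autoImplicit false
set_option linter.unusedSectionVars false
set_option linter.unusedSimpArgs false
set_option linter.unusedVariables false

namespace Cfsg.Agent.Lib.H29.Chev

open Cfsg.Lie Matrix

section Ree

variable {K : Type*} [Field K] [CharP K 3] [Fintype K]

theorem perm_n0R_hR (m : ℕ) (z : Kˣ) : cert12_G2.c6.c2.Perm (n0R K * hR K m z) (fun s => fdG2.n - 1 - s) :=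
  cert12_G2.c6.perm_mul perm_n0R (cert12_G2.c6.perm_diag _ (hR_mem_diag m z))

theorem n0R_hR_mem_monomial (m : ℕ) (z : Kˣ) : n0R K * hR K m z ∈ chevG2.monomialSubgroup K :=
  mul_mem n0R_mem_monomial ((le_sup_left : chevG2.diagonalSubgroup K ≤ chevG2.monomialSubgroup K) (hR_mem_diag m z))

theorem Uw_n0R_hR (m : ℕ) (z : Kˣ) : Uw chevG2 K (n0R K * hR K m z) = chevG2.posUnipotent K := by
  apply cert12_G2.Uw_w0 _ _ (perm_n0R_hR m z)
  intro s hs hpos
  have hs' : s < 12 := hs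
  have hpos' : 6 ≤ s := hpos
  show 12 - 1 - s < 6
  omega

theorem n0R_not_mem_diag : n0R K ∉ chevG2.diagonalSubgroup K := by
  intro h
  have := cert12_G2.perm_unique (n0R K) _ _ perm_n0R (cert12_G2.c6.perm_diag _ h) 0 (by decide)
  simp only [id] at this
  exact absurd this (by decide)

/-- uniqueness in the small cell -/
theorem cell1_inj (m : ℕ) (t u v t' u' v' : K) (z z' : Kˣ)
    (h : uR m t u v * hR K m z = uR m t' u' v' * hR K m z') : t = t' ∧ u = u' ∧ v = v' ∧ z = z' := by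
  have e : (uR m t' u' v')⁻¹ * uR m t u v = hR K m z' * (hR K m z)⁻¹ := by
    have : (uR m t' u' v')⁻¹ * uR m t u v = (uR m t' u' v')⁻¹ * (uR m t u v * hR K m z) * (hR K m z)⁻¹ := by group
    rw [this, h]; group
  have hmem : (uR m t' u' v')⁻¹ * uR m t u v ∈ chevG2.posUnipotent K ⊓ chevG2.diagonalSubgroup K := by
    refine Subgroup.mem_inf.mpr ⟨mul_mem (inv_mem (uR_mem_pos m _ _ _)) (uR_mem_pos m _ _ _), ?_⟩
    rw [e]
    exact mul_mem (hR_mem_diag m _) (inv_mem (hR_mem_diag m _))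
  rw [cert12_G2.c6.c2.pos_inf_diag, Subgroup.mem_bot] at hmem
  have h1 : uR m t u v = uR m t' u' v' := by
    have := inv_mul_eq_one.mp hmem
    exact this.symm
  rw [hmem] at e
  have h2 : hR K m z = hR K m z' := by
    have := (mul_inv_eq_one.mp e.symm)
    exact this.symm
  obtain ⟨a, b, c⟩ := uR_inj m _ _ _ _ _ _ h1
  exact ⟨a, b, c, hR_injective m h2⟩

/-- uniqueness in the big cell -/
theorem cell2_inj (m : ℕ) (t u v t' u' v' a b c a' b' c' : K) (z z' : Kˣ)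
    (h : uR m t u v * (n0R K * hR K m z) * uR m a b c = uR m t' u' v' * (n0R K * hR K m z') * uR m a' b' c') :
    t = t' ∧ u = u' ∧ v = v' ∧ z = z' ∧ a = a' ∧ b = b' ∧ c = c' := by
  have hUB : chevG2.posUnipotent K ≤ chevG2.borelSubgroup K := le_sup_left
  have hu1 : uR m a b c ∈ Uw chevG2 K (n0R K * hR K m z) := by rw [Uw_n0R_hR]; exact uR_mem_pos m _ _ _
  have hu2 : uR m a' b' c' ∈ Uw chevG2 K (n0R K * hR K m z') := by rw [Uw_n0R_hR]; exact uR_mem_pos m _ _ _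
  have hn := cert12_G2.c6.canon_sharp _ _ _ _ _ _ (uR_mem_pos m t u v) (uR_mem_pos m t' u' v')
    (n0R_hR_mem_monomial m z) (n0R_hR_mem_monomial m z') hu1 hu2 h
  have hz : z = z' := hR_injective m (mul_left_cancel hn)
  subst hz
  obtain ⟨k1, k2⟩ := (cert12_G2.c6.canonical_form.2 _ _ _ _ _ _ (hUB (uR_mem_pos m t u v))
    (hUB (uR_mem_pos m t' u' v')) (n0R_hR_mem_monomial m z) (n0R_hR_mem_monomial m z) hu1 hu2 h).2 rfl
  obtain ⟨e1, e2, e3⟩ := uR_inj m _ _ _ _ _ _ k1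
  obtain ⟨e4, e5, e6⟩ := uR_inj m _ _ _ _ _ _ k2
  exact ⟨e1, e2, e3, rfl, e4, e5, e6⟩

/-- the two cells are disjoint -/
theorem cell_disj (m : ℕ) (t u v t' u' v' a b c : K) (z z' : Kˣ)
    (h : uR m t u v * hR K m z = uR m t' u' v' * (n0R K * hR K m z') * uR m a b c) : False := by
  have hUB : chevG2.posUnipotent K ≤ chevG2.borelSubgroup K := le_sup_left
  have hHN : chevG2.diagonalSubgroup K ≤ chevG2.monomialSubgroup K := le_sup_left
  have hu2 : uR m a b c ∈ Uw chevG2 K (n0R K * hR K m z') := by rw [Uw_n0R_hR]; exact uR_mem_pos m _ _ _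
  have h' : uR m t u v * hR K m z * 1 = uR m t' u' v' * (n0R K * hR K m z') * uR m a b c := by rw [mul_one, h]
  have := (cert12_G2.c6.canonical_form.2 _ _ _ _ _ _ (hUB (uR_mem_pos m t u v))
    (hUB (uR_mem_pos m t' u' v')) (hHN (hR_mem_diag m z)) (n0R_hR_mem_monomial m z') (one_mem _) hu2 h').1
  apply n0R_not_mem_diag (K := K)
  have e : n0R K = hR K m z * ((hR K m z)⁻¹ * (n0R K * hR K m z')) * (hR K m z')⁻¹ := by group
  rw [e]
  exact mul_mem (mul_mem (hR_mem_diag m z) this) (inv_mem (hR_mem_diag m z'))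

/-- the parametrisation of the Ree group by its two cells -/
noncomputable def cellMap (m : ℕ) (hK : Fintype.card K = 3 ^ (2 * m + 1)) :
    ((K × K × K) × Kˣ) ⊕ (((K × K × K) × Kˣ) × (K × K × K)) → ↥(twistedG2 K (3 ^ m))
  | Sum.inl x => ⟨uR m x.1.1 x.1.2.1 x.1.2.2 * hR K m x.2,
      mul_mem (uR_mem_tw m _ _ _) (hR_mem_tw m hK _)⟩
  | Sum.inr x => ⟨uR m x.1.1.1 x.1.1.2.1 x.1.1.2.2 * (n0R K * hR K m x.1.2) * uR m x.2.1 x.2.2.1 x.2.2.2,
      mul_mem (mul_mem (uR_mem_tw m _ _ _) (mul_mem (n0R_mem_tw m) (hR_mem_tw m hK _))) (uR_mem_tw m _ _ _)⟩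

theorem cellMap_bijective (m : ℕ) (hK : Fintype.card K = 3 ^ (2 * m + 1)) :
    Function.Bijective (cellMap (K := K) m hK) := by
  constructor
  · rintro (⟨⟨t, u, v⟩, z⟩ | ⟨⟨⟨t, u, v⟩, z⟩, ⟨a, b, c⟩⟩) (⟨⟨t', u', v'⟩, z'⟩ | ⟨⟨⟨t', u', v'⟩, z'⟩, ⟨a', b', c'⟩⟩) h
    · have h' := congrArg Subtype.val h
      obtain ⟨rfl, rfl, rfl, rfl⟩ := cell1_inj m _ _ _ _ _ _ _ _ h'
      rfl
    · exact (cell_disj m _ _ _ _ _ _ _ _ _ _ _ (congrArg Subtype.val h)).elim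
    · exact (cell_disj m _ _ _ _ _ _ _ _ _ _ _ (congrArg Subtype.val h).symm).elim
    · have h' := congrArg Subtype.val h
      obtain ⟨rfl, rfl, rfl, rfl, rfl, rfl, rfl⟩ := cell2_inj m _ _ _ _ _ _ _ _ _ _ _ _ _ _ h'
      rfl
  · rintro ⟨g, hg⟩
    rcases fix_decomp m hK g (twistedG2_le_fix m hK hg) with ⟨t, u, v, z, rfl⟩ | ⟨t, u, v, z, t', u', v', rfl⟩
    · exact ⟨Sum.inl ⟨⟨t, u, v⟩, z⟩, rfl⟩
    · exact ⟨Sum.inr ⟨⟨⟨t, u, v⟩, z⟩, ⟨t', u', v'⟩⟩, rfl⟩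

/-- the order of the Ree group -/
theorem card_twistedG2 (m : ℕ) (hK : Fintype.card K = 3 ^ (2 * m + 1)) :
    Nat.card ↥(twistedG2 K (3 ^ m)) =
      (3 ^ (2 * m + 1)) ^ 3 * (3 ^ (2 * m + 1) - 1) * ((3 ^ (2 * m + 1)) ^ 3 + 1) := by
  classical
  have h3 : Nat.card (K × K × K) = (3 ^ (2 * m + 1)) ^ 3 := by
    rw [Nat.card_prod, Nat.card_prod, Nat.card_eq_fintype_card, hK]; ring
  have hu : Nat.card Kˣ = 3 ^ (2 * m + 1) - 1 := by
    rw [Nat.card_eq_fintype_card, Fintype.card_units, hK]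
  have hk : Nat.card K = 3 ^ (2 * m + 1) := by rw [Nat.card_eq_fintype_card, hK]
  rw [← Nat.card_congr (Equiv.ofBijective _ (cellMap_bijective m hK)), Nat.card_sum]
  simp only [Nat.card_prod, hk, hu]
  ring

end Ree

end Cfsg.Agent.Lib.H29.Chev
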