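import Mathlib
import Cfsg.Prelude.Def_ChevStructure
import Cfsg.Prelude.Def_LieTwisted
import Cfsg.Agent.Lib.H29.ChevRee15

/-!
# The subgroup `N¹` of the Ree group
-/

set_option autoImplicit false
set_option linter.unusedSectionVars false
set_option linter.unusedSimpArgs false
set_option linter.unusedVariables false

namespace Cfsg.Agent.Lib.H29.Chev

open Cfsg.Lie Matrix

section Ree

variable {K : Type*} [Field K] [CharP K 3] [Fintype K]

/-- the elements of `N ∩ G¹` -/
theorem mem_mono_inf_tw (m : ℕ) (hK : Fintype.card K = 3 ^ (2 * m + 1)) (g : GL chevG2.Idx K) :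
    g ∈ chevG2.monomialSubgroup K ⊓ twistedG2 K (3 ^ m) ↔
      (∃ z : Kˣ, g = hR K m z) ∨ (∃ z : Kˣ, g = n0R K * hR K m z) := by
  have hHN : chevG2.diagonalSubgroup K ≤ chevG2.monomialSubgroup K := le_sup_left
  constructor
  · rintro ⟨hn, hg⟩
    have hfix := twistedG2_le_fix m hK hg
    obtain ⟨hgG, hσ⟩ := (mem_fixGL _ _).mp hfix
    have R := reeRootTw (K := K) m
    rcases R.fix_monomial_cases htr_G2 (n0R K) n0R_mem_monomial perm_n0R ⟨g, hgG⟩ hn (Subtype.ext hσ) with hd | hd
    · left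
      exact fix_diag_eq_hR m g hd hfix
    · right
      have hfix0 : n0R K ∈ fixGL (reeSigma (K := K) m) := twistedG2_le_fix m hK (n0R_mem_tw m)
      obtain ⟨z, hz⟩ := fix_diag_eq_hR m _ hd (mul_mem (inv_mem hfix0) hfix)
      exact ⟨z, by rw [← hz, mul_inv_cancel_left]⟩
  · rintro (⟨z, rfl⟩ | ⟨z, rfl⟩)
    · exact ⟨hHN (hR_mem_diag m z), hR_mem_tw m hK z⟩
    · exact ⟨n0R_hR_mem_monomial m z, mul_mem (n0R_mem_tw m) (hR_mem_tw m hK z)⟩

theorem n0R_sq_mem_diag : n0R K * n0R K ∈ chevG2.diagonalSubgroup K := by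
  apply cert12_G2.mem_diag_of_pos _ (mul_mem n0R_mem_monomial n0R_mem_monomial) _
    (cert12_G2.c6.perm_mul perm_n0R perm_n0R)
  intro i hi
  have hs := cert12_G2.c6.c2.simple_lt i hi
  have hp := cert12_G2.c6.simple_pos i hi
  simp only [Function.comp]
  omega

theorem n0R_hR_not_mem_diag (m : ℕ) (z : Kˣ) : n0R K * hR K m z ∉ chevG2.diagonalSubgroup K := by
  intro h
  apply n0R_not_mem_diag (K := K)
  have := mul_mem h (inv_mem (hR_mem_diag (K := K) m z))
  rwa [mul_inv_cancel_right] at this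

/-- the product of two elements of `N¹` outside `H` lies in `H` -/
theorem mono_mul_mem_diag (m : ℕ) (hK : Fintype.card K = 3 ^ (2 * m + 1)) (a b : GL chevG2.Idx K)
    (ha : a ∈ chevG2.monomialSubgroup K ⊓ twistedG2 K (3 ^ m)) (hb : b ∈ chevG2.monomialSubgroup K ⊓ twistedG2 K (3 ^ m))
    (ha' : a ∉ chevG2.diagonalSubgroup K) (hb' : b ∉ chevG2.diagonalSubgroup K) :
    a * b ∈ chevG2.diagonalSubgroup K := by
  rcases (mem_mono_inf_tw m hK a).mp ha with ⟨z, rfl⟩ | ⟨z, rfl⟩
  · exact absurd (hR_mem_diag m z) ha'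
  rcases (mem_mono_inf_tw m hK b).mp hb with ⟨z', rfl⟩ | ⟨z', rfl⟩
  · exact absurd (hR_mem_diag m z') hb'
  have hc : n0R K * hR K m z * (n0R K)⁻¹ ∈ chevG2.diagonalSubgroup K :=
    (Subgroup.mem_normalizer_iff.mp (cert12_G2.c6.c2.monomial_le_normalizer_diag n0R_mem_monomial) _).mp
      (hR_mem_diag m z)
  have e : n0R K * hR K m z * (n0R K * hR K m z') =
      (n0R K * hR K m z * (n0R K)⁻¹) * (n0R K * n0R K) * hR K m z' := by group
  rw [e]
  exact mul_mem (mul_mem hc n0R_sq_mem_diag) (hR_mem_diag m z')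

open Classical in
/-- the homomorphism `N¹ → ℤ/2` with kernel `H¹` -/
noncomputable def monoSign (m : ℕ) (hK : Fintype.card K = 3 ^ (2 * m + 1)) :
    ↥(chevG2.monomialSubgroup K ⊓ twistedG2 K (3 ^ m)) →* Multiplicative (ZMod 2) where
  toFun := fun n => if (n : GL chevG2.Idx K) ∈ chevG2.diagonalSubgroup K then 1 else Multiplicative.ofAdd 1
  map_one' := by
    rw [if_pos]
    exact one_mem _
  map_mul' := by
    intro a b
    by_cases ha : (a : GL chevG2.Idx K) ∈ chevG2.diagonalSubgroup K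
    · by_cases hb : (b : GL chevG2.Idx K) ∈ chevG2.diagonalSubgroup K
      · rw [if_pos ha, if_pos hb, if_pos (by rw [Subgroup.coe_mul]; exact mul_mem ha hb), one_mul]
      · rw [if_pos ha, if_neg hb, one_mul, if_neg]
        intro hab
        apply hb
        rw [Subgroup.coe_mul] at hab
        have := mul_mem (inv_mem ha) hab
        rwa [inv_mul_cancel_left] at this
    · by_cases hb : (b : GL chevG2.Idx K) ∈ chevG2.diagonalSubgroup K
      · rw [if_neg ha, if_pos hb, mul_one, if_neg]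
        intro hab
        apply ha
        rw [Subgroup.coe_mul] at hab
        have := mul_mem hab (inv_mem hb)
        rwa [mul_inv_cancel_right] at this
      · rw [if_neg ha, if_neg hb, if_pos (by rw [Subgroup.coe_mul]; exact mono_mul_mem_diag m hK _ _ a.2 b.2 ha hb)]
        rfl

open Classical in
theorem monoSign_surjective (m : ℕ) (hK : Fintype.card K = 3 ^ (2 * m + 1)) :
    Function.Surjective (monoSign (K := K) m hK) := by
  intro x
  have hx : x = 1 ∨ x = Multiplicative.ofAdd 1 := by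
    have : ∀ y : ZMod 2, y = 0 ∨ y = 1 := by decide
    rcases this (Multiplicative.toAdd x) with h | h
    · left; exact h
    · right; exact h
  rcases hx with rfl | rfl
  · exact ⟨1, map_one _⟩
  · refine ⟨⟨n0R K, n0R_mem_monomial, n0R_mem_tw m⟩, ?_⟩
    show (if (n0R K) ∈ chevG2.diagonalSubgroup K then 1 else Multiplicative.ofAdd 1) = _
    rw [if_neg n0R_not_mem_diag]

open Classical in
theorem monoSign_ker (m : ℕ) (hK : Fintype.card K = 3 ^ (2 * m + 1)) :
    (monoSign (K := K) m hK).ker = (chevG2.diagonalSubgroup K ⊓ twistedG2 K (3 ^ m)).subgroupOf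
      (chevG2.monomialSubgroup K ⊓ twistedG2 K (3 ^ m)) := by
  ext n
  rw [MonoidHom.mem_ker, Subgroup.mem_subgroupOf]
  show (if (n : GL chevG2.Idx K) ∈ chevG2.diagonalSubgroup K then 1 else Multiplicative.ofAdd 1) = 1 ↔ _
  constructor
  · intro h
    by_cases hn : (n : GL chevG2.Idx K) ∈ chevG2.diagonalSubgroup K
    · exact ⟨hn, n.2.2⟩
    · rw [if_neg hn] at h
      exact absurd h (by decide)
  · intro h
    have h1 : (n : GL chevG2.Idx K) ∈ chevG2.diagonalSubgroup K := (Subgroup.mem_inf.mp h).1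
    rw [if_pos h1]

end Ree

end Cfsg.Agent.Lib.H29.Chev
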