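import Mathlib
import Cfsg.Prelude.Def_ChevStructure
import Cfsg.Prelude.Def_LieTwisted
import Cfsg.Prelude.Def_LieExceptional
import Cfsg.Agent.Lib.H29.ChevRee16

/-!
# The Borel subgroup of the Ree group and its core
-/

set_option autoImplicit false
set_option linter.unusedSectionVars false
set_option linter.unusedSimpArgs false
set_option linter.unusedVariables false

namespace Cfsg.Agent.Lib.H29.Chev

open Cfsg.Lie Matrix

section Ree

variable {K : Type*} [Field K] [CharP K 3] [Fintype K]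

theorem uR_zero (m : ℕ) : uR m (0 : K) 0 0 = 1 := by
  rw [uR_eq]
  unfold gZ
  simp only [map_zero, gX, cert12_G2.c6.c2.xA_zero, mul_zero, zero_add, add_zero, mul_one, ne_eq,
    OfNat.ofNat_ne_zero, not_false_eq_true, zero_pow]

theorem uR_eq_one (m : ℕ) (t u v : K) (h : uR m t u v = 1) : t = 0 ∧ u = 0 ∧ v = 0 := by
  rw [← uR_zero m] at h
  exact uR_inj m _ _ _ _ _ _ h

/-- elements of the big cell do not lie in `B` -/
theorem big_cell_not_mem_borel (m : ℕ) (t u v a b c : K) (z : Kˣ) :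
    uR m t u v * (n0R K * hR K m z) * uR m a b c ∉ chevG2.borelSubgroup K := by
  intro hB
  have hUB : chevG2.posUnipotent K ≤ chevG2.borelSubgroup K := le_sup_left
  have hu2 : uR m a b c ∈ Uw chevG2 K (n0R K * hR K m z) := by rw [Uw_n0R_hR]; exact uR_mem_pos m _ _ _
  have h' : (uR m t u v * (n0R K * hR K m z) * uR m a b c) * 1 * 1 =
      uR m t u v * (n0R K * hR K m z) * uR m a b c := by rw [mul_one, mul_one]
  have := (cert12_G2.c6.canonical_form.2 _ _ _ _ _ _ hB (hUB (uR_mem_pos m t u v)) (one_mem _)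
    (n0R_hR_mem_monomial m z) (one_mem _) hu2 h').1
  rw [inv_one, one_mul] at this
  exact n0R_hR_not_mem_diag m z this

/-- the elements of `B ∩ G¹` -/
theorem mem_borel_inf_tw (m : ℕ) (hK : Fintype.card K = 3 ^ (2 * m + 1)) (g : GL chevG2.Idx K) :
    g ∈ chevG2.borelSubgroup K ⊓ twistedG2 K (3 ^ m) ↔ ∃ (t u v : K) (z : Kˣ), g = uR m t u v * hR K m z := by
  have hUB : chevG2.posUnipotent K ≤ chevG2.borelSubgroup K := le_sup_left
  constructor
  · rintro ⟨hB, hg⟩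
    rcases fix_decomp m hK g (twistedG2_le_fix m hK hg) with ⟨t, u, v, z, rfl⟩ | ⟨t, u, v, z, t', u', v', rfl⟩
    · exact ⟨t, u, v, z, rfl⟩
    · exact absurd hB (big_cell_not_mem_borel m _ _ _ _ _ _ _)
  · rintro ⟨t, u, v, z, rfl⟩
    exact ⟨mul_mem (hUB (uR_mem_pos m _ _ _)) (cert12_G2.c6.diag_le_borel (hR_mem_diag m z)),
      mul_mem (uR_mem_tw m _ _ _) (hR_mem_tw m hK z)⟩

/-- `n₀` conjugates the non-trivial elements of `U` outside `B` -/
theorem n0R_conj_uR_not_mem (m : ℕ) (t u v : K) (h : n0R K * uR m t u v * (n0R K)⁻¹ ∈ chevG2.borelSubgroup K) :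
    t = 0 ∧ u = 0 ∧ v = 0 := by
  have hV := cert12_G2.conj_pos_mem_neg (n0R K) _ perm_n0R (by
    intro s hs hpos
    have hs' : s < 12 := hs
    have hpos' : 6 ≤ s := hpos
    show 12 - 1 - s < 6
    omega) _ (uR_mem_pos m t u v)
  have h1 : n0R K * uR m t u v * (n0R K)⁻¹ ∈ chevG2.borelSubgroup K ⊓ chevG2.negUnipotent K :=
    Subgroup.mem_inf.mpr ⟨h, hV⟩
  rw [cert12_G2.c6.c2.borel_inf_neg, Subgroup.mem_bot] at h1
  apply uR_eq_one m
  have : uR m t u v = (n0R K)⁻¹ * (n0R K * uR m t u v * (n0R K)⁻¹) * n0R K := by group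
  rw [this, h1]; group

/-- an element of `G¹` all of whose conjugates under `G¹` lie in `B` is trivial -/
theorem tw_core_trivial_G2 (m : ℕ) (hK : Fintype.card K = 3 ^ (2 * m + 1)) (k : GL chevG2.Idx K)
    (hk : ∀ g ∈ twistedG2 K (3 ^ m), g * k * g⁻¹ ∈ chevG2.borelSubgroup K ⊓ twistedG2 K (3 ^ m)) : k = 1 := by
  -- such elements lie in `H`
  have step1 : ∀ k : GL chevG2.Idx K,
      (∀ g ∈ twistedG2 K (3 ^ m), g * k * g⁻¹ ∈ chevG2.borelSubgroup K ⊓ twistedG2 K (3 ^ m)) →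
      ∃ z : Kˣ, k = hR K m z := by
    intro k hk
    have h1 := hk 1 (one_mem _)
    rw [one_mul, inv_one, mul_one] at h1
    obtain ⟨t, u, v, z, rfl⟩ := (mem_borel_inf_tw m hK k).mp h1
    have h2 := (hk (n0R K) (n0R_mem_tw m)).1
    have hc : n0R K * hR K m z * (n0R K)⁻¹ ∈ chevG2.diagonalSubgroup K :=
      (Subgroup.mem_normalizer_iff.mp (cert12_G2.c6.c2.monomial_le_normalizer_diag n0R_mem_monomial) _).mp
        (hR_mem_diag m z)
    have e : n0R K * uR m t u v * (n0R K)⁻¹ =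
        (n0R K * (uR m t u v * hR K m z) * (n0R K)⁻¹) * (n0R K * hR K m z * (n0R K)⁻¹)⁻¹ := by group
    have h3 : n0R K * uR m t u v * (n0R K)⁻¹ ∈ chevG2.borelSubgroup K := by
      rw [e]
      exact mul_mem h2 (inv_mem (cert12_G2.c6.diag_le_borel hc))
    obtain ⟨rfl, rfl, rfl⟩ := n0R_conj_uR_not_mem m t u v h3
    exact ⟨z, by rw [uR_zero, one_mul]⟩
  obtain ⟨z, rfl⟩ := step1 k hk
  -- the conjugate by `u = uR 1 0 0` lies in `H` too
  have hk' : ∀ g ∈ twistedG2 K (3 ^ m), g * (uR m 1 0 0 * hR K m z * (uR m 1 0 0)⁻¹) * g⁻¹ ∈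
      chevG2.borelSubgroup K ⊓ twistedG2 K (3 ^ m) := by
    intro g hg
    have := hk (g * uR m 1 0 0) (mul_mem hg (uR_mem_tw m _ _ _))
    have e : g * uR m 1 0 0 * hR K m z * (g * uR m 1 0 0)⁻¹ =
        g * (uR m 1 0 0 * hR K m z * (uR m 1 0 0)⁻¹) * g⁻¹ := by group
    rwa [e] at this
  obtain ⟨z', hz'⟩ := step1 _ hk'
  -- `u (h u⁻¹ h⁻¹) ∈ U ∩ H`
  have hconj := hR_conj_uR m hK z 1 0 0
  have e1 : uR m 1 0 0 * (hR K m z * uR m 1 0 0 * (hR K m z)⁻¹)⁻¹ = hR K m z' * (hR K m z)⁻¹ := by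
    rw [← hz']; group
  have hmem : uR m 1 0 0 * (hR K m z * uR m 1 0 0 * (hR K m z)⁻¹)⁻¹ ∈
      chevG2.posUnipotent K ⊓ chevG2.diagonalSubgroup K := by
    refine Subgroup.mem_inf.mpr ⟨?_, ?_⟩
    · rw [hconj]
      exact mul_mem (uR_mem_pos m _ _ _) (inv_mem (uR_mem_pos m _ _ _))
    · rw [e1]
      exact mul_mem (hR_mem_diag m _) (inv_mem (hR_mem_diag m _))
  rw [cert12_G2.c6.c2.pos_inf_diag, Subgroup.mem_bot, hconj, mul_inv_eq_one] at hmem
  obtain ⟨h1, _, _⟩ := uR_inj m _ _ _ _ _ _ hmem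
  have hz : z = 1 := by
    apply Units.ext
    rw [mul_one] at h1
    rw [← h1]; rfl
  rw [hz, map_one]

theorem tw_borel_core_G2 (m : ℕ) (hK : Fintype.card K = 3 ^ (2 * m + 1)) :
    ((chevG2.borelSubgroup K ⊓ twistedG2 K (3 ^ m)).subgroupOf (twistedG2 K (3 ^ m))).normalCore = ⊥ := by
  rw [eq_bot_iff]
  intro g hg
  rw [Subgroup.mem_bot]
  have : (g : GL chevG2.Idx K) = 1 := by
    apply tw_core_trivial_G2 m hK
    intro b hb
    have := hg ⟨b, hb⟩
    exact Subgroup.mem_subgroupOf.mp this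
  exact Subtype.ext this

end Ree

end Cfsg.Agent.Lib.H29.Chev
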