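import Mathlib
import Cfsg.Prelude.Def_ChevStructure
import Cfsg.Prelude.Def_LieTwisted
import Cfsg.Prelude.Def_LieExceptional
import Cfsg.Agent.Lib.H29.ChevRee17

/-!
# The (B,N)-pair of the Ree group `²G₂(3^(2m+1))`
-/

set_option autoImplicit false
set_option linter.unusedSectionVars false
set_option linter.unusedSimpArgs false
set_option linter.unusedVariables false

namespace Cfsg.Agent.Lib.H29.Chev

open Cfsg.Lie Matrix

section Ree

variable {K : Type*} [Field K] [CharP K 3] [Fintype K]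

/-- the Borel subgroup `B¹` of the Ree group, as a subgroup of it -/
abbrev reeB (K : Type*) [Field K] (m : ℕ) : Subgroup ↥(twistedG2 K (3 ^ m)) :=
  (chevG2.borelSubgroup K ⊓ twistedG2 K (3 ^ m)).subgroupOf (twistedG2 K (3 ^ m))

/-- the monomial subgroup `N¹` of the Ree group, as a subgroup of it -/
abbrev reeN (K : Type*) [Field K] (m : ℕ) : Subgroup ↥(twistedG2 K (3 ^ m)) :=
  (chevG2.monomialSubgroup K ⊓ twistedG2 K (3 ^ m)).subgroupOf (twistedG2 K (3 ^ m))

/-- the Weyl element `n₀` as an element of the Ree group -/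
noncomputable def reeN0 (K : Type*) [Field K] [CharP K 3] (m : ℕ) : ↥(twistedG2 K (3 ^ m)) :=
  ⟨n0R K, n0R_mem_tw m⟩

theorem mem_reeB (m : ℕ) (g : ↥(twistedG2 K (3 ^ m))) :
    g ∈ reeB K m ↔ (g : GL chevG2.Idx K) ∈ chevG2.borelSubgroup K := by
  rw [Subgroup.mem_subgroupOf, Subgroup.mem_inf]
  exact ⟨fun h => h.1, fun h => ⟨h, g.2⟩⟩

theorem mem_reeN (m : ℕ) (g : ↥(twistedG2 K (3 ^ m))) :
    g ∈ reeN K m ↔ (g : GL chevG2.Idx K) ∈ chevG2.monomialSubgroup K := by
  rw [Subgroup.mem_subgroupOf, Subgroup.mem_inf]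
  exact ⟨fun h => h.1, fun h => ⟨h, g.2⟩⟩

theorem reeN0_mem_N (m : ℕ) : reeN0 K m ∈ reeN K m := by
  rw [mem_reeN]; exact n0R_mem_monomial

theorem reeN0_sq_mem_B (m : ℕ) : reeN0 K m * reeN0 K m ∈ reeB K m := by
  rw [mem_reeB]
  exact cert12_G2.c6.diag_le_borel n0R_sq_mem_diag

/-- the two double cosets cover the Ree group -/
theorem ree_cover (m : ℕ) (hK : Fintype.card K = 3 ^ (2 * m + 1)) (g : ↥(twistedG2 K (3 ^ m))) :
    g ∈ reeB K m ∨ g ∈ DoubleCoset.doubleCoset (reeN0 K m) (reeB K m : Set _) (reeB K m) := by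
  have hUB : chevG2.posUnipotent K ≤ chevG2.borelSubgroup K := le_sup_left
  have hHB : chevG2.diagonalSubgroup K ≤ chevG2.borelSubgroup K := le_sup_right
  rcases fix_decomp m hK g (twistedG2_le_fix m hK g.2) with ⟨t, u, v, z, hg⟩ | ⟨t, u, v, z, t', u', v', hg⟩
  · left
    rw [mem_reeB, hg]
    exact mul_mem (hUB (uR_mem_pos m _ _ _)) (hHB (hR_mem_diag m z))
  · right
    rw [DoubleCoset.mem_doubleCoset]
    refine ⟨⟨uR m t u v, uR_mem_tw m _ _ _⟩, ?_, ⟨hR K m z * uR m t' u' v', mul_mem (hR_mem_tw m hK z) (uR_mem_tw m _ _ _)⟩, ?_, ?_⟩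
    · rw [SetLike.mem_coe, mem_reeB]
      exact hUB (uR_mem_pos m _ _ _)
    · rw [SetLike.mem_coe, mem_reeB]
      exact mul_mem (hHB (hR_mem_diag m z)) (hUB (uR_mem_pos m _ _ _))
    · apply Subtype.ext
      rw [hg]
      show _ = uR m t u v * n0R K * (hR K m z * uR m t' u' v')
      group

theorem dc_of_mem_B {G : Type*} [Group G] (B : Subgroup G) (x g : G) (hx : x ∈ B) (hg : g ∈ B) :
    g ∈ DoubleCoset.doubleCoset x (B : Set G) B := by
  rw [DoubleCoset.mem_doubleCoset]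
  exact ⟨g * x⁻¹, mul_mem hg (inv_mem hx), 1, one_mem _, by group⟩

theorem dc_mul_right {G : Type*} [Group G] (B : Subgroup G) (n h g : G) (hh : h ∈ B)
    (hg : g ∈ DoubleCoset.doubleCoset n (B : Set G) B) :
    g ∈ DoubleCoset.doubleCoset (n * h) (B : Set G) B := by
  rw [DoubleCoset.mem_doubleCoset] at hg ⊢
  obtain ⟨a, ha, b, hb, rfl⟩ := hg
  exact ⟨a, ha, h⁻¹ * b, mul_mem (inv_mem hh) hb, by group⟩

/-- the elements of `N¹`, inside the Ree group -/
theorem reeN_cases (m : ℕ) (hK : Fintype.card K = 3 ^ (2 * m + 1)) (n : ↥(twistedG2 K (3 ^ m)))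
    (hn : n ∈ reeN K m) : n ∈ reeB K m ⊓ reeN K m ∨ ∃ h ∈ reeB K m ⊓ reeN K m, n = reeN0 K m * h := by
  have hHB : chevG2.diagonalSubgroup K ≤ chevG2.borelSubgroup K := le_sup_right
  have hHN : chevG2.diagonalSubgroup K ≤ chevG2.monomialSubgroup K := le_sup_left
  have hn' : (n : GL chevG2.Idx K) ∈ chevG2.monomialSubgroup K ⊓ twistedG2 K (3 ^ m) :=
    ⟨(mem_reeN m n).mp hn, n.2⟩
  rcases (mem_mono_inf_tw m hK _).mp hn' with ⟨z, hz⟩ | ⟨z, hz⟩
  · left
    refine Subgroup.mem_inf.mpr ⟨?_, hn⟩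
    rw [mem_reeB, hz]
    exact hHB (hR_mem_diag m z)
  · right
    refine ⟨⟨hR K m z, hR_mem_tw m hK z⟩, Subgroup.mem_inf.mpr ⟨?_, ?_⟩, ?_⟩
    · rw [mem_reeB]; exact hHB (hR_mem_diag m z)
    · rw [mem_reeN]; exact hHN (hR_mem_diag m z)
    · apply Subtype.ext
      rw [hz]; rfl

/-- the (B,N)-pair of `²G₂(3^(2m+1))` -/
noncomputable def reeBN (m : ℕ) (hK : Fintype.card K = 3 ^ (2 * m + 1)) :
    Cfsg.BNPair ↥(twistedG2 K (3 ^ m)) where
  B := reeB K m
  N := reeN K m
  S := {reeN0 K m}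
  sup_eq_top := by
    rw [eq_top_iff]
    intro g _
    rcases ree_cover m hK g with h | h
    · exact (le_sup_left : reeB K m ≤ _) h
    · rw [DoubleCoset.mem_doubleCoset] at h
      obtain ⟨a, ha, b, hb, rfl⟩ := h
      exact mul_mem (mul_mem ((le_sup_left : reeB K m ≤ _) ha) ((le_sup_right : reeN K m ≤ _) (reeN0_mem_N m)))
        ((le_sup_left : reeB K m ≤ _) hb)
  conj_mem := by
    intro n hn t ht
    obtain ⟨htB, htN⟩ := Subgroup.mem_inf.mp ht
    rw [mem_reeB] at htB ⊢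
    rw [mem_reeN] at htN hn
    have htH : (t : GL chevG2.Idx K) ∈ chevG2.diagonalSubgroup K := by
      rw [← cert12_G2.c6.c2.borel_inf_monomial]
      exact ⟨htB, htN⟩
    have := cert12_G2.c6.c2.monomial_le_normalizer_diag hn
    rw [Subgroup.mem_normalizer_iff] at this
    exact cert12_G2.c6.diag_le_borel ((this _).mp htH)
  subset := by
    intro s hs
    rw [Set.mem_singleton_iff] at hs
    rw [hs]
    exact reeN0_mem_N m
  sq_mem := by
    intro s hs
    rw [Set.mem_singleton_iff] at hs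
    rw [hs]
    exact reeN0_sq_mem_B m
  inj := by
    intro s hs s' hs' _
    rw [Set.mem_singleton_iff] at hs hs'
    rw [hs, hs']
  closure_sup := by
    apply le_antisymm
    · apply sup_le
      · rw [Subgroup.closure_le]
        intro s hs
        rw [Set.mem_singleton_iff] at hs
        rw [hs]
        exact reeN0_mem_N m
      · exact inf_le_right
    · intro n hn
      rcases reeN_cases m hK n hn with h | ⟨h, hh, rfl⟩
      · exact (le_sup_right : reeB K m ⊓ reeN K m ≤ _) h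
      · exact mul_mem ((le_sup_left : Subgroup.closure {reeN0 K m} ≤ _)
          (Subgroup.subset_closure (Set.mem_singleton _))) ((le_sup_right : reeB K m ⊓ reeN K m ≤ _) hh)
  mul_mem_union := by
    intro s hs n hn b hb
    rw [Set.mem_singleton_iff] at hs
    subst hs
    rcases reeN_cases m hK n hn with h | ⟨h, hh, rfl⟩
    · have hnB := (Subgroup.mem_inf.mp h).1
      rcases ree_cover m hK (reeN0 K m * b * n) with hg | hg
      · right
        exact dc_of_mem_B _ _ _ hnB hg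
      · left
        exact dc_mul_right _ _ _ _ hnB hg
    · have hhB := (Subgroup.mem_inf.mp hh).1
      rcases ree_cover m hK (reeN0 K m * b * (reeN0 K m * h)) with hg | hg
      · left
        apply dc_of_mem_B _ _ _ _ hg
        rw [← mul_assoc]
        exact mul_mem (reeN0_sq_mem_B m) hhB
      · right
        exact dc_mul_right _ _ _ _ hhB hg
  conj_ne := by
    intro s hs
    rw [Set.mem_singleton_iff] at hs
    subst hs
    intro heq
    have hUB : chevG2.posUnipotent K ≤ chevG2.borelSubgroup K := le_sup_left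
    have hu : (⟨uR m 1 0 0, uR_mem_tw m _ _ _⟩ : ↥(twistedG2 K (3 ^ m))) ∈ reeB K m := by
      rw [mem_reeB]; exact hUB (uR_mem_pos m _ _ _)
    have h1 : reeN0 K m * ⟨uR m 1 0 0, uR_mem_tw m _ _ _⟩ * reeN0 K m ∈ (reeB K m : Set _) := by
      rw [← heq]
      exact ⟨_, hu, rfl⟩
    rw [SetLike.mem_coe, mem_reeB] at h1
    have h2 : n0R K * uR m (1 : K) 0 0 * n0R K ∈ chevG2.borelSubgroup K := h1
    have h3 : n0R K * uR m (1 : K) 0 0 * (n0R K)⁻¹ ∈ chevG2.borelSubgroup K := by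
      have := mul_mem h2 (inv_mem (cert12_G2.c6.diag_le_borel (n0R_sq_mem_diag (K := K))))
      have e : n0R K * uR m (1 : K) 0 0 * n0R K * (n0R K * n0R K)⁻¹ = n0R K * uR m (1 : K) 0 0 * (n0R K)⁻¹ := by
        group
      rwa [e] at this
    exact one_ne_zero (n0R_conj_uR_not_mem m _ _ _ h3).1

end Ree

end Cfsg.Agent.Lib.H29.Chev
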