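import Mathlib
import Cfsg.Prelude.Def_ChevStructure
import Cfsg.Prelude.Def_LieTwisted
import Cfsg.Prelude.Def_LieExceptional
import Cfsg.Agent.Lib.H29.ChevRee18

/-!
# The multiplication law of the unipotent subgroup of the Ree group
-/

set_option autoImplicit false
set_option linter.unusedSectionVars false
set_option linter.unusedSimpArgs false
set_option linter.unusedVariables false

namespace Cfsg.Agent.Lib.H29.Chev

open Cfsg.Lie Matrix

section Ree

variable {K : Type*} [Field K] [CharP K 3]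

theorem c79 (t u : K) : Commute (gX 7 t) (gX 9 u) :=
  gX_comm_three 7 9 10 3 (by decide) (by decide) (by decide) (by decide) (Or.inl rfl) (by decide +kernel) t u
theorem c7a (t u : K) : Commute (gX 7 t) (gX 10 u) :=
  gX_comm_nil 7 10 (by decide) (by decide) (by decide) (by decide) (by decide +kernel) t u
theorem c7b (t u : K) : Commute (gX 7 t) (gX 11 u) :=
  gX_comm_nil 7 11 (by decide) (by decide) (by decide) (by decide) (by decide +kernel) t u
theorem c68 (t u : K) : Commute (gX 6 t) (gX 8 u) :=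
  gX_comm_nil 6 8 (by decide) (by decide) (by decide) (by decide) (by decide +kernel) t u
theorem c69 (t u : K) : Commute (gX 6 t) (gX 9 u) :=
  gX_comm_nil 6 9 (by decide) (by decide) (by decide) (by decide) (by decide +kernel) t u
theorem c6b (t u : K) : Commute (gX 6 t) (gX 11 u) :=
  gX_comm_nil 6 11 (by decide) (by decide) (by decide) (by decide) (by decide +kernel) t u

/-- `x_{3a+b}` past `x_b` -/
theorem c6a (t u : K) : gX 10 u * gX 6 t = gX 6 t * gX 10 u * gX 11 (-(t * u)) := by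
  have := cert12_G2.c6.cfg (F := K) 6 10 (by decide) (by decide) (by decide) (by decide) t u
  have h : fdG2.commT 6 10 = [(11, 1, 1, 1)] := by decide +kernel
  rw [h] at this
  rw [this]
  unfold Cert2.ctG
  simp only [List.map_cons, List.map_nil, List.prod_cons, List.prod_nil, mul_one, gX]
  have e : (((1 : ℤ) : K) * (-t) ^ 1 * u ^ 1) = -(t * u) := by push_cast; ring
  rw [e]

/-- `x_{a+b}` past `x_a`, in characteristic 3 -/
theorem c78 (t u : K) : gX 8 u * gX 7 t = gX 7 t * gX 8 u * gX 9 (-(t * u)) := by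
  have := cert12_G2.c6.cfg (F := K) 7 8 (by decide) (by decide) (by decide) (by decide) t u
  have h : fdG2.commT 7 8 = [(9, -2, 1, 1), (10, -3, 2, 1), (11, 3, 1, 2)] := by decide +kernel
  rw [h] at this
  rw [this]
  have h3 : ((3 : ℤ) : K) = 0 := int3_cast
  have h3' : ((-3 : ℤ) : K) = 0 := by rw [Int.cast_neg, int3_cast, neg_zero]
  have h2 : ((-2 : ℤ) : K) = 1 := by
    have : ((-2 : ℤ) : K) = ((3 : ℤ) : K) * (-1) + 1 := by push_cast; ring
    rw [this, h3, zero_mul, zero_add]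
  unfold Cert2.ctG
  simp only [List.map_cons, List.map_nil, List.prod_cons, List.prod_nil, mul_one, gX,
    h3, h3', h2, zero_mul, cert12_G2.c6.c2.xA_zero, one_mul]
  have e : (-t) ^ 1 * u ^ 1 = -(t * u) := by ring
  rw [e]

theorem gZ_X7 (a b c d s : K) : gZ a b c d * gX 7 s = gX 7 s * gZ a (b - s * a) c d := by
  unfold gZ
  have e1 : gX 8 a * gX 9 b * gX 10 c * gX 11 d * gX 7 s = gX 8 a * gX 7 s * gX 9 b * gX 10 c * gX 11 d := by
    rw [mul_assoc _ (gX 11 d), ← (c7b s d).eq, mul_assoc _ (gX 10 c), ← mul_assoc (gX 10 c), ← (c7a s c).eq,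
      mul_assoc _ (gX 9 b), ← mul_assoc (gX 9 b), ← mul_assoc (gX 9 b), ← (c79 s b).eq]
    simp only [mul_assoc]
  rw [e1, c78]
  have e2 : gX 9 (-(s * a)) * gX 9 b = gX 9 (b - s * a) := by
    simp only [gX, cert12_G2.c6.c2.xA_mul]
    congr 1; ring
  rw [mul_assoc (gX 7 s * gX 8 a), e2]
  simp only [mul_assoc]

theorem gZ_X6 (a b c d r : K) : gZ a b c d * gX 6 r = gX 6 r * gZ a b c (d - r * c) := by
  unfold gZ
  have e1 : gX 8 a * gX 9 b * gX 10 c * gX 11 d * gX 6 r = gX 8 a * gX 9 b * (gX 10 c * gX 6 r) * gX 11 d := by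
    rw [mul_assoc _ (gX 11 d), ← (c6b r d).eq]
    simp only [mul_assoc]
  rw [e1, c6a]
  have e2 : gX 11 (-(r * c)) * gX 11 d = gX 11 (d - r * c) := by
    simp only [gX, cert12_G2.c6.c2.xA_mul]
    congr 1; ring
  have e3 : gX 8 a * gX 9 b * (gX 6 r * gX 10 c * gX 11 (-(r * c))) * gX 11 d =
      gX 8 a * (gX 9 b * gX 6 r) * gX 10 c * (gX 11 (-(r * c)) * gX 11 d) := by
    simp only [mul_assoc]
  rw [e3, e2, ← (c69 r b).eq, ← mul_assoc (gX 8 a), ← (c68 r a).eq]
  simp only [mul_assoc]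

variable [Fintype K]

/-- the multiplication law of `U¹` -/
theorem uR_mul (m : ℕ) (hK : Fintype.card K = 3 ^ (2 * m + 1)) (t u v t' u' v' : K) :
    uR m t u v * uR m t' u' v' =
      uR m (t + t') (u + u' - reeTheta K m t' ^ 3 * t)
        (v + v' - t' * u - reeTheta K m t' ^ 3 * t ^ 2 + reeTheta K m t' ^ 3 * t * t') := by
  rw [uR_eq, uR_eq, uR_eq]
  have hc := theta_theta_cube m hK t'
  set a := reeTheta K m t with ha
  set a' := reeTheta K m t' with ha'
  set b := reeTheta K m u with hb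
  set b' := reeTheta K m u' with hb'
  set c := reeTheta K m v with hc0
  set c' := reeTheta K m v' with hc0'
  have e1 : gX 7 a * gX 6 t * gZ (a * t + b) (a ^ 2 * t + c) u v * (gX 7 a' * gX 6 t' * gZ (a' * t' + b') (a' ^ 2 * t' + c') u' v')
      = gX 7 a * gX 6 t * (gZ (a * t + b) (a ^ 2 * t + c) u v * gX 7 a') * gX 6 t' * gZ (a' * t' + b') (a' ^ 2 * t' + c') u' v' := by
    simp only [mul_assoc]
  rw [e1, gZ_X7]
  have e2 : gX 7 a * gX 6 t * (gX 7 a' * gZ (a * t + b) (a ^ 2 * t + c - a' * (a * t + b)) u v) * gX 6 t' *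
      gZ (a' * t' + b') (a' ^ 2 * t' + c') u' v' =
      gX 7 a * (gX 6 t * gX 7 a') * (gZ (a * t + b) (a ^ 2 * t + c - a' * (a * t + b)) u v * gX 6 t') *
      gZ (a' * t' + b') (a' ^ 2 * t' + c') u' v' := by
    simp only [mul_assoc]
  rw [e2, gZ_X6, c76]
  have e3 : gX 7 a * (gX 7 a' * gX 6 t * gZ (a' * t) (a' ^ 2 * t) (-(a' ^ 3 * t)) (-(a' ^ 3 * t ^ 2))) *
      (gX 6 t' * gZ (a * t + b) (a ^ 2 * t + c - a' * (a * t + b)) u (v - t' * u)) *
      gZ (a' * t' + b') (a' ^ 2 * t' + c') u' v' =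
      (gX 7 a * gX 7 a') * gX 6 t * (gZ (a' * t) (a' ^ 2 * t) (-(a' ^ 3 * t)) (-(a' ^ 3 * t ^ 2)) * gX 6 t') *
      (gZ (a * t + b) (a ^ 2 * t + c - a' * (a * t + b)) u (v - t' * u) *
      gZ (a' * t' + b') (a' ^ 2 * t' + c') u' v') := by
    simp only [mul_assoc]
  rw [e3, gZ_X6, gZ_mul]
  have e4 : gX 7 a * gX 7 a' * gX 6 t * (gX 6 t' * gZ (a' * t) (a' ^ 2 * t) (-(a' ^ 3 * t)) (-(a' ^ 3 * t ^ 2) - t' * -(a' ^ 3 * t))) *
      gZ (a * t + b + (a' * t' + b')) (a ^ 2 * t + c - a' * (a * t + b) + (a' ^ 2 * t' + c')) (u + u') (v - t' * u + v') =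
      (gX 7 a * gX 7 a') * (gX 6 t * gX 6 t') * (gZ (a' * t) (a' ^ 2 * t) (-(a' ^ 3 * t)) (-(a' ^ 3 * t ^ 2) - t' * -(a' ^ 3 * t)) *
      gZ (a * t + b + (a' * t' + b')) (a ^ 2 * t + c - a' * (a * t + b) + (a' ^ 2 * t' + c')) (u + u') (v - t' * u + v')) := by
    simp only [mul_assoc]
  rw [e4, gZ_mul]
  have e5 : gX 7 a * gX 7 a' = gX 7 (a + a') := by simp only [gX, cert12_G2.c6.c2.xA_mul]
  have e6 : gX 6 t * gX 6 t' = gX 6 (t + t') := by simp only [gX, cert12_G2.c6.c2.xA_mul]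
  rw [e5, e6]
  have h3 : (3 : K) = 0 := by
    have := CharP.cast_eq_zero K 3
    exact_mod_cast this
  simp only [map_add, map_sub, map_mul, map_pow, ← ha, ← ha', ← hb, ← hb', ← hc0, ← hc0', hc]
  have g1 : a' * t + (a * t + b + (a' * t' + b')) = (a + a') * (t + t') + (b + b' - t' * a) := by ring
  have g2 : a' ^ 2 * t + (a ^ 2 * t + c - a' * (a * t + b) + (a' ^ 2 * t' + c')) =
      (a + a') ^ 2 * (t + t') + (c + c' - a' * b - t' * a ^ 2 + t' * a * a') := by
    have : (a + a') ^ 2 * (t + t') + (c + c' - a' * b - t' * a ^ 2 + t' * a * a') -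
        (a' ^ 2 * t + (a ^ 2 * t + c - a' * (a * t + b) + (a' ^ 2 * t' + c'))) = 3 * (a * a' * (t + t')) := by ring
    rw [h3, zero_mul, sub_eq_zero] at this
    exact this.symm
  have g3 : -(a' ^ 3 * t) + (u + u') = u + u' - a' ^ 3 * t := by ring
  have g4 : -(a' ^ 3 * t ^ 2) - t' * -(a' ^ 3 * t) + (v - t' * u + v') =
      v + v' - t' * u - a' ^ 3 * t ^ 2 + a' ^ 3 * t * t' := by ring
  rw [g1, g2, g3, g4]
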