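import Mathlib
import Cfsg.Prelude.Def_ChevStructure
import Cfsg.Prelude.Def_LieTwisted
import Cfsg.Prelude.Def_LieExceptional
import Cfsg.Agent.Lib.H29.ChevRee19

/-!
# The Ree groups `²G₂(3^(2m+1))`, `m ≥ 1`, are perfect
-/

set_option autoImplicit false
set_option linter.unusedSectionVars false
set_option linter.unusedSimpArgs false
set_option linter.unusedVariables false

namespace Cfsg.Agent.Lib.H29.Chev

open Cfsg.Lie Matrix
open scoped commutatorElement

section Gen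

variable {D : ChevalleyDatum} {fd : FD} {fx : FX} {fc : FC} {fz : FZ} {F : Type*} [Field F]

/-- an element of `N` mapping all negative roots to positive roots conjugates `V` into `U` -/
theorem Cert12.conj_neg_mem_pos (C : Cert12 D fd fx fc fz) (m : GL D.Idx F) (π : ℕ → ℕ) (hπ : C.c6.c2.Perm m π)
    (hw0 : ∀ s < fd.n, s < fd.n / 2 → fd.n / 2 ≤ π s) (u : GL D.Idx F) (hu : u ∈ D.negUnipotent F) :
    m * u * m⁻¹ ∈ D.posUnipotent F := by
  unfold ChevalleyDatum.negUnipotent at hu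
  induction hu using Subgroup.closure_induction with
  | mem x hx =>
    obtain ⟨s, t, hs, hg⟩ := hx
    obtain ⟨hs2, hs1⟩ := (Chev.isNeg_iff C.c6.c2.agrees C.c6.c2.lev s).mp hs
    have hgx : x = C.c6.c2.xA s t := gl_ext (by rw [hg, C.c6.c2.xA_val])
    obtain ⟨h1, _, c, h3⟩ := hπ s hs1
    rw [hgx, h3]
    exact C.xA_pos_mem _ h1 (hw0 s hs1 hs2) _
  | one => simp
  | mul x y _ _ hx hy =>
    have : m * (x * y) * m⁻¹ = (m * x * m⁻¹) * (m * y * m⁻¹) := by group
    rw [this]; exact mul_mem hx hy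
  | inv x _ hx =>
    have : m * x⁻¹ * m⁻¹ = (m * x * m⁻¹)⁻¹ := by group
    rw [this]; exact inv_mem hx

/-- a criterion for a subgroup to be perfect -/
theorem perfect_of_gen {G : Type*} [Group G] (H : Subgroup G)
    (h : ∀ D : Subgroup G, (∀ a ∈ H, ∀ b ∈ H, a * b * a⁻¹ * b⁻¹ ∈ D) → (∀ g ∈ H, ∀ d ∈ D, g * d * g⁻¹ ∈ D) → H ≤ D) :
    commutator ↥H = ⊤ := by
  have hle := h ((commutator ↥H).map H.subtype) (by
    intro a ha b hb
    refine ⟨⁅(⟨a, ha⟩ : ↥H), ⟨b, hb⟩⁆, Subgroup.commutator_mem_commutator (Subgroup.mem_top _) (Subgroup.mem_top _), ?_⟩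
    rw [commutatorElement_def]
    rfl) (by
    rintro g hg d ⟨x, hx, rfl⟩
    have hN : (commutator ↥H).Normal := inferInstance
    exact ⟨⟨g, hg⟩ * x * ⟨g, hg⟩⁻¹, hN.conj_mem x hx _, rfl⟩)
  rw [eq_top_iff]
  intro g _
  obtain ⟨x, hx, hxg⟩ := hle g.2
  have : x = g := Subtype.ext hxg
  rwa [this] at hx

end Gen

section Ree

variable {K : Type*} [Field K] [CharP K 3]

theorem vR_mem_neg (m : ℕ) (t u v : K) : vR m t u v ∈ chevG2.negUnipotent K := by
  rw [vR_eq]
  unfold gZn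
  have h : ∀ (s : ℕ) (hs : s < 6) (c : K), gX s c ∈ chevG2.negUnipotent K := by
    intro s hs c
    exact cert12_G2.xA_neg_mem s (by show s < 12; omega) (by show s < 12 / 2; omega) c
  exact mul_mem (mul_mem (h 4 (by norm_num) _) (h 5 (by norm_num) _))
    (mul_mem (mul_mem (mul_mem (h 3 (by norm_num) _) (h 2 (by norm_num) _)) (h 1 (by norm_num) _)) (h 0 (by norm_num) _))

variable [Fintype K]

/-- `n₀` conjugates `V¹` into `U¹` -/
theorem n0R_conj_vR (m : ℕ) (hK : Fintype.card K = 3 ^ (2 * m + 1)) (t u v : K) :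
    ∃ t' u' v' : K, n0R K * vR m t u v * (n0R K)⁻¹ = uR m t' u' v' := by
  rw [← mem_pos_inf_tw m hK]
  refine ⟨?_, Subgroup.mul_mem _ (Subgroup.mul_mem _ (n0R_mem_tw m) (vR_mem_tw m _ _ _)) (Subgroup.inv_mem _ (n0R_mem_tw m))⟩
  apply cert12_G2.conj_neg_mem_pos (n0R K) _ perm_n0R _ _ (vR_mem_neg m t u v)
  intro s hs hneg
  have hs' : s < 12 := hs
  have hneg' : s < 6 := hneg
  show 12 / 2 ≤ 12 - 1 - s
  omega

theorem uR_mul_zero (m : ℕ) (hK : Fintype.card K = 3 ^ (2 * m + 1)) (t u v u' v' : K) :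
    uR m t u v * uR m 0 u' v' = uR m t (u + u') (v + v') := by
  rw [uR_mul m hK]
  congr 1
  · ring
  · rw [map_zero]; ring
  · rw [map_zero]; ring

theorem uR_inv (m : ℕ) (hK : Fintype.card K = 3 ^ (2 * m + 1)) (t u v : K) :
    (uR m t u v)⁻¹ = uR m (-t) (-u - reeTheta K m t ^ 3 * t) (-v - t * u + reeTheta K m t ^ 3 * t ^ 2) := by
  apply inv_eq_of_mul_eq_one_right
  rw [uR_mul m hK, ← uR_zero m]
  have h3 : (3 : K) = 0 := by
    have := CharP.cast_eq_zero K 3
    exact_mod_cast this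
  congr 1
  · ring
  · rw [map_neg]; ring
  · rw [map_neg]
    have : v + (-v - t * u + reeTheta K m t ^ 3 * t ^ 2) - -t * u - (-reeTheta K m t) ^ 3 * t ^ 2 +
        (-reeTheta K m t) ^ 3 * t * -t = 3 * (reeTheta K m t ^ 3 * t ^ 2) := by ring
    rw [this, h3, zero_mul]

theorem uR_inv_zero (m : ℕ) (hK : Fintype.card K = 3 ^ (2 * m + 1)) (u v : K) :
    (uR m 0 u v)⁻¹ = uR m 0 (-u) (-v) := by
  rw [uR_inv m hK]
  congr 1
  · ring
  · rw [map_zero]; ring
  · rw [map_zero]; ring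

/-- a generator of the multiplicative group has the three characters non-trivial, when `m ≥ 1` -/
theorem exists_torus_gen (m : ℕ) (hK : Fintype.card K = 3 ^ (2 * m + 1)) (hm : 1 ≤ m) :
    ∃ z : Kˣ, (z : K) - 1 ≠ 0 ∧ reeTheta K m (z : K) ^ 3 * z - 1 ≠ 0 ∧ reeTheta K m (z : K) ^ 3 * (z : K) ^ 2 - 1 ≠ 0 := by
  obtain ⟨z, hz⟩ := IsCyclic.exists_generator (α := Kˣ)
  have hord : orderOf z = 3 ^ (2 * m + 1) - 1 := by
    rw [orderOf_eq_card_of_forall_mem_zpowers hz, Nat.card_units, Nat.card_eq_fintype_card, hK]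
  have key : ∀ k : ℕ, 0 < k → k < 3 ^ (2 * m + 1) - 1 → (z : K) ^ k ≠ 1 := by
    intro k hk0 hk h
    have h' : z ^ k = 1 := by
      apply Units.ext
      rw [Units.val_pow_eq_pow_val, h]; rfl
    have := orderOf_dvd_of_pow_eq_one h'
    rw [hord] at this
    have := Nat.le_of_dvd hk0 this
    omega
  have hpow : 3 ^ (m + 1) * 3 ≤ 3 ^ (2 * m + 1) := by
    rw [← pow_succ]
    apply Nat.pow_le_pow_right (by norm_num)
    omega
  have h9 : 9 ≤ 3 ^ (m + 1) := by
    calc 9 = 3 ^ 2 := by norm_num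
      _ ≤ 3 ^ (m + 1) := Nat.pow_le_pow_right (by norm_num) (by omega)
  refine ⟨z, ?_, ?_, ?_⟩
  · rw [sub_ne_zero]
    have := key 1 (by norm_num) (by omega)
    rwa [pow_one] at this
  · rw [sub_ne_zero, reeTheta_apply, ← pow_mul, ← pow_succ]
    apply key _ (by positivity)
    have : 3 ^ m * 3 = 3 ^ (m + 1) := (pow_succ 3 m).symm
    omega
  · rw [sub_ne_zero, reeTheta_apply, ← pow_mul, ← pow_add]
    apply key _ (by positivity)
    have : 3 ^ m * 3 = 3 ^ (m + 1) := (pow_succ 3 m).symm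
    omega

/-- a subgroup containing all commutators of the Ree group contains `U¹`, when `m ≥ 1` -/
theorem uR_mem_of_comm (m : ℕ) (hK : Fintype.card K = 3 ^ (2 * m + 1)) (hm : 1 ≤ m) (D : Subgroup (GL chevG2.Idx K))
    (hD : ∀ a ∈ twistedG2 K (3 ^ m), ∀ b ∈ twistedG2 K (3 ^ m), a * b * a⁻¹ * b⁻¹ ∈ D) (t u v : K) :
    uR m t u v ∈ D := by
  obtain ⟨z, h1, h2, h3⟩ := exists_torus_gen m hK hm
  have hz := hR_mem_tw m hK z
  -- the third layer
  have L3 : ∀ w : K, uR m 0 0 w ∈ D := by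
    intro w
    have := hD _ hz _ (uR_mem_tw m 0 0 (w / (reeTheta K m (z : K) ^ 3 * (z : K) ^ 2 - 1)))
    rw [hR_conj_uR m hK, uR_inv_zero m hK, mul_zero, mul_zero, uR_mul_zero m hK] at this
    convert this using 2
    · ring
    · field_simp
      ring
  have L2 : ∀ w : K, uR m 0 w 0 ∈ D := by
    intro w
    have := hD _ hz _ (uR_mem_tw m 0 (w / (reeTheta K m (z : K) ^ 3 * (z : K) - 1)) 0)
    rw [hR_conj_uR m hK, uR_inv_zero m hK, mul_zero, mul_zero, uR_mul_zero m hK] at this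
    convert this using 2
    · field_simp
      ring
    · ring
  have L23 : ∀ a b : K, uR m 0 a b ∈ D := by
    intro a b
    have := mul_mem (L2 a) (L3 b)
    rw [uR_mul_zero m hK] at this
    convert this using 2 <;> ring
  have L1 : ∀ s : K, ∃ a b : K, uR m s a b ∈ D := by
    intro s
    have := hD _ hz _ (uR_mem_tw m (s / ((z : K) - 1)) 0 0)
    rw [hR_conj_uR m hK, uR_inv m hK, uR_mul m hK] at this
    have e : (z : K) * (s / ((z : K) - 1)) + -(s / ((z : K) - 1)) = s := by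
      field_simp
      ring
    rw [e] at this
    exact ⟨_, _, this⟩
  obtain ⟨a, b, hab⟩ := L1 t
  have := mul_mem hab (L23 (u - a) (v - b))
  rw [uR_mul_zero m hK] at this
  convert this using 2 <;> ring

/-- the Ree groups are perfect, when `m ≥ 1` -/
theorem tw_perfect_G2 (m : ℕ) (hK : Fintype.card K = 3 ^ (2 * m + 1)) (hm : 1 ≤ m) :
    commutator ↥(twistedG2 K (3 ^ m)) = ⊤ := by
  apply perfect_of_gen (twistedG2 K (3 ^ m))
  intro D hD hnorm
  have hU := uR_mem_of_comm m hK hm D hD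
  have hV : ∀ t u v : K, vR m t u v ∈ D := by
    intro t u v
    obtain ⟨t', u', v', h⟩ := n0R_conj_vR m hK t u v
    have := hnorm _ (Subgroup.inv_mem _ (n0R_mem_tw (K := K) m)) _ (hU t' u' v')
    rw [← h] at this
    convert this using 1
    group
  unfold twistedG2 ChevalleyDatum.genSubgroup
  rw [Subgroup.closure_le]
  rintro g ⟨w, ⟨t, u, v, rfl | rfl⟩, hg⟩
  · have : g = uR m t u v := gl_ext (by rw [hg, uR_val])
    rw [this]; exact hU t u v
  · have : g = vR m t u v := gl_ext (by rw [hg, vR_val])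
    rw [this]; exact hV t u v

end Ree

end Cfsg.Agent.Lib.H29.Chev
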