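import Mathlib
import Cfsg.Prelude.Def_ChevStructure
import Cfsg.Prelude.Def_LieTwisted
import Cfsg.Agent.Lib.H29.ChevF4w
import Cfsg.Agent.Lib.H29.ChevRee20

/-!
# The large Ree groups `²F₄(2^(2m+1))`, `m ≥ 1`, are perfect
-/

set_option autoImplicit false
set_option linter.unusedSectionVars false
set_option linter.unusedSimpArgs false
set_option linter.unusedVariables false

namespace Cfsg.Agent.Lib.H29.Chev

open Cfsg.Lie Matrix

section F4

variable {K : Type*} [Field K] [CharP K 2]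

theorem fX_20_19 (t u : K) : Commute (fX 20 t) (fX 19 u) :=
  fX_comm_two 20 19 17 (-2) (by decide) (by decide) (by decide) (by decide) (Or.inr rfl) (by decide) t u
theorem fX_20_17 (t u : K) : Commute (fX 20 t) (fX 17 u) :=
  fX_comm_nil 20 17 (by decide) (by decide) (by decide) (by decide) (by decide) t u
theorem fX_22_19 (t u : K) : Commute (fX 22 t) (fX 19 u) :=
  fX_comm_nil 22 19 (by decide) (by decide) (by decide) (by decide) (by decide) t u
theorem fX_22_17 (t u : K) : Commute (fX 22 t) (fX 17 u) :=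
  fX_comm_nil 22 17 (by decide) (by decide) (by decide) (by decide) (by decide) t u

theorem clsEl_zero (m a b c d : ℕ) : clsEl m a b c d (0 : K) 0 = 1 := by
  unfold clsEl fX
  simp only [map_zero, mul_zero, add_zero, ne_eq, OfNat.ofNat_ne_zero, not_false_eq_true, zero_pow,
    cert12_F4.c6.c2.xA_zero, mul_one]

theorem add_one_ne_zero_char2 (l : K) (hl : l ≠ 1) : l + 1 ≠ 0 := by
  intro h
  apply hl
  have := CharTwo.add_eq_zero.mp h
  exact this

/-- a subgroup containing the commutators with a torus element contains the pair elements -/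
theorem pairEl_mem_of_comm (m r rbar : ℕ) (hr : r < 48) (hrb : rbar < 48)
    (hc : ∀ t u : K, Commute (fX r t) (fX rbar u)) (h : GL chevF4.Idx K)
    (hh : h ∈ chevF4.diagonalSubgroup K) (he : dE chevF4 h r = f4Theta K m (dE chevF4 h rbar))
    (hne : dE chevF4 h rbar ≠ 1) (D : Subgroup (GL chevF4.Idx K))
    (hD : ∀ t : K, h * pairEl m r rbar t * h⁻¹ * (pairEl m r rbar t)⁻¹ ∈ D) (s : K) :
    pairEl m r rbar s ∈ D := by
  have h1 := add_one_ne_zero_char2 _ hne
  have := hD (s / (dE chevF4 h rbar + 1))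
  rw [pairEl_conj m r rbar hr hrb h hh he, pairEl_inv m r rbar hc, pairEl_mul m r rbar hc] at this
  have e : dE chevF4 h rbar * (s / (dE chevF4 h rbar + 1)) + s / (dE chevF4 h rbar + 1) = s := by
    field_simp
  rwa [e] at this

theorem theta_mul_ne_one (m : ℕ) (hθ : ∀ x : K, f4Theta K m (f4Theta K m x) ^ 2 = x) (l : K) (hl : l ≠ 1) :
    f4Theta K m l * l ≠ 1 := by
  intro h
  have hl0 : l ≠ 0 := by
    rintro rfl
    rw [mul_zero] at h
    exact zero_ne_one h
  have h1 : f4Theta K m l = l⁻¹ := eq_inv_of_mul_eq_one_left h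
  have h2 := hθ l
  rw [h1, map_inv₀, h1, inv_inv] at h2
  apply hl
  have : l * (l - 1) = 0 := by rw [mul_sub, mul_one, ← sq, h2, sub_self]
  rcases mul_eq_zero.mp this with h3 | h3
  · exact absurd h3 hl0
  · exact sub_eq_zero.mp h3

/-- a subgroup containing the commutators with a torus element contains the class elements -/
theorem clsEl_mem_of_comm (m a b c d : ℕ) (ha : a < 48) (hb : b < 48) (hc : c < 48) (hd : d < 48)
    (hθ : ∀ x : K, f4Theta K m (f4Theta K m x) ^ 2 = x)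
    (hab : ∀ t u : K, fX b u * fX a t = fX a t * fX b u * (fX c (t * u) * fX d (t ^ 2 * u)))
    (hcd : ∀ t u : K, Commute (fX c t) (fX d u)) (hac : ∀ t u : K, Commute (fX a t) (fX c u))
    (had : ∀ t u : K, Commute (fX a t) (fX d u)) (hbc : ∀ t u : K, Commute (fX b t) (fX c u))
    (hbd : ∀ t u : K, Commute (fX b t) (fX d u)) (h : GL chevF4.Idx K)
    (hh : h ∈ chevF4.diagonalSubgroup K) (ea : dE chevF4 h a = f4Theta K m (dE chevF4 h b))
    (ec : dE chevF4 h c = f4Theta K m (dE chevF4 h b) * dE chevF4 h b)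
    (ed : dE chevF4 h d = f4Theta K m (dE chevF4 h b) ^ 2 * dE chevF4 h b)
    (hne : dE chevF4 h b ≠ 1) (D : Subgroup (GL chevF4.Idx K))
    (hD : ∀ t u : K, h * clsEl m a b c d t u * h⁻¹ * (clsEl m a b c d t u)⁻¹ ∈ D) (s w : K) :
    clsEl m a b c d s w ∈ D := by
  have hmul := clsEl_mul m a b c d hθ hab hcd hac had hbc hbd
  have hinv : ∀ t u : K, (clsEl m a b c d t u)⁻¹ = clsEl m a b c d t (u + f4Theta K m t * t) := by
    intro t u
    rw [inv_eq_iff_mul_eq_one, hmul, ← clsEl_zero m a b c d]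
    congr 1
    · exact CharTwo.add_self_eq_zero t
    · have : u + (u + f4Theta K m t * t) + f4Theta K m t * t = (u + f4Theta K m t * t) + (u + f4Theta K m t * t) := by ring
      rw [this, CharTwo.add_self_eq_zero]
  have hcomm : ∀ t u : K, ∃ t' u' : K, h * clsEl m a b c d t u * h⁻¹ * (clsEl m a b c d t u)⁻¹ = clsEl m a b c d t' u' ∧
      t' = (dE chevF4 h b + 1) * t ∧ (t = 0 → u' = (f4Theta K m (dE chevF4 h b) * dE chevF4 h b + 1) * u) := by
    intro t u
    refine ⟨dE chevF4 h b * t + t, f4Theta K m (dE chevF4 h b) * dE chevF4 h b * u + (u + f4Theta K m t * t) +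
      f4Theta K m (dE chevF4 h b * t) * t, ?_, ?_, ?_⟩
    · rw [clsEl_conj m a b c d ha hb hc hd hθ h hh ea ec ed, hinv, hmul]
    · ring
    · rintro rfl
      simp only [map_zero, mul_zero, add_zero, zero_mul]
      ring
  have h1 := add_one_ne_zero_char2 _ hne
  have h2 := add_one_ne_zero_char2 _ (theta_mul_ne_one m hθ _ hne)
  -- the centre
  have hZ : ∀ x : K, clsEl m a b c d 0 x ∈ D := by
    intro x
    obtain ⟨t', u', e, e1, e2⟩ := hcomm 0 (x / (f4Theta K m (dE chevF4 h b) * dE chevF4 h b + 1))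
    have := hD 0 (x / (f4Theta K m (dE chevF4 h b) * dE chevF4 h b + 1))
    rw [e, e1, e2 rfl, mul_zero] at this
    have e3 : (f4Theta K m (dE chevF4 h b) * dE chevF4 h b + 1) * (x / (f4Theta K m (dE chevF4 h b) * dE chevF4 h b + 1)) = x := by
      field_simp
    rwa [e3] at this
  obtain ⟨t', u', e, e1, e2⟩ := hcomm (s / (dE chevF4 h b + 1)) 0
  have := hD (s / (dE chevF4 h b + 1)) 0
  rw [e, e1] at this
  have e3 : (dE chevF4 h b + 1) * (s / (dE chevF4 h b + 1)) = s := by field_simp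
  rw [e3] at this
  have := mul_mem this (hZ (u' + w))
  rw [hmul, add_zero, mul_zero, add_zero, ← add_assoc, CharTwo.add_self_eq_zero, zero_add] at this
  exact this

theorem dE_fH1_a (m : ℕ) (z : K) (hz : z ≠ 0) (r rbar : ℕ) (hr : r < 48) (hrb : rbar < 48)
    (h1 : fdF4.pr r 33 = fdF4.pr rbar 24) (h2 : fdF4.pr r 24 = 0) (h3 : fdF4.pr rbar 33 = 0) :
    dE chevF4 (fH1 m z) r = f4Theta K m (dE chevF4 (fH1 m z) rbar) := by
  rw [dE_fH1 m z hz r hr, dE_fH1 m z hz rbar hrb, h1, h2, h3, zpow_zero, zpow_zero, mul_one, one_mul, map_zpow₀]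

theorem dE_fH1_c (m : ℕ) (z : K) (hz : z ≠ 0) (b c : ℕ) (hb : b < 48) (hc : c < 48)
    (h1 : fdF4.pr c 33 = fdF4.pr b 24) (h2 : fdF4.pr c 24 = fdF4.pr b 24) (h3 : fdF4.pr b 33 = 0) :
    dE chevF4 (fH1 m z) c = f4Theta K m (dE chevF4 (fH1 m z) b) * dE chevF4 (fH1 m z) b := by
  rw [dE_fH1 m z hz c hc, dE_fH1 m z hz b hb, h1, h2, h3, zpow_zero, one_mul, map_zpow₀]

theorem dE_fH1_d (m : ℕ) (z : K) (hz : z ≠ 0) (b d : ℕ) (hb : b < 48) (hd : d < 48)
    (h1 : fdF4.pr d 33 = fdF4.pr b 24 * 2) (h2 : fdF4.pr d 24 = fdF4.pr b 24) (h3 : fdF4.pr b 33 = 0) :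
    dE chevF4 (fH1 m z) d = f4Theta K m (dE chevF4 (fH1 m z) b) ^ 2 * dE chevF4 (fH1 m z) b := by
  rw [dE_fH1 m z hz d hd, dE_fH1 m z hz b hb, h1, h2, h3, zpow_zero, one_mul, map_zpow₀, _root_.zpow_mul, zpow_ofNat]

theorem zpow_ne_one_char2 (z : K) (hz0 : z ≠ 0) (hz1 : z ≠ 1) (k : ℤ) (hk : k = 1 ∨ k = -1 ∨ k = 2 ∨ k = -2) :
    z ^ k ≠ 1 := by
  have h2 : z ^ 2 ≠ 1 := by
    intro h
    apply hz1
    apply sq_inj_char2
    rw [h, one_pow]
  rcases hk with rfl | rfl | rfl | rfl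
  · rwa [zpow_one]
  · rw [_root_.zpow_neg_one, Ne, inv_eq_one]; exact hz1
  · have : z ^ (2 : ℤ) = z ^ 2 := zpow_ofNat z 2
    rw [this]; exact h2
  · have : z ^ (2 : ℤ) = z ^ 2 := zpow_ofNat z 2
    rw [_root_.zpow_neg, Ne, inv_eq_one, this]; exact h2

theorem dE_fH1_ne (m : ℕ) (z : K) (hz0 : z ≠ 0) (hz1 : z ≠ 1) (b : ℕ) (hb : b < 48) (h3 : fdF4.pr b 33 = 0)
    (hk : fdF4.pr b 24 = 1 ∨ fdF4.pr b 24 = -1 ∨ fdF4.pr b 24 = 2 ∨ fdF4.pr b 24 = -2) :
    dE chevF4 (fH1 m z) b ≠ 1 := by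
  rw [dE_fH1 m z hz0 b hb, h3, zpow_zero, one_mul]
  exact zpow_ne_one_char2 z hz0 hz1 _ hk

variable [Fintype K]

theorem exists_ne_zero_one (m : ℕ) (hK : Fintype.card K = 2 ^ (2 * m + 1)) (hm : 1 ≤ m) :
    ∃ z : K, z ≠ 0 ∧ z ≠ 1 := by
  classical
  by_contra h
  push Not at h
  have hsub : (Finset.univ : Finset K) ⊆ {0, 1} := by
    intro z _
    by_cases hz : z = 0
    · rw [hz]; exact Finset.mem_insert_self _ _
    · rw [h z hz]; exact Finset.mem_insert_of_mem (Finset.mem_singleton_self _)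
  have h1 := Finset.card_le_card hsub
  rw [Finset.card_univ, hK] at h1
  have h2 : ({0, 1} : Finset K).card ≤ 2 := Finset.card_le_two
  have h3 : 2 ^ 3 ≤ 2 ^ (2 * m + 1) := Nat.pow_le_pow_right (by norm_num) (by omega)
  omega

/-- the large Ree groups are perfect, when `m ≥ 1` -/
theorem tw_perfect_F4 (m : ℕ) (hK : Fintype.card K = 2 ^ (2 * m + 1)) (hm : 1 ≤ m) :
    commutator ↥(twistedF4 K (2 ^ m)) = ⊤ := by
  apply perfect_of_gen (twistedF4 K (2 ^ m))
  intro D hD hnorm
  obtain ⟨z, hz0, hz1⟩ := exists_ne_zero_one (K := K) m hK hm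
  have hh := fH1_mem_diag m z hz0
  have ht := fH1_mem_tw (K := K) m z
  have hθ := f4_theta_theta_sq (K := K) m hK
  apply twistedF4_le
  · intro t
    exact pairEl_mem_of_comm m 33 24 (by decide) (by decide) fX_33_24 (fH1 m z) hh
      (dE_fH1_a m z hz0 33 24 (by decide) (by decide) (by decide) (by decide) (by decide))
      (dE_fH1_ne m z hz0 hz1 24 (by decide) (by decide) (by decide)) D
      (fun t => hD _ ht _ (pU_mem_tw m t)) t
  · intro t
    exact pairEl_mem_of_comm m 14 23 (by decide) (by decide) fX_14_23 (fH1 m z) hh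
      (dE_fH1_a m z hz0 14 23 (by decide) (by decide) (by decide) (by decide) (by decide))
      (dE_fH1_ne m z hz0 hz1 23 (by decide) (by decide) (by decide)) D
      (fun t => hD _ ht _ (pV_mem_tw m t)) t
  · intro t u
    exact clsEl_mem_of_comm m 27 25 28 30 (by decide) (by decide) (by decide) (by decide) hθ fX_b2_27 fX_28_30
      fX_27_28 fX_27_30 fX_25_28 fX_25_30 (fH1 m z) hh
      (dE_fH1_a m z hz0 27 25 (by decide) (by decide) (by decide) (by decide) (by decide))
      (dE_fH1_c m z hz0 25 28 (by decide) (by decide) (by decide) (by decide) (by decide))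
      (dE_fH1_d m z hz0 25 30 (by decide) (by decide) (by decide) (by decide) (by decide))
      (dE_fH1_ne m z hz0 hz1 25 (by decide) (by decide) (by decide)) D
      (fun t u => hD _ ht _ (cU_mem_tw m t u)) t u
  · intro t u
    exact clsEl_mem_of_comm m 20 22 19 17 (by decide) (by decide) (by decide) (by decide) hθ fX_b2_20 fX_19_17
      fX_20_19 fX_20_17 fX_22_19 fX_22_17 (fH1 m z) hh
      (dE_fH1_a m z hz0 20 22 (by decide) (by decide) (by decide) (by decide) (by decide))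
      (dE_fH1_c m z hz0 22 19 (by decide) (by decide) (by decide) (by decide) (by decide))
      (dE_fH1_d m z hz0 22 17 (by decide) (by decide) (by decide) (by decide) (by decide))
      (dE_fH1_ne m z hz0 hz1 22 (by decide) (by decide) (by decide)) D
      (fun t u => hD _ ht _ (cV_mem_tw m t u)) t u

end F4

end Cfsg.Agent.Lib.H29.Chev
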