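import Mathlib
import Cfsg.Prelude.Def_ChevStructure
import Cfsg.Prelude.Def_LieTwisted
import Cfsg.Prelude.Def_LieExceptional
import Cfsg.Agent.Lib.H29.ChevF4x
import Cfsg.Agent.S0319

/-!
# The large Ree groups `²F₄(2^(2m+1))`, `m ≥ 1`, are simple
-/

set_option autoImplicit false
set_option linter.unusedSectionVars false
set_option linter.unusedSimpArgs false
set_option linter.unusedVariables false

namespace Cfsg.Agent.Lib.H29.Chev

open Cfsg.Lie Matrix

theorem w1_w2_ncomm : fdF4.wordP fxF4 [0, 3] (fdF4.wordP fxF4 [1, 2, 1, 2] 24) ≠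
    fdF4.wordP fxF4 [1, 2, 1, 2] (fdF4.wordP fxF4 [0, 3] 24) := by decide +kernel

section F4

variable {K : Type*} [Field K] [CharP K 2] [Fintype K]

/-- the commutator of the two generators of the Weyl group does not lie in the Borel subgroup -/
theorem fN_comm_not_mem : fN1 K * fN2 K * (fN1 K)⁻¹ * (fN2 K)⁻¹ ∉ chevF4.borelSubgroup K := by
  intro hB
  have h1 := fN1_mem_monomial (K := K)
  have h2 := fN2_mem_monomial (K := K)
  have hN : fN1 K * fN2 K * (fN1 K)⁻¹ * (fN2 K)⁻¹ ∈ chevF4.monomialSubgroup K :=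
    mul_mem (mul_mem (mul_mem h1 h2) (inv_mem h1)) (inv_mem h2)
  have hH : fN1 K * fN2 K * (fN1 K)⁻¹ * (fN2 K)⁻¹ ∈ chevF4.diagonalSubgroup K := by
    rw [← cert12_F4.c6.c2.borel_inf_monomial]
    exact Subgroup.mem_inf.mpr ⟨hB, hN⟩
  have hy : (fN2 K * fN1 K)⁻¹ ∈ chevF4.monomialSubgroup K := inv_mem (mul_mem h2 h1)
  have := (Subgroup.mem_normalizer_iff.mp (cert12_F4.c6.c2.monomial_le_normalizer_diag hy) _).mp hH
  have e : (fN2 K * fN1 K)⁻¹ * (fN1 K * fN2 K * (fN1 K)⁻¹ * (fN2 K)⁻¹) * (fN2 K * fN1 K)⁻¹⁻¹ =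
      (fN2 K * fN1 K)⁻¹ * (fN1 K * fN2 K) := by group
  rw [e] at this
  have := cert12_F4.perm_eq_of_diag' (fN2 K * fN1 K) (fN1 K * fN2 K) (mul_mem h2 h1) _ _
    (cert12_F4.c6.perm_mul perm_fN2 perm_fN1) (cert12_F4.c6.perm_mul perm_fN1 perm_fN2) this 24 (by decide)
  exact w1_w2_ncomm this.symm

theorem tw_simple_F4 (m : ℕ) (hK : Fintype.card K = 2 ^ (2 * m + 1)) (hm : 1 ≤ m) :
    IsSimpleGroup ↥(twistedF4 K (2 ^ m)) ∧ ¬ IsMulCommutative ↥(twistedF4 K (2 ^ m)) := by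
  have hperf := tw_perfect_F4 m hK hm
  have hcore := f4_borel_core m hK
  have hirr : (f4BN m hK).Irreducible := by
    intro J hJ hJne hJc
    obtain ⟨s, hs⟩ := hJne
    obtain ⟨s', hs', hs'J⟩ := hJc
    refine ⟨s, hs, s', ⟨hs', hs'J⟩, ?_⟩
    have h1 : (s : GL chevF4.Idx K) = fN1 K ∨ (s : GL chevF4.Idx K) = fN2 K := hJ hs
    have h2 : (s' : GL chevF4.Idx K) = fN1 K ∨ (s' : GL chevF4.Idx K) = fN2 K := hs'
    have hne : (s : GL chevF4.Idx K) ≠ (s' : GL chevF4.Idx K) := by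
      intro h
      apply hs'J
      rw [← Subtype.ext h]; exact hs
    intro hB
    have hB' : (s : GL chevF4.Idx K) * s' * (s : GL chevF4.Idx K)⁻¹ * (s' : GL chevF4.Idx K)⁻¹ ∈ chevF4.borelSubgroup K :=
      (Subgroup.mem_inf.mp (Subgroup.mem_subgroupOf.mp hB)).1
    rcases h1 with h1 | h1 <;> rcases h2 with h2 | h2
    · exact hne (h1.trans h2.symm)
    · rw [h1, h2] at hB'
      exact fN_comm_not_mem hB'
    · rw [h1, h2] at hB'
      apply fN_comm_not_mem (K := K)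
      have := inv_mem hB'
      convert this using 1
      group
    · exact hne (h1.trans h2.symm)
  have : Nontrivial ↥(twistedF4 K (2 ^ m)) := by
    refine ⟨⟨⟨pU m 1, pU_mem_tw m _⟩, 1, ?_⟩⟩
    intro h
    have := congrArg Subtype.val h
    simp only [OneMemClass.coe_one] at this
    exact pU_one_ne m this
  have hsolv : Group.IsSolvable ↥((f4BN m hK).B) := by
    have := cert12_F4.c6.c2.borel_solvable (F := K)
    show Group.IsSolvable ↥((chevF4.borelSubgroup K ⊓ twistedF4 K (2 ^ m)).subgroupOf (twistedF4 K (2 ^ m)))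
    have hle : chevF4.borelSubgroup K ⊓ twistedF4 K (2 ^ m) ≤ twistedF4 K (2 ^ m) := inf_le_right
    have hle2 : chevF4.borelSubgroup K ⊓ twistedF4 K (2 ^ m) ≤ chevF4.borelSubgroup K := inf_le_left
    exact Group.isSolvable_of_isSolvable_injective
      (f := (Subgroup.inclusion hle2).comp (Subgroup.subgroupOfEquivOfLe hle).toMonoidHom)
      ((Subgroup.inclusion_injective hle2).comp (Subgroup.subgroupOfEquivOfLe hle).injective)
  refine ⟨Cfsg.Agent.S0319.result (f4BN m hK) hirr hsolv hperf hcore, ?_⟩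
  intro hc
  have : commutator ↥(twistedF4 K (2 ^ m)) = ⊥ := by
    rw [commutator_def, Subgroup.commutator_eq_bot_iff_le_centralizer]
    intro g _ h _
    exact hc.is_comm.comm h g
  rw [this] at hperf
  exact bot_ne_top hperf

end F4

end Cfsg.Agent.Lib.H29.Chev
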