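import Cfsg.Agent.Lib.H29.S3571ChainDefs

/-! helper29: S3571 SS11 prime chain, chunk 2 (generated): primes from 33493 to 264871. -/

set_option autoImplicit false

namespace Cfsg.Agent.Lib.H29.S3571Chain

theorem chunk2 : Good 33493 264871 := by
  have h0 : Good 33493 34519 := Good.step (by norm_num) (by norm_num)
  have h1 : Good 33493 35573 := h0.trans (Good.step (q := 34519) (q' := 35573) (by norm_num) (by norm_num))
  have h2 : Good 33493 36653 := h1.trans (Good.step (q := 35573) (q' := 36653) (by norm_num) (by norm_num))
  have h3 : Good 33493 37747 := h2.trans (Good.step (q := 36653) (q' := 37747) (by norm_num) (by norm_num))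
  have h4 : Good 33493 38867 := h3.trans (Good.step (q := 37747) (q' := 38867) (by norm_num) (by norm_num))
  have h5 : Good 33493 40013 := h4.trans (Good.step (q := 38867) (q' := 40013) (by norm_num) (by norm_num))
  have h6 : Good 33493 41179 := h5.trans (Good.step (q := 40013) (q' := 41179) (by norm_num) (by norm_num))
  have h7 : Good 33493 42359 := h6.trans (Good.step (q := 41179) (q' := 42359) (by norm_num) (by norm_num))
  have h8 : Good 33493 43573 := h7.trans (Good.step (q := 42359) (q' := 43573) (by norm_num) (by norm_num))
  have h9 : Good 33493 44809 := h8.trans (Good.step (q := 43573) (q' := 44809) (by norm_num) (by norm_num))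
  have h10 : Good 33493 46061 := h9.trans (Good.step (q := 44809) (q' := 46061) (by norm_num) (by norm_num))
  have h11 : Good 33493 47339 := h10.trans (Good.step (q := 46061) (q' := 47339) (by norm_num) (by norm_num))
  have h12 : Good 33493 48647 := h11.trans (Good.step (q := 47339) (q' := 48647) (by norm_num) (by norm_num))
  have h13 : Good 33493 49957 := h12.trans (Good.step (q := 48647) (q' := 49957) (by norm_num) (by norm_num))
  have h14 : Good 33493 51307 := h13.trans (Good.step (q := 49957) (q' := 51307) (by norm_num) (by norm_num))
  have h15 : Good 33493 52673 := h14.trans (Good.step (q := 51307) (q' := 52673) (by norm_num) (by norm_num))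
  have h16 : Good 33493 54059 := h15.trans (Good.step (q := 52673) (q' := 54059) (by norm_num) (by norm_num))
  have h17 : Good 33493 55487 := h16.trans (Good.step (q := 54059) (q' := 55487) (by norm_num) (by norm_num))
  have h18 : Good 33493 56941 := h17.trans (Good.step (q := 55487) (q' := 56941) (by norm_num) (by norm_num))
  have h19 : Good 33493 58417 := h18.trans (Good.step (q := 56941) (q' := 58417) (by norm_num) (by norm_num))
  have h20 : Good 33493 59921 := h19.trans (Good.step (q := 58417) (q' := 59921) (by norm_num) (by norm_num))
  have h21 : Good 33493 61441 := h20.trans (Good.step (q := 59921) (q' := 61441) (by norm_num) (by norm_num))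
  have h22 : Good 33493 62989 := h21.trans (Good.step (q := 61441) (q' := 62989) (by norm_num) (by norm_num))
  have h23 : Good 33493 64567 := h22.trans (Good.step (q := 62989) (q' := 64567) (by norm_num) (by norm_num))
  have h24 : Good 33493 66173 := h23.trans (Good.step (q := 64567) (q' := 66173) (by norm_num) (by norm_num))
  have h25 : Good 33493 67807 := h24.trans (Good.step (q := 66173) (q' := 67807) (by norm_num) (by norm_num))
  have h26 : Good 33493 69467 := h25.trans (Good.step (q := 67807) (q' := 69467) (by norm_num) (by norm_num))
  have h27 : Good 33493 71153 := h26.trans (Good.step (q := 69467) (q' := 71153) (by norm_num) (by norm_num))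
  have h28 : Good 33493 72869 := h27.trans (Good.step (q := 71153) (q' := 72869) (by norm_num) (by norm_num))
  have h29 : Good 33493 74611 := h28.trans (Good.step (q := 72869) (q' := 74611) (by norm_num) (by norm_num))
  have h30 : Good 33493 76379 := h29.trans (Good.step (q := 74611) (q' := 76379) (by norm_num) (by norm_num))
  have h31 : Good 33493 78179 := h30.trans (Good.step (q := 76379) (q' := 78179) (by norm_num) (by norm_num))
  have h32 : Good 33493 79999 := h31.trans (Good.step (q := 78179) (q' := 79999) (by norm_num) (by norm_num))
  have h33 : Good 33493 81853 := h32.trans (Good.step (q := 79999) (q' := 81853) (by norm_num) (by norm_num))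
  have h34 : Good 33493 83737 := h33.trans (Good.step (q := 81853) (q' := 83737) (by norm_num) (by norm_num))
  have h35 : Good 33493 85643 := h34.trans (Good.step (q := 83737) (q' := 85643) (by norm_num) (by norm_num))
  have h36 : Good 33493 87583 := h35.trans (Good.step (q := 85643) (q' := 87583) (by norm_num) (by norm_num))
  have h37 : Good 33493 89533 := h36.trans (Good.step (q := 87583) (q' := 89533) (by norm_num) (by norm_num))
  have h38 : Good 33493 91529 := h37.trans (Good.step (q := 89533) (q' := 91529) (by norm_num) (by norm_num))
  have h39 : Good 33493 93559 := h38.trans (Good.step (q := 91529) (q' := 93559) (by norm_num) (by norm_num))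
  have h40 : Good 33493 95617 := h39.trans (Good.step (q := 93559) (q' := 95617) (by norm_num) (by norm_num))
  have h41 : Good 33493 97687 := h40.trans (Good.step (q := 95617) (q' := 97687) (by norm_num) (by norm_num))
  have h42 : Good 33493 99793 := h41.trans (Good.step (q := 97687) (q' := 99793) (by norm_num) (by norm_num))
  have h43 : Good 33493 101939 := h42.trans (Good.step (q := 99793) (q' := 101939) (by norm_num) (by norm_num))
  have h44 : Good 33493 104119 := h43.trans (Good.step (q := 101939) (q' := 104119) (by norm_num) (by norm_num))
  have h45 : Good 33493 106331 := h44.trans (Good.step (q := 104119) (q' := 106331) (by norm_num) (by norm_num))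
  have h46 : Good 33493 108571 := h45.trans (Good.step (q := 106331) (q' := 108571) (by norm_num) (by norm_num))
  have h47 : Good 33493 110821 := h46.trans (Good.step (q := 108571) (q' := 110821) (by norm_num) (by norm_num))
  have h48 : Good 33493 113123 := h47.trans (Good.step (q := 110821) (q' := 113123) (by norm_num) (by norm_num))
  have h49 : Good 33493 115459 := h48.trans (Good.step (q := 113123) (q' := 115459) (by norm_num) (by norm_num))
  have h50 : Good 33493 117811 := h49.trans (Good.step (q := 115459) (q' := 117811) (by norm_num) (by norm_num))
  have h51 : Good 33493 120209 := h50.trans (Good.step (q := 117811) (q' := 120209) (by norm_num) (by norm_num))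
  have h52 : Good 33493 122611 := h51.trans (Good.step (q := 120209) (q' := 122611) (by norm_num) (by norm_num))
  have h53 : Good 33493 125063 := h52.trans (Good.step (q := 122611) (q' := 125063) (by norm_num) (by norm_num))
  have h54 : Good 33493 127549 := h53.trans (Good.step (q := 125063) (q' := 127549) (by norm_num) (by norm_num))
  have h55 : Good 33493 130079 := h54.trans (Good.step (q := 127549) (q' := 130079) (by norm_num) (by norm_num))
  have h56 : Good 33493 132637 := h55.trans (Good.step (q := 130079) (q' := 132637) (by norm_num) (by norm_num))
  have h57 : Good 33493 135221 := h56.trans (Good.step (q := 132637) (q' := 135221) (by norm_num) (by norm_num))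
  have h58 : Good 33493 137849 := h57.trans (Good.step (q := 135221) (q' := 137849) (by norm_num) (by norm_num))
  have h59 : Good 33493 140477 := h58.trans (Good.step (q := 137849) (q' := 140477) (by norm_num) (by norm_num))
  have h60 : Good 33493 143177 := h59.trans (Good.step (q := 140477) (q' := 143177) (by norm_num) (by norm_num))
  have h61 : Good 33493 145903 := h60.trans (Good.step (q := 143177) (q' := 145903) (by norm_num) (by norm_num))
  have h62 : Good 33493 148669 := h61.trans (Good.step (q := 145903) (q' := 148669) (by norm_num) (by norm_num))
  have h63 : Good 33493 151471 := h62.trans (Good.step (q := 148669) (q' := 151471) (by norm_num) (by norm_num))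
  have h64 : Good 33493 154303 := h63.trans (Good.step (q := 151471) (q' := 154303) (by norm_num) (by norm_num))
  have h65 : Good 33493 157177 := h64.trans (Good.step (q := 154303) (q' := 157177) (by norm_num) (by norm_num))
  have h66 : Good 33493 160087 := h65.trans (Good.step (q := 157177) (q' := 160087) (by norm_num) (by norm_num))
  have h67 : Good 33493 163027 := h66.trans (Good.step (q := 160087) (q' := 163027) (by norm_num) (by norm_num))
  have h68 : Good 33493 165983 := h67.trans (Good.step (q := 163027) (q' := 165983) (by norm_num) (by norm_num))
  have h69 : Good 33493 169003 := h68.trans (Good.step (q := 165983) (q' := 169003) (by norm_num) (by norm_num))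
  have h70 : Good 33493 172049 := h69.trans (Good.step (q := 169003) (q' := 172049) (by norm_num) (by norm_num))
  have h71 : Good 33493 175141 := h70.trans (Good.step (q := 172049) (q' := 175141) (by norm_num) (by norm_num))
  have h72 : Good 33493 178261 := h71.trans (Good.step (q := 175141) (q' := 178261) (by norm_num) (by norm_num))
  have h73 : Good 33493 181421 := h72.trans (Good.step (q := 178261) (q' := 181421) (by norm_num) (by norm_num))
  have h74 : Good 33493 184609 := h73.trans (Good.step (q := 181421) (q' := 184609) (by norm_num) (by norm_num))
  have h75 : Good 33493 187843 := h74.trans (Good.step (q := 184609) (q' := 187843) (by norm_num) (by norm_num))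
  have h76 : Good 33493 191119 := h75.trans (Good.step (q := 187843) (q' := 191119) (by norm_num) (by norm_num))
  have h77 : Good 33493 194431 := h76.trans (Good.step (q := 191119) (q' := 194431) (by norm_num) (by norm_num))
  have h78 : Good 33493 197779 := h77.trans (Good.step (q := 194431) (q' := 197779) (by norm_num) (by norm_num))
  have h79 : Good 33493 201167 := h78.trans (Good.step (q := 197779) (q' := 201167) (by norm_num) (by norm_num))
  have h80 : Good 33493 204599 := h79.trans (Good.step (q := 201167) (q' := 204599) (by norm_num) (by norm_num))
  have h81 : Good 33493 208067 := h80.trans (Good.step (q := 204599) (q' := 208067) (by norm_num) (by norm_num))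
  have h82 : Good 33493 211573 := h81.trans (Good.step (q := 208067) (q' := 211573) (by norm_num) (by norm_num))
  have h83 : Good 33493 215123 := h82.trans (Good.step (q := 211573) (q' := 215123) (by norm_num) (by norm_num))
  have h84 : Good 33493 218711 := h83.trans (Good.step (q := 215123) (q' := 218711) (by norm_num) (by norm_num))
  have h85 : Good 33493 222337 := h84.trans (Good.step (q := 218711) (q' := 222337) (by norm_num) (by norm_num))
  have h86 : Good 33493 226007 := h85.trans (Good.step (q := 222337) (q' := 226007) (by norm_num) (by norm_num))
  have h87 : Good 33493 229717 := h86.trans (Good.step (q := 226007) (q' := 229717) (by norm_num) (by norm_num))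
  have h88 : Good 33493 233437 := h87.trans (Good.step (q := 229717) (q' := 233437) (by norm_num) (by norm_num))
  have h89 : Good 33493 237217 := h88.trans (Good.step (q := 233437) (q' := 237217) (by norm_num) (by norm_num))
  have h90 : Good 33493 241049 := h89.trans (Good.step (q := 237217) (q' := 241049) (by norm_num) (by norm_num))
  have h91 : Good 33493 244901 := h90.trans (Good.step (q := 241049) (q' := 244901) (by norm_num) (by norm_num))
  have h92 : Good 33493 248813 := h91.trans (Good.step (q := 244901) (q' := 248813) (by norm_num) (by norm_num))
  have h93 : Good 33493 252767 := h92.trans (Good.step (q := 248813) (q' := 252767) (by norm_num) (by norm_num))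
  have h94 : Good 33493 256757 := h93.trans (Good.step (q := 252767) (q' := 256757) (by norm_num) (by norm_num))
  have h95 : Good 33493 260791 := h94.trans (Good.step (q := 256757) (q' := 260791) (by norm_num) (by norm_num))
  have h96 : Good 33493 264871 := h95.trans (Good.step (q := 260791) (q' := 264871) (by norm_num) (by norm_num))
  exact h96

end Cfsg.Agent.Lib.H29.S3571Chain
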