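import Cfsg.Agent.Lib.H29.S3571ChainDefs

/-! helper29: S3571 SS11 prime chain, chunk 3 (generated): primes from 264871 to 894667. -/

set_option autoImplicit false

namespace Cfsg.Agent.Lib.H29.S3571Chain

theorem chunk3 : Good 264871 894667 := by
  have h0 : Good 264871 268993 := Good.step (by norm_num) (by norm_num)
  have h1 : Good 264871 273157 := h0.trans (Good.step (q := 268993) (q' := 273157) (by norm_num) (by norm_num))
  have h2 : Good 264871 277363 := h1.trans (Good.step (q := 273157) (q' := 277363) (by norm_num) (by norm_num))
  have h3 : Good 264871 281609 := h2.trans (Good.step (q := 277363) (q' := 281609) (by norm_num) (by norm_num))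
  have h4 : Good 264871 285871 := h3.trans (Good.step (q := 281609) (q' := 285871) (by norm_num) (by norm_num))
  have h5 : Good 264871 290209 := h4.trans (Good.step (q := 285871) (q' := 290209) (by norm_num) (by norm_num))
  have h6 : Good 264871 294563 := h5.trans (Good.step (q := 290209) (q' := 294563) (by norm_num) (by norm_num))
  have h7 : Good 264871 298943 := h6.trans (Good.step (q := 294563) (q' := 298943) (by norm_num) (by norm_num))
  have h8 : Good 264871 303409 := h7.trans (Good.step (q := 298943) (q' := 303409) (by norm_num) (by norm_num))
  have h9 : Good 264871 307919 := h8.trans (Good.step (q := 303409) (q' := 307919) (by norm_num) (by norm_num))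
  have h10 : Good 264871 312469 := h9.trans (Good.step (q := 307919) (q' := 312469) (by norm_num) (by norm_num))
  have h11 : Good 264871 317071 := h10.trans (Good.step (q := 312469) (q' := 317071) (by norm_num) (by norm_num))
  have h12 : Good 264871 321709 := h11.trans (Good.step (q := 317071) (q' := 321709) (by norm_num) (by norm_num))
  have h13 : Good 264871 326369 := h12.trans (Good.step (q := 321709) (q' := 326369) (by norm_num) (by norm_num))
  have h14 : Good 264871 331099 := h13.trans (Good.step (q := 326369) (q' := 331099) (by norm_num) (by norm_num))
  have h15 : Good 264871 335879 := h14.trans (Good.step (q := 331099) (q' := 335879) (by norm_num) (by norm_num))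
  have h16 : Good 264871 340709 := h15.trans (Good.step (q := 335879) (q' := 340709) (by norm_num) (by norm_num))
  have h17 : Good 264871 345581 := h16.trans (Good.step (q := 340709) (q' := 345581) (by norm_num) (by norm_num))
  have h18 : Good 264871 350503 := h17.trans (Good.step (q := 345581) (q' := 350503) (by norm_num) (by norm_num))
  have h19 : Good 264871 355463 := h18.trans (Good.step (q := 350503) (q' := 355463) (by norm_num) (by norm_num))
  have h20 : Good 264871 360461 := h19.trans (Good.step (q := 355463) (q' := 360461) (by norm_num) (by norm_num))
  have h21 : Good 264871 365513 := h20.trans (Good.step (q := 360461) (q' := 365513) (by norm_num) (by norm_num))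
  have h22 : Good 264871 370619 := h21.trans (Good.step (q := 365513) (q' := 370619) (by norm_num) (by norm_num))
  have h23 : Good 264871 375773 := h22.trans (Good.step (q := 370619) (q' := 375773) (by norm_num) (by norm_num))
  have h24 : Good 264871 380977 := h23.trans (Good.step (q := 375773) (q' := 380977) (by norm_num) (by norm_num))
  have h25 : Good 264871 386227 := h24.trans (Good.step (q := 380977) (q' := 386227) (by norm_num) (by norm_num))
  have h26 : Good 264871 391519 := h25.trans (Good.step (q := 386227) (q' := 391519) (by norm_num) (by norm_num))
  have h27 : Good 264871 396833 := h26.trans (Good.step (q := 391519) (q' := 396833) (by norm_num) (by norm_num))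
  have h28 : Good 264871 402223 := h27.trans (Good.step (q := 396833) (q' := 402223) (by norm_num) (by norm_num))
  have h29 : Good 264871 407669 := h28.trans (Good.step (q := 402223) (q' := 407669) (by norm_num) (by norm_num))
  have h30 : Good 264871 413167 := h29.trans (Good.step (q := 407669) (q' := 413167) (by norm_num) (by norm_num))
  have h31 : Good 264871 418709 := h30.trans (Good.step (q := 413167) (q' := 418709) (by norm_num) (by norm_num))
  have h32 : Good 264871 424273 := h31.trans (Good.step (q := 418709) (q' := 424273) (by norm_num) (by norm_num))
  have h33 : Good 264871 429917 := h32.trans (Good.step (q := 424273) (q' := 429917) (by norm_num) (by norm_num))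
  have h34 : Good 264871 435593 := h33.trans (Good.step (q := 429917) (q' := 435593) (by norm_num) (by norm_num))
  have h35 : Good 264871 441319 := h34.trans (Good.step (q := 435593) (q' := 441319) (by norm_num) (by norm_num))
  have h36 : Good 264871 447107 := h35.trans (Good.step (q := 441319) (q' := 447107) (by norm_num) (by norm_num))
  have h37 : Good 264871 452953 := h36.trans (Good.step (q := 447107) (q' := 452953) (by norm_num) (by norm_num))
  have h38 : Good 264871 458849 := h37.trans (Good.step (q := 452953) (q' := 458849) (by norm_num) (by norm_num))
  have h39 : Good 264871 464777 := h38.trans (Good.step (q := 458849) (q' := 464777) (by norm_num) (by norm_num))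
  have h40 : Good 264871 470749 := h39.trans (Good.step (q := 464777) (q' := 470749) (by norm_num) (by norm_num))
  have h41 : Good 264871 476783 := h40.trans (Good.step (q := 470749) (q' := 476783) (by norm_num) (by norm_num))
  have h42 : Good 264871 482873 := h41.trans (Good.step (q := 476783) (q' := 482873) (by norm_num) (by norm_num))
  have h43 : Good 264871 489019 := h42.trans (Good.step (q := 482873) (q' := 489019) (by norm_num) (by norm_num))
  have h44 : Good 264871 495221 := h43.trans (Good.step (q := 489019) (q' := 495221) (by norm_num) (by norm_num))
  have h45 : Good 264871 501463 := h44.trans (Good.step (q := 495221) (q' := 501463) (by norm_num) (by norm_num))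
  have h46 : Good 264871 507757 := h45.trans (Good.step (q := 501463) (q' := 507757) (by norm_num) (by norm_num))
  have h47 : Good 264871 514117 := h46.trans (Good.step (q := 507757) (q' := 514117) (by norm_num) (by norm_num))
  have h48 : Good 264871 520529 := h47.trans (Good.step (q := 514117) (q' := 520529) (by norm_num) (by norm_num))
  have h49 : Good 264871 526997 := h48.trans (Good.step (q := 520529) (q' := 526997) (by norm_num) (by norm_num))
  have h50 : Good 264871 533509 := h49.trans (Good.step (q := 526997) (q' := 533509) (by norm_num) (by norm_num))
  have h51 : Good 264871 540079 := h50.trans (Good.step (q := 533509) (q' := 540079) (by norm_num) (by norm_num))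
  have h52 : Good 264871 546709 := h51.trans (Good.step (q := 540079) (q' := 546709) (by norm_num) (by norm_num))
  have h53 : Good 264871 553369 := h52.trans (Good.step (q := 546709) (q' := 553369) (by norm_num) (by norm_num))
  have h54 : Good 264871 560107 := h53.trans (Good.step (q := 553369) (q' := 560107) (by norm_num) (by norm_num))
  have h55 : Good 264871 566879 := h54.trans (Good.step (q := 560107) (q' := 566879) (by norm_num) (by norm_num))
  have h56 : Good 264871 573719 := h55.trans (Good.step (q := 566879) (q' := 573719) (by norm_num) (by norm_num))
  have h57 : Good 264871 580607 := h56.trans (Good.step (q := 573719) (q' := 580607) (by norm_num) (by norm_num))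
  have h58 : Good 264871 587563 := h57.trans (Good.step (q := 580607) (q' := 587563) (by norm_num) (by norm_num))
  have h59 : Good 264871 594577 := h58.trans (Good.step (q := 587563) (q' := 594577) (by norm_num) (by norm_num))
  have h60 : Good 264871 601631 := h59.trans (Good.step (q := 594577) (q' := 601631) (by norm_num) (by norm_num))
  have h61 : Good 264871 608749 := h60.trans (Good.step (q := 601631) (q' := 608749) (by norm_num) (by norm_num))
  have h62 : Good 264871 615919 := h61.trans (Good.step (q := 608749) (q' := 615919) (by norm_num) (by norm_num))
  have h63 : Good 264871 623107 := h62.trans (Good.step (q := 615919) (q' := 623107) (by norm_num) (by norm_num))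
  have h64 : Good 264871 630391 := h63.trans (Good.step (q := 623107) (q' := 630391) (by norm_num) (by norm_num))
  have h65 : Good 264871 637729 := h64.trans (Good.step (q := 630391) (q' := 637729) (by norm_num) (by norm_num))
  have h66 : Good 264871 645137 := h65.trans (Good.step (q := 637729) (q' := 645137) (by norm_num) (by norm_num))
  have h67 : Good 264871 652601 := h66.trans (Good.step (q := 645137) (q' := 652601) (by norm_num) (by norm_num))
  have h68 : Good 264871 660119 := h67.trans (Good.step (q := 652601) (q' := 660119) (by norm_num) (by norm_num))
  have h69 : Good 264871 667699 := h68.trans (Good.step (q := 660119) (q' := 667699) (by norm_num) (by norm_num))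
  have h70 : Good 264871 675319 := h69.trans (Good.step (q := 667699) (q' := 675319) (by norm_num) (by norm_num))
  have h71 : Good 264871 683003 := h70.trans (Good.step (q := 675319) (q' := 683003) (by norm_num) (by norm_num))
  have h72 : Good 264871 690757 := h71.trans (Good.step (q := 683003) (q' := 690757) (by norm_num) (by norm_num))
  have h73 : Good 264871 698567 := h72.trans (Good.step (q := 690757) (q' := 698567) (by norm_num) (by norm_num))
  have h74 : Good 264871 706427 := h73.trans (Good.step (q := 698567) (q' := 706427) (by norm_num) (by norm_num))
  have h75 : Good 264871 714349 := h74.trans (Good.step (q := 706427) (q' := 714349) (by norm_num) (by norm_num))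
  have h76 : Good 264871 722333 := h75.trans (Good.step (q := 714349) (q' := 722333) (by norm_num) (by norm_num))
  have h77 : Good 264871 730363 := h76.trans (Good.step (q := 722333) (q' := 730363) (by norm_num) (by norm_num))
  have h78 : Good 264871 738469 := h77.trans (Good.step (q := 730363) (q' := 738469) (by norm_num) (by norm_num))
  have h79 : Good 264871 746597 := h78.trans (Good.step (q := 738469) (q' := 746597) (by norm_num) (by norm_num))
  have h80 : Good 264871 754811 := h79.trans (Good.step (q := 746597) (q' := 754811) (by norm_num) (by norm_num))
  have h81 : Good 264871 763093 := h80.trans (Good.step (q := 754811) (q' := 763093) (by norm_num) (by norm_num))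
  have h82 : Good 264871 771439 := h81.trans (Good.step (q := 763093) (q' := 771439) (by norm_num) (by norm_num))
  have h83 : Good 264871 779837 := h82.trans (Good.step (q := 771439) (q' := 779837) (by norm_num) (by norm_num))
  have h84 : Good 264871 788309 := h83.trans (Good.step (q := 779837) (q' := 788309) (by norm_num) (by norm_num))
  have h85 : Good 264871 796819 := h84.trans (Good.step (q := 788309) (q' := 796819) (by norm_num) (by norm_num))
  have h86 : Good 264871 805403 := h85.trans (Good.step (q := 796819) (q' := 805403) (by norm_num) (by norm_num))
  have h87 : Good 264871 814049 := h86.trans (Good.step (q := 805403) (q' := 814049) (by norm_num) (by norm_num))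
  have h88 : Good 264871 822763 := h87.trans (Good.step (q := 814049) (q' := 822763) (by norm_num) (by norm_num))
  have h89 : Good 264871 831541 := h88.trans (Good.step (q := 822763) (q' := 831541) (by norm_num) (by norm_num))
  have h90 : Good 264871 840353 := h89.trans (Good.step (q := 831541) (q' := 840353) (by norm_num) (by norm_num))
  have h91 : Good 264871 849253 := h90.trans (Good.step (q := 840353) (q' := 849253) (by norm_num) (by norm_num))
  have h92 : Good 264871 858217 := h91.trans (Good.step (q := 849253) (q' := 858217) (by norm_num) (by norm_num))
  have h93 : Good 264871 867233 := h92.trans (Good.step (q := 858217) (q' := 867233) (by norm_num) (by norm_num))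
  have h94 : Good 264871 876311 := h93.trans (Good.step (q := 867233) (q' := 876311) (by norm_num) (by norm_num))
  have h95 : Good 264871 885449 := h94.trans (Good.step (q := 876311) (q' := 885449) (by norm_num) (by norm_num))
  have h96 : Good 264871 894667 := h95.trans (Good.step (q := 885449) (q' := 894667) (by norm_num) (by norm_num))
  exact h96

end Cfsg.Agent.Lib.H29.S3571Chain
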