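import Cfsg.Agent.Lib.H29.S3571ChainDefs

/-! helper29: S3571 SS11 prime chain, chunk 4 (generated): primes from 894667 to 2125373. -/

set_option autoImplicit false

namespace Cfsg.Agent.Lib.H29.S3571Chain

theorem chunk4 : Good 894667 2125373 := by
  have h0 : Good 894667 903949 := Good.step (by norm_num) (by norm_num)
  have h1 : Good 894667 913279 := h0.trans (Good.step (q := 903949) (q' := 913279) (by norm_num) (by norm_num))
  have h2 : Good 894667 922681 := h1.trans (Good.step (q := 913279) (q' := 922681) (by norm_num) (by norm_num))
  have h3 : Good 894667 932153 := h2.trans (Good.step (q := 922681) (q' := 932153) (by norm_num) (by norm_num))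
  have h4 : Good 894667 941683 := h3.trans (Good.step (q := 932153) (q' := 941683) (by norm_num) (by norm_num))
  have h5 : Good 894667 951283 := h4.trans (Good.step (q := 941683) (q' := 951283) (by norm_num) (by norm_num))
  have h6 : Good 894667 960941 := h5.trans (Good.step (q := 951283) (q' := 960941) (by norm_num) (by norm_num))
  have h7 : Good 894667 970667 := h6.trans (Good.step (q := 960941) (q' := 970667) (by norm_num) (by norm_num))
  have h8 : Good 894667 980459 := h7.trans (Good.step (q := 970667) (q' := 980459) (by norm_num) (by norm_num))
  have h9 : Good 894667 990323 := h8.trans (Good.step (q := 980459) (q' := 990323) (by norm_num) (by norm_num))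
  have h10 : Good 894667 1000253 := h9.trans (Good.step (q := 990323) (q' := 1000253) (by norm_num) (by norm_num))
  have h11 : Good 894667 1010237 := h10.trans (Good.step (q := 1000253) (q' := 1010237) (by norm_num) (by norm_num))
  have h12 : Good 894667 1020301 := h11.trans (Good.step (q := 1010237) (q' := 1020301) (by norm_num) (by norm_num))
  have h13 : Good 894667 1030429 := h12.trans (Good.step (q := 1020301) (q' := 1030429) (by norm_num) (by norm_num))
  have h14 : Good 894667 1040629 := h13.trans (Good.step (q := 1030429) (q' := 1040629) (by norm_num) (by norm_num))
  have h15 : Good 894667 1050887 := h14.trans (Good.step (q := 1040629) (q' := 1050887) (by norm_num) (by norm_num))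
  have h16 : Good 894667 1061189 := h15.trans (Good.step (q := 1050887) (q' := 1061189) (by norm_num) (by norm_num))
  have h17 : Good 894667 1071589 := h16.trans (Good.step (q := 1061189) (q' := 1071589) (by norm_num) (by norm_num))
  have h18 : Good 894667 1082047 := h17.trans (Good.step (q := 1071589) (q' := 1082047) (by norm_num) (by norm_num))
  have h19 : Good 894667 1092583 := h18.trans (Good.step (q := 1082047) (q' := 1092583) (by norm_num) (by norm_num))
  have h20 : Good 894667 1103191 := h19.trans (Good.step (q := 1092583) (q' := 1103191) (by norm_num) (by norm_num))
  have h21 : Good 894667 1113863 := h20.trans (Good.step (q := 1103191) (q' := 1113863) (by norm_num) (by norm_num))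
  have h22 : Good 894667 1124603 := h21.trans (Good.step (q := 1113863) (q' := 1124603) (by norm_num) (by norm_num))
  have h23 : Good 894667 1135411 := h22.trans (Good.step (q := 1124603) (q' := 1135411) (by norm_num) (by norm_num))
  have h24 : Good 894667 1146281 := h23.trans (Good.step (q := 1135411) (q' := 1146281) (by norm_num) (by norm_num))
  have h25 : Good 894667 1157227 := h24.trans (Good.step (q := 1146281) (q' := 1157227) (by norm_num) (by norm_num))
  have h26 : Good 894667 1168249 := h25.trans (Good.step (q := 1157227) (q' := 1168249) (by norm_num) (by norm_num))
  have h27 : Good 894667 1179337 := h26.trans (Good.step (q := 1168249) (q' := 1179337) (by norm_num) (by norm_num))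
  have h28 : Good 894667 1190491 := h27.trans (Good.step (q := 1179337) (q' := 1190491) (by norm_num) (by norm_num))
  have h29 : Good 894667 1201709 := h28.trans (Good.step (q := 1190491) (q' := 1201709) (by norm_num) (by norm_num))
  have h30 : Good 894667 1213007 := h29.trans (Good.step (q := 1201709) (q' := 1213007) (by norm_num) (by norm_num))
  have h31 : Good 894667 1224347 := h30.trans (Good.step (q := 1213007) (q' := 1224347) (by norm_num) (by norm_num))
  have h32 : Good 894667 1235791 := h31.trans (Good.step (q := 1224347) (q' := 1235791) (by norm_num) (by norm_num))
  have h33 : Good 894667 1247303 := h32.trans (Good.step (q := 1235791) (q' := 1247303) (by norm_num) (by norm_num))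
  have h34 : Good 894667 1258889 := h33.trans (Good.step (q := 1247303) (q' := 1258889) (by norm_num) (by norm_num))
  have h35 : Good 894667 1270547 := h34.trans (Good.step (q := 1258889) (q' := 1270547) (by norm_num) (by norm_num))
  have h36 : Good 894667 1282277 := h35.trans (Good.step (q := 1270547) (q' := 1282277) (by norm_num) (by norm_num))
  have h37 : Good 894667 1294061 := h36.trans (Good.step (q := 1282277) (q' := 1294061) (by norm_num) (by norm_num))
  have h38 : Good 894667 1305919 := h37.trans (Good.step (q := 1294061) (q' := 1305919) (by norm_num) (by norm_num))
  have h39 : Good 894667 1317853 := h38.trans (Good.step (q := 1305919) (q' := 1317853) (by norm_num) (by norm_num))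
  have h40 : Good 894667 1329871 := h39.trans (Good.step (q := 1317853) (q' := 1329871) (by norm_num) (by norm_num))
  have h41 : Good 894667 1341947 := h40.trans (Good.step (q := 1329871) (q' := 1341947) (by norm_num) (by norm_num))
  have h42 : Good 894667 1354081 := h41.trans (Good.step (q := 1341947) (q' := 1354081) (by norm_num) (by norm_num))
  have h43 : Good 894667 1366303 := h42.trans (Good.step (q := 1354081) (q' := 1366303) (by norm_num) (by norm_num))
  have h44 : Good 894667 1378613 := h43.trans (Good.step (q := 1366303) (q' := 1378613) (by norm_num) (by norm_num))
  have h45 : Good 894667 1390993 := h44.trans (Good.step (q := 1378613) (q' := 1390993) (by norm_num) (by norm_num))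
  have h46 : Good 894667 1403453 := h45.trans (Good.step (q := 1390993) (q' := 1403453) (by norm_num) (by norm_num))
  have h47 : Good 894667 1415977 := h46.trans (Good.step (q := 1403453) (q' := 1415977) (by norm_num) (by norm_num))
  have h48 : Good 894667 1428571 := h47.trans (Good.step (q := 1415977) (q' := 1428571) (by norm_num) (by norm_num))
  have h49 : Good 894667 1441241 := h48.trans (Good.step (q := 1428571) (q' := 1441241) (by norm_num) (by norm_num))
  have h50 : Good 894667 1453997 := h49.trans (Good.step (q := 1441241) (q' := 1453997) (by norm_num) (by norm_num))
  have h51 : Good 894667 1466821 := h50.trans (Good.step (q := 1453997) (q' := 1466821) (by norm_num) (by norm_num))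
  have h52 : Good 894667 1479727 := h51.trans (Good.step (q := 1466821) (q' := 1479727) (by norm_num) (by norm_num))
  have h53 : Good 894667 1492709 := h52.trans (Good.step (q := 1479727) (q' := 1492709) (by norm_num) (by norm_num))
  have h54 : Good 894667 1505761 := h53.trans (Good.step (q := 1492709) (q' := 1505761) (by norm_num) (by norm_num))
  have h55 : Good 894667 1518893 := h54.trans (Good.step (q := 1505761) (q' := 1518893) (by norm_num) (by norm_num))
  have h56 : Good 894667 1532093 := h55.trans (Good.step (q := 1518893) (q' := 1532093) (by norm_num) (by norm_num))
  have h57 : Good 894667 1545371 := h56.trans (Good.step (q := 1532093) (q' := 1545371) (by norm_num) (by norm_num))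
  have h58 : Good 894667 1558729 := h57.trans (Good.step (q := 1545371) (q' := 1558729) (by norm_num) (by norm_num))
  have h59 : Good 894667 1572163 := h58.trans (Good.step (q := 1558729) (q' := 1572163) (by norm_num) (by norm_num))
  have h60 : Good 894667 1585679 := h59.trans (Good.step (q := 1572163) (q' := 1585679) (by norm_num) (by norm_num))
  have h61 : Good 894667 1599271 := h60.trans (Good.step (q := 1585679) (q' := 1599271) (by norm_num) (by norm_num))
  have h62 : Good 894667 1612937 := h61.trans (Good.step (q := 1599271) (q' := 1612937) (by norm_num) (by norm_num))
  have h63 : Good 894667 1626673 := h62.trans (Good.step (q := 1612937) (q' := 1626673) (by norm_num) (by norm_num))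
  have h64 : Good 894667 1640503 := h63.trans (Good.step (q := 1626673) (q' := 1640503) (by norm_num) (by norm_num))
  have h65 : Good 894667 1654403 := h64.trans (Good.step (q := 1640503) (q' := 1654403) (by norm_num) (by norm_num))
  have h66 : Good 894667 1668379 := h65.trans (Good.step (q := 1654403) (q' := 1668379) (by norm_num) (by norm_num))
  have h67 : Good 894667 1682423 := h66.trans (Good.step (q := 1668379) (q' := 1682423) (by norm_num) (by norm_num))
  have h68 : Good 894667 1696547 := h67.trans (Good.step (q := 1682423) (q' := 1696547) (by norm_num) (by norm_num))
  have h69 : Good 894667 1710767 := h68.trans (Good.step (q := 1696547) (q' := 1710767) (by norm_num) (by norm_num))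
  have h70 : Good 894667 1725071 := h69.trans (Good.step (q := 1710767) (q' := 1725071) (by norm_num) (by norm_num))
  have h71 : Good 894667 1739453 := h70.trans (Good.step (q := 1725071) (q' := 1739453) (by norm_num) (by norm_num))
  have h72 : Good 894667 1753903 := h71.trans (Good.step (q := 1739453) (q' := 1753903) (by norm_num) (by norm_num))
  have h73 : Good 894667 1768441 := h72.trans (Good.step (q := 1753903) (q' := 1768441) (by norm_num) (by norm_num))
  have h74 : Good 894667 1783051 := h73.trans (Good.step (q := 1768441) (q' := 1783051) (by norm_num) (by norm_num))
  have h75 : Good 894667 1797751 := h74.trans (Good.step (q := 1783051) (q' := 1797751) (by norm_num) (by norm_num))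
  have h76 : Good 894667 1812527 := h75.trans (Good.step (q := 1797751) (q' := 1812527) (by norm_num) (by norm_num))
  have h77 : Good 894667 1827389 := h76.trans (Good.step (q := 1812527) (q' := 1827389) (by norm_num) (by norm_num))
  have h78 : Good 894667 1842329 := h77.trans (Good.step (q := 1827389) (q' := 1842329) (by norm_num) (by norm_num))
  have h79 : Good 894667 1857353 := h78.trans (Good.step (q := 1842329) (q' := 1857353) (by norm_num) (by norm_num))
  have h80 : Good 894667 1872461 := h79.trans (Good.step (q := 1857353) (q' := 1872461) (by norm_num) (by norm_num))
  have h81 : Good 894667 1887643 := h80.trans (Good.step (q := 1872461) (q' := 1887643) (by norm_num) (by norm_num))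
  have h82 : Good 894667 1902899 := h81.trans (Good.step (q := 1887643) (q' := 1902899) (by norm_num) (by norm_num))
  have h83 : Good 894667 1918247 := h82.trans (Good.step (q := 1902899) (q' := 1918247) (by norm_num) (by norm_num))
  have h84 : Good 894667 1933681 := h83.trans (Good.step (q := 1918247) (q' := 1933681) (by norm_num) (by norm_num))
  have h85 : Good 894667 1949201 := h84.trans (Good.step (q := 1933681) (q' := 1949201) (by norm_num) (by norm_num))
  have h86 : Good 894667 1964801 := h85.trans (Good.step (q := 1949201) (q' := 1964801) (by norm_num) (by norm_num))
  have h87 : Good 894667 1980469 := h86.trans (Good.step (q := 1964801) (q' := 1980469) (by norm_num) (by norm_num))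
  have h88 : Good 894667 1996237 := h87.trans (Good.step (q := 1980469) (q' := 1996237) (by norm_num) (by norm_num))
  have h89 : Good 894667 2012083 := h88.trans (Good.step (q := 1996237) (q' := 2012083) (by norm_num) (by norm_num))
  have h90 : Good 894667 2028017 := h89.trans (Good.step (q := 2012083) (q' := 2028017) (by norm_num) (by norm_num))
  have h91 : Good 894667 2044037 := h90.trans (Good.step (q := 2028017) (q' := 2044037) (by norm_num) (by norm_num))
  have h92 : Good 894667 2060141 := h91.trans (Good.step (q := 2044037) (q' := 2060141) (by norm_num) (by norm_num))
  have h93 : Good 894667 2076331 := h92.trans (Good.step (q := 2060141) (q' := 2076331) (by norm_num) (by norm_num))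
  have h94 : Good 894667 2092591 := h93.trans (Good.step (q := 2076331) (q' := 2092591) (by norm_num) (by norm_num))
  have h95 : Good 894667 2108941 := h94.trans (Good.step (q := 2092591) (q' := 2108941) (by norm_num) (by norm_num))
  have h96 : Good 894667 2125373 := h95.trans (Good.step (q := 2108941) (q' := 2125373) (by norm_num) (by norm_num))
  exact h96

end Cfsg.Agent.Lib.H29.S3571Chain
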