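import Cfsg.Agent.Lib.H29.S3571ChainDefs

/-! helper29: S3571 SS11 prime chain, chunk 5 (generated): primes from 2125373 to 4158697. -/

set_option autoImplicit false

namespace Cfsg.Agent.Lib.H29.S3571Chain

theorem chunk5 : Good 2125373 4158697 := by
  have h0 : Good 2125373 2141903 := Good.step (by norm_num) (by norm_num)
  have h1 : Good 2125373 2158501 := h0.trans (Good.step (q := 2141903) (q' := 2158501) (by norm_num) (by norm_num))
  have h2 : Good 2125373 2175197 := h1.trans (Good.step (q := 2158501) (q' := 2175197) (by norm_num) (by norm_num))
  have h3 : Good 2125373 2191967 := h2.trans (Good.step (q := 2175197) (q' := 2191967) (by norm_num) (by norm_num))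
  have h4 : Good 2125373 2208839 := h3.trans (Good.step (q := 2191967) (q' := 2208839) (by norm_num) (by norm_num))
  have h5 : Good 2125373 2225791 := h4.trans (Good.step (q := 2208839) (q' := 2225791) (by norm_num) (by norm_num))
  have h6 : Good 2125373 2242813 := h5.trans (Good.step (q := 2225791) (q' := 2242813) (by norm_num) (by norm_num))
  have h7 : Good 2125373 2259937 := h6.trans (Good.step (q := 2242813) (q' := 2259937) (by norm_num) (by norm_num))
  have h8 : Good 2125373 2277139 := h7.trans (Good.step (q := 2259937) (q' := 2277139) (by norm_num) (by norm_num))
  have h9 : Good 2125373 2294431 := h8.trans (Good.step (q := 2277139) (q' := 2294431) (by norm_num) (by norm_num))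
  have h10 : Good 2125373 2311823 := h9.trans (Good.step (q := 2294431) (q' := 2311823) (by norm_num) (by norm_num))
  have h11 : Good 2125373 2329303 := h10.trans (Good.step (q := 2311823) (q' := 2329303) (by norm_num) (by norm_num))
  have h12 : Good 2125373 2346863 := h11.trans (Good.step (q := 2329303) (q' := 2346863) (by norm_num) (by norm_num))
  have h13 : Good 2125373 2364521 := h12.trans (Good.step (q := 2346863) (q' := 2364521) (by norm_num) (by norm_num))
  have h14 : Good 2125373 2382269 := h13.trans (Good.step (q := 2364521) (q' := 2382269) (by norm_num) (by norm_num))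
  have h15 : Good 2125373 2400089 := h14.trans (Good.step (q := 2382269) (q' := 2400089) (by norm_num) (by norm_num))
  have h16 : Good 2125373 2418007 := h15.trans (Good.step (q := 2400089) (q' := 2418007) (by norm_num) (by norm_num))
  have h17 : Good 2125373 2436017 := h16.trans (Good.step (q := 2418007) (q' := 2436017) (by norm_num) (by norm_num))
  have h18 : Good 2125373 2454121 := h17.trans (Good.step (q := 2436017) (q' := 2454121) (by norm_num) (by norm_num))
  have h19 : Good 2125373 2472313 := h18.trans (Good.step (q := 2454121) (q' := 2472313) (by norm_num) (by norm_num))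
  have h20 : Good 2125373 2490589 := h19.trans (Good.step (q := 2472313) (q' := 2490589) (by norm_num) (by norm_num))
  have h21 : Good 2125373 2508953 := h20.trans (Good.step (q := 2490589) (q' := 2508953) (by norm_num) (by norm_num))
  have h22 : Good 2125373 2527409 := h21.trans (Good.step (q := 2508953) (q' := 2527409) (by norm_num) (by norm_num))
  have h23 : Good 2125373 2545927 := h22.trans (Good.step (q := 2527409) (q' := 2545927) (by norm_num) (by norm_num))
  have h24 : Good 2125373 2564567 := h23.trans (Good.step (q := 2545927) (q' := 2564567) (by norm_num) (by norm_num))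
  have h25 : Good 2125373 2583299 := h24.trans (Good.step (q := 2564567) (q' := 2583299) (by norm_num) (by norm_num))
  have h26 : Good 2125373 2602121 := h25.trans (Good.step (q := 2583299) (q' := 2602121) (by norm_num) (by norm_num))
  have h27 : Good 2125373 2621033 := h26.trans (Good.step (q := 2602121) (q' := 2621033) (by norm_num) (by norm_num))
  have h28 : Good 2125373 2640041 := h27.trans (Good.step (q := 2621033) (q' := 2640041) (by norm_num) (by norm_num))
  have h29 : Good 2125373 2659133 := h28.trans (Good.step (q := 2640041) (q' := 2659133) (by norm_num) (by norm_num))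
  have h30 : Good 2125373 2678323 := h29.trans (Good.step (q := 2659133) (q' := 2678323) (by norm_num) (by norm_num))
  have h31 : Good 2125373 2697599 := h30.trans (Good.step (q := 2678323) (q' := 2697599) (by norm_num) (by norm_num))
  have h32 : Good 2125373 2716969 := h31.trans (Good.step (q := 2697599) (q' := 2716969) (by norm_num) (by norm_num))
  have h33 : Good 2125373 2736431 := h32.trans (Good.step (q := 2716969) (q' := 2736431) (by norm_num) (by norm_num))
  have h34 : Good 2125373 2755981 := h33.trans (Good.step (q := 2736431) (q' := 2755981) (by norm_num) (by norm_num))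
  have h35 : Good 2125373 2775637 := h34.trans (Good.step (q := 2755981) (q' := 2775637) (by norm_num) (by norm_num))
  have h36 : Good 2125373 2795383 := h35.trans (Good.step (q := 2775637) (q' := 2795383) (by norm_num) (by norm_num))
  have h37 : Good 2125373 2815207 := h36.trans (Good.step (q := 2795383) (q' := 2815207) (by norm_num) (by norm_num))
  have h38 : Good 2125373 2835139 := h37.trans (Good.step (q := 2815207) (q' := 2835139) (by norm_num) (by norm_num))
  have h39 : Good 2125373 2855161 := h38.trans (Good.step (q := 2835139) (q' := 2855161) (by norm_num) (by norm_num))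
  have h40 : Good 2125373 2875267 := h39.trans (Good.step (q := 2855161) (q' := 2875267) (by norm_num) (by norm_num))
  have h41 : Good 2125373 2895479 := h40.trans (Good.step (q := 2875267) (q' := 2895479) (by norm_num) (by norm_num))
  have h42 : Good 2125373 2915791 := h41.trans (Good.step (q := 2895479) (q' := 2915791) (by norm_num) (by norm_num))
  have h43 : Good 2125373 2936191 := h42.trans (Good.step (q := 2915791) (q' := 2936191) (by norm_num) (by norm_num))
  have h44 : Good 2125373 2956693 := h43.trans (Good.step (q := 2936191) (q' := 2956693) (by norm_num) (by norm_num))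
  have h45 : Good 2125373 2977283 := h44.trans (Good.step (q := 2956693) (q' := 2977283) (by norm_num) (by norm_num))
  have h46 : Good 2125373 2997977 := h45.trans (Good.step (q := 2977283) (q' := 2997977) (by norm_num) (by norm_num))
  have h47 : Good 2125373 3018733 := h46.trans (Good.step (q := 2997977) (q' := 3018733) (by norm_num) (by norm_num))
  have h48 : Good 2125373 3039571 := h47.trans (Good.step (q := 3018733) (q' := 3039571) (by norm_num) (by norm_num))
  have h49 : Good 2125373 3060517 := h48.trans (Good.step (q := 3039571) (q' := 3060517) (by norm_num) (by norm_num))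
  have h50 : Good 2125373 3081583 := h49.trans (Good.step (q := 3060517) (q' := 3081583) (by norm_num) (by norm_num))
  have h51 : Good 2125373 3102733 := h50.trans (Good.step (q := 3081583) (q' := 3102733) (by norm_num) (by norm_num))
  have h52 : Good 2125373 3124001 := h51.trans (Good.step (q := 3102733) (q' := 3124001) (by norm_num) (by norm_num))
  have h53 : Good 2125373 3145367 := h52.trans (Good.step (q := 3124001) (q' := 3145367) (by norm_num) (by norm_num))
  have h54 : Good 2125373 3166831 := h53.trans (Good.step (q := 3145367) (q' := 3166831) (by norm_num) (by norm_num))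
  have h55 : Good 2125373 3188387 := h54.trans (Good.step (q := 3166831) (q' := 3188387) (by norm_num) (by norm_num))
  have h56 : Good 2125373 3210049 := h55.trans (Good.step (q := 3188387) (q' := 3210049) (by norm_num) (by norm_num))
  have h57 : Good 2125373 3231803 := h56.trans (Good.step (q := 3210049) (q' := 3231803) (by norm_num) (by norm_num))
  have h58 : Good 2125373 3253631 := h57.trans (Good.step (q := 3231803) (q' := 3253631) (by norm_num) (by norm_num))
  have h59 : Good 2125373 3275567 := h58.trans (Good.step (q := 3253631) (q' := 3275567) (by norm_num) (by norm_num))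
  have h60 : Good 2125373 3297617 := h59.trans (Good.step (q := 3275567) (q' := 3297617) (by norm_num) (by norm_num))
  have h61 : Good 2125373 3319763 := h60.trans (Good.step (q := 3297617) (q' := 3319763) (by norm_num) (by norm_num))
  have h62 : Good 2125373 3341993 := h61.trans (Good.step (q := 3319763) (q' := 3341993) (by norm_num) (by norm_num))
  have h63 : Good 2125373 3364343 := h62.trans (Good.step (q := 3341993) (q' := 3364343) (by norm_num) (by norm_num))
  have h64 : Good 2125373 3386767 := h63.trans (Good.step (q := 3364343) (q' := 3386767) (by norm_num) (by norm_num))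
  have h65 : Good 2125373 3409309 := h64.trans (Good.step (q := 3386767) (q' := 3409309) (by norm_num) (by norm_num))
  have h66 : Good 2125373 3431933 := h65.trans (Good.step (q := 3409309) (q' := 3431933) (by norm_num) (by norm_num))
  have h67 : Good 2125373 3454681 := h66.trans (Good.step (q := 3431933) (q' := 3454681) (by norm_num) (by norm_num))
  have h68 : Good 2125373 3477527 := h67.trans (Good.step (q := 3454681) (q' := 3477527) (by norm_num) (by norm_num))
  have h69 : Good 2125373 3500477 := h68.trans (Good.step (q := 3477527) (q' := 3500477) (by norm_num) (by norm_num))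
  have h70 : Good 2125373 3523519 := h69.trans (Good.step (q := 3500477) (q' := 3523519) (by norm_num) (by norm_num))
  have h71 : Good 2125373 3546661 := h70.trans (Good.step (q := 3523519) (q' := 3546661) (by norm_num) (by norm_num))
  have h72 : Good 2125373 3569897 := h71.trans (Good.step (q := 3546661) (q' := 3569897) (by norm_num) (by norm_num))
  have h73 : Good 2125373 3593203 := h72.trans (Good.step (q := 3569897) (q' := 3593203) (by norm_num) (by norm_num))
  have h74 : Good 2125373 3616661 := h73.trans (Good.step (q := 3593203) (q' := 3616661) (by norm_num) (by norm_num))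
  have h75 : Good 2125373 3640207 := h74.trans (Good.step (q := 3616661) (q' := 3640207) (by norm_num) (by norm_num))
  have h76 : Good 2125373 3663833 := h75.trans (Good.step (q := 3640207) (q' := 3663833) (by norm_num) (by norm_num))
  have h77 : Good 2125373 3687583 := h76.trans (Good.step (q := 3663833) (q' := 3687583) (by norm_num) (by norm_num))
  have h78 : Good 2125373 3711451 := h77.trans (Good.step (q := 3687583) (q' := 3711451) (by norm_num) (by norm_num))
  have h79 : Good 2125373 3735401 := h78.trans (Good.step (q := 3711451) (q' := 3735401) (by norm_num) (by norm_num))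
  have h80 : Good 2125373 3759461 := h79.trans (Good.step (q := 3735401) (q' := 3759461) (by norm_num) (by norm_num))
  have h81 : Good 2125373 3783631 := h80.trans (Good.step (q := 3759461) (q' := 3783631) (by norm_num) (by norm_num))
  have h82 : Good 2125373 3807911 := h81.trans (Good.step (q := 3783631) (q' := 3807911) (by norm_num) (by norm_num))
  have h83 : Good 2125373 3832291 := h82.trans (Good.step (q := 3807911) (q' := 3832291) (by norm_num) (by norm_num))
  have h84 : Good 2125373 3856777 := h83.trans (Good.step (q := 3832291) (q' := 3856777) (by norm_num) (by norm_num))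
  have h85 : Good 2125373 3881363 := h84.trans (Good.step (q := 3856777) (q' := 3881363) (by norm_num) (by norm_num))
  have h86 : Good 2125373 3906059 := h85.trans (Good.step (q := 3881363) (q' := 3906059) (by norm_num) (by norm_num))
  have h87 : Good 2125373 3930841 := h86.trans (Good.step (q := 3906059) (q' := 3930841) (by norm_num) (by norm_num))
  have h88 : Good 2125373 3955733 := h87.trans (Good.step (q := 3930841) (q' := 3955733) (by norm_num) (by norm_num))
  have h89 : Good 2125373 3980729 := h88.trans (Good.step (q := 3955733) (q' := 3980729) (by norm_num) (by norm_num))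
  have h90 : Good 2125373 4005839 := h89.trans (Good.step (q := 3980729) (q' := 4005839) (by norm_num) (by norm_num))
  have h91 : Good 2125373 4031047 := h90.trans (Good.step (q := 4005839) (q' := 4031047) (by norm_num) (by norm_num))
  have h92 : Good 2125373 4056359 := h91.trans (Good.step (q := 4031047) (q' := 4056359) (by norm_num) (by norm_num))
  have h93 : Good 2125373 4081793 := h92.trans (Good.step (q := 4056359) (q' := 4081793) (by norm_num) (by norm_num))
  have h94 : Good 2125373 4107329 := h93.trans (Good.step (q := 4081793) (q' := 4107329) (by norm_num) (by norm_num))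
  have h95 : Good 2125373 4132969 := h94.trans (Good.step (q := 4107329) (q' := 4132969) (by norm_num) (by norm_num))
  have h96 : Good 2125373 4158697 := h95.trans (Good.step (q := 4132969) (q' := 4158697) (by norm_num) (by norm_num))
  exact h96

end Cfsg.Agent.Lib.H29.S3571Chain
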