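import Cfsg.Agent.Lib.H29.S3571ChainDefs

/-! helper29: S3571 SS11 prime chain, chunk 6 (generated): primes from 4158697 to 7197227. -/

set_option autoImplicit false

namespace Cfsg.Agent.Lib.H29.S3571Chain

theorem chunk6 : Good 4158697 7197227 := by
  have h0 : Good 4158697 4184549 := Good.step (by norm_num) (by norm_num)
  have h1 : Good 4158697 4210499 := h0.trans (Good.step (q := 4184549) (q' := 4210499) (by norm_num) (by norm_num))
  have h2 : Good 4158697 4236541 := h1.trans (Good.step (q := 4210499) (q' := 4236541) (by norm_num) (by norm_num))
  have h3 : Good 4158697 4262701 := h2.trans (Good.step (q := 4236541) (q' := 4262701) (by norm_num) (by norm_num))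
  have h4 : Good 4158697 4288979 := h3.trans (Good.step (q := 4262701) (q' := 4288979) (by norm_num) (by norm_num))
  have h5 : Good 4158697 4315369 := h4.trans (Good.step (q := 4288979) (q' := 4315369) (by norm_num) (by norm_num))
  have h6 : Good 4158697 4341853 := h5.trans (Good.step (q := 4315369) (q' := 4341853) (by norm_num) (by norm_num))
  have h7 : Good 4158697 4368451 := h6.trans (Good.step (q := 4341853) (q' := 4368451) (by norm_num) (by norm_num))
  have h8 : Good 4158697 4395173 := h7.trans (Good.step (q := 4368451) (q' := 4395173) (by norm_num) (by norm_num))
  have h9 : Good 4158697 4421999 := h8.trans (Good.step (q := 4395173) (q' := 4421999) (by norm_num) (by norm_num))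
  have h10 : Good 4158697 4448933 := h9.trans (Good.step (q := 4421999) (q' := 4448933) (by norm_num) (by norm_num))
  have h11 : Good 4158697 4475983 := h10.trans (Good.step (q := 4448933) (q' := 4475983) (by norm_num) (by norm_num))
  have h12 : Good 4158697 4503139 := h11.trans (Good.step (q := 4475983) (q' := 4503139) (by norm_num) (by norm_num))
  have h13 : Good 4158697 4530401 := h12.trans (Good.step (q := 4503139) (q' := 4530401) (by norm_num) (by norm_num))
  have h14 : Good 4158697 4557767 := h13.trans (Good.step (q := 4530401) (q' := 4557767) (by norm_num) (by norm_num))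
  have h15 : Good 4158697 4585249 := h14.trans (Good.step (q := 4557767) (q' := 4585249) (by norm_num) (by norm_num))
  have h16 : Good 4158697 4612847 := h15.trans (Good.step (q := 4585249) (q' := 4612847) (by norm_num) (by norm_num))
  have h17 : Good 4158697 4640557 := h16.trans (Good.step (q := 4612847) (q' := 4640557) (by norm_num) (by norm_num))
  have h18 : Good 4158697 4668373 := h17.trans (Good.step (q := 4640557) (q' := 4668373) (by norm_num) (by norm_num))
  have h19 : Good 4158697 4696303 := h18.trans (Good.step (q := 4668373) (q' := 4696303) (by norm_num) (by norm_num))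
  have h20 : Good 4158697 4724339 := h19.trans (Good.step (q := 4696303) (q' := 4724339) (by norm_num) (by norm_num))
  have h21 : Good 4158697 4752481 := h20.trans (Good.step (q := 4724339) (q' := 4752481) (by norm_num) (by norm_num))
  have h22 : Good 4158697 4780739 := h21.trans (Good.step (q := 4752481) (q' := 4780739) (by norm_num) (by norm_num))
  have h23 : Good 4158697 4809107 := h22.trans (Good.step (q := 4780739) (q' := 4809107) (by norm_num) (by norm_num))
  have h24 : Good 4158697 4837589 := h23.trans (Good.step (q := 4809107) (q' := 4837589) (by norm_num) (by norm_num))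
  have h25 : Good 4158697 4866187 := h24.trans (Good.step (q := 4837589) (q' := 4866187) (by norm_num) (by norm_num))
  have h26 : Good 4158697 4894889 := h25.trans (Good.step (q := 4866187) (q' := 4894889) (by norm_num) (by norm_num))
  have h27 : Good 4158697 4923703 := h26.trans (Good.step (q := 4894889) (q' := 4923703) (by norm_num) (by norm_num))
  have h28 : Good 4158697 4952639 := h27.trans (Good.step (q := 4923703) (q' := 4952639) (by norm_num) (by norm_num))
  have h29 : Good 4158697 4981673 := h28.trans (Good.step (q := 4952639) (q' := 4981673) (by norm_num) (by norm_num))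
  have h30 : Good 4158697 5010827 := h29.trans (Good.step (q := 4981673) (q' := 5010827) (by norm_num) (by norm_num))
  have h31 : Good 4158697 5040071 := h30.trans (Good.step (q := 5010827) (q' := 5040071) (by norm_num) (by norm_num))
  have h32 : Good 4158697 5069437 := h31.trans (Good.step (q := 5040071) (q' := 5069437) (by norm_num) (by norm_num))
  have h33 : Good 4158697 5098943 := h32.trans (Good.step (q := 5069437) (q' := 5098943) (by norm_num) (by norm_num))
  have h34 : Good 4158697 5128553 := h33.trans (Good.step (q := 5098943) (q' := 5128553) (by norm_num) (by norm_num))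
  have h35 : Good 4158697 5158289 := h34.trans (Good.step (q := 5128553) (q' := 5158289) (by norm_num) (by norm_num))
  have h36 : Good 4158697 5188123 := h35.trans (Good.step (q := 5158289) (q' := 5188123) (by norm_num) (by norm_num))
  have h37 : Good 4158697 5218091 := h36.trans (Good.step (q := 5188123) (q' := 5218091) (by norm_num) (by norm_num))
  have h38 : Good 4158697 5248169 := h37.trans (Good.step (q := 5218091) (q' := 5248169) (by norm_num) (by norm_num))
  have h39 : Good 4158697 5278349 := h38.trans (Good.step (q := 5248169) (q' := 5278349) (by norm_num) (by norm_num))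
  have h40 : Good 4158697 5308663 := h39.trans (Good.step (q := 5278349) (q' := 5308663) (by norm_num) (by norm_num))
  have h41 : Good 4158697 5339093 := h40.trans (Good.step (q := 5308663) (q' := 5339093) (by norm_num) (by norm_num))
  have h42 : Good 4158697 5369627 := h41.trans (Good.step (q := 5339093) (q' := 5369627) (by norm_num) (by norm_num))
  have h43 : Good 4158697 5400287 := h42.trans (Good.step (q := 5369627) (q' := 5400287) (by norm_num) (by norm_num))
  have h44 : Good 4158697 5431067 := h43.trans (Good.step (q := 5400287) (q' := 5431067) (by norm_num) (by norm_num))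
  have h45 : Good 4158697 5461957 := h44.trans (Good.step (q := 5431067) (q' := 5461957) (by norm_num) (by norm_num))
  have h46 : Good 4158697 5492953 := h45.trans (Good.step (q := 5461957) (q' := 5492953) (by norm_num) (by norm_num))
  have h47 : Good 4158697 5524073 := h46.trans (Good.step (q := 5492953) (q' := 5524073) (by norm_num) (by norm_num))
  have h48 : Good 4158697 5555321 := h47.trans (Good.step (q := 5524073) (q' := 5555321) (by norm_num) (by norm_num))
  have h49 : Good 4158697 5586671 := h48.trans (Good.step (q := 5555321) (q' := 5586671) (by norm_num) (by norm_num))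
  have h50 : Good 4158697 5618149 := h49.trans (Good.step (q := 5586671) (q' := 5618149) (by norm_num) (by norm_num))
  have h51 : Good 4158697 5649739 := h50.trans (Good.step (q := 5618149) (q' := 5649739) (by norm_num) (by norm_num))
  have h52 : Good 4158697 5681453 := h51.trans (Good.step (q := 5649739) (q' := 5681453) (by norm_num) (by norm_num))
  have h53 : Good 4158697 5713289 := h52.trans (Good.step (q := 5681453) (q' := 5713289) (by norm_num) (by norm_num))
  have h54 : Good 4158697 5745221 := h53.trans (Good.step (q := 5713289) (q' := 5745221) (by norm_num) (by norm_num))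
  have h55 : Good 4158697 5777279 := h54.trans (Good.step (q := 5745221) (q' := 5777279) (by norm_num) (by norm_num))
  have h56 : Good 4158697 5809469 := h55.trans (Good.step (q := 5777279) (q' := 5809469) (by norm_num) (by norm_num))
  have h57 : Good 4158697 5841779 := h56.trans (Good.step (q := 5809469) (q' := 5841779) (by norm_num) (by norm_num))
  have h58 : Good 4158697 5874199 := h57.trans (Good.step (q := 5841779) (q' := 5874199) (by norm_num) (by norm_num))
  have h59 : Good 4158697 5906753 := h58.trans (Good.step (q := 5874199) (q' := 5906753) (by norm_num) (by norm_num))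
  have h60 : Good 4158697 5939429 := h59.trans (Good.step (q := 5906753) (q' := 5939429) (by norm_num) (by norm_num))
  have h61 : Good 4158697 5972209 := h60.trans (Good.step (q := 5939429) (q' := 5972209) (by norm_num) (by norm_num))
  have h62 : Good 4158697 6005113 := h61.trans (Good.step (q := 5972209) (q' := 6005113) (by norm_num) (by norm_num))
  have h63 : Good 4158697 6038129 := h62.trans (Good.step (q := 6005113) (q' := 6038129) (by norm_num) (by norm_num))
  have h64 : Good 4158697 6071267 := h63.trans (Good.step (q := 6038129) (q' := 6071267) (by norm_num) (by norm_num))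
  have h65 : Good 4158697 6104537 := h64.trans (Good.step (q := 6071267) (q' := 6104537) (by norm_num) (by norm_num))
  have h66 : Good 4158697 6137917 := h65.trans (Good.step (q := 6104537) (q' := 6137917) (by norm_num) (by norm_num))
  have h67 : Good 4158697 6171427 := h66.trans (Good.step (q := 6137917) (q' := 6171427) (by norm_num) (by norm_num))
  have h68 : Good 4158697 6205033 := h67.trans (Good.step (q := 6171427) (q' := 6205033) (by norm_num) (by norm_num))
  have h69 : Good 4158697 6238787 := h68.trans (Good.step (q := 6205033) (q' := 6238787) (by norm_num) (by norm_num))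
  have h70 : Good 4158697 6272663 := h69.trans (Good.step (q := 6238787) (q' := 6272663) (by norm_num) (by norm_num))
  have h71 : Good 4158697 6306673 := h70.trans (Good.step (q := 6272663) (q' := 6306673) (by norm_num) (by norm_num))
  have h72 : Good 4158697 6340787 := h71.trans (Good.step (q := 6306673) (q' := 6340787) (by norm_num) (by norm_num))
  have h73 : Good 4158697 6375043 := h72.trans (Good.step (q := 6340787) (q' := 6375043) (by norm_num) (by norm_num))
  have h74 : Good 4158697 6409409 := h73.trans (Good.step (q := 6375043) (q' := 6409409) (by norm_num) (by norm_num))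
  have h75 : Good 4158697 6443911 := h74.trans (Good.step (q := 6409409) (q' := 6443911) (by norm_num) (by norm_num))
  have h76 : Good 4158697 6478519 := h75.trans (Good.step (q := 6443911) (q' := 6478519) (by norm_num) (by norm_num))
  have h77 : Good 4158697 6513239 := h76.trans (Good.step (q := 6478519) (q' := 6513239) (by norm_num) (by norm_num))
  have h78 : Good 4158697 6548107 := h77.trans (Good.step (q := 6513239) (q' := 6548107) (by norm_num) (by norm_num))
  have h79 : Good 4158697 6583103 := h78.trans (Good.step (q := 6548107) (q' := 6583103) (by norm_num) (by norm_num))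
  have h80 : Good 4158697 6618223 := h79.trans (Good.step (q := 6583103) (q' := 6618223) (by norm_num) (by norm_num))
  have h81 : Good 4158697 6653467 := h80.trans (Good.step (q := 6618223) (q' := 6653467) (by norm_num) (by norm_num))
  have h82 : Good 4158697 6688831 := h81.trans (Good.step (q := 6653467) (q' := 6688831) (by norm_num) (by norm_num))
  have h83 : Good 4158697 6724307 := h82.trans (Good.step (q := 6688831) (q' := 6724307) (by norm_num) (by norm_num))
  have h84 : Good 4158697 6759917 := h83.trans (Good.step (q := 6724307) (q' := 6759917) (by norm_num) (by norm_num))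
  have h85 : Good 4158697 6795667 := h84.trans (Good.step (q := 6759917) (q' := 6795667) (by norm_num) (by norm_num))
  have h86 : Good 4158697 6831533 := h85.trans (Good.step (q := 6795667) (q' := 6831533) (by norm_num) (by norm_num))
  have h87 : Good 4158697 6867529 := h86.trans (Good.step (q := 6831533) (q' := 6867529) (by norm_num) (by norm_num))
  have h88 : Good 4158697 6903647 := h87.trans (Good.step (q := 6867529) (q' := 6903647) (by norm_num) (by norm_num))
  have h89 : Good 4158697 6939901 := h88.trans (Good.step (q := 6903647) (q' := 6939901) (by norm_num) (by norm_num))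
  have h90 : Good 4158697 6976279 := h89.trans (Good.step (q := 6939901) (q' := 6976279) (by norm_num) (by norm_num))
  have h91 : Good 4158697 7012787 := h90.trans (Good.step (q := 6976279) (q' := 7012787) (by norm_num) (by norm_num))
  have h92 : Good 4158697 7049411 := h91.trans (Good.step (q := 7012787) (q' := 7049411) (by norm_num) (by norm_num))
  have h93 : Good 4158697 7086173 := h92.trans (Good.step (q := 7049411) (q' := 7086173) (by norm_num) (by norm_num))
  have h94 : Good 4158697 7123063 := h93.trans (Good.step (q := 7086173) (q' := 7123063) (by norm_num) (by norm_num))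
  have h95 : Good 4158697 7160081 := h94.trans (Good.step (q := 7123063) (q' := 7160081) (by norm_num) (by norm_num))
  have h96 : Good 4158697 7197227 := h95.trans (Good.step (q := 7160081) (q' := 7197227) (by norm_num) (by norm_num))
  exact h96

end Cfsg.Agent.Lib.H29.S3571Chain
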