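import Cfsg.Agent.Lib.H29.S3571ChainDefs

/-! helper29: S3571 SS11 prime chain, chunk 7 (generated): primes from 7197227 to 11443153. -/

set_option autoImplicit false

namespace Cfsg.Agent.Lib.H29.S3571Chain

theorem chunk7 : Good 7197227 11443153 := by
  have h0 : Good 7197227 7234483 := Good.step (by norm_num) (by norm_num)
  have h1 : Good 7197227 7271881 := h0.trans (Good.step (q := 7234483) (q' := 7271881) (by norm_num) (by norm_num))
  have h2 : Good 7197227 7309403 := h1.trans (Good.step (q := 7271881) (q' := 7309403) (by norm_num) (by norm_num))
  have h3 : Good 7197227 7347059 := h2.trans (Good.step (q := 7309403) (q' := 7347059) (by norm_num) (by norm_num))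
  have h4 : Good 7197227 7384847 := h3.trans (Good.step (q := 7347059) (q' := 7384847) (by norm_num) (by norm_num))
  have h5 : Good 7197227 7422743 := h4.trans (Good.step (q := 7384847) (q' := 7422743) (by norm_num) (by norm_num))
  have h6 : Good 7197227 7460779 := h5.trans (Good.step (q := 7422743) (q' := 7460779) (by norm_num) (by norm_num))
  have h7 : Good 7197227 7498957 := h6.trans (Good.step (q := 7460779) (q' := 7498957) (by norm_num) (by norm_num))
  have h8 : Good 7197227 7537259 := h7.trans (Good.step (q := 7498957) (q' := 7537259) (by norm_num) (by norm_num))
  have h9 : Good 7197227 7575691 := h8.trans (Good.step (q := 7537259) (q' := 7575691) (by norm_num) (by norm_num))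
  have h10 : Good 7197227 7614263 := h9.trans (Good.step (q := 7575691) (q' := 7614263) (by norm_num) (by norm_num))
  have h11 : Good 7197227 7652959 := h10.trans (Good.step (q := 7614263) (q' := 7652959) (by norm_num) (by norm_num))
  have h12 : Good 7197227 7691779 := h11.trans (Good.step (q := 7652959) (q' := 7691779) (by norm_num) (by norm_num))
  have h13 : Good 7197227 7730731 := h12.trans (Good.step (q := 7691779) (q' := 7730731) (by norm_num) (by norm_num))
  have h14 : Good 7197227 7769819 := h13.trans (Good.step (q := 7730731) (q' := 7769819) (by norm_num) (by norm_num))
  have h15 : Good 7197227 7808989 := h14.trans (Good.step (q := 7769819) (q' := 7808989) (by norm_num) (by norm_num))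
  have h16 : Good 7197227 7848331 := h15.trans (Good.step (q := 7808989) (q' := 7848331) (by norm_num) (by norm_num))
  have h17 : Good 7197227 7887823 := h16.trans (Good.step (q := 7848331) (q' := 7887823) (by norm_num) (by norm_num))
  have h18 : Good 7197227 7927441 := h17.trans (Good.step (q := 7887823) (q' := 7927441) (by norm_num) (by norm_num))
  have h19 : Good 7197227 7967143 := h18.trans (Good.step (q := 7927441) (q' := 7967143) (by norm_num) (by norm_num))
  have h20 : Good 7197227 8007019 := h19.trans (Good.step (q := 7967143) (q' := 8007019) (by norm_num) (by norm_num))
  have h21 : Good 7197227 8047037 := h20.trans (Good.step (q := 8007019) (q' := 8047037) (by norm_num) (by norm_num))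
  have h22 : Good 7197227 8087153 := h21.trans (Good.step (q := 8047037) (q' := 8087153) (by norm_num) (by norm_num))
  have h23 : Good 7197227 8127437 := h22.trans (Good.step (q := 8087153) (q' := 8127437) (by norm_num) (by norm_num))
  have h24 : Good 7197227 8167847 := h23.trans (Good.step (q := 8127437) (q' := 8167847) (by norm_num) (by norm_num))
  have h25 : Good 7197227 8208383 := h24.trans (Good.step (q := 8167847) (q' := 8208383) (by norm_num) (by norm_num))
  have h26 : Good 7197227 8249071 := h25.trans (Good.step (q := 8208383) (q' := 8249071) (by norm_num) (by norm_num))
  have h27 : Good 7197227 8289881 := h26.trans (Good.step (q := 8249071) (q' := 8289881) (by norm_num) (by norm_num))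
  have h28 : Good 7197227 8330837 := h27.trans (Good.step (q := 8289881) (q' := 8330837) (by norm_num) (by norm_num))
  have h29 : Good 7197227 8371927 := h28.trans (Good.step (q := 8330837) (q' := 8371927) (by norm_num) (by norm_num))
  have h30 : Good 7197227 8413157 := h29.trans (Good.step (q := 8371927) (q' := 8413157) (by norm_num) (by norm_num))
  have h31 : Good 7197227 8454503 := h30.trans (Good.step (q := 8413157) (q' := 8454503) (by norm_num) (by norm_num))
  have h32 : Good 7197227 8496001 := h31.trans (Good.step (q := 8454503) (q' := 8496001) (by norm_num) (by norm_num))
  have h33 : Good 7197227 8537603 := h32.trans (Good.step (q := 8496001) (q' := 8537603) (by norm_num) (by norm_num))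
  have h34 : Good 7197227 8579357 := h33.trans (Good.step (q := 8537603) (q' := 8579357) (by norm_num) (by norm_num))
  have h35 : Good 7197227 8621243 := h34.trans (Good.step (q := 8579357) (q' := 8621243) (by norm_num) (by norm_num))
  have h36 : Good 7197227 8663279 := h35.trans (Good.step (q := 8621243) (q' := 8663279) (by norm_num) (by norm_num))
  have h37 : Good 7197227 8705453 := h36.trans (Good.step (q := 8663279) (q' := 8705453) (by norm_num) (by norm_num))
  have h38 : Good 7197227 8747759 := h37.trans (Good.step (q := 8705453) (q' := 8747759) (by norm_num) (by norm_num))
  have h39 : Good 7197227 8790193 := h38.trans (Good.step (q := 8747759) (q' := 8790193) (by norm_num) (by norm_num))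
  have h40 : Good 7197227 8832779 := h39.trans (Good.step (q := 8790193) (q' := 8832779) (by norm_num) (by norm_num))
  have h41 : Good 7197227 8875499 := h40.trans (Good.step (q := 8832779) (q' := 8875499) (by norm_num) (by norm_num))
  have h42 : Good 7197227 8918347 := h41.trans (Good.step (q := 8875499) (q' := 8918347) (by norm_num) (by norm_num))
  have h43 : Good 7197227 8961347 := h42.trans (Good.step (q := 8918347) (q' := 8961347) (by norm_num) (by norm_num))
  have h44 : Good 7197227 9004481 := h43.trans (Good.step (q := 8961347) (q' := 9004481) (by norm_num) (by norm_num))
  have h45 : Good 7197227 9047761 := h44.trans (Good.step (q := 9004481) (q' := 9047761) (by norm_num) (by norm_num))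
  have h46 : Good 7197227 9091157 := h45.trans (Good.step (q := 9047761) (q' := 9091157) (by norm_num) (by norm_num))
  have h47 : Good 7197227 9134711 := h46.trans (Good.step (q := 9091157) (q' := 9134711) (by norm_num) (by norm_num))
  have h48 : Good 7197227 9178409 := h47.trans (Good.step (q := 9134711) (q' := 9178409) (by norm_num) (by norm_num))
  have h49 : Good 7197227 9222229 := h48.trans (Good.step (q := 9178409) (q' := 9222229) (by norm_num) (by norm_num))
  have h50 : Good 7197227 9266197 := h49.trans (Good.step (q := 9222229) (q' := 9266197) (by norm_num) (by norm_num))
  have h51 : Good 7197227 9310309 := h50.trans (Good.step (q := 9266197) (q' := 9310309) (by norm_num) (by norm_num))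
  have h52 : Good 7197227 9354557 := h51.trans (Good.step (q := 9310309) (q' := 9354557) (by norm_num) (by norm_num))
  have h53 : Good 7197227 9398953 := h52.trans (Good.step (q := 9354557) (q' := 9398953) (by norm_num) (by norm_num))
  have h54 : Good 7197227 9443479 := h53.trans (Good.step (q := 9398953) (q' := 9443479) (by norm_num) (by norm_num))
  have h55 : Good 7197227 9488131 := h54.trans (Good.step (q := 9443479) (q' := 9488131) (by norm_num) (by norm_num))
  have h56 : Good 7197227 9532949 := h55.trans (Good.step (q := 9488131) (q' := 9532949) (by norm_num) (by norm_num))
  have h57 : Good 7197227 9577879 := h56.trans (Good.step (q := 9532949) (q' := 9577879) (by norm_num) (by norm_num))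
  have h58 : Good 7197227 9622979 := h57.trans (Good.step (q := 9577879) (q' := 9622979) (by norm_num) (by norm_num))
  have h59 : Good 7197227 9668213 := h58.trans (Good.step (q := 9622979) (q' := 9668213) (by norm_num) (by norm_num))
  have h60 : Good 7197227 9713591 := h59.trans (Good.step (q := 9668213) (q' := 9713591) (by norm_num) (by norm_num))
  have h61 : Good 7197227 9759091 := h60.trans (Good.step (q := 9713591) (q' := 9759091) (by norm_num) (by norm_num))
  have h62 : Good 7197227 9804757 := h61.trans (Good.step (q := 9759091) (q' := 9804757) (by norm_num) (by norm_num))
  have h63 : Good 7197227 9850559 := h62.trans (Good.step (q := 9804757) (q' := 9850559) (by norm_num) (by norm_num))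
  have h64 : Good 7197227 9896507 := h63.trans (Good.step (q := 9850559) (q' := 9896507) (by norm_num) (by norm_num))
  have h65 : Good 7197227 9942593 := h64.trans (Good.step (q := 9896507) (q' := 9942593) (by norm_num) (by norm_num))
  have h66 : Good 7197227 9988817 := h65.trans (Good.step (q := 9942593) (q' := 9988817) (by norm_num) (by norm_num))
  have h67 : Good 7197227 10035169 := h66.trans (Good.step (q := 9988817) (q' := 10035169) (by norm_num) (by norm_num))
  have h68 : Good 7197227 10081681 := h67.trans (Good.step (q := 10035169) (q' := 10081681) (by norm_num) (by norm_num))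
  have h69 : Good 7197227 10128347 := h68.trans (Good.step (q := 10081681) (q' := 10128347) (by norm_num) (by norm_num))
  have h70 : Good 7197227 10175159 := h69.trans (Good.step (q := 10128347) (q' := 10175159) (by norm_num) (by norm_num))
  have h71 : Good 7197227 10222111 := h70.trans (Good.step (q := 10175159) (q' := 10222111) (by norm_num) (by norm_num))
  have h72 : Good 7197227 10269191 := h71.trans (Good.step (q := 10222111) (q' := 10269191) (by norm_num) (by norm_num))
  have h73 : Good 7197227 10316407 := h72.trans (Good.step (q := 10269191) (q' := 10316407) (by norm_num) (by norm_num))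
  have h74 : Good 7197227 10363781 := h73.trans (Good.step (q := 10316407) (q' := 10363781) (by norm_num) (by norm_num))
  have h75 : Good 7197227 10411307 := h74.trans (Good.step (q := 10363781) (q' := 10411307) (by norm_num) (by norm_num))
  have h76 : Good 7197227 10458983 := h75.trans (Good.step (q := 10411307) (q' := 10458983) (by norm_num) (by norm_num))
  have h77 : Good 7197227 10506767 := h76.trans (Good.step (q := 10458983) (q' := 10506767) (by norm_num) (by norm_num))
  have h78 : Good 7197227 10554727 := h77.trans (Good.step (q := 10506767) (q' := 10554727) (by norm_num) (by norm_num))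
  have h79 : Good 7197227 10602829 := h78.trans (Good.step (q := 10554727) (q' := 10602829) (by norm_num) (by norm_num))
  have h80 : Good 7197227 10651063 := h79.trans (Good.step (q := 10602829) (q' := 10651063) (by norm_num) (by norm_num))
  have h81 : Good 7197227 10699471 := h80.trans (Good.step (q := 10651063) (q' := 10699471) (by norm_num) (by norm_num))
  have h82 : Good 7197227 10748011 := h81.trans (Good.step (q := 10699471) (q' := 10748011) (by norm_num) (by norm_num))
  have h83 : Good 7197227 10796713 := h82.trans (Good.step (q := 10748011) (q' := 10796713) (by norm_num) (by norm_num))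
  have h84 : Good 7197227 10845559 := h83.trans (Good.step (q := 10796713) (q' := 10845559) (by norm_num) (by norm_num))
  have h85 : Good 7197227 10894549 := h84.trans (Good.step (q := 10845559) (q' := 10894549) (by norm_num) (by norm_num))
  have h86 : Good 7197227 10943689 := h85.trans (Good.step (q := 10894549) (q' := 10943689) (by norm_num) (by norm_num))
  have h87 : Good 7197227 10992973 := h86.trans (Good.step (q := 10943689) (q' := 10992973) (by norm_num) (by norm_num))
  have h88 : Good 7197227 11042399 := h87.trans (Good.step (q := 10992973) (q' := 11042399) (by norm_num) (by norm_num))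
  have h89 : Good 7197227 11091959 := h88.trans (Good.step (q := 11042399) (q' := 11091959) (by norm_num) (by norm_num))
  have h90 : Good 7197227 11141693 := h89.trans (Good.step (q := 11091959) (q' := 11141693) (by norm_num) (by norm_num))
  have h91 : Good 7197227 11191577 := h90.trans (Good.step (q := 11141693) (q' := 11191577) (by norm_num) (by norm_num))
  have h92 : Good 7197227 11241583 := h91.trans (Good.step (q := 11191577) (q' := 11241583) (by norm_num) (by norm_num))
  have h93 : Good 7197227 11291747 := h92.trans (Good.step (q := 11241583) (q' := 11291747) (by norm_num) (by norm_num))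
  have h94 : Good 7197227 11342057 := h93.trans (Good.step (q := 11291747) (q' := 11342057) (by norm_num) (by norm_num))
  have h95 : Good 7197227 11392529 := h94.trans (Good.step (q := 11342057) (q' := 11392529) (by norm_num) (by norm_num))
  have h96 : Good 7197227 11443153 := h95.trans (Good.step (q := 11392529) (q' := 11443153) (by norm_num) (by norm_num))
  exact h96

end Cfsg.Agent.Lib.H29.S3571Chain
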