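import Cfsg.Agent.Lib.H29.S3571ChainDefs

/-! helper29: S3571 SS11 prime chain, chunk 8 (generated): primes from 11443153 to 16835233. -/

set_option autoImplicit false

namespace Cfsg.Agent.Lib.H29.S3571Chain

theorem chunk8 : Good 11443153 16835233 := by
  have h0 : Good 11443153 11493931 := Good.step (by norm_num) (by norm_num)
  have h1 : Good 11443153 11544859 := h0.trans (Good.step (q := 11493931) (q' := 11544859) (by norm_num) (by norm_num))
  have h2 : Good 11443153 11595931 := h1.trans (Good.step (q := 11544859) (q' := 11595931) (by norm_num) (by norm_num))
  have h3 : Good 11443153 11647151 := h2.trans (Good.step (q := 11595931) (q' := 11647151) (by norm_num) (by norm_num))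
  have h4 : Good 11443153 11698529 := h3.trans (Good.step (q := 11647151) (q' := 11698529) (by norm_num) (by norm_num))
  have h5 : Good 11443153 11750059 := h4.trans (Good.step (q := 11698529) (q' := 11750059) (by norm_num) (by norm_num))
  have h6 : Good 11443153 11801701 := h5.trans (Good.step (q := 11750059) (q' := 11801701) (by norm_num) (by norm_num))
  have h7 : Good 11443153 11853529 := h6.trans (Good.step (q := 11801701) (q' := 11853529) (by norm_num) (by norm_num))
  have h8 : Good 11443153 11905501 := h7.trans (Good.step (q := 11853529) (q' := 11905501) (by norm_num) (by norm_num))
  have h9 : Good 11443153 11957633 := h8.trans (Good.step (q := 11905501) (q' := 11957633) (by norm_num) (by norm_num))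
  have h10 : Good 11443153 12009923 := h9.trans (Good.step (q := 11957633) (q' := 12009923) (by norm_num) (by norm_num))
  have h11 : Good 11443153 12062357 := h10.trans (Good.step (q := 12009923) (q' := 12062357) (by norm_num) (by norm_num))
  have h12 : Good 11443153 12114937 := h11.trans (Good.step (q := 12062357) (q' := 12114937) (by norm_num) (by norm_num))
  have h13 : Good 11443153 12167681 := h12.trans (Good.step (q := 12114937) (q' := 12167681) (by norm_num) (by norm_num))
  have h14 : Good 11443153 12220573 := h13.trans (Good.step (q := 12167681) (q' := 12220573) (by norm_num) (by norm_num))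
  have h15 : Good 11443153 12273623 := h14.trans (Good.step (q := 12220573) (q' := 12273623) (by norm_num) (by norm_num))
  have h16 : Good 11443153 12326813 := h15.trans (Good.step (q := 12273623) (q' := 12326813) (by norm_num) (by norm_num))
  have h17 : Good 11443153 12380171 := h16.trans (Good.step (q := 12326813) (q' := 12380171) (by norm_num) (by norm_num))
  have h18 : Good 11443153 12433627 := h17.trans (Good.step (q := 12380171) (q' := 12433627) (by norm_num) (by norm_num))
  have h19 : Good 11443153 12487273 := h18.trans (Good.step (q := 12433627) (q' := 12487273) (by norm_num) (by norm_num))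
  have h20 : Good 11443153 12541093 := h19.trans (Good.step (q := 12487273) (q' := 12541093) (by norm_num) (by norm_num))
  have h21 : Good 11443153 12595039 := h20.trans (Good.step (q := 12541093) (q' := 12595039) (by norm_num) (by norm_num))
  have h22 : Good 11443153 12649171 := h21.trans (Good.step (q := 12595039) (q' := 12649171) (by norm_num) (by norm_num))
  have h23 : Good 11443153 12703367 := h22.trans (Good.step (q := 12649171) (q' := 12703367) (by norm_num) (by norm_num))
  have h24 : Good 11443153 12757807 := h23.trans (Good.step (q := 12703367) (q' := 12757807) (by norm_num) (by norm_num))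
  have h25 : Good 11443153 12812389 := h24.trans (Good.step (q := 12757807) (q' := 12812389) (by norm_num) (by norm_num))
  have h26 : Good 11443153 12867131 := h25.trans (Good.step (q := 12812389) (q' := 12867131) (by norm_num) (by norm_num))
  have h27 : Good 11443153 12922031 := h26.trans (Good.step (q := 12867131) (q' := 12922031) (by norm_num) (by norm_num))
  have h28 : Good 11443153 12977087 := h27.trans (Good.step (q := 12922031) (q' := 12977087) (by norm_num) (by norm_num))
  have h29 : Good 11443153 13032293 := h28.trans (Good.step (q := 12977087) (q' := 13032293) (by norm_num) (by norm_num))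
  have h30 : Good 11443153 13087649 := h29.trans (Good.step (q := 13032293) (q' := 13087649) (by norm_num) (by norm_num))
  have h31 : Good 11443153 13143173 := h30.trans (Good.step (q := 13087649) (q' := 13143173) (by norm_num) (by norm_num))
  have h32 : Good 11443153 13198859 := h31.trans (Good.step (q := 13143173) (q' := 13198859) (by norm_num) (by norm_num))
  have h33 : Good 11443153 13254691 := h32.trans (Good.step (q := 13198859) (q' := 13254691) (by norm_num) (by norm_num))
  have h34 : Good 11443153 13310669 := h33.trans (Good.step (q := 13254691) (q' := 13310669) (by norm_num) (by norm_num))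
  have h35 : Good 11443153 13366831 := h34.trans (Good.step (q := 13310669) (q' := 13366831) (by norm_num) (by norm_num))
  have h36 : Good 11443153 13423117 := h35.trans (Good.step (q := 13366831) (q' := 13423117) (by norm_num) (by norm_num))
  have h37 : Good 11443153 13479559 := h36.trans (Good.step (q := 13423117) (q' := 13479559) (by norm_num) (by norm_num))
  have h38 : Good 11443153 13536197 := h37.trans (Good.step (q := 13479559) (q' := 13536197) (by norm_num) (by norm_num))
  have h39 : Good 11443153 13592989 := h38.trans (Good.step (q := 13536197) (q' := 13592989) (by norm_num) (by norm_num))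
  have h40 : Good 11443153 13649917 := h39.trans (Good.step (q := 13592989) (q' := 13649917) (by norm_num) (by norm_num))
  have h41 : Good 11443153 13707017 := h40.trans (Good.step (q := 13649917) (q' := 13707017) (by norm_num) (by norm_num))
  have h42 : Good 11443153 13764263 := h41.trans (Good.step (q := 13707017) (q' := 13764263) (by norm_num) (by norm_num))
  have h43 : Good 11443153 13821677 := h42.trans (Good.step (q := 13764263) (q' := 13821677) (by norm_num) (by norm_num))
  have h44 : Good 11443153 13879267 := h43.trans (Good.step (q := 13821677) (q' := 13879267) (by norm_num) (by norm_num))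
  have h45 : Good 11443153 13937017 := h44.trans (Good.step (q := 13879267) (q' := 13937017) (by norm_num) (by norm_num))
  have h46 : Good 11443153 13994923 := h45.trans (Good.step (q := 13937017) (q' := 13994923) (by norm_num) (by norm_num))
  have h47 : Good 11443153 14052991 := h46.trans (Good.step (q := 13994923) (q' := 14052991) (by norm_num) (by norm_num))
  have h48 : Good 11443153 14111219 := h47.trans (Good.step (q := 14052991) (q' := 14111219) (by norm_num) (by norm_num))
  have h49 : Good 11443153 14169613 := h48.trans (Good.step (q := 14111219) (q' := 14169613) (by norm_num) (by norm_num))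
  have h50 : Good 11443153 14228161 := h49.trans (Good.step (q := 14169613) (q' := 14228161) (by norm_num) (by norm_num))
  have h51 : Good 11443153 14286863 := h50.trans (Good.step (q := 14228161) (q' := 14286863) (by norm_num) (by norm_num))
  have h52 : Good 11443153 14345717 := h51.trans (Good.step (q := 14286863) (q' := 14345717) (by norm_num) (by norm_num))
  have h53 : Good 11443153 14404757 := h52.trans (Good.step (q := 14345717) (q' := 14404757) (by norm_num) (by norm_num))
  have h54 : Good 11443153 14463881 := h53.trans (Good.step (q := 14404757) (q' := 14463881) (by norm_num) (by norm_num))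
  have h55 : Good 11443153 14523241 := h54.trans (Good.step (q := 14463881) (q' := 14523241) (by norm_num) (by norm_num))
  have h56 : Good 11443153 14582767 := h55.trans (Good.step (q := 14523241) (q' := 14582767) (by norm_num) (by norm_num))
  have h57 : Good 11443153 14642449 := h56.trans (Good.step (q := 14582767) (q' := 14642449) (by norm_num) (by norm_num))
  have h58 : Good 11443153 14702293 := h57.trans (Good.step (q := 14642449) (q' := 14702293) (by norm_num) (by norm_num))
  have h59 : Good 11443153 14762291 := h58.trans (Good.step (q := 14702293) (q' := 14762291) (by norm_num) (by norm_num))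
  have h60 : Good 11443153 14822461 := h59.trans (Good.step (q := 14762291) (q' := 14822461) (by norm_num) (by norm_num))
  have h61 : Good 11443153 14882789 := h60.trans (Good.step (q := 14822461) (q' := 14882789) (by norm_num) (by norm_num))
  have h62 : Good 11443153 14943283 := h61.trans (Good.step (q := 14882789) (q' := 14943283) (by norm_num) (by norm_num))
  have h63 : Good 11443153 15003931 := h62.trans (Good.step (q := 14943283) (q' := 15003931) (by norm_num) (by norm_num))
  have h64 : Good 11443153 15064759 := h63.trans (Good.step (q := 15003931) (q' := 15064759) (by norm_num) (by norm_num))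
  have h65 : Good 11443153 15125753 := h64.trans (Good.step (q := 15064759) (q' := 15125753) (by norm_num) (by norm_num))
  have h66 : Good 11443153 15186911 := h65.trans (Good.step (q := 15125753) (q' := 15186911) (by norm_num) (by norm_num))
  have h67 : Good 11443153 15248227 := h66.trans (Good.step (q := 15186911) (q' := 15248227) (by norm_num) (by norm_num))
  have h68 : Good 11443153 15309713 := h67.trans (Good.step (q := 15248227) (q' := 15309713) (by norm_num) (by norm_num))
  have h69 : Good 11443153 15371359 := h68.trans (Good.step (q := 15309713) (q' := 15371359) (by norm_num) (by norm_num))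
  have h70 : Good 11443153 15433169 := h69.trans (Good.step (q := 15371359) (q' := 15433169) (by norm_num) (by norm_num))
  have h71 : Good 11443153 15495131 := h70.trans (Good.step (q := 15433169) (q' := 15495131) (by norm_num) (by norm_num))
  have h72 : Good 11443153 15557251 := h71.trans (Good.step (q := 15495131) (q' := 15557251) (by norm_num) (by norm_num))
  have h73 : Good 11443153 15619561 := h72.trans (Good.step (q := 15557251) (q' := 15619561) (by norm_num) (by norm_num))
  have h74 : Good 11443153 15682019 := h73.trans (Good.step (q := 15619561) (q' := 15682019) (by norm_num) (by norm_num))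
  have h75 : Good 11443153 15744653 := h74.trans (Good.step (q := 15682019) (q' := 15744653) (by norm_num) (by norm_num))
  have h76 : Good 11443153 15807469 := h75.trans (Good.step (q := 15744653) (q' := 15807469) (by norm_num) (by norm_num))
  have h77 : Good 11443153 15870451 := h76.trans (Good.step (q := 15807469) (q' := 15870451) (by norm_num) (by norm_num))
  have h78 : Good 11443153 15933583 := h77.trans (Good.step (q := 15870451) (q' := 15933583) (by norm_num) (by norm_num))
  have h79 : Good 11443153 15996889 := h78.trans (Good.step (q := 15933583) (q' := 15996889) (by norm_num) (by norm_num))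
  have h80 : Good 11443153 16060367 := h79.trans (Good.step (q := 15996889) (q' := 16060367) (by norm_num) (by norm_num))
  have h81 : Good 11443153 16123997 := h80.trans (Good.step (q := 16060367) (q' := 16123997) (by norm_num) (by norm_num))
  have h82 : Good 11443153 16187813 := h81.trans (Good.step (q := 16123997) (q' := 16187813) (by norm_num) (by norm_num))
  have h83 : Good 11443153 16251799 := h82.trans (Good.step (q := 16187813) (q' := 16251799) (by norm_num) (by norm_num))
  have h84 : Good 11443153 16315939 := h83.trans (Good.step (q := 16251799) (q' := 16315939) (by norm_num) (by norm_num))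
  have h85 : Good 11443153 16380263 := h84.trans (Good.step (q := 16315939) (q' := 16380263) (by norm_num) (by norm_num))
  have h86 : Good 11443153 16444751 := h85.trans (Good.step (q := 16380263) (q' := 16444751) (by norm_num) (by norm_num))
  have h87 : Good 11443153 16509407 := h86.trans (Good.step (q := 16444751) (q' := 16509407) (by norm_num) (by norm_num))
  have h88 : Good 11443153 16574231 := h87.trans (Good.step (q := 16509407) (q' := 16574231) (by norm_num) (by norm_num))
  have h89 : Good 11443153 16639223 := h88.trans (Good.step (q := 16574231) (q' := 16639223) (by norm_num) (by norm_num))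
  have h90 : Good 11443153 16704397 := h89.trans (Good.step (q := 16639223) (q' := 16704397) (by norm_num) (by norm_num))
  have h91 : Good 11443153 16769719 := h90.trans (Good.step (q := 16704397) (q' := 16769719) (by norm_num) (by norm_num))
  have h92 : Good 11443153 16835233 := h91.trans (Good.step (q := 16769719) (q' := 16835233) (by norm_num) (by norm_num))
  exact h92

end Cfsg.Agent.Lib.H29.S3571Chain
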