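import Cfsg.Agent.Lib.H29.S3571Chain1
import Cfsg.Agent.Lib.H29.S3571Chain2
import Cfsg.Agent.Lib.H29.S3571Chain3
import Cfsg.Agent.Lib.H29.S3571Chain4
import Cfsg.Agent.Lib.H29.S3571Chain5
import Cfsg.Agent.Lib.H29.S3571Chain6
import Cfsg.Agent.Lib.H29.S3571Chain7
import Cfsg.Agent.Lib.H29.S3571Chain8

/-!
helper29: S3571 SS11, the prime chain assembled: for `11 ≤ n < 2 ^ 24` there is a prime `p ≤ n` with
`(n + 1 - p) ^ 3 ≤ n ^ 2`; consequently a prime in `(n - k, n]` whenever `n ^ 2 ≤ k ^ 3`.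
-/

set_option autoImplicit false

namespace Cfsg.Agent.Lib.H29.S3571Chain

theorem good_all : Good 11 16835233 :=
  (((((((chunk1).trans chunk2).trans chunk3).trans chunk4).trans chunk5).trans chunk6).trans chunk7).trans chunk8

/-- SS11: for `11 ≤ n < 2 ^ 24` there is a prime `p ≤ n` with `(n + 1 - p) ^ 3 ≤ n ^ 2`. -/
theorem exists_prime_near (n : ℕ) (h1 : 11 ≤ n) (h2 : n < 2 ^ 24) :
    ∃ p, p.Prime ∧ p ≤ n ∧ (n + 1 - p) ^ 3 ≤ n ^ 2 :=
  good_all n h1 (lt_of_lt_of_le h2 (by norm_num))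

/-- SS11 in the form used by Sylvester-Schur: if `n ^ 2 ≤ k ^ 3`, `11 ≤ n < 2 ^ 24`, there is a
prime `p` with `n - k < p ≤ n`, i.e. `n < p + k`. -/
theorem exists_prime_in_window (n k : ℕ) (h1 : 11 ≤ n) (h2 : n < 2 ^ 24) (hk : n ^ 2 ≤ k ^ 3) :
    ∃ p, p.Prime ∧ p ≤ n ∧ n < p + k := by
  obtain ⟨p, hp, hpn, hgap⟩ := exists_prime_near n h1 h2
  refine ⟨p, hp, hpn, ?_⟩
  have h3 : (n + 1 - p) ^ 3 ≤ k ^ 3 := le_trans hgap hk
  have h4 : n + 1 - p ≤ k := by
    by_contra hcon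
    push Not at hcon
    exact absurd h3 (not_le.2 (Nat.pow_lt_pow_left hcon (by norm_num)))
  omega

/-- a prime `p > k` in the window `(n - k, n]` divides `n.choose k` -/
theorem prime_dvd_choose_of_window {n k p : ℕ} (hp : p.Prime) (hkp : k < p) (hpn : p ≤ n)
    (hw : n < p + k) : p ∣ n.choose k := by
  have h1 : p ∣ n.descFactorial k := by
    rw [Nat.descFactorial_eq_prod_range]
    have hmem : n - p ∈ Finset.range k := Finset.mem_range.2 (by omega)
    refine Dvd.dvd.trans ?_ (Finset.dvd_prod_of_mem (fun i => n - i) hmem)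
    have : n - (n - p) = p := by omega
    simp only [this, dvd_refl]
  rw [Nat.descFactorial_eq_factorial_mul_choose] at h1
  rcases (Nat.Prime.dvd_mul hp).1 h1 with h | h
  · exact absurd ((Nat.Prime.dvd_factorial hp).1 h) (not_le.2 hkp)
  · exact h

/-- SS0: a prime `p > k` with `n % p < k` divides `n.choose k`. -/
theorem prime_dvd_choose_of_mod_lt {n k p : ℕ} (hp : p.Prime) (hkp : k < p)
    (hmod : n % p < k) : p ∣ n.choose k := by
  have h1 : p ∣ n.descFactorial k := by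
    rw [Nat.descFactorial_eq_prod_range]
    refine Dvd.dvd.trans ?_ (Finset.dvd_prod_of_mem (fun i => n - i) (Finset.mem_range.2 hmod))
    exact Nat.dvd_sub_mod n
  rw [Nat.descFactorial_eq_factorial_mul_choose] at h1
  rcases (Nat.Prime.dvd_mul hp).1 h1 with h | h
  · exact absurd ((Nat.Prime.dvd_factorial hp).1 h) (not_le.2 hkp)
  · exact h

/-- Sylvester-Schur in the range `n ^ 2 ≤ k ^ 3`, `2 * k ≤ n`, `11 ≤ n < 2 ^ 24`. -/
theorem sylvester_schur_window (n k : ℕ) (h1 : 11 ≤ n) (h2 : n < 2 ^ 24) (h2k : 2 * k ≤ n)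
    (hk : n ^ 2 ≤ k ^ 3) : ∃ p, p.Prime ∧ k < p ∧ p ∣ n.choose k := by
  obtain ⟨p, hp, hpn, hw⟩ := exists_prime_in_window n k h1 h2 hk
  have hkp : k < p := by omega
  exact ⟨p, hp, hkp, prime_dvd_choose_of_window hp hkp hpn hw⟩

end Cfsg.Agent.Lib.H29.S3571Chain
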