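import Mathlib
import Cfsg.Agent.Lib.H2.SLGen

/-!
Tools for exceptional isomorphisms `PΩ ≅ P(classical)` obtained from an explicit
homomorphism `ρ : S →* O` into an isometry group.
-/

set_option autoImplicit false

namespace Cfsg.Agent.Lib.H29.ExcIso

open Matrix
open scoped commutatorElement

section general

variable {G H : Type*} [Group G] [Group H]

/-- a surjection inducing an isomorphism of central quotients -/
theorem quot_center_equiv (f : G →* H) (hf : Function.Surjective f)
    (hc : (Subgroup.center H).comap f = Subgroup.center G) :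
    Nonempty (G ⧸ Subgroup.center G ≃* H ⧸ Subgroup.center H) := by
  let φ : G →* H ⧸ Subgroup.center H := (QuotientGroup.mk' _).comp f
  have hφ : Function.Surjective φ := (QuotientGroup.mk'_surjective _).comp hf
  have hker : φ.ker = Subgroup.center G := by
    rw [← hc]
    ext x
    simp [φ, MonoidHom.mem_ker]
  exact ⟨(QuotientGroup.quotientMulEquivOfEq hker.symm).trans
    (QuotientGroup.quotientKerEquivOfSurjective φ hφ)⟩

/-- The exceptional-isomorphism principle: a homomorphism `ρ : S →* O` whose image lies in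
`O' = [O, O]`, is at least as big as `O'`, and detects the centre of `S`, induces
`O' / Z(O') ≃* S / Z(S)`. -/
theorem excIso {S O : Type*} [Group S] [Group O] [Finite O] (ρ : S →* O)
    (h1 : ∀ g, ρ g ∈ commutator O)
    (h2 : Nat.card (commutator O) ≤ Nat.card ρ.range)
    (h3 : ∀ g, (∀ h, ρ (g * h) = ρ (h * g)) → g ∈ Subgroup.center S) :
    Nonempty ((commutator O) ⧸ Subgroup.center (commutator O) ≃* S ⧸ Subgroup.center S) := by
  have hrange : ρ.range = commutator O := by
    apply Subgroup.eq_of_le_of_card_ge
    · rintro _ ⟨g, rfl⟩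
      exact h1 g
    · exact h2
  let ρ' : S →* ↥(commutator O) := ρ.codRestrict _ h1
  have hsurj : Function.Surjective ρ' := by
    intro y
    have h1 : y.1 ∈ ρ.range := by
      rw [hrange]; exact y.2
    obtain ⟨g, hg⟩ := h1
    exact ⟨g, Subtype.ext hg⟩
  have hc : (Subgroup.center ↥(commutator O)).comap ρ' = Subgroup.center S := by
    apply le_antisymm
    · intro g hg
      apply h3
      intro h
      rw [Subgroup.mem_comap, Subgroup.mem_center_iff] at hg
      have := hg (ρ' h)
      rw [← map_mul, ← map_mul] at this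
      exact (congrArg Subtype.val this).symm
    · intro z hz
      rw [Subgroup.mem_comap, Subgroup.mem_center_iff]
      intro y
      obtain ⟨g, rfl⟩ := hsurj y
      rw [← map_mul, ← map_mul, Subgroup.mem_center_iff.1 hz g]
  obtain ⟨e⟩ := quot_center_equiv ρ' hsurj hc
  exact ⟨e.symm⟩

/-- Variant of `excIso` where centre detection comes from a normal-subgroup dichotomy. -/
theorem excIso' {S O : Type*} [Group S] [Group O] [Finite O] (ρ : S →* O)
    (h1 : ∀ g, ρ g ∈ commutator O)
    (h2 : Nat.card (commutator O) ≤ Nat.card ρ.range)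
    (h3 : ∀ N : Subgroup S, N.Normal → N ≤ Subgroup.center S ∨ N = ⊤)
    (h4 : ∃ x y, ρ (x * y) ≠ ρ (y * x)) :
    Nonempty ((commutator O) ⧸ Subgroup.center (commutator O) ≃* S ⧸ Subgroup.center S) := by
  apply excIso ρ h1 h2
  intro g hg
  let N : Subgroup S := (Subgroup.centralizer (ρ.range : Set O)).comap ρ
  have hN : N.Normal := by
    constructor
    intro n hn s
    rw [Subgroup.mem_comap, Subgroup.mem_centralizer_iff] at hn ⊢
    rintro _ ⟨h, rfl⟩
    have := hn (ρ (s⁻¹ * h * s)) ⟨_, rfl⟩
    simp only [map_mul, map_inv] at this ⊢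
    calc ρ h * (ρ s * ρ n * (ρ s)⁻¹) = ρ s * ((ρ s)⁻¹ * ρ h * ρ s * ρ n) * (ρ s)⁻¹ := by group
      _ = ρ s * (ρ n * ((ρ s)⁻¹ * ρ h * ρ s)) * (ρ s)⁻¹ := by rw [this]
      _ = _ := by group
  have hgN : g ∈ N := by
    rw [Subgroup.mem_comap, Subgroup.mem_centralizer_iff]
    rintro _ ⟨h, rfl⟩
    rw [← map_mul, ← map_mul]
    exact (hg h).symm
  rcases h3 N hN with h | h
  · exact h hgN
  · exfalso
    obtain ⟨x, y, hxy⟩ := h4
    apply hxy
    have hx : x ∈ N := h ▸ Subgroup.mem_top _
    rw [Subgroup.mem_comap, Subgroup.mem_centralizer_iff] at hx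
    have := hx (ρ y) ⟨_, rfl⟩
    rw [map_mul, map_mul]
    exact this.symm

/-- an isomorphism of groups induces an isomorphism of central quotients -/
theorem quot_center_congr (e : G ≃* H) :
    Nonempty (G ⧸ Subgroup.center G ≃* H ⧸ Subgroup.center H) := by
  apply quot_center_equiv e.toMonoidHom e.surjective
  ext x
  rw [Subgroup.mem_comap, Subgroup.mem_center_iff, Subgroup.mem_center_iff]
  constructor
  · intro h g
    apply e.injective
    have := h (e g)
    simpa using this
  · intro h y
    obtain ⟨g, rfl⟩ := e.surjective y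
    have := congrArg e (h g)
    simpa using this

end general

section SL

variable {ι : Type*} [DecidableEq ι] [Fintype ι] {F : Type*} [Field F]

theorem transvection_pow {i j : ι} (hij : i ≠ j) (c : F) (n : ℕ) :
    (SpecialLinearGroup.transvection hij c) ^ n = SpecialLinearGroup.transvection hij (n • c) := by
  induction n with
  | zero => simp
  | succ k ih =>
    rw [pow_succ, ih, ← SpecialLinearGroup.transvection_add, succ_nsmul]

variable [Fintype F]

theorem transvection_pow_card {i j : ι} (hij : i ≠ j) (c : F) :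
    (SpecialLinearGroup.transvection hij c) ^ (Fintype.card F) = 1 := by
  rw [transvection_pow, nsmul_eq_mul, Nat.cast_card_eq_zero, zero_mul,
    SpecialLinearGroup.transvection_coeff_zero]

/-- a homomorphism from `SL(ι, F)` to a finite group of order coprime to `|F|` is trivial -/
theorem SL_hom_trivial [Nontrivial ι] {A : Type*} [Group A] [Finite A]
    (φ : SpecialLinearGroup ι F →* A) (hcop : (Nat.card A).Coprime (Fintype.card F))
    (g : SpecialLinearGroup ι F) : φ g = 1 := by
  refine Cfsg.Agent.Lib.H2.SL_transvection_induction (fun g => φ g = 1) ?_ ?_ g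
  · intro i j hij c
    have e1 : φ (SpecialLinearGroup.transvection hij c) ^ (Fintype.card F) = 1 := by
      rw [← map_pow, transvection_pow_card, map_one]
    have e2 : φ (SpecialLinearGroup.transvection hij c) ^ (Nat.card A) = 1 := pow_card_eq_one'
    have e3 := pow_gcd_eq_one.2 ⟨e2, e1⟩
    rw [Nat.Coprime.gcd_eq_one hcop, pow_one] at e3
    exact e3
  · intro A B hA hB
    rw [map_mul, hA, hB, one_mul]

/-- in `SL₂(K)`, an element commuting with everything up to sign is central -/
theorem SL2_central_of_comm_sign {K : Type*} [Field K] (g : SpecialLinearGroup (Fin 2) K)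
    (H : ∀ h : SpecialLinearGroup (Fin 2) K,
      ∃ r : K, (r = 1 ∨ r = -1) ∧ g.1 * h.1 = r • (h.1 * g.1)) :
    g ∈ Subgroup.center (SpecialLinearGroup (Fin 2) K) := by
  have hdet : g.1 0 0 * g.1 1 1 - g.1 0 1 * g.1 1 0 = 1 := by
    rw [← Matrix.det_fin_two]; exact g.2
  have H' : ∀ h : SpecialLinearGroup (Fin 2) K,
      ∃ r : K, (r = 1 ∨ (r = -1 ∧ (2 : K) ≠ 0)) ∧ g.1 * h.1 = r • (h.1 * g.1) := by
    intro h
    obtain ⟨r, hr, e⟩ := H h
    refine ⟨r, ?_, e⟩
    rcases hr with hr | hr
    · left; exact hr
    · by_cases h2 : (2 : K) = 0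
      · left
        rw [hr]
        linear_combination -h2
      · right; exact ⟨hr, h2⟩
  obtain ⟨r, hr, e⟩ := H' (SpecialLinearGroup.transvection (zero_ne_one (α := Fin 2)) 1)
  obtain ⟨r', hr', e'⟩ := H' (SpecialLinearGroup.transvection (one_ne_zero (α := Fin 2)) 1)
  have e00 := congrFun (congrFun e 0) 0
  have e01 := congrFun (congrFun e 0) 1
  have e10 := congrFun (congrFun e 1) 0
  have e11 := congrFun (congrFun e 1) 1
  have f00 := congrFun (congrFun e' 0) 0
  have f01 := congrFun (congrFun e' 0) 1
  have f10 := congrFun (congrFun e' 1) 0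
  have f11 := congrFun (congrFun e' 1) 1
  simp [SpecialLinearGroup.transvection_coe, Matrix.mul_apply, Fin.sum_univ_two, Matrix.add_mul,
    Matrix.single_apply] at e00 e01 e10 e11 f00 f01 f10 f11
  have hc : g.1 1 0 = 0 ∧ g.1 0 0 = g.1 1 1 := by
    rcases hr with rfl | ⟨rfl, h2⟩
    · constructor
      · linear_combination -e00
      · linear_combination e01
    · exfalso
      have c0 : g.1 1 0 = 0 := by
        have : (2 : K) * g.1 1 0 = 0 := by linear_combination e10
        exact (mul_eq_zero.1 this).resolve_left h2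
      have a0 : g.1 0 0 = 0 := by
        have : (2 : K) * g.1 0 0 = 0 := by linear_combination e00 - c0
        exact (mul_eq_zero.1 this).resolve_left h2
      rw [c0, a0] at hdet
      simp at hdet
  have hb : g.1 0 1 = 0 := by
    rcases hr' with rfl | ⟨rfl, h2⟩
    · linear_combination f00
    · have : (2 : K) * g.1 0 1 = 0 := by linear_combination f01
      exact (mul_eq_zero.1 this).resolve_left h2
  rw [Matrix.SpecialLinearGroup.mem_center_iff]
  refine ⟨g.1 0 0, ?_, ?_⟩
  · rw [Fintype.card_fin]
    rw [hc.1, hb, ← hc.2] at hdet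
    linear_combination hdet
  · ext i j
    fin_cases i <;> fin_cases j <;> simp [hc.1, hb, hc.2]

end SL

end Cfsg.Agent.Lib.H29.ExcIso
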