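import Cfsg.Agent.Lib.H11.OmegaGen
import Cfsg.Agent.Lib.H13.Char2Omega

/-!
Upper bounds for `|Ω(Q)|` in terms of `|O(Q)|`, any nondegenerate `Q` on `ι → F`.
-/

set_option autoImplicit false

namespace Cfsg.Agent.Lib.H29.OmegaBound

variable {F : Type*} [Field F] [Fintype F] {ι : Type} [Fintype ι] [DecidableEq ι]

/-- `q` odd: `|O(Q)| = 4 |Ω(Q)|` -/
theorem card_Omega_odd (Q : QuadraticForm F (ι → F))
    (hQ : (QuadraticMap.polarBilin Q).Nondegenerate) (h2 : (2 : F) ≠ 0)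
    (hcard : 2 ≤ Fintype.card ι) :
    4 * Nat.card ↥(Cfsg.Omega F ⇑Q) = Nat.card ↥(Cfsg.isometryGroup F ⇑Q) := by
  have hidx := Subgroup.card_mul_index (Cfsg.Omega F ⇑Q)
  rw [Cfsg.Agent.Lib.H11.OmegaGen.index_omega Q hQ h2 hcard] at hidx
  omega

/-- `q` even: `2 |Ω(Q)| ≤ |O(Q)|` (no exception for `O⁺₄(2)`) -/
theorem card_Omega_even [Nonempty ι] (Q : QuadraticForm F (ι → F))
    (hQ : (QuadraticMap.polarBilin Q).Nondegenerate) (h2 : (2 : F) = 0) :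
    2 * Nat.card ↥(Cfsg.Omega F ⇑Q) ≤ Nat.card ↥(Cfsg.isometryGroup F ⇑Q) := by
  haveI : CharP F 2 := CharTwo.of_one_ne_zero_of_two_eq_zero one_ne_zero h2
  obtain ⟨u, hu⟩ := Cfsg.Agent.Lib.H13.Char2Omega.exists_Q_ne_zero' Q hQ
  have hne : Cfsg.Omega F ⇑Q ≠ ⊤ := by
    intro h
    apply Cfsg.Agent.Lib.H13.Char2Omega.refl_not_mem Q hQ u hu
    rw [h]; exact Subgroup.mem_top _
  have hidx := Subgroup.card_mul_index (Cfsg.Omega F ⇑Q)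
  have h1 : (Cfsg.Omega F ⇑Q).index ≠ 1 := fun h => hne (Subgroup.index_eq_one.1 h)
  have h0 : (Cfsg.Omega F ⇑Q).index ≠ 0 := Subgroup.index_ne_zero_of_finite
  have h2' : 2 ≤ (Cfsg.Omega F ⇑Q).index := by omega
  calc 2 * Nat.card ↥(Cfsg.Omega F ⇑Q) = Nat.card ↥(Cfsg.Omega F ⇑Q) * 2 := by ring
    _ ≤ Nat.card ↥(Cfsg.Omega F ⇑Q) * (Cfsg.Omega F ⇑Q).index := Nat.mul_le_mul_left _ h2'
    _ = _ := hidx

end Cfsg.Agent.Lib.H29.OmegaBound
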