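import Mathlib
import Cfsg.Prelude.Def_Classical
import Cfsg.Prelude.Def_ClassicalGeometry

/-!
# Transporting isometry groups along a ring isomorphism
-/

set_option autoImplicit false

namespace Cfsg.Agent.Lib.H29.IsoTransport

open Matrix

variable {ι : Type} [Fintype ι] [DecidableEq ι] {F K : Type*} [Field F] [Field K]

/-- `GL ι F ≃* GL ι K` from a ring isomorphism. -/
noncomputable def glEquiv (e : F ≃+* K) : GL ι F ≃* GL ι K where
  toFun := Matrix.GeneralLinearGroup.map (n := ι) e.toRingHom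
  invFun := Matrix.GeneralLinearGroup.map (n := ι) e.symm.toRingHom
  left_inv g := by
    ext i j
    simp [Matrix.GeneralLinearGroup.map_apply]
  right_inv g := by
    ext i j
    simp [Matrix.GeneralLinearGroup.map_apply]
  map_mul' g h := Matrix.GeneralLinearGroup.map_mul _ g h

theorem glEquiv_apply (e : F ≃+* K) (g : GL ι F) (i j : ι) : glEquiv e g i j = e (g i j) := by
  simp [glEquiv, Matrix.GeneralLinearGroup.map_apply]

theorem glEquiv_mulVec (e : F ≃+* K) (g : GL ι F) (v : ι → F) :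
    ((glEquiv e g : GL ι K) : Matrix ι ι K) *ᵥ (⇑e ∘ v) = ⇑e ∘ ((g : Matrix ι ι F) *ᵥ v) := by
  ext i
  simp only [Matrix.mulVec, dotProduct, Function.comp_apply, map_sum, map_mul]
  refine Finset.sum_congr rfl fun j _ => ?_
  rw [glEquiv_apply]

theorem glEquiv_mem (e : F ≃+* K) (QF : (ι → F) → F) (QK : (ι → K) → K)
    (hQ : ∀ v : ι → F, QK (⇑e ∘ v) = e (QF v)) (g : GL ι F)
    (hg : g ∈ Cfsg.isometryGroup F QF) : glEquiv e g ∈ Cfsg.isometryGroup K QK := by
  intro u _
  have hu : u = ⇑e ∘ (⇑e.symm ∘ u) := by ext i; simp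
  have h1 := hg (⇑e.symm ∘ u) (⇑e.symm ∘ u)
  simp only [Units.coeHom_apply] at h1 ⊢
  rw [hu, glEquiv_mulVec, hQ, hQ, h1]

theorem glEquiv_symm_mem (e : F ≃+* K) (QF : (ι → F) → F) (QK : (ι → K) → K)
    (hQ : ∀ v : ι → F, QK (⇑e ∘ v) = e (QF v)) (g : GL ι K)
    (hg : g ∈ Cfsg.isometryGroup K QK) : (glEquiv e).symm g ∈ Cfsg.isometryGroup F QF := by
  have hQ' : ∀ v : ι → K, QF (⇑e.symm ∘ v) = e.symm (QK v) := by
    intro v
    apply e.injective
    rw [← hQ]
    have : ⇑e ∘ (⇑e.symm ∘ v) = v := by ext i; simp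
    rw [this]; simp
  exact glEquiv_mem e.symm QK QF hQ' g hg

/-- The isometry groups of compatible forms over isomorphic fields are isomorphic. -/
noncomputable def isoEquiv (e : F ≃+* K) (QF : (ι → F) → F) (QK : (ι → K) → K)
    (hQ : ∀ v : ι → F, QK (⇑e ∘ v) = e (QF v)) :
    ↥(Cfsg.isometryGroup F QF) ≃* ↥(Cfsg.isometryGroup K QK) where
  toFun g := ⟨glEquiv e g.1, glEquiv_mem e QF QK hQ g.1 g.2⟩
  invFun g := ⟨(glEquiv e).symm g.1, glEquiv_symm_mem e QF QK hQ g.1 g.2⟩
  left_inv g := by ext1; simp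
  right_inv g := by ext1; simp
  map_mul' g h := by ext1; simp

theorem isoEquiv_det (e : F ≃+* K) (QF : (ι → F) → F) (QK : (ι → K) → K)
    (hQ : ∀ v : ι → F, QK (⇑e ∘ v) = e (QF v)) (g : ↥(Cfsg.isometryGroup F QF)) :
    Matrix.GeneralLinearGroup.det ((isoEquiv e QF QK hQ g : ↥(Cfsg.isometryGroup K QK)) : GL ι K)
      = Units.map (e : F →* K) (Matrix.GeneralLinearGroup.det (g : GL ι F)) := by
  show Matrix.GeneralLinearGroup.det (Matrix.GeneralLinearGroup.map (n := ι) e.toRingHom g.1) = _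
  rw [Matrix.GeneralLinearGroup.map_det]
  rfl

/-- The special isometry groups of compatible forms over isomorphic fields are isomorphic. -/
noncomputable def specialIsoEquiv (e : F ≃+* K) (QF : (ι → F) → F) (QK : (ι → K) → K)
    (hQ : ∀ v : ι → F, QK (⇑e ∘ v) = e (QF v)) :
    ↥(Cfsg.specialIsometryGroup F QF) ≃* ↥(Cfsg.specialIsometryGroup K QK) where
  toFun g := ⟨isoEquiv e QF QK hQ g.1, by
    have hg := g.2
    simp only [Cfsg.specialIsometryGroup, MonoidHom.mem_ker, MonoidHom.comp_apply,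
      Subgroup.coe_subtype] at hg ⊢
    rw [isoEquiv_det, hg, map_one]⟩
  invFun g := ⟨(isoEquiv e QF QK hQ).symm g.1, by
    have hg := g.2
    simp only [Cfsg.specialIsometryGroup, MonoidHom.mem_ker, MonoidHom.comp_apply,
      Subgroup.coe_subtype] at hg ⊢
    have h := isoEquiv_det e QF QK hQ ((isoEquiv e QF QK hQ).symm g.1)
    rw [MulEquiv.apply_symm_apply, hg] at h
    have hinj : Function.Injective (Units.map (e : F →* K)) :=
      Units.map_injective e.injective
    apply hinj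
    rw [← h, map_one]⟩
  left_inv g := by ext1; simp
  right_inv g := by ext1; simp
  map_mul' g h := by ext1; simp

end Cfsg.Agent.Lib.H29.IsoTransport
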