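import Mathlib

/-!
# Permutation modules and quadratic forms

Generic machinery for the exceptional isomorphisms `S_n ≅ O(Q)`: the symmetric group acts on `A^n` by permuting
coordinates, the sum-zero vectors (modulo the all-ones vector when it has sum zero) carry the invariant quadratic
form `∑_{i<j} x_i x_j`, and an explicit basis `L` with dual basis `R` turns this into a homomorphism to `GL`.
-/

set_option autoImplicit false

namespace Cfsg.Agent.Lib.H29.PermMod

open Matrix Equiv

variable {n : ℕ} {κ : Type*} [Fintype κ] [DecidableEq κ] {A : Type*} [CommRing A]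

/-- permuting the rows -/
def act {μ : Type*} (σ : Perm (Fin n)) (M : Matrix (Fin n) μ A) : Matrix (Fin n) μ A :=
  M.submatrix (⇑σ⁻¹) id

theorem act_act {μ : Type*} (σ τ : Perm (Fin n)) (M : Matrix (Fin n) μ A) :
    act σ (act τ M) = act (σ * τ) M := by
  ext i j
  simp [act, _root_.mul_inv_rev]

theorem act_one {μ : Type*} (M : Matrix (Fin n) μ A) : act 1 M = M := by
  ext i j
  simp [act]

theorem act_mul {μ ν : Type*} [Fintype μ] (σ : Perm (Fin n)) (M : Matrix (Fin n) μ A)
    (N : Matrix μ ν A) : act σ M * N = act σ (M * N) := by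
  ext i j
  simp [act, Matrix.mul_apply]

theorem act_mulVec {μ : Type*} [Fintype μ] (σ : Perm (Fin n)) (M : Matrix (Fin n) μ A)
    (y : μ → A) : act σ M *ᵥ y = (M *ᵥ y) ∘ ⇑σ⁻¹ := by
  ext i
  simp [act, Matrix.mulVec, dotProduct]

theorem act_sub {μ : Type*} (σ : Perm (Fin n)) (M N : Matrix (Fin n) μ A) :
    act σ (M - N) = act σ M - act σ N := by
  ext i j
  simp [act]

theorem act_vecMulVec {μ : Type*} (σ : Perm (Fin n)) (w : μ → A) :
    act σ (vecMulVec (1 : Fin n → A) w) = vecMulVec (1 : Fin n → A) w := by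
  ext i j
  simp [act, vecMulVec_apply]

theorem one_vecMul_act {μ : Type*} (σ : Perm (Fin n)) (M : Matrix (Fin n) μ A) :
    (1 : Fin n → A) ᵥ* act σ M = (1 : Fin n → A) ᵥ* M := by
  ext j
  simp only [Matrix.vecMul, dotProduct, act, Matrix.submatrix_apply, id, Pi.one_apply, one_mul]
  exact Equiv.sum_comp σ⁻¹ (fun k => M k j)

/-- The data of a basis `L` of (sum-zero vectors)/(all-ones), with dual basis `R`. -/
structure Data (n : ℕ) (κ : Type*) [Fintype κ] [DecidableEq κ] (A : Type*) [CommRing A] where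
  L : Matrix (Fin n) κ A
  R : Matrix κ (Fin n) A
  d : Fin n → A
  a : Fin n → A
  RL : R * L = 1
  R1 : R *ᵥ (1 : Fin n → A) = 0
  oneL : (1 : Fin n → A) ᵥ* L = 0
  expand : L * R + vecMulVec (1 : Fin n → A) d + vecMulVec a (1 : Fin n → A) = 1

namespace Data

variable (D : Data n κ A)

def phi (σ : Perm (Fin n)) : Matrix κ κ A := D.R * act σ D.L

theorem expand_mat {μ : Type*} (M : Matrix (Fin n) μ A) (hM : (1 : Fin n → A) ᵥ* M = 0) :
    D.L * (D.R * M) = M - vecMulVec (1 : Fin n → A) (D.d ᵥ* M) := by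
  have h : D.L * D.R = 1 - vecMulVec (1 : Fin n → A) D.d - vecMulVec D.a (1 : Fin n → A) := by
    rw [← D.expand]; abel
  rw [← Matrix.mul_assoc, h, Matrix.sub_mul, Matrix.sub_mul, Matrix.one_mul, Matrix.vecMulVec_mul,
    Matrix.vecMulVec_mul, hM]
  ext i j
  simp [vecMulVec_apply]

theorem L_mul_phi (σ : Perm (Fin n)) :
    D.L * D.phi σ = act σ D.L - vecMulVec (1 : Fin n → A) (D.d ᵥ* act σ D.L) :=
  D.expand_mat _ (by rw [one_vecMul_act, D.oneL])

theorem phi_mul (σ τ : Perm (Fin n)) : D.phi (σ * τ) = D.phi σ * D.phi τ := by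
  unfold phi
  rw [Matrix.mul_assoc, act_mul, D.expand_mat _ (by rw [one_vecMul_act, D.oneL]),
    act_sub, act_act, act_vecMulVec, Matrix.mul_sub, Matrix.mul_vecMulVec, D.R1]
  simp

theorem phi_one : D.phi 1 = 1 := by
  unfold phi
  rw [act_one, D.RL]

/-- The permutation representation on `κ`-coordinates as a monoid hom. -/
def phiHom : Perm (Fin n) →* Matrix κ κ A where
  toFun := D.phi
  map_one' := D.phi_one
  map_mul' := D.phi_mul

/-- The permutation representation into `GL`. -/
noncomputable def phiGL : Perm (Fin n) →* GL κ A := D.phiHom.toHomUnits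

@[simp] theorem phiGL_coe (σ : Perm (Fin n)) : ((D.phiGL σ : GL κ A) : Matrix κ κ A) = D.phi σ := rfl

end Data

/-! ### The invariant quadratic form -/

/-- `∑_{i<j} x_i x_j`. -/
def q (x : Fin n → A) : A := ∑ i, ∑ j, if i < j then x i * x j else 0

theorem q_eq_sym2 (x : Fin n → A) :
    q x = ∑ s ∈ (Finset.univ : Finset (Fin n)).sym2 with ¬ s.IsDiag,
      Sym2.lift ⟨fun a b => x a * x b, fun a b => mul_comm _ _⟩ s := by
  rw [Finset.sum_sym2_filter_not_isDiag]
  simp only [Sym2.lift_mk]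
  rw [Finset.sum_filter, q, ← Finset.sum_product']
  symm
  apply Finset.sum_subset (by intro p _; simp)
  · intro p _ hp
    have : ¬ p.1 < p.2 := by
      intro hlt
      apply hp
      simp [Finset.mem_offDiag, hlt.ne]
    simp [this]

theorem q_comp (σ : Perm (Fin n)) (x : Fin n → A) : q (x ∘ ⇑σ) = q x := by
  rw [q_eq_sym2, q_eq_sym2]
  refine Finset.sum_nbij' (Sym2.map σ) (Sym2.map σ.symm) ?_ ?_ ?_ ?_ ?_
  · intro s hs
    simp only [Finset.mem_filter, Finset.sym2_univ, Finset.mem_univ, true_and] at hs ⊢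
    rwa [Sym2.isDiag_map σ.injective]
  · intro s hs
    simp only [Finset.mem_filter, Finset.sym2_univ, Finset.mem_univ, true_and] at hs ⊢
    rwa [Sym2.isDiag_map σ.symm.injective]
  · intro s _
    rw [Sym2.map_map]
    simp
  · intro s _
    rw [Sym2.map_map]
    simp
  · intro s _
    induction s using Sym2.ind with
    | _ a b => simp

namespace Data

variable (D : Data n κ A)

theorem phi_isometry (Q' : (κ → A) → A) (hq : ∀ y, q (D.L *ᵥ y) = Q' y)
    (hq1 : ∀ (x : Fin n → A) (c : A), ∑ i, x i = 0 → q (x + c • (1 : Fin n → A)) = q x)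
    (σ : Perm (Fin n)) (y : κ → A) : Q' (D.phi σ *ᵥ y) = Q' y := by
  rw [← hq, ← hq y, Matrix.mulVec_mulVec, D.L_mul_phi, Matrix.sub_mulVec, act_mulVec]
  have h1 : vecMulVec (1 : Fin n → A) (D.d ᵥ* act σ D.L) *ᵥ y
      = ((D.d ᵥ* act σ D.L) ⬝ᵥ y) • (1 : Fin n → A) := by
    ext i
    simp [vecMulVec, Matrix.mulVec, dotProduct, Finset.mul_sum, mul_comm]
  rw [h1, sub_eq_add_neg, ← neg_smul, hq1, q_comp]
  simp only [Function.comp_apply]
  rw [Equiv.sum_comp (σ⁻¹) (D.L *ᵥ y)]
  · have := congrArg (fun w => w ⬝ᵥ y) D.oneL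
    simp only [zero_dotProduct] at this
    rw [← Matrix.dotProduct_mulVec] at this
    simpa [dotProduct] using this

end Data

end Cfsg.Agent.Lib.H29.PermMod
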