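import Mathlib
import Cfsg.Prelude.Def_GeometricClasses
import Cfsg.Agent.Lib.H13.Witt

/-!
# Reflections and elements of `Ω` for quadratic forms on `ι → F` (helper29)
-/

set_option autoImplicit false

namespace Cfsg.Agent.Lib.H29.Orth

open Matrix QuadraticMap Module
open scoped commutatorElement

variable {ι : Type} [Fintype ι] [DecidableEq ι] {F : Type*} [Field F]

/-- the Mathlib quadratic form of a frozen non-degenerate quadratic form -/
noncomputable def toQF (Q : (ι → F) → F) (hQ : Cfsg.Geo.IsNondegenerateQuadraticForm Q) :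
    QuadraticForm F (ι → F) :=
  QuadraticMap.ofPolar Q (fun a x => by rw [hQ.smul, smul_eq_mul, pow_two])
    hQ.polar_bilinear.add_left
    (fun a x y => by rw [hQ.polar_bilinear.smul_left, smul_eq_mul])

@[simp] theorem toQF_apply (Q : (ι → F) → F) (hQ : Cfsg.Geo.IsNondegenerateQuadraticForm Q)
    (x : ι → F) : toQF Q hQ x = Q x := rfl

theorem coe_toQF (Q : (ι → F) → F) (hQ : Cfsg.Geo.IsNondegenerateQuadraticForm Q) :
    ⇑(toQF Q hQ) = Q := rfl

theorem toQF_nondegenerate (Q : (ι → F) → F) (hQ : Cfsg.Geo.IsNondegenerateQuadraticForm Q) :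
    (polarBilin (toQF Q hQ)).Nondegenerate := by
  rw [Cfsg.Agent.Lib.H13.nondegenerate_polar_iff]
  intro x hx
  by_contra h0
  obtain ⟨y, hy⟩ := (hQ.nondegenerate x h0).2
  exact hy (hx y)

variable (Q : QuadraticForm F (ι → F))

theorem gl_ext {g h : GL ι F}
    (H : ∀ x : ι → F, (g : Matrix ι ι F) *ᵥ x = (h : Matrix ι ι F) *ᵥ x) : g = h :=
  Units.ext (Matrix.ext_iff_mulVec.mpr H)

theorem gl_mul_mulVec (g h : GL ι F) (x : ι → F) :
    ((g * h : GL ι F) : Matrix ι ι F) *ᵥ x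
      = (g : Matrix ι ι F) *ᵥ ((h : Matrix ι ι F) *ᵥ x) := by
  rw [Units.val_mul, Matrix.mulVec_mulVec]

theorem gl_inv_mulVec (g : GL ι F) (x : ι → F) :
    ((g⁻¹ : GL ι F) : Matrix ι ι F) *ᵥ ((g : Matrix ι ι F) *ᵥ x) = x := by
  rw [Matrix.mulVec_mulVec, ← Units.val_mul, inv_mul_cancel, Units.val_one, Matrix.one_mulVec]

theorem gl_mulVec_inv (g : GL ι F) (x : ι → F) :
    (g : Matrix ι ι F) *ᵥ (((g⁻¹ : GL ι F) : Matrix ι ι F) *ᵥ x) = x := by
  rw [Matrix.mulVec_mulVec, ← Units.val_mul, mul_inv_cancel, Units.val_one, Matrix.one_mulVec]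

theorem polar_self' (a : ι → F) : polar Q a a = 2 * Q a := by
  rw [QuadraticMap.polar_self]; simp

/-- the reflection (orthogonal transvection) in `a`, as a linear map -/
noncomputable def reflLin (a : ι → F) : (ι → F) →ₗ[F] (ι → F) where
  toFun x := x - ((Q a)⁻¹ * polar Q x a) • a
  map_add' x y := by
    rw [polar_add_left]; module
  map_smul' c x := by
    rw [polar_smul_left, RingHom.id_apply, smul_eq_mul]; module

theorem reflLin_apply (a x : ι → F) : reflLin Q a x = x - ((Q a)⁻¹ * polar Q x a) • a := rfl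

theorem reflLin_reflLin (a : ι → F) (ha : Q a ≠ 0) (x : ι → F) :
    reflLin Q a (reflLin Q a x) = x := by
  rw [reflLin_apply, reflLin_apply, polar_sub_left, polar_smul_left, polar_self', smul_eq_mul]
  have : (Q a)⁻¹ * (polar Q x a - (Q a)⁻¹ * polar Q x a * (2 * Q a))
      = - ((Q a)⁻¹ * polar Q x a) := by
    field_simp
    ring
  rw [this]
  module

theorem reflLin_comp_self (a : ι → F) (ha : Q a ≠ 0) :
    reflLin Q a ∘ₗ reflLin Q a = LinearMap.id :=
  LinearMap.ext fun x => reflLin_reflLin Q a ha x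

/-- the reflection in `a` as an element of `GL` -/
noncomputable def refl (a : ι → F) (ha : Q a ≠ 0) : GL ι F :=
  ⟨LinearMap.toMatrix' (reflLin Q a), LinearMap.toMatrix' (reflLin Q a),
    by rw [← LinearMap.toMatrix'_comp, reflLin_comp_self Q a ha, LinearMap.toMatrix'_id],
    by rw [← LinearMap.toMatrix'_comp, reflLin_comp_self Q a ha, LinearMap.toMatrix'_id]⟩

theorem refl_mulVec (a : ι → F) (ha : Q a ≠ 0) (x : ι → F) :
    ((refl Q a ha : GL ι F) : Matrix ι ι F) *ᵥ x = x - ((Q a)⁻¹ * polar Q x a) • a :=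
  LinearMap.toMatrix'_mulVec _ _

theorem refl_inv (a : ι → F) (ha : Q a ≠ 0) : (refl Q a ha)⁻¹ = refl Q a ha := rfl

theorem refl_mul_self (a : ι → F) (ha : Q a ≠ 0) : refl Q a ha * refl Q a ha = 1 := by
  conv_lhs => rw [← refl_inv Q a ha]
  exact inv_mul_cancel _

theorem Q_refl (a : ι → F) (ha : Q a ≠ 0) (x : ι → F) :
    Q (((refl Q a ha : GL ι F) : Matrix ι ι F) *ᵥ x) = Q x := by
  rw [refl_mulVec, sub_eq_add_neg, ← neg_smul, QuadraticMap.map_add (⇑Q), QuadraticMap.map_smul,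
    polar_smul_right, smul_eq_mul, smul_eq_mul]
  field_simp
  ring

theorem mem_isometryGroup_iff (g : GL ι F) :
    g ∈ Cfsg.isometryGroup F (⇑Q) ↔ ∀ x, Q ((g : Matrix ι ι F) *ᵥ x) = Q x := by
  constructor
  · intro h x
    exact h x x
  · intro h x _
    exact h x

theorem refl_mem (a : ι → F) (ha : Q a ≠ 0) : refl Q a ha ∈ Cfsg.isometryGroup F (⇑Q) :=
  (mem_isometryGroup_iff Q _).mpr (Q_refl Q a ha)

theorem polar_isometry {g : GL ι F} (hg : g ∈ Cfsg.isometryGroup F (⇑Q)) (x y : ι → F) :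
    polar Q ((g : Matrix ι ι F) *ᵥ x) ((g : Matrix ι ι F) *ᵥ y) = polar Q x y := by
  rw [mem_isometryGroup_iff] at hg
  unfold polar
  rw [← Matrix.mulVec_add, hg, hg, hg]

/-- conjugating a reflection by an isometry -/
theorem conj_refl {g : GL ι F} (hg : g ∈ Cfsg.isometryGroup F (⇑Q)) (a : ι → F) (ha : Q a ≠ 0)
    (ha' : Q ((g : Matrix ι ι F) *ᵥ a) ≠ 0) :
    g * refl Q a ha * g⁻¹ = refl Q ((g : Matrix ι ι F) *ᵥ a) ha' := by
  apply gl_ext
  intro x
  rw [gl_mul_mulVec, gl_mul_mulVec, refl_mulVec, refl_mulVec, Matrix.mulVec_sub,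
    Matrix.mulVec_smul, gl_mulVec_inv]
  have h1 : Q ((g : Matrix ι ι F) *ᵥ a) = Q a := (mem_isometryGroup_iff Q g).mp hg a
  have h2 : polar Q (((g⁻¹ : GL ι F) : Matrix ι ι F) *ᵥ x) a
      = polar Q x ((g : Matrix ι ι F) *ᵥ a) := by
    rw [← polar_isometry Q hg, gl_mulVec_inv]
  rw [h1, h2]

theorem refl_neg (a : ι → F) (ha : Q a ≠ 0) (ha' : Q (-a) ≠ 0) :
    refl Q (-a) ha' = refl Q a ha := by
  apply gl_ext
  intro x
  rw [refl_mulVec, refl_mulVec, QuadraticMap.map_neg, polar_neg_right]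
  module

theorem mem_omegaGL_of_commutator {g h : GL ι F} (hg : g ∈ Cfsg.isometryGroup F (⇑Q))
    (hh : h ∈ Cfsg.isometryGroup F (⇑Q)) : g * h * g⁻¹ * h⁻¹ ∈ Cfsg.Geo.omegaGL (⇑Q) := by
  refine ⟨⁅(⟨g, hg⟩ : ↥(Cfsg.isometryGroup F (⇑Q))), (⟨h, hh⟩ : ↥(Cfsg.isometryGroup F (⇑Q)))⁆, ?_, ?_⟩
  · exact Subgroup.commutator_mem_commutator (Subgroup.mem_top _) (Subgroup.mem_top _)
  · rfl

theorem omegaGL_le_isometryGroup : Cfsg.Geo.omegaGL (⇑Q) ≤ Cfsg.isometryGroup F (⇑Q) := by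
  rintro g ⟨x, -, rfl⟩
  exact x.2

/-- the product of two reflections in vectors of the same norm lies in `Ω`, provided that the
difference of the two vectors is non-singular -/
theorem refl_mul_refl_mem_omega (a b : ι → F) (ha : Q a ≠ 0) (hb : Q b ≠ 0) (hab : Q a = Q b)
    (hd : Q (a - b) ≠ 0) : refl Q a ha * refl Q b hb ∈ Cfsg.Geo.omegaGL (⇑Q) := by
  have hpol : polar Q a (a - b) = Q (a - b) := by
    rw [polar_sub_right, polar_self', sub_eq_add_neg a b, QuadraticMap.map_add (⇑Q),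
      QuadraticMap.map_neg, polar_neg_right, ← hab]
    ring
  have himg : ((refl Q (a - b) hd : GL ι F) : Matrix ι ι F) *ᵥ a = b := by
    rw [refl_mulVec, hpol, inv_mul_cancel₀ hd, one_smul]
    abel
  have hb' : Q (((refl Q (a - b) hd : GL ι F) : Matrix ι ι F) *ᵥ a) ≠ 0 := by rwa [himg]
  have hconj := conj_refl Q (refl_mem Q (a - b) hd) a ha hb'
  have hbe : refl Q b hb = refl Q (a - b) hd * refl Q a ha * (refl Q (a - b) hd)⁻¹ := by
    rw [hconj]
    congr 1
    exact himg.symm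
  have := mem_omegaGL_of_commutator Q (refl_mem Q a ha) (refl_mem Q (a - b) hd)
  rw [refl_inv Q a ha] at this
  rw [hbe]
  convert this using 1
  simp only [mul_assoc]

/-- variant with the sum of the two vectors non-singular -/
theorem refl_mul_refl_mem_omega' (a b : ι → F) (ha : Q a ≠ 0) (hb : Q b ≠ 0) (hab : Q a = Q b)
    (hd : Q (a + b) ≠ 0) : refl Q a ha * refl Q b hb ∈ Cfsg.Geo.omegaGL (⇑Q) := by
  have hb' : Q (-b) ≠ 0 := by rwa [QuadraticMap.map_neg]
  have := refl_mul_refl_mem_omega Q a (-b) ha hb' (by rw [QuadraticMap.map_neg]; exact hab)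
    (by rwa [sub_neg_eq_add])
  rwa [refl_neg Q b hb hb'] at this

/-- membership in the stabiliser of a subspace from invariance under `g` and `g⁻¹` -/
theorem mem_subspaceStabilizer_of (W : Submodule F (ι → F)) (g : GL ι F)
    (h1 : ∀ x ∈ W, (g : Matrix ι ι F) *ᵥ x ∈ W)
    (h2 : ∀ x ∈ W, ((g⁻¹ : GL ι F) : Matrix ι ι F) *ᵥ x ∈ W) :
    g ∈ Cfsg.Geo.subspaceStabilizer W := by
  intro x
  constructor
  · exact h1 x
  · intro hx
    have := h2 _ hx
    change ((g⁻¹ : GL ι F) : Matrix ι ι F) *ᵥ ((g : Matrix ι ι F) *ᵥ x) ∈ W at this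
    rwa [gl_inv_mulVec] at this

theorem mulVec_mem_of_mem_subspaceStabilizer {W : Submodule F (ι → F)} {g : GL ι F}
    (hg : g ∈ Cfsg.Geo.subspaceStabilizer W) {x : ι → F} (hx : x ∈ W) :
    (g : Matrix ι ι F) *ᵥ x ∈ W :=
  (hg x).mp hx

theorem refl_mulVec_of_one (a : ι → F) (ha : Q a ≠ 0) (ha1 : Q a = 1) (x : ι → F) :
    ((refl Q a ha : GL ι F) : Matrix ι ι F) *ᵥ x = x - polar Q x a • a := by
  rw [refl_mulVec, ha1, inv_one, one_mul]

omit [Fintype ι] [DecidableEq ι] in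
theorem span_pair' {V : Type*} [AddCommGroup V] [Module F V] [FiniteDimensional F V]
    (W : Submodule F V) (hW : Module.finrank F W = 2) (a b : V) (ha : a ∈ W) (hb : b ∈ W)
    (hind : ∀ s t : F, s • a + t • b = 0 → s = 0 ∧ t = 0) (d : V) (hd : d ∈ W) :
    ∃ c₁ c₂ : F, d = c₁ • a + c₂ • b := by
  have li : LinearIndependent F ![(⟨a, ha⟩ : W), ⟨b, hb⟩] := by
    rw [LinearIndependent.pair_iff]
    intro s t h
    apply hind
    have := congrArg Subtype.val h
    simpa using this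
  have htop := li.span_eq_top_of_card_eq_finrank' (by simp [hW])
  have hmem : (⟨d, hd⟩ : W) ∈ Submodule.span F (Set.range ![(⟨a, ha⟩ : W), ⟨b, hb⟩]) := by
    rw [htop]; trivial
  rw [Matrix.range_cons, Matrix.range_cons, Matrix.range_empty, Set.union_empty,
    Set.singleton_union, Submodule.mem_span_pair] at hmem
  obtain ⟨c₁, c₂, h⟩ := hmem
  refine ⟨c₁, c₂, ?_⟩
  have := congrArg Subtype.val h
  simpa using this.symm

/-- a non-degenerate plane of plus type is spanned by a hyperbolic pair -/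
theorem exists_hyperbolic_basis (W : Submodule F (ι → F)) (hdim : finrank F W = 2)
    (hW : Cfsg.Geo.IsNondegenerateOn (polar (⇑Q)) W) (hplus : Cfsg.Geo.IsPlusTypeOn (⇑Q) W) :
    ∃ u v : ι → F, u ∈ W ∧ v ∈ W ∧ Q u = 0 ∧ Q v = 0 ∧ polar Q u v = 1 ∧
      ∀ x ∈ W, ∃ α β : F, x = α • u + β • v := by
  obtain ⟨U, hUW, hUs, hUd⟩ := hplus
  have hU1 : finrank F U = 1 := by omega
  have hUne : U ≠ ⊥ := by
    rintro rfl
    simp at hU1
  obtain ⟨u, huU, hu0⟩ := (Submodule.ne_bot_iff U).mp hUne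
  have huW := hUW huU
  have hQu : Q u = 0 := hUs u huU
  obtain ⟨x, hxW, hx⟩ := (hW u huW hu0).2
  have h1 : polar Q u ((polar Q u x)⁻¹ • x) = 1 := by
    rw [polar_smul_right, smul_eq_mul, inv_mul_cancel₀ hx]
  have hv1W : (polar Q u x)⁻¹ • x ∈ W := W.smul_mem _ hxW
  generalize (polar Q u x)⁻¹ • x = v1 at h1 hv1W
  have hQv : Q (v1 + (-(Q v1)) • u) = 0 := by
    rw [QuadraticMap.map_add (⇑Q), QuadraticMap.map_smul, hQu, polar_smul_right, polar_comm, h1]
    simp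
  have huv : polar Q u (v1 + (-(Q v1)) • u) = 1 := by
    rw [polar_add_right, polar_smul_right, polar_self', hQu, h1]
    simp
  have hvW : v1 + (-(Q v1)) • u ∈ W := W.add_mem hv1W (W.smul_mem _ huW)
  generalize v1 + (-(Q v1)) • u = v at hQv huv hvW
  refine ⟨u, v, huW, hvW, hQu, hQv, huv, ?_⟩
  apply span_pair' W hdim u v huW hvW
  intro s t hst
  have e1 : polar Q u (s • u + t • v) = t := by
    rw [polar_add_right, polar_smul_right, polar_smul_right, polar_self', hQu, huv]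
    simp
  have e2 : polar Q (s • u + t • v) v = s := by
    rw [polar_add_left, polar_smul_left, polar_smul_left, polar_self', hQv, huv]
    simp
  rw [hst] at e1 e2
  simp only [polar_zero_left, polar_zero_right] at e1 e2
  exact ⟨e2.symm, e1.symm⟩

/-- a second hyperbolic pair orthogonal to a given one, in dimension at least five over a finite
field -/
theorem exists_hyperbolic_pair_orth [Finite F] (hQ : (polarBilin Q).Nondegenerate)
    (u v : ι → F) (hu : Q u = 0) (hv : Q v = 0) (huv : polar Q u v = 1)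
    (hcard : 5 ≤ Fintype.card ι) :
    ∃ u₂ v₂ : ι → F, Q u₂ = 0 ∧ Q v₂ = 0 ∧ polar Q u₂ v₂ = 1 ∧ polar Q u u₂ = 0 ∧ polar Q v u₂ = 0 ∧
      polar Q u v₂ = 0 ∧ polar Q v v₂ = 0 := by
  have hfr := Cfsg.Agent.Lib.H13.finrank_pairOrth Q u v hu hv huv
  rw [Module.finrank_fintype_fun_eq_card] at hfr
  have h3 : 3 ≤ finrank F (Cfsg.Agent.Lib.H13.pairOrth Q u v) := by omega
  obtain ⟨u₂, hu₂0, hu₂⟩ := Cfsg.Agent.Lib.H13.exists_singular_of_three_le
    (Q.comp (Cfsg.Agent.Lib.H13.pairOrth Q u v).subtype) h3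
  obtain ⟨v₂, hv₂, huv₂⟩ := Cfsg.Agent.Lib.H13.exists_hyperbolic_pair
    (Q.comp (Cfsg.Agent.Lib.H13.pairOrth Q u v).subtype)
    (Cfsg.Agent.Lib.H13.nondegenerate_pairOrth Q u v hu hv huv hQ) u₂ hu₂0 hu₂
  have m1 := (Cfsg.Agent.Lib.H13.mem_pairOrth Q u v u₂).mp u₂.2
  have m2 := (Cfsg.Agent.Lib.H13.mem_pairOrth Q u v v₂).mp v₂.2
  refine ⟨u₂, v₂, hu₂, hv₂, ?_, m1.1, m1.2, m2.1, m2.2⟩
  exact huv₂

end Cfsg.Agent.Lib.H29.Orth
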