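import Cfsg.Agent.Lib.H29.Orth

/-!
# Orthogonal decompositions over `F₃` into blocks with an equal-norm orthogonal basis:
the stabiliser in `Ω` is not maximal (helper29)
-/

set_option autoImplicit false

namespace Cfsg.Agent.Lib.H29.Orth

open Matrix QuadraticMap Module

variable {ι : Type} [Fintype ι] [DecidableEq ι] {F : Type*} [Field F]

/-- the stabiliser of a set of vectors -/
def setStab (S : Set (ι → F)) : Subgroup (GL ι F) := Cfsg.stabilizing (Cfsg.glToMat ι F) S

theorem mem_setStab (S : Set (ι → F)) (g : GL ι F) :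
    g ∈ setStab S ↔ ∀ v, v ∈ S ↔ (g : Matrix ι ι F) *ᵥ v ∈ S := Iff.rfl

theorem mem_setStab_of (S : Set (ι → F)) (g : GL ι F)
    (h1 : ∀ x ∈ S, (g : Matrix ι ι F) *ᵥ x ∈ S)
    (h2 : ∀ x ∈ S, ((g⁻¹ : GL ι F) : Matrix ι ι F) *ᵥ x ∈ S) : g ∈ setStab S := by
  rw [mem_setStab]
  intro x
  constructor
  · exact h1 x
  · intro hx
    have := h2 _ hx
    rwa [gl_inv_mulVec] at this

theorem le_setStab (S : Set (ι → F)) (H : Subgroup (GL ι F))
    (h : ∀ g ∈ H, ∀ v ∈ S, (g : Matrix ι ι F) *ᵥ v ∈ S) : H ≤ setStab S := by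
  intro g hg
  exact mem_setStab_of S g (h g hg) (h g⁻¹ (inv_mem hg))

theorem mulVec_mem_of_mem_setStab {S : Set (ι → F)} {g : GL ι F} (hg : g ∈ setStab S)
    {x : ι → F} (hx : x ∈ S) : (g : Matrix ι ι F) *ᵥ x ∈ S :=
  ((mem_setStab S g).mp hg x).mp hx

section F3

variable [Fintype F]

theorem f3_three (hq : Fintype.card F = 3) : (3 : F) = 0 := by
  have := Nat.cast_card_eq_zero F
  rw [hq] at this
  exact_mod_cast this

theorem f3_two_ne (hq : Fintype.card F = 3) : (2 : F) ≠ 0 := by
  intro h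
  have : (1 : F) = 0 := by linear_combination f3_three hq - h
  exact one_ne_zero this

theorem f3_cases (hq : Fintype.card F = 3) (x : F) : x = 0 ∨ x = 1 ∨ x = -1 := by
  classical
  have h2 := f3_two_ne hq
  have h1 : (1 : F) ≠ -1 := by
    intro h
    apply h2
    linear_combination h
  have hcard : ({0, 1, -1} : Finset F).card = 3 := by
    rw [Finset.card_insert_of_notMem, Finset.card_insert_of_notMem, Finset.card_singleton]
    · simpa using h1
    · simp only [Finset.mem_insert, Finset.mem_singleton, not_or]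
      exact ⟨zero_ne_one, fun h => one_ne_zero (neg_eq_zero.mp h.symm)⟩
  have huniv : ({0, 1, -1} : Finset F) = Finset.univ :=
    Finset.eq_univ_of_card _ (by rw [hcard, hq])
  have := Finset.mem_univ x
  rw [← huniv] at this
  simpa using this

theorem f3_mul_self [DecidableEq F] (hq : Fintype.card F = 3) (x : F) :
    x * x = if x = 0 then 0 else 1 := by
  rcases f3_cases hq x with h | h | h
  · simp [h]
  · simp [h]
  · have : (-1 : F) ≠ 0 := neg_ne_zero.mpr one_ne_zero
    simp [h]

end F3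

theorem polar_sum_right' (Q : QuadraticForm F (ι → F)) {κ : Type*} (x : ι → F) (s : Finset κ)
    (f : κ → ι → F) : polar Q x (∑ j ∈ s, f j) = ∑ j ∈ s, polar Q x (f j) := by
  exact map_sum (polarBilin Q x) f s

theorem Q_sum_orth (Q : QuadraticForm F (ι → F)) {κ : Type*} [Fintype κ]
    (b : κ → ι → F) (hb : ∀ j j', j ≠ j' → polar Q (b j) (b j') = 0) (c : κ → F) :
    Q (∑ j, c j • b j) = ∑ j, c j * c j * Q (b j) := by
  classical
  suffices h : ∀ s : Finset κ, Q (∑ j ∈ s, c j • b j) = ∑ j ∈ s, c j * c j * Q (b j) from h _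
  intro s
  induction s using Finset.induction_on with
  | empty => simp
  | insert a s ha ih =>
    rw [Finset.sum_insert ha, Finset.sum_insert ha, QuadraticMap.map_add (⇑Q), ih,
      QuadraticMap.map_smul, polar_sum_right', smul_eq_mul]
    have : ∑ j ∈ s, polar Q (c a • b a) (c j • b j) = 0 := by
      apply Finset.sum_eq_zero
      intro j hj
      have hne : a ≠ j := by
        rintro rfl
        exact ha hj
      rw [polar_smul_left, polar_smul_right, hb a j hne]
      simp
    rw [this, add_zero]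

/-- **Frame theorem.**  Over `F₃`, let `D` be a family of at least five pairwise orthogonal
subspaces, each with an orthogonal basis of `k ∈ {2, 3}` vectors of the same norm `d`.  Then
the stabiliser of `D` in `Ω` lies strictly between... the stabiliser in `Ω` of the set of vectors
of norm `d` in the blocks, which is a proper subgroup of `Ω`. -/
theorem frame_not_maximal [Fintype F] (hq : Fintype.card F = 3) (Q : QuadraticForm F (ι → F))
    {t k : ℕ} (hk2 : 2 ≤ k) (hk3 : k ≤ 3) (ht : 5 ≤ t)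
    (D : Fin t → Submodule F (ι → F))
    (horth : ∀ i i', i ≠ i' → ∀ x ∈ D i, ∀ y ∈ D i', polar Q x y = 0)
    (d : F) (hd : d ≠ 0) (e : Fin t → Fin k → (ι → F))
    (heD : ∀ i j, e i j ∈ D i) (heQ : ∀ i j, Q (e i j) = d)
    (heo : ∀ i j j', j ≠ j' → polar Q (e i j) (e i j') = 0)
    (hspan : ∀ i, ∀ x ∈ D i, ∃ c : Fin k → F, x = ∑ j, c j • e i j) :
    ∃ K : Subgroup (GL ι F), Cfsg.Geo.decompositionStabilizer D ⊓ Cfsg.Geo.omegaGL (⇑Q) < K ∧
      K < Cfsg.Geo.omegaGL (⇑Q) := by
  classical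
  have h3 := f3_three (F := F) hq
  have h2 := f3_two_ne (F := F) hq
  have h2d : 2 * d ≠ 0 := mul_ne_zero h2 hd
  -- polar values on the frame
  have polC : ∀ i j, polar Q (e i j) (e i j) = 2 * d := by
    intro i j
    rw [polar_self', heQ]
  have polD : ∀ i j i' j', (i ≠ i' ∨ j ≠ j') → polar Q (e i j) (e i' j') = 0 := by
    intro i j i' j' h
    by_cases hi : i = i'
    · subst hi
      rcases h with h | h
      · exact absurd rfl h
      · exact heo i j j' h
    · exact horth i i' hi _ (heD i j) _ (heD i' j')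
  have Qadd : ∀ x y : ι → F, Q (x + y) = Q x + Q y + polar Q x y := QuadraticMap.map_add (⇑Q)
  have Qsub : ∀ x y : ι → F, Q (x - y) = Q x + Q y - polar Q x y := by
    intro x y
    rw [sub_eq_add_neg, Qadd, QuadraticMap.map_neg, polar_neg_right]
    ring
  -- the set of frame vectors
  set S : Set (ι → F) := {x | Q x = d ∧ ∃ i, x ∈ D i} with hSdef
  have hSneg : ∀ x ∈ S, -x ∈ S := by
    rintro x ⟨h1, i, hi⟩
    exact ⟨by rw [QuadraticMap.map_neg, h1], i, (D i).neg_mem hi⟩
  have heS : ∀ i j, e i j ∈ S := fun i j => ⟨heQ i j, i, heD i j⟩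
  have hS : ∀ x ∈ S, ∃ i j, x = e i j ∨ x = -e i j := by
    rintro x ⟨hx, i, hi⟩
    obtain ⟨c, rfl⟩ := hspan i x hi
    rw [Q_sum_orth Q (e i) (heo i) c] at hx
    have hx' : (∑ j, c j * c j) * d = 1 * d := by
      rw [Finset.sum_mul, one_mul]
      have : ∑ j, c j * c j * d = ∑ j, c j * c j * Q (e i j) :=
        Finset.sum_congr rfl fun j _ => by rw [heQ]
      rw [this, hx]
    have hx'' := mul_right_cancel₀ hd hx'
    have hcount : (∑ j, c j * c j) = ((Finset.univ.filter fun j => c j ≠ 0).card : F) := by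
      rw [← Finset.sum_boole]
      refine Finset.sum_congr rfl fun j _ => ?_
      rw [f3_mul_self hq]
      by_cases h : c j = 0 <;> simp [h]
    rw [hcount] at hx''
    have hle : (Finset.univ.filter fun j => c j ≠ 0).card ≤ 3 := by
      calc _ ≤ (Finset.univ : Finset (Fin k)).card := Finset.card_filter_le _ _
        _ = k := by simp
        _ ≤ 3 := hk3
    have hone : (Finset.univ.filter fun j => c j ≠ 0).card = 1 := by
      generalize (Finset.univ.filter fun j => c j ≠ 0).card = N at hx'' hle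
      interval_cases N
      · exfalso
        simp at hx''
      · rfl
      · exfalso
        have : (1 : F) = 0 := by
          have h := hx''
          push_cast at h
          linear_combination h
        exact one_ne_zero this
      · exfalso
        have : (1 : F) = 0 := by
          have h := hx''
          push_cast at h
          linear_combination h3 - h
        exact one_ne_zero this
    obtain ⟨a, ha⟩ := Finset.card_eq_one.mp hone
    have hca : c a ≠ 0 := by
      have : a ∈ Finset.univ.filter fun j => c j ≠ 0 := by rw [ha]; exact Finset.mem_singleton_self a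
      exact (Finset.mem_filter.mp this).2
    have hcj : ∀ j, j ≠ a → c j = 0 := by
      intro j hj
      by_contra h
      have : j ∈ Finset.univ.filter fun j => c j ≠ 0 := Finset.mem_filter.mpr ⟨Finset.mem_univ j, h⟩
      rw [ha] at this
      exact hj (Finset.mem_singleton.mp this)
    have hsum : ∑ j, c j • e i j = c a • e i a := by
      apply Finset.sum_eq_single a
      · intro j _ hj
        rw [hcj j hj, zero_smul]
      · intro h
        exact absurd (Finset.mem_univ a) h
    refine ⟨i, a, ?_⟩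
    rw [hsum]
    rcases f3_cases hq (c a) with h | h | h
    · exact absurd h hca
    · left; rw [h, one_smul]
    · right; rw [h, neg_smul, one_smul]
  -- reflections swapping two frame vectors stabilise `S`
  have hswap : ∀ i i' j j', i ≠ i' → ∀ hx : Q (e i j - e i' j') ≠ 0,
      refl Q (e i j - e i' j') hx ∈ setStab S := by
    intro i i' j j' hii' hx
    have hQx : Q (e i j - e i' j') = 2 * d := by
      rw [Qsub, heQ, heQ, polD i j i' j' (Or.inl hii')]
      ring
    have key : ∀ i₀ j₀, ((refl Q (e i j - e i' j') hx : GL ι F) : Matrix ι ι F) *ᵥ (e i₀ j₀) ∈ S := by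
      intro i₀ j₀
      rw [refl_mulVec, hQx, polar_sub_right]
      by_cases h1 : i₀ = i ∧ j₀ = j
      · obtain ⟨rfl, rfl⟩ := h1
        rw [polC, polD i₀ j₀ i' j' (Or.inl hii'), sub_zero, inv_mul_cancel₀ h2d, one_smul]
        have : e i₀ j₀ - (e i₀ j₀ - e i' j') = e i' j' := by abel
        rw [this]
        exact heS _ _
      · by_cases h2' : i₀ = i' ∧ j₀ = j'
        · obtain ⟨rfl, rfl⟩ := h2'
          rw [polC, polD i₀ j₀ i j (Or.inl (Ne.symm hii')), zero_sub, mul_neg,
            inv_mul_cancel₀ h2d, neg_smul, one_smul]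
          have : e i₀ j₀ - -(e i j - e i₀ j₀) = e i j := by abel
          rw [this]
          exact heS _ _
        · have e1 : polar Q (e i₀ j₀) (e i j) = 0 := by
            apply polD
            by_contra hcon
            push Not at hcon
            exact h1 hcon
          have e2 : polar Q (e i₀ j₀) (e i' j') = 0 := by
            apply polD
            by_contra hcon
            push Not at hcon
            exact h2' hcon
          rw [e1, e2, sub_zero, mul_zero, zero_smul, sub_zero]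
          exact heS _ _
    have key2 : ∀ v ∈ S, ((refl Q (e i j - e i' j') hx : GL ι F) : Matrix ι ι F) *ᵥ v ∈ S := by
      intro v hv
      obtain ⟨i₀, j₀, rfl | rfl⟩ := hS v hv
      · exact key i₀ j₀
      · rw [Matrix.mulVec_neg]
        exact hSneg _ (key i₀ j₀)
    apply mem_setStab_of S _ key2
    rw [refl_inv]
    exact key2
  -- indices
  let i1 : Fin t := ⟨0, by omega⟩
  let i2 : Fin t := ⟨1, by omega⟩
  let i3 : Fin t := ⟨2, by omega⟩
  let i4 : Fin t := ⟨3, by omega⟩
  let i5 : Fin t := ⟨4, by omega⟩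
  let j0 : Fin k := ⟨0, by omega⟩
  let j1 : Fin k := ⟨1, by omega⟩
  have n12 : i1 ≠ i2 := by simp [i1, i2, Fin.ext_iff]
  have n13 : i1 ≠ i3 := by simp [i1, i3, Fin.ext_iff]
  have n14 : i1 ≠ i4 := by simp [i1, i4, Fin.ext_iff]
  have n15 : i1 ≠ i5 := by simp [i1, i5, Fin.ext_iff]
  have n23 : i2 ≠ i3 := by simp [i2, i3, Fin.ext_iff]
  have n24 : i2 ≠ i4 := by simp [i2, i4, Fin.ext_iff]
  have n25 : i2 ≠ i5 := by simp [i2, i5, Fin.ext_iff]
  have n34 : i3 ≠ i4 := by simp [i3, i4, Fin.ext_iff]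
  have n35 : i3 ≠ i5 := by simp [i3, i5, Fin.ext_iff]
  have n45 : i4 ≠ i5 := by simp [i4, i5, Fin.ext_iff]
  have nj : j0 ≠ j1 := by simp [j0, j1, Fin.ext_iff]
  refine ⟨setStab S ⊓ Cfsg.Geo.omegaGL (⇑Q), ?_, ?_⟩
  · rw [SetLike.lt_iff_le_and_exists]
    refine ⟨?_, ?_⟩
    · -- the stabiliser of `D` stabilises `S`
      refine le_inf (le_setStab S _ ?_) inf_le_right
      rintro g hg x ⟨hx, i, hi⟩
      obtain ⟨⟨σ, hσ⟩, hgΩ⟩ := Subgroup.mem_inf.mp hg
      have hgI := (mem_isometryGroup_iff Q g).mp (omegaGL_le_isometryGroup Q hgΩ)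
      refine ⟨by rw [hgI, hx], σ i, ?_⟩
      rw [← hσ i]
      exact ⟨x, hi, by rw [Matrix.toLin'_apply]⟩
    · -- an element of `K` outside the stabiliser of `D`
      have hQx : Q (e i1 j0 - e i2 j0) = 2 * d := by
        rw [Qsub, heQ, heQ, polD _ _ _ _ (Or.inl n12)]; ring
      have hQy : Q (e i3 j0 - e i4 j0) = 2 * d := by
        rw [Qsub, heQ, heQ, polD _ _ _ _ (Or.inl n34)]; ring
      have hx0 : Q (e i1 j0 - e i2 j0) ≠ 0 := by rw [hQx]; exact h2d
      have hy0 : Q (e i3 j0 - e i4 j0) ≠ 0 := by rw [hQy]; exact h2d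
      have hxy : Q (e i1 j0 - e i2 j0 - (e i3 j0 - e i4 j0)) ≠ 0 := by
        rw [Qsub, hQx, hQy]
        simp only [polar_sub_left, polar_sub_right, polD _ _ _ _ (Or.inl n13),
          polD _ _ _ _ (Or.inl n14), polD _ _ _ _ (Or.inl n23), polD _ _ _ _ (Or.inl n24)]
        intro h0
        apply hd
        linear_combination h0 - d * h3
      have hΩ := refl_mul_refl_mem_omega Q _ _ hx0 hy0 (by rw [hQx, hQy]) hxy
      refine ⟨refl Q _ hx0 * refl Q _ hy0,
        Subgroup.mem_inf.mpr ⟨mul_mem (hswap _ _ _ _ n12 hx0) (hswap _ _ _ _ n34 hy0), hΩ⟩, ?_⟩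
      intro hcon
      obtain ⟨σ, hσ⟩ := (Subgroup.mem_inf.mp hcon).1
      -- images of two vectors of the first block
      have im1 : ((refl Q _ hx0 * refl Q _ hy0 : GL ι F) : Matrix ι ι F) *ᵥ (e i1 j0) = e i2 j0 := by
        rw [gl_mul_mulVec, refl_mulVec, refl_mulVec, hQx, hQy]
        have e1 : polar Q (e i1 j0) (e i3 j0 - e i4 j0) = 0 := by
          rw [polar_sub_right, polD _ _ _ _ (Or.inl n13), polD _ _ _ _ (Or.inl n14), sub_zero]
        rw [e1, mul_zero, zero_smul, sub_zero]
        have e2 : polar Q (e i1 j0) (e i1 j0 - e i2 j0) = 2 * d := by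
          rw [polar_sub_right, polC, polD _ _ _ _ (Or.inl n12), sub_zero]
        rw [e2, inv_mul_cancel₀ h2d, one_smul]
        abel
      have im2 : ((refl Q _ hx0 * refl Q _ hy0 : GL ι F) : Matrix ι ι F) *ᵥ (e i1 j1) = e i1 j1 := by
        rw [gl_mul_mulVec, refl_mulVec, refl_mulVec, hQx, hQy]
        have e1 : polar Q (e i1 j1) (e i3 j0 - e i4 j0) = 0 := by
          rw [polar_sub_right, polD _ _ _ _ (Or.inl n13), polD _ _ _ _ (Or.inl n14), sub_zero]
        rw [e1, mul_zero, zero_smul, sub_zero]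
        have e2 : polar Q (e i1 j1) (e i1 j0 - e i2 j0) = 0 := by
          rw [polar_sub_right, polD _ _ _ _ (Or.inr (Ne.symm nj)), polD _ _ _ _ (Or.inl n12),
            sub_zero]
        rw [e2, mul_zero, zero_smul, sub_zero]
      have m1 : e i2 j0 ∈ D (σ i1) := by
        rw [← hσ i1]
        refine ⟨e i1 j0, heD _ _, ?_⟩
        rw [Matrix.toLin'_apply]
        exact im1
      have m2 : e i1 j1 ∈ D (σ i1) := by
        rw [← hσ i1]
        refine ⟨e i1 j1, heD _ _, ?_⟩
        rw [Matrix.toLin'_apply]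
        exact im2
      have hσ1 : σ i1 = i2 := by
        by_contra hne
        have := horth _ _ hne _ m1 _ (heD i2 j0)
        rw [polC] at this
        exact h2d this
      rw [hσ1] at m2
      have := horth _ _ n12 _ (heD i1 j1) _ m2
      rw [polC] at this
      exact h2d this
  · rw [SetLike.lt_iff_le_and_exists]
    refine ⟨inf_le_right, ?_⟩
    have hQx : Q (e i1 j0 + e i2 j0 + e i3 j0 + e i4 j0) = d := by
      simp only [Qadd, heQ, polar_add_left, polD _ _ _ _ (Or.inl n12), polD _ _ _ _ (Or.inl n13),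
        polD _ _ _ _ (Or.inl n14), polD _ _ _ _ (Or.inl n23), polD _ _ _ _ (Or.inl n24),
        polD _ _ _ _ (Or.inl n34)]
      linear_combination d * h3
    have hx0 : Q (e i1 j0 + e i2 j0 + e i3 j0 + e i4 j0) ≠ 0 := by rw [hQx]; exact hd
    have hy0 : Q (e i5 j0) ≠ 0 := by rw [heQ]; exact hd
    have hpxy : polar Q (e i1 j0 + e i2 j0 + e i3 j0 + e i4 j0) (e i5 j0) = 0 := by
      simp only [polar_add_left, polD _ _ _ _ (Or.inl n15), polD _ _ _ _ (Or.inl n25),
        polD _ _ _ _ (Or.inl n35), polD _ _ _ _ (Or.inl n45)]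
      ring
    have hxy : Q (e i1 j0 + e i2 j0 + e i3 j0 + e i4 j0 - e i5 j0) ≠ 0 := by
      rw [Qsub, hQx, heQ, hpxy, sub_zero, ← two_mul]
      exact h2d
    have hΩ := refl_mul_refl_mem_omega Q _ _ hx0 hy0 (by rw [hQx, heQ]) hxy
    refine ⟨refl Q _ hx0 * refl Q _ hy0, hΩ, ?_⟩
    intro hcon
    have hst := (Subgroup.mem_inf.mp hcon).1
    have himg := mulVec_mem_of_mem_setStab hst (heS i1 j0)
    rw [gl_mul_mulVec, refl_mulVec, refl_mulVec, polD _ _ _ _ (Or.inl n15), mul_zero, zero_smul,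
      sub_zero, hQx] at himg
    have e1 : polar Q (e i1 j0) (e i1 j0 + e i2 j0 + e i3 j0 + e i4 j0) = 2 * d := by
      simp only [polar_add_right, polC, polD _ _ _ _ (Or.inl n12), polD _ _ _ _ (Or.inl n13),
        polD _ _ _ _ (Or.inl n14)]
      ring
    rw [e1] at himg
    have e2 : d⁻¹ * (2 * d) = 2 := by field_simp
    rw [e2] at himg
    obtain ⟨-, i, hi⟩ := himg
    have p2 : polar Q (e i1 j0 - (2 : F) • (e i1 j0 + e i2 j0 + e i3 j0 + e i4 j0)) (e i2 j0)
        = -(2 * (2 * d)) := by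
      simp only [polar_sub_left, polar_smul_left, polar_add_left, polC, polD _ _ _ _ (Or.inl n12),
        polD _ _ _ _ (Or.inl n23.symm), polD _ _ _ _ (Or.inl n24.symm), smul_eq_mul]
      ring
    have p3 : polar Q (e i1 j0 - (2 : F) • (e i1 j0 + e i2 j0 + e i3 j0 + e i4 j0)) (e i3 j0)
        = -(2 * (2 * d)) := by
      simp only [polar_sub_left, polar_smul_left, polar_add_left, polC, polD _ _ _ _ (Or.inl n13),
        polD _ _ _ _ (Or.inl n23), polD _ _ _ _ (Or.inl n34.symm), smul_eq_mul]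
      ring
    have hne : -(2 * (2 * d)) ≠ 0 := neg_ne_zero.mpr (mul_ne_zero h2 h2d)
    have hi2 : i = i2 := by
      by_contra hcon2
      have := horth _ _ hcon2 _ hi _ (heD i2 j0)
      rw [p2] at this
      exact hne this
    have hi3 : i = i3 := by
      by_contra hcon2
      have := horth _ _ hcon2 _ hi _ (heD i3 j0)
      rw [p3] at this
      exact hne this
    exact n23 (hi2.symm.trans hi3)

/-- dimension count for a direct-sum decomposition into subspaces of equal dimension -/
theorem card_eq_of_decomp {t k : ℕ} (D : Fin t → Submodule F (ι → F)) (hind : iSupIndep D)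
    (htop : iSup D = ⊤) (hk : ∀ i, finrank F (D i) = k) : Fintype.card ι = t * k := by
  have hI : DirectSum.IsInternal D :=
    (DirectSum.isInternal_submodule_iff_iSupIndep_and_iSup_eq_top D).mpr ⟨hind, htop⟩
  have := Module.finrank_eq_card_basis (hI.collectedBasis (fun i => Module.finBasis F (D i)))
  rw [Module.finrank_fintype_fun_eq_card] at this
  rw [this]
  simp [hk]

/-- an orthogonal basis of non-singular vectors in a non-degenerate subspace (char ≠ 2) -/
theorem exists_orth_basis (Q : QuadraticForm F (ι → F)) (h2 : (2 : F) ≠ 0)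
    (D : Submodule F (ι → F)) {k : ℕ} (hk : finrank F D = k)
    (hD : Cfsg.Geo.IsNondegenerateOn (polar (⇑Q)) D) :
    ∃ b : Fin k → (ι → F), (∀ j, b j ∈ D) ∧ (∀ j j', j ≠ j' → polar Q (b j) (b j') = 0) ∧
      ∀ j, Q (b j) ≠ 0 := by
  have : Invertible (2 : F) := invertibleOfNonzero h2
  subst hk
  have hsymm : (polarBilin (Q.comp D.subtype)).IsSymm := by
    refine ⟨fun x y => ?_⟩
    exact polar_comm _ _ _
  obtain ⟨v, hv⟩ := LinearMap.BilinForm.exists_orthogonal_basis hsymm
  have hsep : (polarBilin (Q.comp D.subtype)).SeparatingLeft := by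
    intro x hx
    by_contra h0
    have hx0 : (x : ι → F) ≠ 0 := fun h => h0 (Subtype.ext h)
    obtain ⟨y, hyD, hy⟩ := (hD x x.2 hx0).2
    apply hy
    exact hx ⟨y, hyD⟩
  refine ⟨fun j => (v j : ι → F), fun j => (v j).2, ?_, ?_⟩
  · intro j j' hne
    exact (LinearMap.isOrthoᵢ_def.mp hv) j j' hne
  · intro j hQ0
    apply hv.not_isOrtho_basis_self_of_separatingLeft hsep j
    show polar Q (v j : ι → F) (v j : ι → F) = 0
    rw [polar_self', hQ0, mul_zero]

/-- orthogonal non-singular vectors, as many as the dimension, span -/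
theorem span_of_orth (Q : QuadraticForm F (ι → F)) (h2 : (2 : F) ≠ 0)
    (D : Submodule F (ι → F)) {k : ℕ} (hk : finrank F D = k) (b : Fin k → ι → F)
    (hbD : ∀ j, b j ∈ D) (hbo : ∀ j j', j ≠ j' → polar Q (b j) (b j') = 0)
    (hbQ : ∀ j, Q (b j) ≠ 0) : ∀ x ∈ D, ∃ c : Fin k → F, x = ∑ j, c j • b j := by
  have li : LinearIndependent F (fun j => (⟨b j, hbD j⟩ : D)) := by
    rw [Fintype.linearIndependent_iff]
    intro g hg j
    have h1 : ∑ j', g j' • b j' = 0 := by
      have := congrArg Subtype.val hg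
      simpa using this
    have h2' := congrArg (fun y => polar Q (b j) y) h1
    simp only [polar_sum_right', polar_smul_right, polar_zero_right] at h2'
    rw [Finset.sum_eq_single j] at h2'
    · rw [polar_self', smul_eq_mul] at h2'
      rcases mul_eq_zero.mp h2' with h | h
      · exact h
      · exact absurd h (mul_ne_zero h2 (hbQ j))
    · intro j' _ hne
      rw [hbo j j' (Ne.symm hne)]
      simp
    · simp
  have htop := li.span_eq_top_of_card_eq_finrank' (by simp [hk])
  intro x hx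
  have hmem : (⟨x, hx⟩ : D) ∈ Submodule.span F (Set.range fun j => (⟨b j, hbD j⟩ : D)) := by
    rw [htop]; trivial
  obtain ⟨c, hc⟩ := (Submodule.mem_span_range_iff_exists_fun F).mp hmem
  refine ⟨c, ?_⟩
  have := congrArg Subtype.val hc
  simpa using this.symm

section F3

variable [Fintype F]

/-- three orthogonal vectors of norms `α, α, ±α` over `F₃` can be replaced by three orthogonal
vectors of equal norm in the same subspace -/
theorem equalize_aux (hq : Fintype.card F = 3) (Q : QuadraticForm F (ι → F))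
    (D : Submodule F (ι → F)) (x y z : ι → F) (hx : x ∈ D) (hy : y ∈ D) (hz : z ∈ D)
    (hxy : polar Q x y = 0) (hxz : polar Q x z = 0) (hyz : polar Q y z = 0) (α : F) (hα : α ≠ 0)
    (hQx : Q x = α) (hQy : Q y = α) (hQz : Q z = α ∨ Q z = -α) :
    ∃ (b : Fin 3 → (ι → F)) (d : F), d ≠ 0 ∧ (∀ j, b j ∈ D) ∧
      (∀ j j', j ≠ j' → polar Q (b j) (b j') = 0) ∧ ∀ j, Q (b j) = d := by
  have h3 := f3_three (F := F) hq
  have hyx : polar Q y x = 0 := by rw [polar_comm, hxy]
  have hzx : polar Q z x = 0 := by rw [polar_comm, hxz]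
  have hzy : polar Q z y = 0 := by rw [polar_comm, hyz]
  rcases hQz with hQz | hQz
  · refine ⟨![x, y, z], α, hα, ?_, ?_, ?_⟩
    · intro j; fin_cases j <;> simp [hx, hy, hz]
    · intro j j' hne
      fin_cases j <;> fin_cases j' <;> simp_all
    · intro j; fin_cases j <;> simp [hQx, hQy, hQz]
  · have Qadd : ∀ x y : ι → F, Q (x + y) = Q x + Q y + polar Q x y := QuadraticMap.map_add (⇑Q)
    have Qsub : ∀ x y : ι → F, Q (x - y) = Q x + Q y - polar Q x y := by
      intro x y
      rw [sub_eq_add_neg, Qadd, QuadraticMap.map_neg, polar_neg_right]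
      ring
    have e1 : Q (x + y) = -α := by
      rw [Qadd, hQx, hQy, hxy]; linear_combination α * h3
    have e2 : Q (x - y) = -α := by
      rw [Qsub, hQx, hQy, hxy]; linear_combination α * h3
    have e3 : polar Q (x + y) (x - y) = 0 := by
      simp only [polar_add_left, polar_sub_right, polar_self', hQx, hQy, hxy, hyx]; ring
    have e3' : polar Q (x - y) (x + y) = 0 := by rw [polar_comm, e3]
    have e4 : polar Q (x + y) z = 0 := by rw [polar_add_left, hxz, hyz, add_zero]
    have e5 : polar Q (x - y) z = 0 := by rw [polar_sub_left, hxz, hyz, sub_zero]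
    have e4' : polar Q z (x + y) = 0 := by rw [polar_comm, e4]
    have e5' : polar Q z (x - y) = 0 := by rw [polar_comm, e5]
    refine ⟨![x + y, x - y, z], -α, neg_ne_zero.mpr hα, ?_, ?_, ?_⟩
    · intro j; fin_cases j <;> simp [D.add_mem hx hy, D.sub_mem hx hy, hz]
    · intro j j' hne
      fin_cases j <;> fin_cases j' <;> simp_all
    · intro j; fin_cases j <;> simp [e1, e2, hQz]

theorem equalize_three (hq : Fintype.card F = 3) (Q : QuadraticForm F (ι → F))
    (D : Submodule F (ι → F)) (b : Fin 3 → (ι → F)) (hbD : ∀ j, b j ∈ D)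
    (hbo : ∀ j j', j ≠ j' → polar Q (b j) (b j') = 0) (hbQ : ∀ j, Q (b j) ≠ 0) :
    ∃ (b' : Fin 3 → (ι → F)) (d : F), d ≠ 0 ∧ (∀ j, b' j ∈ D) ∧
      (∀ j j', j ≠ j' → polar Q (b' j) (b' j') = 0) ∧ ∀ j, Q (b' j) = d := by
  have pm : ∀ j, Q (b j) = 1 ∨ Q (b j) = -1 := by
    intro j
    rcases f3_cases hq (Q (b j)) with h | h | h
    · exact absurd h (hbQ j)
    · exact Or.inl h
    · exact Or.inr h
  have rel : ∀ j j', Q (b j') = Q (b j) ∨ Q (b j') = -Q (b j) := by
    intro j j'
    rcases pm j with h | h <;> rcases pm j' with h' | h' <;> rw [h, h'] <;> simp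
  by_cases h01 : Q (b 0) = Q (b 1)
  · exact equalize_aux hq Q D (b 0) (b 1) (b 2) (hbD 0) (hbD 1) (hbD 2)
      (hbo 0 1 (by decide)) (hbo 0 2 (by decide)) (hbo 1 2 (by decide)) (Q (b 0)) (hbQ 0) rfl
      h01.symm (rel 0 2)
  · by_cases h02 : Q (b 0) = Q (b 2)
    · exact equalize_aux hq Q D (b 0) (b 2) (b 1) (hbD 0) (hbD 2) (hbD 1)
        (hbo 0 2 (by decide)) (hbo 0 1 (by decide)) (hbo 2 1 (by decide)) (Q (b 0)) (hbQ 0) rfl
        h02.symm (rel 0 1)
    · have h12 : Q (b 2) = Q (b 1) := by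
        rcases rel 0 1 with h | h
        · exact absurd h.symm h01
        · rcases rel 0 2 with h' | h'
          · exact absurd h'.symm h02
          · rw [h, h']
      exact equalize_aux hq Q D (b 1) (b 2) (b 0) (hbD 1) (hbD 2) (hbD 0)
        (hbo 1 2 (by decide)) (hbo 1 0 (by decide)) (hbo 2 0 (by decide)) (Q (b 1)) (hbQ 1) rfl
        h12 (rel 1 0)

/-- a non-degenerate plane over `F₃` which is not of plus type has an orthogonal basis of equal
norms -/
theorem equalize_two (hq : Fintype.card F = 3) (Q : QuadraticForm F (ι → F))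
    (D : Submodule F (ι → F)) (hdim : finrank F D = 2)
    (hminus : ¬ Cfsg.Geo.IsPlusTypeOn (⇑Q) D) (b : Fin 2 → (ι → F)) (hbD : ∀ j, b j ∈ D)
    (hbo : ∀ j j', j ≠ j' → polar Q (b j) (b j') = 0) (hbQ : ∀ j, Q (b j) ≠ 0) :
    ∀ j, Q (b j) = Q (b 0) := by
  have h2 := f3_two_ne (F := F) hq
  have pm : ∀ j, Q (b j) = 1 ∨ Q (b j) = -1 := by
    intro j
    rcases f3_cases hq (Q (b j)) with h | h | h
    · exact absurd h (hbQ j)
    · exact Or.inl h
    · exact Or.inr h
  have h10 : Q (b 1) = Q (b 0) := by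
    by_contra hne
    have hneg : Q (b 1) = -Q (b 0) := by
      rcases pm 0 with h | h <;> rcases pm 1 with h' | h' <;> rw [h, h'] at hne ⊢ <;> simp at hne ⊢
    apply hminus
    have hs : Q (b 0 + b 1) = 0 := by
      rw [QuadraticMap.map_add (⇑Q), hneg, hbo 0 1 (by decide)]; ring
    have hne0 : b 0 + b 1 ≠ 0 := by
      intro h0
      have := congrArg (fun y => polar Q (b 0) y) h0
      simp only [polar_add_right, polar_self', hbo 0 1 (by decide), polar_zero_right, add_zero]
        at this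
      exact mul_ne_zero h2 (hbQ 0) this
    refine ⟨Submodule.span F {b 0 + b 1}, ?_, ?_, ?_⟩
    · rw [Submodule.span_singleton_le_iff_mem]
      exact D.add_mem (hbD 0) (hbD 1)
    · intro w hw
      obtain ⟨c, rfl⟩ := Submodule.mem_span_singleton.mp hw
      rw [QuadraticMap.map_smul, hs, smul_zero]
    · rw [finrank_span_singleton hne0, hdim]
  intro j
  fin_cases j
  · rfl
  · exact h10

end F3

/-- transporting an orthogonal family along an isometry of subspaces -/
theorem transport_frame (Q : QuadraticForm F (ι → F)) (D D' : Submodule F (ι → F)) {k : ℕ}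
    (hiso : Cfsg.Geo.AreIsometricFor (⇑Q) D D') (b : Fin k → (ι → F)) (hbD : ∀ j, b j ∈ D)
    (hbo : ∀ j j', j ≠ j' → polar Q (b j) (b j') = 0) (d : F) (hbQ : ∀ j, Q (b j) = d) :
    ∃ b' : Fin k → (ι → F), (∀ j, b' j ∈ D') ∧ (∀ j j', j ≠ j' → polar Q (b' j) (b' j') = 0) ∧
      ∀ j, Q (b' j) = d := by
  obtain ⟨φ, hφ⟩ := hiso
  refine ⟨fun j => (φ ⟨b j, hbD j⟩ : ι → F), fun j => (φ _).2, ?_, ?_⟩
  · intro j j' hne
    have h1 : ((φ ⟨b j, hbD j⟩ : D') : ι → F) + (φ ⟨b j', hbD j'⟩ : D')
        = ((φ (⟨b j, hbD j⟩ + ⟨b j', hbD j'⟩) : D') : ι → F) := by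
      rw [map_add]; rfl
    unfold polar
    rw [h1, hφ, hφ, hφ]
    exact hbo j j' hne
  · intro j
    rw [hφ]
    exact hbQ j

/-- **Orthogonal decompositions over `F₃` into blocks of dimension 2 (not of plus type) or 3.** -/
theorem decomposition_not_maximal_f3 [Fintype F] (hq : Fintype.card F = 3)
    (Q : QuadraticForm F (ι → F)) {t : ℕ} (k : ℕ) (hk : k = 2 ∨ k = 3)
    (hcard : 13 ≤ Fintype.card ι) (D : Fin t → Submodule F (ι → F))
    (hD : Cfsg.Geo.IsOrthogonalMDecomposition (⇑Q) k D)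
    (hminus : k = 2 → ∀ i, ¬ Cfsg.Geo.IsPlusTypeOn (⇑Q) (D i)) :
    ∃ K : Subgroup (GL ι F), Cfsg.Geo.decompositionStabilizer D ⊓ Cfsg.Geo.omegaGL (⇑Q) < K ∧
      K < Cfsg.Geo.omegaGL (⇑Q) := by
  have h2 := f3_two_ne (F := F) hq
  have hdec := hD.decomp.decomp
  have hn := card_eq_of_decomp D hdec.indep hdec.iSup_eq_top hdec.finrank_eq
  have hk3 : k ≤ 3 := by omega
  have hk2 : 2 ≤ k := by omega
  have ht : 5 ≤ t := by
    by_contra hlt
    push Not at hlt
    have : t * k ≤ 4 * 3 := Nat.mul_le_mul (by omega) hk3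
    omega
  let i0 : Fin t := ⟨0, by omega⟩
  -- a frame of the first block
  obtain ⟨b, hbD, hbo, hbQ⟩ := exists_orth_basis Q h2 (D i0) (hdec.finrank_eq i0)
    (hD.decomp.nondegenerate i0)
  have hframe : ∃ (b' : Fin k → (ι → F)) (d : F), d ≠ 0 ∧ (∀ j, b' j ∈ D i0) ∧
      (∀ j j', j ≠ j' → polar Q (b' j) (b' j') = 0) ∧ ∀ j, Q (b' j) = d := by
    rcases hk with rfl | rfl
    · exact ⟨b, Q (b 0), hbQ 0, hbD, hbo,
        equalize_two hq Q (D i0) (hdec.finrank_eq i0) (hminus rfl i0) b hbD hbo hbQ⟩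
    · exact equalize_three hq Q (D i0) b hbD hbo hbQ
  obtain ⟨b', d, hd, hb'D, hb'o, hb'Q⟩ := hframe
  have hall : ∀ i, ∃ bi : Fin k → (ι → F), (∀ j, bi j ∈ D i) ∧
      (∀ j j', j ≠ j' → polar Q (bi j) (bi j') = 0) ∧ ∀ j, Q (bi j) = d :=
    fun i => transport_frame Q (D i0) (D i) (hD.isometric i0 i) b' hb'D hb'o d hb'Q
  choose e heD heo heQ using hall
  refine frame_not_maximal hq Q hk2 hk3 ht D ?_ d hd e heD heQ heo ?_
  · intro i i' hne x hx y hy
    exact hD.decomp.orthogonal i i' hne x hx y hy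
  · intro i
    exact span_of_orth Q h2 (D i) (hdec.finrank_eq i) (e i) (heD i) (heo i)
      (fun j => by rw [heQ]; exact hd)

end Cfsg.Agent.Lib.H29.Orth
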