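import Mathlib
import Cfsg.Prelude.Def_CaseTheorems
import Cfsg.Agent.Lib.H17.GHDefs
import Cfsg.Agent.Lib.H17.GHN3

/-!
# S4402, piece N5: the centre of `S` is `{1, z}` (core, with the rank step N3 as a hypothesis).
-/

set_option autoImplicit false
set_option linter.dupNamespace false

namespace Cfsg.Agent.Lib.H29.GH

open Subgroup Cfsg.Agent.Lib.H17.GH

/-- N5 with N3 (`eq_one_or_eq_z_of_centralizes`) as a hypothesis. -/
theorem center_eq_of {S : Type*} [Group S] [Finite S] (h2 : IsPGroup 2 S)
    {P : Subgroup S} (D : Data P)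
    (hN3 : ∀ y : S, y ∈ normalizer (P : Set S) → (∀ x ∈ D.Om, y * x = x * y) → y = 1 ∨ y = D.z) :
    Subgroup.center S = (Subgroup.center ↥P).map P.subtype ∧ Nat.card ↥(Subgroup.center S) = 2 ∧
      ∀ y : S, y ∈ Subgroup.center S ↔ (y = 1 ∨ y = D.z) := by
  haveI : Fact (Nat.Prime 2) := ⟨Nat.prime_two⟩
  -- elements of the centre are `1` or `z`
  have h1 : ∀ y : S, y ∈ Subgroup.center S → y = 1 ∨ y = D.z := by
    intro y hy
    have hyc : ∀ g : S, g * y = y * g := Subgroup.mem_center_iff.1 hy
    refine hN3 y ?_ (fun x _ => (hyc x).symm)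
    rw [Subgroup.mem_normalizer_iff]
    intro g
    have e : y * g * y⁻¹ = g := by rw [← hyc g, mul_inv_cancel_right]
    change g ∈ P ↔ y * g * y⁻¹ ∈ P
    rw [e]
  -- `S` is nontrivial, so the centre is nontrivial
  haveI : Nontrivial S := ⟨⟨D.z, 1, D.z_ne⟩⟩
  haveI hnt : Nontrivial (Subgroup.center S) := h2.center_nontrivial
  have hz : D.z ∈ Subgroup.center S := by
    obtain ⟨a, b, hab⟩ := hnt
    by_cases ha : (a : S) = 1
    · have hb : (b : S) ≠ 1 := by
        intro hb
        apply hab
        exact Subtype.ext (ha.trans hb.symm)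
      rcases h1 b b.2 with h | h
      · exact absurd h hb
      · rw [← h]; exact b.2
    · rcases h1 a a.2 with h | h
      · exact absurd h ha
      · rw [← h]; exact a.2
  have hiff : ∀ y : S, y ∈ Subgroup.center S ↔ (y = 1 ∨ y = D.z) := by
    intro y
    constructor
    · exact h1 y
    · rintro (rfl | rfl)
      · exact Subgroup.one_mem _
      · exact hz
  refine ⟨?_, ?_, hiff⟩
  · ext x
    rw [hiff x, Subgroup.mem_map]
    constructor
    · intro hx
      have hxP : x ∈ P := by
        rcases hx with rfl | rfl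
        · exact P.one_mem
        · exact D.z_mem
      refine ⟨⟨x, hxP⟩, ?_, rfl⟩
      rw [Subgroup.mem_center_iff]
      intro g
      apply Subtype.ext
      have := (D.center_iff x hxP).2 hx g g.2
      simpa using this.symm
    · rintro ⟨w, hw, rfl⟩
      apply (D.center_iff w w.2).1
      intro y hy
      have := Subgroup.mem_center_iff.1 hw ⟨y, hy⟩
      have h' := congrArg (fun t : ↥P => (t : S)) this
      simpa using h'.symm
  · have hzp : Subgroup.center S = Subgroup.zpowers D.z := by
      ext y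
      rw [hiff y, Subgroup.mem_zpowers_iff]
      constructor
      · rintro (rfl | rfl)
        · exact ⟨0, by simp⟩
        · exact ⟨1, by simp⟩
      · rintro ⟨k, rfl⟩
        rcases Int.even_or_odd k with ⟨m, hm⟩ | ⟨m, hm⟩
        · left
          rw [hm, ← two_mul, zpow_mul, zpow_two, D.z_sq, one_zpow]
        · right
          rw [hm, zpow_add, zpow_one, zpow_mul, zpow_two, D.z_sq, one_zpow, one_mul]
    rw [hzp, Nat.card_zpowers]
    apply orderOf_eq_prime
    · rw [pow_two]; exact D.z_sq
    · exact D.z_ne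

/-- N5. The centre of `S` is `{1, z} = Z(P)`. -/
theorem center_eq {S : Type*} [Group S] [Finite S] (h2 : IsPGroup 2 S)
    (hr : Cfsg.SectionalPRankLE 2 4 S) {P : Subgroup S} (D : Data P) :
    Subgroup.center S = (Subgroup.center ↥P).map P.subtype ∧ Nat.card ↥(Subgroup.center S) = 2 ∧
      ∀ y : S, y ∈ Subgroup.center S ↔ (y = 1 ∨ y = D.z) :=
  center_eq_of h2 D (fun y hy hc => eq_one_or_eq_z_of_centralizes h2 hr D y hy hc)

end Cfsg.Agent.Lib.H29.GH
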