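import Mathlib
import Cfsg.Agent.Lib.H17.GHDefs

/-!
# S4402, piece G0: every Sylow 2-subgroup of `S_8` is isomorphic to the tree group `A8Sylow.T`.
-/

set_option autoImplicit false
set_option linter.dupNamespace false

namespace Cfsg.Agent.Lib.H29.GH

open Subgroup Cfsg.Agent.Lib.H17.GH Cfsg.Agent.Lib.H14.A8Sylow

/-- G0. Every Sylow 2-subgroup of `S_8` is isomorphic to the tree group `A8Sylow.T`. -/
theorem sylow_equiv_tree (T' : Sylow 2 (Equiv.Perm (Fin 8))) :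
    Nonempty (↥(T' : Subgroup (Equiv.Perm (Fin 8))) ≃* ↥T) := by
  haveI : Fact (Nat.Prime 2) := ⟨Nat.prime_two⟩
  obtain ⟨g, hg⟩ := MulAction.exists_smul_eq (Equiv.Perm (Fin 8)) TS T'
  have e : ↥(TS : Subgroup (Equiv.Perm (Fin 8))) ≃* ↥((g • TS : Sylow 2 (Equiv.Perm (Fin 8))) :
      Subgroup (Equiv.Perm (Fin 8))) := Sylow.equivSMul TS g
  rw [hg] at e
  exact ⟨e.symm⟩

end Cfsg.Agent.Lib.H29.GH
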