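import Mathlib
import Cfsg.Agent.Lib.H17.GHDefs

/-!
# S4402, piece K8: the derived subgroup of the tree group is not of exponent 2.
-/

set_option autoImplicit false
set_option linter.dupNamespace false

namespace Cfsg.Agent.Lib.H29.GH

open Subgroup Cfsg.Agent.Lib.H17.GH Cfsg.Agent.Lib.H14.A8Sylow

theorem hsw_mem_T_k8 : hsw ∈ T := by
  rw [mem_T]
  decide

theorem qsw_lsw_mem_T_k8 : qsw 0 * lsw 0 ∈ T := by
  rw [mem_T]
  decide

set_option maxRecDepth 100000 in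
theorem comm_sq_apply_k8 :
    ((hsw * (qsw 0 * lsw 0) * hsw⁻¹ * (qsw 0 * lsw 0)⁻¹) ^ 2) 0 ≠ 0 := by
  decide

theorem comm_sq_ne_one_k8 :
    (hsw * (qsw 0 * lsw 0) * hsw⁻¹ * (qsw 0 * lsw 0)⁻¹) ^ 2 ≠ 1 := by
  intro h
  apply comm_sq_apply_k8
  rw [h]
  rfl

/-- K8 (concrete). The derived subgroup of the tree group is not of exponent 2. -/
theorem exists_comm_sq_ne_one : ∃ g h : ↥T, (g * h * g⁻¹ * h⁻¹) ^ 2 ≠ 1 := by
  refine ⟨⟨hsw, hsw_mem_T_k8⟩, ⟨qsw 0 * lsw 0, qsw_lsw_mem_T_k8⟩, ?_⟩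
  intro h
  apply comm_sq_ne_one_k8
  have h' := congrArg (fun x : ↥T => (x : Equiv.Perm (Fin 8))) h
  simpa using h'

end Cfsg.Agent.Lib.H29.GH
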