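import Mathlib
import Cfsg.Agent.Lib.H17.GHDefs
import Cfsg.Agent.Lib.H29.GHK8

/-!
# S4402, piece N6b: if all commutators of `N_S(P)` lie in `As`, the derived subgroup of
`N_S(P) / {1, z} ≅ T` has exponent 2, against K8.
-/

set_option autoImplicit false
set_option linter.dupNamespace false

namespace Cfsg.Agent.Lib.H29.GH

open Subgroup Cfsg.Agent.Lib.H17.GH Cfsg.Agent.Lib.H14.A8Sylow

/-- N6b. -/
theorem false_of_comm_mem_As {S : Type*} [Group S] {P : Subgroup S} (D : Data P) (Z0 : Subgroup S)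
    (hZ0 : ∀ y : S, y ∈ Z0 ↔ (y = 1 ∨ y = D.z))
    [hn : (Z0.subgroupOf (normalizer (P : Set S))).Normal]
    (Φ : ↥(normalizer (P : Set S)) ⧸ Z0.subgroupOf (normalizer (P : Set S)) ≃* ↥T)
    (hcomm : ∀ g ∈ normalizer (P : Set S), ∀ h ∈ normalizer (P : Set S),
      g * h * g⁻¹ * h⁻¹ ∈ D.As) : False := by
  obtain ⟨g, h, hgh⟩ := exists_comm_sq_ne_one
  obtain ⟨g', hg'⟩ := QuotientGroup.mk_surjective (s := Z0.subgroupOf (normalizer (P : Set S)))
    (Φ.symm g)
  obtain ⟨h', hh'⟩ := QuotientGroup.mk_surjective (s := Z0.subgroupOf (normalizer (P : Set S)))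
    (Φ.symm h)
  apply hgh
  set c : ↥(normalizer (P : Set S)) := g' * h' * g'⁻¹ * h'⁻¹ with hc
  have hcAs : (c : S) ∈ D.As := by
    have := hcomm g' g'.2 h' h'.2
    simpa [hc] using this
  have hcsq : (c * c : ↥(normalizer (P : Set S))) ∈ Z0.subgroupOf (normalizer (P : Set S)) := by
    rw [Subgroup.mem_subgroupOf, hZ0]
    exact D.As_sq _ hcAs
  have hq : ((c : ↥(normalizer (P : Set S)) ⧸ Z0.subgroupOf (normalizer (P : Set S)))) ^ 2 = 1 := by
    rw [pow_two, ← QuotientGroup.mk_mul]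
    exact (QuotientGroup.eq_one_iff _).2 hcsq
  have hΦc : Φ (c : ↥(normalizer (P : Set S)) ⧸ Z0.subgroupOf (normalizer (P : Set S))) =
      g * h * g⁻¹ * h⁻¹ := by
    rw [hc, QuotientGroup.mk_mul, QuotientGroup.mk_mul, QuotientGroup.mk_mul, QuotientGroup.mk_inv,
      QuotientGroup.mk_inv, hg', hh', map_mul, map_mul, map_mul, map_inv, map_inv,
      MulEquiv.apply_symm_apply, MulEquiv.apply_symm_apply]
  rw [← hΦc, ← map_pow, hq, map_one]

end Cfsg.Agent.Lib.H29.GH
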