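import Mathlib
import Cfsg.Prelude.Def_GeometricClasses

/-!
# Tensor product structures `F^ι ≅ F^(n₁) ⊗ F^(n₂)` and bilinear forms (helper29)
-/

set_option autoImplicit false

namespace Cfsg.Agent.Lib.H29.Tensor

open Cfsg.Geo Matrix Kronecker

variable {ι : Type} [Fintype ι] [DecidableEq ι] {F : Type*} [Field F] {n₁ n₂ : ℕ}

/-- pure tensors in coordinates. -/
def pt (u : Fin n₁ → F) (z : Fin n₂ → F) : Fin n₁ × Fin n₂ → F := fun a => u a.1 * z a.2

theorem pt_add_left (u u' : Fin n₁ → F) (z : Fin n₂ → F) : pt (u + u') z = pt u z + pt u' z := by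
  ext a; simp [pt, add_mul]

theorem pt_add_right (u : Fin n₁ → F) (z z' : Fin n₂ → F) : pt u (z + z') = pt u z + pt u z' := by
  ext a; simp [pt, mul_add]

theorem pt_smul_left (c : F) (u : Fin n₁ → F) (z : Fin n₂ → F) : pt (c • u) z = c • pt u z := by
  ext a; simp [pt, mul_assoc]

theorem pt_smul_right (c : F) (u : Fin n₁ → F) (z : Fin n₂ → F) : pt u (c • z) = c • pt u z := by
  ext a; simp [pt, mul_left_comm]

theorem kron_pt (A : Matrix (Fin n₁) (Fin n₁) F) (B : Matrix (Fin n₂) (Fin n₂) F) (u : Fin n₁ → F)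
    (z : Fin n₂ → F) : (A ⊗ₖ B) *ᵥ pt u z = pt (A *ᵥ u) (B *ᵥ z) := by
  ext ⟨a, k⟩
  simp only [Matrix.mulVec, dotProduct, pt, kroneckerMap_apply, Fintype.sum_prod_type,
    Finset.sum_mul_sum]
  refine Finset.sum_congr rfl fun b _ => Finset.sum_congr rfl fun l _ => ?_
  ring

variable (e : ι ≃ Fin n₁ × Fin n₂) (P : GL ι F)

/-- pure tensors transported to `F^ι`. -/
def tau (u : Fin n₁ → F) (z : Fin n₂ → F) : ι → F :=
  (P : Matrix ι ι F) *ᵥ (pt u z ∘ e)

theorem tau_add_left (u u' : Fin n₁ → F) (z : Fin n₂ → F) :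
    tau e P (u + u') z = tau e P u z + tau e P u' z := by
  unfold tau
  rw [pt_add_left, ← Matrix.mulVec_add]
  rfl

theorem tau_add_right (u : Fin n₁ → F) (z z' : Fin n₂ → F) :
    tau e P u (z + z') = tau e P u z + tau e P u z' := by
  unfold tau
  rw [pt_add_right, ← Matrix.mulVec_add]
  rfl

theorem tau_smul_left (c : F) (u : Fin n₁ → F) (z : Fin n₂ → F) :
    tau e P (c • u) z = c • tau e P u z := by
  unfold tau
  rw [pt_smul_left, ← Matrix.mulVec_smul]
  rfl

theorem tau_smul_right (c : F) (u : Fin n₁ → F) (z : Fin n₂ → F) :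
    tau e P u (c • z) = c • tau e P u z := by
  unfold tau
  rw [pt_smul_right, ← Matrix.mulVec_smul]
  rfl

theorem tau_neg_left (u : Fin n₁ → F) (z : Fin n₂ → F) : tau e P (-u) z = -tau e P u z := by
  have := tau_smul_left e P (-1) u z
  simpa using this

theorem tau_neg_right (u : Fin n₁ → F) (z : Fin n₂ → F) : tau e P u (-z) = -tau e P u z := by
  have := tau_smul_right e P (-1) u z
  simpa using this

theorem tau_sub_left (u u' : Fin n₁ → F) (z : Fin n₂ → F) :
    tau e P (u - u') z = tau e P u z - tau e P u' z := by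
  rw [sub_eq_add_neg, tau_add_left, tau_neg_left, ← sub_eq_add_neg]

theorem tau_sub_right (u : Fin n₁ → F) (z z' : Fin n₂ → F) :
    tau e P u (z - z') = tau e P u z - tau e P u z' := by
  rw [sub_eq_add_neg, tau_add_right, tau_neg_right, ← sub_eq_add_neg]

/-- elements of the tensor product subgroup map pure tensors to pure tensors. -/
theorem tensor_apply (g : GL ι F) (hg : g ∈ tensorProductSubgroup n₁ n₂ e P) :
    ∃ (A : GL (Fin n₁) F) (B : GL (Fin n₂) F), ∀ u z,
      (g : Matrix ι ι F) *ᵥ tau e P u z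
        = tau e P ((A : Matrix (Fin n₁) (Fin n₁) F) *ᵥ u) ((B : Matrix (Fin n₂) (Fin n₂) F) *ᵥ z) := by
  unfold tensorProductSubgroup at hg
  obtain ⟨g₁, hg₁, rfl⟩ := Subgroup.mem_map.mp hg
  obtain ⟨g₀, ⟨A, B, hAB⟩, rfl⟩ := Subgroup.mem_map.mp hg₁
  refine ⟨A, B, fun u z => ?_⟩
  have hval : ((glReindex (F := F) e.symm g₀ : GL ι F) : Matrix ι ι F)
      = ((A : Matrix (Fin n₁) (Fin n₁) F) ⊗ₖ (B : Matrix (Fin n₂) (Fin n₂) F)).submatrix e e := by
    show Matrix.reindexAlgEquiv F F e.symm (g₀ : Matrix _ _ F) = _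
    rw [Matrix.coe_reindexAlgEquiv, hAB]
    rfl
  show ((MulAut.conj P (glReindex (F := F) e.symm g₀) : GL ι F) : Matrix ι ι F) *ᵥ _ = _
  rw [MulAut.conj_apply, Units.val_mul, Units.val_mul, hval]
  unfold tau
  rw [Matrix.mulVec_mulVec, Matrix.mul_assoc, Matrix.mul_assoc, ← Units.val_mul, inv_mul_cancel,
    Units.val_one, Matrix.mul_one, ← Matrix.mulVec_mulVec, Matrix.submatrix_mulVec_equiv]
  congr 2
  have : (pt u z ∘ e) ∘ e.symm = pt u z := by
    ext a; simp
  rw [this, kron_pt]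

omit [Fintype ι] [DecidableEq ι] in
theorem form_eq_gram {κ : Type} [Fintype κ] [DecidableEq κ] {f : (κ → F) → (κ → F) → F}
    (hf : IsBilinearForm f) (x y : κ → F) : f x y = formOfGram id (gramMatrix f) x y := by
  have hsum : ∀ x : κ → F, x = ∑ a, x a • (Pi.single a (1 : F) : κ → F) := by
    intro x
    ext b
    rw [Finset.sum_apply b Finset.univ (fun a => x a • (Pi.single a (1 : F) : κ → F))]
    simp [Pi.single_apply]
  have sum_left : ∀ (s : Finset κ) (g : κ → κ → F) (v : κ → F),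
      f (∑ a ∈ s, g a) v = ∑ a ∈ s, f (g a) v := by
    intro s g v
    induction s using Finset.induction_on with
    | empty =>
      simp only [Finset.sum_empty]
      have := hf.smul_left 0 0 v
      simpa using this
    | insert a s ha ih => rw [Finset.sum_insert ha, Finset.sum_insert ha, hf.add_left, ih]
  have sum_right : ∀ (s : Finset κ) (g : κ → κ → F) (v : κ → F),
      f v (∑ a ∈ s, g a) = ∑ a ∈ s, f v (g a) := by
    intro s g v
    induction s using Finset.induction_on with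
    | empty =>
      simp only [Finset.sum_empty]
      have := hf.smul_right 0 v 0
      simpa using this
    | insert a s ha ih => rw [Finset.sum_insert ha, Finset.sum_insert ha, hf.add_right, ih]
  conv_lhs => rw [hsum x, hsum y]
  rw [sum_left]
  unfold formOfGram gramMatrix
  refine Finset.sum_congr rfl fun a _ => ?_
  rw [hf.smul_left, sum_right, Finset.mul_sum]
  refine Finset.sum_congr rfl fun b _ => ?_
  rw [hf.smul_right]
  simp only [id]
  ring

omit [Fintype ι] [DecidableEq ι] in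
theorem formOfGram_pt (G₁ : Matrix (Fin n₁) (Fin n₁) F) (G₂ : Matrix (Fin n₂) (Fin n₂) F)
    (u u' : Fin n₁ → F) (z z' : Fin n₂ → F) :
    formOfGram id (G₁ ⊗ₖ G₂) (pt u z) (pt u' z') = formOfGram id G₁ u u' * formOfGram id G₂ z z' := by
  unfold formOfGram pt
  simp only [Fintype.sum_prod_type, kroneckerMap_apply, Finset.sum_mul_sum, id]
  refine Finset.sum_congr rfl fun a _ => ?_
  refine Finset.sum_congr rfl fun b _ => ?_
  refine Finset.sum_congr rfl fun k _ => ?_
  refine Finset.sum_congr rfl fun l _ => ?_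
  ring

/-- the value of a form with a tensor structure on pure tensors -/
theorem form_tau {f : (ι → F) → (ι → F) → F} {f₁ : (Fin n₁ → F) → (Fin n₁ → F) → F}
    {f₂ : (Fin n₂ → F) → (Fin n₂ → F) → F} (h1 : IsBilinearForm f₁) (h2 : IsBilinearForm f₂) (c : F)
    (hT : ∀ x y : Fin n₁ × Fin n₂ → F,
      f ((P : Matrix ι ι F) *ᵥ (x ∘ e)) ((P : Matrix ι ι F) *ᵥ (y ∘ e)) =
      c * formOfGram id (gramMatrix f₁ ⊗ₖ gramMatrix f₂) x y)
    (u u' : Fin n₁ → F) (z z' : Fin n₂ → F) :
    f (tau e P u z) (tau e P u' z') = c * (f₁ u u' * f₂ z z') := by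
  unfold tau
  rw [hT, formOfGram_pt, ← form_eq_gram h1, ← form_eq_gram h2]

end Cfsg.Agent.Lib.H29.Tensor
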