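import Mathlib

/-!
# Zsigmondy's theorem (primitive prime divisors of `a ^ n - 1`)

Main result: `Cfsg.Agent.Lib.H29.Zsig.zsigmondy`.
-/

set_option autoImplicit false

namespace Cfsg.Agent.Lib.H29.Zsig

open Polynomial

/-- The value `Φ_n(a)` as an integer. -/
noncomputable def cyc (n a : ℕ) : ℤ := (cyclotomic n ℤ).eval (a : ℤ)

theorem cyc_def (n a : ℕ) : cyc n a = (cyclotomic n ℤ).eval (a : ℤ) := rfl

theorem cyc_dvd (n a : ℕ) : cyc n a ∣ (a : ℤ) ^ n - 1 := by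
  have h := Polynomial.eval_dvd (x := (a : ℤ)) (cyclotomic.dvd_X_pow_sub_one n ℤ)
  simpa [cyc] using h

theorem cyc_mul_dvd {d n : ℕ} (a : ℕ) (h : d ∈ n.properDivisors) :
    ((a : ℤ) ^ d - 1) * cyc n a ∣ (a : ℤ) ^ n - 1 := by
  have h := Polynomial.eval_dvd (x := (a : ℤ))
    (X_pow_sub_one_mul_cyclotomic_dvd_X_pow_sub_one_of_dvd ℤ h)
  simpa [cyc] using h

/-- casting `Φ_n(a)` to a commutative ring. -/
theorem cyc_cast (R : Type*) [CommRing R] (n a : ℕ) :
    ((cyc n a : ℤ) : R) = (cyclotomic n R).eval (a : R) := by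
  rw [cyc, ← map_cyclotomic_int n R]
  have := eval_intCast_map (Int.castRingHom R) (cyclotomic n ℤ) (a : ℤ)
  simpa using this.symm

theorem natCast_pow_sub_one_eq_zero_iff {r a k : ℕ} (ha : 0 < a) :
    (((a : ZMod r)) ^ k = 1) ↔ r ∣ a ^ k - 1 := by
  have h1 : 1 ≤ a ^ k := Nat.one_le_pow _ _ ha
  rw [← ZMod.natCast_eq_zero_iff, Nat.cast_sub h1, sub_eq_zero]
  simp

/-- Lemma A: a prime divisor of `Φ_n(a)` not dividing `n` is a primitive prime divisor. -/
theorem primitive_of_not_dvd {a n r : ℕ} (ha : 0 < a) (hr : r.Prime)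
    (hdvd : (r : ℤ) ∣ cyc n a) (hrn : ¬ r ∣ n) :
    r ∣ a ^ n - 1 ∧ ∀ k : ℕ, 0 < k → k < n → ¬ r ∣ a ^ k - 1 := by
  have : Fact r.Prime := Fact.mk hr
  have hroot : IsRoot (cyclotomic n (ZMod r)) (a : ZMod r) := by
    rw [IsRoot.def, ← cyc_cast]
    exact (ZMod.intCast_zmod_eq_zero_iff_dvd _ _).2 hdvd
  have : NeZero ((n : ZMod r)) := ⟨by
    rw [Ne, ZMod.natCast_eq_zero_iff]; exact hrn⟩
  have hprim : IsPrimitiveRoot (a : ZMod r) n := isRoot_cyclotomic_iff.1 hroot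
  refine ⟨(natCast_pow_sub_one_eq_zero_iff ha).1 hprim.pow_eq_one, ?_⟩
  intro k hk hkn hdk
  have := (natCast_pow_sub_one_eq_zero_iff ha).2 hdk
  have hnk := (hprim.pow_eq_one_iff_dvd k).1 this
  exact absurd (Nat.le_of_dvd hk hnk) (not_le.2 hkn)

/-- B1: `Φ_n(a)` divides `1 + b + ... + b^(p-1)` with `b = a^(n/p)`, for a prime `p ∣ n`. -/
theorem cyc_dvd_geom {a n p : ℕ} (ha : 1 < a) (hn : 0 < n) (hp : p.Prime) (hpn : p ∣ n) :
    cyc n a ∣ ∑ i ∈ Finset.range p, ((a : ℤ) ^ (n / p)) ^ i := by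
  have hmem : n / p ∈ n.properDivisors := by
    rw [Nat.mem_properDivisors]
    exact ⟨Nat.div_dvd_of_dvd hpn, Nat.div_lt_self hn hp.one_lt⟩
  have h := cyc_mul_dvd a hmem
  have hb : ((a : ℤ) ^ (n / p) - 1) ≠ 0 := by
    have h1 : 0 < n / p := Nat.div_pos (Nat.le_of_dvd hn hpn) hp.pos
    have h2 : 1 < a ^ (n / p) := Nat.one_lt_pow h1.ne' ha
    have h3 : (1 : ℤ) < (a : ℤ) ^ (n / p) := by exact_mod_cast h2
    omega
  have hgeo : (a : ℤ) ^ n - 1 =
      ((a : ℤ) ^ (n / p) - 1) * ∑ i ∈ Finset.range p, ((a : ℤ) ^ (n / p)) ^ i := by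
    rw [mul_comm, geom_sum_mul, ← pow_mul, Nat.div_mul_cancel hpn]
  rw [hgeo] at h
  exact (mul_dvd_mul_iff_left hb).1 h

/-- B2: if a prime `r ∣ Φ_n(a)` divides `a^(n/p) - 1` for a prime `p ∣ n` then `r = p`. -/
theorem eq_of_dvd_pow_div_sub_one {a n p r : ℕ} (ha : 1 < a) (hn : 0 < n) (hp : p.Prime)
    (hpn : p ∣ n) (hr : r.Prime) (hdvd : (r : ℤ) ∣ cyc n a) (hrd : r ∣ a ^ (n / p) - 1) :
    r = p := by
  have : Fact r.Prime := Fact.mk hr
  have h1 : ((a : ZMod r)) ^ (n / p) = 1 :=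
    (natCast_pow_sub_one_eq_zero_iff (by omega)).2 hrd
  have h2 := (hdvd.trans (cyc_dvd_geom ha hn hp hpn))
  have h3 := (ZMod.intCast_zmod_eq_zero_iff_dvd _ r).2 h2
  push_cast at h3
  rw [h1] at h3
  simp only [one_pow, Finset.sum_const, Finset.card_range, nsmul_eq_mul, mul_one] at h3
  have h4 : r ∣ p := (ZMod.natCast_eq_zero_iff p r).1 h3
  exact ((Nat.prime_dvd_prime_iff_eq hr hp).1 h4)

/-- B3: if a prime `r ∣ Φ_n(a)` divides `n` then `r ∣ a^(n/r) - 1`. -/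
theorem dvd_pow_div_self_sub_one {a n r : ℕ} (ha : 0 < a) (hr : r.Prime)
    (hrn : r ∣ n) (hdvd : (r : ℤ) ∣ cyc n a) : r ∣ a ^ (n / r) - 1 := by
  have : Fact r.Prime := Fact.mk hr
  apply (natCast_pow_sub_one_eq_zero_iff ha).1
  have h2 := (hdvd.trans (cyc_dvd n a))
  have h3 := (ZMod.intCast_zmod_eq_zero_iff_dvd _ r).2 h2
  push_cast at h3
  have h4 : ((a : ZMod r)) ^ n = 1 := sub_eq_zero.1 h3
  have h5 : (((a : ZMod r)) ^ (n / r)) ^ r = 1 := by
    rw [← pow_mul, Nat.div_mul_cancel hrn]; exact h4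
  rwa [ZMod.pow_card] at h5

/-- B4: if a prime `r ∣ Φ_n(a)` divides `n`, then every other prime divisor `p` of `n`
divides `r - 1`. -/
theorem dvd_sub_one_of_prime_dvd {a n p r : ℕ} (ha : 1 < a) (hn : 0 < n) (hp : p.Prime)
    (hpn : p ∣ n) (hr : r.Prime) (hdvd : (r : ℤ) ∣ cyc n a) (hne : p ≠ r) :
    p ∣ r - 1 := by
  have : Fact r.Prime := Fact.mk hr
  have h2 := (hdvd.trans (cyc_dvd n a))
  have h3 := (ZMod.intCast_zmod_eq_zero_iff_dvd _ r).2 h2
  push_cast at h3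
  have h4 : ((a : ZMod r)) ^ n = 1 := sub_eq_zero.1 h3
  have ha0 : (a : ZMod r) ≠ 0 := by
    intro h0
    rw [h0, zero_pow hn.ne'] at h4
    exact zero_ne_one h4
  have h5 : ((a : ZMod r)) ^ (r - 1) = 1 := ZMod.pow_card_sub_one_eq_one ha0
  have h6 : ((a : ZMod r)) ^ (Nat.gcd n (r - 1)) = 1 := pow_gcd_eq_one.2 ⟨h4, h5⟩
  by_contra hpg
  have hpg' : ¬ p ∣ Nat.gcd n (r - 1) := fun h => hpg (h.trans (Nat.gcd_dvd_right _ _))
  have hcop : Nat.Coprime (Nat.gcd n (r - 1)) p :=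
    (Nat.Coprime.symm ((Nat.Prime.coprime_iff_not_dvd hp).2 hpg'))
  have hg : Nat.gcd n (r - 1) ∣ n / p := by
    have h7 : Nat.gcd n (r - 1) ∣ p * (n / p) := by
      rw [Nat.mul_div_cancel' hpn]; exact Nat.gcd_dvd_left _ _
    exact hcop.dvd_of_dvd_mul_left h7
  obtain ⟨c, hc⟩ := hg
  have h8 : ((a : ZMod r)) ^ (n / p) = 1 := by
    rw [hc, pow_mul, h6, one_pow]
  have h9 := (natCast_pow_sub_one_eq_zero_iff (r := r) (by omega : 0 < a)).1 h8
  exact hne (eq_of_dvd_pow_div_sub_one ha hn hp hpn hr hdvd h9).symm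

/-- B5: for an odd prime `r ∣ n`, `r ^ 2 ∤ Φ_n(a)`. -/
theorem not_sq_dvd_of_odd {a n r : ℕ} (ha : 1 < a) (hn : 0 < n) (hr : r.Prime) (hodd : Odd r)
    (hrn : r ∣ n) (hdvd : (r : ℤ) ∣ cyc n a) : ¬ ((r : ℤ) ^ 2 ∣ cyc n a) := by
  intro hsq
  have : Fact r.Prime := Fact.mk hr
  set b : ℕ := a ^ (n / r) with hb
  have h1 : 0 < n / r := Nat.div_pos (Nat.le_of_dvd hn hrn) hr.pos
  have hb2 : 1 < b := Nat.one_lt_pow h1.ne' ha
  have hrb : r ∣ b - 1 := dvd_pow_div_self_sub_one (by omega) hr hrn hdvd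
  have hnrb : ¬ r ∣ b := by
    intro h
    have h2 : r ∣ b - (b - 1) := Nat.dvd_sub h hrb
    have h3 : b - (b - 1) = 1 := by omega
    rw [h3] at h2
    exact hr.one_lt.ne' (Nat.dvd_one.1 h2)
  have hval : padicValNat r (b ^ r - 1 ^ r) = padicValNat r (b - 1) + padicValNat r r :=
    padicValNat.pow_sub_pow hodd hb2 hrb hnrb hr.ne_zero
  rw [one_pow, padicValNat_self] at hval
  have hmem : n / r ∈ n.properDivisors := by
    rw [Nat.mem_properDivisors]
    exact ⟨Nat.div_dvd_of_dvd hrn, Nat.div_lt_self hn hr.one_lt⟩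
  have h4 := cyc_mul_dvd a hmem
  have h5 : ((a : ℤ) ^ (n / r) - 1) * (r : ℤ) ^ 2 ∣ (a : ℤ) ^ n - 1 :=
    (mul_dvd_mul_left _ hsq).trans h4
  have h6 : (a : ℤ) ^ n = ((b ^ r : ℕ) : ℤ) := by
    rw [hb]; push_cast; rw [← pow_mul, Nat.div_mul_cancel hrn]
  have h7 : (a : ℤ) ^ (n / r) - 1 = ((b - 1 : ℕ) : ℤ) := by
    rw [hb, Nat.cast_sub (by omega)]; push_cast; rfl
  have hbr : 1 ≤ b ^ r := Nat.one_le_pow _ _ (by omega)
  have h8 : (a : ℤ) ^ n - 1 = ((b ^ r - 1 : ℕ) : ℤ) := by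
    rw [h6, Nat.cast_sub hbr]; push_cast; rfl
  rw [h7, h8] at h5
  have h9 : (b - 1) * r ^ 2 ∣ b ^ r - 1 := by exact_mod_cast h5
  have h10 : r ^ (padicValNat r (b - 1)) ∣ b - 1 := pow_padicValNat_dvd
  have h11 : r ^ (padicValNat r (b - 1) + 2) ∣ b ^ r - 1 := by
    rw [pow_add]; exact (mul_dvd_mul_right h10 _).trans h9
  have hne : b ^ r - 1 ≠ 0 := by
    have : 1 < b ^ r := Nat.one_lt_pow hr.ne_zero hb2
    omega
  have h12 := (padicValNat_dvd_iff_le hne).1 h11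
  omega

/-- B6: if `4 ∣ n` then `4 ∤ Φ_n(a)`. -/
theorem not_four_dvd {a n : ℕ} (ha : 1 < a) (hn : 0 < n) (h4 : 4 ∣ n) :
    ¬ ((4 : ℤ) ∣ cyc n a) := by
  intro hd
  have h2n : 2 ∣ n := (by norm_num : 2 ∣ 4).trans h4
  have h1 := hd.trans (cyc_dvd_geom ha hn Nat.prime_two h2n)
  have h1' : ((4 : ℕ) : ℤ) ∣ ∑ i ∈ Finset.range 2, ((a : ℤ) ^ (n / 2)) ^ i := by
    exact_mod_cast h1
  have h2 := (ZMod.intCast_zmod_eq_zero_iff_dvd _ 4).2 h1'
  obtain ⟨m, rfl⟩ := h4
  have h3 : 4 * m / 2 = 2 * m := by omega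
  rw [h3, Finset.sum_range_succ, Finset.sum_range_one] at h2
  push_cast at h2
  have key : ∀ c : ZMod 4, c ^ 0 + (c ^ 2) ^ 1 ≠ 0 := by decide
  apply key ((a : ZMod 4) ^ m)
  rw [← h2]
  ring

/-- "No primitive prime divisor". -/
def NoPrim (a n : ℕ) : Prop :=
  ∀ r : ℕ, r.Prime → r ∣ a ^ n - 1 → ∃ k : ℕ, 0 < k ∧ k < n ∧ r ∣ a ^ k - 1

/-- If `a ^ n - 1` has no primitive prime divisor (`n ≥ 3`), then `Φ_n(a)` is a prime `P`
dividing `n`, and all other primes dividing `n` divide `P - 1`. -/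
theorem cyc_eq_prime_of_noPrim {a n : ℕ} (ha : 1 < a) (hn : 3 ≤ n) (hno : NoPrim a n) :
    ∃ P : ℕ, P.Prime ∧ P ∣ n ∧ cyc n a = (P : ℤ) ∧
      ∀ p : ℕ, p.Prime → p ∣ n → p ≠ P → p ∣ P - 1 := by
  have hn0 : 0 < n := by omega
  have hdiv : ∀ r : ℕ, r.Prime → (r : ℤ) ∣ cyc n a → r ∣ n := by
    intro r hr hd
    by_contra hrn
    obtain ⟨h1, h2⟩ := primitive_of_not_dvd (by omega : 0 < a) hr hd hrn
    obtain ⟨k, hk0, hkn, hk⟩ := hno r hr h1
    exact h2 k hk0 hkn hk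
  have hpos : 0 < cyc n a := cyclotomic_pos (by omega : 2 < n) (a : ℤ)
  set N : ℕ := (cyc n a).natAbs with hNdef
  have hcN : cyc n a = (N : ℤ) := (Int.natAbs_of_nonneg hpos.le).symm
  have hN1 : 1 < N := by
    have := sub_one_lt_natAbs_cyclotomic_eval (n := n) (q := a) (by omega) (by omega)
    rw [← cyc_def, ← hNdef] at this
    omega
  have hdvdN : ∀ d : ℕ, d ∣ N → (d : ℤ) ∣ cyc n a := by
    intro d hd
    rw [hcN]; exact_mod_cast hd
  set P := N.minFac with hP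
  have hPp : P.Prime := Nat.minFac_prime (by omega)
  have hPN : P ∣ N := Nat.minFac_dvd N
  have hPc : (P : ℤ) ∣ cyc n a := hdvdN P hPN
  have hPn : P ∣ n := hdiv P hPp hPc
  have huniq : ∀ {d : ℕ}, d.Prime → d ∣ N → d = P := by
    intro d hd hdN
    by_contra hne
    have hdc := hdvdN d hdN
    have hdn := hdiv d hd hdc
    have h1 := dvd_sub_one_of_prime_dvd ha hn0 hd hdn hPp hPc hne
    have h2 := dvd_sub_one_of_prime_dvd ha hn0 hPp hPn hd hdc (Ne.symm hne)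
    have h3 := Nat.le_of_dvd (by have := hPp.two_le; omega) h1
    have h4 := Nat.le_of_dvd (by have := hd.two_le; omega) h2
    have := hd.two_le
    omega
  have hpow := Nat.eq_prime_pow_of_unique_prime_dvd (by omega : N ≠ 0) huniq
  set j := N.primeFactorsList.length with hj
  have hother : ∀ p : ℕ, p.Prime → p ∣ n → p ≠ P → p ∣ P - 1 := fun p hp hpn hne =>
    dvd_sub_one_of_prime_dvd ha hn0 hp hpn hPp hPc hne
  have hj1 : j ≤ 1 := by
    by_contra hj2
    have hsqN : P ^ 2 ∣ N := by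
      rw [hpow]; exact pow_dvd_pow _ (by omega)
    have hsq : (P : ℤ) ^ 2 ∣ cyc n a := by
      have := hdvdN _ hsqN
      push_cast at this
      exact this
    rcases hPp.eq_two_or_odd' with h2 | hodd
    · -- P = 2
      have h4n : 4 ∣ n := by
        obtain ⟨m, hm⟩ := hPn
        rw [h2] at hm
        rcases Nat.even_or_odd m with he | ho
        · obtain ⟨t, ht⟩ := he
          exact ⟨t, by omega⟩
        · exfalso
          have hm1 : m ≠ 1 := by omega
          obtain ⟨q, hq, hqm⟩ := Nat.exists_prime_and_dvd hm1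
          have hq2 : q ≠ P := by
            rw [h2]
            rintro rfl
            exact (Nat.not_even_iff_odd.2 ho) (even_iff_two_dvd.2 hqm)
          have hqn : q ∣ n := by rw [hm]; exact hqm.mul_left 2
          have := hother q hq hqn hq2
          rw [h2] at this
          have := Nat.le_of_dvd (by norm_num) this
          have := hq.two_le
          omega
      apply not_four_dvd ha hn0 h4n
      rw [h2] at hsq
      norm_num at hsq
      exact hsq
    · exact not_sq_dvd_of_odd ha hn0 hPp hodd hPn hPc hsq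
  have hj0 : j ≠ 0 := by
    intro h0
    rw [h0, pow_zero] at hpow
    omega
  have hj' : j = 1 := by omega
  rw [hj', pow_one] at hpow
  exact ⟨P, hPp, hPn, by rw [hcN, hpow], hother⟩

theorem not_noPrim_of_three_le {a n : ℕ} (ha : 3 ≤ a) (hn : 3 ≤ n) : ¬ NoPrim a n := by
  intro hno
  obtain ⟨P, hPp, hPn, hc, -⟩ := cyc_eq_prime_of_noPrim (by omega) hn hno
  have h1 := sub_one_pow_totient_lt_natAbs_cyclotomic_eval (n := n) (q := a) (by omega) (by omega)
  rw [← cyc_def, hc, Int.natAbs_natCast] at h1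
  have h2 : P - 1 ∣ n.totient := by
    have := Nat.totient_dvd_of_dvd hPn
    rwa [Nat.totient_prime hPp] at this
  have h3 : P - 1 ≤ n.totient := Nat.le_of_dvd (Nat.totient_pos.2 (by omega)) h2
  have h4 : 2 ^ (P - 1) ≤ (a - 1) ^ n.totient :=
    calc 2 ^ (P - 1) ≤ 2 ^ n.totient := Nat.pow_le_pow_right (by norm_num) h3
      _ ≤ (a - 1) ^ n.totient := Nat.pow_le_pow_left (by omega) _
  have h5 : P - 1 < 2 ^ (P - 1) := Nat.lt_two_pow_self
  have := hPp.two_le
  omega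

theorem cyc_mul_prime_of_dvd {p k : ℕ} (a : ℕ) (hp : p.Prime) (h : p ∣ k) :
    cyc (k * p) a = cyc k (a ^ p) := by
  rw [cyc, cyc, ← cyclotomic_expand_eq_cyclotomic hp h ℤ, expand_eval]
  push_cast
  rfl

theorem cyc_mul_prime_of_not_dvd {p k : ℕ} (a : ℕ) (hp : p.Prime) (h : ¬ p ∣ k) :
    cyc (k * p) a * cyc k a = cyc k (a ^ p) := by
  rw [cyc, cyc, cyc, ← eval_mul, ← cyclotomic_expand_eq_cyclotomic_mul hp h ℤ, expand_eval]
  push_cast
  rfl

theorem cyc_lt_add_one_pow {k a : ℕ} (hk : 3 ≤ k) (ha : 1 < a) :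
    cyc k a < ((a + 1) ^ k.totient : ℕ) := by
  have h := cyclotomic_eval_lt_add_one_pow_totient (n := k) (q := (a : ℝ)) hk (by exact_mod_cast ha)
  rw [← cyc_cast ℝ k a] at h
  have h' : ((cyc k a : ℤ) : ℝ) < (((a + 1) ^ k.totient : ℕ) : ℤ) := by
    push_cast; exact h
  exact_mod_cast h'

theorem add_two_le_two_pow {P : ℕ} (hP : 2 ≤ P) : P + 2 ≤ 2 ^ P := by
  induction P, hP using Nat.le_induction with
  | base => norm_num
  | succ m hm ih => rw [pow_succ]; omega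

theorem three_mul_lt_two_pow {P : ℕ} (hP : 4 ≤ P) : 3 * P < 2 ^ P := by
  induction P, hP using Nat.le_induction with
  | base => norm_num
  | succ m hm ih => rw [pow_succ]; omega

theorem two_mul_add_one_le_two_pow {P : ℕ} (hP : 3 ≤ P) : 2 * P + 1 ≤ 2 ^ P := by
  induction P, hP using Nat.le_induction with
  | base => norm_num
  | succ m hm ih => rw [pow_succ]; omega

theorem mul_three_pow_le {P t : ℕ} (hP : 3 ≤ P) (ht : 2 ≤ t) :
    P * 3 ^ t ≤ (2 ^ P - 1) ^ t := by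
  obtain ⟨s, rfl⟩ := Nat.exists_eq_add_of_le ht
  have h1 := two_mul_add_one_le_two_pow hP
  have h8 : 2 ^ 3 ≤ 2 ^ P := Nat.pow_le_pow_right (by norm_num) hP
  set x := 2 ^ P - 1 with hx
  have hx7 : 7 ≤ x := by omega
  have hx2 : 2 * P ≤ x := by omega
  have hsq : 9 * P ≤ x ^ 2 := by
    calc 9 * P ≤ 7 * (2 * P) := by omega
      _ ≤ x * x := Nat.mul_le_mul hx7 hx2
      _ = x ^ 2 := (sq x).symm
  have hs : 3 ^ s ≤ x ^ s := Nat.pow_le_pow_left (by omega) s
  calc P * 3 ^ (2 + s) = (9 * P) * 3 ^ s := by rw [pow_add]; ring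
    _ ≤ x ^ 2 * x ^ s := Nat.mul_le_mul hsq hs
    _ = x ^ (2 + s) := (pow_add x 2 s).symm

theorem not_noPrim_two {n : ℕ} (hn : 3 ≤ n) (h6 : n ≠ 6) : ¬ NoPrim 2 n := by
  intro hno
  obtain ⟨P, hPp, hPn, hc, hother⟩ := cyc_eq_prime_of_noPrim (by omega) hn hno
  obtain ⟨k, hk⟩ := hPn
  have hP2 := hPp.two_le
  have hk0 : 0 < k := by
    rcases Nat.eq_zero_or_pos k with h | h
    · rw [h] at hk; omega
    · exact h
  rw [mul_comm] at hk
  by_cases hPk : P ∣ k
  · have h1 := cyc_mul_prime_of_dvd 2 hPp hPk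
    rw [← hk, hc] at h1
    have hk2 : 1 < k := by
      have := Nat.le_of_dvd hk0 hPk
      omega
    have h2 := sub_one_lt_natAbs_cyclotomic_eval (n := k) (q := 2 ^ P) hk2
      (by have := add_two_le_two_pow hP2; omega)
    rw [← cyc_def, ← h1, Int.natAbs_natCast] at h2
    have := add_two_le_two_pow hP2
    omega
  · have h1 := cyc_mul_prime_of_not_dvd 2 hPp hPk
    rw [← hk, hc] at h1
    rcases Nat.lt_or_ge k 3 with hk3 | hk3
    · interval_cases k
      · -- k = 1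
        simp only [cyc, cyclotomic_one, eval_sub, eval_X, eval_one] at h1
        push_cast at h1
        have h2 : (P : ℤ) + 1 = 2 ^ P := by linarith
        have h3 : P + 1 = 2 ^ P := by exact_mod_cast h2
        have := add_two_le_two_pow hP2
        omega
      · -- k = 2
        simp only [cyc, cyclotomic_two, eval_add, eval_X, eval_one] at h1
        push_cast at h1
        have h2 : (P : ℤ) * 3 = 2 ^ P + 1 := by linarith
        have h3 : P * 3 = 2 ^ P + 1 := by exact_mod_cast h2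
        have hP2' : P ≠ 2 := by
          rintro rfl
          exact hPk (dvd_refl 2)
        have hP3' : P ≠ 3 := by
          rintro rfl
          exact h6 (by omega)
        have := three_mul_lt_two_pow (by omega : 4 ≤ P)
        omega
    · -- k ≥ 3
      have hkn : k ∣ n := ⟨P, hk⟩
      obtain ⟨q, hq, hqk⟩ := Nat.exists_prime_and_dvd (by omega : k ≠ 1)
      have hqP : q ≠ P := by
        rintro rfl
        exact hPk hqk
      have hq1 := hother q hq (hqk.trans hkn) hqP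
      have hq2 := Nat.le_of_dvd (by omega) hq1
      have hP3 : 3 ≤ P := by have := hq.two_le; omega
      have ht : 2 ≤ k.totient := by
        have h1 := Nat.totient_even (by omega : 2 < k)
        have h2 : 0 < k.totient := Nat.totient_pos.2 hk0
        obtain ⟨t, ht⟩ := h1
        omega
      have h2 := sub_one_pow_totient_lt_natAbs_cyclotomic_eval (n := k) (q := 2 ^ P) (by omega)
        (by have := add_two_le_two_pow hP2; omega)
      rw [← cyc_def, ← h1] at h2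
      have h3 := cyc_lt_add_one_pow hk3 (by norm_num : 1 < 2)
      have hpos : 0 < cyc k 2 := cyclotomic_pos (by omega : 2 < k) ((2 : ℕ) : ℤ)
      have h4 : (P : ℤ) * cyc k 2 < ((P * 3 ^ k.totient : ℕ) : ℤ) := by
        push_cast
        have hP0 : (0 : ℤ) < P := by exact_mod_cast hPp.pos
        have := mul_lt_mul_of_pos_left h3 hP0
        push_cast at this
        exact this
      have h5 : ((P : ℤ) * cyc k 2).natAbs < P * 3 ^ k.totient := by
        have hnn : 0 ≤ (P : ℤ) * cyc k 2 := by positivity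
        have := Int.natAbs_of_nonneg hnn
        omega
      have h6 := mul_three_pow_le hP3 ht
      omega

/-- **Zsigmondy's theorem** for `a ^ n - 1`. -/
theorem zsigmondy (a n : ℕ) (ha : 1 < a) (hn : 1 < n) (h6 : ¬ (a = 2 ∧ n = 6))
    (h2 : ¬ (n = 2 ∧ ∃ m : ℕ, a + 1 = 2 ^ m)) :
    ∃ r : ℕ, r.Prime ∧ r ∣ a ^ n - 1 ∧ ∀ k : ℕ, 0 < k → k < n → ¬ r ∣ a ^ k - 1 := by
  rcases Nat.lt_or_ge n 3 with hn3 | hn3
  · -- n = 2
    have hn2 : n = 2 := by omega
    subst hn2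
    -- a + 1 has an odd prime factor
    have hodd : ∃ r : ℕ, r.Prime ∧ r ∣ a + 1 ∧ r ≠ 2 := by
      by_contra hcon
      push Not at hcon
      apply h2
      refine ⟨rfl, _, Nat.eq_prime_pow_of_unique_prime_dvd (by omega) ?_⟩
      intro d hd hda
      exact hcon d hd hda
    obtain ⟨r, hr, hra, hr2⟩ := hodd
    refine ⟨r, hr, ?_, ?_⟩
    · have : a ^ 2 - 1 = (a + 1) * (a - 1) := by
        have h1 : 1 ≤ a := by omega
        obtain ⟨b, rfl⟩ := Nat.exists_eq_add_of_le h1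
        simp only [Nat.add_sub_cancel_left]
        have : (1 + b) ^ 2 = (1 + b + 1) * b + 1 := by ring
        rw [this]; simp
      rw [this]
      exact hra.mul_right _
    · intro k hk0 hk2 hrk
      have hk1 : k = 1 := by omega
      subst hk1
      rw [pow_one] at hrk
      have h3 : r ∣ (a + 1) - (a - 1) := Nat.dvd_sub hra hrk
      have h4 : (a + 1) - (a - 1) = 2 := by omega
      rw [h4] at h3
      exact hr2 ((Nat.prime_dvd_prime_iff_eq hr Nat.prime_two).1 h3)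
  · by_contra hcon
    have hno : NoPrim a n := by
      intro r hr hrn
      by_contra hk
      push Not at hk
      exact hcon ⟨r, hr, hrn, fun k hk0 hkn => hk k hk0 hkn⟩
    rcases Nat.lt_or_ge a 3 with ha3 | ha3
    · have ha2 : a = 2 := by omega
      subst ha2
      exact not_noPrim_two hn3 (fun h => h6 ⟨rfl, h⟩) hno
    · exact not_noPrim_of_three_le ha3 hn3 hno

end Cfsg.Agent.Lib.H29.Zsig
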