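import Mathlib
import Cfsg.Prelude.Def_ChevStructure
import Cfsg.Agent.Lib.H29.ChevF4s
import Cfsg.Agent.Lib.H29.ChevGen45
import Cfsg.Agent.Lib.H29.ChevTw16

/-!
# The stabiliser of a dominant root in the Weyl group
-/

set_option autoImplicit false
set_option linter.unusedSectionVars false
set_option linter.unusedSimpArgs false
set_option linter.unusedVariables false

namespace Cfsg.Agent.Lib.H29.Chev

open Cfsg.Lie Matrix

section Gen

variable {D : ChevalleyDatum} {fd : FD} {fx : FX} {fc : FC} {fz : FZ} {F : Type*} [Field F]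

namespace Cert12

variable (C : Cert12 D fd fx fc fz)
include C

theorem cls_wordP (cls : ℕ → Prop) (hcsw : ∀ i < fd.l, ∀ s < fd.n, cls s → cls (fd.sw fx i s))
    (w : List ℕ) (hw : IsWd fd.l w) (s : ℕ) (hs : s < fd.n) (h : cls s) : cls (fd.wordP fx w s) := by
  induction w with
  | nil => exact h
  | cons i w ih =>
    obtain ⟨hi, hw'⟩ := hw.of_cons
    exact hcsw i hi _ (C.wordP_lt w hw' s hs) (ih hw')

/-- a root has a non-zero coordinate -/
theorem rcZ_ne_zero (s : ℕ) (hs : s < fd.n) : ¬ ∀ j < fd.l, fd.rcZ fx s j = 0 := by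
  intro h
  have hev := C.c6.c2.heven
  have h1 := C.neg_of_nonpos s hs (fun j hj => le_of_eq (h j hj))
  have h2 := C.neg_of_nonpos (fd.n - 1 - s) (by omega) (fun j hj => by
    rw [C.rcZ_neg s j hs hj, h j hj, neg_zero])
  omega

/-- an element of the Weyl group fixing a dominant root, maximal in its class, is a word in the fundamental
reflections that fix it -/
theorem stab_word (r : ℕ) (hr : r < fd.n) (cls : ℕ → Prop)
    (hnJ : ∀ i < fd.l, fd.sw fx i r ≠ r → fd.rcZ fx (fd.sw fx i r) i < fd.rcZ fx r i)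
    (hcr : cls r) (hcsw : ∀ i < fd.l, ∀ s < fd.n, cls s → cls (fd.sw fx i s))
    (hmax : ∀ s < fd.n, cls s → ∀ j < fd.l, fd.rcZ fx s j ≤ fd.rcZ fx r j) :
    ∀ N : ℕ, ∀ (g : GL D.Idx F) (π : ℕ → ℕ), g ∈ D.monomialSubgroup F → C.c6.c2.Perm g π → π r = r →
      fd.invC π = N →
      ∃ w : List ℕ, (∀ i ∈ w, i < fd.l ∧ fd.sw fx i r = r) ∧ ∀ s < fd.n, π s = fd.wordP fx w s := by
  intro N
  induction N using Nat.strong_induction_on with
  | _ N ih =>
    intro g π hg hπ hfix hN
    by_cases hpos : ∀ i < fd.l, fd.n / 2 ≤ π (fd.simples.getD i 0)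
    · have h1 := C.mem_diag_of_pos g hg π hπ hpos
      have h2 := C.perm_unique g _ _ hπ (C.c6.perm_diag g h1)
      exact ⟨[], by simp, fun s hs => by rw [h2 s hs]; rfl⟩
    · push Not at hpos
      obtain ⟨i, hi, hneg⟩ := hpos
      have hp := C.c6.c2.simple_lt i hi
      have hsr := C.sw_lt i r hi hr
      have hJ : fd.sw fx i r = r := by
        by_contra hne
        have hlt := hnJ i hi hne
        obtain ⟨⟨π', hπ', hlin⟩, _⟩ := C.perm_lin g hg
        have heq := C.perm_unique g _ _ hπ hπ'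
        obtain ⟨⟨w, hw, hπw⟩, _⟩ := C.perm_word g hg
        have heqw := C.perm_unique g _ _ hπ hπw
        have hl : ∀ j < fd.l, fd.rcZ fx (fd.sw fx i r) j =
            1 * fd.rcZ fx r j + (-(fd.rcZ fx r i - fd.rcZ fx (fd.sw fx i r) i)) * fd.rcZ fx (fd.simples.getD i 0) j := by
          intro j hj
          rw [C.rcZ_simple i j hi hj]
          by_cases hji : j = i
          · subst hji
            rw [if_pos rfl]; ring
          · rw [C.sw_rc i r j hi hr hj hji, if_neg (Ne.symm hji)]; ring
        have key := fd.linP_apply π' hlin (fd.sw fx i r) r (fd.simples.getD i 0) hsr hr hp 1 _ hl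
        rw [← heq r hr, ← heq _ hsr, ← heq _ hp, hfix] at key
        have hcl : cls (π (fd.sw fx i r)) := by
          rw [heqw _ hsr]
          exact C.cls_wordP cls hcsw w hw _ hsr (hcsw i hi r hr hcr)
        have hmx := hmax _ (hπ _ hsr).1 hcl
        have hnp := C.rcZ_nonpos _ (hπ _ hp).1 hneg
        apply C.rcZ_ne_zero _ (hπ _ hp).1
        intro j hj
        have h1 := key j hj
        have h2 := hmx j hj
        have h3 := hnp j hj
        have h4 : 0 < fd.rcZ fx r i - fd.rcZ fx (fd.sw fx i r) i := by omega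
        by_contra h5
        have h6 : fd.rcZ fx (π (fd.simples.getD i 0)) j < 0 := lt_of_le_of_ne h3 h5
        have h7 : (fd.rcZ fx r i - fd.rcZ fx (fd.sw fx i r) i) * fd.rcZ fx (π (fd.simples.getD i 0)) j < 0 :=
          mul_neg_of_pos_of_neg h4 h6
        rw [h1] at h2
        linarith
      have hnG := (C.c6.perm_nG (F := F) i hi).1
      have hπ2 : C.c6.c2.Perm (g * C.c6.c2.nG (F := F) (fd.simples.getD i 0) hp) (fun s => π (fd.sw fx i s)) :=
        C.c6.perm_mul hπ hnG
      have hfix2 : π (fd.sw fx i r) = r := by rw [hJ, hfix]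
      have hinv := C.invC_sw π (fun s hs => ⟨(hπ s hs).1, (hπ s hs).2.1⟩) i hi hneg
      obtain ⟨w, hw, hws⟩ := ih (fd.invC (fun s => π (fd.sw fx i s))) (by omega) _ _
        (mul_mem hg (C.c6.c2.nG_mem_monomial _ _)) hπ2 hfix2 rfl
      refine ⟨w ++ [i], ?_, ?_⟩
      · intro j hj
        rcases List.mem_append.mp hj with hj | hj
        · exact hw j hj
        · rw [List.mem_singleton] at hj
          subst hj
          exact ⟨hi, hJ⟩
      · intro s hs
        rw [FD.wordP_append]
        simp only [FD.wordP]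
        rw [← hws _ (C.sw_lt i s hi hs), C.sw_sw i s hi hs]

end Cert12

end Gen

end Cfsg.Agent.Lib.H29.Chev
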