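import Mathlib
import Cfsg.Prelude.Def_ChevStructure
import Cfsg.Agent.Lib.H29.ChevCent1
import Cfsg.Agent.Lib.H29.ChevRee7
import Cfsg.Agent.Lib.H29.ChevRee1

/-!
# The centraliser of a root element that is central in `U`
-/

set_option autoImplicit false
set_option linter.unusedSectionVars false
set_option linter.unusedSimpArgs false
set_option linter.unusedVariables false

namespace Cfsg.Agent.Lib.H29.Chev

open Cfsg.Lie Matrix

section Gen

variable {D : ChevalleyDatum} {fd : FD} {fx : FX} {fc : FC} {fz : FZ} {F : Type*} [Field F]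

namespace Cert12

variable (C : Cert12 D fd fx fc fz)
include C

theorem xA_mem_posU (s : ℕ) (hs : s < fd.n) (hpos : fd.n / 2 ≤ s) (t : F) : C.c6.c2.xA s t ∈ D.posUnipotent F := by
  rw [C.c6.c2.xA_of_lt s hs]
  exact C.c6.c2.xG_mem_pos s hs hpos t

theorem dE_chiHom (x : Fin fd.l → Fˣ) (r : ℕ) (hr : r < fd.n) :
    dE D (chiHom D fd F x) r = ((∏ i : Fin fd.l, x i ^ fd.carZ i.val r : Fˣ) : F) := by
  have hr' : r < D.nroots := by rw [C.c6.c2.nroots_eq]; exact hr
  unfold dE
  rw [dif_pos hr', chiHom_val, Matrix.diagonal_apply_eq]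
  rfl

/-- the elements `h_p(u)` for a fundamental root `p` lie in a subgroup containing `X_p` and `X_{-p}` -/
theorem chi_single_mem (T : Subgroup (GL D.Idx F)) (i : Fin fd.l)
    (h1 : ∀ c : F, C.c6.c2.xA (fd.simples.getD i.val 0) c ∈ T)
    (h2 : ∀ c : F, C.c6.c2.xA (fd.n - 1 - fd.simples.getD i.val 0) c ∈ T) (u : Fˣ) :
    chiHom D fd F (Pi.mulSingle i u) ∈ T := by
  have hp := C.c6.c2.simple_lt i.val i.isLt
  have := C.hgen_eq_nE _ _ hp _ (C.chi_single i u)
  rw [this]
  unfold Cert12.nE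
  exact mul_mem (mul_mem (mul_mem (h1 _) (h2 _)) (h1 _)) (mul_mem (mul_mem (h1 _) (h2 _)) (h1 _))

/-- the centraliser of the root element `x_r(1)`, for a dominant root `r` maximal in its class whose root subgroup is
central in `U`, is contained in every subgroup containing `U` and the root subgroups of the negatives of the
fundamental roots orthogonal to `r` -/
theorem cent_root_le (r : ℕ) (hr : r < fd.n) (cls : ℕ → Prop)
    (hnJ : ∀ i < fd.l, fd.sw fx i r ≠ r → fd.rcZ fx (fd.sw fx i r) i < fd.rcZ fx r i)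
    (hcr : cls r) (hcsw : ∀ i < fd.l, ∀ s < fd.n, cls s → cls (fd.sw fx i s))
    (hmax : ∀ s < fd.n, cls s → ∀ j < fd.l, fd.rcZ fx s j ≤ fd.rcZ fx r j)
    (hUc : ∀ u ∈ D.posUnipotent F, Commute u (C.c6.c2.xA r 1))
    (hLc : ∀ i < fd.l, fd.sw fx i r = r → ∀ c : F,
      Commute (C.c6.c2.xA (fd.n - 1 - fd.simples.getD i 0) c) (C.c6.c2.xA r 1))
    (i₀ : ℕ) (hcar : ∀ i < fd.l, fd.carZ i r = if i = i₀ then 1 else 0)
    (hJc : ∀ i < fd.l, i ≠ i₀ → fd.sw fx i r = r)
    (T : Subgroup (GL D.Idx F)) (hU : D.posUnipotent F ≤ T)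
    (hT : ∀ i < fd.l, fd.sw fx i r = r → ∀ c : F, C.c6.c2.xA (fd.n - 1 - fd.simples.getD i 0) c ∈ T) :
    D.group F ⊓ Subgroup.centralizer {C.c6.c2.xA r 1} ≤ T := by
  intro g hg
  obtain ⟨hgG, hgc⟩ := Subgroup.mem_inf.mp hg
  have hgc' : Commute g (C.c6.c2.xA r 1) := by
    have := Subgroup.mem_centralizer_iff.mp hgc _ (Set.mem_singleton _)
    exact this.symm
  obtain ⟨b, hb, n, hn, u, hu, rfl⟩ := C.c6.canonical_form.1 g hgG
  obtain ⟨u₀, hu₀, h, hh, rfl⟩ := C.c6.c2.borel_mem b hb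
  have huU := _root_.Cfsg.Agent.Lib.H29.Chev.Uw_le_pos n hu
  have hHN : D.diagonalSubgroup F ≤ D.monomialSubgroup F := le_sup_left
  have hm : h * n ∈ D.monomialSubgroup F := mul_mem (hHN hh) hn
  -- `h n` commutes with `t`
  have hmc : Commute (h * n) (C.c6.c2.xA r 1) := by
    have e : h * n = u₀⁻¹ * (u₀ * h * n * u) * u⁻¹ := by group
    rw [e]
    exact ((hUc u₀ hu₀).inv_left.mul_left hgc').mul_left (hUc u huU).inv_left
  -- the permutation of `h n` fixes `r`
  obtain ⟨⟨π, hπ⟩, _⟩ := C.c6.perm_of_mem (h * n) hm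
  have hfix : π r = r := by
    obtain ⟨h1, _, c, h3⟩ := hπ r hr
    have e := h3 1
    have e2 : h * n * C.c6.c2.xA r 1 * (h * n)⁻¹ = C.c6.c2.xA r 1 := by
      rw [hmc.eq, mul_inv_cancel_right]
    rw [e2] at e
    exact (C.xA_inj r (π r) hr h1 1 _ one_ne_zero e).symm
  obtain ⟨w, hw, hws⟩ := C.stab_word r hr cls hnJ hcr hcsw hmax _ (h * n) π hm hπ hfix rfl
  have hwd : IsWd fd.l w := fun i hi => (hw i hi).1
  -- the element of the word lies in `T` and commutes with `t`
  have hwT : ∀ w : List ℕ, (∀ i ∈ w, i < fd.l ∧ fd.sw fx i r = r) →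
      C.wordN F w ∈ T ∧ Commute (C.wordN F w) (C.c6.c2.xA r 1) := by
    intro w
    induction w with
    | nil => intro _; exact ⟨one_mem _, Commute.one_left _⟩
    | cons i w ih =>
      intro hw
      obtain ⟨hi, hJ⟩ := hw i List.mem_cons_self
      obtain ⟨ih1, ih2⟩ := ih (fun j hj => hw j (List.mem_cons_of_mem _ hj))
      have hp := C.c6.c2.simple_lt i hi
      have hpp := C.c6.simple_pos i hi
      simp only [wordN, dif_pos hi]
      rw [C.c6.c2.nG_eq_xA' _ hp]
      have a1 := hU (C.xA_mem_posU _ hp hpp (1 : F))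
      have a2 := hT i hi hJ (-1)
      have c1 := hUc _ (C.xA_mem_posU _ hp hpp (1 : F))
      have c2 := hLc i hi hJ (-1)
      exact ⟨mul_mem (mul_mem (mul_mem a1 a2) a1) ih1, (((c1.mul_left c2).mul_left c1).mul_left ih2)⟩
  obtain ⟨hwT1, hwT2⟩ := hwT w hw
  have hd := C.mul_inv_mem_diag' (h * n) (C.wordN F w) hm (C.wordN_mem w) π _ hπ (C.perm_wordN w hwd) hws
  -- the diagonal part commutes with `t`
  have hdc : Commute (h * n * (C.wordN F w)⁻¹) (C.c6.c2.xA r 1) := hmc.mul_left hwT2.inv_left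
  have hdE : dE D (h * n * (C.wordN F w)⁻¹) r = 1 := by
    have e := C.diag_conj_xA _ hd r hr 1
    rw [hdc.eq, mul_inv_cancel_right, mul_one] at e
    exact (C.xA_param_inj' r hr _ _ e).symm
  -- so it lies in `T`
  have hdT : h * n * (C.wordN F w)⁻¹ ∈ T := by
    rw [C.diag_eq_range] at hd
    obtain ⟨x, hx⟩ := hd
    rw [← hx] at hdE ⊢
    rw [C.dE_chiHom x r hr] at hdE
    by_cases hi₀ : i₀ < fd.l
    · have hx0 : x ⟨i₀, hi₀⟩ = 1 := by
        rw [Finset.prod_eq_single ⟨i₀, hi₀⟩] at hdE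
        · rw [hcar i₀ hi₀, if_pos rfl, zpow_one] at hdE
          exact Units.ext hdE
        · intro j _ hj
          have : j.val ≠ i₀ := fun e => hj (Fin.ext e)
          rw [hcar j.val j.isLt, if_neg this, zpow_zero]
        · intro h; exact absurd (Finset.mem_univ _) h
      have key : x ∈ T.comap (chiHom D fd F) := by
        rw [← Finset.univ_prod_mulSingle x]
        apply Subgroup.prod_mem
        intro i _
        rw [Subgroup.mem_comap]
        by_cases hii : i.val = i₀
        · have : i = ⟨i₀, hi₀⟩ := Fin.ext hii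
          rw [this, hx0, Pi.mulSingle_one, map_one]
          exact one_mem _
        · have hJ := hJc i.val i.isLt hii
          have hp := C.c6.c2.simple_lt i.val i.isLt
          have hpp := C.c6.simple_pos i.val i.isLt
          exact C.chi_single_mem T i (fun c => hU (C.xA_mem_posU _ hp hpp c)) (hT i.val i.isLt hJ) _
      exact key
    · have key : x ∈ T.comap (chiHom D fd F) := by
        rw [← Finset.univ_prod_mulSingle x]
        apply Subgroup.prod_mem
        intro i _
        rw [Subgroup.mem_comap]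
        have hii : i.val ≠ i₀ := fun e => hi₀ (e ▸ i.isLt)
        have hJ := hJc i.val i.isLt hii
        have hp := C.c6.c2.simple_lt i.val i.isLt
        have hpp := C.c6.simple_pos i.val i.isLt
        exact C.chi_single_mem T i (fun c => hU (C.xA_mem_posU _ hp hpp c)) (hT i.val i.isLt hJ) _
      exact key
  have e : u₀ * h * n * u = u₀ * ((h * n * (C.wordN F w)⁻¹) * C.wordN F w) * u := by group
  rw [e]
  exact mul_mem (mul_mem (hU hu₀) (mul_mem hdT hwT1)) (hU huU)

end Cert12

end Gen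

end Cfsg.Agent.Lib.H29.Chev
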