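import Mathlib
import Cfsg.Prelude.Def_ChevStructure
import Cfsg.Agent.Lib.H29.ChevCent2

/-!
# The centraliser of a root element that is central in `U`: the table data
-/

set_option autoImplicit false
set_option linter.unusedSectionVars false
set_option linter.unusedSimpArgs false
set_option linter.unusedVariables false

namespace Cfsg.Agent.Lib.H29.Chev

open Cfsg.Lie Matrix

/-- the table data of a dominant root `r`: `i₀` is the only fundamental root not orthogonal to `r`, `L` lists the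
negatives of the others, `cls` is a class of roots stable under the Weyl group in which `r` is the largest -/
structure CentData (fd : FD) (fx : FX) (r i₀ : ℕ) (L : List ℕ) (cls : ℕ → Bool) : Prop where
  hr : r < fd.n
  hrpos : fd.n / 2 ≤ r
  hnJ : ∀ i < fd.l, fd.sw fx i r ≠ r → fd.rcZ fx (fd.sw fx i r) i < fd.rcZ fx r i
  hcr : cls r = true
  hcsw : ∀ i < fd.l, ∀ s < fd.n, cls s = true → cls (fd.sw fx i s) = true
  hmax : ∀ s < fd.n, cls s = true → ∀ j < fd.l, fd.rcZ fx s j ≤ fd.rcZ fx r j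
  hcar : ∀ i < fd.l, fd.carZ i r = if i = i₀ then 1 else 0
  hJc : ∀ i < fd.l, i ≠ i₀ → fd.sw fx i r = r
  hL1 : ∀ i < fd.l, fd.sw fx i r = r → fd.n - 1 - fd.simples.getD i 0 ∈ L
  hL2 : ∀ s ∈ L, s < fd.n ∧ r ≠ fd.n - 1 - s ∧ s ≠ r ∧ ∃ i < fd.l, fd.sw fx i r = r ∧ s = fd.n - 1 - fd.simples.getD i 0

section Gen

variable {D : ChevalleyDatum} {fd : FD} {fx : FX} {fc : FC} {fz : FZ} {F : Type*} [Field F]

namespace Cert12

variable (C : Cert12 D fd fx fc fz)
include C

/-- two root elements commute when the coefficients of the commutator formula vanish in the field -/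
theorem xA_comm_of_coef (s r : ℕ) (hs : s < fd.n) (hr : r < fd.n) (h1 : r ≠ s) (h2 : r ≠ fd.n - 1 - s)
    (hz : ∀ c ∈ fd.commT s r, ((c.2.1 : ℤ) : F) = 0) (t u : F) :
    Commute (C.c6.c2.xA s t) (C.c6.c2.xA r u) := by
  have := C.c6.cfg (F := F) s r hs hr h1 h2 t u
  have e : C.c6.c2.ctG (fd.commT s r) t u = 1 := by
    unfold Cert2.ctG
    apply List.prod_eq_one
    intro x hx
    obtain ⟨c, hc, rfl⟩ := List.mem_map.mp hx
    rw [hz c hc, zero_mul, zero_mul, C.c6.c2.xA_zero]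
  rw [e, mul_one] at this
  exact this.symm

/-- the centraliser of `x_r(1)` -/
theorem cent_root_eq (r i₀ : ℕ) (L : List ℕ) (cls : ℕ → Bool) (cd : CentData fd fx r i₀ L cls)
    (hz : ∀ s < fd.n, (fd.n / 2 ≤ s ∨ s ∈ L) → s ≠ r → ∀ c ∈ fd.commT s r, ((c.2.1 : ℤ) : F) = 0)
    (t : GL D.Idx F) (ht : (t : Matrix D.Idx D.Idx F) = D.x F r 1) :
    D.group F ⊓ Subgroup.centralizer {t} =
      D.posUnipotent F ⊔ Subgroup.closure {g : GL D.Idx F | ∃ s ∈ L, ∃ c : F, (g : Matrix D.Idx D.Idx F) = D.x F s c} := by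
  have hev := C.c6.c2.heven
  have htx : t = C.c6.c2.xA r 1 := gl_ext (by rw [ht, C.c6.c2.xA_val])
  subst htx
  have hr := cd.hr
  -- the positive root elements commute with `t`
  have hpc : ∀ s < fd.n, fd.n / 2 ≤ s → ∀ c : F, Commute (C.c6.c2.xA s c) (C.c6.c2.xA r 1) := by
    intro s hs hpos c
    by_cases hsr : s = r
    · rw [hsr]
      show C.c6.c2.xA r c * C.c6.c2.xA r 1 = C.c6.c2.xA r 1 * C.c6.c2.xA r c
      rw [C.c6.c2.xA_mul, C.c6.c2.xA_mul, add_comm]
    · have := cd.hrpos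
      exact C.xA_comm_of_coef s r hs hr (Ne.symm hsr) (by omega) (hz s hs (Or.inl hpos) hsr) c 1
  have hUc : ∀ u ∈ D.posUnipotent F, Commute u (C.c6.c2.xA r 1) := by
    intro u hu
    unfold ChevalleyDatum.posUnipotent at hu
    induction hu using Subgroup.closure_induction with
    | mem x hx =>
      obtain ⟨s, c, hs, hx⟩ := hx
      obtain ⟨hs1, hs2⟩ := (C.c6.isPos_iff s).mp hs
      have : x = C.c6.c2.xA s c := gl_ext (by rw [hx, C.c6.c2.xA_val])
      rw [this]
      exact hpc s hs1 hs2 c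
    | one => exact Commute.one_left _
    | mul x y _ _ hx hy => exact hx.mul_left hy
    | inv x _ hx => exact hx.inv_left
  have hLc' : ∀ s ∈ L, ∀ c : F, Commute (C.c6.c2.xA s c) (C.c6.c2.xA r 1) := by
    intro s hs c
    obtain ⟨h1, h2, h3, _⟩ := cd.hL2 s hs
    exact C.xA_comm_of_coef s r h1 hr (Ne.symm h3) h2 (hz s h1 (Or.inr hs) h3) c 1
  have hLc : ∀ i < fd.l, fd.sw fx i r = r → ∀ c : F,
      Commute (C.c6.c2.xA (fd.n - 1 - fd.simples.getD i 0) c) (C.c6.c2.xA r 1) :=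
    fun i hi hJ c => hLc' _ (cd.hL1 i hi hJ) c
  apply le_antisymm
  · apply C.cent_root_le r hr (fun s => cls s = true) cd.hnJ cd.hcr cd.hcsw cd.hmax hUc hLc i₀ cd.hcar cd.hJc _
      le_sup_left
    intro i hi hJ c
    apply (le_sup_right : _ ≤ D.posUnipotent F ⊔ _)
    exact Subgroup.subset_closure ⟨_, cd.hL1 i hi hJ, c, C.c6.c2.xA_val _ _⟩
  · rw [sup_le_iff]
    constructor
    · intro u hu
      refine Subgroup.mem_inf.mpr ⟨C.c6.c2.pos_le_group hu, ?_⟩
      rw [Subgroup.mem_centralizer_iff]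
      intro x hx
      rw [Set.mem_singleton_iff] at hx
      rw [hx]
      exact ((hUc u hu).eq).symm
    · rw [Subgroup.closure_le]
      rintro g ⟨s, hs, c, hg⟩
      have : g = C.c6.c2.xA s c := gl_ext (by rw [hg, C.c6.c2.xA_val])
      rw [this]
      refine Subgroup.mem_inf.mpr ⟨C.c6.c2.xA_mem_group _ _, ?_⟩
      rw [Subgroup.mem_centralizer_iff]
      intro x hx
      rw [Set.mem_singleton_iff] at hx
      rw [hx]
      exact ((hLc' s hs c).eq).symm

end Cert12

end Gen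

end Cfsg.Agent.Lib.H29.Chev
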