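import Mathlib
import Cfsg.Prelude.Def_ChevStructure
import Cfsg.Agent.Lib.H29.ChevCent3
import Cfsg.Agent.Lib.H29.ChevCert13

/-!
# The centralisers of the long root involutions of `E₆`, `E₇`, `E₈` and of the root involutions of `F₄`
-/

set_option autoImplicit false
set_option linter.unusedSectionVars false
set_option linter.unusedSimpArgs false
set_option linter.unusedVariables false

namespace Cfsg.Agent.Lib.H29.Chev

open Cfsg.Lie Matrix

set_option maxRecDepth 100000 in
theorem cdE6 : CentData fdE6 fxE6 71 1 [15, 29, 32, 34, 35] (fun _ => true) where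
  hr := by decide +kernel
  hrpos := by decide +kernel
  hnJ := by decide +kernel
  hcr := rfl
  hcsw := fun _ _ _ _ _ => rfl
  hmax := by decide +kernel
  hcar := by decide +kernel
  hJc := by decide +kernel
  hL1 := by decide +kernel
  hL2 := by decide +kernel

set_option maxRecDepth 100000 in
theorem hzE6 : ∀ s < fdE6.n, (fdE6.n / 2 ≤ s ∨ s ∈ [15, 29, 32, 34, 35]) → s ≠ 71 → fdE6.commT s 71 = [] := by
  decide +kernel

set_option maxRecDepth 100000 in
theorem cdE7 : CentData fdE7 fxE7 125 0 [47, 52, 56, 59, 61, 62] (fun _ => true) where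
  hr := by decide +kernel
  hrpos := by decide +kernel
  hnJ := by decide +kernel
  hcr := rfl
  hcsw := fun _ _ _ _ _ => rfl
  hmax := by decide +kernel
  hcar := by decide +kernel
  hJc := by decide +kernel
  hL1 := by decide +kernel
  hL2 := by decide +kernel

set_option maxRecDepth 100000 in
theorem hzE7 : ∀ s < fdE7.n, (fdE7.n / 2 ≤ s ∨ s ∈ [47, 52, 56, 59, 61, 62]) → s ≠ 125 → fdE7.commT s 125 = [] := by
  decide +kernel

set_option maxRecDepth 100000 in
theorem cdE8 : CentData fdE8 fxE8 239 7 [77, 98, 104, 109, 113, 116, 118] (fun _ => true) where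
  hr := by decide +kernel
  hrpos := by decide +kernel
  hnJ := by decide +kernel
  hcr := rfl
  hcsw := fun _ _ _ _ _ => rfl
  hmax := by decide +kernel
  hcar := by decide +kernel
  hJc := by decide +kernel
  hL1 := by decide +kernel
  hL2 := by decide +kernel

set_option maxRecDepth 100000 in
theorem hzE8 : ∀ s < fdE8.n, (fdE8.n / 2 ≤ s ∨ s ∈ [77, 98, 104, 109, 113, 116, 118]) → s ≠ 239 →
    fdE8.commT s 239 = [] := by
  decide +kernel

set_option maxRecDepth 100000 in
theorem cdF4l : CentData fdF4 fxF4 47 3 [14, 20, 22] (fun _ => true) where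
  hr := by decide +kernel
  hrpos := by decide +kernel
  hnJ := by decide +kernel
  hcr := rfl
  hcsw := fun _ _ _ _ _ => rfl
  hmax := by decide +kernel
  hcar := by decide +kernel
  hJc := by decide +kernel
  hL1 := by decide +kernel
  hL2 := by decide +kernel

set_option maxRecDepth 100000 in
theorem hzF4l : ∀ s < fdF4.n, (fdF4.n / 2 ≤ s ∨ s ∈ [14, 20, 22]) → s ≠ 47 → fdF4.commT s 47 = [] := by
  decide +kernel

/-- the short roots of `F₄` -/
def shortF4 (s : ℕ) : Bool := lamF4 s == 2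

set_option maxRecDepth 100000 in
theorem cdF4s : CentData fdF4 fxF4 44 0 [20, 22, 23] shortF4 where
  hr := by decide +kernel
  hrpos := by decide +kernel
  hnJ := by decide +kernel
  hcr := by decide +kernel
  hcsw := by decide +kernel
  hmax := by decide +kernel
  hcar := by decide +kernel
  hJc := by decide +kernel
  hL1 := by decide +kernel
  hL2 := by decide +kernel

set_option maxRecDepth 100000 in
theorem hzF4s : ∀ s < fdF4.n, (fdF4.n / 2 ≤ s ∨ s ∈ [20, 22, 23]) → s ≠ 44 →
    ∀ c ∈ fdF4.commT s 44, (2 : ℤ) ∣ c.2.1 := by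
  decide +kernel

section Fld

variable {F : Type*} [Field F]

theorem cent_E6 (t : GL chevE6.Idx F) (ht : (t : Matrix chevE6.Idx chevE6.Idx F) = chevE6.x F 71 1) :
    chevE6.group F ⊓ Subgroup.centralizer {t} = chevE6.posUnipotent F ⊔
      Subgroup.closure {g : GL chevE6.Idx F | ∃ s ∈ [15, 29, 32, 34, 35], ∃ c : F,
        (g : Matrix chevE6.Idx chevE6.Idx F) = chevE6.x F s c} :=
  cert12_E6.cent_root_eq 71 1 _ _ cdE6 (fun s hs h1 h2 c hc => by
    rw [hzE6 s hs h1 h2] at hc; exact absurd hc (List.not_mem_nil)) t ht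

theorem cent_E7 (t : GL chevE7.Idx F) (ht : (t : Matrix chevE7.Idx chevE7.Idx F) = chevE7.x F 125 1) :
    chevE7.group F ⊓ Subgroup.centralizer {t} = chevE7.posUnipotent F ⊔
      Subgroup.closure {g : GL chevE7.Idx F | ∃ s ∈ [47, 52, 56, 59, 61, 62], ∃ c : F,
        (g : Matrix chevE7.Idx chevE7.Idx F) = chevE7.x F s c} :=
  cert12_E7.cent_root_eq 125 0 _ _ cdE7 (fun s hs h1 h2 c hc => by
    rw [hzE7 s hs h1 h2] at hc; exact absurd hc (List.not_mem_nil)) t ht

theorem cent_E8 (t : GL chevE8.Idx F) (ht : (t : Matrix chevE8.Idx chevE8.Idx F) = chevE8.x F 239 1) :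
    chevE8.group F ⊓ Subgroup.centralizer {t} = chevE8.posUnipotent F ⊔
      Subgroup.closure {g : GL chevE8.Idx F | ∃ s ∈ [77, 98, 104, 109, 113, 116, 118], ∃ c : F,
        (g : Matrix chevE8.Idx chevE8.Idx F) = chevE8.x F s c} :=
  cert12_E8.cent_root_eq 239 7 _ _ cdE8 (fun s hs h1 h2 c hc => by
    rw [hzE8 s hs h1 h2] at hc; exact absurd hc (List.not_mem_nil)) t ht

theorem cent_F4l (t : GL chevF4.Idx F) (ht : (t : Matrix chevF4.Idx chevF4.Idx F) = chevF4.x F 47 1) :
    chevF4.group F ⊓ Subgroup.centralizer {t} = chevF4.posUnipotent F ⊔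
      Subgroup.closure {g : GL chevF4.Idx F | ∃ s ∈ [14, 20, 22], ∃ c : F,
        (g : Matrix chevF4.Idx chevF4.Idx F) = chevF4.x F s c} :=
  cert12_F4.cent_root_eq 47 3 _ _ cdF4l (fun s hs h1 h2 c hc => by
    rw [hzF4l s hs h1 h2] at hc; exact absurd hc (List.not_mem_nil)) t ht

theorem cent_F4s [CharP F 2] (t : GL chevF4.Idx F) (ht : (t : Matrix chevF4.Idx chevF4.Idx F) = chevF4.x F 44 1) :
    chevF4.group F ⊓ Subgroup.centralizer {t} = chevF4.posUnipotent F ⊔
      Subgroup.closure {g : GL chevF4.Idx F | ∃ s ∈ [20, 22, 23], ∃ c : F,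
        (g : Matrix chevF4.Idx chevF4.Idx F) = chevF4.x F s c} :=
  cert12_F4.cent_root_eq 44 0 _ _ cdF4s (fun s hs h1 h2 c hc => by
    obtain ⟨k, hk⟩ := hzF4s s hs h1 h2 c hc
    rw [hk, Int.cast_mul]
    have : ((2 : ℤ) : F) = 0 := by
      have := CharP.cast_eq_zero F 2
      exact_mod_cast this
    rw [this, zero_mul]) t ht

/-- a join of root subgroups as the closure of the root elements -/
theorem sup_rootSubgroup_three (D : ChevalleyDatum) (U : Subgroup (GL D.Idx F)) (a b c : ℕ) :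
    U ⊔ D.rootSubgroup F a ⊔ D.rootSubgroup F b ⊔ D.rootSubgroup F c =
      U ⊔ Subgroup.closure {g : GL D.Idx F | ∃ s ∈ [a, b, c], ∃ t : F, (g : Matrix D.Idx D.Idx F) = D.x F s t} := by
  unfold ChevalleyDatum.rootSubgroup
  rw [sup_assoc, sup_assoc, ← Subgroup.closure_union, ← Subgroup.closure_union]
  congr 2
  ext g
  simp only [Set.mem_union, Set.mem_ofPred_eq, List.mem_cons, List.mem_nil_iff, or_false]
  constructor
  · rintro (⟨t, h⟩ | ⟨t, h⟩ | ⟨t, h⟩)
    · exact ⟨a, Or.inl rfl, t, h⟩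
    · exact ⟨b, Or.inr (Or.inl rfl), t, h⟩
    · exact ⟨c, Or.inr (Or.inr rfl), t, h⟩
  · rintro ⟨s, (rfl | rfl | rfl), t, h⟩
    · exact Or.inl ⟨t, h⟩
    · exact Or.inr (Or.inl ⟨t, h⟩)
    · exact Or.inr (Or.inr ⟨t, h⟩)

end Fld

end Cfsg.Agent.Lib.H29.Chev
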