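import Mathlib
import Cfsg.Prelude.Def_ChevStructure
import Cfsg.Agent.Lib.H29.ChevCent4

/-!
# The centraliser of a long root element of `G₂`
-/

set_option autoImplicit false
set_option linter.unusedSectionVars false
set_option linter.unusedSimpArgs false
set_option linter.unusedVariables false

namespace Cfsg.Agent.Lib.H29.Chev

open Cfsg.Lie Matrix

set_option maxRecDepth 100000 in
theorem cdG2l : CentData fdG2 fxG2 11 1 [4] (fun _ => true) where
  hr := by decide +kernel
  hrpos := by decide +kernel
  hnJ := by decide +kernel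
  hcr := rfl
  hcsw := fun _ _ _ _ _ => rfl
  hmax := by decide +kernel
  hcar := by decide +kernel
  hJc := by decide +kernel
  hL1 := by decide +kernel
  hL2 := by decide +kernel

set_option maxRecDepth 100000 in
theorem hzG2l : ∀ s < fdG2.n, (fdG2.n / 2 ≤ s ∨ s ∈ [4]) → s ≠ 11 → fdG2.commT s 11 = [] := by
  decide +kernel

section Fld

variable {F : Type*} [Field F]

theorem cent_G2l (t : GL chevG2.Idx F) (ht : (t : Matrix chevG2.Idx chevG2.Idx F) = chevG2.x F 11 1) :
    chevG2.group F ⊓ Subgroup.centralizer {t} = chevG2.posUnipotent F ⊔ chevG2.rootSubgroup F 4 := by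
  rw [cert12_G2.cent_root_eq 11 1 _ _ cdG2l (fun s hs h1 h2 c hc => by
    rw [hzG2l s hs h1 h2] at hc; exact absurd hc (List.not_mem_nil)) t ht]
  congr 1
  unfold ChevalleyDatum.rootSubgroup
  congr 1
  ext g
  simp only [Set.mem_ofPred_eq, List.mem_cons, List.mem_nil_iff, or_false]
  constructor
  · rintro ⟨s, rfl, c, h⟩
    exact ⟨c, h⟩
  · rintro ⟨c, h⟩
    exact ⟨4, rfl, c, h⟩

end Fld

end Cfsg.Agent.Lib.H29.Chev
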