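import Mathlib
import Cfsg.Prelude.Def_ChevStructure
import Cfsg.Agent.Lib.H29.ChevCent4

/-!
# Products of root elements of distinct positive roots, in any order

If such a product lies in a level of the height filtration, the parameters at the roots of smaller height vanish.
-/

set_option autoImplicit false
set_option linter.unusedSectionVars false
set_option linter.unusedSimpArgs false
set_option linter.unusedVariables false

namespace Cfsg.Agent.Lib.H29.Chev

open Cfsg.Lie Matrix

variable {D : ChevalleyDatum} {fd : FD} {fx : FX} {fc : FC} {fz : FZ} {F : Type*} [Field F]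

theorem sum_ite_fst_nodup (L : List (ℕ × F)) (hnd : (L.map Prod.fst).Nodup) (p : ℕ × F) (hp : p ∈ L) :
    (L.map fun x => if x.1 = p.1 then x.2 else 0).sum = p.2 := by
  induction L with
  | nil => exact absurd hp List.not_mem_nil
  | cons a L ih =>
    rw [List.map_cons, List.nodup_cons] at hnd
    rw [List.map_cons, List.sum_cons]
    rcases List.mem_cons.mp hp with rfl | hp'
    · rw [if_pos rfl]
      have : (L.map fun x => if x.1 = p.1 then x.2 else 0).sum = 0 := by
        apply List.sum_eq_zero
        intro y hy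
        obtain ⟨x, hx, rfl⟩ := List.mem_map.mp hy
        have : x.1 ≠ p.1 := fun e => hnd.1 (e ▸ List.mem_map_of_mem hx)
        rw [if_neg this]
      rw [this, add_zero]
    · have : a.1 ≠ p.1 := fun e => hnd.1 (e ▸ List.mem_map_of_mem hp')
      rw [if_neg this, zero_add, ih hnd.2 hp']

namespace Cert12

variable (C : Cert12 D fd fx fc fz)
include C

/-- the height of a positive root is positive -/
theorem ht_pos (r : ℕ) (hr : r < fd.n) (hpos : fd.n / 2 ≤ r) : 0 < fd.ht fx r := by
  have hev := C.c6.c2.heven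
  unfold FD.ht FD.omr
  rw [listsum_eq]
  have hnn : ∀ j ∈ Finset.range fd.l, 0 ≤ hwt j * fd.rcZ fx r j := by
    intro j hj
    rw [Finset.mem_range] at hj
    have h1 := C.rcZ_nonpos (fd.n - 1 - r) (by omega) (by omega) j hj
    rw [C.rcZ_neg r j hr hj] at h1
    unfold hwt
    omega
  obtain ⟨j, hj, hne⟩ : ∃ j, j < fd.l ∧ fd.rcZ fx r j ≠ 0 := by
    by_contra h
    push Not at h
    exact C.rcZ_ne_zero r hr h
  apply Finset.sum_pos' hnn
  refine ⟨j, Finset.mem_range.mpr hj, ?_⟩
  have := hnn j (Finset.mem_range.mpr hj)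
  unfold hwt at this ⊢
  omega

/-- the coordinates below the level of a matrix vanish -/
theorem coordM_zero_of_GF (m : ℤ) (r : ℕ) (hr : r < fd.n) (hrm : fd.ht fx r < m) (M : Matrix D.Idx D.Idx F)
    (hM : M ∈ GF D F (fd.wtA fx D hwt) m) : coordM D fd fz F r M = 0 := by
  have hn := C.c6.c2.nroots_eq
  have hr' : r < D.nroots := by omega
  rw [coordM_eq r hr']
  apply Finset.sum_eq_zero
  intro j _
  have : M (Sum.inl j) (Sum.inr ⟨D.nroots - 1 - r, by omega⟩) = 0 := by
    by_contra h
    have h1 := hM.2 (Sum.inl j) (Sum.inr ⟨D.nroots - 1 - r, by omega⟩) (by intro e; cases e) h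
    rw [C.wtA_inl, C.wtA_inr] at h1
    simp only at h1
    rw [hn] at h1
    have h2 := C.ht_neg r hr
    unfold FD.ht at h2 hrm
    omega
  rw [this, mul_zero]

/-- a product, in any order, of root elements of distinct positive roots which lies in the level `m` of the
height filtration has no factors at the roots of height less than `m` -/
theorem list_prod_GF_zero (L : List (ℕ × F)) (hL : ∀ p ∈ L, p.1 < fd.n ∧ fd.n / 2 ≤ p.1)
    (hnd : (L.map Prod.fst).Nodup) (m : ℤ)
    (hm : (((L.map fun p => C.c6.c2.xA p.1 p.2).prod : GL D.Idx F) : Matrix D.Idx D.Idx F) ∈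
      GF D F (fd.wtA fx D hwt) m) :
    ∀ p ∈ L, fd.ht fx p.1 < m → p.2 = 0 := by
  have key : ∀ j : ℕ, (j : ℤ) ≤ m → ∀ p ∈ L, fd.ht fx p.1 < j → p.2 = 0 := by
    intro j
    induction j with
    | zero =>
      intro _ p hp h
      have := C.ht_pos p.1 (hL p hp).1 (hL p hp).2
      simp only [Nat.cast_zero] at h
      omega
    | succ j ih =>
      intro hjm p hp h
      have ih' := ih (by push_cast at hjm; omega)
      by_cases hlt : fd.ht fx p.1 < j
      · exact ih' p hp hlt
      · have hpos := C.ht_pos p.1 (hL p hp).1 (hL p hp).2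
        have hj : fd.ht fx p.1 = j := by push_cast at h; omega
        have hj0 : (0 : ℤ) < j := by omega
        have hfac : ∀ x ∈ L.map (fun p => C.c6.c2.xA p.1 p.2),
            ((x : GL D.Idx F) : Matrix D.Idx D.Idx F) ∈ GF D F (fd.wtA fx D hwt) j := by
          intro x hx
          obtain ⟨q, hq, rfl⟩ := List.mem_map.mp hx
          by_cases h0 : q.2 = 0
          · rw [h0, C.c6.c2.xA_zero, Units.val_one]
            exact GF_one _ _
          · have : ¬ fd.ht fx q.1 < j := fun hh => h0 (ih' q hq hh)
            exact C.xA_mem_GF q.1 (hL q hq).1 j hj0 (by omega) _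
        have h1 := (C.coord_list_prod (j : ℤ) hj0 p.1 (hL p hp).1 hj _ hfac).2
        rw [C.coordM_zero_of_GF m p.1 (hL p hp).1 (by push_cast at hjm; omega) _ hm, List.map_map] at h1
        have e : ∀ q ∈ L, ((fun x : GL D.Idx F => coordM D fd fz F p.1 (x : Matrix D.Idx D.Idx F)) ∘
            fun p => C.c6.c2.xA p.1 p.2) q = if q.1 = p.1 then q.2 else 0 := by
          intro q hq
          simp only [Function.comp]
          exact C.coordM_xA q.1 p.1 (hL q hq).1 (hL p hp).1 _
        rw [List.map_congr_left e, sum_ite_fst_nodup L hnd p hp] at h1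
        exact h1.symm
  intro p hp h
  by_cases hm0 : 0 ≤ m
  · have := key m.toNat (by rw [Int.toNat_of_nonneg hm0]) p hp (by rw [Int.toNat_of_nonneg hm0]; exact h)
    exact this
  · have := C.ht_pos p.1 (hL p hp).1 (hL p hp).2
    omega

/-- a product, in any order, of root elements of distinct positive roots is trivial only if all its factors are -/
theorem list_prod_eq_one (L : List (ℕ × F)) (hL : ∀ p ∈ L, p.1 < fd.n ∧ fd.n / 2 ≤ p.1)
    (hnd : (L.map Prod.fst).Nodup)
    (h1 : (L.map fun p => C.c6.c2.xA p.1 p.2).prod = (1 : GL D.Idx F)) :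
    ∀ p ∈ L, p.2 = 0 := by
  intro p hp
  apply C.list_prod_GF_zero L hL hnd (fd.ht fx p.1 + 1) _ p hp (by omega)
  rw [h1, Units.val_one]
  exact GF_one _ _

/-- the same, allowing trivial factors at arbitrary places -/
theorem list_prod_GF_zero' (L : List (ℕ × F)) (hL : ∀ p ∈ L, p.2 ≠ 0 → p.1 < fd.n ∧ fd.n / 2 ≤ p.1)
    (hnd : (L.map Prod.fst).Nodup) (m : ℤ)
    (hm : (((L.map fun p => C.c6.c2.xA p.1 p.2).prod : GL D.Idx F) : Matrix D.Idx D.Idx F) ∈
      GF D F (fd.wtA fx D hwt) m) :
    ∀ p ∈ L, p.2 ≠ 0 → ¬ fd.ht fx p.1 < m := by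
  classical
  have hprod : ∀ L : List (ℕ × F), ((L.filter fun p => decide (p.2 ≠ 0)).map fun p => C.c6.c2.xA p.1 p.2).prod =
      (L.map fun p => C.c6.c2.xA p.1 p.2).prod := by
    intro L
    induction L with
    | nil => rfl
    | cons a L ih =>
      by_cases ha : a.2 = 0
      · rw [List.filter_cons_of_neg (by simpa using ha), ih, List.map_cons, List.prod_cons, ha, C.c6.c2.xA_zero,
          one_mul]
      · rw [List.filter_cons_of_pos (by simpa using ha), List.map_cons, List.prod_cons, ih, List.map_cons,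
          List.prod_cons]
  intro p hp h0 hlt
  have hp' : p ∈ L.filter fun p => decide (p.2 ≠ 0) := List.mem_filter.mpr ⟨hp, by simpa using h0⟩
  apply h0
  apply C.list_prod_GF_zero (L.filter fun p => decide (p.2 ≠ 0)) _ _ m _ p hp' hlt
  · intro q hq
    obtain ⟨hq1, hq2⟩ := List.mem_filter.mp hq
    exact hL q hq1 (by simpa using hq2)
  · exact hnd.sublist (List.filter_sublist.map _)
  · rw [hprod]
    exact hm

end Cert12

end Cfsg.Agent.Lib.H29.Chev
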