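import Mathlib
import Cfsg.Prelude.Def_ChevStructure
import Cfsg.Agent.Lib.H29.ChevCentG2a
import Cfsg.Agent.Lib.H29.ChevUniq1

/-!
# The centraliser of a short root element of `G₂` in characteristic two: preparations
-/

set_option autoImplicit false
set_option linter.unusedSectionVars false
set_option linter.unusedSimpArgs false
set_option linter.unusedVariables false

namespace Cfsg.Agent.Lib.H29.Chev

open Cfsg.Lie Matrix

theorem mul3_comm {G : Type*} [Group G] (a1 b1 c1 a2 b2 c2 : G) (h1 : Commute b1 a2) (h2 : Commute c1 a2)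
    (h3 : Commute c1 b2) : a1 * b1 * c1 * (a2 * b2 * c2) = (a1 * a2) * (b1 * b2) * (c1 * c2) := by
  have e1 : c1 * a2 = a2 * c1 := h2.eq
  have e2 : b1 * a2 = a2 * b1 := h1.eq
  have e3 : c1 * b2 = b2 * c1 := h3.eq
  calc a1 * b1 * c1 * (a2 * b2 * c2) = a1 * b1 * (c1 * a2) * b2 * c2 := by group
    _ = a1 * b1 * (a2 * c1) * b2 * c2 := by rw [e1]
    _ = a1 * (b1 * a2) * (c1 * b2) * c2 := by group
    _ = a1 * (a2 * b1) * (b2 * c1) * c2 := by rw [e2, e3]
    _ = _ := by group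

section Gen

variable {D : ChevalleyDatum} {fd : FD} {fx : FX} {fc : FC} {fz : FZ} {F : Type*} [Field F]

namespace Cert12

variable (C : Cert12 D fd fx fc fz)
include C

/-- conjugating a root element by the inverse of another one -/
theorem conj_inv_xA (s r : ℕ) (hs : s < fd.n) (hr : r < fd.n) (h1 : r ≠ s) (h2 : r ≠ fd.n - 1 - s) (t u : F) :
    (C.c6.c2.xA s t)⁻¹ * C.c6.c2.xA r u * C.c6.c2.xA s t = C.c6.c2.xA r u * C.c6.c2.ctG (fd.commT s r) t u := by
  have := C.c6.cfg (F := F) s r hs hr h1 h2 t u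
  rw [mul_assoc, this]
  group

theorem conj_inv_xA_nil (s r : ℕ) (hs : s < fd.n) (hr : r < fd.n) (h1 : r ≠ s) (h2 : r ≠ fd.n - 1 - s)
    (h : fd.commT s r = []) (t u : F) :
    (C.c6.c2.xA s t)⁻¹ * C.c6.c2.xA r u * C.c6.c2.xA s t = C.c6.c2.xA r u := by
  rw [C.conj_inv_xA s r hs hr h1 h2, h]
  simp [Cert2.ctG]

theorem conj_inv_xA_one (s r q : ℕ) (k : ℤ) (hs : s < fd.n) (hr : r < fd.n) (h1 : r ≠ s) (h2 : r ≠ fd.n - 1 - s)
    (h : fd.commT s r = [(q, k, 1, 1)]) (t u : F) :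
    (C.c6.c2.xA s t)⁻¹ * C.c6.c2.xA r u * C.c6.c2.xA s t =
      C.c6.c2.xA r u * C.c6.c2.xA q ((k : F) * (-t) * u) := by
  rw [C.conj_inv_xA s r hs hr h1 h2, h]
  simp [Cert2.ctG]

theorem conj_inv_xA_same (r : ℕ) (t u : F) :
    (C.c6.c2.xA r t)⁻¹ * C.c6.c2.xA r u * C.c6.c2.xA r t = C.c6.c2.xA r u := by
  rw [C.c6.c2.xA_inv, C.c6.c2.xA_mul, C.c6.c2.xA_mul]
  congr 1
  ring

end Cert12

end Gen

section G2

variable {F : Type*} [Field F]

set_option maxRecDepth 100000 in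
theorem g2_commT_nil : ∀ p ∈ [(5, 9), (6, 9), (10, 9), (11, 9), (9, 10), (9, 11), (5, 10), (7, 10), (8, 10), (11, 10),
    (6, 11), (7, 11), (8, 11), (10, 11)], fdG2.commT p.1 p.2 = [] := by
  decide +kernel

set_option maxRecDepth 100000 in
theorem g2_commT_one : fdG2.commT 7 9 = [(10, 3, 1, 1)] ∧ fdG2.commT 8 9 = [(11, 3, 1, 1)] ∧
    fdG2.commT 6 10 = [(11, 1, 1, 1)] ∧ fdG2.commT 5 11 = [(10, 1, 1, 1)] := by
  decide +kernel

theorem g2_n : fdG2.n = 12 := by decide +kernel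

theorem g2_l : fdG2.l = 2 := by decide +kernel

local notation "xg" => cert12_G2.c6.c2.xA

theorem g2_comm_nil (s r : ℕ) (hs : s < 12) (hr : r < 12) (h1 : r ≠ s) (h2 : r ≠ 11 - s)
    (h : fdG2.commT s r = []) (t u : F) : Commute (xg s t) (xg r u) := by
  apply cert12_G2.xA_comm_of_coef s r (by rw [g2_n]; exact hs) (by rw [g2_n]; exact hr) h1 (by rw [g2_n]; exact h2)
  intro c hc
  rw [h] at hc
  exact absurd hc List.not_mem_nil

theorem g2_cj_nil (s r : ℕ) (hs : s < 12) (hr : r < 12) (h1 : r ≠ s) (h2 : r ≠ 11 - s)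
    (h : fdG2.commT s r = []) (t u : F) : (xg s t)⁻¹ * xg r u * xg s t = xg r u :=
  cert12_G2.conj_inv_xA_nil s r (by rw [g2_n]; exact hs) (by rw [g2_n]; exact hr) h1 (by rw [g2_n]; exact h2) h t u

/-- the conjugates of the elements of `x_9(λ) X_10 X_11` under the positive root elements -/
theorem g2_genQ (s : ℕ) (hs1 : 6 ≤ s) (hs2 : s < 12) (c lam mu nu : F) :
    ∃ mu' nu' : F, (xg s c)⁻¹ * (xg 9 lam * xg 10 mu * xg 11 nu) * xg s c = xg 9 lam * xg 10 mu' * xg 11 nu' := by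
  have e : (xg s c)⁻¹ * (xg 9 lam * xg 10 mu * xg 11 nu) * xg s c =
      ((xg s c)⁻¹ * xg 9 lam * xg s c) * ((xg s c)⁻¹ * xg 10 mu * xg s c) * ((xg s c)⁻¹ * xg 11 nu * xg s c) := by
    group
  rw [e]
  have hn := g2_n
  obtain ⟨e79, e89, e610, _⟩ := g2_commT_one
  have nil := g2_commT_nil
  interval_cases s
  · -- s = 6
    rw [g2_cj_nil 6 9 (by omega) (by omega) (by omega) (by omega) (nil (6, 9) (by simp)),
      cert12_G2.conj_inv_xA_one 6 10 11 1 (by omega) (by omega) (by omega) (by omega) e610,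
      g2_cj_nil 6 11 (by omega) (by omega) (by omega) (by omega) (nil (6, 11) (by simp))]
    refine ⟨mu, ((1 : ℤ) : F) * (-c) * mu + nu, ?_⟩
    rw [← cert12_G2.c6.c2.xA_mul]
    group
  · -- s = 7
    rw [cert12_G2.conj_inv_xA_one 7 9 10 3 (by omega) (by omega) (by omega) (by omega) e79,
      g2_cj_nil 7 10 (by omega) (by omega) (by omega) (by omega) (nil (7, 10) (by simp)),
      g2_cj_nil 7 11 (by omega) (by omega) (by omega) (by omega) (nil (7, 11) (by simp))]
    refine ⟨((3 : ℤ) : F) * (-c) * lam + mu, nu, ?_⟩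
    rw [← cert12_G2.c6.c2.xA_mul]
    group
  · -- s = 8
    rw [cert12_G2.conj_inv_xA_one 8 9 11 3 (by omega) (by omega) (by omega) (by omega) e89,
      g2_cj_nil 8 10 (by omega) (by omega) (by omega) (by omega) (nil (8, 10) (by simp)),
      g2_cj_nil 8 11 (by omega) (by omega) (by omega) (by omega) (nil (8, 11) (by simp))]
    refine ⟨mu, ((3 : ℤ) : F) * (-c) * lam + nu, ?_⟩
    rw [← cert12_G2.c6.c2.xA_mul]
    have hc := (g2_comm_nil (F := F) 10 11 (by omega) (by omega) (by omega) (by omega) (nil (10, 11) (by simp))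
      mu (((3 : ℤ) : F) * (-c) * lam)).eq
    rw [mul_assoc (xg 9 lam), ← hc]
    group
  · -- s = 9
    rw [cert12_G2.conj_inv_xA_same,
      g2_cj_nil 9 10 (by omega) (by omega) (by omega) (by omega) (nil (9, 10) (by simp)),
      g2_cj_nil 9 11 (by omega) (by omega) (by omega) (by omega) (nil (9, 11) (by simp))]
    exact ⟨mu, nu, rfl⟩
  · -- s = 10
    rw [g2_cj_nil 10 9 (by omega) (by omega) (by omega) (by omega) (nil (10, 9) (by simp)),
      cert12_G2.conj_inv_xA_same,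
      g2_cj_nil 10 11 (by omega) (by omega) (by omega) (by omega) (nil (10, 11) (by simp))]
    exact ⟨mu, nu, rfl⟩
  · -- s = 11
    rw [g2_cj_nil 11 9 (by omega) (by omega) (by omega) (by omega) (nil (11, 9) (by simp)),
      g2_cj_nil 11 10 (by omega) (by omega) (by omega) (by omega) (nil (11, 10) (by simp)),
      cert12_G2.conj_inv_xA_same]
    exact ⟨mu, nu, rfl⟩

end G2

end Cfsg.Agent.Lib.H29.Chev
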