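import Mathlib
import Cfsg.Prelude.Def_ChevStructure
import Cfsg.Agent.Lib.H29.ChevCentG2b

/-!
# The centraliser of a short root element of `G₂` in characteristic two
-/

set_option autoImplicit false
set_option linter.unusedSectionVars false
set_option linter.unusedSimpArgs false
set_option linter.unusedVariables false

namespace Cfsg.Agent.Lib.H29.Chev

open Cfsg.Lie Matrix

section G2

variable {F : Type*} [Field F]

local notation "xg" => cert12_G2.c6.c2.xA

/-- conjugation by elements of `U` preserves the cosets `x_9(λ) X_10 X_11` -/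
theorem g2_conjQ (v : GL chevG2.Idx F) (hv : v ∈ chevG2.posUnipotent F) :
    ∀ lam mu nu : F, ∃ mu' nu' : F,
      v⁻¹ * (xg 9 lam * xg 10 mu * xg 11 nu) * v = xg 9 lam * xg 10 mu' * xg 11 nu' := by
  have hn := g2_n
  have gen : ∀ x ∈ {g : GL chevG2.Idx F | ∃ (r : ℕ) (t : F), chevG2.IsPosRoot r ∧
      (g : Matrix chevG2.Idx chevG2.Idx F) = chevG2.x F r t}, ∃ s c, 6 ≤ s ∧ s < 12 ∧ x = xg s c := by
    rintro x ⟨r, t, hr, hx⟩
    obtain ⟨h1, h2⟩ := (cert12_G2.c6.isPos_iff r).mp hr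
    exact ⟨r, t, by omega, by omega, gl_ext (by rw [hx, cert12_G2.c6.c2.xA_val])⟩
  unfold ChevalleyDatum.posUnipotent at hv
  induction hv using Subgroup.closure_induction_left with
  | one => intro lam mu nu; exact ⟨mu, nu, by group⟩
  | mul_left x hx y _ ih =>
    intro lam mu nu
    obtain ⟨s, c, hs1, hs2, rfl⟩ := gen x hx
    obtain ⟨mu1, nu1, e1⟩ := g2_genQ s hs1 hs2 c lam mu nu
    obtain ⟨mu2, nu2, e2⟩ := ih lam mu1 nu1
    refine ⟨mu2, nu2, ?_⟩
    rw [← e2, ← e1]
    group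
  | inv_mul_cancel x hx y _ ih =>
    intro lam mu nu
    obtain ⟨s, c, hs1, hs2, rfl⟩ := gen x hx
    obtain ⟨mu1, nu1, e1⟩ := g2_genQ s hs1 hs2 (-c) lam mu nu
    obtain ⟨mu2, nu2, e2⟩ := ih lam mu1 nu1
    refine ⟨mu2, nu2, ?_⟩
    rw [← e2, ← e1, ← cert12_G2.c6.c2.xA_inv]
    group

/-- the short roots of `G₂` -/
def shortG2 (s : ℕ) : Bool := s == 2 || s == 3 || s == 4 || s == 7 || s == 8 || s == 9

set_option maxRecDepth 100000 in
theorem g2_short_sw : ∀ i < fdG2.l, ∀ s < fdG2.n, shortG2 s = true → shortG2 (fdG2.sw fxG2 i s) = true := by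
  decide +kernel

set_option maxRecDepth 100000 in
theorem g2_short_ht : ∀ s < 12, shortG2 s = true → 6 ≤ s → ¬ fdG2.ht fxG2 s < 3 → s = 9 := by
  decide +kernel

set_option maxRecDepth 100000 in
theorem g2_ht : fdG2.ht fxG2 9 = 3 ∧ fdG2.ht fxG2 10 = 4 ∧ fdG2.ht fxG2 11 = 5 := by
  decide +kernel

set_option maxRecDepth 100000 in
theorem g2_stab_data : (∀ i < fdG2.l, fdG2.sw fxG2 i 9 ≠ 9 → fdG2.rcZ fxG2 (fdG2.sw fxG2 i 9) i < fdG2.rcZ fxG2 9 i) ∧
    (∀ s < fdG2.n, shortG2 s = true → ∀ j < fdG2.l, fdG2.rcZ fxG2 s j ≤ fdG2.rcZ fxG2 9 j) ∧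
    (∀ i < fdG2.l, fdG2.sw fxG2 i 9 = 9 → i = 1) ∧
    (∀ r, 7 ≤ r → r < 12 → 7 ≤ fdG2.sw fxG2 1 r ∧ fdG2.sw fxG2 1 r < 12) ∧
    (∀ i < fdG2.l, fdG2.carZ i 9 = if i = 0 then 1 else 0) ∧
    fdG2.simples.getD 1 0 = 6 := by
  decide +kernel

/-- the first step: the permutation of the monomial part of an element of the centraliser fixes the root `9` -/
theorem g2_perm_fix (m : GL chevG2.Idx F) (hm : m ∈ chevG2.monomialSubgroup F) (π : ℕ → ℕ)
    (hπ : cert12_G2.c6.c2.Perm m π) (mu nu mu' nu' : F)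
    (hconj : m * (xg 9 1 * xg 10 mu * xg 11 nu) * m⁻¹ = xg 9 1 * xg 10 mu' * xg 11 nu') : π 9 = 9 := by
  classical
  have hn := g2_n
  obtain ⟨h9, _, c9, hc9⟩ := hπ 9 (by omega)
  obtain ⟨h10, _, c10, hc10⟩ := hπ 10 (by omega)
  obtain ⟨h11, _, c11, hc11⟩ := hπ 11 (by omega)
  -- the splitting of `y`
  let pm : ℕ → F → F := fun s p => if π s < 6 then p else 0
  let pp : ℕ → F → F := fun s p => if π s < 6 then 0 else p
  have hsum : ∀ s p, pp s p + pm s p = p := by
    intro s p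
    simp only [pp, pm]
    split_ifs <;> simp
  have nil := g2_commT_nil
  have c109 : ∀ a b : F, Commute (xg 10 a) (xg 9 b) := fun a b =>
    g2_comm_nil 10 9 (by omega) (by omega) (by omega) (by omega) (nil (10, 9) (by simp)) a b
  have c119 : ∀ a b : F, Commute (xg 11 a) (xg 9 b) := fun a b =>
    g2_comm_nil 11 9 (by omega) (by omega) (by omega) (by omega) (nil (11, 9) (by simp)) a b
  have c1110 : ∀ a b : F, Commute (xg 11 a) (xg 10 b) := fun a b =>
    g2_comm_nil 11 10 (by omega) (by omega) (by omega) (by omega) (nil (11, 10) (by simp)) a b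
  have hsplit : xg 9 1 * xg 10 mu * xg 11 nu =
      (xg 9 (pp 9 1) * xg 10 (pp 10 mu) * xg 11 (pp 11 nu)) * (xg 9 (pm 9 1) * xg 10 (pm 10 mu) * xg 11 (pm 11 nu)) := by
    rw [mul3_comm _ _ _ _ _ _ (c109 _ _) (c119 _ _) (c1110 _ _), cert12_G2.c6.c2.xA_mul, cert12_G2.c6.c2.xA_mul,
      cert12_G2.c6.c2.xA_mul, hsum, hsum, hsum]
  have hxp : m * (xg 9 (pp 9 1) * xg 10 (pp 10 mu) * xg 11 (pp 11 nu)) * m⁻¹ =
      xg (π 9) (c9 * pp 9 1) * xg (π 10) (c10 * pp 10 mu) * xg (π 11) (c11 * pp 11 nu) := by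
    rw [← hc9, ← hc10, ← hc11]
    group
  have hposU : ∀ s c p, π s < fdG2.n → xg (π s) (c * pp s p) ∈ chevG2.posUnipotent F := by
    intro s c p hlt
    by_cases h : π s < 6
    · simp only [pp, if_pos h, mul_zero, cert12_G2.c6.c2.xA_zero]
      exact one_mem _
    · exact cert12_G2.xA_mem_posU _ hlt (by omega) _
  have hUw : ∀ s p, 6 ≤ s → s < 12 → xg s (pm s p) ∈ Uw chevG2 F m := by
    intro s p hs1 hs2
    by_cases h : π s < 6
    · exact cert12_G2.c6.xA_mem_Uw m s ((cert12_G2.Wn_iff m π hπ s).mpr ⟨by omega, by omega, by omega⟩) _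
    · simp only [pm, if_neg h, cert12_G2.c6.c2.xA_zero]
      exact one_mem _
  have hUB : chevG2.posUnipotent F ≤ chevG2.borelSubgroup F := le_sup_left
  have hxB : xg 9 1 * xg 10 mu' * xg 11 nu' ∈ chevG2.borelSubgroup F := by
    apply hUB
    exact mul_mem (mul_mem (cert12_G2.xA_mem_posU 9 (by omega) (by omega) _)
      (cert12_G2.xA_mem_posU 10 (by omega) (by omega) _)) (cert12_G2.xA_mem_posU 11 (by omega) (by omega) _)
  have hxpB : xg (π 9) (c9 * pp 9 1) * xg (π 10) (c10 * pp 10 mu) * xg (π 11) (c11 * pp 11 nu) ∈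
      chevG2.borelSubgroup F :=
    hUB (mul_mem (mul_mem (hposU 9 c9 1 h9) (hposU 10 c10 mu h10)) (hposU 11 c11 nu h11))
  have hymU : xg 9 (pm 9 1) * xg 10 (pm 10 mu) * xg 11 (pm 11 nu) ∈ Uw chevG2 F m :=
    mul_mem (mul_mem (hUw 9 1 (by omega) (by omega)) (hUw 10 mu (by omega) (by omega)))
      (hUw 11 nu (by omega) (by omega))
  have heq : (xg 9 1 * xg 10 mu' * xg 11 nu') * m * 1 =
      (xg (π 9) (c9 * pp 9 1) * xg (π 10) (c10 * pp 10 mu) * xg (π 11) (c11 * pp 11 nu)) * m *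
        (xg 9 (pm 9 1) * xg 10 (pm 10 mu) * xg 11 (pm 11 nu)) := by
    rw [← hconj, ← hxp, hsplit]
    group
  obtain ⟨_, huniq⟩ := cert12_G2.c6.canonical_form.2 _ _ m m 1 _ hxB hxpB hm hm (one_mem _) hymU heq
  obtain ⟨hx_eq, hy_eq⟩ := huniq rfl
  -- `π 9` is a positive root
  have hp9 : ¬ π 9 < 6 := by
    intro hlt
    have h1 := cert12_G2.list_prod_eq_one [(9, pm 9 1), (10, pm 10 mu), (11, pm 11 nu)]
      (by intro p hp; simp only [List.mem_cons, List.mem_nil_iff, or_false] at hp; rcases hp with rfl | rfl | rfl <;> simp [hn])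
      (by simp) (by simp only [List.map_cons, List.map_nil, List.prod_cons, List.prod_nil, mul_one]; rw [← mul_assoc]; exact hy_eq.symm)
      (9, pm 9 1) (by simp)
    simp only [pm, if_pos hlt] at h1
    exact one_ne_zero h1
  -- the coefficient `c9` does not vanish
  have hc9ne : c9 ≠ 0 := by
    intro h0
    have := hc9 1
    rw [h0, zero_mul, cert12_G2.c6.c2.xA_zero] at this
    have e : xg 9 (1 : F) = 1 := by
      have e2 : xg 9 (1 : F) = m⁻¹ * (m * xg 9 1 * m⁻¹) * m := by group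
      rw [e2, this]
      group
    exact one_ne_zero (cert12_G2.c6.xA_eq_one 9 (by omega) _ e)
  -- `π` is injective
  obtain ⟨_, ⟨ρ, hρ⟩⟩ := cert12_G2.c6.perm_of_mem m hm
  have hinv := (cert12_G2.perm_inv m π ρ hπ hρ).1
  -- the height of `π 9`
  obtain ⟨ht9, ht10, ht11⟩ := g2_ht
  have hGF : (((xg 9 1 * xg 10 mu' * xg 11 nu' : GL chevG2.Idx F)) : Matrix chevG2.Idx chevG2.Idx F) ∈
      GF chevG2 F (fdG2.wtA fxG2 chevG2 hwt) 3 := by
    rw [Units.val_mul, Units.val_mul]
    apply GF_mul _ 3 (by norm_num) _ _ (GF_mul _ 3 (by norm_num) _ _ _ _)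
    · exact cert12_G2.xA_mem_GF 11 (by omega) 3 (by norm_num) (by rw [ht11]; norm_num) _
    · exact cert12_G2.xA_mem_GF 9 (by omega) 3 (by norm_num) (by rw [ht9]) _
    · exact cert12_G2.xA_mem_GF 10 (by omega) 3 (by norm_num) (by rw [ht10]; norm_num) _
  have hht : ¬ fdG2.ht fxG2 (π 9) < 3 := by
    apply cert12_G2.list_prod_GF_zero' [(π 9, c9 * pp 9 1), (π 10, c10 * pp 10 mu), (π 11, c11 * pp 11 nu)] _ _ 3 _
      (π 9, c9 * pp 9 1) (by simp)
    · simp only [pp, if_neg hp9]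
      simpa using hc9ne
    · intro p hp hne
      simp only [List.mem_cons, List.mem_nil_iff, or_false] at hp
      rcases hp with rfl | rfl | rfl
      · simp only at hne ⊢
        refine ⟨h9, ?_⟩
        by_contra hlt
        apply hne
        simp only [pp, if_pos (show π 9 < 6 by omega), mul_zero]
      · simp only at hne ⊢
        refine ⟨h10, ?_⟩
        by_contra hlt
        apply hne
        simp only [pp, if_pos (show π 10 < 6 by omega), mul_zero]
      · simp only at hne ⊢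
        refine ⟨h11, ?_⟩
        by_contra hlt
        apply hne
        simp only [pp, if_pos (show π 11 < 6 by omega), mul_zero]
    · simp only [List.map_cons, List.map_nil, List.nodup_cons, List.mem_cons, List.mem_nil_iff, or_false,
        not_or, not_false_eq_true, List.nodup_nil, and_true]
      refine ⟨⟨fun e => ?_, fun e => ?_⟩, fun e => ?_⟩
      · have := hinv 9 (by omega); rw [e, hinv 10 (by omega)] at this; omega
      · have := hinv 9 (by omega); rw [e, hinv 11 (by omega)] at this; omega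
      · have := hinv 10 (by omega); rw [e, hinv 11 (by omega)] at this; omega
    · simp only [List.map_cons, List.map_nil, List.prod_cons, List.prod_nil, mul_one]
      rw [← mul_assoc, ← hx_eq]
      exact hGF
  -- `π 9` is short
  obtain ⟨⟨w, hw, hπw⟩, _⟩ := cert12_G2.perm_word m hm
  have hw9 := cert12_G2.perm_unique m π _ hπ hπw 9 (by omega)
  have hshort : shortG2 (π 9) = true := by
    rw [hw9]
    exact cert12_G2.cls_wordP (fun s => shortG2 s = true) g2_short_sw w hw 9 (by omega) (by decide)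
  exact g2_short_ht (π 9) (by omega) hshort (by omega) hht

end G2

end Cfsg.Agent.Lib.H29.Chev
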