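import Mathlib
import Cfsg.Prelude.Def_ChevStructure
import Cfsg.Agent.Lib.H29.ChevCentG2c

/-!
# The centraliser of a short root element of `G₂` in characteristic two: the theorem
-/

set_option autoImplicit false
set_option linter.unusedSectionVars false
set_option linter.unusedSimpArgs false
set_option linter.unusedVariables false

namespace Cfsg.Agent.Lib.H29.Chev

open Cfsg.Lie Matrix

section G2

variable {F : Type*} [Field F]

local notation "xg" => cert12_G2.c6.c2.xA

/-- the words in the reflection in `b` only move the positive root `b` to a negative root -/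
theorem g2_wordP_pos (w : List ℕ) (hw : ∀ i ∈ w, i < fdG2.l ∧ fdG2.sw fxG2 i 9 = 9) :
    ∀ r, 7 ≤ r → r < 12 → 7 ≤ fdG2.wordP fxG2 w r ∧ fdG2.wordP fxG2 w r < 12 := by
  induction w with
  | nil => intro r h1 h2; exact ⟨h1, h2⟩
  | cons i w ih =>
    intro r h1 h2
    obtain ⟨hi, hJ⟩ := hw i List.mem_cons_self
    obtain ⟨k1, k2⟩ := ih (fun j hj => hw j (List.mem_cons_of_mem _ hj)) r h1 h2
    have hi1 : i = 1 := g2_stab_data.2.2.1 i hi hJ
    subst hi1
    exact g2_stab_data.2.2.2.1 _ k1 k2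

theorem cent_G2s_le [CharP F 2] (T : Subgroup (GL chevG2.Idx F))
    (hT : ∀ s ∈ [9, 10, 11, 6, 5], ∀ c : F, xg s c ∈ T) :
    chevG2.group F ⊓ Subgroup.centralizer {xg 9 (1 : F)} ≤ T := by
  have hn := g2_n
  have hl := g2_l
  have nil := g2_commT_nil
  obtain ⟨e79, e89, _, _⟩ := g2_commT_one
  obtain ⟨sd1, sd2, sd3, sd4, sd5, sd6⟩ := g2_stab_data
  -- the generators commute with `t`
  have hcomm : ∀ s ∈ [9, 10, 11, 6, 5], ∀ c : F, Commute (xg s c) (xg 9 1) := by
    intro s hs c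
    simp only [List.mem_cons, List.mem_nil_iff, or_false] at hs
    rcases hs with rfl | rfl | rfl | rfl | rfl
    · show xg 9 c * xg 9 1 = xg 9 1 * xg 9 c
      rw [cert12_G2.c6.c2.xA_mul, cert12_G2.c6.c2.xA_mul, add_comm]
    · exact g2_comm_nil 10 9 (by omega) (by omega) (by omega) (by omega) (nil (10, 9) (by simp)) _ _
    · exact g2_comm_nil 11 9 (by omega) (by omega) (by omega) (by omega) (nil (11, 9) (by simp)) _ _
    · exact g2_comm_nil 6 9 (by omega) (by omega) (by omega) (by omega) (nil (6, 9) (by simp)) _ _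
    · exact g2_comm_nil 5 9 (by omega) (by omega) (by omega) (by omega) (nil (5, 9) (by simp)) _ _
  intro g hg
  obtain ⟨hgG, hgc⟩ := Subgroup.mem_inf.mp hg
  have hgc' : Commute g (xg 9 1) := by
    have := Subgroup.mem_centralizer_iff.mp hgc _ (Set.mem_singleton _)
    exact this.symm
  obtain ⟨b, hb, n, hn', u, hu, rfl⟩ := cert12_G2.c6.canonical_form.1 g hgG
  obtain ⟨u₀, hu₀, h, hh, rfl⟩ := cert12_G2.c6.c2.borel_mem b hb
  have huU := _root_.Cfsg.Agent.Lib.H29.Chev.Uw_le_pos n hu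
  have hHN : chevG2.diagonalSubgroup F ≤ chevG2.monomialSubgroup F := le_sup_left
  have hm : h * n ∈ chevG2.monomialSubgroup F := mul_mem (hHN hh) hn'
  obtain ⟨⟨π, hπ⟩, _⟩ := cert12_G2.c6.perm_of_mem (h * n) hm
  -- the conjugates of `t`
  obtain ⟨mu, nu, hy⟩ := g2_conjQ u⁻¹ (inv_mem huU) 1 0 0
  obtain ⟨mu', nu', hx⟩ := g2_conjQ u₀ hu₀ 1 0 0
  simp only [cert12_G2.c6.c2.xA_zero, mul_one, inv_inv] at hy hx
  have hconj : h * n * (xg 9 1 * xg 10 mu * xg 11 nu) * (h * n)⁻¹ = xg 9 1 * xg 10 mu' * xg 11 nu' := by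
    rw [← hy, ← hx]
    have e : h * n * (u * xg 9 1 * u⁻¹) * (h * n)⁻¹ = u₀⁻¹ * ((u₀ * h * n * u) * xg 9 1) * u⁻¹ * (h * n)⁻¹ := by
      group
    rw [e, hgc'.eq]
    group
  have hfix := g2_perm_fix (h * n) hm π hπ mu nu mu' nu' hconj
  -- the permutation is a word in the reflection in `b`
  obtain ⟨w, hw, hws⟩ := cert12_G2.stab_word 9 (by omega) (fun s => shortG2 s = true) sd1 (by decide)
    g2_short_sw sd2 _ (h * n) π hm hπ hfix rfl
  have hwd : IsWd fdG2.l w := fun i hi => (hw i hi).1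
  have hwT : ∀ w : List ℕ, (∀ i ∈ w, i < fdG2.l ∧ fdG2.sw fxG2 i 9 = 9) →
      cert12_G2.wordN F w ∈ T ∧ Commute (cert12_G2.wordN F w) (xg 9 1) := by
    intro w
    induction w with
    | nil => intro _; exact ⟨one_mem _, Commute.one_left _⟩
    | cons i w ih =>
      intro hw
      obtain ⟨hi, hJ⟩ := hw i List.mem_cons_self
      obtain ⟨ih1, ih2⟩ := ih (fun j hj => hw j (List.mem_cons_of_mem _ hj))
      have hi1 : i = 1 := sd3 i hi hJ
      subst hi1
      have hp := cert12_G2.c6.c2.simple_lt 1 hi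
      simp only [Cert12.wordN, dif_pos hi]
      rw [cert12_G2.c6.c2.nG_eq_xA' _ hp]
      simp only [sd6, hn]
      have a1 := hT 6 (by simp) (1 : F)
      have a2 := hT 5 (by simp) (-1 : F)
      have c1 := hcomm 6 (by simp) (1 : F)
      have c2 := hcomm 5 (by simp) (-1 : F)
      exact ⟨mul_mem (mul_mem (mul_mem a1 a2) a1) ih1, (((c1.mul_left c2).mul_left c1).mul_left ih2)⟩
  obtain ⟨hwT1, hwT2⟩ := hwT w hw
  have hd := cert12_G2.mul_inv_mem_diag' (h * n) (cert12_G2.wordN F w) hm (cert12_G2.wordN_mem w) π _ hπ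
    (cert12_G2.perm_wordN w hwd) hws
  -- `u` lies in `X_b`
  have hu6 : ∃ c : F, u = xg 6 c := by
    have hle : Uw chevG2 F n ≤ chevG2.rootSubgroup F 6 := by
      unfold Uw
      rw [Subgroup.closure_le]
      intro x hx
      obtain ⟨r, t, hr, rfl⟩ := cert12_G2.c6.eq_xA_of_UwSet n x hx
      -- transport to `h n`
      have hr' : cert12_G2.c6.Wn (h * n) r := by
        refine ⟨hr.1, hr.2.1, fun t => ?_⟩
        have e : h * n * xg r t * (h * n)⁻¹ = h * (n * xg r t * n⁻¹) * h⁻¹ := by group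
        rw [e]
        have hnorm := cert12_G2.c6.c2.diag_le_normalizer_neg hh
        exact (Subgroup.mem_normalizer_iff.mp hnorm _).mp (hr.2.2 t)
      obtain ⟨k1, k2, k3⟩ := (cert12_G2.Wn_iff (h * n) π hπ r).mp hr'
      have hr6 : r = 6 := by
        by_contra hne
        have := g2_wordP_pos w hw r (by omega) (by omega)
        rw [hws r k1] at k3
        omega
      rw [hr6]
      exact cert12_G2.c6.xA_mem_rootSubgroup 6 t
    exact cert12_G2.c6.rootSubgroup_mem 6 u (hle hu)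
  obtain ⟨c6, rfl⟩ := hu6
  have hu6T := hT 6 (by simp) c6
  have hu6c := hcomm 6 (by simp) c6
  -- the Borel part commutes with `t`
  have hbc : Commute (u₀ * (h * n * (cert12_G2.wordN F w)⁻¹)) (xg 9 1) := by
    have e : u₀ * (h * n * (cert12_G2.wordN F w)⁻¹) =
        (u₀ * h * n * xg 6 c6) * (xg 6 c6)⁻¹ * (cert12_G2.wordN F w)⁻¹ := by group
    rw [e]
    exact (hgc'.mul_left hu6c.inv_left).mul_left hwT2.inv_left
  have hdc := cert12_G2.diag_conj_xA _ hd 9 (by omega) (1 : F)
  rw [mul_one] at hdc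
  have hxd : xg 9 (dE chevG2 (h * n * (cert12_G2.wordN F w)⁻¹) 9) = xg 9 1 * xg 10 mu' * xg 11 nu' := by
    rw [← hdc, ← hx]
    have e : u₀⁻¹ * xg 9 1 * u₀ =
        u₀⁻¹ * (xg 9 1 * (u₀ * (h * n * (cert12_G2.wordN F w)⁻¹))) * (h * n * (cert12_G2.wordN F w)⁻¹)⁻¹ := by
      group
    rw [e, ← hbc.eq]
    group
  have hzero := cert12_G2.list_prod_eq_one
    [(9, 1 - dE chevG2 (h * n * (cert12_G2.wordN F w)⁻¹) 9), (10, mu'), (11, nu')]
    (by intro p hp; simp only [List.mem_cons, List.mem_nil_iff, or_false] at hp; rcases hp with rfl | rfl | rfl <;> simp [hn])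
    (by simp)
    (by
      simp only [List.map_cons, List.map_nil, List.prod_cons, List.prod_nil, mul_one]
      rw [sub_eq_add_neg, add_comm, ← cert12_G2.c6.c2.xA_mul, mul_assoc, ← mul_assoc (xg 9 1), ← hxd,
        cert12_G2.c6.c2.xA_mul, neg_add_cancel, cert12_G2.c6.c2.xA_zero])
  have hχ : dE chevG2 (h * n * (cert12_G2.wordN F w)⁻¹) 9 = 1 := by
    have := hzero (9, 1 - dE chevG2 (h * n * (cert12_G2.wordN F w)⁻¹) 9) (by simp)
    simp only at this
    exact (sub_eq_zero.mp this).symm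
  have hmu' : mu' = 0 := hzero (10, mu') (by simp)
  have hnu' : nu' = 0 := hzero (11, nu') (by simp)
  rw [hmu', hnu', cert12_G2.c6.c2.xA_zero, cert12_G2.c6.c2.xA_zero, mul_one, mul_one] at hx
  have hu₀c : Commute u₀ (xg 9 1) := by
    show u₀ * xg 9 1 = xg 9 1 * u₀
    have e : u₀ * xg 9 1 = u₀ * (u₀⁻¹ * xg 9 1 * u₀) := by rw [hx]
    rw [e]
    group
  -- the diagonal part lies in `T`
  have hdT : h * n * (cert12_G2.wordN F w)⁻¹ ∈ T := by
    rw [cert12_G2.diag_eq_range] at hd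
    obtain ⟨x, hxx⟩ := hd
    rw [← hxx] at hχ ⊢
    rw [cert12_G2.dE_chiHom x 9 (by omega)] at hχ
    have h0l : 0 < fdG2.l := by omega
    have hx0 : x ⟨0, h0l⟩ = 1 := by
      rw [Finset.prod_eq_single ⟨0, h0l⟩] at hχ
      · have hc0 : fdG2.carZ (⟨0, h0l⟩ : Fin fdG2.l).val 9 = 1 := by rw [sd5 0 h0l, if_pos rfl]
        rw [hc0, zpow_one] at hχ
        exact Units.ext hχ
      · intro j _ hj
        have : j.val ≠ 0 := fun e => hj (Fin.ext e)
        rw [sd5 j.val j.isLt, if_neg this, zpow_zero]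
      · intro h; exact absurd (Finset.mem_univ _) h
    have key : x ∈ T.comap (chiHom chevG2 fdG2 F) := by
      rw [← Finset.univ_prod_mulSingle x]
      apply Subgroup.prod_mem
      intro i _
      rw [Subgroup.mem_comap]
      by_cases hii : i.val = 0
      · have : i = ⟨0, h0l⟩ := Fin.ext hii
        rw [this, hx0, Pi.mulSingle_one, map_one]
        exact one_mem _
      · have hi1 : i.val = 1 := by have := i.isLt; omega
        apply cert12_G2.chi_single_mem T i
        · intro c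
          rw [hi1, sd6]
          exact hT 6 (by simp) c
        · intro c
          rw [hi1, sd6, hn]
          exact hT 5 (by simp) c
    exact key
  -- the unipotent part lies in `T`
  have hu₀T : u₀ ∈ T := by
    rw [cert12_G2.posUnipotent_eq] at hu₀
    obtain ⟨τ, _, hτ⟩ := cert12_G2.Vm_oprod (fun _ => True) cert12_G2.closed_true 6 6 (by omega) (by omega) u₀
      (by rw [hn] at hu₀; exact hu₀)
    simp only [cert12_G2.oprod_succ, cert12_G2.oprod_zero, mul_one] at hτ
    -- the middle part commutes with `t`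
    have hqc : Commute (xg 9 (τ 9) * (xg 10 (τ 10) * xg 11 (τ 11))) (xg 9 1) :=
      (hcomm 9 (by simp) _).mul_left ((hcomm 10 (by simp) _).mul_left (hcomm 11 (by simp) _))
    have hzc : Commute (xg 7 (τ 7) * xg 8 (τ 8)) (xg 9 1) := by
      have e : xg 7 (τ 7) * xg 8 (τ 8) =
          (xg 6 (τ 6))⁻¹ * u₀ * (xg 9 (τ 9) * (xg 10 (τ 10) * xg 11 (τ 11)))⁻¹ := by
        rw [hτ]
        group
      rw [e]
      exact ((hcomm 6 (by simp) _).inv_left.mul_left hu₀c).mul_left hqc.inv_left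
    have hz : (xg 7 (τ 7) * xg 8 (τ 8))⁻¹ * xg 9 1 * (xg 7 (τ 7) * xg 8 (τ 8)) =
        xg 9 1 * xg 11 (((3 : ℤ) : F) * (-τ 8) * 1) * xg 10 (((3 : ℤ) : F) * (-τ 7) * 1) := by
      have e : (xg 7 (τ 7) * xg 8 (τ 8))⁻¹ * xg 9 1 * (xg 7 (τ 7) * xg 8 (τ 8)) =
          (xg 8 (τ 8))⁻¹ * ((xg 7 (τ 7))⁻¹ * xg 9 1 * xg 7 (τ 7)) * xg 8 (τ 8) := by group
      rw [e, cert12_G2.conj_inv_xA_one 7 9 10 3 (by omega) (by omega) (by omega) (by omega) e79]
      have e2 : (xg 8 (τ 8))⁻¹ * (xg 9 1 * xg 10 (((3 : ℤ) : F) * (-τ 7) * 1)) * xg 8 (τ 8) =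
          ((xg 8 (τ 8))⁻¹ * xg 9 1 * xg 8 (τ 8)) *
            ((xg 8 (τ 8))⁻¹ * xg 10 (((3 : ℤ) : F) * (-τ 7) * 1) * xg 8 (τ 8)) := by group
      rw [e2, cert12_G2.conj_inv_xA_one 8 9 11 3 (by omega) (by omega) (by omega) (by omega) e89,
        g2_cj_nil 8 10 (by omega) (by omega) (by omega) (by omega) (nil (8, 10) (by simp))]
    have hz1 : xg 11 (((3 : ℤ) : F) * (-τ 8) * 1) * xg 10 (((3 : ℤ) : F) * (-τ 7) * 1) = 1 := by
      have e : (xg 7 (τ 7) * xg 8 (τ 8))⁻¹ * xg 9 1 * (xg 7 (τ 7) * xg 8 (τ 8)) = xg 9 1 := by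
        rw [mul_assoc, ← hzc.eq]
        group
      rw [e, mul_assoc] at hz
      exact (mul_eq_left.mp hz.symm)
    simp only [mul_one] at hz1
    have hz0 := cert12_G2.list_prod_eq_one
      [(11, ((3 : ℤ) : F) * (-τ 8)), (10, ((3 : ℤ) : F) * (-τ 7))]
      (by intro p hp; simp only [List.mem_cons, List.mem_nil_iff, or_false] at hp; rcases hp with rfl | rfl <;> simp [hn])
      (by simp)
      (by simp only [List.map_cons, List.map_nil, List.prod_cons, List.prod_nil, mul_one]; exact hz1)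
    have h3 : ((3 : ℤ) : F) = 1 := by
      have h2 : (2 : F) = 0 := by
        have := CharP.cast_eq_zero F 2
        exact_mod_cast this
      push_cast
      linear_combination h2
    have hτ8 : τ 8 = 0 := by
      have := hz0 (11, ((3 : ℤ) : F) * (-τ 8)) (by simp)
      simp only [h3, one_mul, mul_one, neg_eq_zero] at this
      exact this
    have hτ7 : τ 7 = 0 := by
      have := hz0 (10, ((3 : ℤ) : F) * (-τ 7)) (by simp)
      simp only [h3, one_mul, mul_one, neg_eq_zero] at this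
      exact this
    rw [hτ, hτ7, hτ8, cert12_G2.c6.c2.xA_zero, cert12_G2.c6.c2.xA_zero, one_mul, one_mul]
    exact mul_mem (hT 6 (by simp) _) (mul_mem (hT 9 (by simp) _) (mul_mem (hT 10 (by simp) _) (hT 11 (by simp) _)))
  have e : u₀ * h * n * xg 6 c6 =
      u₀ * ((h * n * (cert12_G2.wordN F w)⁻¹) * cert12_G2.wordN F w) * xg 6 c6 := by group
  rw [e]
  exact mul_mem (mul_mem hu₀T (mul_mem hdT hwT1)) hu6T

/-- the centraliser of the short root element `x_9(1)` of `G₂` in characteristic two -/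
theorem cent_G2s [CharP F 2] (t : GL chevG2.Idx F) (ht : (t : Matrix chevG2.Idx chevG2.Idx F) = chevG2.x F 9 1) :
    chevG2.group F ⊓ Subgroup.centralizer {t} =
      chevG2.rootSubgroup F 9 ⊔ chevG2.rootSubgroup F 10 ⊔ chevG2.rootSubgroup F 11 ⊔ chevG2.rootSubgroup F 6 ⊔
        chevG2.rootSubgroup F 5 := by
  have hn := g2_n
  have nil := g2_commT_nil
  have htx : t = xg 9 1 := gl_ext (by rw [ht, cert12_G2.c6.c2.xA_val])
  subst htx
  apply le_antisymm
  · apply cent_G2s_le
    intro s hs c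
    simp only [List.mem_cons, List.mem_nil_iff, or_false] at hs
    have := cert12_G2.c6.xA_mem_rootSubgroup s c
    rcases hs with rfl | rfl | rfl | rfl | rfl
    · exact (le_sup_left.trans (le_sup_left.trans (le_sup_left.trans le_sup_left)) :
        chevG2.rootSubgroup F 9 ≤ _) this
    · exact (le_sup_right.trans (le_sup_left.trans (le_sup_left.trans le_sup_left)) :
        chevG2.rootSubgroup F 10 ≤ _) this
    · exact (le_sup_right.trans (le_sup_left.trans le_sup_left) : chevG2.rootSubgroup F 11 ≤ _) this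
    · exact (le_sup_right.trans le_sup_left : chevG2.rootSubgroup F 6 ≤ _) this
    · exact (le_sup_right : chevG2.rootSubgroup F 5 ≤ _) this
  · have key : ∀ s ∈ [9, 10, 11, 6, 5], chevG2.rootSubgroup F s ≤
        chevG2.group F ⊓ Subgroup.centralizer {xg 9 (1 : F)} := by
      intro s hs y hy
      obtain ⟨c, rfl⟩ := cert12_G2.c6.rootSubgroup_mem s y hy
      refine Subgroup.mem_inf.mpr ⟨cert12_G2.c6.c2.xA_mem_group s c, ?_⟩
      rw [Subgroup.mem_centralizer_iff]
      intro x hx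
      rw [Set.mem_singleton_iff] at hx
      rw [hx]
      simp only [List.mem_cons, List.mem_nil_iff, or_false] at hs
      have hc : Commute (xg s c) (xg 9 1) := by
        rcases hs with rfl | rfl | rfl | rfl | rfl
        · show xg 9 c * xg 9 1 = xg 9 1 * xg 9 c
          rw [cert12_G2.c6.c2.xA_mul, cert12_G2.c6.c2.xA_mul, add_comm]
        · exact g2_comm_nil 10 9 (by omega) (by omega) (by omega) (by omega) (nil (10, 9) (by simp)) _ _
        · exact g2_comm_nil 11 9 (by omega) (by omega) (by omega) (by omega) (nil (11, 9) (by simp)) _ _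
        · exact g2_comm_nil 6 9 (by omega) (by omega) (by omega) (by omega) (nil (6, 9) (by simp)) _ _
        · exact g2_comm_nil 5 9 (by omega) (by omega) (by omega) (by omega) (nil (5, 9) (by simp)) _ _
      exact hc.eq.symm
    exact sup_le (sup_le (sup_le (sup_le (key 9 (by simp)) (key 10 (by simp))) (key 11 (by simp)))
      (key 6 (by simp))) (key 5 (by simp))

end G2

end Cfsg.Agent.Lib.H29.Chev
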