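import Mathlib
import Cfsg.Agent.Lib.H29.ChevFast9

/-! Distinguished coset representatives in the Weyl group, type G2 (generated) -/

set_option autoImplicit false

namespace Cfsg.Agent.Lib.H29.Chev

def fpG2k0 : FP where
  dk := 2
  tab := 0xb060809040a0107020305000b0a09080706050403020100
  par := 0x0
  nxt := 0x1
  lens := 0x100

def fpG2k1 : FP where
  dk := 6
  tab := 0x5030207010a040908060b0106040208000b030907050a050a070309000b0208040106060b080409010a02070300050a0b090708050603040200010b0a09080706050403020100
  par := 0x40103000201010000010000
  nxt := 0x401000005000300020004000300010000000200010100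
  lens := 0x50403020100

end Cfsg.Agent.Lib.H29.Chev
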