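import Mathlib
import Cfsg.Agent.Lib.H29.ChevDataG2
import Cfsg.Agent.Lib.H29.ChevDataXG2
import Cfsg.Agent.Lib.H29.ChevDataPG2
import Cfsg.Agent.Lib.H29.ChevFast9
import Cfsg.Agent.Lib.H29.ChevGen1

set_option autoImplicit false

namespace Cfsg.Agent.Lib.H29.Chev

set_option maxRecDepth 1000000 in
set_option maxHeartbeats 0 in
theorem fdG2_W0_s0 : allR 0 2 (fdG2.chkWA fxG2 fpG2k0 0) = true := by decide +kernel

theorem fdG2_ChkW0 : fdG2.ChkW fxG2 fpG2k0 0 := by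
  intro r hr
  have hr' : r < 2 := hr
  exact allR_spec fdG2_W0_s0 r (by omega) hr'

set_option maxRecDepth 1000000 in
set_option maxHeartbeats 0 in
theorem fdG2_W1_s0 : allR 0 6 (fdG2.chkWA fxG2 fpG2k1 1) = true := by decide +kernel

theorem fdG2_ChkW1 : fdG2.ChkW fxG2 fpG2k1 1 := by
  intro r hr
  have hr' : r < 6 := hr
  exact allR_spec fdG2_W1_s0 r (by omega) hr'

end Cfsg.Agent.Lib.H29.Chev
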