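import Mathlib
import Cfsg.Prelude.Def_LieChev
import Cfsg.Agent.Lib.H29.ChevCert13
import Cfsg.Agent.Lib.H29.ChevChkWG2
import Cfsg.Agent.Lib.H29.ChevGen43

/-!
# The order of the Chevalley group of type G2 in terms of the order of `B`
-/

set_option autoImplicit false

namespace Cfsg.Agent.Lib.H29.Chev

open Cfsg.Lie

/-- the tables of distinguished coset representatives -/
def fpsG2 : ℕ → FP
  | 0 => fpG2k0
  | 1 => fpG2k1
  | _ => fpG2k0

theorem fpsG2_chk : ∀ k < fdG2.l, fdG2.ChkW fxG2 (fpsG2 k) k ∧ 0 < (fpsG2 k).dk := by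
  intro k hk
  have hk' : k < 2 := hk
  interval_cases k
  · exact ⟨fdG2_ChkW0, by decide⟩
  · exact ⟨fdG2_ChkW1, by decide⟩

set_option maxRecDepth 1000000 in
set_option maxHeartbeats 0 in
theorem fpsG2_poly : polyW fpsG2 fdG2.l = polyD [2, 6] := by decide +kernel

theorem card_group_G2 {F : Type*} [Field F] [Finite F] :
    Nat.card (chevG2.group F) = Nat.card (chevG2.borelSubgroup F) *
      (([2, 6] : List ℕ).map fun d => ∑ i ∈ Finset.range d, Nat.card F ^ i).prod :=
  cert12_G2.card_group_poly fpsG2 fpsG2_chk _ fpsG2_poly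

end Cfsg.Agent.Lib.H29.Chev
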