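import Mathlib
import Cfsg.Prelude.Def_ChevStructure
import Cfsg.Agent.Lib.H29.ChevUniq1
import Cfsg.Agent.Lib.H29.ChevPoinG2

/-!
# The subgroup `U` is a Sylow subgroup: elements of prime-power order are conjugate into `U`
-/

set_option autoImplicit false
set_option linter.unusedSectionVars false
set_option linter.unusedSimpArgs false
set_option linter.unusedVariables false

namespace Cfsg.Agent.Lib.H29.Chev

open Cfsg.Lie Matrix

variable {D : ChevalleyDatum} {fd : FD} {fx : FX} {fc : FC} {fz : FZ} {F : Type*} [Field F]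

theorem not_dvd_geom_sum (p q d : ℕ) (hp : 2 ≤ p) (hpq : p ∣ q) (hd : 0 < d) :
    ¬ p ∣ ∑ i ∈ Finset.range d, q ^ i := by
  obtain ⟨d, rfl⟩ := Nat.exists_eq_succ_of_ne_zero hd.ne'
  rw [Finset.sum_range_succ', pow_zero]
  intro h
  have h2 : p ∣ ∑ i ∈ Finset.range d, q ^ (i + 1) := by
    apply Finset.dvd_sum
    intro i _
    exact dvd_trans hpq (dvd_pow_self q (by omega))
  have := (Nat.dvd_add_right h2).mp h
  have := Nat.le_of_dvd (by norm_num) this
  omega

namespace Cert12

variable (C : Cert12 D fd fx fc fz)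
include C

/-- in characteristic `p` an element of `p`-power order is conjugate to an element of `U` -/
theorem exists_conj_mem_pos [Finite F] (p : ℕ) [hp : Fact p.Prime] [CharP F p] (ds : List ℕ)
    (hgrp : Nat.card (D.group F) =
      Nat.card (D.borelSubgroup F) * (ds.map fun d => ∑ i ∈ Finset.range d, Nat.card F ^ i).prod)
    (hds : ∀ d ∈ ds, 0 < d) (g : GL D.Idx F) (hg : g ∈ D.group F) (k : ℕ) (hgk : g ^ (p ^ k) = 1) :
    ∃ x ∈ D.group F, x * g * x⁻¹ ∈ D.posUnipotent F := by
  classical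
  have := Fintype.ofFinite F
  obtain ⟨e, he⟩ := FiniteField.card F p
  have hq : Nat.card F = p ^ (e : ℕ) := by rw [Nat.card_eq_fintype_card, he.2]
  have hpq : p ∣ Nat.card F := by rw [hq]; exact dvd_pow_self p e.ne_zero
  have hp2 : 2 ≤ p := hp.out.two_le
  have hGfin : Finite (D.group F) := inferInstance
  -- the order of `H` is prime to `p`
  have hH : ¬ p ∣ Nat.card (D.diagonalSubgroup F) := by
    intro h
    rw [C.diag_eq_range] at h
    have h1 := dvd_trans h (Subgroup.card_range_dvd (chiHom D fd F))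
    rw [Nat.card_pi] at h1
    have h2 : Nat.card Fˣ = Nat.card F - 1 := by
      rw [Nat.card_eq_fintype_card, Nat.card_eq_fintype_card, Fintype.card_units]
    simp only [h2, Finset.prod_const] at h1
    have h3 := hp.out.dvd_of_dvd_pow h1
    have hq1 : 1 ≤ Nat.card F := Nat.one_le_iff_ne_zero.mpr (Nat.card_pos).ne'
    have h4 : p ∣ 1 := by
      have := (Nat.dvd_sub hpq h3)
      rwa [Nat.sub_sub_self hq1] at this
    have := Nat.le_of_dvd (by norm_num) h4
    omega
  have hprod : ¬ p ∣ (ds.map fun d => ∑ i ∈ Finset.range d, Nat.card F ^ i).prod := by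
    intro h
    rw [Prime.dvd_prod_iff (Nat.Prime.prime hp.out)] at h
    obtain ⟨a, ha, hpa⟩ := h
    obtain ⟨d, hd, rfl⟩ := List.mem_map.mp ha
    exact not_dvd_geom_sum p _ d hp2 hpq (hds d hd) hpa
  have hm : ¬ p ∣ Nat.card (D.diagonalSubgroup F) *
      (ds.map fun d => ∑ i ∈ Finset.range d, Nat.card F ^ i).prod := by
    intro h
    rcases (Nat.Prime.dvd_mul hp.out).mp h with h | h
    · exact hH h
    · exact hprod h
  have hcardG : Nat.card (D.group F) = p ^ ((e : ℕ) * (D.nroots / 2)) * (Nat.card (D.diagonalSubgroup F) *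
      (ds.map fun d => ∑ i ∈ Finset.range d, Nat.card F ^ i).prod) := by
    rw [hgrp, C.card_borel, C.card_posUnipotent, hq, ← pow_mul]
    ring
  have hfac : (Nat.card (D.group F)).factorization p = (e : ℕ) * (D.nroots / 2) := by
    rw [hcardG, Nat.factorization_mul (by positivity) (by
      intro h0
      apply hm
      rw [h0]; exact dvd_zero p), Finsupp.add_apply, Nat.Prime.factorization_pow hp.out,
      Nat.factorization_eq_zero_of_not_dvd hm]
    simp
  set U1 : Subgroup ↥(D.group F) := (D.posUnipotent F).subgroupOf (D.group F) with hU1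
  have hcardU : Nat.card ↥U1 = p ^ ((e : ℕ) * (D.nroots / 2)) := by
    rw [hU1, Nat.card_congr (Subgroup.subgroupOfEquivOfLe C.c6.c2.pos_le_group).toEquiv, C.card_posUnipotent, hq,
      ← pow_mul]
  let P : Sylow p ↥(D.group F) := Sylow.ofCard U1 (by rw [hcardU, hfac])
  have hP : (P : Subgroup ↥(D.group F)) = U1 := rfl
  have hZ : IsPGroup p (Subgroup.zpowers (⟨g, hg⟩ : ↥(D.group F))) := by
    have h1 : (⟨g, hg⟩ : ↥(D.group F)) ^ p ^ k = 1 := by
      apply Subtype.ext
      rw [Subgroup.coe_pow]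
      exact hgk
    obtain ⟨j, _, hj⟩ := (Nat.dvd_prime_pow hp.out).mp (orderOf_dvd_of_pow_eq_one h1)
    apply IsPGroup.of_card (n := j)
    rw [Nat.card_zpowers, hj]
  obtain ⟨Q, hQ⟩ := hZ.exists_le_sylow
  obtain ⟨x, hx⟩ := MulAction.exists_smul_eq ↥(D.group F) Q P
  have hgQ : (⟨g, hg⟩ : ↥(D.group F)) ∈ (Q : Subgroup ↥(D.group F)) := hQ (Subgroup.mem_zpowers _)
  have hgP : x * ⟨g, hg⟩ * x⁻¹ ∈ (P : Subgroup ↥(D.group F)) := by
    rw [← hx, Sylow.coe_subgroup_smul]
    exact Subgroup.smul_mem_pointwise_smul _ (MulAut.conj x) _ hgQ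
  rw [hP, hU1, Subgroup.mem_subgroupOf] at hgP
  exact ⟨x.1, x.2, hgP⟩

end Cert12

/-- in the group of type `G₂` in characteristic `p` an element of `p`-power order is conjugate to an element of `U` -/
theorem g2_exists_conj_mem_pos [Finite F] (p : ℕ) [Fact p.Prime] [CharP F p] (g : GL chevG2.Idx F)
    (hg : g ∈ chevG2.group F) (k : ℕ) (hgk : g ^ (p ^ k) = 1) :
    ∃ x ∈ chevG2.group F, x * g * x⁻¹ ∈ chevG2.posUnipotent F :=
  cert12_G2.exists_conj_mem_pos p [2, 6] card_group_G2 (by decide) g hg k hgk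

end Cfsg.Agent.Lib.H29.Chev
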