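import Mathlib
import Cfsg.Prelude.Def_ChevStructure
import Cfsg.Agent.Lib.H29.ChevCentG2d
import Cfsg.Agent.Lib.H29.ChevSyl1

/-!
# The group `U` of type `G₂` in characteristic two: the rules for sorting products of root elements
-/

set_option autoImplicit false
set_option linter.unusedSectionVars false
set_option linter.unusedSimpArgs false
set_option linter.unusedVariables false

namespace Cfsg.Agent.Lib.H29.Chev

open Cfsg.Lie Matrix

section G2

variable {F : Type*} [Field F]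

local notation "xg" => cert12_G2.c6.c2.xA

set_option maxRecDepth 100000 in
theorem g2_commT_67 : fdG2.commT 6 7 = [(8, 1, 1, 1), (9, 1, 1, 2), (10, -1, 1, 3), (11, -2, 2, 3)] := by
  decide +kernel

set_option maxRecDepth 100000 in
theorem g2_commT_78 : fdG2.commT 7 8 = [(9, -2, 1, 1), (10, -3, 2, 1), (11, 3, 1, 2)] := by
  decide +kernel

set_option maxRecDepth 100000 in
theorem g2_commT_610 : fdG2.commT 6 10 = [(11, 1, 1, 1)] := by
  decide +kernel

set_option maxRecDepth 100000 in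
theorem g2_commT_79 : fdG2.commT 7 9 = [(10, 3, 1, 1)] := by
  decide +kernel

set_option maxRecDepth 100000 in
theorem g2_commT_89 : fdG2.commT 8 9 = [(11, 3, 1, 1)] := by
  decide +kernel

set_option maxRecDepth 100000 in
theorem g2_commT_pos_nil : ∀ p ∈ [(6, 8), (6, 9), (6, 11), (7, 10), (7, 11), (8, 10), (8, 11), (9, 10), (9, 11), (10, 11)],
    fdG2.commT p.1 p.2 = [] := by
  decide +kernel


set_option maxRecDepth 100000 in
theorem g2_commT_rev_nil : ∀ p ∈ [(8, 6), (9, 6), (11, 6), (10, 7), (11, 7), (10, 8), (11, 8), (10, 9), (11, 9), (11, 10)],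
    fdG2.commT p.1 p.2 = [] := by
  decide +kernel

theorem g2_cfg (r s : ℕ) (hr : r < 12) (hs : s < 12) (h1 : s ≠ r) (h2 : s ≠ 11 - r) (t u : F) :
    xg s u * xg r t = xg r t * xg s u * cert12_G2.c6.c2.ctG (fdG2.commT r s) t u :=
  cert12_G2.c6.cfg r s (by rw [g2_n]; exact hr) (by rw [g2_n]; exact hs) h1 (by rw [g2_n]; exact h2) t u

variable [CharP F 2]

theorem two_eq_zero_F : (2 : F) = 0 := by
  have := CharP.cast_eq_zero F 2
  exact_mod_cast this

theorem neg_eq_self_F (a : F) : -a = a := by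
  have h2 := two_eq_zero_F (F := F)
  linear_combination (-a) * h2

theorem xg_sq (r : ℕ) (t : F) : xg r t * xg r t = 1 := by
  rw [cert12_G2.c6.c2.xA_mul, ← two_mul, two_eq_zero_F, zero_mul, cert12_G2.c6.c2.xA_zero]

theorem xg_inv2 (r : ℕ) (t : F) : (xg r t)⁻¹ = xg r t := by
  rw [cert12_G2.c6.c2.xA_inv, neg_eq_self_F]

theorem sw67 (t u : F) : xg 7 u * xg 6 t = xg 6 t * (xg 7 u * (xg 8 (t * u) * (xg 9 (t * u ^ 2) * xg 10 (t * u ^ 3)))) := by
  rw [g2_cfg 6 7 (by omega) (by omega) (by omega) (by omega), g2_commT_67]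
  simp only [Cert2.ctG, List.map_cons, List.map_nil, List.prod_cons, List.prod_nil, mul_one, pow_one,
    Int.cast_one, Int.cast_neg, Int.cast_ofNat, neg_eq_self_F, one_mul, two_eq_zero_F, zero_mul,
    cert12_G2.c6.c2.xA_zero, mul_assoc]

theorem sw610 (t u : F) : xg 10 u * xg 6 t = xg 6 t * (xg 10 u * xg 11 (t * u)) := by
  rw [g2_cfg 6 10 (by omega) (by omega) (by omega) (by omega), g2_commT_610]
  simp only [Cert2.ctG, List.map_cons, List.map_nil, List.prod_cons, List.prod_nil, mul_one, pow_one,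
    Int.cast_one, Int.cast_neg, Int.cast_ofNat, neg_eq_self_F, one_mul, two_eq_zero_F, zero_mul,
    cert12_G2.c6.c2.xA_zero, mul_assoc]

theorem three_eq_one_F : (3 : F) = 1 := by
  have h2 := two_eq_zero_F (F := F)
  linear_combination h2

theorem sw78 (t u : F) : xg 8 u * xg 7 t = xg 7 t * (xg 8 u * (xg 10 (t ^ 2 * u) * xg 11 (t * u ^ 2))) := by
  rw [g2_cfg 7 8 (by omega) (by omega) (by omega) (by omega), g2_commT_78]
  simp only [Cert2.ctG, List.map_cons, List.map_nil, List.prod_cons, List.prod_nil, mul_one, pow_one,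
    Int.cast_one, Int.cast_neg, Int.cast_ofNat, neg_eq_self_F, one_mul, two_eq_zero_F, three_eq_one_F, zero_mul,
    cert12_G2.c6.c2.xA_zero, mul_assoc]

theorem sw79 (t u : F) : xg 9 u * xg 7 t = xg 7 t * (xg 9 u * xg 10 (t * u)) := by
  rw [g2_cfg 7 9 (by omega) (by omega) (by omega) (by omega), g2_commT_79]
  simp only [Cert2.ctG, List.map_cons, List.map_nil, List.prod_cons, List.prod_nil, mul_one, pow_one,
    Int.cast_one, Int.cast_neg, Int.cast_ofNat, neg_eq_self_F, one_mul, two_eq_zero_F, three_eq_one_F, zero_mul,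
    cert12_G2.c6.c2.xA_zero, mul_assoc]

theorem sw89 (t u : F) : xg 9 u * xg 8 t = xg 8 t * (xg 9 u * xg 11 (t * u)) := by
  rw [g2_cfg 8 9 (by omega) (by omega) (by omega) (by omega), g2_commT_89]
  simp only [Cert2.ctG, List.map_cons, List.map_nil, List.prod_cons, List.prod_nil, mul_one, pow_one,
    Int.cast_one, Int.cast_neg, Int.cast_ofNat, neg_eq_self_F, one_mul, two_eq_zero_F, three_eq_one_F, zero_mul,
    cert12_G2.c6.c2.xA_zero, mul_assoc]

theorem sc6_8 (t u : F) : xg 8 u * xg 6 t = xg 6 t * xg 8 u :=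
  (g2_comm_nil 8 6 (by omega) (by omega) (by omega) (by omega)
    (g2_commT_rev_nil (8, 6) (by decide)) u t).eq

theorem sc6_8' (t u : F) (Z : GL chevG2.Idx F) : xg 8 u * (xg 6 t * Z) = xg 6 t * (xg 8 u * Z) := by
  rw [← mul_assoc, sc6_8, mul_assoc]

theorem sc6_9 (t u : F) : xg 9 u * xg 6 t = xg 6 t * xg 9 u :=
  (g2_comm_nil 9 6 (by omega) (by omega) (by omega) (by omega)
    (g2_commT_rev_nil (9, 6) (by decide)) u t).eq

theorem sc6_9' (t u : F) (Z : GL chevG2.Idx F) : xg 9 u * (xg 6 t * Z) = xg 6 t * (xg 9 u * Z) := by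
  rw [← mul_assoc, sc6_9, mul_assoc]

theorem sc6_11 (t u : F) : xg 11 u * xg 6 t = xg 6 t * xg 11 u :=
  (g2_comm_nil 11 6 (by omega) (by omega) (by omega) (by omega)
    (g2_commT_rev_nil (11, 6) (by decide)) u t).eq

theorem sc6_11' (t u : F) (Z : GL chevG2.Idx F) : xg 11 u * (xg 6 t * Z) = xg 6 t * (xg 11 u * Z) := by
  rw [← mul_assoc, sc6_11, mul_assoc]

theorem sc7_10 (t u : F) : xg 10 u * xg 7 t = xg 7 t * xg 10 u :=
  (g2_comm_nil 10 7 (by omega) (by omega) (by omega) (by omega)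
    (g2_commT_rev_nil (10, 7) (by decide)) u t).eq

theorem sc7_10' (t u : F) (Z : GL chevG2.Idx F) : xg 10 u * (xg 7 t * Z) = xg 7 t * (xg 10 u * Z) := by
  rw [← mul_assoc, sc7_10, mul_assoc]

theorem sc7_11 (t u : F) : xg 11 u * xg 7 t = xg 7 t * xg 11 u :=
  (g2_comm_nil 11 7 (by omega) (by omega) (by omega) (by omega)
    (g2_commT_rev_nil (11, 7) (by decide)) u t).eq

theorem sc7_11' (t u : F) (Z : GL chevG2.Idx F) : xg 11 u * (xg 7 t * Z) = xg 7 t * (xg 11 u * Z) := by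
  rw [← mul_assoc, sc7_11, mul_assoc]

theorem sc8_10 (t u : F) : xg 10 u * xg 8 t = xg 8 t * xg 10 u :=
  (g2_comm_nil 10 8 (by omega) (by omega) (by omega) (by omega)
    (g2_commT_rev_nil (10, 8) (by decide)) u t).eq

theorem sc8_10' (t u : F) (Z : GL chevG2.Idx F) : xg 10 u * (xg 8 t * Z) = xg 8 t * (xg 10 u * Z) := by
  rw [← mul_assoc, sc8_10, mul_assoc]

theorem sc8_11 (t u : F) : xg 11 u * xg 8 t = xg 8 t * xg 11 u :=
  (g2_comm_nil 11 8 (by omega) (by omega) (by omega) (by omega)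
    (g2_commT_rev_nil (11, 8) (by decide)) u t).eq

theorem sc8_11' (t u : F) (Z : GL chevG2.Idx F) : xg 11 u * (xg 8 t * Z) = xg 8 t * (xg 11 u * Z) := by
  rw [← mul_assoc, sc8_11, mul_assoc]

theorem sc9_10 (t u : F) : xg 10 u * xg 9 t = xg 9 t * xg 10 u :=
  (g2_comm_nil 10 9 (by omega) (by omega) (by omega) (by omega)
    (g2_commT_rev_nil (10, 9) (by decide)) u t).eq

theorem sc9_10' (t u : F) (Z : GL chevG2.Idx F) : xg 10 u * (xg 9 t * Z) = xg 9 t * (xg 10 u * Z) := by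
  rw [← mul_assoc, sc9_10, mul_assoc]

theorem sc9_11 (t u : F) : xg 11 u * xg 9 t = xg 9 t * xg 11 u :=
  (g2_comm_nil 11 9 (by omega) (by omega) (by omega) (by omega)
    (g2_commT_rev_nil (11, 9) (by decide)) u t).eq

theorem sc9_11' (t u : F) (Z : GL chevG2.Idx F) : xg 11 u * (xg 9 t * Z) = xg 9 t * (xg 11 u * Z) := by
  rw [← mul_assoc, sc9_11, mul_assoc]

theorem sc10_11 (t u : F) : xg 11 u * xg 10 t = xg 10 t * xg 11 u :=
  (g2_comm_nil 11 10 (by omega) (by omega) (by omega) (by omega)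
    (g2_commT_rev_nil (11, 10) (by decide)) u t).eq

theorem sc10_11' (t u : F) (Z : GL chevG2.Idx F) : xg 11 u * (xg 10 t * Z) = xg 10 t * (xg 11 u * Z) := by
  rw [← mul_assoc, sc10_11, mul_assoc]

theorem sw67' (t u : F) (Z : GL chevG2.Idx F) :
    xg 7 u * (xg 6 t * Z) = xg 6 t * (xg 7 u * (xg 8 (t * u) * (xg 9 (t * u ^ 2) * (xg 10 (t * u ^ 3) * Z)))) := by
  rw [← mul_assoc, sw67]; simp only [mul_assoc]

theorem sw610' (t u : F) (Z : GL chevG2.Idx F) :
    xg 10 u * (xg 6 t * Z) = xg 6 t * (xg 10 u * (xg 11 (t * u) * Z)) := by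
  rw [← mul_assoc, sw610]; simp only [mul_assoc]

theorem sw78' (t u : F) (Z : GL chevG2.Idx F) :
    xg 8 u * (xg 7 t * Z) = xg 7 t * (xg 8 u * (xg 10 (t ^ 2 * u) * (xg 11 (t * u ^ 2) * Z))) := by
  rw [← mul_assoc, sw78]; simp only [mul_assoc]

theorem sw79' (t u : F) (Z : GL chevG2.Idx F) :
    xg 9 u * (xg 7 t * Z) = xg 7 t * (xg 9 u * (xg 10 (t * u) * Z)) := by
  rw [← mul_assoc, sw79]; simp only [mul_assoc]

theorem sw89' (t u : F) (Z : GL chevG2.Idx F) :
    xg 9 u * (xg 8 t * Z) = xg 8 t * (xg 9 u * (xg 11 (t * u) * Z)) := by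
  rw [← mul_assoc, sw89]; simp only [mul_assoc]

theorem xg_merge (r : ℕ) (t u : F) (Z : GL chevG2.Idx F) : xg r t * (xg r u * Z) = xg r (t + u) * Z := by
  rw [← mul_assoc, cert12_G2.c6.c2.xA_mul]

end G2

end Cfsg.Agent.Lib.H29.Chev
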