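import Mathlib
import Cfsg.Prelude.Def_ChevStructure
import Cfsg.Agent.Lib.H29.ChevInvG2a

/-!
# The group `U` of type `G₂` in characteristic two: coordinates, squares and conjugates
-/

set_option autoImplicit false
set_option linter.unusedSectionVars false
set_option linter.unusedSimpArgs false
set_option linter.unusedVariables false

namespace Cfsg.Agent.Lib.H29.Chev

open Cfsg.Lie Matrix

section G2

variable {F : Type*} [Field F]

local notation "xg" => cert12_G2.c6.c2.xA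

/-- the element of `U` with the coordinates `a, …, f` -/
noncomputable def g2E (a b c d e f : F) : GL chevG2.Idx F :=
  xg 6 a * (xg 7 b * (xg 8 c * (xg 9 d * (xg 10 e * xg 11 f))))

theorem g2E_inj (a b c d e f a' b' c' d' e' f' : F) (h : g2E a b c d e f = g2E a' b' c' d' e' f') :
    a = a' ∧ b = b' ∧ c = c' ∧ d = d' ∧ e = e' ∧ f = f' := by
  have hn := g2_n
  have key := cert12_G2.oprod_unique (F := F) 6 6 (by omega) (by omega)
    (fun r => [a, b, c, d, e, f].getD (r - 6) 0) (fun r => [a', b', c', d', e', f'].getD (r - 6) 0) (by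
      simp only [cert12_G2.oprod_succ, cert12_G2.oprod_zero, mul_one]
      exact h)
  exact ⟨key 6 (by omega) (by omega), key 7 (by omega) (by omega), key 8 (by omega) (by omega),
    key 9 (by omega) (by omega), key 10 (by omega) (by omega), key 11 (by omega) (by omega)⟩

theorem g2E_zero : g2E (0 : F) 0 0 0 0 0 = 1 := by
  simp [g2E, cert12_G2.c6.c2.xA_zero]

theorem g2E_mem_pos (a b c d e f : F) : g2E a b c d e f ∈ chevG2.posUnipotent F := by
  have hn := g2_n
  unfold g2E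
  exact mul_mem (cert12_G2.xA_mem_posU 6 (by omega) (by omega) _) (mul_mem (cert12_G2.xA_mem_posU 7 (by omega) (by omega) _)
    (mul_mem (cert12_G2.xA_mem_posU 8 (by omega) (by omega) _) (mul_mem (cert12_G2.xA_mem_posU 9 (by omega) (by omega) _)
    (mul_mem (cert12_G2.xA_mem_posU 10 (by omega) (by omega) _) (cert12_G2.xA_mem_posU 11 (by omega) (by omega) _)))))

/-- every element of `U` has coordinates -/
theorem exists_g2E (g : GL chevG2.Idx F) (hg : g ∈ chevG2.posUnipotent F) :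
    ∃ a b c d e f : F, g = g2E a b c d e f := by
  have hn := g2_n
  rw [cert12_G2.posUnipotent_eq] at hg
  obtain ⟨τ, _, hτ⟩ := cert12_G2.Vm_oprod (fun _ => True) cert12_G2.closed_true 6 6 (by omega) (by omega) g
    (by rw [hn] at hg; exact hg)
  simp only [cert12_G2.oprod_succ, cert12_G2.oprod_zero, mul_one] at hτ
  exact ⟨τ 6, τ 7, τ 8, τ 9, τ 10, τ 11, hτ⟩

theorem g2E_congr (a b c d e f a' b' c' d' e' f' : F) (h1 : a = a') (h2 : b = b') (h3 : c = c') (h4 : d = d')
    (h5 : e = e') (h6 : f = f') :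
    xg 6 a * (xg 7 b * (xg 8 c * (xg 9 d * (xg 10 e * xg 11 f)))) =
      xg 6 a' * (xg 7 b' * (xg 8 c' * (xg 9 d' * (xg 10 e' * xg 11 f')))) := by
  subst h1 h2 h3 h4 h5 h6; rfl

variable [CharP F 2]

/-- the square of an element of `U` -/
theorem g2E_sq (a b c d e f : F) : g2E a b c d e f * g2E a b c d e f =
    g2E 0 0 (a * b) (a * b ^ 2) (a * b ^ 3 + b ^ 2 * c + b * d) (a ^ 2 * b ^ 3 + b * c ^ 2 + c * d + a * e) := by
  have h2 := two_eq_zero_F (F := F)
  unfold g2E
  simp only [mul_assoc, sw67, sw67', sw610, sw610', sw78, sw78', sw79, sw79', sw89, sw89',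
    sc6_8, sc6_8', sc6_9, sc6_9', sc6_11, sc6_11', sc7_10, sc7_10', sc7_11, sc7_11', sc8_10, sc8_10', sc8_11, sc8_11',
    sc9_10, sc9_10', sc9_11, sc9_11', sc10_11, sc10_11', xg_merge, cert12_G2.c6.c2.xA_mul]
  apply g2E_congr
  · linear_combination a * h2
  · linear_combination b * h2
  · linear_combination c * h2
  · linear_combination d * h2
  · linear_combination (a * b ^ 3 + e) * h2
  · linear_combination (c * a * b ^ 2 + f) * h2

/-- the conditions for an element of `U` to be an involution -/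
theorem g2E_sq_eq_one (a b c d e f : F) (h : g2E a b c d e f * g2E a b c d e f = 1) :
    a * b = 0 ∧ b * (b * c + d) = 0 ∧ b * c ^ 2 + c * d + a * e = 0 := by
  rw [g2E_sq, ← g2E_zero] at h
  obtain ⟨_, _, h3, h4, h5, h6⟩ := g2E_inj _ _ _ _ _ _ _ _ _ _ _ _ h
  refine ⟨h3, ?_, ?_⟩
  · linear_combination h5 - b ^ 2 * h3
  · linear_combination h6 - a * b ^ 2 * h3

theorem g2_cj6 (a b c d e f z : F) : xg 6 z * g2E a b c d e f * (xg 6 z)⁻¹ =
    g2E a b (z * b + c) (z * b ^ 2 + d) (z * b ^ 3 + e) (c * z * b ^ 2 + z * e + f) := by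
  have h2 := two_eq_zero_F (F := F)
  rw [xg_inv2]
  unfold g2E
  simp only [mul_assoc, sw67, sw67', sw610, sw610', sw78, sw78', sw79, sw79', sw89, sw89',
    sc6_8, sc6_8', sc6_9, sc6_9', sc6_11, sc6_11', sc7_10, sc7_10', sc7_11, sc7_11', sc8_10, sc8_10', sc8_11, sc8_11',
    sc9_10, sc9_10', sc9_11, sc9_11', sc10_11, sc10_11', xg_merge, cert12_G2.c6.c2.xA_mul]
  apply g2E_congr
  · linear_combination z * h2
  · rfl
  · rfl
  · rfl
  · rfl
  · ring

theorem g2_cj7 (a b c d e f z : F) : xg 7 z * g2E a b c d e f * (xg 7 z)⁻¹ =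
    g2E a b (a * z + c) (a * z ^ 2 + d) (z ^ 2 * c + z * d + a * z ^ 3 + b ^ 2 * a * z + b * a * z ^ 2 + e)
      (z * (a * z + c) ^ 2 + b * (a * z) ^ 2 + c * a * z ^ 2 + f) := by
  have h2 := two_eq_zero_F (F := F)
  rw [xg_inv2]
  unfold g2E
  simp only [mul_assoc, sw67, sw67', sw610, sw610', sw78, sw78', sw79, sw79', sw89, sw89',
    sc6_8, sc6_8', sc6_9, sc6_9', sc6_11, sc6_11', sc7_10, sc7_10', sc7_11, sc7_11', sc8_10, sc8_10', sc8_11, sc8_11',
    sc9_10, sc9_10', sc9_11, sc9_11', sc10_11, sc10_11', xg_merge, cert12_G2.c6.c2.xA_mul]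
  apply g2E_congr
  · rfl
  · linear_combination z * h2
  · rfl
  · rfl
  · linear_combination (a * z ^ 3) * h2
  · ring

theorem g2_cj8 (a b c d e f z : F) : xg 8 z * g2E a b c d e f * (xg 8 z)⁻¹ =
    g2E a b c d (b ^ 2 * z + e) (z * d + b * z ^ 2 + f) := by
  have h2 := two_eq_zero_F (F := F)
  rw [xg_inv2]
  unfold g2E
  simp only [mul_assoc, sw67, sw67', sw610, sw610', sw78, sw78', sw79, sw79', sw89, sw89',
    sc6_8, sc6_8', sc6_9, sc6_9', sc6_11, sc6_11', sc7_10, sc7_10', sc7_11, sc7_11', sc8_10, sc8_10', sc8_11, sc8_11',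
    sc9_10, sc9_10', sc9_11, sc9_11', sc10_11, sc10_11', xg_merge, cert12_G2.c6.c2.xA_mul]
  apply g2E_congr
  · rfl
  · rfl
  · linear_combination z * h2
  · rfl
  · rfl
  · ring

theorem g2_cj9 (a b c d e f z : F) : xg 9 z * g2E a b c d e f * (xg 9 z)⁻¹ =
    g2E a b c d (b * z + e) (c * z + f) := by
  have h2 := two_eq_zero_F (F := F)
  rw [xg_inv2]
  unfold g2E
  simp only [mul_assoc, sw67, sw67', sw610, sw610', sw78, sw78', sw79, sw79', sw89, sw89',
    sc6_8, sc6_8', sc6_9, sc6_9', sc6_11, sc6_11', sc7_10, sc7_10', sc7_11, sc7_11', sc8_10, sc8_10', sc8_11, sc8_11',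
    sc9_10, sc9_10', sc9_11, sc9_11', sc10_11, sc10_11', xg_merge, cert12_G2.c6.c2.xA_mul]
  apply g2E_congr
  · rfl
  · rfl
  · rfl
  · linear_combination z * h2
  · rfl
  · rfl

theorem g2_cj10 (a b c d e f z : F) : xg 10 z * g2E a b c d e f * (xg 10 z)⁻¹ =
    g2E a b c d e (a * z + f) := by
  have h2 := two_eq_zero_F (F := F)
  rw [xg_inv2]
  unfold g2E
  simp only [mul_assoc, sw67, sw67', sw610, sw610', sw78, sw78', sw79, sw79', sw89, sw89',
    sc6_8, sc6_8', sc6_9, sc6_9', sc6_11, sc6_11', sc7_10, sc7_10', sc7_11, sc7_11', sc8_10, sc8_10', sc8_11, sc8_11',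
    sc9_10, sc9_10', sc9_11, sc9_11', sc10_11, sc10_11', xg_merge, cert12_G2.c6.c2.xA_mul]
  apply g2E_congr
  · rfl
  · rfl
  · rfl
  · rfl
  · linear_combination z * h2
  · rfl

end G2

end Cfsg.Agent.Lib.H29.Chev
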