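import Mathlib
import Cfsg.Prelude.Def_ChevStructure
import Cfsg.Agent.Lib.H29.ChevInvG2b

/-!
# The involutions of `U` for the type `G₂` in characteristic two are conjugate to root elements
-/

set_option autoImplicit false
set_option linter.unusedSectionVars false
set_option linter.unusedSimpArgs false
set_option linter.unusedVariables false

namespace Cfsg.Agent.Lib.H29.Chev

open Cfsg.Lie Matrix

/-- conjugacy in the Chevalley group -/
def ConjG (D : ChevalleyDatum) (F : Type*) [Field F] (g g' : GL D.Idx F) : Prop :=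
  ∃ x ∈ D.group F, x * g * x⁻¹ = g'

theorem ConjG.refl (D : ChevalleyDatum) (F : Type*) [Field F] (g : GL D.Idx F) : ConjG D F g g :=
  ⟨1, one_mem _, by group⟩

theorem ConjG.trans {D : ChevalleyDatum} {F : Type*} [Field F] {g g' g'' : GL D.Idx F} (h : ConjG D F g g')
    (h' : ConjG D F g' g'') : ConjG D F g g'' := by
  obtain ⟨x, hx, rfl⟩ := h
  obtain ⟨y, hy, rfl⟩ := h'
  exact ⟨y * x, mul_mem hy hx, by group⟩

theorem ConjG.symm {D : ChevalleyDatum} {F : Type*} [Field F] {g g' : GL D.Idx F} (h : ConjG D F g g') :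
    ConjG D F g' g := by
  obtain ⟨x, hx, rfl⟩ := h
  exact ⟨x⁻¹, inv_mem hx, by group⟩

section G2

variable {F : Type*} [Field F]

local notation "xg" => cert12_G2.c6.c2.xA

theorem conjG_xg (s : ℕ) (z : F) (g g' : GL chevG2.Idx F) (h : xg s z * g * (xg s z)⁻¹ = g') :
    ConjG chevG2 F g g' :=
  ⟨xg s z, cert12_G2.c6.c2.xA_mem_group s z, h⟩

theorem g2E_eq (a b c d e f a' b' c' d' e' f' : F) (h1 : a = a') (h2 : b = b') (h3 : c = c') (h4 : d = d')
    (h5 : e = e') (h6 : f = f') : g2E a b c d e f = g2E a' b' c' d' e' f' := by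
  subst h1 h2 h3 h4 h5 h6; rfl

theorem g2E_root6 (t : F) : g2E t 0 0 0 0 0 = xg 6 t := by simp [g2E, cert12_G2.c6.c2.xA_zero]
theorem g2E_root7 (t : F) : g2E 0 t 0 0 0 0 = xg 7 t := by simp [g2E, cert12_G2.c6.c2.xA_zero]
theorem g2E_root8 (t : F) : g2E 0 0 t 0 0 0 = xg 8 t := by simp [g2E, cert12_G2.c6.c2.xA_zero]
theorem g2E_root9 (t : F) : g2E 0 0 0 t 0 0 = xg 9 t := by simp [g2E, cert12_G2.c6.c2.xA_zero]
theorem g2E_root10 (t : F) : g2E 0 0 0 0 t 0 = xg 10 t := by simp [g2E, cert12_G2.c6.c2.xA_zero]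
theorem g2E_root11 (t : F) : g2E 0 0 0 0 0 t = xg 11 t := by simp [g2E, cert12_G2.c6.c2.xA_zero]

variable [CharP F 2]

theorem add_self_F (a : F) : a + a = 0 := by
  have h2 := two_eq_zero_F (F := F)
  linear_combination a * h2

theorem exists_sqrt_F [Finite F] (a : F) : ∃ z : F, z ^ 2 = a := by
  obtain ⟨r, hr⟩ := FiniteField.isSquare_of_char_two (ringChar.eq F 2) a
  exact ⟨r, by rw [hr, sq]⟩

/-- the involutions `x_8(c) x_10(e) x_11(f)` -/
theorem g2_case8 [Finite F] (c e f : F) (hc : c ≠ 0) : ConjG chevG2 F (g2E 0 0 c 0 e f) (xg 8 c) := by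
  obtain ⟨z, hz⟩ := exists_sqrt_F (e / c)
  have hz' : z ^ 2 * c = e := by rw [hz]; field_simp
  have s1 : ConjG chevG2 F (g2E 0 0 c 0 e f) (g2E 0 0 c 0 0 (z * c ^ 2 + f)) := by
    apply conjG_xg 7 z
    rw [g2_cj7]
    apply g2E_eq
    · rfl
    · rfl
    · ring
    · ring
    · have := add_self_F e
      linear_combination hz' + this
    · ring
  have s2 : ConjG chevG2 F (g2E 0 0 c 0 0 (z * c ^ 2 + f)) (g2E 0 0 c 0 0 0) := by
    apply conjG_xg 9 ((z * c ^ 2 + f) / c)
    rw [g2_cj9]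
    apply g2E_eq
    · rfl
    · rfl
    · rfl
    · rfl
    · ring
    · have := add_self_F (z * c ^ 2 + f)
      field_simp
      linear_combination this
  rw [← g2E_root8]
  exact s1.trans s2

/-- the involutions `x_9(d) x_10(e) x_11(f)` -/
theorem g2_case9 (d e f : F) (hd : d ≠ 0) : ConjG chevG2 F (g2E 0 0 0 d e f) (xg 9 d) := by
  obtain ⟨z, hz⟩ : ∃ z, z * d = e := ⟨e / d, by field_simp⟩
  obtain ⟨w, hw⟩ : ∃ w, w * d = f := ⟨f / d, by field_simp⟩
  have s1 : ConjG chevG2 F (g2E 0 0 0 d e f) (g2E 0 0 0 d 0 f) := by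
    apply conjG_xg 7 z
    rw [g2_cj7]
    apply g2E_eq
    · rfl
    · rfl
    · ring
    · ring
    · have := add_self_F e
      linear_combination hz + this
    · ring
  have s2 : ConjG chevG2 F (g2E 0 0 0 d 0 f) (g2E 0 0 0 d 0 0) := by
    apply conjG_xg 8 w
    rw [g2_cj8]
    apply g2E_eq
    · rfl
    · rfl
    · rfl
    · rfl
    · ring
    · have := add_self_F f
      linear_combination hw + this
  rw [← g2E_root9]
  exact s1.trans s2

/-- the involutions `x_10(e) x_11(f)` -/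
theorem g2_case10 (e f : F) (he : e ≠ 0) : ConjG chevG2 F (g2E 0 0 0 0 e f) (xg 10 e) := by
  obtain ⟨z, hz⟩ : ∃ z, z * e = f := ⟨f / e, by field_simp⟩
  rw [← g2E_root10]
  apply conjG_xg 6 z
  rw [g2_cj6]
  apply g2E_eq
  · rfl
  · rfl
  · ring
  · ring
  · ring
  · have := add_self_F f
    linear_combination hz + this

/-- the involutions with a component at the root `a` -/
theorem g2_case7 [Finite F] (b c e f : F) (hb : b ≠ 0) : ConjG chevG2 F (g2E 0 b c (b * c) e f) (xg 7 b) := by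
  have s1 : ConjG chevG2 F (g2E 0 b c (b * c) e f)
      (g2E 0 b 0 0 (c / b * b ^ 3 + e) (c * (c / b) * b ^ 2 + c / b * e + f)) := by
    apply conjG_xg 6 (c / b)
    rw [g2_cj6]
    apply g2E_eq
    · rfl
    · rfl
    · have := add_self_F c
      field_simp
      linear_combination this
    · have := add_self_F (b * c)
      field_simp
      linear_combination this
    · rfl
    · rfl
  generalize c / b * b ^ 3 + e = e' at s1
  generalize c * (c / b) * b ^ 2 + c / b * e + f = f' at s1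
  have s2 : ConjG chevG2 F (g2E 0 b 0 0 e' f') (g2E 0 b 0 0 0 f') := by
    apply conjG_xg 9 (e' / b)
    rw [g2_cj9]
    apply g2E_eq
    · rfl
    · rfl
    · rfl
    · rfl
    · have := add_self_F e'
      field_simp
      linear_combination this
    · ring
  obtain ⟨z, hz⟩ := exists_sqrt_F (f' / b)
  have hz' : b * z ^ 2 = f' := by rw [hz]; field_simp
  have s3 : ConjG chevG2 F (g2E 0 b 0 0 0 f') (g2E 0 b 0 0 (b ^ 2 * z) 0) := by
    apply conjG_xg 8 z
    rw [g2_cj8]
    apply g2E_eq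
    · rfl
    · rfl
    · rfl
    · rfl
    · ring
    · have := add_self_F f'
      linear_combination hz' + this
  have s4 : ConjG chevG2 F (g2E 0 b 0 0 (b ^ 2 * z) 0) (g2E 0 b 0 0 0 0) := by
    apply conjG_xg 9 (b * z)
    rw [g2_cj9]
    apply g2E_eq
    · rfl
    · rfl
    · rfl
    · rfl
    · have := add_self_F (b ^ 2 * z)
      linear_combination this
    · ring
  rw [← g2E_root7]
  exact ((s1.trans s2).trans s3).trans s4

end G2

end Cfsg.Agent.Lib.H29.Chev
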