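import Mathlib
import Cfsg.Prelude.Def_ChevStructure
import Cfsg.Agent.Lib.H29.ChevTw25
import Cfsg.Agent.Lib.H29.ChevTw15

/-!
# The group of `σ`-fixed elements of a Chevalley group is generated by the elements attached to the orbits
-/

set_option autoImplicit false
set_option linter.unusedSectionVars false
set_option linter.unusedSimpArgs false
set_option linter.unusedVariables false

namespace Cfsg.Agent.Lib.H29.Chev

open Cfsg.Lie Matrix

variable {D : ChevalleyDatum} {fd : FD} {fx : FX} {fc : FC} {fz : FZ} {F : Type*} [Field F]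

namespace Cert12

variable (C : Cert12 D fd fx fc fz) {ga : GA} {k : ℕ} (T : TwSpec fd fx ga k) (T2 : TwSpec2 fd fx ga k)
  (φ : F →+* F)
include C T T2

/-- the `σ`-fixed elements of the Chevalley group are generated by the `σ`-fixed elements attached to the orbits
of fundamental roots -/
theorem fix_eq_closure [Finite F] (hk : k = 2 ∨ k = 3) (hφk : ∀ x : F, φ^[k] x = x) {RL sreps : List ℕ}
    (S : ChainSpec fd fx ga k RL sreps) {fq : FQ} (hQ : fd.ChkQ fx ga k sreps RL fq) (hdk : 0 < fq.dk)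
    (hcov : ∀ i < fd.l, ∃ ii < sreps.length, ∃ j < k, i = rhIt ga j (sreps.getD ii 0))
    (hO : ∀ c < fd.l, chkOrb ga k sreps c = true)
    (e : ℕ) (hke : (k = 3 ∧ e = 2) ∨ (k = 2 ∧ e = 3))
    (B : Matrix (Fin fd.l) (Fin fd.l) ℤ) (hB : cartM fd * B = (e : ℤ) • (1 : Matrix (Fin fd.l) (Fin fd.l) ℤ))
    (hs : ∀ x : Fin fd.l → Fˣ, (sigT fd ga k φ)^[k] x = x) :
    fixS (C.c6.c2.sigma T.ginv φ) ⊓ D.group F = Subgroup.closure (C.twGen ga k φ sreps) := by
  obtain ⟨h1, h2, h3, h4, h5⟩ := C.twGen_spec T T2 φ hk hφk S hO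
  apply le_antisymm
  · intro g hg
    obtain ⟨u, hu, m, hm, hmfix, u', hu', rfl⟩ := C.tw_canon T T2 φ hk hφk
      (fixS (C.c6.c2.sigma T.ginv φ) ⊓ D.group F) inf_le_right inf_le_left g hg
    obtain ⟨r, hr, hrN, hmr⟩ := C.tw_N_decomp T T2 φ hk hφk S hQ hdk hcov m hm hmfix
    have hrG : r ∈ Subgroup.closure (C.twGen ga k φ sreps) := by
      have hle : C.nsGen F ga k sreps ≤ Subgroup.closure (C.twGen ga k φ sreps) := by
        unfold nsGen
        rw [Subgroup.closure_le]
        rintro x ⟨i, hi, rfl⟩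
        exact h5 i hi
      exact hle hr
    have hrfix : C.c6.c2.sigma T.ginv φ r = r := h2 hrG
    have hmrfix : C.c6.c2.sigma T.ginv φ (m * r⁻¹) = m * r⁻¹ := by
      rw [map_mul, map_inv, hmfix, hrfix]
    have hmrG : m * r⁻¹ ∈ Subgroup.closure (C.twGen ga k φ sreps) :=
      h4 (C.fix_diag_le T T2 φ e hke B hB hs (Subgroup.mem_inf.mpr ⟨hmrfix, hmr⟩))
    have hmG : m ∈ Subgroup.closure (C.twGen ga k φ sreps) := by
      have : m = (m * r⁻¹) * r := by group
      rw [this]
      exact mul_mem hmrG hrG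
    exact mul_mem (mul_mem (h3 hu) hmG) (h3 hu')
  · exact le_inf h2 h1

end Cert12

end Cfsg.Agent.Lib.H29.Chev
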