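import Mathlib
import Cfsg.Prelude.Def_ChevStructure
import Cfsg.Agent.Lib.H29.ChevFold1
import Cfsg.Agent.Lib.H29.ChevFold2
import Cfsg.Agent.Lib.H29.ChevSimpleGen
import Cfsg.Agent.Lib.H29.ChevTw30
import Cfsg.Agent.Lib.H29.ChevDiagG
import Cfsg.Agent.Lib.H29.BNNormal

/-!
# Folding: the homomorphism from the group of fixed elements to the small Chevalley group
-/

set_option autoImplicit false
set_option linter.unusedSectionVars false
set_option linter.unusedSimpArgs false
set_option linter.unusedVariables false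

namespace Cfsg.Agent.Lib.H29.Chev

open Cfsg.Lie Matrix

section FoldHom

variable {ι κ : Type*} [Fintype ι] [DecidableEq ι] [Fintype κ] [DecidableEq κ] {R : Type*} [CommRing R]
  (J : Matrix ι κ R) (Jp : Matrix κ ι R)

/-- the matrices preserving the image of `J` -/
def foldSub (h : Jp * J = 1) : Subgroup (GL ι R) where
  carrier := {g | (g : Matrix ι ι R) * J = J * (Jp * (g : Matrix ι ι R) * J)}
  one_mem' := by
    show ((1 : GL ι R) : Matrix ι ι R) * J = J * (Jp * ((1 : GL ι R) : Matrix ι ι R) * J)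
    rw [Units.val_one, Matrix.one_mul, Matrix.mul_one, h, Matrix.mul_one]
  mul_mem' := by
    intro a b ha hb
    have ha' : (a : Matrix ι ι R) * J = J * (Jp * (a : Matrix ι ι R) * J) := ha
    have hb' : (b : Matrix ι ι R) * J = J * (Jp * (b : Matrix ι ι R) * J) := hb
    show ((a * b : GL ι R) : Matrix ι ι R) * J = J * (Jp * ((a * b : GL ι R) : Matrix ι ι R) * J)
    rw [Units.val_mul]
    calc (a : Matrix ι ι R) * (b : Matrix ι ι R) * J = (a : Matrix ι ι R) * ((b : Matrix ι ι R) * J) := by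
          rw [Matrix.mul_assoc]
      _ = ((a : Matrix ι ι R) * J) * (Jp * (b : Matrix ι ι R) * J) := by rw [hb', ← Matrix.mul_assoc]
      _ = J * (Jp * (a : Matrix ι ι R) * (J * (Jp * (b : Matrix ι ι R) * J))) := by
          rw [ha']; simp only [Matrix.mul_assoc]
      _ = J * (Jp * ((a : Matrix ι ι R) * (b : Matrix ι ι R)) * J) := by
          rw [← hb']; simp only [Matrix.mul_assoc]
  inv_mem' := by
    intro a ha
    have ha' : (a : Matrix ι ι R) * J = J * (Jp * (a : Matrix ι ι R) * J) := ha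
    show ((a⁻¹ : GL ι R) : Matrix ι ι R) * J = J * (Jp * ((a⁻¹ : GL ι R) : Matrix ι ι R) * J)
    have e1 : ((a⁻¹ : GL ι R) : Matrix ι ι R) * (a : Matrix ι ι R) = 1 := by
      rw [← Units.val_mul, inv_mul_cancel, Units.val_one]
    have e2 : (Jp * ((a⁻¹ : GL ι R) : Matrix ι ι R) * J) * (Jp * (a : Matrix ι ι R) * J) = 1 := by
      calc (Jp * ((a⁻¹ : GL ι R) : Matrix ι ι R) * J) * (Jp * (a : Matrix ι ι R) * J)
          = Jp * ((a⁻¹ : GL ι R) : Matrix ι ι R) * (J * (Jp * (a : Matrix ι ι R) * J)) := by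
            simp only [Matrix.mul_assoc]
        _ = Jp * (((a⁻¹ : GL ι R) : Matrix ι ι R) * (a : Matrix ι ι R)) * J := by
            rw [← ha']; simp only [Matrix.mul_assoc]
        _ = 1 := by rw [e1, Matrix.mul_one, h]
    have e3 : (Jp * (a : Matrix ι ι R) * J) * (Jp * ((a⁻¹ : GL ι R) : Matrix ι ι R) * J) = 1 :=
      mul_eq_one_comm.mp e2
    calc ((a⁻¹ : GL ι R) : Matrix ι ι R) * J
        = ((a⁻¹ : GL ι R) : Matrix ι ι R) * J *
            ((Jp * (a : Matrix ι ι R) * J) * (Jp * ((a⁻¹ : GL ι R) : Matrix ι ι R) * J)) := by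
          rw [e3, Matrix.mul_one]
      _ = ((a⁻¹ : GL ι R) : Matrix ι ι R) * (J * (Jp * (a : Matrix ι ι R) * J)) *
            (Jp * ((a⁻¹ : GL ι R) : Matrix ι ι R) * J) := by simp only [Matrix.mul_assoc]
      _ = (((a⁻¹ : GL ι R) : Matrix ι ι R) * (a : Matrix ι ι R)) * J *
            (Jp * ((a⁻¹ : GL ι R) : Matrix ι ι R) * J) := by rw [← ha']; simp only [Matrix.mul_assoc]
      _ = J * (Jp * ((a⁻¹ : GL ι R) : Matrix ι ι R) * J) := by rw [e1, Matrix.one_mul]

theorem mem_foldSub (h : Jp * J = 1) (g : GL ι R) :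
    g ∈ foldSub J Jp h ↔ (g : Matrix ι ι R) * J = J * (Jp * (g : Matrix ι ι R) * J) := Iff.rfl

theorem foldSub_mul_aux (h : Jp * J = 1) (a b : GL ι R) (hb : b ∈ foldSub J Jp h) :
    Jp * ((a * b : GL ι R) : Matrix ι ι R) * J = (Jp * (a : Matrix ι ι R) * J) * (Jp * (b : Matrix ι ι R) * J) := by
  have hb' : (b : Matrix ι ι R) * J = J * (Jp * (b : Matrix ι ι R) * J) := hb
  rw [Units.val_mul]
  calc Jp * ((a : Matrix ι ι R) * (b : Matrix ι ι R)) * J = Jp * (a : Matrix ι ι R) * ((b : Matrix ι ι R) * J) := by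
        simp only [Matrix.mul_assoc]
    _ = (Jp * (a : Matrix ι ι R) * J) * (Jp * (b : Matrix ι ι R) * J) := by
        rw [hb']; simp only [Matrix.mul_assoc]

/-- the action on the image of `J` -/
def foldHom (h : Jp * J = 1) : ↥(foldSub J Jp h) →* GL κ R where
  toFun g := ⟨Jp * ((g : GL ι R) : Matrix ι ι R) * J, Jp * (((g : GL ι R)⁻¹ : GL ι R) : Matrix ι ι R) * J, by
      rw [← foldSub_mul_aux J Jp h _ _ (inv_mem g.property), mul_inv_cancel, Units.val_one, Matrix.mul_one, h], by
      rw [← foldSub_mul_aux J Jp h _ _ g.property, inv_mul_cancel, Units.val_one, Matrix.mul_one, h]⟩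
  map_one' := by
    apply Units.ext
    show Jp * (((1 : ↥(foldSub J Jp h)) : GL ι R) : Matrix ι ι R) * J = 1
    rw [OneMemClass.coe_one, Units.val_one, Matrix.mul_one, h]
  map_mul' := by
    intro a b
    apply Units.ext
    show Jp * (((a * b : ↥(foldSub J Jp h)) : GL ι R) : Matrix ι ι R) * J =
      (Jp * ((a : GL ι R) : Matrix ι ι R) * J) * (Jp * ((b : GL ι R) : Matrix ι ι R) * J)
    rw [Subgroup.coe_mul]
    exact foldSub_mul_aux J Jp h _ _ b.property

theorem foldHom_val (h : Jp * J = 1) (g : ↥(foldSub J Jp h)) :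
    ((foldHom J Jp h g : GL κ R) : Matrix κ κ R) = Jp * ((g : GL ι R) : Matrix ι ι R) * J := rfl

/-- an element intertwined with a matrix lies in the subgroup, and its image is that matrix -/
theorem mem_foldSub_of_intertwine (h : Jp * J = 1) (g : GL ι R) (m : Matrix κ κ R)
    (hg : (g : Matrix ι ι R) * J = J * m) :
    g ∈ foldSub J Jp h ∧ Jp * (g : Matrix ι ι R) * J = m := by
  have e : Jp * (g : Matrix ι ι R) * J = m := by
    rw [Matrix.mul_assoc, hg, ← Matrix.mul_assoc, h, Matrix.one_mul]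
  refine ⟨?_, e⟩
  rw [mem_foldSub, e, hg]

end FoldHom

variable {D D' : ChevalleyDatum} {fd fd' : FD} {fx fx' : FX} {fc fc' : FC} {fz fz' : FZ} {F : Type*} [Field F]

/-- the orbit of fundamental roots at the representative `i` -/
def FD.orbS (fd : FD) (ga : GA) (k i : ℕ) : List ℕ :=
  (List.range (if ga.rh.getD i 0 = i then 1 else k)).map fun j => fd.simples.getD (rhIt ga j i) 0

/-- the orbit of negatives of fundamental roots at the representative `i` -/
def FD.orbN (fd : FD) (ga : GA) (k i : ℕ) : List ℕ :=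
  (List.range (if ga.rh.getD i 0 = i then 1 else k)).map fun j => fd.n - 1 - fd.simples.getD (rhIt ga j i) 0

/-- the sum of the entries of the powers at `(i1, top)` of the root element of the negative of a fundamental root -/
def FD.witSum (fd' : FD) (a0 i1 : ℕ) : ℤ :=
  ((List.range 4).map fun k =>
    SV.get (fd'.colA (fd'.n - 1 - fd'.simples.getD a0 0) k (fd'.l + fd'.n - 1)) i1).sum

/-- the facts about the folding tables -/
structure FoldSpec (fd fd' : FD) (ga : GA) (k : ℕ) (sreps : List ℕ) (jc jp : ℕ → SV) (sm : ℕ → ℕ) : Prop where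
  inv : fd.foldInv fd' jc jp = true
  pos : ∀ i ∈ sreps, fd.foldChk fd' jc (fd.orbS ga k i) (fd'.simples.getD (sm i) 0) = true
  neg : ∀ i ∈ sreps, fd.foldChk fd' jc (fd.orbN ga k i) (fd'.n - 1 - fd'.simples.getD (sm i) 0) = true
  sm_lt : ∀ i ∈ sreps, sm i < fd'.l
  surj : ∀ i' < fd'.l, ∃ i ∈ sreps, sm i = i'
  top : jc (fd'.l + fd'.n - 1) = [(fd.l + fd.n - 1, 1)] ∨ jc (fd'.l + fd'.n - 1) = [(fd.l + fd.n - 1, -1)]
  wit : ∃ a0 < fd'.l, ∃ i1 < fd'.l + fd'.n - 1, fd'.witSum a0 i1 = 1 ∨ fd'.witSum a0 i1 = -1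

namespace Cert12

variable (C : Cert12 D fd fx fc fz) {ga : GA} {k : ℕ} (T : TwSpec fd fx ga k) (T2 : TwSpec2 fd fx ga k)
include C T T2

theorem prod_xA_val (t : F) (L : List ℕ) (hL : ∀ r ∈ L, r < fd.n) :
    (((L.map fun r => C.c6.c2.xA r t).prod : GL D.Idx F) : Matrix D.Idx D.Idx F) =
      (L.map fun r => XR D F r t).prod := by
  induction L with
  | nil => simp
  | cons r L ih =>
    rw [List.map_cons, List.prod_cons, Units.val_mul, ih (fun s hs => hL s (List.mem_cons_of_mem _ hs)),
      C.c6.c2.xA_val, x_eq_XR C.c6.c2.agrees r (hL r List.mem_cons_self), List.map_cons, List.prod_cons]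

/-- the generators of the group of fixed elements are intertwined with root elements of the small group -/
theorem xS_fold (h' : Agrees D' fd') (jc : ℕ → SV) (i : ℕ) (hi : i < fd.l) (t : F) (r' : ℕ) (hr' : r' < fd'.n) :
    (fd.foldChk fd' jc (fd.orbS ga k i) r' = true →
      ((C.xS ga k (RingHom.id F) (fd.simples.getD i 0) t : GL D.Idx F) : Matrix D.Idx D.Idx F) * JF D D' F jc =
        JF D D' F jc * D'.x F r' t) ∧
    (fd.foldChk fd' jc (fd.orbN ga k i) r' = true →
      ((C.xS ga k (RingHom.id F) (fd.n - 1 - fd.simples.getD i 0) t : GL D.Idx F) : Matrix D.Idx D.Idx F) *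
        JF D D' F jc = JF D D' F jc * D'.x F r' t) := by
  have hit : ∀ j : ℕ, (RingHom.id F)^[j] t = t := fun j => Function.iterate_fixed (RingHom.id_apply t) j
  have hlt : ∀ j, fd.simples.getD (rhIt ga j i) 0 < fd.n := fun j => C.c6.c2.simple_lt _ (C.rhIt_lt T T2 j i hi)
  obtain ⟨e1, e2⟩ := C.xS_simple T T2 (RingHom.id F) i hi t
  constructor
  · intro hc
    have e3 : C.xS ga k (RingHom.id F) (fd.simples.getD i 0) t =
        ((fd.orbS ga k i).map fun r => C.c6.c2.xA r t).prod := by
      rw [e1, FD.orbS, List.map_map]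
      congr 1
      apply List.map_congr_left
      intro j _
      simp only [Function.comp, hit]
    have hL : ∀ r ∈ fd.orbS ga k i, r < fd.n := by
      intro r hr
      obtain ⟨j, _, rfl⟩ := List.mem_map.mp hr
      exact hlt j
    rw [e3, C.prod_xA_val T T2 t _ hL, x_eq_XR h' r' hr']
    exact fold_intertwine C.c6.c2.agrees h' jc _ hL r' hr' hc t
  · intro hc
    have e3 : C.xS ga k (RingHom.id F) (fd.n - 1 - fd.simples.getD i 0) t =
        ((fd.orbN ga k i).map fun r => C.c6.c2.xA r t).prod := by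
      rw [e2, FD.orbN, List.map_map]
      congr 1
      apply List.map_congr_left
      intro j _
      simp only [Function.comp, hit]
    have hL : ∀ r ∈ fd.orbN ga k i, r < fd.n := by
      intro r hr
      obtain ⟨j, _, rfl⟩ := List.mem_map.mp hr
      have := hlt j
      omega
    rw [e3, C.prod_xA_val T T2 t _ hL, x_eq_XR h' r' hr']
    exact fold_intertwine C.c6.c2.agrees h' jc _ hL r' hr' hc t

omit T T2 in
/-- the image of an element of the Borel subgroup has zero entries in the last column off the diagonal -/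
theorem fold_borel_entry (h' : Agrees D' fd') (jc jp : ℕ → SV) (hJ : JF D' D F jp * JF D D' F jc = 1)
    (htop : jc (fd'.l + fd'.n - 1) = [(fd.l + fd.n - 1, 1)] ∨ jc (fd'.l + fd'.n - 1) = [(fd.l + fd.n - 1, -1)])
    (b : GL D.Idx F) (hb : b ∈ D.borelSubgroup F) (i₁ top' : D'.Idx)
    (htop' : code D' top' = fd'.l + fd'.n - 1) (hne : i₁ ≠ top') :
    (JF D' D F jp * (b : Matrix D.Idx D.Idx F) * JF D D' F jc) i₁ top' = 0 := by
  have hag := C.c6.c2.agrees
  have hev := C.c6.c2.heven
  have hl := C.c6.c2.hl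
  have hs0 := C.c6.c2.simple_lt 0 hl
  obtain ⟨amax, hamax⟩ := code_surj D (fd.l + fd.n - 1) (by rw [hag.hl, hag.hn]; omega)
  obtain ⟨ε, hε, hjc⟩ : ∃ ε : ℤ, ε * ε = 1 ∧ jc (fd'.l + fd'.n - 1) = [(fd.l + fd.n - 1, ε)] := by
    rcases htop with h | h
    · exact ⟨1, by norm_num, h⟩
    · exact ⟨-1, by norm_num, h⟩
  have hεF : ((ε : ℤ) : F) ≠ 0 := by
    intro h0
    have : ((ε * ε : ℤ) : F) = 1 := by rw [hε]; simp
    rw [Int.cast_mul, h0, zero_mul] at this
    exact zero_ne_one this
  have hJcol : ∀ c : D.Idx, JF D D' F jc c top' = if c = amax then ((ε : ℤ) : F) else 0 := by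
    intro c
    unfold JF
    rw [htop', hjc]
    by_cases hc : c = amax
    · subst hc
      simp [hamax]
    · have : fd.l + fd.n - 1 ≠ code D c := by
        intro h
        apply hc
        apply code_injective D
        rw [hamax, h]
      simp [this, hc]
  have hbcol : ∀ a : D.Idx, a ≠ amax → (b : Matrix D.Idx D.Idx F) a amax = 0 := by
    intro a ha
    by_contra hne0
    have hup := C.borel_isUp b hb a amax hne0
    have h1 : lvD D fd amax = fd.n := by
      unfold lvD FD.lev
      rw [hamax]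
      have e : fd.l + fd.n - 1 - fd.l = fd.n - 1 := by omega
      rw [if_neg (by omega), e, if_neg (by omega)]
      omega
    have h2 := lvD_le hag a
    have h3 : lvD D fd a = fd.n := by omega
    have hca : code D a < fd.l + fd.n := by rw [← hag.hl, ← hag.hn]; exact code_lt D a
    apply ha
    apply code_injective D
    rw [hamax]
    unfold lvD FD.lev at h3
    split_ifs at h3 <;> omega
  have e1 : (JF D' D F jp * JF D D' F jc) i₁ top' = JF D' D F jp i₁ amax * ((ε : ℤ) : F) := by
    rw [Matrix.mul_apply, Finset.sum_eq_single amax]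
    · rw [hJcol, if_pos rfl]
    · intro c _ hc
      rw [hJcol, if_neg hc, mul_zero]
    · intro h; exact absurd (Finset.mem_univ _) h
  rw [hJ, Matrix.one_apply_ne hne] at e1
  have hJp : JF D' D F jp i₁ amax = 0 := by
    rcases mul_eq_zero.mp e1.symm with h | h
    · exact h
    · exact absurd h hεF
  rw [Matrix.mul_apply, Finset.sum_eq_single amax]
  · rw [Matrix.mul_apply, Finset.sum_eq_single amax]
    · rw [hJp, zero_mul, zero_mul]
    · intro a _ ha
      rw [hbcol a ha, mul_zero]
    · intro h; exact absurd (Finset.mem_univ _) h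
  · intro c _ hc
    rw [hJcol, if_neg hc, mul_zero]
  · intro h; exact absurd (Finset.mem_univ _) h

end Cert12

/-- the entry of a root element at `t = 1` -/
theorem x_one_entry (h' : Agrees D' fd') (r' : ℕ) (hr' : r' < fd'.n) (a b : D'.Idx) :
    D'.x F r' 1 a b = (((((List.range 4).map fun k => SV.get (fd'.colA r' k (code D' b)) (code D' a)).sum : ℤ)) : F) := by
  have hcb : code D' b < fd'.l + fd'.n := by rw [← h'.hl, ← h'.hn]; exact code_lt D' b
  rw [x_eq_XR h' r' hr', XR_entry_sum]
  simp only [one_pow, one_mul, Ak, SM.dens_apply, h'.colA_eq r' _ _ hr' hcb]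
  simp [List.range_succ, Finset.sum_range_succ]
  ring

end Cfsg.Agent.Lib.H29.Chev
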