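import Mathlib
import Cfsg.Prelude.Def_ChevStructure
import Cfsg.Agent.Lib.H29.ChevFold3
import Cfsg.Agent.Lib.H29.ChevTw29
import Cfsg.Agent.Lib.H29.ChevTw30

/-!
# Folding: the group of fixed elements of a graph automorphism is the small Chevalley group
-/

set_option autoImplicit false
set_option linter.unusedSectionVars false
set_option linter.unusedSimpArgs false
set_option linter.unusedVariables false

namespace Cfsg.Agent.Lib.H29.Chev

open Cfsg.Lie Matrix

variable {D D' : ChevalleyDatum} {fd fd' : FD} {fx fx' : FX} {fc fc' : FC} {fz fz' : FZ} {F : Type*} [Field F]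

namespace Cert12

variable (C : Cert12 D fd fx fc fz) (C' : Cert12 D' fd' fx' fc' fz') {ga : GA} {k : ℕ}
  (T : TwSpec fd fx ga k) (T2 : TwSpec2 fd fx ga k)
include C C' T T2

/-- the group generated by the fixed elements attached to the orbits is isomorphic to the small Chevalley group -/
theorem fold_iso [Finite F] (hk : k = 2 ∨ k = 3) {RL sreps : List ℕ}
    (S : ChainSpec fd fx ga k RL sreps) {fq : FQ} (hQ : fd.ChkQ fx ga k sreps RL fq) (hdk : 0 < fq.dk)
    (hcov : ∀ i < fd.l, ∃ ii < sreps.length, ∃ j < k, i = rhIt ga j (sreps.getD ii 0))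
    (hO : ∀ c < fd.l, chkOrb ga k sreps c = true) (hI : fd.chkInjS fx ga k sreps = true)
    (hIrr : fd.chkIrrS fx ga k sreps = true) (a0 : ℕ) (hw : fd.chkQW0 fq a0 = true)
    {jc jp : ℕ → SV} {sm : ℕ → ℕ} (FS : FoldSpec fd fd' ga k sreps jc jp sm) :
    Nonempty (↥(Subgroup.closure (C.twGen ga k (RingHom.id F) sreps)) ≃* ↥(D'.group F)) := by
  classical
  have hφk : ∀ x : F, (RingHom.id F)^[k] x = x := fun x => Function.iterate_fixed (RingHom.id_apply x) k
  have hag' := C'.c6.c2.agrees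
  have hJ : JF D' D F jp * JF D D' F jc = 1 := fold_inv C.c6.c2.agrees hag' jc jp FS.inv
  have hsr := S.sreps_lt
  obtain ⟨h1, h2, h3, h4, h5⟩ := C.twGen_spec T T2 (RingHom.id F) hk hφk S hO
  have hK : ∀ (r : ℕ) (t : F), t ∈ Kr fd ga (RingHom.id F) r := fun r t _ => RingHom.id_apply t
  -- the generators
  have hgenP : ∀ i ∈ sreps, ∀ t : F,
      ((C.xS ga k (RingHom.id F) (fd.simples.getD i 0) t : GL D.Idx F) : Matrix D.Idx D.Idx F) * JF D D' F jc =
        JF D D' F jc * D'.x F (fd'.simples.getD (sm i) 0) t := fun i hi t =>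
    (C.xS_fold T T2 hag' jc i (hsr i hi) t _ (C'.c6.c2.simple_lt _ (FS.sm_lt i hi))).1 (FS.pos i hi)
  have hgenN : ∀ i ∈ sreps, ∀ t : F,
      ((C.xS ga k (RingHom.id F) (fd.n - 1 - fd.simples.getD i 0) t : GL D.Idx F) : Matrix D.Idx D.Idx F) *
        JF D D' F jc = JF D D' F jc * D'.x F (fd'.n - 1 - fd'.simples.getD (sm i) 0) t := fun i hi t =>
    (C.xS_fold T T2 hag' jc i (hsr i hi) t _ (by
      have := C'.c6.c2.simple_lt _ (FS.sm_lt i hi); omega)).2 (FS.neg i hi)
  have hle : Subgroup.closure (C.twGen ga k (RingHom.id F) sreps) ≤ foldSub (JF D D' F jc) (JF D' D F jp) hJ := by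
    rw [Subgroup.closure_le]
    rintro g ⟨i, hi, t, ht, rfl | rfl⟩
    · exact (mem_foldSub_of_intertwine _ _ hJ _ _ (hgenP i hi t)).1
    · exact (mem_foldSub_of_intertwine _ _ hJ _ _ (hgenN i hi t)).1
  let f : ↥(Subgroup.closure (C.twGen ga k (RingHom.id F) sreps)) →* GL D'.Idx F :=
    (foldHom (JF D D' F jc) (JF D' D F jp) hJ).comp (Subgroup.inclusion hle)
  have hfval : ∀ g : ↥(Subgroup.closure (C.twGen ga k (RingHom.id F) sreps)),
      ((f g : GL D'.Idx F) : Matrix D'.Idx D'.Idx F) =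
        JF D' D F jp * ((g : GL D.Idx F) : Matrix D.Idx D.Idx F) * JF D D' F jc := fun g => rfl
  have hfP : ∀ i (hi : i ∈ sreps) (t : F), f ⟨C.xS ga k (RingHom.id F) (fd.simples.getD i 0) t,
      Subgroup.subset_closure ⟨i, hi, t, hK _ t, Or.inl rfl⟩⟩ = C'.c6.c2.xA (fd'.simples.getD (sm i) 0) t := by
    intro i hi t
    apply Units.ext
    rw [hfval, C'.c6.c2.xA_val]
    exact (mem_foldSub_of_intertwine _ _ hJ _ _ (hgenP i hi t)).2
  have hfN : ∀ i (hi : i ∈ sreps) (t : F), f ⟨C.xS ga k (RingHom.id F) (fd.n - 1 - fd.simples.getD i 0) t,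
      Subgroup.subset_closure ⟨i, hi, t, hK _ t, Or.inr rfl⟩⟩ =
        C'.c6.c2.xA (fd'.n - 1 - fd'.simples.getD (sm i) 0) t := by
    intro i hi t
    apply Units.ext
    rw [hfval, C'.c6.c2.xA_val]
    exact (mem_foldSub_of_intertwine _ _ hJ _ _ (hgenN i hi t)).2
  -- the range
  have hrange : f.range = D'.group F := by
    apply le_antisymm
    · rintro _ ⟨⟨g, hg⟩, rfl⟩
      induction hg using Subgroup.closure_induction with
      | mem x hx =>
        obtain ⟨i, hi, t, ht, rfl | rfl⟩ := hx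
        · rw [hfP i hi t]; exact C'.c6.c2.xA_mem_group _ _
        · rw [hfN i hi t]; exact C'.c6.c2.xA_mem_group _ _
      | one =>
        have : (⟨1, one_mem _⟩ : ↥(Subgroup.closure (C.twGen ga k (RingHom.id F) sreps))) = 1 := rfl
        rw [this, map_one]; exact one_mem _
      | mul x y hx hy ihx ihy =>
        have : (⟨x * y, mul_mem hx hy⟩ : ↥(Subgroup.closure (C.twGen ga k (RingHom.id F) sreps))) =
            ⟨x, hx⟩ * ⟨y, hy⟩ := rfl
        rw [this, map_mul]; exact mul_mem ihx ihy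
      | inv x hx ih =>
        have : (⟨x⁻¹, inv_mem hx⟩ : ↥(Subgroup.closure (C.twGen ga k (RingHom.id F) sreps))) =
            (⟨x, hx⟩)⁻¹ := rfl
        rw [this, map_inv]; exact inv_mem ih
    · rw [C'.c6.group_eq_closure_SimGen, Subgroup.closure_le]
      rintro m ⟨i', hi', t, hm | hm⟩
      · obtain ⟨i, hi, rfl⟩ := FS.surj i' hi'
        refine ⟨⟨_, Subgroup.subset_closure ⟨i, hi, t, hK _ t, Or.inl rfl⟩⟩, ?_⟩
        rw [hfP i hi t]
        exact (gl_ext (by rw [hm, C'.c6.c2.xA_val])).symm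
      · obtain ⟨i, hi, rfl⟩ := FS.surj i' hi'
        refine ⟨⟨_, Subgroup.subset_closure ⟨i, hi, t, hK _ t, Or.inr rfl⟩⟩, ?_⟩
        rw [hfN i hi t]
        exact (gl_ext (by rw [hm, C'.c6.c2.xA_val])).symm
  -- injectivity
  have hinj : Function.Injective f := by
    rw [← MonoidHom.ker_eq_bot_iff]
    have hirr := C.tw_irreducible T T2 (RingHom.id F) hk hφk S hQ hdk hcov hO hI hIrr
    have hcore := C.tw_borel_core T T2 (RingHom.id F) hk hφk S hQ hO a0 hw
    rcases Cfsg.Agent.Lib.H29.normal_le_B_or_sup_top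
      (C.twBN T T2 (RingHom.id F) hk hφk S hQ hdk hcov hO hI) hirr f.ker with hKB | hKB
    · have hle2 : f.ker ≤ ((D.borelSubgroup F ⊓ Subgroup.closure (C.twGen ga k (RingHom.id F) sreps)).subgroupOf
          (Subgroup.closure (C.twGen ga k (RingHom.id F) sreps))).normalCore :=
        Subgroup.normal_le_normalCore.mpr hKB
      rw [hcore] at hle2
      exact le_bot_iff.mp hle2
    · exfalso
      obtain ⟨a0', ha0', i1, hi1, hs⟩ := FS.wit
      have hl' := C'.c6.c2.hl
      have hsl := C'.c6.c2.simple_lt a0' ha0'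
      obtain ⟨top', htop'⟩ := code_surj D' (fd'.l + fd'.n - 1) (by rw [hag'.hl, hag'.hn]; omega)
      obtain ⟨i₁, hi₁⟩ := code_surj D' i1 (by rw [hag'.hl, hag'.hn]; omega)
      have hne : i₁ ≠ top' := by
        intro h
        rw [h, htop'] at hi₁
        omega
      have hy' : C'.c6.c2.xA (F := F) (fd'.n - 1 - fd'.simples.getD a0' 0) 1 ∈ f.range := by
        rw [hrange]; exact C'.c6.c2.xA_mem_group _ _
      obtain ⟨y, hy⟩ := hy'
      have hyT : y ∈ (C.twBN T T2 (RingHom.id F) hk hφk S hQ hdk hcov hO hI).B ⊔ f.ker := by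
        rw [hKB]; trivial
      obtain ⟨b, hb, κ, hκ, rfl⟩ := Subgroup.mem_sup_of_normal_right.mp hyT
      have hbB : (b : GL D.Idx F) ∈ D.borelSubgroup F :=
        (Subgroup.mem_inf.mp (Subgroup.mem_subgroupOf.mp hb)).1
      rw [map_mul, MonoidHom.mem_ker.mp hκ, mul_one] at hy
      have e1 := C.fold_borel_entry hag' jc jp hJ FS.top _ hbB i₁ top' htop' hne
      rw [← hfval, hy, C'.c6.c2.xA_val, x_one_entry hag' _ (by omega), htop', hi₁] at e1
      have e2 : ((fd'.witSum a0' i1 : ℤ) : F) = 0 := e1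
      rcases hs with hs | hs
      · rw [hs] at e2; simp at e2
      · rw [hs] at e2; simp at e2
  exact ⟨(MonoidHom.ofInjective hinj).trans (MulEquiv.subgroupCongr hrange)⟩

end Cert12

end Cfsg.Agent.Lib.H29.Chev
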