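import Mathlib
import Cfsg.Agent.Lib.H29.ChevFold1
import Cfsg.Agent.Lib.H29.ChevDataD4
import Cfsg.Agent.Lib.H29.ChevDataG2

/-! Folding tables D4 → G2 (generated) -/

set_option autoImplicit false

namespace Cfsg.Agent.Lib.H29.Chev

def jcLD4G2 : List SV :=
  [[(0, 1), (2, 1), (3, 1)],
   [(1, 1)],
   [(4, -1)],
   [(5, -1)],
   [(6, -1), (7, -1), (10, 1)],
   [(8, 1), (11, -1), (12, -1)],
   [(9, 1), (14, 1), (15, 1)],
   [(13, 1)],
   [(18, 1)],
   [(16, 1), (17, 1), (22, 1)],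
   [(19, -1), (20, -1), (23, 1)],
   [(21, 1), (24, -1), (25, -1)],
   [(26, -1)],
   [(27, -1)]]

def jpLD4G2 : List SV :=
  [[(0, 1)],
   [(1, 1)],
   [],
   [],
   [(2, -1)],
   [(3, -1)],
   [(4, -1)],
   [],
   [(5, 1)],
   [(6, 1)],
   [],
   [],
   [],
   [(7, 1)],
   [],
   [],
   [(9, 1)],
   [],
   [(8, 1)],
   [(10, -1)],
   [],
   [(11, 1)],
   [],
   [],
   [],
   [],
   [(12, -1)],
   [(13, -1)]]

def jcD4G2 : ℕ → SV := fun c => jcLD4G2.getD c []

def jpD4G2 : ℕ → SV := fun c => jpLD4G2.getD c []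

set_option maxRecDepth 1000000 in
theorem foldD4G2_inv : fdD4.foldInv fdG2 jcD4G2 jpD4G2 = true := by decide +kernel

set_option maxRecDepth 1000000 in
theorem foldD4G2_p0 : fdD4.foldChk fdG2 jcD4G2 [18, 13, 12] 7 = true := by decide +kernel

set_option maxRecDepth 1000000 in
theorem foldD4G2_m0 : fdD4.foldChk fdG2 jcD4G2 [5, 10, 11] 4 = true := by decide +kernel

set_option maxRecDepth 1000000 in
theorem foldD4G2_p1 : fdD4.foldChk fdG2 jcD4G2 [14] 6 = true := by decide +kernel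

set_option maxRecDepth 1000000 in
theorem foldD4G2_m1 : fdD4.foldChk fdG2 jcD4G2 [9] 5 = true := by decide +kernel

end Cfsg.Agent.Lib.H29.Chev
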