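import Mathlib
import Cfsg.Agent.Lib.H29.ChevTwQ

/-! The representatives of the orbits of roots and the table of the twisted Weyl group, type D4 (generated) -/

set_option autoImplicit false

namespace Cfsg.Agent.Lib.H29.Chev

def rlD4a : List ℕ := [14, 18, 15, 17, 22, 23]

def srD4a : List ℕ := [0, 1]

def fqD4atab (r : ℕ) : ℕ :=
  (bif Nat.blt r 6 then
    (bif Nat.blt r 3 then
      (bif Nat.blt r 1 then
        0x17161514131211100f0e0d0c0b0a09080706050403020100
      else
        (bif Nat.blt r 2 then
          0x170e0f101105131415160a0b0c0d01020304120607080900
        else
          0x161715141213110d0c09100f08070e0b0a06040503020001))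
    else
      (bif Nat.blt r 4 then
        0xe170f100511130a0b0114150203160c0d04061207080009
      else
        (bif Nat.blt r 5 then
          0x16090c0d11041214151707080f100002030513060a0b0e01
        else
          0xe010b0a130605100f17030215140008071211040d0c1609)))
  else
    (bif Nat.blt r 9 then
      (bif Nat.blt r 7 then
        0x9160c0d04111207080014150203170f100506130a0b010e
      else
        (bif Nat.blt r 8 then
          0x10e0b0a061305030200100f08071715141204110d0c0916
        else
          0x90008071206040d0c1603021514010b0a131105100f170e))
    else
      (bif Nat.blt r 10 then
        0x10002030504060a0b0e07080f10090c0d11131214151716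
      else
        (bif Nat.blt r 11 then
          0x908070612040302010d0c0b0a161514130511100f0e17
        else
          0x102030405060708090a0b0c0d0e0f1011121314151617))))

def fqD4a : FQ where
  dk := 12
  tab := fqD4atab
  par := 0x9010000080100000700000006000000050100000401000003000000020000000101000000010000000000000000
  nxt := 0x9000a0008000b000b0007000a00060005000900040008000700030006000200010005000000040003000000020001
  lens := 0xc090b080805070404010300

end Cfsg.Agent.Lib.H29.Chev
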