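import Mathlib
import Cfsg.Prelude.Def_ChevStructure
import Cfsg.Agent.Lib.H29.ChevTw3

/-!
# Boolean checks of the facts about a graph automorphism used for the twisted groups
-/

set_option autoImplicit false
set_option linter.unusedSectionVars false
set_option linter.unusedSimpArgs false
set_option linter.unusedVariables false

namespace Cfsg.Agent.Lib.H29.Chev

open Cfsg.Lie Matrix

variable {fd : FD} {fx : FX}

namespace FD

variable (fd : FD) (fx : FX) (ga : GA) (k : ℕ)

def chkTwA (r : ℕ) : Bool :=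
  Nat.beq (fd.giRoot ga (fd.gRoot ga r)) r &&
  Nat.beq (fd.gRoot ga (fd.n - 1 - r)) (fd.n - 1 - fd.gRoot ga r) &&
  intBeq (fd.gEps ga (fd.n - 1 - r)) (fd.gEps ga r) &&
  (Nat.blt r (fd.n / 2) || !(Nat.blt (fd.gRoot ga r) (fd.n / 2))) &&
  intBeq (fd.ht fx (fd.gRoot ga r)) (fd.ht fx r) &&
  (Nat.blt r (fd.n / 2) || decide (0 < fd.ht fx r)) &&
  Nat.beq (fd.gIt ga k r) r && intBeq (fd.eProd ga r k) 1 &&
  (!(Nat.beq (fd.gRoot ga r) r) || intBeq (fd.gEps ga r) 1)

def chkTwB (r : ℕ) : Bool :=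
  Nat.beq (fd.gRoot ga r) r || (List.range k).all fun i => (List.range k).all fun j =>
    Nat.beq i j || ((fd.commT (fd.gIt ga i r) (fd.gIt ga j r)).isEmpty &&
      !(Nat.beq (fd.gIt ga i r) (fd.gIt ga j r)) && !(Nat.beq (fd.gIt ga i r) (fd.n - 1 - fd.gIt ga j r)))

def ChkTwA : Prop := ∀ r < fd.n, fd.chkTwA fx ga k r = true
def ChkTwB : Prop := ∀ r < fd.n, fd.chkTwB ga k r = true

end FD

theorem twSpec_of_chk {ga : GA} {k : ℕ} (hgi : fd.ChkGInv ga) (hg : fd.ChkGraph ga) (hA : fd.ChkTwA fx ga k)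
    (hB : fd.ChkTwB ga k) : TwSpec fd fx ga k := by
  have key : ∀ r < fd.n, _ := fun r hr => by
    have := hA r hr
    simp only [FD.chkTwA, Bool.and_eq_true, Bool.or_eq_true, natBeq_iff, intBeq_iff, natBlt_iff,
      Bool.not_eq_true', ← Bool.not_eq_true, decide_eq_true_eq] at this
    exact this
  refine ⟨hgi, hg, fun r hr => (key r hr).1.1.1.1.1.1.1.1, fun r hr => ⟨(key r hr).1.1.1.1.1.1.1.2,
    (key r hr).1.1.1.1.1.1.2⟩, ?_, fun r hr => (key r hr).1.1.1.1.2, ?_, fun r hr => ⟨(key r hr).1.1.2, (key r hr).1.2⟩,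
    ?_, ?_⟩
  · intro r hr hpos
    rcases (key r hr).1.1.1.1.1.2 with h | h
    · omega
    · omega
  · intro r hr hpos
    rcases (key r hr).1.1.1.2 with h | h
    · omega
    · exact h
  · intro r hr hfix
    rcases (key r hr).2 with h | h
    · exact absurd hfix h
    · exact h
  · intro r hr hfix i hi j hj hij
    have := hB r hr
    simp only [FD.chkTwB, Bool.or_eq_true, natBeq_iff, List.all_eq_true, List.mem_range, Bool.and_eq_true,
      Bool.not_eq_true', ← Bool.not_eq_true, List.isEmpty_iff] at this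
    rcases this with h | h
    · exact absurd h hfix
    · rcases h i hi j hj with h1 | h1
      · exact absurd h1 hij
      · exact ⟨h1.1.1, h1.1.2, h1.2⟩

end Cfsg.Agent.Lib.H29.Chev
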