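import Mathlib
import Cfsg.Prelude.Def_ChevStructure
import Cfsg.Agent.Lib.H29.ChevTw11
import Cfsg.Agent.Lib.H29.ChevTw10
import Cfsg.Agent.Lib.H29.ChevTwChk

/-!
# Boolean checks of the further facts about a graph automorphism and of the lists of representatives
-/

set_option autoImplicit false
set_option linter.unusedSectionVars false
set_option linter.unusedSimpArgs false
set_option linter.unusedVariables false

namespace Cfsg.Agent.Lib.H29.Chev

open Cfsg.Lie Matrix

variable {D : ChevalleyDatum} {fd : FD} {fx : FX} {fc : FC} {fz : FZ}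

/-- a Boolean relation holds between every element of the list and the later ones -/
def pairB (p : ℕ → ℕ → Bool) : List ℕ → Bool
  | [] => true
  | a :: L => L.all (p a) && pairB p L

theorem pairB_spec (p : ℕ → ℕ → Bool) (L : List ℕ) (h : pairB p L = true) :
    L.Pairwise (fun a b => p a b = true) := by
  induction L with
  | nil => exact List.Pairwise.nil
  | cons a L ih =>
    rw [pairB, Bool.and_eq_true, List.all_eq_true] at h
    exact List.Pairwise.cons h.1 (ih h.2)

namespace FD

variable (fd : FD) (fx : FX) (ga : GA) (k : ℕ)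

def chkTw2 (i : ℕ) : Bool :=
  Nat.beq (rhIt ga k i) i &&
  (Nat.beq (ga.rh.getD i 0) i || (List.range k).all fun a => (List.range k).all fun b =>
    Nat.beq a b ||
      ((fd.commT (fd.simples.getD (rhIt ga a i) 0) (fd.n - 1 - fd.simples.getD (rhIt ga b i) 0)).isEmpty &&
       Nat.beq (fd.sw fx (rhIt ga a i) (fd.simples.getD (rhIt ga b i) 0)) (fd.simples.getD (rhIt ga b i) 0))) &&
  (List.range fd.n).all (fun s => intBeq (fd.carZ (ga.rh.getD i 0) (fd.gRoot ga s)) (fd.carZ i s)) &&
  (List.range fd.n).all (fun s => Nat.beq (fd.wordP fx (orbW ga k i) (fd.wordP fx (orbW ga k i) s)) s)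

def ChkTw2 : Prop := ∀ i < fd.l, fd.chkTw2 fx ga k i = true

def chkChainA (RL sreps : List ℕ) : Bool :=
  RL.all (fun r => Nat.ble (fd.n / 2) r && Nat.blt r fd.n) &&
  pairB (fun a b => decide (fd.ht fx a ≤ fd.ht fx b)) RL &&
  pairB (fun a b => (List.range k).all fun j => !(Nat.beq a (fd.gIt ga j b))) RL &&
  sreps.all (fun i => Nat.blt i fd.l)

def chkCover (RL : List ℕ) (s : ℕ) : Bool :=
  RL.any fun r => (List.range k).any fun j => Nat.beq s (fd.gIt ga j r)

def chkChain (RL sreps : List ℕ) (a : ℕ) : Bool :=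
  sreps.any fun i => Nat.beq (RL.getD a 0) (fd.simples.getD i 0) ||
    (List.range a).any fun a' => (List.range k).all fun j => (List.range k).any fun j' =>
      Nat.beq (fd.wordP fx (orbW ga k i) (fd.gIt ga j (RL.getD a 0))) (fd.gIt ga j' (RL.getD a' 0))

end FD

def chkSCover (ga : GA) (k : ℕ) (sreps : List ℕ) (i : ℕ) : Bool :=
  (List.range sreps.length).any fun ii => (List.range k).any fun j => Nat.beq i (rhIt ga j (sreps.getD ii 0))

theorem twSpec2_of_chk {ga : GA} {k : ℕ} (hs : fd.chkGSimple ga = true) (h : fd.ChkTw2 fx ga k) :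
    TwSpec2 fd fx ga k := by
  have key : ∀ i < fd.l, _ := fun i hi => by
    have := h i hi
    simp only [FD.chkTw2, Bool.and_eq_true, Bool.or_eq_true, natBeq_iff, intBeq_iff, List.all_eq_true,
      List.mem_range, List.isEmpty_iff] at this
    exact this
  refine ⟨hs, fun i hi => (key i hi).1.1.1, ?_, ?_, fun i hi => (key i hi).1.2, fun i hi => (key i hi).2⟩
  · intro i hi hne a ha b hb hab
    rcases (key i hi).1.1.2 with h1 | h1
    · exact absurd h1 hne
    · rcases h1 a ha b hb with h2 | h2
      · exact absurd h2 hab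
      · exact h2.1
  · intro i hi hne a ha b hb hab
    rcases (key i hi).1.1.2 with h1 | h1
    · exact absurd h1 hne
    · rcases h1 a ha b hb with h2 | h2
      · exact absurd h2 hab
      · exact h2.2

theorem chainSpec_of_chk (hl : fd.ChkLinC fx) {ga : GA} {k : ℕ} {RL sreps : List ℕ}
    (hA : fd.chkChainA fx ga k RL sreps = true)
    (hC : ∀ s, fd.n / 2 ≤ s → s < fd.n → fd.chkCover ga k RL s = true)
    (hCh : ∀ a < RL.length, fd.chkChain fx ga k RL sreps a = true) : ChainSpec fd fx ga k RL sreps := by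
  simp only [FD.chkChainA, Bool.and_eq_true, List.all_eq_true, natBlt_iff, Nat.ble_eq] at hA
  obtain ⟨⟨⟨h1, h2⟩, h3⟩, h4⟩ := hA
  have hcov : ∀ s, fd.n / 2 ≤ s → s < fd.n → PsiL fd ga k RL s := by
    intro s hs1 hs2
    have := hC s hs1 hs2
    simp only [FD.chkCover, List.any_eq_true, List.mem_range, natBeq_iff] at this
    obtain ⟨r, hr, j, hj, e⟩ := this
    exact ⟨r, hr, j, hj, e⟩
  refine ⟨⟨fun r hr => h1 r hr, ?_, ?_, ?_⟩, hcov, h4, ?_⟩
  · have := pairB_spec _ _ h2
    simpa only [decide_eq_true_eq] using this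
  · have := pairB_spec _ _ h3
    refine this.imp ?_
    intro a b hab j hj
    simp only [List.all_eq_true, List.mem_range, Bool.not_eq_true', ← Bool.not_eq_true, natBeq_iff] at hab
    exact hab j hj
  · intro s s' hs hs' hps hps' hne _ _ c hc
    obtain ⟨hc1, _, hc3⟩ := fd.linc_spec hl s s' hs hs' c hc
    have := hc3 hps hps' hne
    exact hcov c.1 (by omega) hc1
  · intro a ha
    have := hCh a ha
    simp only [FD.chkChain, List.any_eq_true, Bool.or_eq_true, natBeq_iff, List.mem_range, List.all_eq_true] at this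
    obtain ⟨i, hi, h5 | ⟨a', ha', h5⟩⟩ := this
    · exact Or.inl ⟨i, hi, h5⟩
    · refine Or.inr ⟨i, hi, a', ha', fun j hj => ?_⟩
      obtain ⟨j', hj', e⟩ := h5 j hj
      exact ⟨j', hj', e⟩

theorem scover_of_chk {ga : GA} {k : ℕ} {sreps : List ℕ} (h : ∀ i < fd.l, chkSCover ga k sreps i = true) :
    ∀ i < fd.l, ∃ ii < sreps.length, ∃ j < k, i = rhIt ga j (sreps.getD ii 0) := by
  intro i hi
  have := h i hi
  simp only [chkSCover, List.any_eq_true, List.mem_range, natBeq_iff] at this
  obtain ⟨ii, hii, j, hj, e⟩ := this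
  exact ⟨ii, hii, j, hj, e⟩

end Cfsg.Agent.Lib.H29.Chev
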