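import Mathlib
import Cfsg.Agent.Lib.H29.ChevDataD4
import Cfsg.Agent.Lib.H29.ChevDataXD4
import Cfsg.Agent.Lib.H29.ChevGAD4a
import Cfsg.Agent.Lib.H29.ChevChkLinCD4
import Cfsg.Agent.Lib.H29.ChevDataQD4a
import Cfsg.Agent.Lib.H29.ChevTwChk2
import Cfsg.Agent.Lib.H29.ChevGen1

/-! The checks for the twisted group of type D4 (generated) -/

set_option autoImplicit false

namespace Cfsg.Agent.Lib.H29.Chev

set_option maxRecDepth 1000000 in
set_option maxHeartbeats 0 in
theorem twD4a_A : allR 0 24 (fdD4.chkTwA fxD4 gaD4a 3) = true := by decide +kernel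

set_option maxRecDepth 1000000 in
set_option maxHeartbeats 0 in
theorem twD4a_B : allR 0 24 (fdD4.chkTwB gaD4a 3) = true := by decide +kernel

theorem twD4a_spec : TwSpec fdD4 fxD4 gaD4a 3 :=
  twSpec_of_chk gaD4a_ChkGInv gaD4a_ChkGraph (fun r hr => allR_spec twD4a_A r (Nat.zero_le r) hr)
    (fun r hr => allR_spec twD4a_B r (Nat.zero_le r) hr)

set_option maxRecDepth 1000000 in
set_option maxHeartbeats 0 in
theorem twD4a_2 : allR 0 4 (fdD4.chkTw2 fxD4 gaD4a 3) = true := by decide +kernel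

theorem twD4a_spec2 : TwSpec2 fdD4 fxD4 gaD4a 3 :=
  twSpec2_of_chk gaD4a_simple (fun i hi => allR_spec twD4a_2 i (Nat.zero_le i) hi)

set_option maxRecDepth 1000000 in
set_option maxHeartbeats 0 in
theorem twD4a_chA : fdD4.chkChainA fxD4 gaD4a 3 rlD4a srD4a = true := by decide +kernel

set_option maxRecDepth 1000000 in
set_option maxHeartbeats 0 in
theorem twD4a_cov : allR 12 24 (fdD4.chkCover gaD4a 3 rlD4a) = true := by decide +kernel

set_option maxRecDepth 1000000 in
set_option maxHeartbeats 0 in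
theorem twD4a_ch : allR 0 6 (fdD4.chkChain fxD4 gaD4a 3 rlD4a srD4a) = true := by decide +kernel

theorem twD4a_chain : ChainSpec fdD4 fxD4 gaD4a 3 rlD4a srD4a :=
  chainSpec_of_chk fdD4_ChkLinC twD4a_chA (fun s h1 h2 => allR_spec twD4a_cov s h1 h2)
    (fun a ha => allR_spec twD4a_ch a (Nat.zero_le a) ha)

set_option maxRecDepth 1000000 in
set_option maxHeartbeats 0 in
theorem twD4a_sc : allR 0 4 (chkSCover gaD4a 3 srD4a) = true := by decide +kernel

theorem twD4a_scover : ∀ i < fdD4.l, ∃ ii < srD4a.length, ∃ j < 3, i = rhIt gaD4a j (srD4a.getD ii 0) :=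
  scover_of_chk (fun i hi => allR_spec twD4a_sc i (Nat.zero_le i) hi)

set_option maxRecDepth 1000000 in
set_option maxHeartbeats 0 in
theorem twD4a_Q0 : allR 0 12 (fdD4.chkQA fxD4 gaD4a 3 srD4a rlD4a fqD4a) = true := by decide +kernel

theorem twD4a_ChkQ : fdD4.ChkQ fxD4 gaD4a 3 srD4a rlD4a fqD4a := by
  intro r hr
  have hr' : r < 12 := hr
  exact allR_spec twD4a_Q0 r (by omega) hr'

end Cfsg.Agent.Lib.H29.Chev
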