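import Mathlib

/-!
# The endomorphism `x ↦ x ^ q` of a finite field with `q ^ k` elements
-/

set_option autoImplicit false

namespace Cfsg.Agent.Lib.H29.Chev

theorem exists_frob {K : Type*} [Field K] [Fintype K] {q k : ℕ} (hq : IsPrimePow q)
    (hK : Fintype.card K = q ^ k) :
    ∃ φ : K →+* K, (∀ x, φ x = x ^ q) ∧ (∀ j x, φ^[j] x = x ^ q ^ j) ∧ ∀ x, φ^[k] x = x := by
  obtain ⟨p, a, hp, ha, rfl⟩ := hq
  have hp' : p.Prime := Nat.prime_iff.mpr hp
  have hk : k ≠ 0 := by
    rintro rfl
    rw [pow_zero] at hK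
    have := Fintype.one_lt_card (α := K)
    omega
  obtain ⟨n, hc, hn⟩ := FiniteField.card K (ringChar K)
  have hpc : ringChar K = p := by
    have h1 : ringChar K ∣ (p ^ a) ^ k := by
      rw [← hK, hn]
      exact dvd_pow_self _ n.ne_zero
    have h2 := hc.dvd_of_dvd_pow (hc.dvd_of_dvd_pow h1)
    exact (Nat.prime_dvd_prime_iff_eq hc hp').mp h2
  have : CharP K p := by
    rw [← hpc]
    exact ringChar.charP K
  have : Fact p.Prime := ⟨hp'⟩
  have h1 : ∀ x, iterateFrobenius K p a x = x ^ p ^ a := fun x => iterateFrobenius_def p a x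
  have h2 : ∀ j x, (iterateFrobenius K p a)^[j] x = x ^ (p ^ a) ^ j := by
    intro j
    induction j with
    | zero => intro x; simp
    | succ j ih =>
      intro x
      rw [Function.iterate_succ_apply', ih, h1, ← pow_mul, pow_succ]
  refine ⟨iterateFrobenius K p a, h1, h2, ?_⟩
  intro x
  rw [h2, ← hK, FiniteField.pow_card]

end Cfsg.Agent.Lib.H29.Chev
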