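import Mathlib
import Cfsg.Prelude.Def_LieTwisted
import Cfsg.Agent.Lib.H29.ChevCert13
import Cfsg.Agent.Lib.H29.ChevChkQD4a
import Cfsg.Agent.Lib.H29.ChevTw22
import Cfsg.Agent.Lib.H29.ChevTw23
import Cfsg.Agent.Lib.H29.ChevTwF

/-!
# The twisted group of type `D₄`: the generators
-/

set_option autoImplicit false
set_option linter.unusedSectionVars false
set_option linter.unusedSimpArgs false
set_option linter.unusedVariables false

namespace Cfsg.Agent.Lib.H29.Chev

open Cfsg.Lie Matrix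

theorem twD4a_O : ∀ c < fdD4.l, chkOrb gaD4a 3 srD4a c = true := by decide

def blD4 : List (List ℤ) := [[2, 2, 1, 1], [2, 4, 2, 2], [1, 2, 2, 1], [1, 2, 1, 2]]

set_option maxRecDepth 1000000 in
theorem twD4a_cartB : fdD4.ChkCartB blD4 2 := by decide +kernel

set_option maxRecDepth 1000000 in
theorem twD4a_os : (rlD4a.map fun r => fdD4.os gaD4a 3 r).sum = 12 := by decide +kernel

set_option maxRecDepth 1000000 in
theorem twD4a_poly : histoN (FD.qLen fqD4a) fqD4a.dk = mulN (mulN [1, 1] [1, 0, 0, 1]) [1, 0, 0, 0, 1, 0, 0, 0, 1] := by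
  decide +kernel

variable {K : Type*} [Field K]

/-- the generators of the twisted group are those of the definition -/
theorem twGen_D4 (q : ℕ) (φ : K →+* K) (hφ : ∀ x, φ x = x ^ q) :
    {g : GL chevD4.Idx K | ∃ w ∈ d4Words K q, (g : Matrix chevD4.Idx chevD4.Idx K) = chevD4.wordMat K w} =
      cert12_D4.twGen gaD4a 3 φ srD4a := by
  have C := cert12_D4
  have T := twD4a_spec
  have T2 := twD4a_spec2
  have hφ2 : ∀ x : K, φ^[2] x = x ^ q ^ 2 := by
    intro x
    rw [Function.iterate_succ_apply', Function.iterate_one, hφ, hφ, ← pow_mul, pow_two]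
  have hx0 := fun t : K => cert12_D4.xS_simple T T2 φ 0 (by decide) t
  have hx1 := fun t : K => cert12_D4.xS_simple T T2 φ 1 (by decide) t
  have e0 : (if gaD4a.rh.getD 0 0 = 0 then 1 else 3) = 3 := rfl
  have e1 : (if gaD4a.rh.getD 1 0 = 1 then 1 else 3) = 1 := rfl
  have s00 : fdD4.simples.getD (rhIt gaD4a 0 0) 0 = 18 := rfl
  have s01 : fdD4.simples.getD (rhIt gaD4a 1 0) 0 = 13 := rfl
  have s02 : fdD4.simples.getD (rhIt gaD4a 2 0) 0 = 12 := rfl
  have s10 : fdD4.simples.getD (rhIt gaD4a 0 1) 0 = 14 := rfl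
  have s0 : fdD4.simples.getD 0 0 = 18 := rfl
  have s1 : fdD4.simples.getD 1 0 = 14 := rfl
  have hn : fdD4.n = 24 := rfl
  have hg14 : fdD4.gRoot gaD4a 14 = 14 := by decide
  have hg18 : fdD4.gRoot gaD4a 18 ≠ 18 := by decide
  simp only [e0, e1, List.range_succ, List.range_zero, List.nil_append, List.cons_append, List.map_cons, List.map_nil,
    List.prod_cons, List.prod_nil, mul_one, s00, s01, s02, s10, Function.iterate_zero, id, Function.iterate_one,
    hφ2, hφ, s0, s1, hn] at hx0 hx1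
  norm_num at hx0 hx1
  ext g
  simp only [Set.mem_ofPred_eq, Cert12.twGen, d4Words, Set.mem_union]
  have hsr : srD4a = [0, 1] := rfl
  have hw1 : ∀ (r : ℕ) (t : K), chevD4.wordMat K [(r, t)] = chevD4.x K r t := by
    intro r t
    simp [ChevalleyDatum.wordMat]
  have hw3 : ∀ (r1 r2 r3 : ℕ) (t1 t2 t3 : K), chevD4.wordMat K [(r1, t1), (r2, t2), (r3, t3)] =
      chevD4.x K r1 t1 * (chevD4.x K r2 t2 * chevD4.x K r3 t3) := by
    intro r1 r2 r3 t1 t2 t3
    simp [ChevalleyDatum.wordMat]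
  constructor
  · rintro ⟨w, (⟨t, ht, r, hr, rfl⟩ | ⟨t, rs, hrs, rfl⟩), hg⟩
    · have hK : t ∈ Kr fdD4 gaD4a φ (fdD4.simples.getD 1 0) := fun _ => by rw [hφ]; exact ht
      simp only [List.mem_cons, List.not_mem_nil, or_false, d4p2, d4m2] at hr
      refine ⟨1, by rw [hsr]; simp, t, hK, ?_⟩
      rw [s1, hn, (hx1 t).1]
      have e9 : 24 - 1 - 14 = 9 := rfl
      rw [e9, (hx1 t).2]
      rcases hr with rfl | rfl
      · left
        apply gl_ext
        rw [hg, hw1, cert12_D4.c6.c2.xA_val]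
      · right
        apply gl_ext
        rw [hg, hw1, cert12_D4.c6.c2.xA_val]
    · have hK : t ∈ Kr fdD4 gaD4a φ (fdD4.simples.getD 0 0) := fun h => by
        rw [s0] at h
        exact absurd h hg18
      simp only [List.mem_cons, List.not_mem_nil, or_false, d4p1, d4p3, d4p4, d4m1, d4m3, d4m4] at hrs
      refine ⟨0, by rw [hsr]; simp, t, hK, ?_⟩
      rw [s0, hn, (hx0 t).1]
      have e5 : 24 - 1 - 18 = 5 := rfl
      rw [e5, (hx0 t).2]
      rcases hrs with rfl | rfl
      · left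
        apply gl_ext
        rw [hg, hw3]
        simp only [Units.val_mul, cert12_D4.c6.c2.xA_val]
      · right
        apply gl_ext
        rw [hg, hw3]
        simp only [Units.val_mul, cert12_D4.c6.c2.xA_val]
  · rintro ⟨i, hi, t, ht, hg⟩
    rw [hsr] at hi
    simp only [List.mem_cons, List.not_mem_nil, or_false] at hi
    rcases hi with rfl | rfl
    · rw [s0, hn, (hx0 t).1] at hg
      have e5 : 24 - 1 - 18 = 5 := rfl
      rw [e5, (hx0 t).2] at hg
      rcases hg with rfl | rfl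
      · refine ⟨[(18, t), (13, t ^ q), (12, t ^ q ^ 2)], Or.inr ⟨t, (d4p1, d4p3, d4p4), by simp, rfl⟩, ?_⟩
        rw [hw3]
        simp only [Units.val_mul, cert12_D4.c6.c2.xA_val]
      · refine ⟨[(5, t), (10, t ^ q), (11, t ^ q ^ 2)], Or.inr ⟨t, (d4m1, d4m3, d4m4), by simp, rfl⟩, ?_⟩
        rw [hw3]
        simp only [Units.val_mul, cert12_D4.c6.c2.xA_val]
    · have ht' : t ^ q = t := by
        rw [← hφ]
        exact ht (by rw [s1]; exact hg14)
      rw [s1, hn, (hx1 t).1] at hg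
      have e9 : 24 - 1 - 14 = 9 := rfl
      rw [e9, (hx1 t).2] at hg
      rcases hg with rfl | rfl
      · refine ⟨[(14, t)], Or.inl ⟨t, ht', d4p2, by simp, rfl⟩, ?_⟩
        rw [hw1, cert12_D4.c6.c2.xA_val]
      · refine ⟨[(9, t)], Or.inl ⟨t, ht', d4m2, by simp, rfl⟩, ?_⟩
        rw [hw1, cert12_D4.c6.c2.xA_val]

end Cfsg.Agent.Lib.H29.Chev
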