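import Mathlib
import Cfsg.Agent.Lib.H29.ChevFast3
import Cfsg.Agent.Lib.H29.ChevDataE6
import Cfsg.Agent.Lib.H29.ChevGen1

/-! Packed tables of a graph automorphism of the Chevalley datum of type E6 (generated) -/

set_option autoImplicit false

namespace Cfsg.Agent.Lib.H29.Chev

def gaE6a : GA where
  rh := [5, 1, 4, 3, 2, 0]
  rhi := [5, 1, 4, 3, 2, 0]
  pt := 0x470046004500420137004400410136003f01340131003c012d002901260024014301400035013e00330030013d0032002f002e013b002c01280025003a012b00270139002a0038000f001d010e0020011c000d0022011f001b010c001900180015010a00170014010900120107010400230121001e011a000b01160113000801110006000301100005000200010000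
  pti := 0x470046004500420137004400410136003f01340131003c012d002901260024014301400035013e00330030013d0032002f002e013b002c01280025003a012b00270139002a0038000f001d010e0020011c000d0022011f001b010c001900180015010a00170014010900120107010400230121001e011a000b01160113000801110006000301100005000200010000

set_option maxRecDepth 1000000 in
set_option maxHeartbeats 0 in
theorem gaE6a_inv_all : allR 0 78 (fdE6.chkGInvC gaE6a) = true := by decide +kernel

theorem gaE6a_ChkGInv : fdE6.ChkGInv gaE6a := fun c hc => allR_spec gaE6a_inv_all c (Nat.zero_le c) hc

set_option maxRecDepth 1000000 in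
set_option maxHeartbeats 0 in
theorem gaE6a_graph_all : allR 0 72 (fdE6.chkGraphR gaE6a) = true := by decide +kernel

theorem gaE6a_ChkGraph : fdE6.ChkGraph gaE6a := fun r hr => allR_spec gaE6a_graph_all r (Nat.zero_le r) hr

set_option maxRecDepth 1000000 in
set_option maxHeartbeats 0 in
theorem gaE6a_simple : fdE6.chkGSimple gaE6a = true := by decide +kernel

end Cfsg.Agent.Lib.H29.Chev
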