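import Mathlib
import Cfsg.Agent.Lib.H29.ChevDataE6
import Cfsg.Agent.Lib.H29.ChevDataXE6
import Cfsg.Agent.Lib.H29.ChevGAE6a
import Cfsg.Agent.Lib.H29.ChevChkLinCE6
import Cfsg.Agent.Lib.H29.ChevDataQE6a
import Cfsg.Agent.Lib.H29.ChevTwChk2
import Cfsg.Agent.Lib.H29.ChevGen1

/-! The checks for the twisted group of type E6 (generated) -/

set_option autoImplicit false

namespace Cfsg.Agent.Lib.H29.Chev

set_option maxRecDepth 1000000 in
set_option maxHeartbeats 0 in
theorem twE6a_A : allR 0 72 (fdE6.chkTwA fxE6 gaE6a 2) = true := by decide +kernel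

set_option maxRecDepth 1000000 in
set_option maxHeartbeats 0 in
theorem twE6a_B : allR 0 72 (fdE6.chkTwB gaE6a 2) = true := by decide +kernel

theorem twE6a_spec : TwSpec fdE6 fxE6 gaE6a 2 :=
  twSpec_of_chk gaE6a_ChkGInv gaE6a_ChkGraph (fun r hr => allR_spec twE6a_A r (Nat.zero_le r) hr)
    (fun r hr => allR_spec twE6a_B r (Nat.zero_le r) hr)

set_option maxRecDepth 1000000 in
set_option maxHeartbeats 0 in
theorem twE6a_2 : allR 0 6 (fdE6.chkTw2 fxE6 gaE6a 2) = true := by decide +kernel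

theorem twE6a_spec2 : TwSpec2 fdE6 fxE6 gaE6a 2 :=
  twSpec2_of_chk gaE6a_simple (fun i hi => allR_spec twE6a_2 i (Nat.zero_le i) hi)

set_option maxRecDepth 1000000 in
set_option maxHeartbeats 0 in
theorem twE6a_chA : fdE6.chkChainA fxE6 gaE6a 2 rlE6a srE6a = true := by decide +kernel

set_option maxRecDepth 1000000 in
set_option maxHeartbeats 0 in
theorem twE6a_cov : allR 36 72 (fdE6.chkCover gaE6a 2 rlE6a) = true := by decide +kernel

set_option maxRecDepth 1000000 in
set_option maxHeartbeats 0 in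
theorem twE6a_ch : allR 0 24 (fdE6.chkChain fxE6 gaE6a 2 rlE6a srE6a) = true := by decide +kernel

theorem twE6a_chain : ChainSpec fdE6 fxE6 gaE6a 2 rlE6a srE6a :=
  chainSpec_of_chk fdE6_ChkLinC twE6a_chA (fun s h1 h2 => allR_spec twE6a_cov s h1 h2)
    (fun a ha => allR_spec twE6a_ch a (Nat.zero_le a) ha)

set_option maxRecDepth 1000000 in
set_option maxHeartbeats 0 in
theorem twE6a_sc : allR 0 6 (chkSCover gaE6a 2 srE6a) = true := by decide +kernel

theorem twE6a_scover : ∀ i < fdE6.l, ∃ ii < srE6a.length, ∃ j < 2, i = rhIt gaE6a j (srE6a.getD ii 0) :=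
  scover_of_chk (fun i hi => allR_spec twE6a_sc i (Nat.zero_le i) hi)

set_option maxRecDepth 1000000 in
set_option maxHeartbeats 0 in
theorem twE6a_Q0 : allR 0 96 (fdE6.chkQA fxE6 gaE6a 2 srE6a rlE6a fqE6a) = true := by decide +kernel

set_option maxRecDepth 1000000 in
set_option maxHeartbeats 0 in
theorem twE6a_Q1 : allR 96 192 (fdE6.chkQA fxE6 gaE6a 2 srE6a rlE6a fqE6a) = true := by decide +kernel

set_option maxRecDepth 1000000 in
set_option maxHeartbeats 0 in
theorem twE6a_Q2 : allR 192 288 (fdE6.chkQA fxE6 gaE6a 2 srE6a rlE6a fqE6a) = true := by decide +kernel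

set_option maxRecDepth 1000000 in
set_option maxHeartbeats 0 in
theorem twE6a_Q3 : allR 288 384 (fdE6.chkQA fxE6 gaE6a 2 srE6a rlE6a fqE6a) = true := by decide +kernel

set_option maxRecDepth 1000000 in
set_option maxHeartbeats 0 in
theorem twE6a_Q4 : allR 384 480 (fdE6.chkQA fxE6 gaE6a 2 srE6a rlE6a fqE6a) = true := by decide +kernel

set_option maxRecDepth 1000000 in
set_option maxHeartbeats 0 in
theorem twE6a_Q5 : allR 480 576 (fdE6.chkQA fxE6 gaE6a 2 srE6a rlE6a fqE6a) = true := by decide +kernel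

set_option maxRecDepth 1000000 in
set_option maxHeartbeats 0 in
theorem twE6a_Q6 : allR 576 672 (fdE6.chkQA fxE6 gaE6a 2 srE6a rlE6a fqE6a) = true := by decide +kernel

set_option maxRecDepth 1000000 in
set_option maxHeartbeats 0 in
theorem twE6a_Q7 : allR 672 768 (fdE6.chkQA fxE6 gaE6a 2 srE6a rlE6a fqE6a) = true := by decide +kernel

set_option maxRecDepth 1000000 in
set_option maxHeartbeats 0 in
theorem twE6a_Q8 : allR 768 864 (fdE6.chkQA fxE6 gaE6a 2 srE6a rlE6a fqE6a) = true := by decide +kernel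

set_option maxRecDepth 1000000 in
set_option maxHeartbeats 0 in
theorem twE6a_Q9 : allR 864 960 (fdE6.chkQA fxE6 gaE6a 2 srE6a rlE6a fqE6a) = true := by decide +kernel

set_option maxRecDepth 1000000 in
set_option maxHeartbeats 0 in
theorem twE6a_Q10 : allR 960 1056 (fdE6.chkQA fxE6 gaE6a 2 srE6a rlE6a fqE6a) = true := by decide +kernel

set_option maxRecDepth 1000000 in
set_option maxHeartbeats 0 in
theorem twE6a_Q11 : allR 1056 1152 (fdE6.chkQA fxE6 gaE6a 2 srE6a rlE6a fqE6a) = true := by decide +kernel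

theorem twE6a_ChkQ : fdE6.ChkQ fxE6 gaE6a 2 srE6a rlE6a fqE6a := by
  intro r hr
  have hr' : r < 1152 := hr
  by_cases h96 : r < 96
  · exact allR_spec twE6a_Q0 r (by omega) h96
  by_cases h192 : r < 192
  · exact allR_spec twE6a_Q1 r (by omega) h192
  by_cases h288 : r < 288
  · exact allR_spec twE6a_Q2 r (by omega) h288
  by_cases h384 : r < 384
  · exact allR_spec twE6a_Q3 r (by omega) h384
  by_cases h480 : r < 480
  · exact allR_spec twE6a_Q4 r (by omega) h480
  by_cases h576 : r < 576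
  · exact allR_spec twE6a_Q5 r (by omega) h576
  by_cases h672 : r < 672
  · exact allR_spec twE6a_Q6 r (by omega) h672
  by_cases h768 : r < 768
  · exact allR_spec twE6a_Q7 r (by omega) h768
  by_cases h864 : r < 864
  · exact allR_spec twE6a_Q8 r (by omega) h864
  by_cases h960 : r < 960
  · exact allR_spec twE6a_Q9 r (by omega) h960
  by_cases h1056 : r < 1056
  · exact allR_spec twE6a_Q10 r (by omega) h1056
  exact allR_spec twE6a_Q11 r (by omega) hr'

end Cfsg.Agent.Lib.H29.Chev
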