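import Mathlib
import Cfsg.Prelude.Def_LieTwisted
import Cfsg.Agent.Lib.H29.ChevCert13
import Cfsg.Agent.Lib.H29.ChevChkQE6a
import Cfsg.Agent.Lib.H29.ChevTw22
import Cfsg.Agent.Lib.H29.ChevTw23
import Cfsg.Agent.Lib.H29.ChevTwF

/-!
# The twisted group of type `E₆`: the generators
-/

set_option autoImplicit false
set_option linter.unusedSectionVars false
set_option linter.unusedSimpArgs false
set_option linter.unusedVariables false

namespace Cfsg.Agent.Lib.H29.Chev

open Cfsg.Lie Matrix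

theorem twE6a_O : ∀ c < fdE6.l, chkOrb gaE6a 2 srE6a c = true := by decide

def blE6 : List (List ℤ) :=
  [[4, 3, 5, 6, 4, 2], [3, 6, 6, 9, 6, 3], [5, 6, 10, 12, 8, 4], [6, 9, 12, 18, 12, 6], [4, 6, 8, 12, 10, 5],
    [2, 3, 4, 6, 5, 4]]

set_option maxRecDepth 1000000 in
theorem twE6a_cartB : fdE6.ChkCartB blE6 3 := by decide +kernel

set_option maxRecDepth 1000000 in
theorem twE6a_os : (rlE6a.map fun r => fdE6.os gaE6a 2 r).sum = 36 := by decide +kernel

set_option maxRecDepth 1000000 in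
set_option maxHeartbeats 0 in
theorem twE6a_poly : histoN (FD.qLen fqE6a) fqE6a.dk =
    mulN (mulN (mulN (mulN [1, 0, 0, 0, 0, 1] [1, 0, 0, 0, 0, 0, 0, 0, 0, 1]) (onesN 6)) (onesN 12))
      [1, 0, 1, 0, 1, 0, 1] := by
  decide +kernel

variable {K : Type*} [Field K]

/-- the generators of the twisted group are those of the definition -/
theorem twGen_E6 (q : ℕ) (φ : K →+* K) (hφ : ∀ x, φ x = x ^ q) :
    {g : GL chevE6.Idx K | ∃ w ∈ e6Words K q, (g : Matrix chevE6.Idx chevE6.Idx K) = chevE6.wordMat K w} =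
      cert12_E6.twGen gaE6a 2 φ srE6a := by
  have C := cert12_E6
  have T := twE6a_spec
  have T2 := twE6a_spec2
  have hx0 := fun t : K => cert12_E6.xS_simple T T2 φ 0 (by decide) t
  have hx1 := fun t : K => cert12_E6.xS_simple T T2 φ 1 (by decide) t
  have hx2 := fun t : K => cert12_E6.xS_simple T T2 φ 2 (by decide) t
  have hx3 := fun t : K => cert12_E6.xS_simple T T2 φ 3 (by decide) t
  have e0 : (if gaE6a.rh.getD 0 0 = 0 then 1 else 2) = 2 := rfl
  have e1 : (if gaE6a.rh.getD 1 0 = 1 then 1 else 2) = 1 := rfl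
  have e2 : (if gaE6a.rh.getD 2 0 = 2 then 1 else 2) = 2 := rfl
  have e3 : (if gaE6a.rh.getD 3 0 = 3 then 1 else 2) = 1 := rfl
  have s00 : fdE6.simples.getD (rhIt gaE6a 0 0) 0 = 56 := rfl
  have s01 : fdE6.simples.getD (rhIt gaE6a 1 0) 0 = 36 := rfl
  have s10 : fdE6.simples.getD (rhIt gaE6a 0 1) 0 = 46 := rfl
  have s20 : fdE6.simples.getD (rhIt gaE6a 0 2) 0 = 42 := rfl
  have s21 : fdE6.simples.getD (rhIt gaE6a 1 2) 0 = 37 := rfl
  have s30 : fdE6.simples.getD (rhIt gaE6a 0 3) 0 = 39 := rfl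
  have s0 : fdE6.simples.getD 0 0 = 56 := rfl
  have s1 : fdE6.simples.getD 1 0 = 46 := rfl
  have s2 : fdE6.simples.getD 2 0 = 42 := rfl
  have s3 : fdE6.simples.getD 3 0 = 39 := rfl
  have hn : fdE6.n = 72 := rfl
  have hg46 : fdE6.gRoot gaE6a 46 = 46 := by decide
  have hg39 : fdE6.gRoot gaE6a 39 = 39 := by decide
  have hg56 : fdE6.gRoot gaE6a 56 ≠ 56 := by decide
  have hg42 : fdE6.gRoot gaE6a 42 ≠ 42 := by decide
  simp only [e0, e1, e2, e3, List.range_succ, List.range_zero, List.nil_append, List.cons_append, List.map_cons,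
    List.map_nil, List.prod_cons, List.prod_nil, mul_one, s00, s01, s10, s20, s21, s30, Function.iterate_zero, id,
    Function.iterate_one, hφ, s0, s1, s2, s3, hn] at hx0 hx1 hx2 hx3
  norm_num at hx0 hx1 hx2 hx3
  ext g
  simp only [Set.mem_ofPred_eq, Cert12.twGen, e6Words, Set.mem_union]
  have hsr : srE6a = [0, 1, 2, 3] := rfl
  have hw1 : ∀ (r : ℕ) (t : K), chevE6.wordMat K [(r, t)] = chevE6.x K r t := by
    intro r t
    simp [ChevalleyDatum.wordMat]
  have hw2 : ∀ (r1 r2 : ℕ) (t1 t2 : K), chevE6.wordMat K [(r1, t1), (r2, t2)] =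
      chevE6.x K r1 t1 * chevE6.x K r2 t2 := by
    intro r1 r2 t1 t2
    simp [ChevalleyDatum.wordMat]
  have e15 : 72 - 1 - 56 = 15 := rfl
  have e25 : 72 - 1 - 46 = 25 := rfl
  have e29 : 72 - 1 - 42 = 29 := rfl
  have e32 : 72 - 1 - 39 = 32 := rfl
  constructor
  · rintro ⟨w, (⟨t, ht, r, hr, rfl⟩ | ⟨t, rs, hrs, rfl⟩), hg⟩
    · simp only [List.mem_cons, List.not_mem_nil, or_false, e6p2, e6m2, e6p4, e6m4] at hr
      rcases hr with rfl | rfl | rfl | rfl
      · refine ⟨1, by rw [hsr]; simp, t, fun _ => by rw [hφ]; exact ht, Or.inl ?_⟩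
        rw [s1, (hx1 t).1]
        apply gl_ext
        rw [hg, hw1, cert12_E6.c6.c2.xA_val]
      · refine ⟨1, by rw [hsr]; simp, t, fun _ => by rw [hφ]; exact ht, Or.inr ?_⟩
        rw [s1, hn, e25, (hx1 t).2]
        apply gl_ext
        rw [hg, hw1, cert12_E6.c6.c2.xA_val]
      · refine ⟨3, by rw [hsr]; simp, t, fun _ => by rw [hφ]; exact ht, Or.inl ?_⟩
        rw [s3, (hx3 t).1]
        apply gl_ext
        rw [hg, hw1, cert12_E6.c6.c2.xA_val]
      · refine ⟨3, by rw [hsr]; simp, t, fun _ => by rw [hφ]; exact ht, Or.inr ?_⟩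
        rw [s3, hn, e32, (hx3 t).2]
        apply gl_ext
        rw [hg, hw1, cert12_E6.c6.c2.xA_val]
    · simp only [List.mem_cons, List.not_mem_nil, or_false, e6p1, e6p6, e6m1, e6m6, e6p3, e6p5, e6m3, e6m5] at hrs
      rcases hrs with rfl | rfl | rfl | rfl
      · refine ⟨0, by rw [hsr]; simp, t, fun h => by rw [s0] at h; exact absurd h hg56, Or.inl ?_⟩
        rw [s0, (hx0 t).1]
        apply gl_ext
        rw [hg, hw2]
        simp only [Units.val_mul, cert12_E6.c6.c2.xA_val]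
      · refine ⟨0, by rw [hsr]; simp, t, fun h => by rw [s0] at h; exact absurd h hg56, Or.inr ?_⟩
        rw [s0, hn, e15, (hx0 t).2]
        apply gl_ext
        rw [hg, hw2]
        simp only [Units.val_mul, cert12_E6.c6.c2.xA_val]
      · refine ⟨2, by rw [hsr]; simp, t, fun h => by rw [s2] at h; exact absurd h hg42, Or.inl ?_⟩
        rw [s2, (hx2 t).1]
        apply gl_ext
        rw [hg, hw2]
        simp only [Units.val_mul, cert12_E6.c6.c2.xA_val]
      · refine ⟨2, by rw [hsr]; simp, t, fun h => by rw [s2] at h; exact absurd h hg42, Or.inr ?_⟩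
        rw [s2, hn, e29, (hx2 t).2]
        apply gl_ext
        rw [hg, hw2]
        simp only [Units.val_mul, cert12_E6.c6.c2.xA_val]
  · rintro ⟨i, hi, t, ht, hg⟩
    rw [hsr] at hi
    simp only [List.mem_cons, List.not_mem_nil, or_false] at hi
    rcases hi with rfl | rfl | rfl | rfl
    · rw [s0, hn, (hx0 t).1, e15, (hx0 t).2] at hg
      rcases hg with rfl | rfl
      · refine ⟨[(56, t), (36, t ^ q)], Or.inr ⟨t, (e6p1, e6p6), by simp, rfl⟩, ?_⟩
        rw [hw2]
        simp only [Units.val_mul, cert12_E6.c6.c2.xA_val]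
      · refine ⟨[(15, t), (35, t ^ q)], Or.inr ⟨t, (e6m1, e6m6), by simp, rfl⟩, ?_⟩
        rw [hw2]
        simp only [Units.val_mul, cert12_E6.c6.c2.xA_val]
    · have ht' : t ^ q = t := by
        rw [← hφ]
        exact ht (by rw [s1]; exact hg46)
      rw [s1, hn, (hx1 t).1, e25, (hx1 t).2] at hg
      rcases hg with rfl | rfl
      · refine ⟨[(46, t)], Or.inl ⟨t, ht', e6p2, by simp, rfl⟩, ?_⟩
        rw [hw1, cert12_E6.c6.c2.xA_val]
      · refine ⟨[(25, t)], Or.inl ⟨t, ht', e6m2, by simp, rfl⟩, ?_⟩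
        rw [hw1, cert12_E6.c6.c2.xA_val]
    · rw [s2, hn, (hx2 t).1, e29, (hx2 t).2] at hg
      rcases hg with rfl | rfl
      · refine ⟨[(42, t), (37, t ^ q)], Or.inr ⟨t, (e6p3, e6p5), by simp, rfl⟩, ?_⟩
        rw [hw2]
        simp only [Units.val_mul, cert12_E6.c6.c2.xA_val]
      · refine ⟨[(29, t), (34, t ^ q)], Or.inr ⟨t, (e6m3, e6m5), by simp, rfl⟩, ?_⟩
        rw [hw2]
        simp only [Units.val_mul, cert12_E6.c6.c2.xA_val]
    · have ht' : t ^ q = t := by
        rw [← hφ]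
        exact ht (by rw [s3]; exact hg39)
      rw [s3, hn, (hx3 t).1, e32, (hx3 t).2] at hg
      rcases hg with rfl | rfl
      · refine ⟨[(39, t)], Or.inl ⟨t, ht', e6p4, by simp, rfl⟩, ?_⟩
        rw [hw1, cert12_E6.c6.c2.xA_val]
      · refine ⟨[(32, t)], Or.inl ⟨t, ht', e6m4, by simp, rfl⟩, ?_⟩
        rw [hw1, cert12_E6.c6.c2.xA_val]

end Cfsg.Agent.Lib.H29.Chev
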