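import Mathlib
import Cfsg.Prelude.Def_LieTwisted
import Cfsg.Prelude.Def_LieExceptional
import Cfsg.Agent.Lib.H29.ChevTw28
import Cfsg.Agent.Lib.H29.ChevTwD4a
import Cfsg.Agent.Lib.H29.ChevTwE6a

/-!
# The `(B, N)`-pairs of the twisted groups of types `D₄` and `E₆`
-/

set_option autoImplicit false
set_option linter.unusedSectionVars false
set_option linter.unusedSimpArgs false
set_option linter.unusedVariables false

namespace Cfsg.Agent.Lib.H29.Chev

open Cfsg.Lie Matrix

set_option maxRecDepth 1000000 in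
set_option maxHeartbeats 0 in
theorem twD4a_injS : fdD4.chkInjS fxD4 gaD4a 3 srD4a = true := by decide +kernel

set_option maxRecDepth 1000000 in
set_option maxHeartbeats 0 in
theorem twE6a_injS : fdE6.chkInjS fxE6 gaE6a 2 srE6a = true := by decide +kernel

theorem bn_twistedD4 {K : Type*} [Field K] [Fintype K] {q : ℕ} (hq : IsPrimePow q)
    (hK : Fintype.card K = q ^ 3) :
    ∃ P : Cfsg.BNPair ↥(twistedD4 K q),
      P.B = (chevD4.borelSubgroup K ⊓ twistedD4 K q).subgroupOf (twistedD4 K q) ∧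
      P.N = (chevD4.monomialSubgroup K ⊓ twistedD4 K q).subgroupOf (twistedD4 K q) := by
  obtain ⟨φ, hφ, _, hφk⟩ := exists_frob hq hK
  have e : twistedD4 K q = Subgroup.closure (cert12_D4.twGen gaD4a 3 φ srD4a) := by
    unfold twistedD4 ChevalleyDatum.genSubgroup
    rw [twGen_D4 q φ hφ]
  rw [e]
  exact ⟨cert12_D4.twBN twD4a_spec twD4a_spec2 φ (Or.inr rfl) hφk twD4a_chain twD4a_ChkQ (by decide) twD4a_scover
    twD4a_O twD4a_injS, rfl, rfl⟩

theorem bn_twistedE6 {K : Type*} [Field K] [Fintype K] {q : ℕ} (hq : IsPrimePow q)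
    (hK : Fintype.card K = q ^ 2) :
    ∃ P : Cfsg.BNPair ↥(twistedE6 K q),
      P.B = (chevE6.borelSubgroup K ⊓ twistedE6 K q).subgroupOf (twistedE6 K q) ∧
      P.N = (chevE6.monomialSubgroup K ⊓ twistedE6 K q).subgroupOf (twistedE6 K q) := by
  obtain ⟨φ, hφ, _, hφk⟩ := exists_frob hq hK
  have e : twistedE6 K q = Subgroup.closure (cert12_E6.twGen gaE6a 2 φ srE6a) := by
    unfold twistedE6 ChevalleyDatum.genSubgroup
    rw [twGen_E6 q φ hφ]
  rw [e]
  exact ⟨cert12_E6.twBN twE6a_spec twE6a_spec2 φ (Or.inl rfl) hφk twE6a_chain twE6a_ChkQ (by decide) twE6a_scover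
    twE6a_O twE6a_injS, rfl, rfl⟩

end Cfsg.Agent.Lib.H29.Chev
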