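import Mathlib
import Cfsg.Prelude.Def_LieTwisted
import Cfsg.Prelude.Def_LieExceptional
import Cfsg.Agent.Lib.H29.ChevTw30
import Cfsg.Agent.Lib.H29.ChevTwBN

/-!
# Checks for the simplicity of the twisted groups of types `D₄` and `E₆`: the longest element, irreducibility
-/

set_option autoImplicit false
set_option linter.unusedSectionVars false
set_option linter.unusedSimpArgs false
set_option linter.unusedVariables false

namespace Cfsg.Agent.Lib.H29.Chev

open Cfsg.Lie Matrix

set_option maxRecDepth 1000000 in
set_option maxHeartbeats 0 in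
theorem twD4a_w0 : fdD4.chkQW0 fqD4a 11 = true := by decide +kernel

set_option maxRecDepth 1000000 in
set_option maxHeartbeats 0 in
theorem twE6a_w0 : fdE6.chkQW0 fqE6a 1151 = true := by decide +kernel

set_option maxRecDepth 1000000 in
set_option maxHeartbeats 0 in
theorem twD4a_irr : fdD4.chkIrrS fxD4 gaD4a 3 srD4a = true := by decide +kernel

set_option maxRecDepth 1000000 in
set_option maxHeartbeats 0 in
theorem twE6a_irr : fdE6.chkIrrS fxE6 gaE6a 2 srE6a = true := by decide +kernel

end Cfsg.Agent.Lib.H29.Chev
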