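import Mathlib
import Cfsg.Agent.Lib.H29.ChevFold4
import Cfsg.Agent.Lib.H29.ChevFoldTD4G2
import Cfsg.Agent.Lib.H29.ChevTwSimA

/-!
# Folding `D₄ → G₂`: the fixed elements of the triality graph automorphism
-/

set_option autoImplicit false

namespace Cfsg.Agent.Lib.H29.Chev

open Cfsg.Lie Matrix

set_option maxRecDepth 1000000 in
theorem foldSpecD4G2 : FoldSpec fdD4 fdG2 gaD4a 3 srD4a jcD4G2 jpD4G2 (fun i => i) where
  inv := foldD4G2_inv
  pos := by decide +kernel
  neg := by decide +kernel
  sm_lt := by decide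
  surj := by decide
  top := by decide
  wit := ⟨1, by decide, 12, by decide, Or.inl (by decide +kernel)⟩

/-- the group generated by the fixed elements of the triality is `G₂(F)` -/
theorem twGenD4_iso_G2 {F : Type*} [Field F] [Finite F] :
    Nonempty (↥(Subgroup.closure (cert12_D4.twGen gaD4a 3 (RingHom.id F) srD4a)) ≃* ↥(chevG2.group F)) :=
  cert12_D4.fold_iso cert12_G2 twD4a_spec twD4a_spec2 (Or.inr rfl) twD4a_chain twD4a_ChkQ (by decide) twD4a_scover
    twD4a_O twD4a_injS twD4a_irr 11 twD4a_w0 foldSpecD4G2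

/-- the fixed elements of the triality in the Chevalley group are generated by those attached to the orbits -/
theorem fixD4_eq {F : Type*} [Field F] [Finite F] :
    fixS (cert12_D4.c6.c2.sigma twD4a_spec.ginv (RingHom.id F)) ⊓ chevD4.group F =
      Subgroup.closure (cert12_D4.twGen gaD4a 3 (RingHom.id F) srD4a) := by
  have hφk : ∀ x : F, (RingHom.id F)^[3] x = x := fun x => Function.iterate_fixed (RingHom.id_apply x) 3
  exact cert12_D4.fix_eq_closure twD4a_spec twD4a_spec2 (RingHom.id F) (Or.inr rfl) hφk twD4a_chain twD4a_ChkQ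
    (by decide) twD4a_scover twD4a_O 2 (Or.inl ⟨rfl, rfl⟩) _ (cartB_of_chk blD4 2 twD4a_cartB)
    (cert12_D4.sigT_pow twD4a_spec twD4a_spec2 (RingHom.id F) (by decide) hφk)

end Cfsg.Agent.Lib.H29.Chev
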