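import Mathlib

/-!
# The order of the image of a subgroup under a homomorphism
-/

set_option autoImplicit false

namespace Cfsg.Agent.Lib.H29.Chev

theorem card_map_mul_card_ker {G H : Type*} [Group G] [Group H] (f : G →* H) (S : Subgroup G) :
    Nat.card ↥(S.map f) * Nat.card ↥(S ⊓ f.ker) = Nat.card ↥S := by
  have h1 := Subgroup.card_eq_card_quotient_mul_card_subgroup (f.subgroupMap S).ker
  have h2 : Nat.card (↥S ⧸ (f.subgroupMap S).ker) = Nat.card ↥(S.map f) :=
    Nat.card_congr (QuotientGroup.quotientKerEquivOfSurjective (f.subgroupMap S)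
      (f.subgroupMap_surjective S)).toEquiv
  have h3 : Nat.card ↥(f.subgroupMap S).ker = Nat.card ↥(S ⊓ f.ker) := by
    apply Nat.card_congr
    exact {
      toFun := fun x => ⟨x.val.val, Subgroup.mem_inf.mpr ⟨x.val.property, by
        have := x.property
        rw [MonoidHom.mem_ker] at this ⊢
        exact congrArg Subtype.val this⟩⟩
      invFun := fun x => ⟨⟨x.val, (Subgroup.mem_inf.mp x.property).1⟩, by
        rw [MonoidHom.mem_ker]
        apply Subtype.ext
        exact (Subgroup.mem_inf.mp x.property).2⟩
      left_inv := fun x => rfl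
      right_inv := fun x => rfl }
  rw [h1, h2, h3]

end Cfsg.Agent.Lib.H29.Chev
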