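import Mathlib
import Cfsg.Prelude.Def_LieTwisted
import Cfsg.Agent.Lib.H29.ChevTwD4a
import Cfsg.Agent.Lib.H29.ChevTw24
import Cfsg.Agent.Lib.H29.ChevTw8

/-!
# The twisted group of type `D₄`: the `σ`-fixed elements of the torus
-/

set_option autoImplicit false
set_option linter.unusedSectionVars false
set_option linter.unusedSimpArgs false
set_option linter.unusedVariables false

namespace Cfsg.Agent.Lib.H29.Chev

open Cfsg.Lie Matrix

variable {K : Type*} [Field K] (φ : K →+* K)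

/-- the `σ`-fixed element of the torus with the given coordinates -/
def vecD4 (s t : Kˣ) : Fin fdD4.l → Kˣ := fun i =>
  if i.val = 0 then t else if i.val = 1 then s else if i.val = 2 then Units.map φ.toMonoidHom t
  else (Units.map φ.toMonoidHom)^[2] t

theorem vecD4_fix (hφk : ∀ x : K, φ^[3] x = x) (s t : Kˣ) (hs : Units.map φ.toMonoidHom s = s) :
    sigT fdD4 gaD4a 3 φ (vecD4 φ s t) = vecD4 φ s t := by
  funext ⟨i, hi⟩
  have hi' : i < 4 := hi
  show (if h : rhIt gaD4a (3 - 1) i < fdD4.l then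
    Units.map φ.toMonoidHom (vecD4 φ s t ⟨rhIt gaD4a (3 - 1) i, h⟩) else 1) = vecD4 φ s t ⟨i, hi⟩
  have e0 : rhIt gaD4a (3 - 1) 0 = 3 := rfl
  have e1 : rhIt gaD4a (3 - 1) 1 = 1 := rfl
  have e2 : rhIt gaD4a (3 - 1) 2 = 0 := rfl
  have e3 : rhIt gaD4a (3 - 1) 3 = 2 := rfl
  have hl : fdD4.l = 4 := rfl
  interval_cases i
  · simp only [e0, hl, vecD4]
    norm_num
    apply Units.ext
    exact hφk (t : K)
  · simp only [e1, hl, vecD4]
    norm_num
    exact hs
  · simp only [e2, hl, vecD4]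
    norm_num
  · simp only [e3, hl, vecD4]
    norm_num

theorem fixD4_coord (x : Fin fdD4.l → Kˣ) (hx : sigT fdD4 gaD4a 3 φ x = x) :
    x ⟨1, by decide⟩ = Units.map φ.toMonoidHom (x ⟨1, by decide⟩) ∧
    x ⟨2, by decide⟩ = Units.map φ.toMonoidHom (x ⟨0, by decide⟩) ∧
    x ⟨3, by decide⟩ = (Units.map φ.toMonoidHom)^[2] (x ⟨0, by decide⟩) :=
  ⟨cert12_D4.fix_coord twD4a_spec twD4a_spec2 φ (by norm_num) x hx 1 (by decide) 1,
   cert12_D4.fix_coord twD4a_spec twD4a_spec2 φ (by norm_num) x hx 0 (by decide) 1,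
   cert12_D4.fix_coord twD4a_spec twD4a_spec2 φ (by norm_num) x hx 0 (by decide) 2⟩

/-- the `σ`-fixed elements of the torus -/
noncomputable def fixD4Equiv (hφk : ∀ x : K, φ^[3] x = x) :
    ↥(fixS (sigT fdD4 gaD4a 3 φ)) ≃ {u : Kˣ // Units.map φ.toMonoidHom u = u} × Kˣ where
  toFun := fun x => (⟨x.val ⟨1, by decide⟩, ((fixD4_coord φ x.val x.property).1).symm⟩, x.val ⟨0, by decide⟩)
  invFun := fun p => ⟨vecD4 φ p.1.val p.2, vecD4_fix φ hφk p.1.val p.2 p.1.property⟩
  left_inv := by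
    rintro ⟨x, hx⟩
    apply Subtype.ext
    obtain ⟨_, h2, h3⟩ := fixD4_coord φ x hx
    funext ⟨i, hi⟩
    have hi' : i < 4 := hi
    interval_cases i
    · rfl
    · rfl
    · exact h2.symm
    · exact h3.symm
  right_inv := by
    rintro ⟨⟨s, hs⟩, t⟩
    rfl

theorem card_fixD4 [Finite K] (q : ℕ) (hq : 1 ≤ q) (hK : Nat.card K = q ^ 3) (hφ : ∀ x, φ x = x ^ q)
    (hφk : ∀ x : K, φ^[3] x = x) :
    Nat.card ↥(fixS (sigT fdD4 gaD4a 3 φ)) = (q - 1) * (q ^ 3 - 1) := by
  rw [Nat.card_congr (fixD4Equiv φ hφk), Nat.card_prod, Nat.card_units, hK,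
    ← card_units_pow_eq (K := K) q 3 (by norm_num) hq hK]
  congr 1
  apply Nat.card_congr
  apply Equiv.subtypeEquivRight
  intro u
  constructor
  · intro h
    apply Units.ext
    rw [Units.val_pow_eq_pow_val, ← hφ]
    exact congrArg Units.val h
  · intro h
    apply Units.ext
    have := congrArg Units.val h
    rw [Units.val_pow_eq_pow_val, ← hφ] at this
    exact this

end Cfsg.Agent.Lib.H29.Chev
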