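import Mathlib
import Cfsg.Prelude.Def_LieTwisted
import Cfsg.Agent.Lib.H29.ChevTwD4b

/-!
# The twisted group of type `D₄`: the order of `H¹`
-/

set_option autoImplicit false
set_option linter.unusedSectionVars false
set_option linter.unusedSimpArgs false
set_option linter.unusedVariables false

namespace Cfsg.Agent.Lib.H29.Chev

open Cfsg.Lie Matrix

variable {K : Type*} [Field K] (φ : K →+* K)

set_option maxRecDepth 100000 in
theorem carD4_tbl : ∀ i < 4, ∀ j < 4, fdD4.carZ i (fdD4.simples.getD j 0) =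
    tblGet [[2, -1, 0, 0], [-1, 2, -1, -1], [0, -1, 2, 0], [0, -1, 0, 2]] i j := by decide +kernel

theorem cartM_D4 : Cert12.cartM fdD4 =
    (!![2, -1, 0, 0; -1, 2, -1, -1; 0, -1, 2, 0; 0, -1, 0, 2] : Matrix (Fin 4) (Fin 4) ℤ) := by
  funext i j
  have hi : i.val < 4 := i.isLt
  have hj : j.val < 4 := j.isLt
  show fdD4.carZ i.val (fdD4.simples.getD j.val 0) = _
  rw [carD4_tbl i.val hi j.val hj]
  obtain ⟨i, _⟩ := i
  obtain ⟨j, _⟩ := j
  simp only at hi hj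
  interval_cases i <;> interval_cases j <;> rfl

theorem d4_torus_trivial (a b c d : Kˣ) (f2 : c = Units.map φ.toMonoidHom a)
    (f3 : d = (Units.map φ.toMonoidHom)^[2] a) (h0 : a ^ 2 * b⁻¹ = 1) (h1 : a⁻¹ * b ^ 2 * c⁻¹ * d⁻¹ = 1)
    (h2 : b⁻¹ * c ^ 2 = 1) (h3 : b⁻¹ * d ^ 2 = 1) : a = 1 ∧ b = 1 ∧ c = 1 ∧ d = 1 := by
  have e0 : b = a ^ 2 := (mul_inv_eq_one.mp h0).symm
  have e2 : b = c ^ 2 := inv_mul_eq_one.mp h2
  have e3 : b = d ^ 2 := inv_mul_eq_one.mp h3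
  have e1 : b ^ 2 = a * (d * c) := by
    have h := mul_inv_eq_one.mp h1
    have h' := mul_inv_eq_iff_eq_mul.mp h
    exact inv_mul_eq_iff_eq_mul.mp h'
  have hb : b = 1 := by
    have h4 : b ^ 3 * b = b ^ 3 := by
      calc b ^ 3 * b = (b ^ 2) ^ 2 := by rw [← pow_succ, ← pow_mul]
        _ = a ^ 2 * (d ^ 2 * c ^ 2) := by rw [e1, mul_pow, mul_pow]
        _ = b ^ 3 := by rw [← e0, ← e2, ← e3, pow_succ, pow_two, mul_assoc]
    exact mul_eq_left.mp h4
  have ha2 : ((a : Kˣ) : K) ^ 2 = 1 := by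
    have := congrArg Units.val e0
    rw [hb, Units.val_pow_eq_pow_val, Units.val_one] at this
    exact this.symm
  have hφa : Units.map φ.toMonoidHom a = a := by
    apply Units.ext
    show φ (a : K) = (a : K)
    rcases sq_eq_one_iff.mp ha2 with h | h
    · rw [h, map_one]
    · rw [h, map_neg, map_one]
  have hc : c = a := by rw [f2, hφa]
  have hd : d = a := by rw [f3, Function.iterate_succ_apply', Function.iterate_one, hφa, hφa]
  have ha : a = 1 := by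
    have h5 : (1 : Kˣ) = a * a ^ 2 := by
      have := e1
      rw [hb, hc, hd, one_pow] at this
      rw [this, pow_two]
    rw [← e0, hb, mul_one] at h5
    exact h5.symm
  exact ⟨ha, hb, by rw [hc, ha], by rw [hd, ha]⟩

/-- the kernel of the map from the torus meets the `σ`-fixed elements trivially -/
theorem ker_fixD4 (x : Fin fdD4.l → Kˣ) (hx : sigT fdD4 gaD4a 3 φ x = x)
    (hker : chiHom chevD4 fdD4 K x = 1) : x = 1 := by
  have hk : x ∈ (chiHom chevD4 fdD4 K).ker := hker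
  rw [cert12_D4.ker_chi, MonoidHom.mem_ker] at hk
  have hj : ∀ j : Fin 4, ∏ i : Fin 4, x i ^ (Cert12.cartM fdD4 i j) = 1 := fun j => by
    have := congrFun hk j
    exact (torusHom_apply (Cert12.cartM fdD4) x j).symm.trans this
  have h0 := hj 0
  have h1 := hj 1
  have h2 := hj 2
  have h3 := hj 3
  rw [Fin.prod_univ_four, cartM_D4] at h0 h1 h2 h3
  simp at h0 h1 h2 h3
  obtain ⟨f1, f2, f3⟩ := fixD4_coord φ x hx
  have f1' : x (1 : Fin 4) = Units.map φ.toMonoidHom (x (1 : Fin 4)) := f1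
  have f2' : x (2 : Fin 4) = Units.map φ.toMonoidHom (x (0 : Fin 4)) := f2
  have f3' : x (3 : Fin 4) = (Units.map φ.toMonoidHom)^[2] (x (0 : Fin 4)) := f3
  have hfin : ∀ y : Fin fdD4.l → Kˣ, y (0 : Fin 4) = 1 → y (1 : Fin 4) = 1 → y (2 : Fin 4) = 1 →
      y (3 : Fin 4) = 1 → y = 1 := by
    intro y y0 y1 y2 y3
    funext ⟨i, hi⟩
    have hi' : i < 4 := hi
    interval_cases i
    · exact y0
    · exact y1
    · exact y2
    · exact y3
  obtain ⟨r0, r1, r2, r3⟩ := d4_torus_trivial φ _ _ _ _ f2' f3' h0 h1 h2 h3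
  exact hfin x r0 r1 r2 r3

theorem card_H1_D4 [Finite K] (q : ℕ) (hq : 1 ≤ q) (hK : Nat.card K = q ^ 3) (hφ : ∀ x, φ x = x ^ q)
    (hφk : ∀ x : K, φ^[3] x = x) :
    Nat.card ↥((fixS (sigT fdD4 gaD4a 3 φ)).map (chiHom chevD4 fdD4 K)) = (q - 1) * (q ^ 3 - 1) := by
  rw [← card_fixD4 φ q hq hK hφ hφk, ← card_map_mul_card_ker (chiHom chevD4 fdD4 K) (fixS (sigT fdD4 gaD4a 3 φ))]
  have : fixS (sigT fdD4 gaD4a 3 φ) ⊓ (chiHom chevD4 fdD4 K).ker = ⊥ := by
    rw [eq_bot_iff]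
    intro x hx
    obtain ⟨h1, h2⟩ := Subgroup.mem_inf.mp hx
    rw [Subgroup.mem_bot]
    exact ker_fixD4 φ x h1 h2
  rw [this, Subgroup.card_bot, mul_one]

end Cfsg.Agent.Lib.H29.Chev
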