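import Mathlib
import Cfsg.Prelude.Def_LieTwisted
import Cfsg.Agent.Lib.H29.ChevTwD4c

/-!
# The order of the twisted group of type `D₄`
-/

set_option autoImplicit false
set_option linter.unusedSectionVars false
set_option linter.unusedSimpArgs false
set_option linter.unusedVariables false

namespace Cfsg.Agent.Lib.H29.Chev

open Cfsg.Lie Matrix

theorem card_twistedD4 {K : Type*} [Field K] [Fintype K] {q : ℕ} (hq : IsPrimePow q)
    (hK : Fintype.card K = q ^ 3) :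
    Nat.card ↥(twistedD4 K q) = q ^ 12 * (q ^ 2 - 1) * (q ^ 6 - 1) * (q ^ 8 + q ^ 4 + 1) ∧
    Nat.card ↥(chevD4.posUnipotent K ⊓ twistedD4 K q) = q ^ 12 := by
  obtain ⟨φ, hφ, _, hφk⟩ := exists_frob hq hK
  have hq1 : 1 ≤ q := hq.one_lt.le
  have hKc : Nat.card K = q ^ 3 := by rw [Nat.card_eq_fintype_card, hK]
  have e : twistedD4 K q = Subgroup.closure (cert12_D4.twGen gaD4a 3 φ srD4a) := by
    unfold twistedD4 ChevalleyDatum.genSubgroup
    rw [twGen_D4 q φ hφ]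
  have key := cert12_D4.card_twGen twD4a_spec twD4a_spec2 φ (Or.inr rfl) q hq1 hKc hφ hφk twD4a_chain twD4a_ChkQ
    (by decide) twD4a_scover twD4a_O 2 (Or.inl ⟨rfl, rfl⟩) _ (cartB_of_chk blD4 2 twD4a_cartB)
    (cert12_D4.sigT_pow twD4a_spec twD4a_spec2 φ (by norm_num) hφk)
  rw [← e, twD4a_os, card_H1_D4 φ q hq1 hKc hφ hφk, twD4a_poly, evalN_mulN, evalN_mulN] at key
  refine ⟨?_, key.2⟩
  rw [key.1]
  simp only [evalN]
  have h2 : 1 ≤ q ^ 2 := Nat.one_le_pow _ _ hq1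
  have h3 : 1 ≤ q ^ 3 := Nat.one_le_pow _ _ hq1
  have h6 : 1 ≤ q ^ 6 := Nat.one_le_pow _ _ hq1
  zify [hq1, h2, h3, h6]
  ring

end Cfsg.Agent.Lib.H29.Chev
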