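import Mathlib
import Cfsg.Prelude.Def_ChevStructure
import Cfsg.Prelude.Def_LieExceptional
import Cfsg.Agent.Lib.H29.ChevTw31

/-!
# Automorphisms of twisted groups, part 1: conjugation of the elements `x_S(t)` by `σ`-fixed elements of `N`
-/

set_option autoImplicit false
set_option linter.unusedSectionVars false
set_option linter.unusedSimpArgs false
set_option linter.unusedVariables false

namespace Cfsg.Agent.Lib.H29.Chev

open Cfsg.Lie Matrix

variable {D : ChevalleyDatum} {fd : FD} {fx : FX} {fc : FC} {fz : FZ} {F : Type*} [Field F]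

theorem conj_list_prod {G : Type*} [Group G] (h : G) (L : List G) :
    h * L.prod * h⁻¹ = (L.map fun x => h * x * h⁻¹).prod := by
  induction L with
  | nil => simp
  | cons a L ih =>
    rw [List.prod_cons, List.map_cons, List.prod_cons, ← ih]
    group

namespace Cert12

variable (C : Cert12 D fd fx fc fz) {ga : GA} {k : ℕ} (T : TwSpec fd fx ga k) (T2 : TwSpec2 fd fx ga k)
  (φ : F →+* F)
include C T

/-- conjugation of the `σ`-images of a root element by a `σ`-fixed element -/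
theorem conj_aj (m : GL D.Idx F) (hfix : C.c6.c2.sigma T.ginv φ m = m) (r r' : ℕ) (hr : r < fd.n)
    (hr' : r' < fd.n) (c : F) (hc : ∀ t, m * C.c6.c2.xA r t * m⁻¹ = C.c6.c2.xA r' (c * t)) (t : F) (j : ℕ) :
    m * C.aj ga φ r t j * m⁻¹ = C.aj ga φ r' (c * t) j := by
  induction j with
  | zero => rw [C.aj_zero T, C.aj_zero T, hc]
  | succ j ih =>
    rw [← C.sigma_aj T φ r hr, ← C.sigma_aj T φ r' hr', ← ih, map_mul, map_mul, map_inv, hfix]

/-- the coefficient of a `σ`-fixed element of `N` at a `ρ`-fixed root is `φ`-fixed -/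
theorem conj_coef_fixed (m : GL D.Idx F) (hfix : C.c6.c2.sigma T.ginv φ m = m) (r r' : ℕ) (hr : r < fd.n)
    (hr' : r' < fd.n) (hf : fd.gRoot ga r = r) (hf' : fd.gRoot ga r' = r')
    (c : F) (hc : ∀ t, m * C.c6.c2.xA r t * m⁻¹ = C.c6.c2.xA r' (c * t)) : φ c = c := by
  have h1 := hc 1
  have h2 := congrArg (C.c6.c2.sigma T.ginv φ) h1
  rw [map_mul, map_mul, map_inv, hfix, C.c6.c2.sigma_xA T.ginv T.graph φ r hr,
    C.c6.c2.sigma_xA T.ginv T.graph φ r' hr', hf, hf', T.fix r hr hf, T.fix r' hr' hf', Int.cast_one, one_mul,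
    one_mul, map_one, hc 1] at h2
  have h3 := C.xA_param_inj _ hr' _ _ h2
  rw [mul_one] at h3
  exact h3.symm

include T2

/-- `π` commutes with `ρ`, so it preserves the `ρ`-fixed roots -/
theorem perm_fixed_iff (m : GL D.Idx F) (hm : m ∈ D.monomialSubgroup F) (hfix : C.c6.c2.sigma T.ginv φ m = m)
    (π : ℕ → ℕ) (hπ : C.c6.c2.Perm m π) (r : ℕ) (hr : r < fd.n) :
    fd.gRoot ga (π r) = π r ↔ fd.gRoot ga r = r := by
  obtain ⟨_, ⟨π', hπ'⟩⟩ := C.c6.perm_of_mem m hm
  have hinv := C.perm_inv m π π' hπ hπ'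
  have hcomm := C.perm_comm_rho T T2 φ m hfix π hπ r hr
  constructor
  · intro h
    rw [← hcomm] at h
    have := congrArg π' h
    rwa [hinv.1 _ (T.gRoot_lt r hr), hinv.1 r hr] at this
  · intro h
    rw [← hcomm, h]

/-- conjugation of `x_S(t)` by a `σ`-fixed element of `N` -/
theorem conj_xS_perm (m : GL D.Idx F) (hm : m ∈ D.monomialSubgroup F) (hfix : C.c6.c2.sigma T.ginv φ m = m)
    (π : ℕ → ℕ) (hπ : C.c6.c2.Perm m π) (r : ℕ) (hr : r < fd.n) :
    ∃ c : F, c ≠ 0 ∧ (∀ t ∈ Kr fd ga φ r, c * t ∈ Kr fd ga φ (π r)) ∧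
      ∀ t, m * C.xS ga k φ r t * m⁻¹ = C.xS ga k φ (π r) (c * t) := by
  obtain ⟨hr', _, c, hc⟩ := hπ r hr
  have hiff := C.perm_fixed_iff T T2 φ m hm hfix π hπ r hr
  have hc0 : c ≠ 0 := by
    intro h0
    have h1 := hc 1
    rw [h0, zero_mul, C.c6.c2.xA_zero] at h1
    have h2 : C.c6.c2.xA r (1 : F) = 1 := by
      have : C.c6.c2.xA r (1 : F) = m⁻¹ * (m * C.c6.c2.xA r 1 * m⁻¹) * m := by group
      rw [this, h1]
      group
    exact one_ne_zero (C.c6.xA_eq_one r hr (1 : F) h2)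
  refine ⟨c, hc0, ?_, fun t => ?_⟩
  · intro t ht hf'
    have hf := hiff.mp hf'
    rw [map_mul, ht hf, C.conj_coef_fixed T φ m hfix r (π r) hr hr' hf hf' c hc]
  · unfold xS
    rw [conj_list_prod, List.map_map]
    have hos : fd.os ga k (π r) = fd.os ga k r := by
      unfold FD.os
      by_cases hf : fd.gRoot ga r = r
      · rw [if_pos hf, if_pos (hiff.mpr hf)]
      · rw [if_neg hf, if_neg (fun h => hf (hiff.mp h))]
    rw [hos]
    congr 1
    apply List.map_congr_left
    intro j _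
    simp only [Function.comp]
    exact C.conj_aj T φ m hfix r (π r) hr hr' c hc t j

end Cert12

end Cfsg.Agent.Lib.H29.Chev
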