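import Mathlib
import Cfsg.Prelude.Def_ChevStructure
import Cfsg.Prelude.Def_LieTwisted
import Cfsg.Agent.Lib.H29.ChevInvG2a
import Cfsg.Agent.Lib.H29.ChevTwD4d
import Cfsg.Agent.Lib.H29.TwAut1

/-!
# The group `U` of type `D₄` in characteristic two: the rules for sorting products of root elements

The positive roots are sorted in the order `14, 18, 13, 12, 15, 19, 16, 17, 20, 21, 22, 23`
(the orbits of the triality, by height). (Generated file.)
-/

set_option autoImplicit false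
set_option linter.unusedSectionVars false
set_option linter.unusedSimpArgs false
set_option linter.unusedVariables false

namespace Cfsg.Agent.Lib.H29.Chev

open Cfsg.Lie Matrix

section D4

variable {F : Type*} [Field F]

local notation "xd" => cert12_D4.c6.c2.xA

theorem d4_n : fdD4.n = 24 := rfl

set_option maxRecDepth 100000 in
theorem d4_commT_tbl : ∀ p ∈ [(12, 14, 15), (12, 16, 17), (12, 19, 20), (12, 21, 22), (13, 14, 16), (13, 15, 17), (13, 19, 21), (13, 20, 22), (14, 18, 19), (14, 22, 23), (15, 18, 20), (15, 21, 23), (16, 18, 21), (16, 20, 23), (17, 18, 22), (17, 19, 23)],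
    (fdD4.commT p.1 p.2.1 = [(p.2.2, 1, 1, 1)] ∨ fdD4.commT p.1 p.2.1 = [(p.2.2, -1, 1, 1)]) ∧
    (fdD4.commT p.2.1 p.1 = [(p.2.2, 1, 1, 1)] ∨ fdD4.commT p.2.1 p.1 = [(p.2.2, -1, 1, 1)]) := by
  decide +kernel

set_option maxRecDepth 100000 in
theorem d4_commT_nil : ∀ p ∈ [(14, 15), (14, 19), (14, 16), (14, 17), (14, 20), (14, 21), (14, 23), (18, 13), (18, 12), (18, 19), (18, 20), (18, 21), (18, 22), (18, 23), (13, 12), (13, 16), (13, 17), (13, 21), (13, 22), (13, 23), (12, 15), (12, 17), (12, 20), (12, 22), (12, 23), (15, 19), (15, 16), (15, 17), (15, 20), (15, 22), (15, 23), (19, 16), (19, 20), (19, 21), (19, 22), (19, 23), (16, 17), (16, 21), (16, 22), (16, 23), (17, 20), (17, 21), (17, 22), (17, 23), (20, 21), (20, 22), (20, 23), (21, 22), (21, 23), (22, 23)],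
    fdD4.commT p.1 p.2 = [] := by
  decide +kernel

theorem d4_cfg (r s : ℕ) (hr : r < 24) (hs : s < 24) (h1 : s ≠ r) (h2 : s ≠ 23 - r) (t u : F) :
    xd s u * xd r t = xd r t * xd s u * cert12_D4.c6.c2.ctG (fdD4.commT r s) t u :=
  cert12_D4.c6.cfg r s hr hs h1 h2 t u

theorem d4_comm_nil (r s : ℕ) (hr : r < 24) (hs : s < 24) (hr' : 12 ≤ r) (hs' : 12 ≤ s) (h1 : r ≠ s)
    (h : fdD4.commT r s = []) (t u : F) : xd s u * xd r t = xd r t * xd s u := by
  rw [d4_cfg r s hr hs (Ne.symm h1) (by omega), h]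
  simp [Cert2.ctG]

variable [CharP F 2]

theorem d4_sw (r s q : ℕ) (hr : r < 24) (hs : s < 24) (hr' : 12 ≤ r) (hs' : 12 ≤ s) (h1 : r ≠ s)
    (h : fdD4.commT r s = [(q, 1, 1, 1)] ∨ fdD4.commT r s = [(q, -1, 1, 1)]) (t u : F) :
    xd s u * xd r t = xd r t * (xd s u * xd q (t * u)) := by
  rw [d4_cfg r s hr hs (Ne.symm h1) (by omega)]
  rcases h with h | h <;> rw [h] <;>
  simp only [Cert2.ctG, List.map_cons, List.map_nil, List.prod_cons, List.prod_nil, mul_one, pow_one,
    Int.cast_one, Int.cast_neg, neg_eq_self_F, one_mul, mul_assoc]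

theorem xd_sq (r : ℕ) (t : F) : xd r t * xd r t = 1 := by
  rw [cert12_D4.c6.c2.xA_mul, ← two_mul, two_eq_zero_F, zero_mul, cert12_D4.c6.c2.xA_zero]

theorem xd_inv2 (r : ℕ) (t : F) : (xd r t)⁻¹ = xd r t := by
  rw [cert12_D4.c6.c2.xA_inv, neg_eq_self_F]

theorem xd_merge (r : ℕ) (t u : F) (Z : GL chevD4.Idx F) : xd r t * (xd r u * Z) = xd r (t + u) * Z := by
  rw [← mul_assoc, cert12_D4.c6.c2.xA_mul]

theorem xd_merge0 (r : ℕ) (t u : F) : xd r t * xd r u = xd r (t + u) := cert12_D4.c6.c2.xA_mul r t u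

theorem d4s14_18 (t u : F) : xd 18 u * xd 14 t = xd 14 t * (xd 18 u * xd 19 (t * u)) :=
  d4_sw 14 18 19 (by omega) (by omega) (by omega) (by omega) (by omega)
    (d4_commT_tbl (14, 18, 19) (by decide)).1 t u

theorem d4s14_18' (t u : F) (Z : GL chevD4.Idx F) :
    xd 18 u * (xd 14 t * Z) = xd 14 t * (xd 18 u * (xd 19 (t * u) * Z)) := by
  rw [← mul_assoc, d4s14_18]; simp only [mul_assoc]

theorem d4s14_13 (t u : F) : xd 13 u * xd 14 t = xd 14 t * (xd 13 u * xd 16 (t * u)) :=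
  d4_sw 14 13 16 (by omega) (by omega) (by omega) (by omega) (by omega)
    (d4_commT_tbl (13, 14, 16) (by decide)).2 t u

theorem d4s14_13' (t u : F) (Z : GL chevD4.Idx F) :
    xd 13 u * (xd 14 t * Z) = xd 14 t * (xd 13 u * (xd 16 (t * u) * Z)) := by
  rw [← mul_assoc, d4s14_13]; simp only [mul_assoc]

theorem d4s14_12 (t u : F) : xd 12 u * xd 14 t = xd 14 t * (xd 12 u * xd 15 (t * u)) :=
  d4_sw 14 12 15 (by omega) (by omega) (by omega) (by omega) (by omega)
    (d4_commT_tbl (12, 14, 15) (by decide)).2 t u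

theorem d4s14_12' (t u : F) (Z : GL chevD4.Idx F) :
    xd 12 u * (xd 14 t * Z) = xd 14 t * (xd 12 u * (xd 15 (t * u) * Z)) := by
  rw [← mul_assoc, d4s14_12]; simp only [mul_assoc]

theorem d4s14_15 (t u : F) : xd 15 u * xd 14 t = xd 14 t * xd 15 u :=
  d4_comm_nil 14 15 (by omega) (by omega) (by omega) (by omega) (by omega)
    (d4_commT_nil (14, 15) (by decide)) t u

theorem d4s14_15' (t u : F) (Z : GL chevD4.Idx F) : xd 15 u * (xd 14 t * Z) = xd 14 t * (xd 15 u * Z) := by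
  rw [← mul_assoc, d4s14_15, mul_assoc]

theorem d4s14_19 (t u : F) : xd 19 u * xd 14 t = xd 14 t * xd 19 u :=
  d4_comm_nil 14 19 (by omega) (by omega) (by omega) (by omega) (by omega)
    (d4_commT_nil (14, 19) (by decide)) t u

theorem d4s14_19' (t u : F) (Z : GL chevD4.Idx F) : xd 19 u * (xd 14 t * Z) = xd 14 t * (xd 19 u * Z) := by
  rw [← mul_assoc, d4s14_19, mul_assoc]

theorem d4s14_16 (t u : F) : xd 16 u * xd 14 t = xd 14 t * xd 16 u :=
  d4_comm_nil 14 16 (by omega) (by omega) (by omega) (by omega) (by omega)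
    (d4_commT_nil (14, 16) (by decide)) t u

theorem d4s14_16' (t u : F) (Z : GL chevD4.Idx F) : xd 16 u * (xd 14 t * Z) = xd 14 t * (xd 16 u * Z) := by
  rw [← mul_assoc, d4s14_16, mul_assoc]

theorem d4s14_17 (t u : F) : xd 17 u * xd 14 t = xd 14 t * xd 17 u :=
  d4_comm_nil 14 17 (by omega) (by omega) (by omega) (by omega) (by omega)
    (d4_commT_nil (14, 17) (by decide)) t u

theorem d4s14_17' (t u : F) (Z : GL chevD4.Idx F) : xd 17 u * (xd 14 t * Z) = xd 14 t * (xd 17 u * Z) := by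
  rw [← mul_assoc, d4s14_17, mul_assoc]

theorem d4s14_20 (t u : F) : xd 20 u * xd 14 t = xd 14 t * xd 20 u :=
  d4_comm_nil 14 20 (by omega) (by omega) (by omega) (by omega) (by omega)
    (d4_commT_nil (14, 20) (by decide)) t u

theorem d4s14_20' (t u : F) (Z : GL chevD4.Idx F) : xd 20 u * (xd 14 t * Z) = xd 14 t * (xd 20 u * Z) := by
  rw [← mul_assoc, d4s14_20, mul_assoc]

theorem d4s14_21 (t u : F) : xd 21 u * xd 14 t = xd 14 t * xd 21 u :=
  d4_comm_nil 14 21 (by omega) (by omega) (by omega) (by omega) (by omega)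
    (d4_commT_nil (14, 21) (by decide)) t u

theorem d4s14_21' (t u : F) (Z : GL chevD4.Idx F) : xd 21 u * (xd 14 t * Z) = xd 14 t * (xd 21 u * Z) := by
  rw [← mul_assoc, d4s14_21, mul_assoc]

theorem d4s14_22 (t u : F) : xd 22 u * xd 14 t = xd 14 t * (xd 22 u * xd 23 (t * u)) :=
  d4_sw 14 22 23 (by omega) (by omega) (by omega) (by omega) (by omega)
    (d4_commT_tbl (14, 22, 23) (by decide)).1 t u

theorem d4s14_22' (t u : F) (Z : GL chevD4.Idx F) :
    xd 22 u * (xd 14 t * Z) = xd 14 t * (xd 22 u * (xd 23 (t * u) * Z)) := by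
  rw [← mul_assoc, d4s14_22]; simp only [mul_assoc]

theorem d4s14_23 (t u : F) : xd 23 u * xd 14 t = xd 14 t * xd 23 u :=
  d4_comm_nil 14 23 (by omega) (by omega) (by omega) (by omega) (by omega)
    (d4_commT_nil (14, 23) (by decide)) t u

theorem d4s14_23' (t u : F) (Z : GL chevD4.Idx F) : xd 23 u * (xd 14 t * Z) = xd 14 t * (xd 23 u * Z) := by
  rw [← mul_assoc, d4s14_23, mul_assoc]

theorem d4s18_13 (t u : F) : xd 13 u * xd 18 t = xd 18 t * xd 13 u :=
  d4_comm_nil 18 13 (by omega) (by omega) (by omega) (by omega) (by omega)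
    (d4_commT_nil (18, 13) (by decide)) t u

theorem d4s18_13' (t u : F) (Z : GL chevD4.Idx F) : xd 13 u * (xd 18 t * Z) = xd 18 t * (xd 13 u * Z) := by
  rw [← mul_assoc, d4s18_13, mul_assoc]

theorem d4s18_12 (t u : F) : xd 12 u * xd 18 t = xd 18 t * xd 12 u :=
  d4_comm_nil 18 12 (by omega) (by omega) (by omega) (by omega) (by omega)
    (d4_commT_nil (18, 12) (by decide)) t u

theorem d4s18_12' (t u : F) (Z : GL chevD4.Idx F) : xd 12 u * (xd 18 t * Z) = xd 18 t * (xd 12 u * Z) := by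
  rw [← mul_assoc, d4s18_12, mul_assoc]

theorem d4s18_15 (t u : F) : xd 15 u * xd 18 t = xd 18 t * (xd 15 u * xd 20 (t * u)) :=
  d4_sw 18 15 20 (by omega) (by omega) (by omega) (by omega) (by omega)
    (d4_commT_tbl (15, 18, 20) (by decide)).2 t u

theorem d4s18_15' (t u : F) (Z : GL chevD4.Idx F) :
    xd 15 u * (xd 18 t * Z) = xd 18 t * (xd 15 u * (xd 20 (t * u) * Z)) := by
  rw [← mul_assoc, d4s18_15]; simp only [mul_assoc]

theorem d4s18_19 (t u : F) : xd 19 u * xd 18 t = xd 18 t * xd 19 u :=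
  d4_comm_nil 18 19 (by omega) (by omega) (by omega) (by omega) (by omega)
    (d4_commT_nil (18, 19) (by decide)) t u

theorem d4s18_19' (t u : F) (Z : GL chevD4.Idx F) : xd 19 u * (xd 18 t * Z) = xd 18 t * (xd 19 u * Z) := by
  rw [← mul_assoc, d4s18_19, mul_assoc]

theorem d4s18_16 (t u : F) : xd 16 u * xd 18 t = xd 18 t * (xd 16 u * xd 21 (t * u)) :=
  d4_sw 18 16 21 (by omega) (by omega) (by omega) (by omega) (by omega)
    (d4_commT_tbl (16, 18, 21) (by decide)).2 t u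

theorem d4s18_16' (t u : F) (Z : GL chevD4.Idx F) :
    xd 16 u * (xd 18 t * Z) = xd 18 t * (xd 16 u * (xd 21 (t * u) * Z)) := by
  rw [← mul_assoc, d4s18_16]; simp only [mul_assoc]

theorem d4s18_17 (t u : F) : xd 17 u * xd 18 t = xd 18 t * (xd 17 u * xd 22 (t * u)) :=
  d4_sw 18 17 22 (by omega) (by omega) (by omega) (by omega) (by omega)
    (d4_commT_tbl (17, 18, 22) (by decide)).2 t u

theorem d4s18_17' (t u : F) (Z : GL chevD4.Idx F) :
    xd 17 u * (xd 18 t * Z) = xd 18 t * (xd 17 u * (xd 22 (t * u) * Z)) := by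
  rw [← mul_assoc, d4s18_17]; simp only [mul_assoc]

theorem d4s18_20 (t u : F) : xd 20 u * xd 18 t = xd 18 t * xd 20 u :=
  d4_comm_nil 18 20 (by omega) (by omega) (by omega) (by omega) (by omega)
    (d4_commT_nil (18, 20) (by decide)) t u

theorem d4s18_20' (t u : F) (Z : GL chevD4.Idx F) : xd 20 u * (xd 18 t * Z) = xd 18 t * (xd 20 u * Z) := by
  rw [← mul_assoc, d4s18_20, mul_assoc]

theorem d4s18_21 (t u : F) : xd 21 u * xd 18 t = xd 18 t * xd 21 u :=
  d4_comm_nil 18 21 (by omega) (by omega) (by omega) (by omega) (by omega)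
    (d4_commT_nil (18, 21) (by decide)) t u

theorem d4s18_21' (t u : F) (Z : GL chevD4.Idx F) : xd 21 u * (xd 18 t * Z) = xd 18 t * (xd 21 u * Z) := by
  rw [← mul_assoc, d4s18_21, mul_assoc]

theorem d4s18_22 (t u : F) : xd 22 u * xd 18 t = xd 18 t * xd 22 u :=
  d4_comm_nil 18 22 (by omega) (by omega) (by omega) (by omega) (by omega)
    (d4_commT_nil (18, 22) (by decide)) t u

theorem d4s18_22' (t u : F) (Z : GL chevD4.Idx F) : xd 22 u * (xd 18 t * Z) = xd 18 t * (xd 22 u * Z) := by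
  rw [← mul_assoc, d4s18_22, mul_assoc]

theorem d4s18_23 (t u : F) : xd 23 u * xd 18 t = xd 18 t * xd 23 u :=
  d4_comm_nil 18 23 (by omega) (by omega) (by omega) (by omega) (by omega)
    (d4_commT_nil (18, 23) (by decide)) t u

theorem d4s18_23' (t u : F) (Z : GL chevD4.Idx F) : xd 23 u * (xd 18 t * Z) = xd 18 t * (xd 23 u * Z) := by
  rw [← mul_assoc, d4s18_23, mul_assoc]

theorem d4s13_12 (t u : F) : xd 12 u * xd 13 t = xd 13 t * xd 12 u :=
  d4_comm_nil 13 12 (by omega) (by omega) (by omega) (by omega) (by omega)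
    (d4_commT_nil (13, 12) (by decide)) t u

theorem d4s13_12' (t u : F) (Z : GL chevD4.Idx F) : xd 12 u * (xd 13 t * Z) = xd 13 t * (xd 12 u * Z) := by
  rw [← mul_assoc, d4s13_12, mul_assoc]

theorem d4s13_15 (t u : F) : xd 15 u * xd 13 t = xd 13 t * (xd 15 u * xd 17 (t * u)) :=
  d4_sw 13 15 17 (by omega) (by omega) (by omega) (by omega) (by omega)
    (d4_commT_tbl (13, 15, 17) (by decide)).1 t u

theorem d4s13_15' (t u : F) (Z : GL chevD4.Idx F) :
    xd 15 u * (xd 13 t * Z) = xd 13 t * (xd 15 u * (xd 17 (t * u) * Z)) := by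
  rw [← mul_assoc, d4s13_15]; simp only [mul_assoc]

theorem d4s13_19 (t u : F) : xd 19 u * xd 13 t = xd 13 t * (xd 19 u * xd 21 (t * u)) :=
  d4_sw 13 19 21 (by omega) (by omega) (by omega) (by omega) (by omega)
    (d4_commT_tbl (13, 19, 21) (by decide)).1 t u

theorem d4s13_19' (t u : F) (Z : GL chevD4.Idx F) :
    xd 19 u * (xd 13 t * Z) = xd 13 t * (xd 19 u * (xd 21 (t * u) * Z)) := by
  rw [← mul_assoc, d4s13_19]; simp only [mul_assoc]

theorem d4s13_16 (t u : F) : xd 16 u * xd 13 t = xd 13 t * xd 16 u :=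
  d4_comm_nil 13 16 (by omega) (by omega) (by omega) (by omega) (by omega)
    (d4_commT_nil (13, 16) (by decide)) t u

theorem d4s13_16' (t u : F) (Z : GL chevD4.Idx F) : xd 16 u * (xd 13 t * Z) = xd 13 t * (xd 16 u * Z) := by
  rw [← mul_assoc, d4s13_16, mul_assoc]

theorem d4s13_17 (t u : F) : xd 17 u * xd 13 t = xd 13 t * xd 17 u :=
  d4_comm_nil 13 17 (by omega) (by omega) (by omega) (by omega) (by omega)
    (d4_commT_nil (13, 17) (by decide)) t u

theorem d4s13_17' (t u : F) (Z : GL chevD4.Idx F) : xd 17 u * (xd 13 t * Z) = xd 13 t * (xd 17 u * Z) := by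
  rw [← mul_assoc, d4s13_17, mul_assoc]

theorem d4s13_20 (t u : F) : xd 20 u * xd 13 t = xd 13 t * (xd 20 u * xd 22 (t * u)) :=
  d4_sw 13 20 22 (by omega) (by omega) (by omega) (by omega) (by omega)
    (d4_commT_tbl (13, 20, 22) (by decide)).1 t u

theorem d4s13_20' (t u : F) (Z : GL chevD4.Idx F) :
    xd 20 u * (xd 13 t * Z) = xd 13 t * (xd 20 u * (xd 22 (t * u) * Z)) := by
  rw [← mul_assoc, d4s13_20]; simp only [mul_assoc]

theorem d4s13_21 (t u : F) : xd 21 u * xd 13 t = xd 13 t * xd 21 u :=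
  d4_comm_nil 13 21 (by omega) (by omega) (by omega) (by omega) (by omega)
    (d4_commT_nil (13, 21) (by decide)) t u

theorem d4s13_21' (t u : F) (Z : GL chevD4.Idx F) : xd 21 u * (xd 13 t * Z) = xd 13 t * (xd 21 u * Z) := by
  rw [← mul_assoc, d4s13_21, mul_assoc]

theorem d4s13_22 (t u : F) : xd 22 u * xd 13 t = xd 13 t * xd 22 u :=
  d4_comm_nil 13 22 (by omega) (by omega) (by omega) (by omega) (by omega)
    (d4_commT_nil (13, 22) (by decide)) t u

theorem d4s13_22' (t u : F) (Z : GL chevD4.Idx F) : xd 22 u * (xd 13 t * Z) = xd 13 t * (xd 22 u * Z) := by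
  rw [← mul_assoc, d4s13_22, mul_assoc]

theorem d4s13_23 (t u : F) : xd 23 u * xd 13 t = xd 13 t * xd 23 u :=
  d4_comm_nil 13 23 (by omega) (by omega) (by omega) (by omega) (by omega)
    (d4_commT_nil (13, 23) (by decide)) t u

theorem d4s13_23' (t u : F) (Z : GL chevD4.Idx F) : xd 23 u * (xd 13 t * Z) = xd 13 t * (xd 23 u * Z) := by
  rw [← mul_assoc, d4s13_23, mul_assoc]

theorem d4s12_15 (t u : F) : xd 15 u * xd 12 t = xd 12 t * xd 15 u :=
  d4_comm_nil 12 15 (by omega) (by omega) (by omega) (by omega) (by omega)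
    (d4_commT_nil (12, 15) (by decide)) t u

theorem d4s12_15' (t u : F) (Z : GL chevD4.Idx F) : xd 15 u * (xd 12 t * Z) = xd 12 t * (xd 15 u * Z) := by
  rw [← mul_assoc, d4s12_15, mul_assoc]

theorem d4s12_19 (t u : F) : xd 19 u * xd 12 t = xd 12 t * (xd 19 u * xd 20 (t * u)) :=
  d4_sw 12 19 20 (by omega) (by omega) (by omega) (by omega) (by omega)
    (d4_commT_tbl (12, 19, 20) (by decide)).1 t u

theorem d4s12_19' (t u : F) (Z : GL chevD4.Idx F) :
    xd 19 u * (xd 12 t * Z) = xd 12 t * (xd 19 u * (xd 20 (t * u) * Z)) := by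
  rw [← mul_assoc, d4s12_19]; simp only [mul_assoc]

theorem d4s12_16 (t u : F) : xd 16 u * xd 12 t = xd 12 t * (xd 16 u * xd 17 (t * u)) :=
  d4_sw 12 16 17 (by omega) (by omega) (by omega) (by omega) (by omega)
    (d4_commT_tbl (12, 16, 17) (by decide)).1 t u

theorem d4s12_16' (t u : F) (Z : GL chevD4.Idx F) :
    xd 16 u * (xd 12 t * Z) = xd 12 t * (xd 16 u * (xd 17 (t * u) * Z)) := by
  rw [← mul_assoc, d4s12_16]; simp only [mul_assoc]

theorem d4s12_17 (t u : F) : xd 17 u * xd 12 t = xd 12 t * xd 17 u :=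
  d4_comm_nil 12 17 (by omega) (by omega) (by omega) (by omega) (by omega)
    (d4_commT_nil (12, 17) (by decide)) t u

theorem d4s12_17' (t u : F) (Z : GL chevD4.Idx F) : xd 17 u * (xd 12 t * Z) = xd 12 t * (xd 17 u * Z) := by
  rw [← mul_assoc, d4s12_17, mul_assoc]

theorem d4s12_20 (t u : F) : xd 20 u * xd 12 t = xd 12 t * xd 20 u :=
  d4_comm_nil 12 20 (by omega) (by omega) (by omega) (by omega) (by omega)
    (d4_commT_nil (12, 20) (by decide)) t u

theorem d4s12_20' (t u : F) (Z : GL chevD4.Idx F) : xd 20 u * (xd 12 t * Z) = xd 12 t * (xd 20 u * Z) := by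
  rw [← mul_assoc, d4s12_20, mul_assoc]

theorem d4s12_21 (t u : F) : xd 21 u * xd 12 t = xd 12 t * (xd 21 u * xd 22 (t * u)) :=
  d4_sw 12 21 22 (by omega) (by omega) (by omega) (by omega) (by omega)
    (d4_commT_tbl (12, 21, 22) (by decide)).1 t u

theorem d4s12_21' (t u : F) (Z : GL chevD4.Idx F) :
    xd 21 u * (xd 12 t * Z) = xd 12 t * (xd 21 u * (xd 22 (t * u) * Z)) := by
  rw [← mul_assoc, d4s12_21]; simp only [mul_assoc]

theorem d4s12_22 (t u : F) : xd 22 u * xd 12 t = xd 12 t * xd 22 u :=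
  d4_comm_nil 12 22 (by omega) (by omega) (by omega) (by omega) (by omega)
    (d4_commT_nil (12, 22) (by decide)) t u

theorem d4s12_22' (t u : F) (Z : GL chevD4.Idx F) : xd 22 u * (xd 12 t * Z) = xd 12 t * (xd 22 u * Z) := by
  rw [← mul_assoc, d4s12_22, mul_assoc]

theorem d4s12_23 (t u : F) : xd 23 u * xd 12 t = xd 12 t * xd 23 u :=
  d4_comm_nil 12 23 (by omega) (by omega) (by omega) (by omega) (by omega)
    (d4_commT_nil (12, 23) (by decide)) t u

theorem d4s12_23' (t u : F) (Z : GL chevD4.Idx F) : xd 23 u * (xd 12 t * Z) = xd 12 t * (xd 23 u * Z) := by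
  rw [← mul_assoc, d4s12_23, mul_assoc]

theorem d4s15_19 (t u : F) : xd 19 u * xd 15 t = xd 15 t * xd 19 u :=
  d4_comm_nil 15 19 (by omega) (by omega) (by omega) (by omega) (by omega)
    (d4_commT_nil (15, 19) (by decide)) t u

theorem d4s15_19' (t u : F) (Z : GL chevD4.Idx F) : xd 19 u * (xd 15 t * Z) = xd 15 t * (xd 19 u * Z) := by
  rw [← mul_assoc, d4s15_19, mul_assoc]

theorem d4s15_16 (t u : F) : xd 16 u * xd 15 t = xd 15 t * xd 16 u :=
  d4_comm_nil 15 16 (by omega) (by omega) (by omega) (by omega) (by omega)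
    (d4_commT_nil (15, 16) (by decide)) t u

theorem d4s15_16' (t u : F) (Z : GL chevD4.Idx F) : xd 16 u * (xd 15 t * Z) = xd 15 t * (xd 16 u * Z) := by
  rw [← mul_assoc, d4s15_16, mul_assoc]

theorem d4s15_17 (t u : F) : xd 17 u * xd 15 t = xd 15 t * xd 17 u :=
  d4_comm_nil 15 17 (by omega) (by omega) (by omega) (by omega) (by omega)
    (d4_commT_nil (15, 17) (by decide)) t u

theorem d4s15_17' (t u : F) (Z : GL chevD4.Idx F) : xd 17 u * (xd 15 t * Z) = xd 15 t * (xd 17 u * Z) := by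
  rw [← mul_assoc, d4s15_17, mul_assoc]

theorem d4s15_20 (t u : F) : xd 20 u * xd 15 t = xd 15 t * xd 20 u :=
  d4_comm_nil 15 20 (by omega) (by omega) (by omega) (by omega) (by omega)
    (d4_commT_nil (15, 20) (by decide)) t u

theorem d4s15_20' (t u : F) (Z : GL chevD4.Idx F) : xd 20 u * (xd 15 t * Z) = xd 15 t * (xd 20 u * Z) := by
  rw [← mul_assoc, d4s15_20, mul_assoc]

theorem d4s15_21 (t u : F) : xd 21 u * xd 15 t = xd 15 t * (xd 21 u * xd 23 (t * u)) :=
  d4_sw 15 21 23 (by omega) (by omega) (by omega) (by omega) (by omega)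
    (d4_commT_tbl (15, 21, 23) (by decide)).1 t u

theorem d4s15_21' (t u : F) (Z : GL chevD4.Idx F) :
    xd 21 u * (xd 15 t * Z) = xd 15 t * (xd 21 u * (xd 23 (t * u) * Z)) := by
  rw [← mul_assoc, d4s15_21]; simp only [mul_assoc]

theorem d4s15_22 (t u : F) : xd 22 u * xd 15 t = xd 15 t * xd 22 u :=
  d4_comm_nil 15 22 (by omega) (by omega) (by omega) (by omega) (by omega)
    (d4_commT_nil (15, 22) (by decide)) t u

theorem d4s15_22' (t u : F) (Z : GL chevD4.Idx F) : xd 22 u * (xd 15 t * Z) = xd 15 t * (xd 22 u * Z) := by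
  rw [← mul_assoc, d4s15_22, mul_assoc]

theorem d4s15_23 (t u : F) : xd 23 u * xd 15 t = xd 15 t * xd 23 u :=
  d4_comm_nil 15 23 (by omega) (by omega) (by omega) (by omega) (by omega)
    (d4_commT_nil (15, 23) (by decide)) t u

theorem d4s15_23' (t u : F) (Z : GL chevD4.Idx F) : xd 23 u * (xd 15 t * Z) = xd 15 t * (xd 23 u * Z) := by
  rw [← mul_assoc, d4s15_23, mul_assoc]

theorem d4s19_16 (t u : F) : xd 16 u * xd 19 t = xd 19 t * xd 16 u :=
  d4_comm_nil 19 16 (by omega) (by omega) (by omega) (by omega) (by omega)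
    (d4_commT_nil (19, 16) (by decide)) t u

theorem d4s19_16' (t u : F) (Z : GL chevD4.Idx F) : xd 16 u * (xd 19 t * Z) = xd 19 t * (xd 16 u * Z) := by
  rw [← mul_assoc, d4s19_16, mul_assoc]

theorem d4s19_17 (t u : F) : xd 17 u * xd 19 t = xd 19 t * (xd 17 u * xd 23 (t * u)) :=
  d4_sw 19 17 23 (by omega) (by omega) (by omega) (by omega) (by omega)
    (d4_commT_tbl (17, 19, 23) (by decide)).2 t u

theorem d4s19_17' (t u : F) (Z : GL chevD4.Idx F) :
    xd 17 u * (xd 19 t * Z) = xd 19 t * (xd 17 u * (xd 23 (t * u) * Z)) := by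
  rw [← mul_assoc, d4s19_17]; simp only [mul_assoc]

theorem d4s19_20 (t u : F) : xd 20 u * xd 19 t = xd 19 t * xd 20 u :=
  d4_comm_nil 19 20 (by omega) (by omega) (by omega) (by omega) (by omega)
    (d4_commT_nil (19, 20) (by decide)) t u

theorem d4s19_20' (t u : F) (Z : GL chevD4.Idx F) : xd 20 u * (xd 19 t * Z) = xd 19 t * (xd 20 u * Z) := by
  rw [← mul_assoc, d4s19_20, mul_assoc]

theorem d4s19_21 (t u : F) : xd 21 u * xd 19 t = xd 19 t * xd 21 u :=
  d4_comm_nil 19 21 (by omega) (by omega) (by omega) (by omega) (by omega)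
    (d4_commT_nil (19, 21) (by decide)) t u

theorem d4s19_21' (t u : F) (Z : GL chevD4.Idx F) : xd 21 u * (xd 19 t * Z) = xd 19 t * (xd 21 u * Z) := by
  rw [← mul_assoc, d4s19_21, mul_assoc]

theorem d4s19_22 (t u : F) : xd 22 u * xd 19 t = xd 19 t * xd 22 u :=
  d4_comm_nil 19 22 (by omega) (by omega) (by omega) (by omega) (by omega)
    (d4_commT_nil (19, 22) (by decide)) t u

theorem d4s19_22' (t u : F) (Z : GL chevD4.Idx F) : xd 22 u * (xd 19 t * Z) = xd 19 t * (xd 22 u * Z) := by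
  rw [← mul_assoc, d4s19_22, mul_assoc]

theorem d4s19_23 (t u : F) : xd 23 u * xd 19 t = xd 19 t * xd 23 u :=
  d4_comm_nil 19 23 (by omega) (by omega) (by omega) (by omega) (by omega)
    (d4_commT_nil (19, 23) (by decide)) t u

theorem d4s19_23' (t u : F) (Z : GL chevD4.Idx F) : xd 23 u * (xd 19 t * Z) = xd 19 t * (xd 23 u * Z) := by
  rw [← mul_assoc, d4s19_23, mul_assoc]

theorem d4s16_17 (t u : F) : xd 17 u * xd 16 t = xd 16 t * xd 17 u :=
  d4_comm_nil 16 17 (by omega) (by omega) (by omega) (by omega) (by omega)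
    (d4_commT_nil (16, 17) (by decide)) t u

theorem d4s16_17' (t u : F) (Z : GL chevD4.Idx F) : xd 17 u * (xd 16 t * Z) = xd 16 t * (xd 17 u * Z) := by
  rw [← mul_assoc, d4s16_17, mul_assoc]

theorem d4s16_20 (t u : F) : xd 20 u * xd 16 t = xd 16 t * (xd 20 u * xd 23 (t * u)) :=
  d4_sw 16 20 23 (by omega) (by omega) (by omega) (by omega) (by omega)
    (d4_commT_tbl (16, 20, 23) (by decide)).1 t u

theorem d4s16_20' (t u : F) (Z : GL chevD4.Idx F) :
    xd 20 u * (xd 16 t * Z) = xd 16 t * (xd 20 u * (xd 23 (t * u) * Z)) := by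
  rw [← mul_assoc, d4s16_20]; simp only [mul_assoc]

theorem d4s16_21 (t u : F) : xd 21 u * xd 16 t = xd 16 t * xd 21 u :=
  d4_comm_nil 16 21 (by omega) (by omega) (by omega) (by omega) (by omega)
    (d4_commT_nil (16, 21) (by decide)) t u

theorem d4s16_21' (t u : F) (Z : GL chevD4.Idx F) : xd 21 u * (xd 16 t * Z) = xd 16 t * (xd 21 u * Z) := by
  rw [← mul_assoc, d4s16_21, mul_assoc]

theorem d4s16_22 (t u : F) : xd 22 u * xd 16 t = xd 16 t * xd 22 u :=
  d4_comm_nil 16 22 (by omega) (by omega) (by omega) (by omega) (by omega)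
    (d4_commT_nil (16, 22) (by decide)) t u

theorem d4s16_22' (t u : F) (Z : GL chevD4.Idx F) : xd 22 u * (xd 16 t * Z) = xd 16 t * (xd 22 u * Z) := by
  rw [← mul_assoc, d4s16_22, mul_assoc]

theorem d4s16_23 (t u : F) : xd 23 u * xd 16 t = xd 16 t * xd 23 u :=
  d4_comm_nil 16 23 (by omega) (by omega) (by omega) (by omega) (by omega)
    (d4_commT_nil (16, 23) (by decide)) t u

theorem d4s16_23' (t u : F) (Z : GL chevD4.Idx F) : xd 23 u * (xd 16 t * Z) = xd 16 t * (xd 23 u * Z) := by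
  rw [← mul_assoc, d4s16_23, mul_assoc]

theorem d4s17_20 (t u : F) : xd 20 u * xd 17 t = xd 17 t * xd 20 u :=
  d4_comm_nil 17 20 (by omega) (by omega) (by omega) (by omega) (by omega)
    (d4_commT_nil (17, 20) (by decide)) t u

theorem d4s17_20' (t u : F) (Z : GL chevD4.Idx F) : xd 20 u * (xd 17 t * Z) = xd 17 t * (xd 20 u * Z) := by
  rw [← mul_assoc, d4s17_20, mul_assoc]

theorem d4s17_21 (t u : F) : xd 21 u * xd 17 t = xd 17 t * xd 21 u :=
  d4_comm_nil 17 21 (by omega) (by omega) (by omega) (by omega) (by omega)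
    (d4_commT_nil (17, 21) (by decide)) t u

theorem d4s17_21' (t u : F) (Z : GL chevD4.Idx F) : xd 21 u * (xd 17 t * Z) = xd 17 t * (xd 21 u * Z) := by
  rw [← mul_assoc, d4s17_21, mul_assoc]

theorem d4s17_22 (t u : F) : xd 22 u * xd 17 t = xd 17 t * xd 22 u :=
  d4_comm_nil 17 22 (by omega) (by omega) (by omega) (by omega) (by omega)
    (d4_commT_nil (17, 22) (by decide)) t u

theorem d4s17_22' (t u : F) (Z : GL chevD4.Idx F) : xd 22 u * (xd 17 t * Z) = xd 17 t * (xd 22 u * Z) := by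
  rw [← mul_assoc, d4s17_22, mul_assoc]

theorem d4s17_23 (t u : F) : xd 23 u * xd 17 t = xd 17 t * xd 23 u :=
  d4_comm_nil 17 23 (by omega) (by omega) (by omega) (by omega) (by omega)
    (d4_commT_nil (17, 23) (by decide)) t u

theorem d4s17_23' (t u : F) (Z : GL chevD4.Idx F) : xd 23 u * (xd 17 t * Z) = xd 17 t * (xd 23 u * Z) := by
  rw [← mul_assoc, d4s17_23, mul_assoc]

theorem d4s20_21 (t u : F) : xd 21 u * xd 20 t = xd 20 t * xd 21 u :=
  d4_comm_nil 20 21 (by omega) (by omega) (by omega) (by omega) (by omega)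
    (d4_commT_nil (20, 21) (by decide)) t u

theorem d4s20_21' (t u : F) (Z : GL chevD4.Idx F) : xd 21 u * (xd 20 t * Z) = xd 20 t * (xd 21 u * Z) := by
  rw [← mul_assoc, d4s20_21, mul_assoc]

theorem d4s20_22 (t u : F) : xd 22 u * xd 20 t = xd 20 t * xd 22 u :=
  d4_comm_nil 20 22 (by omega) (by omega) (by omega) (by omega) (by omega)
    (d4_commT_nil (20, 22) (by decide)) t u

theorem d4s20_22' (t u : F) (Z : GL chevD4.Idx F) : xd 22 u * (xd 20 t * Z) = xd 20 t * (xd 22 u * Z) := by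
  rw [← mul_assoc, d4s20_22, mul_assoc]

theorem d4s20_23 (t u : F) : xd 23 u * xd 20 t = xd 20 t * xd 23 u :=
  d4_comm_nil 20 23 (by omega) (by omega) (by omega) (by omega) (by omega)
    (d4_commT_nil (20, 23) (by decide)) t u

theorem d4s20_23' (t u : F) (Z : GL chevD4.Idx F) : xd 23 u * (xd 20 t * Z) = xd 20 t * (xd 23 u * Z) := by
  rw [← mul_assoc, d4s20_23, mul_assoc]

theorem d4s21_22 (t u : F) : xd 22 u * xd 21 t = xd 21 t * xd 22 u :=
  d4_comm_nil 21 22 (by omega) (by omega) (by omega) (by omega) (by omega)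
    (d4_commT_nil (21, 22) (by decide)) t u

theorem d4s21_22' (t u : F) (Z : GL chevD4.Idx F) : xd 22 u * (xd 21 t * Z) = xd 21 t * (xd 22 u * Z) := by
  rw [← mul_assoc, d4s21_22, mul_assoc]

theorem d4s21_23 (t u : F) : xd 23 u * xd 21 t = xd 21 t * xd 23 u :=
  d4_comm_nil 21 23 (by omega) (by omega) (by omega) (by omega) (by omega)
    (d4_commT_nil (21, 23) (by decide)) t u

theorem d4s21_23' (t u : F) (Z : GL chevD4.Idx F) : xd 23 u * (xd 21 t * Z) = xd 21 t * (xd 23 u * Z) := by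
  rw [← mul_assoc, d4s21_23, mul_assoc]

theorem d4s22_23 (t u : F) : xd 23 u * xd 22 t = xd 22 t * xd 23 u :=
  d4_comm_nil 22 23 (by omega) (by omega) (by omega) (by omega) (by omega)
    (d4_commT_nil (22, 23) (by decide)) t u

theorem d4s22_23' (t u : F) (Z : GL chevD4.Idx F) : xd 23 u * (xd 22 t * Z) = xd 22 t * (xd 23 u * Z) := by
  rw [← mul_assoc, d4s22_23, mul_assoc]

end D4

end Cfsg.Agent.Lib.H29.Chev
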