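import Mathlib
import Cfsg.Prelude.Def_ChevStructure
import Cfsg.Prelude.Def_LieTwisted
import Cfsg.Agent.Lib.H29.D4Inv1
import Cfsg.Agent.Lib.H29.ChevFoldSD4G2

/-!
# The unipotent subgroup of the twisted group of type `D₄` in characteristic two: the normal form
-/

set_option autoImplicit false
set_option linter.unusedSectionVars false
set_option linter.unusedSimpArgs false
set_option linter.unusedVariables false

namespace Cfsg.Agent.Lib.H29.Chev

open Cfsg.Lie Matrix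

section D4

variable {K : Type*} [Field K] [CharP K 2] (φ : K →+* K)

local notation "xd" => cert12_D4.c6.c2.xA

/-- the normal form of the elements of `U¹` -/
noncomputable def d4E (u a c d e f : K) : GL chevD4.Idx K :=
  xd 14 u * (xd 18 a * (xd 13 (φ a) * (xd 12 (φ (φ a)) * (xd 15 c * (xd 19 (φ c) * (xd 16 (φ (φ c)) *
    (xd 17 d * (xd 20 (φ d) * (xd 21 (φ (φ d)) * (xd 22 e * xd 23 f))))))))))

theorem d4_os : fdD4.os gaD4a 3 14 = 1 ∧ fdD4.os gaD4a 3 18 = 3 ∧ fdD4.os gaD4a 3 15 = 3 ∧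
    fdD4.os gaD4a 3 17 = 3 ∧ fdD4.os gaD4a 3 22 = 1 ∧ fdD4.os gaD4a 3 23 = 1 := by decide

theorem d4_gIt : fdD4.gIt gaD4a 1 18 = 13 ∧ fdD4.gIt gaD4a 2 18 = 12 ∧ fdD4.gIt gaD4a 1 15 = 19 ∧
    fdD4.gIt gaD4a 2 15 = 16 ∧ fdD4.gIt gaD4a 1 17 = 20 ∧ fdD4.gIt gaD4a 2 17 = 21 := by decide

theorem d4_eProd : fdD4.eProd gaD4a 18 1 = 1 ∧ fdD4.eProd gaD4a 18 2 = 1 ∧ fdD4.eProd gaD4a 15 1 = -1 ∧
    fdD4.eProd gaD4a 15 2 = 1 ∧ fdD4.eProd gaD4a 17 1 = -1 ∧ fdD4.eProd gaD4a 17 2 = -1 := by decide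

theorem d4_eProd0 (r : ℕ) : fdD4.eProd gaD4a r 0 = 1 := rfl

theorem xS14 (u : K) : cert12_D4.xS gaD4a 3 φ 14 u = xd 14 u := by
  unfold Cert12.xS
  rw [d4_os.1]
  simp [Cert12.aj, FD.gIt, FD.eProd]

theorem xS22 (u : K) : cert12_D4.xS gaD4a 3 φ 22 u = xd 22 u := by
  unfold Cert12.xS
  rw [d4_os.2.2.2.2.1]
  simp [Cert12.aj, FD.gIt, FD.eProd]

theorem xS23 (u : K) : cert12_D4.xS gaD4a 3 φ 23 u = xd 23 u := by
  unfold Cert12.xS
  rw [d4_os.2.2.2.2.2]
  simp [Cert12.aj, FD.gIt, FD.eProd]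

theorem xS18 (a : K) : cert12_D4.xS gaD4a 3 φ 18 a = xd 18 a * (xd 13 (φ a) * xd 12 (φ (φ a))) := by
  unfold Cert12.xS
  rw [d4_os.2.1]
  simp only [List.range_succ, List.range_zero, List.nil_append, List.cons_append, List.map_cons, List.map_nil,
    List.prod_cons, List.prod_nil, mul_one, Cert12.aj, d4_gIt.1, d4_gIt.2.1, d4_eProd.1, d4_eProd.2.1,
    Function.iterate_succ, Function.iterate_zero, Function.comp, id, Int.cast_one, one_mul, FD.gIt_zero, d4_eProd0]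

theorem xS15 (a : K) : cert12_D4.xS gaD4a 3 φ 15 a = xd 15 a * (xd 19 (φ a) * xd 16 (φ (φ a))) := by
  unfold Cert12.xS
  rw [d4_os.2.2.1]
  simp only [List.range_succ, List.range_zero, List.nil_append, List.cons_append, List.map_cons, List.map_nil,
    List.prod_cons, List.prod_nil, mul_one, Cert12.aj, d4_gIt.2.2.1, d4_gIt.2.2.2.1, d4_eProd.2.2.1, d4_eProd.2.2.2.1,
    Function.iterate_succ, Function.iterate_zero, Function.comp, id, Int.cast_one, Int.cast_neg, one_mul,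
    neg_eq_self_F, FD.gIt_zero, d4_eProd0]

theorem xS17 (a : K) : cert12_D4.xS gaD4a 3 φ 17 a = xd 17 a * (xd 20 (φ a) * xd 21 (φ (φ a))) := by
  unfold Cert12.xS
  rw [d4_os.2.2.2.1]
  simp only [List.range_succ, List.range_zero, List.nil_append, List.cons_append, List.map_cons, List.map_nil,
    List.prod_cons, List.prod_nil, mul_one, Cert12.aj, d4_gIt.2.2.2.2.1, d4_gIt.2.2.2.2.2, d4_eProd.2.2.2.2.1,
    d4_eProd.2.2.2.2.2, Function.iterate_succ, Function.iterate_zero, Function.comp, id, Int.cast_one, Int.cast_neg,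
    one_mul, neg_eq_self_F, FD.gIt_zero, d4_eProd0]

end D4

end Cfsg.Agent.Lib.H29.Chev
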