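import Mathlib
import Cfsg.Prelude.Def_ChevStructure
import Cfsg.Prelude.Def_LieTwisted
import Cfsg.Agent.Lib.H29.D4Inv2

/-!
# The unipotent subgroup of the twisted group of type `D₄` in characteristic two: products
-/

set_option autoImplicit false
set_option linter.unusedSectionVars false
set_option linter.unusedSimpArgs false
set_option linter.unusedVariables false

namespace Cfsg.Agent.Lib.H29.Chev

open Cfsg.Lie Matrix

section D4

variable {K : Type*} [Field K] [CharP K 2] (φ : K →+* K)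

local notation "xd" => cert12_D4.c6.c2.xA

theorem c2_2 : (2 : K) = 0 := two_eq_zero_F
theorem c2_3 : (3 : K) = 1 := by have := c2_2 (K := K); linear_combination this
theorem c2_4 : (4 : K) = 0 := by have := c2_2 (K := K); linear_combination 2 * this
theorem c2_5 : (5 : K) = 1 := by have := c2_2 (K := K); linear_combination 2 * this
theorem c2_6 : (6 : K) = 0 := by have := c2_2 (K := K); linear_combination 3 * this
theorem c2_7 : (7 : K) = 1 := by have := c2_2 (K := K); linear_combination 3 * this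
theorem c2_8 : (8 : K) = 0 := by have := c2_2 (K := K); linear_combination 4 * this
theorem c2_9 : (9 : K) = 1 := by have := c2_2 (K := K); linear_combination 4 * this
theorem c2_10 : (10 : K) = 0 := by have := c2_2 (K := K); linear_combination 5 * this
theorem c2_11 : (11 : K) = 1 := by have := c2_2 (K := K); linear_combination 5 * this
theorem c2_12 : (12 : K) = 0 := by have := c2_2 (K := K); linear_combination 6 * this

/-- the twisted root elements of the short roots -/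
noncomputable def d4A (a : K) : GL chevD4.Idx K := xd 18 a * (xd 13 (φ a) * xd 12 (φ (φ a)))

noncomputable def d4C (a : K) : GL chevD4.Idx K := xd 15 a * (xd 19 (φ a) * xd 16 (φ (φ a)))

noncomputable def d4D (a : K) : GL chevD4.Idx K := xd 17 a * (xd 20 (φ a) * xd 21 (φ (φ a)))

theorem d4_ext12 {t1 t2 t3 t4 t5 t6 t7 t8 t9 t10 t11 t12 s1 s2 s3 s4 s5 s6 s7 s8 s9 s10 s11 s12 : K}
    (h1 : t1 = s1) (h2 : t2 = s2) (h3 : t3 = s3) (h4 : t4 = s4) (h5 : t5 = s5) (h6 : t6 = s6) (h7 : t7 = s7)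
    (h8 : t8 = s8) (h9 : t9 = s9) (h10 : t10 = s10) (h11 : t11 = s11) (h12 : t12 = s12) :
    xd 14 t1 * (xd 18 t2 * (xd 13 t3 * (xd 12 t4 * (xd 15 t5 * (xd 19 t6 * (xd 16 t7 * (xd 17 t8 * (xd 20 t9 *
      (xd 21 t10 * (xd 22 t11 * xd 23 t12)))))))))) =
    xd 14 s1 * (xd 18 s2 * (xd 13 s3 * (xd 12 s4 * (xd 15 s5 * (xd 19 s6 * (xd 16 s7 * (xd 17 s8 * (xd 20 s9 *
      (xd 21 s10 * (xd 22 s11 * xd 23 s12)))))))))) := by
  rw [h1, h2, h3, h4, h5, h6, h7, h8, h9, h10, h11, h12]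

theorem d4E_congr {u a c d e f u' a' c' d' e' f' : K} (h1 : u = u') (h2 : a = a') (h3 : c = c') (h4 : d = d')
    (h5 : e = e') (h6 : f = f') : d4E φ u a c d e f = d4E φ u' a' c' d' e' f' := by
  rw [h1, h2, h3, h4, h5, h6]

variable (h3 : ∀ x : K, φ (φ (φ x)) = x)
include h3

set_option maxHeartbeats 4000000 in
theorem d4E_mul_B (u a c d e f v : K) (hv : φ v = v) :
    d4E φ u a c d e f * xd 14 v = d4E φ (u + v) a (c + v * φ (φ a)) (d + v * (φ a * φ (φ a)))
      (e + v * (a * φ a * φ (φ a)))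
      (f + v * e + v * (a * φ a * c + φ a * φ (φ a) * φ c + φ (φ a) * a * φ (φ c))) := by
  unfold d4E
  simp only [mul_assoc]
  simp only [d4s14_18, d4s14_18', d4s14_13, d4s14_13', d4s14_12, d4s14_12', d4s14_15, d4s14_15', d4s14_19, d4s14_19', d4s14_16, d4s14_16', d4s14_17, d4s14_17', d4s14_20, d4s14_20', d4s14_21, d4s14_21', d4s14_22, d4s14_22', d4s14_23, d4s14_23', d4s18_13, d4s18_13', d4s18_12, d4s18_12', d4s18_15, d4s18_15', d4s18_19, d4s18_19', d4s18_16, d4s18_16', d4s18_17, d4s18_17', d4s18_20, d4s18_20', d4s18_21, d4s18_21', d4s18_22, d4s18_22', d4s18_23, d4s18_23', d4s13_12, d4s13_12', d4s13_15, d4s13_15', d4s13_19, d4s13_19', d4s13_16, d4s13_16', d4s13_17, d4s13_17', d4s13_20, d4s13_20', d4s13_21, d4s13_21', d4s13_22, d4s13_22', d4s13_23, d4s13_23', d4s12_15, d4s12_15', d4s12_19, d4s12_19', d4s12_16, d4s12_16', d4s12_17, d4s12_17', d4s12_20, d4s12_20', d4s12_21, d4s12_21', d4s12_22, d4s12_22', d4s12_23, d4s12_23',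 d4s15_19, d4s15_19', d4s15_16, d4s15_16', d4s15_17, d4s15_17', d4s15_20, d4s15_20', d4s15_21, d4s15_21', d4s15_22, d4s15_22', d4s15_23, d4s15_23', d4s19_16, d4s19_16', d4s19_17, d4s19_17', d4s19_20, d4s19_20', d4s19_21, d4s19_21', d4s19_22, d4s19_22', d4s19_23, d4s19_23', d4s16_17, d4s16_17', d4s16_20, d4s16_20', d4s16_21, d4s16_21', d4s16_22, d4s16_22', d4s16_23, d4s16_23', d4s17_20, d4s17_20', d4s17_21, d4s17_21', d4s17_22, d4s17_22', d4s17_23, d4s17_23', d4s20_21, d4s20_21', d4s20_22, d4s20_22', d4s20_23, d4s20_23', d4s21_22, d4s21_22', d4s21_23, d4s21_23', d4s22_23, d4s22_23', xd_merge, xd_merge0]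
  apply d4_ext12 <;> (try simp only [map_add, map_mul, h3, hv]) <;>
    first | rfl | ring1 | (ring_nf; (try simp only [c2_2, c2_3, c2_4, c2_5, c2_6, c2_7, c2_8, c2_9, c2_10, c2_11, c2_12, neg_eq_self_F, mul_zero, mul_one, add_zero, zero_add]); try ring1)

set_option maxHeartbeats 4000000 in
theorem d4E_mul_A (u a c d e f y : K) :
    d4E φ u a c d e f * d4A φ y = d4E φ u (a + y) c (d + φ y * c + φ (φ y) * φ (φ c))
      (e + (y * φ y * c + φ y * φ (φ y) * φ c + φ (φ y) * y * φ (φ c)) + (y * d + φ y * φ d + φ (φ y) * φ (φ d)))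
      (f + (c * φ c * φ y + c * φ (φ c) * y + φ c * φ (φ c) * φ (φ y))) := by
  unfold d4E d4A
  simp only [mul_assoc]
  simp only [d4s14_18, d4s14_18', d4s14_13, d4s14_13', d4s14_12, d4s14_12', d4s14_15, d4s14_15', d4s14_19, d4s14_19', d4s14_16, d4s14_16', d4s14_17, d4s14_17', d4s14_20, d4s14_20', d4s14_21, d4s14_21', d4s14_22, d4s14_22', d4s14_23, d4s14_23', d4s18_13, d4s18_13', d4s18_12, d4s18_12', d4s18_15, d4s18_15', d4s18_19, d4s18_19', d4s18_16, d4s18_16', d4s18_17, d4s18_17', d4s18_20, d4s18_20', d4s18_21, d4s18_21', d4s18_22, d4s18_22', d4s18_23, d4s18_23', d4s13_12, d4s13_12', d4s13_15, d4s13_15', d4s13_19, d4s13_19', d4s13_16, d4s13_16', d4s13_17, d4s13_17', d4s13_20, d4s13_20', d4s13_21, d4s13_21', d4s13_22, d4s13_22', d4s13_23, d4s13_23', d4s12_15, d4s12_15', d4s12_19, d4s12_19', d4s12_16, d4s12_16', d4s12_17, d4s12_17', d4s12_20, d4s12_20', d4s12_21, d4s12_21', d4s12_22, d4s12_22', d4s12_23, d4s12_23', d4s15_19,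 d4s15_19', d4s15_16, d4s15_16', d4s15_17, d4s15_17', d4s15_20, d4s15_20', d4s15_21, d4s15_21', d4s15_22, d4s15_22', d4s15_23, d4s15_23', d4s19_16, d4s19_16', d4s19_17, d4s19_17', d4s19_20, d4s19_20', d4s19_21, d4s19_21', d4s19_22, d4s19_22', d4s19_23, d4s19_23', d4s16_17, d4s16_17', d4s16_20, d4s16_20', d4s16_21, d4s16_21', d4s16_22, d4s16_22', d4s16_23, d4s16_23', d4s17_20, d4s17_20', d4s17_21, d4s17_21', d4s17_22, d4s17_22', d4s17_23, d4s17_23', d4s20_21, d4s20_21', d4s20_22, d4s20_22', d4s20_23, d4s20_23', d4s21_22, d4s21_22', d4s21_23, d4s21_23', d4s22_23, d4s22_23', xd_merge, xd_merge0]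
  apply d4_ext12 <;> (try simp only [map_add, map_mul, h3]) <;>
    first | rfl | ring1 | (ring_nf; (try simp only [c2_2, c2_3, c2_4, c2_5, c2_6, c2_7, c2_8, c2_9, c2_10, c2_11, c2_12, neg_eq_self_F, mul_zero, mul_one, add_zero, zero_add]); try ring1)

set_option maxHeartbeats 4000000 in
theorem d4E_mul_C (u a c d e f y : K) :
    d4E φ u a c d e f * d4C φ y = d4E φ u a (c + y) d e (f + (φ y * d + φ (φ y) * φ d + y * φ (φ d))) := by
  unfold d4E d4C
  simp only [mul_assoc]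
  simp only [d4s14_18, d4s14_18', d4s14_13, d4s14_13', d4s14_12, d4s14_12', d4s14_15, d4s14_15', d4s14_19, d4s14_19', d4s14_16, d4s14_16', d4s14_17, d4s14_17', d4s14_20, d4s14_20', d4s14_21, d4s14_21', d4s14_22, d4s14_22', d4s14_23, d4s14_23', d4s18_13, d4s18_13', d4s18_12, d4s18_12', d4s18_15, d4s18_15', d4s18_19, d4s18_19', d4s18_16, d4s18_16', d4s18_17, d4s18_17', d4s18_20, d4s18_20', d4s18_21, d4s18_21', d4s18_22, d4s18_22', d4s18_23, d4s18_23', d4s13_12, d4s13_12', d4s13_15, d4s13_15', d4s13_19, d4s13_19', d4s13_16, d4s13_16', d4s13_17, d4s13_17', d4s13_20, d4s13_20', d4s13_21, d4s13_21', d4s13_22, d4s13_22', d4s13_23, d4s13_23', d4s12_15, d4s12_15', d4s12_19, d4s12_19', d4s12_16, d4s12_16', d4s12_17, d4s12_17', d4s12_20, d4s12_20', d4s12_21, d4s12_21', d4s12_22, d4s12_22', d4s12_23, d4s12_23', d4s15_19, d4s15_19', d4s15_16, d4s15_16', d4s15_17, d4s15_17', d4s15_20, d4s15_20', d4s15_21, d4s15_21', d4s15_22, d4s15_22',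 d4s15_23, d4s15_23', d4s19_16, d4s19_16', d4s19_17, d4s19_17', d4s19_20, d4s19_20', d4s19_21, d4s19_21', d4s19_22, d4s19_22', d4s19_23, d4s19_23', d4s16_17, d4s16_17', d4s16_20, d4s16_20', d4s16_21, d4s16_21', d4s16_22, d4s16_22', d4s16_23, d4s16_23', d4s17_20, d4s17_20', d4s17_21, d4s17_21', d4s17_22, d4s17_22', d4s17_23, d4s17_23', d4s20_21, d4s20_21', d4s20_22, d4s20_22', d4s20_23, d4s20_23', d4s21_22, d4s21_22', d4s21_23, d4s21_23', d4s22_23, d4s22_23', xd_merge, xd_merge0]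
  apply d4_ext12 <;> (try simp only [map_add, map_mul, h3]) <;>
    first | rfl | ring1 | (ring_nf; (try simp only [c2_2, c2_3, c2_4, c2_5, c2_6, c2_7, c2_8, c2_9, c2_10, c2_11, c2_12, neg_eq_self_F, mul_zero, mul_one, add_zero, zero_add]); try ring1)

omit h3 in
set_option maxHeartbeats 4000000 in
theorem d4E_mul_D (u a c d e f y : K) :
    d4E φ u a c d e f * d4D φ y = d4E φ u a c (d + y) e f := by
  unfold d4E d4D
  simp only [mul_assoc]
  simp only [d4s14_18, d4s14_18', d4s14_13, d4s14_13', d4s14_12, d4s14_12', d4s14_15, d4s14_15', d4s14_19, d4s14_19', d4s14_16, d4s14_16', d4s14_17, d4s14_17', d4s14_20, d4s14_20', d4s14_21, d4s14_21', d4s14_22, d4s14_22', d4s14_23, d4s14_23', d4s18_13, d4s18_13', d4s18_12, d4s18_12', d4s18_15, d4s18_15', d4s18_19, d4s18_19', d4s18_16, d4s18_16', d4s18_17, d4s18_17', d4s18_20, d4s18_20', d4s18_21, d4s18_21', d4s18_22, d4s18_22', d4s18_23, d4s18_23', d4s13_12, d4s13_12', d4s13_15, d4s13_15',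 d4s13_19, d4s13_19', d4s13_16, d4s13_16', d4s13_17, d4s13_17', d4s13_20, d4s13_20', d4s13_21, d4s13_21', d4s13_22, d4s13_22', d4s13_23, d4s13_23', d4s12_15, d4s12_15', d4s12_19, d4s12_19', d4s12_16, d4s12_16', d4s12_17, d4s12_17', d4s12_20, d4s12_20', d4s12_21, d4s12_21', d4s12_22, d4s12_22', d4s12_23, d4s12_23', d4s15_19, d4s15_19', d4s15_16, d4s15_16', d4s15_17, d4s15_17', d4s15_20, d4s15_20', d4s15_21, d4s15_21', d4s15_22, d4s15_22', d4s15_23, d4s15_23', d4s19_16, d4s19_16', d4s19_17, d4s19_17', d4s19_20, d4s19_20', d4s19_21, d4s19_21', d4s19_22, d4s19_22', d4s19_23, d4s19_23', d4s16_17, d4s16_17', d4s16_20, d4s16_20', d4s16_21, d4s16_21', d4s16_22, d4s16_22', d4s16_23, d4s16_23', d4s17_20, d4s17_20', d4s17_21, d4s17_21', d4s17_22, d4s17_22', d4s17_23, d4s17_23', d4s20_21, d4s20_21', d4s20_22, d4s20_22', d4s20_23, d4s20_23', d4s21_22, d4s21_22', d4s21_23, d4s21_23', d4s22_23, d4s22_23', xd_merge, xd_merge0]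
  apply d4_ext12 <;> (try simp only [map_add, map_mul]) <;>
    first | rfl | ring1

omit h3 in
set_option maxHeartbeats 4000000 in
theorem d4E_mul_E (u a c d e f y : K) :
    d4E φ u a c d e f * xd 22 y = d4E φ u a c d (e + y) f := by
  unfold d4E
  simp only [mul_assoc]
  simp only [d4s14_18, d4s14_18', d4s14_13, d4s14_13', d4s14_12, d4s14_12', d4s14_15, d4s14_15', d4s14_19, d4s14_19', d4s14_16, d4s14_16', d4s14_17, d4s14_17', d4s14_20, d4s14_20', d4s14_21, d4s14_21', d4s14_22, d4s14_22', d4s14_23, d4s14_23', d4s18_13, d4s18_13', d4s18_12, d4s18_12', d4s18_15, d4s18_15', d4s18_19, d4s18_19', d4s18_16, d4s18_16', d4s18_17, d4s18_17', d4s18_20, d4s18_20', d4s18_21, d4s18_21', d4s18_22, d4s18_22', d4s18_23, d4s18_23', d4s13_12, d4s13_12', d4s13_15, d4s13_15', d4s13_19, d4s13_19', d4s13_16, d4s13_16', d4s13_17, d4s13_17', d4s13_20, d4s13_20', d4s13_21, d4s13_21', d4s13_22, d4s13_22', d4s13_23, d4s13_23', d4s12_15, d4s12_15',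 d4s12_19, d4s12_19', d4s12_16, d4s12_16', d4s12_17, d4s12_17', d4s12_20, d4s12_20', d4s12_21, d4s12_21', d4s12_22, d4s12_22', d4s12_23, d4s12_23', d4s15_19, d4s15_19', d4s15_16, d4s15_16', d4s15_17, d4s15_17', d4s15_20, d4s15_20', d4s15_21, d4s15_21', d4s15_22, d4s15_22', d4s15_23, d4s15_23', d4s19_16, d4s19_16', d4s19_17, d4s19_17', d4s19_20, d4s19_20', d4s19_21, d4s19_21', d4s19_22, d4s19_22', d4s19_23, d4s19_23', d4s16_17, d4s16_17', d4s16_20, d4s16_20', d4s16_21, d4s16_21', d4s16_22, d4s16_22', d4s16_23, d4s16_23', d4s17_20, d4s17_20', d4s17_21, d4s17_21', d4s17_22, d4s17_22', d4s17_23, d4s17_23', d4s20_21, d4s20_21', d4s20_22, d4s20_22', d4s20_23, d4s20_23', d4s21_22, d4s21_22', d4s21_23, d4s21_23', d4s22_23, d4s22_23', xd_merge, xd_merge0]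

omit h3 in
set_option maxHeartbeats 4000000 in
theorem d4E_mul_F (u a c d e f y : K) :
    d4E φ u a c d e f * xd 23 y = d4E φ u a c d e (f + y) := by
  unfold d4E
  simp only [mul_assoc]
  simp only [d4s14_18, d4s14_18', d4s14_13, d4s14_13', d4s14_12, d4s14_12', d4s14_15, d4s14_15', d4s14_19, d4s14_19', d4s14_16, d4s14_16', d4s14_17, d4s14_17', d4s14_20, d4s14_20', d4s14_21, d4s14_21', d4s14_22, d4s14_22', d4s14_23, d4s14_23', d4s18_13, d4s18_13', d4s18_12, d4s18_12', d4s18_15, d4s18_15', d4s18_19, d4s18_19', d4s18_16, d4s18_16', d4s18_17, d4s18_17', d4s18_20, d4s18_20', d4s18_21, d4s18_21', d4s18_22, d4s18_22', d4s18_23, d4s18_23', d4s13_12, d4s13_12', d4s13_15, d4s13_15', d4s13_19, d4s13_19', d4s13_16, d4s13_16', d4s13_17, d4s13_17', d4s13_20, d4s13_20', d4s13_21, d4s13_21', d4s13_22, d4s13_22', d4s13_23, d4s13_23', d4s12_15, d4s12_15', d4s12_19, d4s12_19', d4s12_16, d4s12_16', d4s12_17, d4s12_17', d4s12_20, d4s12_20',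 d4s12_21, d4s12_21', d4s12_22, d4s12_22', d4s12_23, d4s12_23', d4s15_19, d4s15_19', d4s15_16, d4s15_16', d4s15_17, d4s15_17', d4s15_20, d4s15_20', d4s15_21, d4s15_21', d4s15_22, d4s15_22', d4s15_23, d4s15_23', d4s19_16, d4s19_16', d4s19_17, d4s19_17', d4s19_20, d4s19_20', d4s19_21, d4s19_21', d4s19_22, d4s19_22', d4s19_23, d4s19_23', d4s16_17, d4s16_17', d4s16_20, d4s16_20', d4s16_21, d4s16_21', d4s16_22, d4s16_22', d4s16_23, d4s16_23', d4s17_20, d4s17_20', d4s17_21, d4s17_21', d4s17_22, d4s17_22', d4s17_23, d4s17_23', d4s20_21, d4s20_21', d4s20_22, d4s20_22', d4s20_23, d4s20_23', d4s21_22, d4s21_22', d4s21_23, d4s21_23', d4s22_23, d4s22_23', xd_merge, xd_merge0]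

end D4

end Cfsg.Agent.Lib.H29.Chev
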