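import Mathlib
import Cfsg.Prelude.Def_ChevStructure
import Cfsg.Prelude.Def_LieTwisted
import Cfsg.Agent.Lib.H29.D4Inv3

/-!
# The unipotent subgroup of the twisted group of type `D₄` in characteristic two: conjugation
-/

set_option autoImplicit false
set_option linter.unusedSectionVars false
set_option linter.unusedSimpArgs false
set_option linter.unusedVariables false
set_option linter.unusedTactic false
set_option linter.unreachableTactic false

namespace Cfsg.Agent.Lib.H29.Chev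

open Cfsg.Lie Matrix

section D4

variable {K : Type*} [Field K] [CharP K 2] (φ : K →+* K)

local notation "xd" => cert12_D4.c6.c2.xA

theorem d4E_eq (u a c d e f : K) :
    d4E φ u a c d e f = xd 14 u * d4A φ a * d4C φ c * d4D φ d * xd 22 e * xd 23 f := by
  unfold d4E d4A d4C d4D
  simp only [mul_assoc]

theorem d4E_zero : d4E φ (0 : K) 0 0 0 0 0 = 1 := by
  unfold d4E
  simp only [map_zero, cert12_D4.c6.c2.xA_zero, mul_one]

theorem d4E_B (u : K) : xd 14 u = d4E φ u 0 0 0 0 0 := by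
  unfold d4E
  simp only [map_zero, cert12_D4.c6.c2.xA_zero, mul_one]

theorem d4E_A (a : K) : d4A φ a = d4E φ 0 a 0 0 0 0 := by
  unfold d4E d4A
  simp only [map_zero, cert12_D4.c6.c2.xA_zero, mul_one, one_mul]

theorem d4E_C (a : K) : d4C φ a = d4E φ 0 0 a 0 0 0 := by
  unfold d4E d4C
  simp only [map_zero, cert12_D4.c6.c2.xA_zero, mul_one, one_mul]

theorem d4E_D (a : K) : d4D φ a = d4E φ 0 0 0 a 0 0 := by
  unfold d4E d4D
  simp only [map_zero, cert12_D4.c6.c2.xA_zero, mul_one, one_mul]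

theorem d4E_E (u : K) : xd 22 u = d4E φ 0 0 0 0 u 0 := by
  unfold d4E
  simp only [map_zero, cert12_D4.c6.c2.xA_zero, mul_one, one_mul]

theorem d4E_F (u : K) : xd 23 u = d4E φ 0 0 0 0 0 u := by
  unfold d4E
  simp only [map_zero, cert12_D4.c6.c2.xA_zero, mul_one, one_mul]

variable (h3 : ∀ x : K, φ (φ (φ x)) = x)
include h3

/-- the product of two elements in normal form -/
theorem d4E_mul (u a c d e f u' a' c' d' e' f' : K) (hu' : φ u' = u') :
    ∃ c'' d'' e'' f'' : K, d4E φ u a c d e f * d4E φ u' a' c' d' e' f' = d4E φ (u + u') (a + a') c'' d'' e'' f'' := by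
  rw [d4E_eq φ u' a' c' d' e' f']
  simp only [← mul_assoc]
  rw [d4E_mul_B φ h3 _ _ _ _ _ _ _ hu', d4E_mul_A φ h3, d4E_mul_C φ h3, d4E_mul_D, d4E_mul_E, d4E_mul_F]
  exact ⟨_, _, _, _, rfl⟩

theorem d4A_sq (y : K) : d4A φ y * d4A φ y = 1 := by
  nth_rewrite 1 [d4E_A φ y]
  rw [d4E_mul_A φ h3, ← d4E_zero φ]
  apply d4E_congr <;> (try simp only [map_add, map_mul, map_zero, h3]) <;>
    first | rfl | ring1 | (ring_nf; (try simp only [c2_2, c2_3, c2_4, c2_5, c2_6, c2_7, c2_8, c2_9, c2_10, c2_11, c2_12, neg_eq_self_F, mul_zero, mul_one, add_zero, zero_add]); try ring1)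

theorem d4C_sq (y : K) : d4C φ y * d4C φ y = 1 := by
  nth_rewrite 1 [d4E_C φ y]
  rw [d4E_mul_C φ h3, ← d4E_zero φ]
  apply d4E_congr <;> (try simp only [map_add, map_mul, map_zero, h3]) <;>
    first | rfl | ring1 | (ring_nf; (try simp only [c2_2, c2_3, c2_4, c2_5, c2_6, c2_7, c2_8, c2_9, c2_10, c2_11, c2_12, neg_eq_self_F, mul_zero, mul_one, add_zero, zero_add]); try ring1)

omit h3 in
theorem d4D_sq (y : K) : d4D φ y * d4D φ y = 1 := by
  nth_rewrite 1 [d4E_D φ y]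
  rw [d4E_mul_D φ, ← d4E_zero φ]
  apply d4E_congr <;> (try simp only [map_add, map_mul, map_zero]) <;>
    first | rfl | ring1 | (ring_nf; (try simp only [c2_2, c2_3, c2_4, c2_5, c2_6, c2_7, c2_8, c2_9, c2_10, c2_11, c2_12, neg_eq_self_F, mul_zero, mul_one, add_zero, zero_add]); try ring1)

theorem d4A_inv (y : K) : (d4A φ y)⁻¹ = d4A φ y := inv_eq_of_mul_eq_one_left (d4A_sq φ h3 y)

theorem d4C_inv (y : K) : (d4C φ y)⁻¹ = d4C φ y := inv_eq_of_mul_eq_one_left (d4C_sq φ h3 y)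

omit h3 in
theorem d4D_inv (y : K) : (d4D φ y)⁻¹ = d4D φ y := inv_eq_of_mul_eq_one_left (d4D_sq φ y)

/-- conjugation by `x_b(v)` -/
theorem d4_conjB (u a c d e f v : K) (hv : φ v = v) :
    xd 14 v * d4E φ u a c d e f * (xd 14 v)⁻¹ = d4E φ u a (c + v * φ (φ a)) (d + v * (φ a * φ (φ a)))
      (e + v * (a * φ a * φ (φ a)))
      (f + v * e + v * (a * φ a * c + φ a * φ (φ a) * φ c + φ (φ a) * a * φ (φ c))) := by
  have e1 : xd 14 v * d4E φ u a c d e f = d4E φ (v + u) a c d e f := by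
    unfold d4E
    rw [xd_merge]
  rw [xd_inv2, e1, d4E_mul_B φ h3 _ _ _ _ _ _ _ hv]
  apply d4E_congr <;> (try simp only [map_add, map_mul, map_zero, h3, hv]) <;>
    first | rfl | ring1 | (ring_nf; (try simp only [c2_2, c2_3, c2_4, c2_5, c2_6, c2_7, c2_8, c2_9, c2_10, c2_11, c2_12, neg_eq_self_F, mul_zero, mul_one, add_zero, zero_add]); try ring1)

/-- conjugation by `x_a(y)`, when the coordinate at `a` is zero -/
theorem d4_conjA (u c d e f y : K) (hu : φ u = u) :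
    d4A φ y * d4E φ u 0 c d e f * (d4A φ y)⁻¹ = d4E φ u 0 (c + u * φ (φ y))
      ((d + u * (φ y * φ (φ y))) + φ y * (c + u * φ (φ y)) + φ (φ y) * φ (φ (c + u * φ (φ y))))
      ((e + u * (y * φ y * φ (φ y))) + (y * φ y * (c + u * φ (φ y)) + φ y * φ (φ y) * φ (c + u * φ (φ y)) +
          φ (φ y) * y * φ (φ (c + u * φ (φ y)))) +
        (y * (d + u * (φ y * φ (φ y))) + φ y * φ (d + u * (φ y * φ (φ y))) +
          φ (φ y) * φ (φ (d + u * (φ y * φ (φ y))))))
      ((f + u * (φ c * φ y * φ (φ y) + φ (φ c) * φ (φ y) * y + c * y * φ y)) +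
        ((c + u * φ (φ y)) * φ (c + u * φ (φ y)) * φ y + (c + u * φ (φ y)) * φ (φ (c + u * φ (φ y))) * y +
          φ (c + u * φ (φ y)) * φ (φ (c + u * φ (φ y))) * φ (φ y))) := by
  rw [d4A_inv φ h3]
  have e1 : d4A φ y * d4E φ u 0 c d e f = d4E φ u y (c + u * φ (φ y)) (d + u * (φ y * φ (φ y)))
      (e + u * (y * φ y * φ (φ y))) (f + u * (φ c * φ y * φ (φ y) + φ (φ c) * φ (φ y) * y + c * y * φ y)) := by
    rw [d4E_A φ y, d4E_eq φ u 0 c d e f]
    simp only [← mul_assoc]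
    rw [d4E_mul_B φ h3 _ _ _ _ _ _ _ hu, d4E_mul_A φ h3, d4E_mul_C φ h3, d4E_mul_D, d4E_mul_E, d4E_mul_F]
    apply d4E_congr <;> (try simp only [map_add, map_mul, map_zero, h3, hu]) <;>
      first | rfl | ring1 | (ring_nf; (try simp only [c2_2, c2_3, c2_4, c2_5, c2_6, c2_7, c2_8, c2_9, c2_10, c2_11, c2_12, neg_eq_self_F, mul_zero, mul_one, add_zero, zero_add]); try ring1)
  rw [e1, d4E_mul_A φ h3]
  apply d4E_congr <;> (try simp only [map_add, map_mul, map_zero, h3, hu]) <;>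
    first | rfl | ring1 | (ring_nf; (try simp only [c2_2, c2_3, c2_4, c2_5, c2_6, c2_7, c2_8, c2_9, c2_10, c2_11, c2_12, neg_eq_self_F, mul_zero, mul_one, add_zero, zero_add]); try ring1)

/-- conjugation by `x_{a+b}(y)`, when the coordinates at `b` and `a + b` are zero -/
theorem d4_conjC (a d e f y : K) :
    d4C φ y * d4E φ 0 a 0 d e f * (d4C φ y)⁻¹ = d4E φ 0 a 0 (d + φ a * y + φ (φ a) * φ (φ y))
      (e + (a * φ a * y + φ a * φ (φ a) * φ y + φ (φ a) * a * φ (φ y)))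
      (f + (y * φ (φ y) * a + φ y * y * φ a + φ (φ y) * φ y * φ (φ a)) + (φ y * d + φ (φ y) * φ d + y * φ (φ d))) := by
  rw [d4C_inv φ h3]
  have e1 : d4C φ y * d4E φ 0 a 0 d e f = d4E φ 0 a y (d + φ a * y + φ (φ a) * φ (φ y))
      (e + (a * φ a * y + φ a * φ (φ a) * φ y + φ (φ a) * a * φ (φ y)))
      (f + (y * φ (φ y) * a + φ y * y * φ a + φ (φ y) * φ y * φ (φ a))) := by
    rw [d4E_C φ y, d4E_eq φ 0 a 0 d e f]
    simp only [← mul_assoc]
    rw [d4E_mul_B φ h3 _ _ _ _ _ _ _ (map_zero φ), d4E_mul_A φ h3, d4E_mul_C φ h3, d4E_mul_D, d4E_mul_E, d4E_mul_F]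
    apply d4E_congr <;> (try simp only [map_add, map_mul, map_zero, h3]) <;>
      first | rfl | ring1 | (ring_nf; (try simp only [c2_2, c2_3, c2_4, c2_5, c2_6, c2_7, c2_8, c2_9, c2_10, c2_11, c2_12, neg_eq_self_F, mul_zero, mul_one, add_zero, zero_add]); try ring1)
  rw [e1, d4E_mul_C φ h3]
  apply d4E_congr <;> (try simp only [map_add, map_mul, map_zero, h3]) <;>
    first | rfl | ring1 | (ring_nf; (try simp only [c2_2, c2_3, c2_4, c2_5, c2_6, c2_7, c2_8, c2_9, c2_10, c2_11, c2_12, neg_eq_self_F, mul_zero, mul_one, add_zero, zero_add]); try ring1)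

/-- conjugation by `x_{2a+b}(y)` -/
theorem d4_conjD (u a c d e f y : K) (hu : φ u = u) :
    d4D φ y * d4E φ u a c d e f * (d4D φ y)⁻¹ = d4E φ u a c d (e + (a * y + φ a * φ y + φ (φ a) * φ (φ y)))
      (f + (φ c * y + φ (φ c) * φ y + c * φ (φ y))) := by
  rw [d4D_inv φ]
  have e1 : d4D φ y * d4E φ u a c d e f = d4E φ u a c (d + y) (e + (a * y + φ a * φ y + φ (φ a) * φ (φ y)))
      (f + (φ c * y + φ (φ c) * φ y + c * φ (φ y))) := by
    rw [d4E_D φ y, d4E_eq φ u a c d e f]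
    simp only [← mul_assoc]
    rw [d4E_mul_B φ h3 _ _ _ _ _ _ _ hu, d4E_mul_A φ h3, d4E_mul_C φ h3, d4E_mul_D, d4E_mul_E, d4E_mul_F]
    apply d4E_congr <;> (try simp only [map_add, map_mul, map_zero, h3, hu]) <;>
      first | rfl | ring1 | (ring_nf; (try simp only [c2_2, c2_3, c2_4, c2_5, c2_6, c2_7, c2_8, c2_9, c2_10, c2_11, c2_12, neg_eq_self_F, mul_zero, mul_one, add_zero, zero_add]); try ring1)
  rw [e1, d4E_mul_D φ]
  apply d4E_congr <;> (try simp only [map_add, map_mul, map_zero, h3, hu]) <;>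
    first | rfl | ring1 | (ring_nf; (try simp only [c2_2, c2_3, c2_4, c2_5, c2_6, c2_7, c2_8, c2_9, c2_10, c2_11, c2_12, neg_eq_self_F, mul_zero, mul_one, add_zero, zero_add]); try ring1)

/-- conjugation by `x_{3a+b}(y)` -/
theorem d4_conjE (u a c d e f y : K) (hu : φ u = u) :
    xd 22 y * d4E φ u a c d e f * (xd 22 y)⁻¹ = d4E φ u a c d e (f + u * y) := by
  rw [xd_inv2]
  have e1 : xd 22 y * d4E φ u a c d e f = d4E φ u a c d (e + y) (f + u * y) := by
    rw [d4E_E φ y, d4E_eq φ u a c d e f]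
    simp only [← mul_assoc]
    rw [d4E_mul_B φ h3 _ _ _ _ _ _ _ hu, d4E_mul_A φ h3, d4E_mul_C φ h3, d4E_mul_D, d4E_mul_E, d4E_mul_F]
    apply d4E_congr <;> (try simp only [map_add, map_mul, map_zero, h3, hu]) <;>
      first | rfl | ring1 | (ring_nf; (try simp only [c2_2, c2_3, c2_4, c2_5, c2_6, c2_7, c2_8, c2_9, c2_10, c2_11, c2_12, neg_eq_self_F, mul_zero, mul_one, add_zero, zero_add]); try ring1)
  rw [e1, d4E_mul_E φ]
  apply d4E_congr <;> (try simp only [map_add, map_mul, map_zero, h3, hu]) <;>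
    first | rfl | ring1 | (ring_nf; (try simp only [c2_2, c2_3, c2_4, c2_5, c2_6, c2_7, c2_8, c2_9, c2_10, c2_11, c2_12, neg_eq_self_F, mul_zero, mul_one, add_zero, zero_add]); try ring1)

/-- the square of an element in normal form -/
theorem d4E_sq (u a c d e f : K) (hu : φ u = u) :
    d4E φ u a c d e f * d4E φ u a c d e f = d4E φ 0 0 (u * φ (φ a))
      (u * φ a * φ (φ a) + φ a * c + φ (φ a) * φ (φ c))
      (u * a * φ a * φ (φ a) + a * φ a * c + a * φ (φ a) * φ (φ c) + a * d + φ a * φ (φ a) * φ c + φ a * φ d +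
        φ (φ a) * φ (φ d))
      (u * e + u ^ 2 * a * φ a * φ (φ a) + a * c * φ (φ c) + φ a * c * φ c + c * φ (φ d) + φ (φ a) * φ c * φ (φ c) +
        φ c * d + φ (φ c) * φ d) := by
  rw [d4E_eq φ u a c d e f]
  simp only [← mul_assoc]
  rw [← d4E_eq φ u a c d e f]
  rw [d4E_mul_B φ h3 _ _ _ _ _ _ _ hu, d4E_mul_A φ h3, d4E_mul_C φ h3, d4E_mul_D, d4E_mul_E, d4E_mul_F]
  apply d4E_congr <;> (try simp only [map_add, map_mul, map_zero, h3, hu]) <;>
    first | rfl | ring1 | (ring_nf; (try simp only [c2_2, c2_3, c2_4, c2_5, c2_6, c2_7, c2_8, c2_9, c2_10, c2_11, c2_12, neg_eq_self_F, mul_zero, mul_one, add_zero, zero_add]); try ring1)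

end D4

end Cfsg.Agent.Lib.H29.Chev
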