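import Mathlib
import Cfsg.Prelude.Def_ChevStructure
import Cfsg.Agent.Lib.H29.ChevTw26
import Cfsg.Agent.Lib.H29.ChevTw30
import Cfsg.Agent.Lib.H29.ChevGen37
import Cfsg.Agent.Lib.H29.ChevRee7

/-!
# Elements of a Chevalley group commuting with the root elements `x_r(1)`
-/

set_option autoImplicit false
set_option linter.unusedSectionVars false
set_option linter.unusedSimpArgs false
set_option linter.unusedVariables false

namespace Cfsg.Agent.Lib.H29.Chev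

open Cfsg.Lie Matrix

section Gen

variable {D : ChevalleyDatum} {fd : FD} {fx : FX} {fc : FC} {fz : FZ} {F : Type*} [Field F]

namespace Cert12

variable (C : Cert12 D fd fx fc fz)
include C

/-- a fundamental reflection does not lie in `H` -/
theorem nG_not_mem_diag (i : ℕ) (hi : i < fd.l) :
    C.c6.c2.nG (F := F) (fd.simples.getD i 0) (C.c6.c2.simple_lt i hi) ∉ D.diagonalSubgroup F := by
  intro h
  have hp := C.c6.c2.simple_lt i hi
  have hev := C.c6.c2.heven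
  have h1 := C.perm_unique _ _ _ (C.c6.perm_diag _ h) (C.c6.perm_nG (F := F) i hi).1 _ hp
  rw [(fd.neg_spec C.c6.c2.neg _ hp).1] at h1
  simp only [id] at h1
  omega

/-- if `n` makes the fundamental root `p` negative and `n (v x_p(c)) n⁻¹ ∈ B` with `v ∈ U_p`, then `c = 0` -/
theorem coord_zero_of_conj_mem_borel (i : ℕ) (hi : i < fd.l) (n : GL D.Idx F) (hn : n ∈ D.monomialSubgroup F)
    (π : ℕ → ℕ) (hπ : C.c6.c2.Perm n π) (hneg : π (fd.simples.getD i 0) < fd.n / 2)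
    (v : GL D.Idx F) (hv : v ∈ Up D F (fd.simples.getD i 0)) (c : F)
    (h : n * (v * C.c6.c2.xA (fd.simples.getD i 0) c) * n⁻¹ ∈ D.borelSubgroup F) : c = 0 := by
  by_contra hc
  have hp := C.c6.c2.simple_lt i hi
  have hpp := C.c6.simple_pos i hi
  have hev := C.c6.c2.heven
  set p := fd.simples.getD i 0 with hpdef
  set s := C.c6.c2.nG (F := F) p hp with hs
  have hsN : s ∈ D.monomialSubgroup F := C.c6.c2.nG_mem_monomial _ hp
  -- conjugate by `s⁻¹`
  have hv' : s⁻¹ * v * s⁻¹⁻¹ ∈ Up D F p :=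
    (Subgroup.mem_normalizer_iff.mp (inv_mem (C.c6.nG_mem_normalizer_Up i hi)) v).mp hv
  rw [inv_inv] at hv'
  obtain ⟨_, _, c₀, hc₀⟩ := (C.c6.perm_nG (F := F) i hi).2 p hp
  rw [(fd.neg_spec C.c6.c2.neg p hp).1, inv_inv] at hc₀
  have hc₀0 : c₀ ≠ 0 := by
    intro h0
    have h1 := hc₀ 1
    rw [h0, zero_mul, C.c6.c2.xA_zero] at h1
    have h2 : C.c6.c2.xA p (1 : F) = 1 := by
      have : C.c6.c2.xA p (1 : F) = s * (s⁻¹ * C.c6.c2.xA p 1 * s) * s⁻¹ := by group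
      rw [this, h1]; group
    exact one_ne_zero (C.c6.xA_eq_one p hp _ h2)
  have hc' : c₀ * c ≠ 0 := mul_ne_zero hc₀0 hc
  obtain ⟨k, hk, ek⟩ := C.c6.xA_neg_eq (F := F) p hp (c₀ * c) hc'
  rw [← hs] at ek
  -- the two Borel factors
  set b₁ := s⁻¹ * v * s * (C.c6.c2.xA p (c₀ * c)⁻¹ * k) with hb₁
  set b₂ := C.c6.c2.xA p (c₀ * c)⁻¹ with hb₂
  have hb₁B : b₁ ∈ D.borelSubgroup F :=
    mul_mem (C.c6.Up_le_borel _ hv') (mul_mem (C.c6.xA_pos_mem_borel _ hp hpp _) (C.c6.diag_le_borel hk))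
  have hb₂B : b₂ ∈ D.borelSubgroup F := C.c6.xA_pos_mem_borel _ hp hpp _
  set n' := n * s with hn'
  have hn'N : n' ∈ D.monomialSubgroup F := mul_mem hn hsN
  have e : n * (v * C.c6.c2.xA p c) * n⁻¹ = n' * b₁ * s * b₂ * n'⁻¹ := by
    have : n * (v * C.c6.c2.xA p c) * n⁻¹ = n' * (s⁻¹ * v * s) * (s⁻¹ * C.c6.c2.xA p c * s) * n'⁻¹ := by
      rw [hn']; group
    rw [this, hc₀, ek, hb₁, hb₂]
    group
  rw [e] at h
  set E := n' * b₁ * s * b₂ * n'⁻¹ with hE
  -- the element `s⁻¹ b₁⁻¹ n'⁻¹` lies in two double cosets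
  have hz : (s * s)⁻¹ ∈ D.borelSubgroup F := C.c6.diag_le_borel (inv_mem (C.c6.nG_sq_mem_diag _ hp))
  have m1 : s * ((s * s)⁻¹ * b₁⁻¹) * n'⁻¹ ∈
      DoubleCoset.doubleCoset n'⁻¹ (D.borelSubgroup F : Set (GL D.Idx F)) (D.borelSubgroup F) := by
    rw [DoubleCoset.mem_doubleCoset]
    refine ⟨b₂, hb₂B, E⁻¹, inv_mem h, ?_⟩
    rw [hE]; group
  have hπ' : C.c6.c2.Perm (n'⁻¹)⁻¹ (π ∘ fd.nw fx p) := by
    rw [inv_inv, hn']
    exact C.c6.perm_mul hπ (C.c6.perm_nG i hi).1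
  have hpos' : fd.n / 2 ≤ (π ∘ fd.nw fx p) p := by
    simp only [Function.comp]
    rw [(fd.neg_spec C.c6.c2.neg p hp).1, (hπ p hp).2.1]
    have := (hπ p hp).1
    omega
  have m2 := C.c6.nG_mul_borel_mul_pos i hi n'⁻¹ (inv_mem hn'N) _ hπ' hpos' ((s * s)⁻¹ * b₁⁻¹)
    (mul_mem hz (inv_mem hb₁B))
  have hd := C.bruhat_disjoint n'⁻¹ (s * n'⁻¹) (inv_mem hn'N) (mul_mem hsN (inv_mem hn'N)) _ m1 m2
  have hd' : n' * s * n'⁻¹ ∈ D.diagonalSubgroup F := by
    have : n'⁻¹⁻¹ * (s * n'⁻¹) = n' * s * n'⁻¹ := by group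
    rwa [this] at hd
  have hsH : s ∈ D.diagonalSubgroup F := by
    have h1 := (Subgroup.mem_normalizer_iff.mp (C.c6.c2.monomial_le_normalizer_diag (inv_mem hn'N)) _).mp hd'
    have : n'⁻¹ * (n' * s * n'⁻¹) * n'⁻¹⁻¹ = s := by group
    rwa [this] at h1
  exact C.nG_not_mem_diag i hi hsH

/-- an element commuting with the fundamental root elements `x_p(1)` lies in `B` -/
theorem mem_borel_of_comm_simple (g : GL D.Idx F) (hg : g ∈ D.group F)
    (hc : ∀ i < fd.l, Commute g (C.c6.c2.xA (fd.simples.getD i 0) 1)) : g ∈ D.borelSubgroup F := by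
  obtain ⟨b, hb, n, hn, u, hu, rfl⟩ := C.c6.canonical_form.1 g hg
  obtain ⟨⟨π, hπ⟩, _⟩ := C.c6.perm_of_mem n hn
  have hu' : u ∈ D.posUnipotent F := _root_.Cfsg.Agent.Lib.H29.Chev.Uw_le_pos n hu
  have hpos : ∀ i < fd.l, fd.n / 2 ≤ π (fd.simples.getD i 0) := by
    intro i hi
    by_contra hneg
    push Not at hneg
    have hp := C.c6.c2.simple_lt i hi
    have hpp := C.c6.simple_pos i hi
    set p := fd.simples.getD i 0 with hpdef
    obtain ⟨v, hv, t, rfl⟩ := C.c6.pos_mem_Up_mul i hi u hu'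
    -- `u x_p(1) u⁻¹ = v' x_p(1)` with `v' ∈ U_p`
    have hx1 : C.c6.c2.xA p (1 : F) * v⁻¹ * (C.c6.c2.xA p (1 : F))⁻¹ ∈ Up D F p :=
      (Subgroup.mem_normalizer_iff.mp (C.c6.xA_pm_mem_normalizer i hi p (Or.inl rfl) 1) _).mp (inv_mem hv)
    have ey : (v * C.c6.c2.xA p t) * C.c6.c2.xA p 1 * (v * C.c6.c2.xA p t)⁻¹ =
        (v * (C.c6.c2.xA p (1 : F) * v⁻¹ * (C.c6.c2.xA p (1 : F))⁻¹)) * C.c6.c2.xA p 1 := by
      have e1 : C.c6.c2.xA p t * C.c6.c2.xA p 1 * (C.c6.c2.xA p t)⁻¹ = C.c6.c2.xA p (1 : F) := by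
        rw [C.c6.c2.xA_mul, C.c6.c2.xA_inv, C.c6.c2.xA_mul]
        congr 1; ring
      have : (v * C.c6.c2.xA p t) * C.c6.c2.xA p 1 * (v * C.c6.c2.xA p t)⁻¹ =
          v * (C.c6.c2.xA p t * C.c6.c2.xA p 1 * (C.c6.c2.xA p t)⁻¹) * v⁻¹ := by group
      rw [this, e1]; group
    have hB : n * ((v * C.c6.c2.xA p t) * C.c6.c2.xA p 1 * (v * C.c6.c2.xA p t)⁻¹) * n⁻¹ ∈ D.borelSubgroup F := by
      have hcomm := (hc i hi).eq
      have : n * ((v * C.c6.c2.xA p t) * C.c6.c2.xA p 1 * (v * C.c6.c2.xA p t)⁻¹) * n⁻¹ =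
          b⁻¹ * (b * n * (v * C.c6.c2.xA p t) * C.c6.c2.xA p 1) * (b * n * (v * C.c6.c2.xA p t))⁻¹ * b := by group
      rw [this, hcomm]
      have : b⁻¹ * (C.c6.c2.xA p 1 * (b * n * (v * C.c6.c2.xA p t))) * (b * n * (v * C.c6.c2.xA p t))⁻¹ * b =
          b⁻¹ * C.c6.c2.xA p 1 * b := by group
      rw [this]
      exact mul_mem (mul_mem (inv_mem hb) (C.c6.xA_pos_mem_borel _ hp hpp _)) hb
    rw [ey] at hB
    exact one_ne_zero (C.coord_zero_of_conj_mem_borel i hi n hn π hπ hneg _ (mul_mem hv hx1) 1 hB)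
  have hnH := C.mem_diag_of_pos n hn π hπ hpos
  exact mul_mem (mul_mem hb (C.c6.diag_le_borel hnH)) (C.c6.Uw_le_borel n hu)


/-- an element of `H` that commutes with all the `x_r(1)` is trivial -/
theorem diag_eq_one_of_comm (h : GL D.Idx F) (hh : h ∈ D.diagonalSubgroup F)
    (hc : ∀ r < fd.n, Commute h (C.c6.c2.xA r 1)) : h = 1 := by
  have hd : ∀ r < fd.n, dE D h r = 1 := by
    intro r hr
    have h1 := C.diag_conj_xA h hh r hr 1
    rw [(hc r hr).eq, mul_assoc, mul_inv_cancel, mul_one, mul_one] at h1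
    exact (C.xA_param_inj' r hr _ _ h1).symm
  rw [C.diag_eq_range] at hh
  obtain ⟨x, rfl⟩ := hh
  apply gl_ext
  rw [chiHom_val, Units.val_one, ← Matrix.diagonal_one]
  congr 1
  funext a
  cases a with
  | inl j => rfl
  | inr s =>
    have hs : s.val < fd.n := by rw [← C.c6.c2.nroots_eq]; exact s.isLt
    have := hd s.val hs
    unfold dE at this
    rw [dif_pos s.isLt, chiHom_val, Matrix.diagonal_apply_eq] at this
    exact this

/-- an element commuting with all the root elements `x_r(1)` is trivial -/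
theorem eq_one_of_comm (g : GL D.Idx F) (hg : g ∈ D.group F)
    (hc : ∀ r < fd.n, Commute g (C.c6.c2.xA r 1)) : g = 1 := by
  have hev := C.c6.c2.heven
  have hgB := C.mem_borel_of_comm_simple g hg (fun i hi => hc _ (C.c6.c2.simple_lt i hi))
  -- `g` commutes with the elements `n_p`
  have hcS : ∀ m ∈ Subgroup.closure (SSet D F), Commute g m := by
    intro m hm
    induction hm using Subgroup.closure_induction with
    | mem x hx =>
      obtain ⟨i, hi, rfl⟩ := C.c6.eq_nG_of_SSet x hx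
      have hp := C.c6.c2.simple_lt i hi
      rw [C.c6.c2.nG_eq_xA' _ hp]
      have h1 := hc _ hp
      have h2 : Commute g (C.c6.c2.xA (fd.n - 1 - fd.simples.getD i 0) (-1)) := by
        rw [← C.c6.c2.xA_inv]
        exact (hc _ (by omega)).inv_right
      exact (h1.mul_right h2).mul_right h1
    | one => exact Commute.one_right _
    | mul x y _ _ hx hy => exact hx.mul_right hy
    | inv x _ hx => exact hx.inv_right
  -- an element of `⟨n_p⟩` mapping `U` into `V`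
  obtain ⟨n, hn, hUV⟩ := C.c6.c5.c3.exists_w0 (F := F)
  rw [← C.c6.closure_SSet_sup_diag] at hn
  have hSN : Subgroup.closure (SSet D F) ≤ Subgroup.normalizer (D.diagonalSubgroup F : Set (GL D.Idx F)) := by
    refine le_trans ?_ (C.c6.c2.monomial_le_normalizer_diag (F := F))
    rw [← C.c6.closure_SSet_sup_diag]
    exact le_sup_left
  have hn' : n ∈ ((Subgroup.closure (SSet D F) ⊔ D.diagonalSubgroup F : Subgroup _) : Set (GL D.Idx F)) := hn
  rw [Subgroup.coe_mul_of_left_le_normalizer_right _ _ hSN] at hn'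
  obtain ⟨m, hm, k, hk, rfl⟩ := Set.mem_mul.mp hn'
  have hm' : m ∈ Subgroup.closure (SSet D F) := hm
  have hk' : k ∈ D.diagonalSubgroup F := hk
  have hmV : ∀ u ∈ D.posUnipotent F, m * u * m⁻¹ ∈ D.negUnipotent F := by
    intro u hu
    have hu2 : k⁻¹ * u * k⁻¹⁻¹ ∈ D.posUnipotent F :=
      (Subgroup.mem_normalizer_iff.mp (C.c6.c2.diag_le_normalizer_pos (inv_mem hk')) u).mp hu
    have : m * u * m⁻¹ = (MulAut.conj (m * k)).toMonoidHom (k⁻¹ * u * k⁻¹⁻¹) := by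
      simp only [MulEquiv.toMonoidHom_eq_coe, MonoidHom.coe_coe, MulAut.conj_apply]
      group
    rw [this, ← hUV]
    exact ⟨_, hu2, rfl⟩
  obtain ⟨u, hu, h, hh, rfl⟩ := C.c6.c2.borel_mem g hgB
  have hmN : m ∈ D.monomialSubgroup F := by
    rw [← C.c6.closure_SSet_sup_diag]
    exact (le_sup_left : Subgroup.closure (SSet D F) ≤ _) hm'
  have hmh : m * h * m⁻¹ ∈ D.diagonalSubgroup F :=
    (Subgroup.mem_normalizer_iff.mp (C.c6.c2.monomial_le_normalizer_diag hmN) h).mp hh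
  have e1 : m * u * m⁻¹ = u * h * (m * h * m⁻¹)⁻¹ := by
    have := (hcS m hm').eq
    have e2 : m * (u * h) * m⁻¹ = u * h := by rw [← this]; group
    have : m * u * m⁻¹ = m * (u * h) * m⁻¹ * (m * h * m⁻¹)⁻¹ := by group
    rw [this, e2]
  have hmem : m * u * m⁻¹ ∈ D.borelSubgroup F ⊓ D.negUnipotent F := by
    refine Subgroup.mem_inf.mpr ⟨?_, hmV u hu⟩
    rw [e1]
    exact mul_mem hgB (C.c6.diag_le_borel (inv_mem hmh))
  rw [C.c6.c2.borel_inf_neg, Subgroup.mem_bot] at hmem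
  have hu1 : u = 1 := by
    have : u = m⁻¹ * (m * u * m⁻¹) * m := by group
    rw [this, hmem]; group
  subst hu1
  rw [one_mul] at hc ⊢
  exact C.diag_eq_one_of_comm h hh hc

end Cert12

end Gen

end Cfsg.Agent.Lib.H29.Chev
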