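import Mathlib
import Cfsg.Prelude.Def_ChevStructure
import Cfsg.Agent.Lib.H29.ChevNorm1
import Cfsg.Agent.Lib.H29.ChevUniq1

/-!
# Steinberg's presentation: facts about the Chevalley group that are used
-/

set_option autoImplicit false
set_option linter.unusedSectionVars false
set_option linter.unusedSimpArgs false
set_option linter.unusedVariables false

namespace Cfsg.Agent.Lib.H29.Chev

open Cfsg.Lie Matrix

variable {D : ChevalleyDatum} {fd : FD} {fx : FX} {fc : FC} {fz : FZ} {F : Type*} [Field F]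

theorem conj_list_prod {G : Type*} [Group G] (n : G) (L : List G) :
    n * L.prod * n⁻¹ = (L.map fun g => n * g * n⁻¹).prod := by
  induction L with
  | nil => simp
  | cons a L ih =>
    rw [List.prod_cons, List.map_cons, List.prod_cons, ← ih]
    group

namespace Cert12

variable (C : Cert12 D fd fx fc fz)
include C

/-- the constant of a conjugation of root subgroups is not zero -/
theorem conj_const_ne (m : GL D.Idx F) (s s' : ℕ) (hs : s < fd.n) (c : F)
    (hc : ∀ t, m * C.c6.c2.xA s t * m⁻¹ = C.c6.c2.xA s' (c * t)) : c ≠ 0 := by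
  intro h0
  have h1 := hc 1
  rw [h0, zero_mul, C.c6.c2.xA_zero] at h1
  have h2 : C.c6.c2.xA s (1 : F) = 1 := by
    have e := congrArg (fun g => m⁻¹ * g * m) h1
    simp only [mul_one, inv_mul_cancel] at e
    rw [← e]; group
  exact one_ne_zero (C.c6.xA_eq_one s hs (1 : F) h2)

theorem nE_inv (r : ℕ) (t : F) : (C.nE r t)⁻¹ = C.nE r (-t) := by
  unfold Cert12.nE
  rw [_root_.mul_inv_rev, _root_.mul_inv_rev, C.c6.c2.xA_inv, C.c6.c2.xA_inv, inv_neg, neg_neg, ← mul_assoc]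

/-- `n_p(t) = h_p(t) n_p` -/
theorem nE_eq (r : ℕ) (hr : r < fd.n) (t : F) :
    C.nE r t = (C.nE r t * C.nE r (-1)) * C.c6.c2.nG r hr := by
  rw [← C.nE_one r hr, ← neg_neg (1 : F), ← C.nE_inv, neg_neg, inv_mul_cancel_right]

theorem nE_mul_mem_diag (r : ℕ) (hr : r < fd.n) (t : F) (ht : t ≠ 0) :
    C.nE r t * C.nE r (-1) ∈ D.diagonalSubgroup F := by
  unfold ChevalleyDatum.diagonalSubgroup
  apply Subgroup.subset_closure
  refine ⟨r, t, by rw [C.c6.c2.nroots_eq]; exact hr, ht, ?_⟩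
  rw [Units.val_mul, C.nE_val r hr, C.nE_val r hr, hMat_mul C.c6.c2.agrees]

theorem nE_mem_monomial (r : ℕ) (hr : r < fd.n) (t : F) (ht : t ≠ 0) : C.nE r t ∈ D.monomialSubgroup F := by
  rw [C.nE_eq r hr t]
  apply mul_mem
  · unfold ChevalleyDatum.monomialSubgroup
    exact (le_sup_left : D.diagonalSubgroup F ≤ _) (C.nE_mul_mem_diag r hr t ht)
  · exact C.c6.c2.nG_mem_monomial _ _

/-- `n_p(t)` acts on the root subgroups as the reflection in `p` -/
theorem perm_nE (i : ℕ) (hi : i < fd.l) (t : F) (ht : t ≠ 0) :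
    C.c6.c2.Perm (C.nE (fd.simples.getD i 0) t) (fd.sw fx i) := by
  have hp := C.c6.c2.simple_lt i hi
  rw [C.nE_eq _ hp t]
  have := C.c6.perm_mul (C.c6.perm_diag _ (C.nE_mul_mem_diag _ hp t ht)) (C.c6.perm_nG i hi).1
  rw [Function.id_comp] at this
  exact this

/-- a non-trivial root element in the Borel subgroup belongs to a positive root -/
theorem pos_of_xA_mem_borel (r : ℕ) (hr : r < fd.n) (c : F) (hc : c ≠ 0)
    (h : C.c6.c2.xA r c ∈ D.borelSubgroup F) : fd.n / 2 ≤ r := by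
  by_contra hneg
  push Not at hneg
  have h1 : C.c6.c2.xA r c ∈ D.borelSubgroup F ⊓ D.negUnipotent F :=
    Subgroup.mem_inf.mpr ⟨h, C.c6.xA_neg_mem_neg r hr hneg c⟩
  rw [C.c6.c2.borel_inf_neg, Subgroup.mem_bot] at h1
  exact hc (C.c6.xA_eq_one r hr c h1)

/-- a product, in any order, of root elements of distinct negative roots is trivial only if all its factors are -/
theorem list_prod_eq_one_neg (L : List (ℕ × F)) (hL : ∀ p ∈ L, p.1 < fd.n / 2)
    (hnd : (L.map Prod.fst).Nodup)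
    (h1 : (L.map fun p => C.c6.c2.xA p.1 p.2).prod = (1 : GL D.Idx F)) :
    ∀ p ∈ L, p.2 = 0 := by
  have hev := C.c6.c2.heven
  obtain ⟨hw, hspec⟩ := fd.w0_spec C.c6.c2.w0
  have key : ∀ k : ℕ, k < fd.n / 2 → ∃ (s : ℕ) (ε : ℤ), s < fd.n ∧ fd.n / 2 ≤ s ∧ fd.wact fx fx.w0 s = k ∧
      ε * ε = 1 ∧ ∀ u : F, C.c6.c5.c3.nW fx.w0 * C.c6.c2.xA s u * (C.c6.c5.c3.nW fx.w0)⁻¹ =
        C.c6.c2.xA k ((ε : F) * u) := by
    intro k hk
    obtain ⟨k1, k2, k3⟩ := (hspec k (by omega)).2 hk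
    obtain ⟨_, ε, hε, h2⟩ := C.c6.c5.c3.nW_conj (F := F) fx.w0 hw _ k1
    refine ⟨_, ε, k1, k2, k3, hε, fun u => ?_⟩
    rw [h2 u, k3]
  choose! sf εf hsf using key
  set n₀ := C.c6.c5.c3.nW (F := F) fx.w0 with hn₀
  -- the conjugated list
  set L' : List (ℕ × F) := L.map fun p => (sf p.1, ((εf p.1 : ℤ) : F) * p.2) with hL'
  have e1 : (L.map fun p => C.c6.c2.xA p.1 p.2).prod =
      n₀ * (L'.map fun p => C.c6.c2.xA p.1 p.2).prod * n₀⁻¹ := by
    rw [conj_list_prod, hL', List.map_map, List.map_map]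
    congr 1
    apply List.map_congr_left
    intro p hp
    obtain ⟨_, _, _, hε, h5⟩ := hsf p.1 (hL p hp)
    simp only [Function.comp]
    rw [h5, ← mul_assoc, ← Int.cast_mul, hε, Int.cast_one, one_mul]
  have e2 : (L'.map fun p => C.c6.c2.xA p.1 p.2).prod = (1 : GL D.Idx F) := by
    have : (L'.map fun p => C.c6.c2.xA p.1 p.2).prod =
        n₀⁻¹ * (n₀ * (L'.map fun p => C.c6.c2.xA p.1 p.2).prod * n₀⁻¹) * n₀ := by group
    rw [this, ← e1, h1]; group
  have hL'1 : ∀ p ∈ L', p.1 < fd.n ∧ fd.n / 2 ≤ p.1 := by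
    intro p hp
    rw [hL', List.mem_map] at hp
    obtain ⟨q, hq, rfl⟩ := hp
    obtain ⟨h1, h2, _⟩ := hsf q.1 (hL q hq)
    exact ⟨h1, h2⟩
  have hL'2 : (L'.map Prod.fst).Nodup := by
    rw [hL', List.map_map]
    have : (Prod.fst ∘ fun p : ℕ × F => (sf p.1, ((εf p.1 : ℤ) : F) * p.2)) = sf ∘ Prod.fst := rfl
    rw [this, ← List.map_map]
    apply List.Nodup.map_on _ hnd
    intro a ha b hb hab
    rw [List.mem_map] at ha hb
    obtain ⟨pa, hpa, rfl⟩ := ha
    obtain ⟨pb, hpb, rfl⟩ := hb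
    have ea := (hsf pa.1 (hL pa hpa)).2.2.1
    have eb := (hsf pb.1 (hL pb hpb)).2.2.1
    rw [← ea, ← eb, hab]
  intro p hp
  have hp' : (sf p.1, ((εf p.1 : ℤ) : F) * p.2) ∈ L' := by
    rw [hL', List.mem_map]
    exact ⟨p, hp, rfl⟩
  have h0 := C.list_prod_eq_one L' hL'1 hL'2 e2 _ hp'
  simp only at h0
  obtain ⟨_, _, _, hε, _⟩ := hsf p.1 (hL p hp)
  have : ((εf p.1 : ℤ) : F) * (((εf p.1 : ℤ) : F) * p.2) = p.2 := by
    rw [← mul_assoc, ← Int.cast_mul, hε, Int.cast_one, one_mul]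
  rw [← this, h0, mul_zero]

end Cert12

end Cfsg.Agent.Lib.H29.Chev
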