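import Mathlib
import Cfsg.Prelude.Def_ChevStructure
import Cfsg.Agent.Lib.H29.ChevStA

/-!
# Steinberg's presentation: groups with Steinberg's relations (R1), (R2), and the subgroups `Ū`, `V̄`
-/

set_option autoImplicit false
set_option linter.unusedSectionVars false
set_option linter.unusedSimpArgs false
set_option linter.unusedVariables false

namespace Cfsg.Agent.Lib.H29.Chev

open Cfsg.Lie Matrix

/-- conjugation by `g` maps the closure of `S` into itself as soon as it maps `S` into it -/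
theorem conj_mem_closure {M : Type*} [Group M] (S : Set M) (g : M)
    (h : ∀ x ∈ S, g * x * g⁻¹ ∈ Subgroup.closure S) : ∀ x ∈ Subgroup.closure S, g * x * g⁻¹ ∈ Subgroup.closure S := by
  intro x hx
  induction hx using Subgroup.closure_induction with
  | mem x hx => exact h x hx
  | one => simp
  | mul x y _ _ hx hy =>
    have : g * (x * y) * g⁻¹ = (g * x * g⁻¹) * (g * y * g⁻¹) := by group
    rw [this]
    exact mul_mem hx hy
  | inv x _ hx =>
    have : g * x⁻¹ * g⁻¹ = (g * x * g⁻¹)⁻¹ := by group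
    rw [this]
    exact inv_mem hx

/-- generic collection: in a group generated by "root elements" `z k t`, `lo ≤ k < N`, such that `z s u` and `z m t`
commute up to elements of higher index, every element is an ordered product -/
theorem collect_gen {M : Type*} [Group M] {F : Type*} [AddGroup F] (z : ℕ → F → M) (lo N : ℕ)
    (hadd : ∀ k, lo ≤ k → k < N → ∀ t u, z k t * z k u = z k (t + u))
    (hcomm : ∀ m s, lo ≤ m → m < s → s < N → ∀ t u,
      ∃ w ∈ Subgroup.closure {g | ∃ k v, m < k ∧ k < N ∧ g = z k v}, z s u * z m t = z m t * w) :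
    ∀ j m, m + j = N → lo ≤ m → ∀ g ∈ Subgroup.closure {g | ∃ k v, m ≤ k ∧ k < N ∧ g = z k v},
      ∃ t : ℕ → F, g = ((List.range' m j).map fun k => z k (t k)).prod := by
  have hzero : ∀ k, lo ≤ k → k < N → z k 0 = 1 := by
    intro k h1 h2
    have := hadd k h1 h2 0 0
    rw [add_zero] at this
    exact mul_eq_left.mp this
  have hinv : ∀ k, lo ≤ k → k < N → ∀ t, (z k t)⁻¹ = z k (-t) := by
    intro k h1 h2 t
    apply inv_eq_of_mul_eq_one_right
    rw [hadd k h1 h2, add_neg_cancel, hzero k h1 h2]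
  intro j
  induction j with
  | zero =>
    intro m hm _ g hg
    have : {g : M | ∃ k v, m ≤ k ∧ k < N ∧ g = z k v} = ∅ := by
      ext g
      simp only [Set.mem_ofPred_eq, Set.mem_empty_iff_false, iff_false]
      rintro ⟨k, v, h1, h2, _⟩
      omega
    rw [this, Subgroup.closure_empty, Subgroup.mem_bot] at hg
    exact ⟨fun _ => 0, by simp [hg]⟩
  | succ j ih =>
    intro m hm hlo g hg
    -- peel off the factor of index `m`
    have peel : ∃ t : F, ∃ g' ∈ Subgroup.closure {g | ∃ k v, m + 1 ≤ k ∧ k < N ∧ g = z k v}, g = z m t * g' := by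
      have step : ∀ (s : ℕ) (u : F), m ≤ s → s < N → ∀ (t : F),
          ∀ g' ∈ Subgroup.closure {g | ∃ k v, m + 1 ≤ k ∧ k < N ∧ g = z k v},
          ∃ t' : F, ∃ g'' ∈ Subgroup.closure {g | ∃ k v, m + 1 ≤ k ∧ k < N ∧ g = z k v},
            z s u * (z m t * g') = z m t' * g'' := by
        intro s u hms hsN t g' hg'
        rcases Nat.eq_or_lt_of_le hms with rfl | hlt
        · exact ⟨u + t, g', hg', by rw [← mul_assoc, hadd m hlo hsN]⟩
        · obtain ⟨w, hw, e⟩ := hcomm m s hlo hlt hsN t u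
          refine ⟨t, w * g', mul_mem hw hg', ?_⟩
          rw [← mul_assoc, e, mul_assoc]
      induction hg using Subgroup.closure_induction_left with
      | one => exact ⟨0, 1, one_mem _, by rw [hzero m hlo (by omega), one_mul]⟩
      | mul_left x hx y _ ih' =>
        obtain ⟨t, g', hg', rfl⟩ := ih'
        obtain ⟨s, u, hs1, hs2, rfl⟩ := hx
        exact step s u hs1 hs2 t g' hg'
      | inv_mul_cancel x hx y _ ih' =>
        obtain ⟨t, g', hg', rfl⟩ := ih'
        obtain ⟨s, u, hs1, hs2, rfl⟩ := hx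
        rw [hinv s (by omega) hs2]
        exact step s (-u) hs1 hs2 t g' hg'
    obtain ⟨t0, g', hg', rfl⟩ := peel
    obtain ⟨t', rfl⟩ := ih (m + 1) (by omega) (by omega) g' hg'
    refine ⟨Function.update t' m t0, ?_⟩
    rw [List.range'_succ, List.map_cons, List.prod_cons, Function.update_self]
    congr 2
    apply List.map_congr_left
    intro k hk
    rw [List.mem_range'_1] at hk
    rw [Function.update_of_ne (by omega)]

variable {D : ChevalleyDatum} {fd : FD} {fx : FX} {fc : FC} {fz : FZ}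

namespace Cert12

variable {F : Type*} [Field F] (C : Cert12 D fd fx fc fz)
include C

/-- the functional `fL` is additive along the commutator formula -/
theorem fL_lin (r s : ℕ) (hr : r < fd.n) (hs : s < fd.n) (c : ℕ × ℤ × ℕ × ℕ) (hc : c ∈ fd.commT r s) :
    fd.fL fx c.1 = (c.2.2.1 : ℤ) * fd.fL fx r + (c.2.2.2 : ℤ) * fd.fL fx s := by
  obtain ⟨_, h2, _⟩ := fd.linc_spec C.linc r s hr hs c hc
  rw [← FD.omr_lexW, ← FD.omr_lexW, ← FD.omr_lexW]
  unfold FD.omr
  rw [listsum_eq, listsum_eq, listsum_eq, Finset.mul_sum, Finset.mul_sum, ← Finset.sum_add_distrib]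
  apply Finset.sum_congr rfl
  intro j hj
  rw [h2 j (Finset.mem_range.mp hj)]
  ring

/-- the terms of the commutator formula of two negative roots are negative roots of smaller index -/
theorem neg_order (r s : ℕ) (hr : r < fd.n / 2) (hs : s < fd.n / 2) (c : ℕ × ℤ × ℕ × ℕ)
    (hc : c ∈ fd.commT r s) : c.1 < r ∧ c.1 < s := by
  have hev := C.c6.c2.heven
  have hr' : r < fd.n := by omega
  have hs' : s < fd.n := by omega
  obtain ⟨hcn, _, _⟩ := fd.linc_spec C.linc r s hr' hs' c hc
  obtain ⟨hi, hj⟩ := fd.commT_ij r s c hc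
  have e := C.fL_lin r s hr' hs' c hc
  have n1 := C.fL_neg r hr'
  have n2 := C.fL_neg s hs'
  have p1 := C.fL_pos (fd.n - 1 - r) (by omega) (by omega)
  have p2 := C.fL_pos (fd.n - 1 - s) (by omega) (by omega)
  have hi' : (1 : ℤ) ≤ (c.2.2.1 : ℤ) := by exact_mod_cast hi
  have hj' : (1 : ℤ) ≤ (c.2.2.2 : ℤ) := by exact_mod_cast hj
  have b1 : fd.fL fx c.1 < fd.fL fx r := by nlinarith
  have b2 : fd.fL fx c.1 < fd.fL fx s := by nlinarith
  have hcneg : c.1 < fd.n / 2 := by
    by_contra h
    push Not at h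
    have := C.fL_pos c.1 hcn h
    nlinarith
  have n3 := C.fL_neg c.1 hcn
  constructor
  · by_contra h
    push Not at h
    rcases Nat.eq_or_lt_of_le h with h | h
    · rw [h] at b1; exact lt_irrefl _ b1
    · have := C.fL_lt (fd.n - 1 - c.1) (fd.n - 1 - r) (by omega) (by omega) (by omega) (by omega)
      linarith
  · by_contra h
    push Not at h
    rcases Nat.eq_or_lt_of_le h with h | h
    · rw [h] at b2; exact lt_irrefl _ b2
    · have := C.fL_lt (fd.n - 1 - c.1) (fd.n - 1 - s) (by omega) (by omega) (by omega) (by omega)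
      linarith

end Cert12

/-- a group with elements `y r t` that satisfy Steinberg's relations (R1) and (R2) and generate it, together with a
homomorphism to the Chevalley group that maps `y r t` to `x_r(t)` -/
structure StG (C : Cert12 D fd fx fc fz) (F : Type*) [Field F] (M : Type*) [Group M] where
  y : ℕ → F → M
  θ : M →* GL D.Idx F
  y_add : ∀ r, r < fd.n → ∀ t u, y r t * y r u = y r (t + u)
  y_comm : ∀ r s, r < fd.n → s < fd.n → s ≠ r → s ≠ fd.n - 1 - r → ∀ t u,
    y s u * y r t = y r t * y s u *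
      ((fd.commT r s).map fun c => y c.1 (((c.2.1 : ℤ) : F) * (-t) ^ c.2.2.1 * u ^ c.2.2.2)).prod
  θ_y : ∀ r, r < fd.n → ∀ t, θ (y r t) = C.c6.c2.xA r t
  gen : Subgroup.closure {g | ∃ r t, r < fd.n ∧ g = y r t} = ⊤

namespace StG

variable {C : Cert12 D fd fx fc fz} {F : Type*} [Field F] {M : Type*} [Group M] (S : StG C F M)

theorem y_zero (r : ℕ) (hr : r < fd.n) : S.y r 0 = 1 := by
  have := S.y_add r hr 0 0
  rw [add_zero] at this
  exact mul_eq_left.mp this

theorem y_inv (r : ℕ) (hr : r < fd.n) (t : F) : (S.y r t)⁻¹ = S.y r (-t) := by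
  apply inv_eq_of_mul_eq_one_right
  rw [S.y_add r hr, add_neg_cancel, S.y_zero r hr]

/-- the product of the terms of a commutator formula -/
def cty (L : List (ℕ × ℤ × ℕ × ℕ)) (t u : F) : M :=
  (L.map fun c => S.y c.1 (((c.2.1 : ℤ) : F) * (-t) ^ c.2.2.1 * u ^ c.2.2.2)).prod

theorem θ_cty (L : List (ℕ × ℤ × ℕ × ℕ)) (hL : ∀ c ∈ L, c.1 < fd.n) (t u : F) :
    S.θ (S.cty L t u) = C.c6.c2.ctG L t u := by
  unfold cty Cert2.ctG
  rw [map_list_prod, List.map_map]
  congr 1
  apply List.map_congr_left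
  intro c hc
  simp only [Function.comp]
  rw [S.θ_y _ (hL c hc)]

/-- conjugating `y s u` by `y r t` -/
theorem conj_y (r s : ℕ) (hr : r < fd.n) (hs : s < fd.n) (h1 : s ≠ r) (h2 : s ≠ fd.n - 1 - r) (t u : F) :
    (S.y r t)⁻¹ * S.y s u * S.y r t = S.y s u * S.cty (fd.commT r s) t u := by
  have := S.y_comm r s hr hs h1 h2 t u
  rw [mul_assoc, this]
  unfold cty
  group

/-- the subgroup generated by the root elements of the positive roots -/
def Ubar : Subgroup M := Subgroup.closure {g | ∃ k v, fd.n / 2 ≤ k ∧ k < fd.n ∧ g = S.y k v}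

/-- the subgroup generated by the root elements of the negative roots -/
def Vbar : Subgroup M := Subgroup.closure {g | ∃ k v, k < fd.n / 2 ∧ g = S.y k v}

theorem y_mem_Ubar (k : ℕ) (h1 : fd.n / 2 ≤ k) (h2 : k < fd.n) (v : F) : S.y k v ∈ S.Ubar :=
  Subgroup.subset_closure ⟨k, v, h1, h2, rfl⟩

theorem y_mem_Vbar (k : ℕ) (h1 : k < fd.n / 2) (v : F) : S.y k v ∈ S.Vbar :=
  Subgroup.subset_closure ⟨k, v, h1, rfl⟩

theorem θ_Ubar (g : M) (hg : g ∈ S.Ubar) : S.θ g ∈ D.posUnipotent F := by
  unfold Ubar at hg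
  induction hg using Subgroup.closure_induction with
  | mem x hx =>
    obtain ⟨k, v, h1, h2, rfl⟩ := hx
    rw [S.θ_y k h2]
    exact C.xA_mem_posU k h2 h1 v
  | one => rw [map_one]; exact one_mem _
  | mul x y _ _ hx hy => rw [map_mul]; exact mul_mem hx hy
  | inv x _ hx => rw [map_inv]; exact inv_mem hx

theorem θ_Vbar (g : M) (hg : g ∈ S.Vbar) : S.θ g ∈ D.negUnipotent F := by
  have hev := C.c6.c2.heven
  unfold Vbar at hg
  induction hg using Subgroup.closure_induction with
  | mem x hx =>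
    obtain ⟨k, v, h1, rfl⟩ := hx
    rw [S.θ_y k (by omega)]
    exact C.c6.xA_neg_mem_neg k (by omega) h1 v
  | one => rw [map_one]; exact one_mem _
  | mul x y _ _ hx hy => rw [map_mul]; exact mul_mem hx hy
  | inv x _ hx => rw [map_inv]; exact inv_mem hx

/-- the elements of `Ū` are ordered products -/
theorem Ubar_oprod (g : M) (hg : g ∈ S.Ubar) :
    ∃ t : ℕ → F, g = ((List.range' (fd.n / 2) (fd.n / 2)).map fun k => S.y k (t k)).prod := by
  have hev := C.c6.c2.heven
  apply collect_gen S.y (fd.n / 2) fd.n (fun k _ h2 => S.y_add k h2) ?_ (fd.n / 2) (fd.n / 2) (by omega) (le_refl _) g hg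
  intro m s hm hms hs t u
  refine ⟨S.y s u * S.cty (fd.commT m s) t u, ?_, ?_⟩
  · apply mul_mem
    · exact Subgroup.subset_closure ⟨s, u, hms, hs, rfl⟩
    · unfold cty
      apply Subgroup.list_prod_mem
      intro x hx
      obtain ⟨c, hc, rfl⟩ := List.mem_map.mp hx
      obtain ⟨h1, _, h3⟩ := fd.linc_spec C.linc m s (by omega) hs c hc
      have := h3 hm (by omega) (by omega)
      exact Subgroup.subset_closure ⟨c.1, _, by omega, h1, rfl⟩
  · rw [S.y_comm m s (by omega) hs (by omega) (by omega) t u, mul_assoc]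
    rfl

/-- `θ` is injective on `Ū` -/
theorem ker_Ubar (g : M) (hg : g ∈ S.Ubar) (h : S.θ g = 1) : g = 1 := by
  have hev := C.c6.c2.heven
  obtain ⟨t, rfl⟩ := S.Ubar_oprod g hg
  rw [map_list_prod, List.map_map] at h
  have h0 : ∀ p ∈ (List.range' (fd.n / 2) (fd.n / 2)).map (fun k => (k, t k)), p.2 = 0 := by
    apply C.list_prod_eq_one
    · intro p hp
      obtain ⟨k, hk, rfl⟩ := List.mem_map.mp hp
      rw [List.mem_range'_1] at hk
      exact ⟨by simp only; omega, hk.1⟩
    · rw [List.map_map]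
      have : (Prod.fst ∘ fun k => (k, t k)) = id := rfl
      rw [this, List.map_id]
      exact List.nodup_range'
    · rw [List.map_map, ← h]
      congr 1
      apply List.map_congr_left
      intro k hk
      rw [List.mem_range'_1] at hk
      simp only [Function.comp]
      rw [S.θ_y k (by omega)]
  apply List.prod_eq_one
  intro x hx
  obtain ⟨k, hk, rfl⟩ := List.mem_map.mp hx
  have := h0 (k, t k) (List.mem_map.mpr ⟨k, hk, rfl⟩)
  simp only at this
  rw [List.mem_range'_1] at hk
  rw [this, S.y_zero k (by omega)]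

/-- the elements of `V̄` are ordered products -/
theorem Vbar_oprod (g : M) (hg : g ∈ S.Vbar) :
    ∃ t : ℕ → F, g = ((List.range' (fd.n / 2) (fd.n / 2)).map fun k => S.y (fd.n - 1 - k) (t k)).prod := by
  have hev := C.c6.c2.heven
  have hset : {g : M | ∃ k v, k < fd.n / 2 ∧ g = S.y k v} =
      {g | ∃ k v, fd.n / 2 ≤ k ∧ k < fd.n ∧ g = S.y (fd.n - 1 - k) v} := by
    ext g
    constructor
    · rintro ⟨k, v, hk, rfl⟩
      exact ⟨fd.n - 1 - k, v, by omega, by omega, by rw [show fd.n - 1 - (fd.n - 1 - k) = k by omega]⟩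
    · rintro ⟨k, v, h1, h2, rfl⟩
      exact ⟨fd.n - 1 - k, v, by omega, rfl⟩
  unfold Vbar at hg
  rw [hset] at hg
  apply collect_gen (fun k => S.y (fd.n - 1 - k)) (fd.n / 2) fd.n (fun k _ h2 => S.y_add _ (by omega)) ?_
    (fd.n / 2) (fd.n / 2) (by omega) (le_refl _) g hg
  intro m s hm hms hs t u
  refine ⟨S.y (fd.n - 1 - s) u * S.cty (fd.commT (fd.n - 1 - m) (fd.n - 1 - s)) t u, ?_, ?_⟩
  · apply mul_mem
    · exact Subgroup.subset_closure ⟨s, u, hms, hs, rfl⟩
    · unfold cty
      apply Subgroup.list_prod_mem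
      intro x hx
      obtain ⟨c, hc, rfl⟩ := List.mem_map.mp hx
      obtain ⟨h1, h2⟩ := C.neg_order (fd.n - 1 - m) (fd.n - 1 - s) (by omega) (by omega) c hc
      refine Subgroup.subset_closure ⟨fd.n - 1 - c.1, ((c.2.1 : ℤ) : F) * (-t) ^ c.2.2.1 * u ^ c.2.2.2,
        by omega, by omega, ?_⟩
      rw [show fd.n - 1 - (fd.n - 1 - c.1) = c.1 by omega]
  · rw [S.y_comm (fd.n - 1 - m) (fd.n - 1 - s) (by omega) (by omega) (by omega) (by omega) t u, mul_assoc]
    rfl

/-- `θ` is injective on `V̄` -/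
theorem ker_Vbar (g : M) (hg : g ∈ S.Vbar) (h : S.θ g = 1) : g = 1 := by
  have hev := C.c6.c2.heven
  obtain ⟨t, rfl⟩ := S.Vbar_oprod g hg
  rw [map_list_prod, List.map_map] at h
  have h0 : ∀ p ∈ (List.range' (fd.n / 2) (fd.n / 2)).map (fun k => (fd.n - 1 - k, t k)), p.2 = 0 := by
    apply C.list_prod_eq_one_neg
    · intro p hp
      obtain ⟨k, hk, rfl⟩ := List.mem_map.mp hp
      rw [List.mem_range'_1] at hk
      simp only; omega
    · rw [List.map_map]
      have : (Prod.fst ∘ fun k => (fd.n - 1 - k, t k)) = fun k => fd.n - 1 - k := rfl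
      rw [this]
      apply List.Nodup.map_on _ List.nodup_range'
      intro a ha b hb hab
      rw [List.mem_range'_1] at ha hb
      omega
    · rw [List.map_map, ← h]
      congr 1
      apply List.map_congr_left
      intro k hk
      rw [List.mem_range'_1] at hk
      simp only [Function.comp]
      rw [S.θ_y _ (by omega)]
  apply List.prod_eq_one
  intro x hx
  obtain ⟨k, hk, rfl⟩ := List.mem_map.mp hx
  have := h0 (fd.n - 1 - k, t k) (List.mem_map.mpr ⟨k, hk, rfl⟩)
  simp only at this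
  rw [List.mem_range'_1] at hk
  rw [this, S.y_zero _ (by omega)]

end StG

end Cfsg.Agent.Lib.H29.Chev
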