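import Mathlib
import Cfsg.Prelude.Def_ChevStructure
import Cfsg.Agent.Lib.H29.ChevFast6

/-!
# Steinberg's presentation: the checks on the tables

For the `i`-th fundamental root `p`: the terms of the commutator formula for the pairs `(±p, s)`, `s` a negative root
other than `-p`, are negative roots other than `-p`; and there is a pair of roots `(a, b)`, both different from `±p`,
whose commutator formula contains a term `x_p(± t u^j)`, all other terms belonging to roots `c ≠ ±p` with `w_p c` positive,
and such that the terms for `(w_p a, w_p b)` belong to `-p` or to positive roots other than `p`.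
-/

set_option autoImplicit false
set_option linter.unusedSectionVars false
set_option linter.unusedSimpArgs false

namespace Cfsg.Agent.Lib.H29.Chev

open Cfsg.Lie Matrix

namespace FD

variable (fd : FD) (fx : FX)

/-- `x` is a negative root other than `-p` -/
def negne (p x : ℕ) : Bool := Nat.blt x (fd.n / 2) && !(Nat.beq x (fd.n - 1 - p))

/-- `x` is `-p` or a positive root other than `p` -/
def pneg (p x : ℕ) : Bool := Nat.beq x (fd.n - 1 - p) || fd.posne p x

def chkStN (i : ℕ) : Bool :=
  (List.range (fd.n / 2)).all fun s =>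
    Nat.beq s (fd.n - 1 - fd.simples.getD i 0) ||
      (((fd.commT (fd.simples.getD i 0) s).all fun c => fd.negne (fd.simples.getD i 0) c.1) &&
       ((fd.commT (fd.n - 1 - fd.simples.getD i 0) s).all fun c => fd.negne (fd.simples.getD i 0) c.1))

/-- the test on the entries of the formula for `(a, b)` other than the one of `p` -/
def stOther (p : ℕ) (c : ℕ × ℤ × ℕ × ℕ) : Bool :=
  !(Nat.beq c.1 p) && !(Nat.beq c.1 (fd.n - 1 - p)) && Nat.blt c.1 fd.n && fd.posne p (fd.nw fx p c.1)

def chkStR (i a b : ℕ) : Bool :=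
  Nat.blt a fd.n && Nat.blt b fd.n && !(Nat.beq b a) && !(Nat.beq b (fd.n - 1 - a)) &&
  !(Nat.beq a (fd.simples.getD i 0)) && !(Nat.beq a (fd.n - 1 - fd.simples.getD i 0)) &&
  !(Nat.beq b (fd.simples.getD i 0)) && !(Nat.beq b (fd.n - 1 - fd.simples.getD i 0)) &&
  (match (fd.commT a b).dropWhile (fun c => !(Nat.beq c.1 (fd.simples.getD i 0))) with
   | [] => false
   | c₀ :: L₂ => Nat.beq c₀.1 (fd.simples.getD i 0) && (intBeq c₀.2.1 1 || intBeq c₀.2.1 (-1)) && Nat.beq c₀.2.2.1 1 &&
       (((fd.commT a b).takeWhile (fun c => !(Nat.beq c.1 (fd.simples.getD i 0)))).all (fd.stOther fx (fd.simples.getD i 0))) &&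
       (L₂.all (fd.stOther fx (fd.simples.getD i 0)))) &&
  ((fd.commT (fd.nw fx (fd.simples.getD i 0) a) (fd.nw fx (fd.simples.getD i 0) b)).all fun c =>
    fd.pneg (fd.simples.getD i 0) c.1)

/-- the check, with the pairs `(a, b)` listed in `wit` -/
def chkSt (wit : List (ℕ × ℕ)) (i : ℕ) : Bool :=
  fd.chkStN i && fd.chkStR fx i (wit.getD i (0, 0)).1 (wit.getD i (0, 0)).2

def ChkSt (wit : List (ℕ × ℕ)) : Prop := ∀ i < fd.l, fd.chkSt fx wit i = true

/-- search for a pair `(a, b)` -/
def findSt (i : ℕ) : Option (ℕ × ℕ) :=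
  ((List.range fd.n).flatMap fun a => (List.range fd.n).map fun b => (a, b)).find? fun ab => fd.chkStR fx i ab.1 ab.2

end FD

end Cfsg.Agent.Lib.H29.Chev
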