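import Mathlib
import Cfsg.Prelude.Def_ChevStructure
import Cfsg.Agent.Lib.H29.ChevStB
import Cfsg.Agent.Lib.H29.ChevStChk

/-!
# Steinberg's presentation: the subgroups `Ū_p`, `V̄_p` and their normalizers
-/

set_option autoImplicit false
set_option linter.unusedSectionVars false
set_option linter.unusedSimpArgs false
set_option linter.unusedVariables false

namespace Cfsg.Agent.Lib.H29.Chev

open Cfsg.Lie Matrix

variable {D : ChevalleyDatum} {fd : FD} {fx : FX} {fc : FC} {fz : FZ}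

/-- `x` is a negative root other than `-p` -/
def FD.Nn (fd : FD) (p x : ℕ) : Prop := x < fd.n / 2 ∧ x ≠ fd.n - 1 - p

theorem FD.negne_iff (p x : ℕ) : fd.negne p x = true ↔ fd.Nn p x := by
  unfold FD.negne FD.Nn
  simp only [Bool.and_eq_true, natBlt_iff, Bool.not_eq_true', ← Bool.not_eq_true, natBeq_iff, ne_eq]

theorem FD.pneg_iff (p x : ℕ) : fd.pneg p x = true ↔ (x = fd.n - 1 - p ∨ fd.Pn p x) := by
  unfold FD.pneg
  simp only [Bool.or_eq_true, natBeq_iff, FD.posne_iff]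

/-- what `chkStN` says -/
theorem FD.stN_spec {wit : List (ℕ × ℕ)} (h : fd.ChkSt fx wit) (i : ℕ) (hi : i < fd.l) (s : ℕ)
    (hs : fd.Nn (fd.simples.getD i 0) s) :
    (∀ c ∈ fd.commT (fd.simples.getD i 0) s, fd.Nn (fd.simples.getD i 0) c.1) ∧
    (∀ c ∈ fd.commT (fd.n - 1 - fd.simples.getD i 0) s, fd.Nn (fd.simples.getD i 0) c.1) := by
  have := h i hi
  unfold FD.chkSt at this
  rw [Bool.and_eq_true] at this
  have h1 := this.1
  unfold FD.chkStN at h1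
  simp only [List.all_eq_true, List.mem_range, Bool.or_eq_true, natBeq_iff, Bool.and_eq_true, FD.negne_iff] at h1
  rcases h1 s hs.1 with h2 | h2
  · exact absurd h2 hs.2
  · exact h2

/-- what `chkStR` says -/
theorem FD.stR_spec {wit : List (ℕ × ℕ)} (h : fd.ChkSt fx wit) (i : ℕ) (hi : i < fd.l) :
    ∃ (a b : ℕ) (L₁ L₂ : List (ℕ × ℤ × ℕ × ℕ)) (c₀ : ℕ × ℤ × ℕ × ℕ),
      a < fd.n ∧ b < fd.n ∧ b ≠ a ∧ b ≠ fd.n - 1 - a ∧
      a ≠ fd.simples.getD i 0 ∧ a ≠ fd.n - 1 - fd.simples.getD i 0 ∧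
      b ≠ fd.simples.getD i 0 ∧ b ≠ fd.n - 1 - fd.simples.getD i 0 ∧
      fd.commT a b = L₁ ++ c₀ :: L₂ ∧ c₀.1 = fd.simples.getD i 0 ∧ (c₀.2.1 = 1 ∨ c₀.2.1 = -1) ∧ c₀.2.2.1 = 1 ∧
      (∀ c, c ∈ L₁ ∨ c ∈ L₂ → c.1 ≠ fd.simples.getD i 0 ∧ c.1 ≠ fd.n - 1 - fd.simples.getD i 0 ∧ c.1 < fd.n ∧
        fd.Pn (fd.simples.getD i 0) (fd.nw fx (fd.simples.getD i 0) c.1)) ∧
      (∀ c ∈ fd.commT (fd.nw fx (fd.simples.getD i 0) a) (fd.nw fx (fd.simples.getD i 0) b),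
        c.1 = fd.n - 1 - fd.simples.getD i 0 ∨ fd.Pn (fd.simples.getD i 0) c.1) := by
  have := h i hi
  unfold FD.chkSt at this
  rw [Bool.and_eq_true] at this
  have h1 := this.2
  unfold FD.chkStR at h1
  generalize (wit.getD i (0, 0)).1 = a at h1
  generalize (wit.getD i (0, 0)).2 = b at h1
  have hsplit := List.takeWhile_append_dropWhile (p := fun c : ℕ × ℤ × ℕ × ℕ => !(Nat.beq c.1 (fd.simples.getD i 0)))
    (l := fd.commT a b)
  generalize hR : (fd.commT a b).dropWhile (fun c => !(Nat.beq c.1 (fd.simples.getD i 0))) = R at h1 hsplit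
  generalize hT : (fd.commT a b).takeWhile (fun c => !(Nat.beq c.1 (fd.simples.getD i 0))) = T at h1 hsplit
  cases R with
  | nil => simp at h1
  | cons c₀ L₂ =>
    simp only [Bool.and_eq_true, natBlt_iff, Bool.not_eq_true', ← Bool.not_eq_true, natBeq_iff, Bool.or_eq_true,
      intBeq_iff, List.all_eq_true, FD.pneg_iff] at h1
    obtain ⟨⟨⟨⟨⟨⟨⟨⟨⟨a1, a2⟩, a3⟩, a4⟩, a5⟩, a6⟩, a7⟩, a8⟩, ⟨⟨⟨⟨b1, b2⟩, b3⟩, b4⟩, b5⟩⟩, a9⟩ := h1
    have conv : ∀ c : ℕ × ℤ × ℕ × ℕ, fd.stOther fx (fd.simples.getD i 0) c = true →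
        c.1 ≠ fd.simples.getD i 0 ∧ c.1 ≠ fd.n - 1 - fd.simples.getD i 0 ∧ c.1 < fd.n ∧
        fd.Pn (fd.simples.getD i 0) (fd.nw fx (fd.simples.getD i 0) c.1) := by
      intro c hc
      unfold FD.stOther at hc
      simp only [Bool.and_eq_true, natBlt_iff, Bool.not_eq_true', ← Bool.not_eq_true, natBeq_iff, FD.posne_iff] at hc
      exact ⟨hc.1.1.1, hc.1.1.2, hc.1.2, hc.2⟩
    refine ⟨a, b, T, L₂, c₀, a1, a2, a3, a4, a5, a6, a7, a8, hsplit.symm, b1, b2, b3, ?_, a9⟩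
    rintro c (hc | hc)
    · exact conv c (b4 c hc)
    · exact conv c (b5 c hc)

end Cfsg.Agent.Lib.H29.Chev

namespace Cfsg.Agent.Lib.H29.Chev

open Cfsg.Lie Matrix

variable {D : ChevalleyDatum} {fd : FD} {fx : FX} {fc : FC} {fz : FZ}

namespace Cert12

variable {F : Type*} [Field F] (C : Cert12 D fd fx fc fz)
include C

theorem sw_Pn (i s : ℕ) (hi : i < fd.l) (hs : fd.Pn (fd.simples.getD i 0) s) :
    fd.Pn (fd.simples.getD i 0) (fd.sw fx i s) :=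
  ((fd.up_spec C.c6.up i hi s hs.1).2.2 hs.2.1 hs.2.2).1

theorem sw_Nn (i s : ℕ) (hi : i < fd.l) (hs : fd.Nn (fd.simples.getD i 0) s) :
    fd.Nn (fd.simples.getD i 0) (fd.sw fx i s) := by
  have hev := C.c6.c2.heven
  have hp := C.c6.c2.simple_lt i hi
  obtain ⟨h1, h2⟩ := hs
  have h3 : fd.Pn (fd.simples.getD i 0) (fd.n - 1 - s) := ⟨by omega, by omega, by omega⟩
  obtain ⟨k1, k2, k3⟩ := C.sw_Pn i _ hi h3
  have e := C.sw_neg i (fd.n - 1 - s) hi (by omega)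
  rw [show fd.n - 1 - (fd.n - 1 - s) = s by omega] at e
  rw [e]
  exact ⟨by omega, by omega⟩

/-- the image of a root under the element `n_p(t)` -/
theorem nE_target (i : ℕ) (hi : i < fd.l) (t : F) (ht : t ≠ 0) (s s' : ℕ) (hs : s < fd.n) (hs' : s' < fd.n) (c : F)
    (hc : ∀ u, C.nE (fd.simples.getD i 0) t * C.c6.c2.xA s u * (C.nE (fd.simples.getD i 0) t)⁻¹ =
      C.c6.c2.xA s' (c * u)) : s' = fd.sw fx i s := by
  obtain ⟨h1, _, c₀, h3⟩ := C.perm_nE i hi t ht s hs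
  have hc0 := C.conj_const_ne _ s s' hs c hc
  have e := (hc 1).symm.trans (h3 1)
  exact C.xA_inj s' _ hs' h1 _ _ (by rw [mul_one]; exact hc0) e

end Cert12

namespace StG

variable {C : Cert12 D fd fx fc fz} {F : Type*} [Field F] {M : Type*} [Group M] (S : StG C F M)

/-- the subgroup generated by the root elements of the positive roots other than `p` -/
def Upbar (p : ℕ) : Subgroup M := Subgroup.closure {g | ∃ k v, fd.Pn p k ∧ g = S.y k v}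

/-- the subgroup generated by the root elements of the negative roots other than `-p` -/
def Vpbar (p : ℕ) : Subgroup M := Subgroup.closure {g | ∃ k v, fd.Nn p k ∧ g = S.y k v}

theorem y_mem_Upbar (p k : ℕ) (hk : fd.Pn p k) (v : F) : S.y k v ∈ S.Upbar p :=
  Subgroup.subset_closure ⟨k, v, hk, rfl⟩

theorem y_mem_Vpbar (p k : ℕ) (hk : fd.Nn p k) (v : F) : S.y k v ∈ S.Vpbar p :=
  Subgroup.subset_closure ⟨k, v, hk, rfl⟩

theorem Upbar_le (p : ℕ) : S.Upbar p ≤ S.Ubar := by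
  apply Subgroup.closure_mono
  rintro g ⟨k, v, hk, rfl⟩
  exact ⟨k, v, hk.2.1, hk.1, rfl⟩

theorem Vpbar_le (p : ℕ) : S.Vpbar p ≤ S.Vbar := by
  apply Subgroup.closure_mono
  rintro g ⟨k, v, hk, rfl⟩
  exact ⟨k, v, hk.1, rfl⟩

theorem cty_mem (H : Subgroup M) (L : List (ℕ × ℤ × ℕ × ℕ)) (hL : ∀ c ∈ L, ∀ v, S.y c.1 v ∈ H) (t u : F) :
    S.cty L t u ∈ H := by
  unfold cty
  apply Subgroup.list_prod_mem
  intro x hx
  obtain ⟨c, hc, rfl⟩ := List.mem_map.mp hx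
  exact hL c hc _

/-- `y_{±p}(t)` normalizes `Ū_p` -/
theorem conj_Upbar (i : ℕ) (hi : i < fd.l) (r : ℕ)
    (hr : r = fd.simples.getD i 0 ∨ r = fd.n - 1 - fd.simples.getD i 0) (t : F) (g : M)
    (hg : g ∈ S.Upbar (fd.simples.getD i 0)) :
    S.y r t * g * (S.y r t)⁻¹ ∈ S.Upbar (fd.simples.getD i 0) := by
  have hev := C.c6.c2.heven
  have hp := C.c6.c2.simple_lt i hi
  have hpp := C.c6.simple_pos i hi
  have hrn : r < fd.n := by rcases hr with rfl | rfl <;> omega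
  apply conj_mem_closure _ _ _ g hg
  rintro x ⟨k, v, hk, rfl⟩
  obtain ⟨hk1, hk2, hk3⟩ := hk
  have e : S.y r t * S.y k v * (S.y r t)⁻¹ = (S.y r (-t))⁻¹ * S.y k v * S.y r (-t) := by
    rw [S.y_inv r hrn, S.y_inv r hrn, neg_neg]
  rw [e, S.conj_y r k hrn hk1 (by rcases hr with rfl | rfl <;> omega) (by rcases hr with rfl | rfl <;> omega)]
  apply mul_mem (S.y_mem_Upbar _ k ⟨hk1, hk2, hk3⟩ v)
  apply S.cty_mem
  intro c hc w
  obtain ⟨_, _, hsp⟩ := fd.up_spec C.c6.up i hi k hk1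
  obtain ⟨_, h1, h2⟩ := hsp hk2 hk3
  rcases hr with rfl | rfl
  · exact S.y_mem_Upbar _ _ (h1 c hc) w
  · exact S.y_mem_Upbar _ _ (h2 c hc) w

variable {wit : List (ℕ × ℕ)}

/-- `y_{±p}(t)` normalizes `V̄_p` -/
theorem conj_Vpbar (hst : fd.ChkSt fx wit) (i : ℕ) (hi : i < fd.l) (r : ℕ)
    (hr : r = fd.simples.getD i 0 ∨ r = fd.n - 1 - fd.simples.getD i 0) (t : F) (g : M)
    (hg : g ∈ S.Vpbar (fd.simples.getD i 0)) :
    S.y r t * g * (S.y r t)⁻¹ ∈ S.Vpbar (fd.simples.getD i 0) := by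
  have hev := C.c6.c2.heven
  have hp := C.c6.c2.simple_lt i hi
  have hpp := C.c6.simple_pos i hi
  have hrn : r < fd.n := by rcases hr with rfl | rfl <;> omega
  apply conj_mem_closure _ _ _ g hg
  rintro x ⟨k, v, hk, rfl⟩
  obtain ⟨hk1, hk2⟩ := hk
  have e : S.y r t * S.y k v * (S.y r t)⁻¹ = (S.y r (-t))⁻¹ * S.y k v * S.y r (-t) := by
    rw [S.y_inv r hrn, S.y_inv r hrn, neg_neg]
  rw [e, S.conj_y r k hrn (by omega) (by rcases hr with rfl | rfl <;> omega) (by rcases hr with rfl | rfl <;> omega)]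
  apply mul_mem (S.y_mem_Vpbar _ k ⟨hk1, hk2⟩ v)
  apply S.cty_mem
  intro c hc w
  obtain ⟨h1, h2⟩ := fd.stN_spec hst i hi k ⟨hk1, hk2⟩
  rcases hr with rfl | rfl
  · exact S.y_mem_Vpbar _ _ (h1 c hc) w
  · exact S.y_mem_Vpbar _ _ (h2 c hc) w

/-- the element `n̄_r(t)` -/
def nb (r : ℕ) (t : F) : M := S.y r t * S.y (fd.n - 1 - r) (-t⁻¹) * S.y r t

theorem θ_nb (r : ℕ) (hr : r < fd.n) (t : F) : S.θ (S.nb r t) = C.nE r t := by
  unfold nb Cert12.nE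
  rw [map_mul, map_mul, S.θ_y r hr, S.θ_y _ (by omega)]

theorem nb_inv (r : ℕ) (hr : r < fd.n) (t : F) : (S.nb r t)⁻¹ = S.nb r (-t) := by
  unfold nb
  rw [_root_.mul_inv_rev, _root_.mul_inv_rev, S.y_inv r hr, S.y_inv _ (by omega), inv_neg, neg_neg, ← mul_assoc]

theorem conj_nb (r : ℕ) (t : F) (g : M) :
    S.nb r t * g * (S.nb r t)⁻¹ = S.y r t * (S.y (fd.n - 1 - r) (-t⁻¹) * (S.y r t * g * (S.y r t)⁻¹) *
      (S.y (fd.n - 1 - r) (-t⁻¹))⁻¹) * (S.y r t)⁻¹ := by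
  unfold nb
  group

/-- `n̄_p(t)` normalizes `Ū_p` -/
theorem nb_conj_Upbar (i : ℕ) (hi : i < fd.l) (t : F) (g : M) (hg : g ∈ S.Upbar (fd.simples.getD i 0)) :
    S.nb (fd.simples.getD i 0) t * g * (S.nb (fd.simples.getD i 0) t)⁻¹ ∈ S.Upbar (fd.simples.getD i 0) := by
  rw [S.conj_nb]
  exact S.conj_Upbar i hi _ (Or.inl rfl) _ _ (S.conj_Upbar i hi _ (Or.inr rfl) _ _ (S.conj_Upbar i hi _ (Or.inl rfl) _ _ hg))

/-- `n̄_p(t)` normalizes `V̄_p` -/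
theorem nb_conj_Vpbar (hst : fd.ChkSt fx wit) (i : ℕ) (hi : i < fd.l) (t : F) (g : M)
    (hg : g ∈ S.Vpbar (fd.simples.getD i 0)) :
    S.nb (fd.simples.getD i 0) t * g * (S.nb (fd.simples.getD i 0) t)⁻¹ ∈ S.Vpbar (fd.simples.getD i 0) := by
  rw [S.conj_nb]
  exact S.conj_Vpbar hst i hi _ (Or.inl rfl) _ _
    (S.conj_Vpbar hst i hi _ (Or.inr rfl) _ _ (S.conj_Vpbar hst i hi _ (Or.inl rfl) _ _ hg))

/-- the relation (R-n) for the positive roots other than `p` -/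
theorem nb_conj_pos (i : ℕ) (hi : i < fd.l) (t : F) (ht : t ≠ 0) (s : ℕ) (hs : fd.Pn (fd.simples.getD i 0) s)
    (c : F) (hc : ∀ u, C.nE (fd.simples.getD i 0) t * C.c6.c2.xA s u * (C.nE (fd.simples.getD i 0) t)⁻¹ =
      C.c6.c2.xA (fd.sw fx i s) (c * u)) (u : F) :
    S.nb (fd.simples.getD i 0) t * S.y s u * (S.nb (fd.simples.getD i 0) t)⁻¹ = S.y (fd.sw fx i s) (c * u) := by
  have hp := C.c6.c2.simple_lt i hi
  have h1 := S.nb_conj_Upbar i hi t _ (S.y_mem_Upbar _ s hs u)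
  have hs' := C.sw_Pn i s hi hs
  have h2 := S.y_mem_Upbar _ _ hs' (c * u)
  have h3 := S.ker_Ubar _ (S.Upbar_le _ (mul_mem h1 (inv_mem h2))) (by
    rw [map_mul, map_mul, map_mul, map_inv, map_inv, S.θ_nb _ hp, S.θ_y s hs.1, S.θ_y _ hs'.1, hc u, mul_inv_cancel])
  exact mul_inv_eq_one.mp h3

/-- the relation (R-n) for the negative roots other than `-p` -/
theorem nb_conj_neg (hst : fd.ChkSt fx wit) (i : ℕ) (hi : i < fd.l) (t : F) (ht : t ≠ 0) (s : ℕ)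
    (hs : fd.Nn (fd.simples.getD i 0) s)
    (c : F) (hc : ∀ u, C.nE (fd.simples.getD i 0) t * C.c6.c2.xA s u * (C.nE (fd.simples.getD i 0) t)⁻¹ =
      C.c6.c2.xA (fd.sw fx i s) (c * u)) (u : F) :
    S.nb (fd.simples.getD i 0) t * S.y s u * (S.nb (fd.simples.getD i 0) t)⁻¹ = S.y (fd.sw fx i s) (c * u) := by
  have hev := C.c6.c2.heven
  have hp := C.c6.c2.simple_lt i hi
  have h1 := S.nb_conj_Vpbar hst i hi t _ (S.y_mem_Vpbar _ s hs u)
  have hs' := C.sw_Nn i s hi hs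
  have h2 := S.y_mem_Vpbar _ _ hs' (c * u)
  have h3 := S.ker_Vbar _ (S.Vpbar_le _ (mul_mem h1 (inv_mem h2))) (by
    rw [map_mul, map_mul, map_mul, map_inv, map_inv, S.θ_nb _ hp, S.θ_y s (by have := hs.1; omega),
      S.θ_y _ (by have := hs'.1; omega), hc u, mul_inv_cancel])
  exact mul_inv_eq_one.mp h3

end StG

end Cfsg.Agent.Lib.H29.Chev
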