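import Mathlib
import Cfsg.Prelude.Def_ChevStructure
import Cfsg.Agent.Lib.H29.ChevStC

/-!
# Steinberg's presentation: the relation (R-n) for the roots `±p`
-/

set_option autoImplicit false
set_option linter.unusedSectionVars false
set_option linter.unusedSimpArgs false
set_option linter.unusedVariables false

namespace Cfsg.Agent.Lib.H29.Chev

open Cfsg.Lie Matrix

variable {D : ChevalleyDatum} {fd : FD} {fx : FX} {fc : FC} {fz : FZ}

namespace StG

variable {C : Cert12 D fd fx fc fz} {F : Type*} [Field F] {M : Type*} [Group M] (S : StG C F M)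
variable {wit : List (ℕ × ℕ)}

/-- the relation (R-n) for the roots other than `±p` -/
theorem nb_conj_ne (hst : fd.ChkSt fx wit) (i : ℕ) (hi : i < fd.l) (t : F) (ht : t ≠ 0) (s : ℕ) (hs : s < fd.n)
    (h1 : s ≠ fd.simples.getD i 0) (h2 : s ≠ fd.n - 1 - fd.simples.getD i 0)
    (c : F) (hc : ∀ u, C.nE (fd.simples.getD i 0) t * C.c6.c2.xA s u * (C.nE (fd.simples.getD i 0) t)⁻¹ =
      C.c6.c2.xA (fd.sw fx i s) (c * u)) (u : F) :
    S.nb (fd.simples.getD i 0) t * S.y s u * (S.nb (fd.simples.getD i 0) t)⁻¹ = S.y (fd.sw fx i s) (c * u) := by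
  by_cases hpos : fd.n / 2 ≤ s
  · exact S.nb_conj_pos i hi t ht s ⟨hs, hpos, h1⟩ c hc u
  · exact S.nb_conj_neg hst i hi t ht s ⟨by omega, h2⟩ c hc u

/-- the subgroup generated by `X̄_{-p}` and `Ū_p` -/
def Pbar (p : ℕ) : Subgroup M :=
  Subgroup.closure {g | ∃ k v, (k = fd.n - 1 - p ∨ fd.Pn p k) ∧ g = S.y k v}

theorem Upbar_le_Pbar (p : ℕ) : S.Upbar p ≤ S.Pbar p := by
  apply Subgroup.closure_mono
  rintro g ⟨k, v, hk, rfl⟩
  exact ⟨k, v, Or.inr hk, rfl⟩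

theorem y_mem_Pbar (p k : ℕ) (hk : k = fd.n - 1 - p ∨ fd.Pn p k) (v : F) : S.y k v ∈ S.Pbar p :=
  Subgroup.subset_closure ⟨k, v, hk, rfl⟩

/-- the elements of `P̄_p` are products of an element of `X̄_{-p}` and one of `Ū_p` -/
theorem Pbar_mem (i : ℕ) (hi : i < fd.l) (g : M) (hg : g ∈ S.Pbar (fd.simples.getD i 0)) :
    ∃ (a : F) (v : M), v ∈ S.Upbar (fd.simples.getD i 0) ∧ g = S.y (fd.n - 1 - fd.simples.getD i 0) a * v := by
  have hp := C.c6.c2.simple_lt i hi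
  have hq : fd.n - 1 - fd.simples.getD i 0 < fd.n := by omega
  have step : ∀ (k : ℕ) (w : F), (k = fd.n - 1 - fd.simples.getD i 0 ∨ fd.Pn (fd.simples.getD i 0) k) →
      ∀ (a : F) (v : M), v ∈ S.Upbar (fd.simples.getD i 0) →
      ∃ (a' : F) (v' : M), v' ∈ S.Upbar (fd.simples.getD i 0) ∧
        S.y k w * (S.y (fd.n - 1 - fd.simples.getD i 0) a * v) = S.y (fd.n - 1 - fd.simples.getD i 0) a' * v' := by
    intro k w hk a v hv
    rcases hk with rfl | hk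
    · exact ⟨w + a, v, hv, by rw [← mul_assoc, S.y_add _ hq]⟩
    · refine ⟨a, (S.y (fd.n - 1 - fd.simples.getD i 0) (-a) * S.y k w *
        (S.y (fd.n - 1 - fd.simples.getD i 0) (-a))⁻¹) * v, mul_mem ?_ hv, ?_⟩
      · exact S.conj_Upbar i hi _ (Or.inr rfl) _ _ (S.y_mem_Upbar _ k hk w)
      · rw [← S.y_inv _ hq]; group
  unfold Pbar at hg
  induction hg using Subgroup.closure_induction_left with
  | one => exact ⟨0, 1, one_mem _, by rw [S.y_zero _ hq, one_mul]⟩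
  | mul_left x hx y _ ih =>
    obtain ⟨a, v, hv, rfl⟩ := ih
    obtain ⟨k, w, hk, rfl⟩ := hx
    exact step k w hk a v hv
  | inv_mul_cancel x hx y _ ih =>
    obtain ⟨a, v, hv, rfl⟩ := ih
    obtain ⟨k, w, hk, rfl⟩ := hx
    have hkn : k < fd.n := by rcases hk with rfl | hk; exact hq; exact hk.1
    rw [S.y_inv k hkn]
    exact step k (-w) hk a v hv

/-- `θ` is injective on `P̄_p` -/
theorem ker_Pbar (i : ℕ) (hi : i < fd.l) (g : M) (hg : g ∈ S.Pbar (fd.simples.getD i 0)) (h : S.θ g = 1) :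
    g = 1 := by
  have hev := C.c6.c2.heven
  have hp := C.c6.c2.simple_lt i hi
  have hpp := C.c6.simple_pos i hi
  have hq : fd.n - 1 - fd.simples.getD i 0 < fd.n := by omega
  obtain ⟨a, v, hv, rfl⟩ := S.Pbar_mem i hi g hg
  rw [map_mul, S.θ_y _ hq] at h
  have hvU := S.θ_Ubar v (S.Upbar_le _ hv)
  have ha : a = 0 := by
    by_contra ha
    have h1 : C.c6.c2.xA (fd.n - 1 - fd.simples.getD i 0) a = (S.θ v)⁻¹ := eq_inv_of_mul_eq_one_left h
    have h2 : C.c6.c2.xA (fd.n - 1 - fd.simples.getD i 0) a ∈ D.borelSubgroup F := by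
      rw [h1]
      exact (le_sup_left : D.posUnipotent F ≤ D.borelSubgroup F) (inv_mem hvU)
    have := C.pos_of_xA_mem_borel _ hq a ha h2
    omega
  subst ha
  rw [C.c6.c2.xA_zero, one_mul] at h
  rw [S.y_zero _ hq, one_mul]
  exact S.ker_Ubar v (S.Upbar_le _ hv) h

theorem cty_append (L₁ L₂ : List (ℕ × ℤ × ℕ × ℕ)) (t u : F) :
    S.cty (L₁ ++ L₂) t u = S.cty L₁ t u * S.cty L₂ t u := by
  unfold cty
  rw [List.map_append, List.prod_append]

theorem cty_cons (c : ℕ × ℤ × ℕ × ℕ) (L : List (ℕ × ℤ × ℕ × ℕ)) (t u : F) :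
    S.cty (c :: L) t u = S.y c.1 (((c.2.1 : ℤ) : F) * (-t) ^ c.2.2.1 * u ^ c.2.2.2) * S.cty L t u := by
  unfold cty
  rw [List.map_cons, List.prod_cons]

/-- the relation (R-n) for the root `p` -/
theorem nb_conj_self (hst : fd.ChkSt fx wit) (i : ℕ) (hi : i < fd.l) (t : F) (ht : t ≠ 0)
    (c : F) (hc : ∀ u, C.nE (fd.simples.getD i 0) t * C.c6.c2.xA (fd.simples.getD i 0) u *
      (C.nE (fd.simples.getD i 0) t)⁻¹ = C.c6.c2.xA (fd.n - 1 - fd.simples.getD i 0) (c * u)) (w : F) :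
    S.nb (fd.simples.getD i 0) t * S.y (fd.simples.getD i 0) w * (S.nb (fd.simples.getD i 0) t)⁻¹ =
      S.y (fd.n - 1 - fd.simples.getD i 0) (c * w) := by
  have hev := C.c6.c2.heven
  have hp := C.c6.c2.simple_lt i hi
  have hpp := C.c6.simple_pos i hi
  have hq : fd.n - 1 - fd.simples.getD i 0 < fd.n := by omega
  obtain ⟨a, b, L₁, L₂, c₀, ha, hb, hba, hbna, hap, hanp, hbp, hbnp, hsplit, hc1, hc2, hc3, hoth, hconj⟩ :=
    fd.stR_spec hst i hi
  set p := fd.simples.getD i 0 with hpdef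
  set m := S.nb p t with hm
  -- the conjugates of the root elements of the roots other than `±p`
  have hperm := C.perm_nE i hi t ht
  have hcj : ∀ k, k < fd.n → k ≠ p → k ≠ fd.n - 1 - p → ∃ ck : F, ∀ x, m * S.y k x * m⁻¹ = S.y (fd.sw fx i k) (ck * x) := by
    intro k hk h1 h2
    obtain ⟨_, _, ck, h3⟩ := hperm k hk
    exact ⟨ck, fun x => S.nb_conj_ne hst i hi t ht k hk h1 h2 ck h3 x⟩
  have hctyU : ∀ L : List (ℕ × ℤ × ℕ × ℕ), (∀ c ∈ L, c.1 ≠ p ∧ c.1 ≠ fd.n - 1 - p ∧ c.1 < fd.n ∧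
      fd.Pn p (fd.nw fx p c.1)) → ∀ v u : F, m * S.cty L v u * m⁻¹ ∈ S.Upbar p := by
    intro L hL v u
    unfold cty
    rw [conj_list_prod]
    apply Subgroup.list_prod_mem
    intro x hx
    rw [List.map_map] at hx
    obtain ⟨c, hc, rfl⟩ := List.mem_map.mp hx
    obtain ⟨k1, k2, k3, k4⟩ := hL c hc
    obtain ⟨ck, hck⟩ := hcj c.1 k3 k1 k2
    simp only [Function.comp]
    rw [hck]
    exact S.y_mem_Upbar _ _ k4 _
  obtain ⟨ca, hca⟩ := hcj a ha hap hanp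
  obtain ⟨cb, hcb⟩ := hcj b hb hbp hbnp
  -- the parameters
  set ε : F := ((c₀.2.1 : ℤ) : F) with hε
  have hεε : ε * ε = 1 := by
    rcases hc2 with h | h <;> rw [hε, h] <;> norm_num
  set v : F := -(ε * w) with hv
  -- the relation for the pair `(a, b)`
  have hrel := S.y_comm a b ha hb hba hbna v 1
  change S.y b 1 * S.y a v = S.y a v * S.y b 1 * S.cty (fd.commT a b) v 1 at hrel
  rw [hsplit, S.cty_append, S.cty_cons, hc1, hc3] at hrel
  have hpar : ((c₀.2.1 : ℤ) : F) * (-v) ^ 1 * 1 ^ c₀.2.2.2 = w := by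
    rw [← hε, hv, neg_neg, pow_one, one_pow, mul_one, ← mul_assoc, hεε, one_mul]
  rw [hpar] at hrel
  have hyw : S.y p w = (S.cty L₁ v 1)⁻¹ * (S.y a v * S.y b 1)⁻¹ * (S.y b 1 * S.y a v) * (S.cty L₂ v 1)⁻¹ := by
    rw [hrel]; group
  -- the relation for the pair `(w_p a, w_p b)`
  have ha' : fd.sw fx i a < fd.n := C.sw_lt i a hi ha
  have hb' : fd.sw fx i b < fd.n := C.sw_lt i b hi hb
  have hba' : fd.sw fx i b ≠ fd.sw fx i a := by
    intro h
    have := congrArg (fd.sw fx i) h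
    rw [C.sw_sw i b hi hb, C.sw_sw i a hi ha] at this
    exact hba this
  have hbna' : fd.sw fx i b ≠ fd.n - 1 - fd.sw fx i a := by
    intro h
    rw [← C.sw_neg i a hi ha] at h
    have := congrArg (fd.sw fx i) h
    rw [C.sw_sw i b hi hb, C.sw_sw i _ hi (by omega)] at this
    exact hbna this
  have hrel' := S.y_comm _ _ ha' hb' hba' hbna' (ca * v) (cb * 1)
  change S.y (fd.sw fx i b) (cb * 1) * S.y (fd.sw fx i a) (ca * v) =
    S.y (fd.sw fx i a) (ca * v) * S.y (fd.sw fx i b) (cb * 1) *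
      S.cty (fd.commT (fd.sw fx i a) (fd.sw fx i b)) (ca * v) (cb * 1) at hrel'
  have hmem : m * S.y p w * m⁻¹ ∈ S.Pbar p := by
    have e : m * S.y p w * m⁻¹ = (m * S.cty L₁ v 1 * m⁻¹)⁻¹ *
        ((m * S.y a v * m⁻¹) * (m * S.y b 1 * m⁻¹))⁻¹ * ((m * S.y b 1 * m⁻¹) * (m * S.y a v * m⁻¹)) *
        (m * S.cty L₂ v 1 * m⁻¹)⁻¹ := by
      rw [hyw]; group
    rw [e, hca, hcb, hrel']
    have e2 : (S.y (fd.sw fx i a) (ca * v) * S.y (fd.sw fx i b) (cb * 1))⁻¹ *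
        (S.y (fd.sw fx i a) (ca * v) * S.y (fd.sw fx i b) (cb * 1) *
          S.cty (fd.commT (fd.sw fx i a) (fd.sw fx i b)) (ca * v) (cb * 1)) =
        S.cty (fd.commT (fd.sw fx i a) (fd.sw fx i b)) (ca * v) (cb * 1) := by group
    rw [mul_assoc ((m * S.cty L₁ v 1 * m⁻¹)⁻¹), e2]
    apply mul_mem (mul_mem _ _) _
    · exact inv_mem (S.Upbar_le_Pbar _ (hctyU L₁ (fun c hc => hoth c (Or.inl hc)) v 1))
    · apply S.cty_mem
      intro c hc x
      exact S.y_mem_Pbar _ _ (hconj c hc) x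
    · exact inv_mem (S.Upbar_le_Pbar _ (hctyU L₂ (fun c hc => hoth c (Or.inr hc)) v 1))
  have htar : S.y (fd.n - 1 - p) (c * w) ∈ S.Pbar p := S.y_mem_Pbar _ _ (Or.inl rfl) _
  have h3 := S.ker_Pbar i hi _ (mul_mem hmem (inv_mem htar)) (by
    rw [map_mul, map_mul, map_mul, map_inv, map_inv, hm, S.θ_nb _ hp, S.θ_y _ hp, S.θ_y _ hq, hc w, mul_inv_cancel])
  exact mul_inv_eq_one.mp h3

end StG

end Cfsg.Agent.Lib.H29.Chev
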