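import Mathlib
import Cfsg.Prelude.Def_ChevStructure
import Cfsg.Agent.Lib.H29.ChevStD

/-!
# Steinberg's presentation: the subgroup `N̄`, the Bruhat decomposition and the kernel
-/

set_option autoImplicit false
set_option linter.unusedSectionVars false
set_option linter.unusedSimpArgs false
set_option linter.unusedVariables false

namespace Cfsg.Agent.Lib.H29.Chev

open Cfsg.Lie Matrix

variable {D : ChevalleyDatum} {fd : FD} {fx : FX} {fc : FC} {fz : FZ}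

namespace StG

variable {C : Cert12 D fd fx fc fz} {F : Type*} [Field F] {M : Type*} [Group M] (S : StG C F M)
variable {wit : List (ℕ × ℕ)}

/-- `g` acts on the root elements of `M` as `θ g` acts on those of the Chevalley group -/
def Lift (g : M) : Prop :=
  ∀ s s' : ℕ, s < fd.n → s' < fd.n → ∀ c : F,
    (∀ u, S.θ g * C.c6.c2.xA s u * (S.θ g)⁻¹ = C.c6.c2.xA s' (c * u)) → ∀ u, g * S.y s u * g⁻¹ = S.y s' (c * u)

theorem lift_one : S.Lift 1 := by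
  intro s s' hs hs' c hc u
  simp only [map_one, one_mul, inv_one, mul_one] at hc ⊢
  have h1 := hc 1
  rw [mul_one] at h1
  have hss : s = s' := C.xA_inj s s' hs hs' 1 c one_ne_zero h1
  subst hss
  have hc1 : (1 : F) = c := C.xA_param_inj' s hs 1 c h1
  rw [← hc1, one_mul]

theorem lift_mul (a b : M) (ha : S.Lift a) (hb : S.Lift b) (π : ℕ → ℕ) (hπ : C.c6.c2.Perm (S.θ b) π) :
    S.Lift (a * b) := by
  intro s s' hs hs' c hc u
  obtain ⟨h1, _, cb, hcb⟩ := hπ s hs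
  have hcb0 := C.conj_const_ne _ s _ hs cb hcb
  have e1 := hb s (π s) hs h1 cb hcb
  have e2 : ∀ v, S.θ a * C.c6.c2.xA (π s) v * (S.θ a)⁻¹ = C.c6.c2.xA s' (c * cb⁻¹ * v) := by
    intro v
    have := hcb (cb⁻¹ * v)
    rw [← mul_assoc, mul_inv_cancel₀ hcb0, one_mul] at this
    rw [← this, mul_assoc c, ← hc (cb⁻¹ * v), map_mul]
    group
  have e3 := ha (π s) s' h1 hs' (c * cb⁻¹) e2 (cb * u)
  have : a * b * S.y s u * (a * b)⁻¹ = a * (b * S.y s u * b⁻¹) * a⁻¹ := by group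
  rw [this, e1, e3, mul_assoc c, ← mul_assoc cb⁻¹, inv_mul_cancel₀ hcb0, one_mul]

theorem lift_inv (a : M) (ha : S.Lift a) : S.Lift a⁻¹ := by
  intro s s' hs hs' c hc u
  rw [map_inv, inv_inv] at hc
  have hc0 : c ≠ 0 := by
    apply C.conj_const_ne (S.θ a)⁻¹ s s' hs c
    intro t
    rw [inv_inv]
    exact hc t
  have e2 : ∀ v, S.θ a * C.c6.c2.xA s' v * (S.θ a)⁻¹ = C.c6.c2.xA s (c⁻¹ * v) := by
    intro v
    have := hc (c⁻¹ * v)
    rw [← mul_assoc, mul_inv_cancel₀ hc0, one_mul] at this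
    rw [← this]
    group
  have e3 := ha s' s hs' hs c⁻¹ e2 (c * u)
  rw [← mul_assoc, inv_mul_cancel₀ hc0, one_mul] at e3
  rw [inv_inv, ← e3]
  group

/-- the relation (R-n) -/
theorem lift_nb (hst : fd.ChkSt fx wit) (i : ℕ) (hi : i < fd.l) (t : F) (ht : t ≠ 0) :
    S.Lift (S.nb (fd.simples.getD i 0) t) := by
  have hev := C.c6.c2.heven
  have hp := C.c6.c2.simple_lt i hi
  have hq : fd.n - 1 - fd.simples.getD i 0 < fd.n := by omega
  have hswp : fd.sw fx i (fd.simples.getD i 0) = fd.n - 1 - fd.simples.getD i 0 :=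
    (fd.neg_spec C.c6.c2.neg _ hp).1
  have hswq : fd.sw fx i (fd.n - 1 - fd.simples.getD i 0) = fd.simples.getD i 0 := by
    rw [C.sw_neg i _ hi hp, hswp]
    omega
  intro s s' hs hs' c hc u
  rw [S.θ_nb _ hp] at hc
  have e := C.nE_target i hi t ht s s' hs hs' c hc
  subst e
  by_cases h1 : s = fd.simples.getD i 0
  · subst h1
    rw [hswp] at hc ⊢
    exact S.nb_conj_self hst i hi t ht c hc u
  by_cases h2 : s = fd.n - 1 - fd.simples.getD i 0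
  · subst h2
    rw [hswq] at hc ⊢
    have hc0 := C.conj_const_ne _ _ _ hq c hc
    -- the constant for `n_p(-t)` at `p`
    obtain ⟨_, _, c', hc'⟩ := C.perm_nE i hi (-t) (neg_ne_zero.mpr ht) _ hp
    rw [hswp] at hc'
    have hself := S.nb_conj_self hst i hi (-t) (neg_ne_zero.mpr ht) c' hc'
    have hcc : c * c' = 1 := by
      have h3 := hc' 1
      rw [← C.nE_inv, inv_inv, mul_one] at h3
      have h4 := hc c'
      rw [← h3] at h4
      have h5 : C.c6.c2.xA (fd.simples.getD i 0) (1 : F) = C.c6.c2.xA (fd.simples.getD i 0) (c * c') := by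
        rw [← h4]; group
      exact (C.xA_param_inj' _ hp _ _ h5).symm
    have h6 := hself (c * u)
    rw [← S.nb_inv _ hp, inv_inv, ← mul_assoc, mul_comm c' c, hcc, one_mul] at h6
    rw [← h6]
    group
  · exact S.nb_conj_ne hst i hi t ht s hs h1 h2 c hc u

/-- the subgroup `N̄` generated by the elements `n̄_p(t)`, `p` fundamental -/
def Nbar : Subgroup M :=
  Subgroup.closure {g | ∃ (i : ℕ) (t : F), i < fd.l ∧ t ≠ 0 ∧ g = S.nb (fd.simples.getD i 0) t}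

theorem nb_mem_Nbar (i : ℕ) (hi : i < fd.l) (t : F) (ht : t ≠ 0) : S.nb (fd.simples.getD i 0) t ∈ S.Nbar :=
  Subgroup.subset_closure ⟨i, t, hi, ht, rfl⟩

theorem Nbar_spec (hst : fd.ChkSt fx wit) (g : M) (hg : g ∈ S.Nbar) :
    S.Lift g ∧ S.θ g ∈ D.monomialSubgroup F := by
  unfold Nbar at hg
  induction hg using Subgroup.closure_induction with
  | mem x hx =>
    obtain ⟨i, t, hi, ht, rfl⟩ := hx
    refine ⟨S.lift_nb hst i hi t ht, ?_⟩
    rw [S.θ_nb _ (C.c6.c2.simple_lt i hi)]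
    exact C.nE_mem_monomial _ (C.c6.c2.simple_lt i hi) t ht
  | one => exact ⟨S.lift_one, by rw [map_one]; exact one_mem _⟩
  | mul x y _ _ hx hy =>
    obtain ⟨⟨π, hπ⟩, _⟩ := C.c6.perm_of_mem _ hy.2
    exact ⟨S.lift_mul x y hx.1 hy.1 π hπ, by rw [map_mul]; exact mul_mem hx.2 hy.2⟩
  | inv x _ hx => exact ⟨S.lift_inv x hx.1, by rw [map_inv]; exact inv_mem hx.2⟩

/-- the elements of `Ū` are products of an element of `X̄_p` and one of `Ū_p` -/
theorem Ubar_mem (i : ℕ) (hi : i < fd.l) (g : M) (hg : g ∈ S.Ubar) :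
    ∃ (a : F) (v : M), v ∈ S.Upbar (fd.simples.getD i 0) ∧ g = S.y (fd.simples.getD i 0) a * v := by
  have hp := C.c6.c2.simple_lt i hi
  have hpp := C.c6.simple_pos i hi
  have step : ∀ (k : ℕ) (w : F), fd.n / 2 ≤ k → k < fd.n →
      ∀ (a : F) (v : M), v ∈ S.Upbar (fd.simples.getD i 0) →
      ∃ (a' : F) (v' : M), v' ∈ S.Upbar (fd.simples.getD i 0) ∧
        S.y k w * (S.y (fd.simples.getD i 0) a * v) = S.y (fd.simples.getD i 0) a' * v' := by
    intro k w hk1 hk2 a v hv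
    by_cases hk : k = fd.simples.getD i 0
    · subst hk
      exact ⟨w + a, v, hv, by rw [← mul_assoc, S.y_add _ hp]⟩
    · refine ⟨a, (S.y (fd.simples.getD i 0) (-a) * S.y k w *
        (S.y (fd.simples.getD i 0) (-a))⁻¹) * v, mul_mem ?_ hv, ?_⟩
      · exact S.conj_Upbar i hi _ (Or.inl rfl) _ _ (S.y_mem_Upbar _ k ⟨hk2, hk1, hk⟩ w)
      · rw [← S.y_inv _ hp]; group
  unfold Ubar at hg
  induction hg using Subgroup.closure_induction_left with
  | one => exact ⟨0, 1, one_mem _, by rw [S.y_zero _ hp, one_mul]⟩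
  | mul_left x hx y _ ih =>
    obtain ⟨a, v, hv, rfl⟩ := ih
    obtain ⟨k, w, hk1, hk2, rfl⟩ := hx
    exact step k w hk1 hk2 a v hv
  | inv_mul_cancel x hx y _ ih =>
    obtain ⟨a, v, hv, rfl⟩ := ih
    obtain ⟨k, w, hk1, hk2, rfl⟩ := hx
    rw [S.y_inv k hk2]
    exact step k (-w) hk1 hk2 a v hv

/-- the set `Ū N̄ Ū` -/
def BS : Set M := {g | ∃ u ∈ S.Ubar, ∃ n ∈ S.Nbar, ∃ u' ∈ S.Ubar, g = u * n * u'}

theorem y_neg_eq (r : ℕ) (hr : r < fd.n) (b : F) (hb : b ≠ 0) :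
    S.y (fd.n - 1 - r) b = S.y r b⁻¹ * S.nb r (-b⁻¹) * S.y r b⁻¹ := by
  unfold nb
  have e1 : -(-b⁻¹)⁻¹ = b := by rw [inv_neg, inv_inv, neg_neg]
  rw [e1]
  have e2 : S.y r b⁻¹ * (S.y r (-b⁻¹) * S.y (fd.n - 1 - r) b * S.y r (-b⁻¹)) * S.y r b⁻¹ =
      (S.y r b⁻¹ * S.y r (-b⁻¹)) * S.y (fd.n - 1 - r) b * (S.y r (-b⁻¹) * S.y r b⁻¹) := by group
  rw [e2, S.y_add r hr, S.y_add r hr, add_neg_cancel, neg_add_cancel, S.y_zero r hr, one_mul, mul_one]

/-- `Ū N̄ Ū` is stable under left multiplication by the elements `n̄_p(t)` -/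
theorem BS_nb (hst : fd.ChkSt fx wit) (i : ℕ) (hi : i < fd.l) (t : F) (ht : t ≠ 0) (g : M) (hg : g ∈ S.BS) :
    S.nb (fd.simples.getD i 0) t * g ∈ S.BS := by
  have hev := C.c6.c2.heven
  have hp := C.c6.c2.simple_lt i hi
  have hpp := C.c6.simple_pos i hi
  have hq : fd.n - 1 - fd.simples.getD i 0 < fd.n := by omega
  have hswp : fd.sw fx i (fd.simples.getD i 0) = fd.n - 1 - fd.simples.getD i 0 :=
    (fd.neg_spec C.c6.c2.neg _ hp).1
  obtain ⟨u, hu, n, hn, u', hu', rfl⟩ := hg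
  set p := fd.simples.getD i 0 with hpdef
  set m := S.nb p t with hm
  obtain ⟨a, v, hv, rfl⟩ := S.Ubar_mem i hi u hu
  -- `m y_p(a) m⁻¹ = y_{-p}(b)`
  obtain ⟨_, _, c₁, hc₁⟩ := C.perm_nE i hi t ht p hp
  rw [hswp] at hc₁
  have hL := S.lift_nb hst i hi t ht
  have e1 : m * S.y p a * m⁻¹ = S.y (fd.n - 1 - p) (c₁ * a) :=
    hL p (fd.n - 1 - p) hp hq c₁ (by rw [S.θ_nb _ hp]; exact hc₁) a
  set b := c₁ * a with hb
  have hv₂ : m * v * m⁻¹ ∈ S.Upbar p := S.nb_conj_Upbar i hi t v hv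
  have hv₃ : S.y (fd.n - 1 - p) b * (m * v * m⁻¹) * (S.y (fd.n - 1 - p) b)⁻¹ ∈ S.Upbar p :=
    S.conj_Upbar i hi _ (Or.inr rfl) b _ hv₂
  set v₃ := S.y (fd.n - 1 - p) b * (m * v * m⁻¹) * (S.y (fd.n - 1 - p) b)⁻¹ with hv₃def
  have hmn : m * n ∈ S.Nbar := mul_mem (S.nb_mem_Nbar i hi t ht) hn
  have e2 : m * (S.y p a * v * n * u') = v₃ * (S.y (fd.n - 1 - p) b * (m * n)) * u' := by
    rw [hv₃def, ← e1]; group
  rw [e2]
  obtain ⟨hLn, hMn⟩ := S.Nbar_spec hst _ (inv_mem hmn)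
  obtain ⟨⟨π', hπ'⟩, _⟩ := C.c6.perm_of_mem _ hMn
  by_cases hcase : fd.n / 2 ≤ π' (fd.n - 1 - p)
  · obtain ⟨k1, _, c₂, hc₂⟩ := hπ' _ hq
    have e3 := hLn _ _ hq k1 c₂ hc₂ b
    rw [inv_inv] at e3
    have e4 : S.y (fd.n - 1 - p) b * (m * n) = (m * n) * S.y (π' (fd.n - 1 - p)) (c₂ * b) := by
      rw [← e3]; group
    rw [e4]
    refine ⟨v₃, S.Upbar_le _ hv₃, m * n, hmn, S.y (π' (fd.n - 1 - p)) (c₂ * b) * u',
      mul_mem (S.y_mem_Ubar _ hcase k1 _) hu', by group⟩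
  · obtain ⟨k1, k2, c₃, hc₃⟩ := hπ' _ hp
    have hpos : fd.n / 2 ≤ π' p := by omega
    by_cases hb0 : b = 0
    · rw [hb0, S.y_zero _ hq, one_mul]
      exact ⟨v₃, S.Upbar_le _ hv₃, m * n, hmn, u', hu', rfl⟩
    · have e3 := hLn _ _ hp k1 c₃ hc₃ b⁻¹
      rw [inv_inv] at e3
      have e4 : S.y (fd.n - 1 - p) b * (m * n) =
          S.y p b⁻¹ * (S.nb p (-b⁻¹) * (m * n)) * S.y (π' p) (c₃ * b⁻¹) := by
        rw [S.y_neg_eq p hp b hb0, ← e3]; group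
      rw [e4]
      refine ⟨v₃ * S.y p b⁻¹, mul_mem (S.Upbar_le _ hv₃) (S.y_mem_Ubar _ hpp hp _), S.nb p (-b⁻¹) * (m * n),
        mul_mem (S.nb_mem_Nbar i hi _ (neg_ne_zero.mpr (inv_ne_zero hb0))) hmn, S.y (π' p) (c₃ * b⁻¹) * u',
        mul_mem (S.y_mem_Ubar _ hpos k1 _) hu', by group⟩

end StG

end Cfsg.Agent.Lib.H29.Chev
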