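import Mathlib
import Cfsg.Prelude.Def_ChevStructure
import Cfsg.Agent.Lib.H29.ChevStE

/-!
# Steinberg's presentation: the Bruhat decomposition of the presented group and the kernel of `θ`
-/

set_option autoImplicit false
set_option linter.unusedSectionVars false
set_option linter.unusedSimpArgs false
set_option linter.unusedVariables false

namespace Cfsg.Agent.Lib.H29.Chev

open Cfsg.Lie Matrix

variable {D : ChevalleyDatum} {fd : FD} {fx : FX} {fc : FC} {fz : FZ}

namespace StG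

variable {C : Cert12 D fd fx fc fz} {F : Type*} [Field F] {M : Type*} [Group M] (S : StG C F M)
variable {wit : List (ℕ × ℕ)}

theorem conj_mem_UN (hst : fd.ChkSt fx wit) (j : ℕ) (hj : j < fd.l) (s : ℕ) (hs : s < fd.n)
    (H : ∀ t, S.y s t ∈ S.Ubar ⊔ S.Nbar) : ∀ t, S.y (fd.sw fx j s) t ∈ S.Ubar ⊔ S.Nbar := by
  intro t
  have hp := C.c6.c2.simple_lt j hj
  obtain ⟨h1, _, c₀, hc₀⟩ := C.perm_nE j hj (1 : F) one_ne_zero s hs
  have hc0 := C.conj_const_ne _ _ _ hs c₀ hc₀
  have hL := S.lift_nb hst j hj (1 : F) one_ne_zero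
  have e := hL s _ hs h1 c₀ (by rw [S.θ_nb _ hp]; exact hc₀) (c₀⁻¹ * t)
  rw [← mul_assoc, mul_inv_cancel₀ hc0, one_mul] at e
  rw [← e]
  have hn : S.nb (fd.simples.getD j 0) (1 : F) ∈ S.Ubar ⊔ S.Nbar :=
    (le_sup_right : S.Nbar ≤ _) (S.nb_mem_Nbar j hj 1 one_ne_zero)
  exact mul_mem (mul_mem hn (H _)) (inv_mem hn)

/-- the root elements of the negative roots lie in the subgroup generated by `Ū` and `N̄` -/
theorem y_mem_UN (hst : fd.ChkSt fx wit) (m : ℕ) :
    ∀ r, ∀ hr : r < fd.n, fd.n / 2 ≤ r → (fd.coH r).toNat = m →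
      ∀ t, S.y (fd.n - 1 - r) t ∈ S.Ubar ⊔ S.Nbar := by
  have hev := C.c6.c2.heven
  induction m using Nat.strong_induction_on with
  | _ m ih =>
    intro r hr hpos hm
    obtain ⟨_, hdesc⟩ := fd.desc_spec C.c6.desc r hr
    rcases hdesc hpos with ⟨j, hj, hjr⟩ | ⟨j, hj, hc, hpr, hpos'⟩
    · have hp := C.c6.c2.simple_lt j hj
      have e : fd.sw fx j r = fd.n - 1 - r := by
        rw [← hjr]
        exact (fd.neg_spec C.c6.c2.neg _ hp).1
      rw [← e]
      apply S.conj_mem_UN hst j hj r hr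
      intro t
      exact (le_sup_left : S.Ubar ≤ _) (S.y_mem_Ubar r hpos hr t)
    · have hp := C.c6.c2.simple_lt j hj
      have hw : fd.sw fx j r < fd.n := C.sw_lt j r hj hr
      have hH := C.c6.coH_nw j r hj hr
      have hH0 := C.c6.coH_nonneg _ hw hpos'
      have hlt : (fd.coH (fd.sw fx j r)).toNat < m := by
        rw [← hm]
        apply (Int.toNat_lt_toNat (by unfold FD.sw at hH0; linarith)).mpr
        unfold FD.sw
        linarith
      have IH := ih _ hlt (fd.sw fx j r) hw hpos' rfl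
      have e : fd.sw fx j (fd.n - 1 - fd.sw fx j r) = fd.n - 1 - r := by
        rw [C.sw_neg j _ hj hw, C.sw_sw j r hj hr]
      rw [← e]
      exact S.conj_mem_UN hst j hj _ (by omega) IH

theorem UN_top (hst : fd.ChkSt fx wit) : S.Ubar ⊔ S.Nbar = ⊤ := by
  have hev := C.c6.c2.heven
  rw [eq_top_iff, ← S.gen, Subgroup.closure_le]
  rintro g ⟨r, t, hr, rfl⟩
  by_cases hpos : fd.n / 2 ≤ r
  · exact (le_sup_left : S.Ubar ≤ _) (S.y_mem_Ubar r hpos hr t)
  · have := S.y_mem_UN hst _ (fd.n - 1 - r) (by omega) (by omega) rfl t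
    rwa [show fd.n - 1 - (fd.n - 1 - r) = r by omega] at this

/-- the Bruhat decomposition of the presented group -/
theorem mem_BS (hst : fd.ChkSt fx wit) (g : M) : g ∈ S.BS := by
  have hg : g ∈ S.Ubar ⊔ S.Nbar := by rw [S.UN_top hst]; exact Subgroup.mem_top g
  unfold Ubar Nbar at hg
  rw [← Subgroup.closure_union] at hg
  have hU : ∀ x ∈ S.Ubar, ∀ y ∈ S.BS, x * y ∈ S.BS := by
    rintro x hx y ⟨u, hu, n, hn, u', hu', rfl⟩
    exact ⟨x * u, mul_mem hx hu, n, hn, u', hu', by group⟩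
  induction hg using Subgroup.closure_induction_left with
  | one => exact ⟨1, one_mem _, 1, one_mem _, 1, one_mem _, by group⟩
  | mul_left x hx y _ ih =>
    rcases hx with ⟨k, v, h1, h2, rfl⟩ | ⟨i, t, hi, ht, rfl⟩
    · exact hU _ (S.y_mem_Ubar k h1 h2 v) _ ih
    · exact S.BS_nb hst i hi t ht _ ih
  | inv_mul_cancel x hx y _ ih =>
    rcases hx with ⟨k, v, h1, h2, rfl⟩ | ⟨i, t, hi, ht, rfl⟩
    · exact hU _ (inv_mem (S.y_mem_Ubar k h1 h2 v)) _ ih
    · rw [S.nb_inv _ (C.c6.c2.simple_lt i hi)]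
      exact S.BS_nb hst i hi (-t) (neg_ne_zero.mpr ht) _ ih

/-- an element that commutes with the root elements is central -/
theorem central_of_comm (g : M) (h : ∀ s, s < fd.n → ∀ u, g * S.y s u * g⁻¹ = S.y s u) : ∀ x : M, g * x = x * g := by
  intro x
  have hx : x ∈ Subgroup.closure {g : M | ∃ r t, r < fd.n ∧ g = S.y r t} := by rw [S.gen]; exact Subgroup.mem_top x
  induction hx using Subgroup.closure_induction with
  | mem x hx =>
    obtain ⟨r, t, hr, rfl⟩ := hx
    have := h r hr t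
    calc g * S.y r t = (g * S.y r t * g⁻¹) * g := by group
      _ = S.y r t * g := by rw [this]
  | one => simp
  | mul x y _ _ hx hy => rw [← mul_assoc, hx, mul_assoc, hy, mul_assoc]
  | inv x _ hx =>
    calc g * x⁻¹ = x⁻¹ * (x * g) * x⁻¹ := by simp
      _ = x⁻¹ * (g * x) * x⁻¹ := by rw [hx]
      _ = x⁻¹ * g := by simp [mul_assoc]

/-- the kernel of `θ` lies in `N̄` and in the centre -/
theorem ker_spec (hst : fd.ChkSt fx wit) (g : M) (hg : S.θ g = 1) : g ∈ S.Nbar ∧ ∀ x : M, g * x = x * g := by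
  obtain ⟨u, hu, n, hn, u', hu', rfl⟩ := S.mem_BS hst g
  obtain ⟨hL, hM⟩ := S.Nbar_spec hst n hn
  have hθn : S.θ n = 1 := by
    have h1 : S.θ n = (S.θ u)⁻¹ * (S.θ u')⁻¹ := by
      rw [map_mul, map_mul] at hg
      have : S.θ n = (S.θ u)⁻¹ * (S.θ u * S.θ n * S.θ u') * (S.θ u')⁻¹ := by group
      rw [this, hg, mul_one]
    have h2 : S.θ n ∈ D.posUnipotent F ⊓ D.monomialSubgroup F := by
      refine Subgroup.mem_inf.mpr ⟨?_, hM⟩
      rw [h1]
      exact mul_mem (inv_mem (S.θ_Ubar u hu)) (inv_mem (S.θ_Ubar u' hu'))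
    rw [C.c6.c2.pos_inf_monomial, Subgroup.mem_bot] at h2
    exact h2
  have hcomm : ∀ s, s < fd.n → ∀ w, n * S.y s w * n⁻¹ = S.y s w := by
    intro s hs w
    have := hL s s hs hs 1 (by intro v; rw [hθn]; simp) w
    rwa [one_mul] at this
  have hcen := S.central_of_comm n hcomm
  have huu : u * u' = 1 := by
    apply S.ker_Ubar _ (mul_mem hu hu')
    rw [map_mul, map_mul, hθn, mul_one, ← map_mul] at hg
    exact hg
  have e : u * n * u' = n := by
    rw [mul_assoc, hcen u', ← mul_assoc, huu, one_mul]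
  rw [e]
  exact ⟨hn, hcen⟩

end StG

end Cfsg.Agent.Lib.H29.Chev
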