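import Mathlib
import Cfsg.Prelude.Def_ChevStructure
import Cfsg.Agent.Lib.H29.ChevStA

/-!
# Steinberg's presentation: the constants of the action of `N` on opposite root subgroups are inverse to each other
-/

set_option autoImplicit false
set_option linter.unusedSectionVars false
set_option linter.unusedSimpArgs false
set_option linter.unusedVariables false

namespace Cfsg.Agent.Lib.H29.Chev

open Cfsg.Lie Matrix

variable {D : ChevalleyDatum} {fd : FD} {fx : FX} {fc : FC} {fz : FZ} {F : Type*} [Field F]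

namespace Cert12

variable (C : Cert12 D fd fx fc fz)
include C

/-- if `m` maps `x_s(u)` to `x_{s'}(c u)` then it maps `x_{-s}(u)` to `x_{-s'}(c⁻¹ u)` -/
def NegC (m : GL D.Idx F) : Prop :=
  ∀ s s' : ℕ, s < fd.n → s' < fd.n → ∀ c : F,
    (∀ u, m * C.c6.c2.xA s u * m⁻¹ = C.c6.c2.xA s' (c * u)) →
      ∀ u, m * C.c6.c2.xA (fd.n - 1 - s) u * m⁻¹ = C.c6.c2.xA (fd.n - 1 - s') (c⁻¹ * u)

/-- a conjugation formula determines the target root and the constant -/
theorem conj_unique (m : GL D.Idx F) (s s' s'' : ℕ) (hs : s < fd.n) (hs' : s' < fd.n) (hs'' : s'' < fd.n) (c c' : F)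
    (hc : ∀ u, m * C.c6.c2.xA s u * m⁻¹ = C.c6.c2.xA s' (c * u))
    (hc' : ∀ u, m * C.c6.c2.xA s u * m⁻¹ = C.c6.c2.xA s'' (c' * u)) : s' = s'' ∧ c = c' := by
  have hc0 := C.conj_const_ne m s s' hs c hc
  have e := (hc 1).symm.trans (hc' 1)
  rw [mul_one, mul_one] at e
  have h1 : s' = s'' := C.xA_inj s' s'' hs' hs'' c c' hc0 e
  subst h1
  exact ⟨rfl, C.xA_param_inj' s' hs' c c' e⟩

theorem negC_one : C.NegC (1 : GL D.Idx F) := by
  have hev := C.c6.c2.heven
  intro s s' hs hs' c hc u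
  obtain ⟨h1, h2⟩ := C.conj_unique 1 s s' s hs hs' hs c 1 hc (by intro u; simp)
  subst h1
  subst h2
  simp

theorem negC_mul (a b : GL D.Idx F) (ha : C.NegC a) (hb : C.NegC b) (π : ℕ → ℕ) (hπ : C.c6.c2.Perm b π) :
    C.NegC (a * b) := by
  have hev := C.c6.c2.heven
  intro s s' hs hs' c hc u
  obtain ⟨h1, h2, cb, hcb⟩ := hπ s hs
  have hcb0 := C.conj_const_ne _ s _ hs cb hcb
  have e1 := hb s (π s) hs h1 cb hcb
  have e2 : ∀ v, a * C.c6.c2.xA (π s) v * a⁻¹ = C.c6.c2.xA s' (c * cb⁻¹ * v) := by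
    intro v
    have := hcb (cb⁻¹ * v)
    rw [← mul_assoc, mul_inv_cancel₀ hcb0, one_mul] at this
    rw [← this, mul_assoc c, ← hc (cb⁻¹ * v)]
    group
  have e3 := ha (π s) s' h1 hs' (c * cb⁻¹) e2 (cb⁻¹ * u)
  have : a * b * C.c6.c2.xA (fd.n - 1 - s) u * (a * b)⁻¹ =
      a * (b * C.c6.c2.xA (fd.n - 1 - s) u * b⁻¹) * a⁻¹ := by group
  rw [this, e1, e3]
  congr 1
  rw [_root_.mul_inv_rev, inv_inv, ← mul_assoc, mul_assoc cb, mul_comm c⁻¹, ← mul_assoc, mul_inv_cancel₀ hcb0, one_mul]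

theorem negC_inv (a : GL D.Idx F) (ha : C.NegC a) : C.NegC a⁻¹ := by
  have hev := C.c6.c2.heven
  intro s s' hs hs' c hc u
  rw [inv_inv] at hc ⊢
  have hc0 : c ≠ 0 := by
    apply C.conj_const_ne a⁻¹ s s' hs c
    intro t
    rw [inv_inv]
    exact hc t
  have e2 : ∀ v, a * C.c6.c2.xA s' v * a⁻¹ = C.c6.c2.xA s (c⁻¹ * v) := by
    intro v
    have := hc (c⁻¹ * v)
    rw [← mul_assoc, mul_inv_cancel₀ hc0, one_mul] at this
    rw [← this]
    group
  have e3 := ha s' s hs' hs c⁻¹ e2 (c⁻¹ * u)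
  rw [inv_inv, ← mul_assoc, mul_inv_cancel₀ hc0, one_mul] at e3
  rw [← e3]
  group

theorem negC_nG (i : ℕ) (hi : i < fd.l) :
    C.NegC (C.c6.c2.nG (F := F) (fd.simples.getD i 0) (C.c6.c2.simple_lt i hi)) := by
  have hev := C.c6.c2.heven
  have hp := C.c6.c2.simple_lt i hi
  intro s s' hs hs' c hc u
  have hsn : fd.n - 1 - s < fd.n := by omega
  have k1 := fun v : F => C.c6.c2.nG_conj_x (F := F) _ s hp hs (fd.conj_spec C.c6.c5.c3.conj i s hi hs) v
  have k2 := C.c6.c2.nG_conj_x (F := F) _ _ hp hsn (fd.conj_spec C.c6.c5.c3.conj i _ hi hsn) u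
  have hw := (fd.nw_spec C.c6.c2.chk.nn _ s hp hs).1
  obtain ⟨h1, h2⟩ := C.conj_unique _ s s' _ hs hs' hw c _ hc k1
  rw [k2, (fd.up_spec C.c6.up i hi s hs).1, ← h1, h2]
  congr 1
  obtain ⟨_, _, _, _, h5, _⟩ := fd.sim_spec C.c6.c2.sim i s hi hs
  have h6 : ((fd.neta fx (fd.simples.getD i 0) s : ℤ) : F) *
      ((fd.neta fx (fd.simples.getD i 0) (fd.n - 1 - s) : ℤ) : F) = 1 := by
    rw [← Int.cast_mul, h5, Int.cast_one]
  rw [eq_comm, inv_eq_of_mul_eq_one_right h6]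

theorem negC_hMat (g : GL D.Idx F) (r : ℕ) (hr : r < fd.n) (t : F) (ht : t ≠ 0)
    (hg : (g : Matrix D.Idx D.Idx F) = D.hMat F r t) : C.NegC g := by
  have hev := C.c6.c2.heven
  have key : ∀ s, s < fd.n → ∀ v, g * C.c6.c2.xA s v * g⁻¹ = C.c6.c2.xA s (t ^ (fd.pr s r) * v) := by
    intro s hs v
    apply gl_conj_eq
    rw [hg, C.c6.c2.xA_val, C.c6.c2.xA_val]
    exact C.c6.c2.hMat_mul_x r s hr hs t ht v
  intro s s' hs hs' c hc u
  obtain ⟨h1, h2⟩ := C.conj_unique _ s s' s hs hs' hs c _ hc (key s hs)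
  subst h1
  rw [key _ (by omega), h2]
  congr 2
  rw [fd.pr_lin C.c6.c2.chk.lin _ r (by omega), fd.pr_lin C.c6.c2.chk.lin s' r hs, fd.omr_neg C.c6.c2.chk.pref _ s' hs,
    _root_.zpow_neg]

theorem negC_of_diag (h : GL D.Idx F) (hh : h ∈ D.diagonalSubgroup F) : C.NegC h := by
  unfold ChevalleyDatum.diagonalSubgroup at hh
  induction hh using Subgroup.closure_induction with
  | mem x hx =>
    obtain ⟨r, t, hr, ht, hx⟩ := hx
    exact C.negC_hMat x r (by rw [← C.c6.c2.nroots_eq]; exact hr) t ht hx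
  | one => exact C.negC_one
  | mul x y _ hy ihx ihy => exact C.negC_mul x y ihx ihy id (C.c6.perm_diag y hy)
  | inv x _ ihx => exact C.negC_inv x ihx

/-- the constants of the action of an element of `N` on opposite root subgroups are inverse to each other -/
theorem negC_of_mem (m : GL D.Idx F) (hm : m ∈ D.monomialSubgroup F) : C.NegC m := by
  have key : C.NegC m ∧ m ∈ D.monomialSubgroup F := by
    rw [← C.c6.closure_SSet_sup_diag, ← Subgroup.closure_eq (D.diagonalSubgroup F), ← Subgroup.closure_union] at hm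
    induction hm using Subgroup.closure_induction with
    | mem x hx =>
      rcases hx with hx | hx
      · obtain ⟨i, hi, rfl⟩ := C.c6.eq_nG_of_SSet x hx
        exact ⟨C.negC_nG i hi, C.c6.c2.nG_mem_monomial _ _⟩
      · refine ⟨C.negC_of_diag x hx, ?_⟩
        unfold ChevalleyDatum.monomialSubgroup
        exact (le_sup_left : D.diagonalSubgroup F ≤ _) hx
    | one => exact ⟨C.negC_one, one_mem _⟩
    | mul x y _ _ hx hy =>
      obtain ⟨⟨π, hπ⟩, _⟩ := C.c6.perm_of_mem y hy.2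
      exact ⟨C.negC_mul x y hx.1 hy.1 π hπ, mul_mem hx.2 hy.2⟩
    | inv x _ hx => exact ⟨C.negC_inv x hx.1, inv_mem hx.2⟩
  exact key.1

end Cert12

end Cfsg.Agent.Lib.H29.Chev
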