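import Mathlib
import Cfsg.Prelude.Def_ChevStructure
import Cfsg.Agent.Lib.H29.ChevStF
import Cfsg.Agent.Lib.H29.ChevStJ

/-!
# Steinberg's presentation: the kernel of `θ` lies in the subgroup generated by the `h̄_p(t)`, `p` fundamental
-/

set_option autoImplicit false
set_option linter.unusedSectionVars false
set_option linter.unusedSimpArgs false
set_option linter.unusedVariables false

namespace Cfsg.Agent.Lib.H29.Chev

open Cfsg.Lie Matrix

variable {D : ChevalleyDatum} {fd : FD} {fx : FX} {fc : FC} {fz : FZ}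

namespace Cert12

variable {F : Type*} [Field F] (C : Cert12 D fd fx fc fz)
include C

/-- a word that makes the positive root `γ` negative has a suffix mapping `γ` to a fundamental root, preceded by the
reflection in that root -/
theorem exists_split (L : List (ℕ × F)) (hL : ∀ q ∈ L, q.1 < fd.l) (γ : ℕ) (hγ : γ < fd.n) (hpos : fd.n / 2 ≤ γ)
    (hneg : fd.wordP fx (L.map Prod.fst) γ < fd.n / 2) :
    ∃ (A : List (ℕ × F)) (q : ℕ × F) (B : List (ℕ × F)), L = A ++ q :: B ∧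
      fd.wordP fx (B.map Prod.fst) γ = fd.simples.getD q.1 0 := by
  induction L with
  | nil =>
    simp only [List.map_nil, FD.wordP] at hneg
    omega
  | cons q B ih =>
    have hq : q.1 < fd.l := hL q (by simp)
    have hB : ∀ q' ∈ B, q'.1 < fd.l := fun q' h => hL q' (List.mem_cons_of_mem _ h)
    have hwB : IsWd fd.l (B.map Prod.fst) := by
      intro j hj
      obtain ⟨q', hq', rfl⟩ := List.mem_map.mp hj
      exact hB q' hq'
    have hδ := C.wordP_lt _ hwB γ hγ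
    by_cases hδneg : fd.wordP fx (B.map Prod.fst) γ < fd.n / 2
    · obtain ⟨A', q', B', e, h⟩ := ih hB hδneg
      exact ⟨q :: A', q', B', by rw [e]; rfl, h⟩
    · push Not at hδneg
      refine ⟨[], q, B, rfl, ?_⟩
      by_contra hne
      have := C.sw_pos q.1 _ hq hδ hδneg hne
      simp only [List.map_cons, FD.wordP] at hneg
      omega

end Cert12

namespace StG

variable {C : Cert12 D fd fx fc fz} {F : Type*} [Field F] {M : Type*} [Group M] (S : StG C F M)
variable {wit : List (ℕ × ℕ)}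

/-- the element `h̄_r(t)` -/
def hb (r : ℕ) (t : F) : M := S.nb r t * S.nb r (-1)

theorem θ_hb (r : ℕ) (hr : r < fd.n) (t : F) : S.θ (S.hb r t) = C.nE r t * C.nE r (-1) := by
  unfold hb
  rw [map_mul, S.θ_nb r hr, S.θ_nb r hr]

/-- the subgroup generated by the `h̄_p(t)`, `p` fundamental -/
def Hbar : Subgroup M :=
  Subgroup.closure {g | ∃ (i : ℕ) (t : F), i < fd.l ∧ t ≠ 0 ∧ g = S.hb (fd.simples.getD i 0) t}

theorem hb_mem_Hbar (i : ℕ) (hi : i < fd.l) (t : F) (ht : t ≠ 0) : S.hb (fd.simples.getD i 0) t ∈ S.Hbar :=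
  Subgroup.subset_closure ⟨i, t, hi, ht, rfl⟩

theorem hb_mem_Nbar (i : ℕ) (hi : i < fd.l) (t : F) (ht : t ≠ 0) : S.hb (fd.simples.getD i 0) t ∈ S.Nbar :=
  mul_mem (S.nb_mem_Nbar i hi t ht) (S.nb_mem_Nbar i hi (-1) (neg_ne_zero.mpr one_ne_zero))

theorem Hbar_le_Nbar : S.Hbar ≤ S.Nbar := by
  unfold Hbar
  rw [Subgroup.closure_le]
  rintro g ⟨i, t, hi, ht, rfl⟩
  exact S.hb_mem_Nbar i hi t ht

theorem θ_Hbar (g : M) (hg : g ∈ S.Hbar) : S.θ g ∈ D.diagonalSubgroup F := by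
  unfold Hbar at hg
  induction hg using Subgroup.closure_induction with
  | mem x hx =>
    obtain ⟨i, t, hi, ht, rfl⟩ := hx
    rw [S.θ_hb _ (C.c6.c2.simple_lt i hi)]
    exact C.nE_mul_mem_diag _ (C.c6.c2.simple_lt i hi) t ht
  | one => rw [map_one]; exact one_mem _
  | mul x y _ _ hx hy => rw [map_mul]; exact mul_mem hx hy
  | inv x _ hx => rw [map_inv]; exact inv_mem hx

theorem nb_mul_nb (r : ℕ) (hr : r < fd.n) (a b : F) : S.nb r a * S.nb r b = S.hb r a * (S.hb r (-b))⁻¹ := by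
  unfold hb
  rw [_root_.mul_inv_rev, S.nb_inv r hr (-b), neg_neg]
  group

/-- conjugating `n̄_s(t)` by an element that acts on the root elements as its image does -/
theorem conj_nb_of_lift (g : M) (hL : S.Lift g) (hM : S.θ g ∈ D.monomialSubgroup F) (s s' : ℕ) (hs : s < fd.n)
    (hs' : s' < fd.n) (c : F) (hc : ∀ u, S.θ g * C.c6.c2.xA s u * (S.θ g)⁻¹ = C.c6.c2.xA s' (c * u)) (t : F) :
    g * S.nb s t * g⁻¹ = S.nb s' (c * t) := by
  have hneg := C.negC_of_mem _ hM s s' hs hs' c hc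
  have e1 := hL s s' hs hs' c hc t
  have e2 := hL (fd.n - 1 - s) (fd.n - 1 - s') (by omega) (by omega) c⁻¹ hneg (-t⁻¹)
  unfold nb
  have : g * (S.y s t * S.y (fd.n - 1 - s) (-t⁻¹) * S.y s t) * g⁻¹ =
      (g * S.y s t * g⁻¹) * (g * S.y (fd.n - 1 - s) (-t⁻¹) * g⁻¹) * (g * S.y s t * g⁻¹) := by group
  rw [this, e1, e2]
  congr 3
  rw [_root_.mul_inv, mul_neg]

/-- `N̄` normalizes `H̄` -/
theorem Hbar_normal (hst : fd.ChkSt fx wit) (n : M) (hn : n ∈ S.Nbar) :
    (∀ h ∈ S.Hbar, n * h * n⁻¹ ∈ S.Hbar) ∧ (∀ h ∈ S.Hbar, n⁻¹ * h * n ∈ S.Hbar) := by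
  have gen : ∀ (i : ℕ) (t : F), i < fd.l → t ≠ 0 → ∀ h ∈ S.Hbar,
      S.nb (fd.simples.getD i 0) t * h * (S.nb (fd.simples.getD i 0) t)⁻¹ ∈ S.Hbar := by
    intro i t hi ht h hh
    have hp := C.c6.c2.simple_lt i hi
    apply conj_mem_closure _ _ _ h hh
    rintro x ⟨j, u, hj, hu, rfl⟩
    set h₀ := S.hb (fd.simples.getD j 0) u with hh₀
    obtain ⟨hL, hM⟩ := S.Nbar_spec hst h₀ (S.hb_mem_Nbar j hj u hu)
    have hdiag := S.θ_Hbar h₀ (S.hb_mem_Hbar j hj u hu)
    obtain ⟨_, _, χ, hχ⟩ := C.c6.perm_diag _ hdiag _ hp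
    simp only [id] at hχ
    have hχ0 := C.conj_const_ne _ _ _ hp χ hχ
    have e1 := S.conj_nb_of_lift h₀ hL hM _ _ hp hp χ hχ (-t)
    have e2 : S.nb (fd.simples.getD i 0) t * h₀ * (S.nb (fd.simples.getD i 0) t)⁻¹ =
        S.nb (fd.simples.getD i 0) t * (h₀ * S.nb (fd.simples.getD i 0) (-t) * h₀⁻¹) * h₀ := by
      rw [S.nb_inv _ hp]; group
    rw [e2, e1, S.nb_mul_nb _ hp]
    refine mul_mem (mul_mem (S.hb_mem_Hbar i hi t ht) (inv_mem (S.hb_mem_Hbar i hi _ ?_))) (S.hb_mem_Hbar j hj u hu)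
    rw [mul_neg, neg_neg]
    exact mul_ne_zero hχ0 ht
  unfold Nbar at hn
  induction hn using Subgroup.closure_induction with
  | mem x hx =>
    obtain ⟨i, t, hi, ht, rfl⟩ := hx
    refine ⟨gen i t hi ht, fun h hh => ?_⟩
    have := gen i (-t) hi (neg_ne_zero.mpr ht) h hh
    rw [← S.nb_inv _ (C.c6.c2.simple_lt i hi), inv_inv] at this
    exact this
  | one => exact ⟨fun h hh => by simpa using hh, fun h hh => by simpa using hh⟩
  | mul x y _ _ hx hy =>
    refine ⟨fun h hh => ?_, fun h hh => ?_⟩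
    · have : x * y * h * (x * y)⁻¹ = x * (y * h * y⁻¹) * x⁻¹ := by group
      rw [this]
      exact hx.1 _ (hy.1 h hh)
    · have : (x * y)⁻¹ * h * (x * y) = y⁻¹ * (x⁻¹ * h * x) * y := by group
      rw [this]
      exact hy.2 _ (hx.2 h hh)
  | inv x _ hx =>
    refine ⟨fun h hh => ?_, fun h hh => ?_⟩
    · rw [inv_inv]; exact hx.2 h hh
    · rw [inv_inv]; exact hx.1 h hh

/-- the product of the `n̄_p(t)` along a list -/
def nW (L : List (ℕ × F)) : M := (L.map fun q => S.nb (fd.simples.getD q.1 0) q.2).prod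

theorem nW_append (L L' : List (ℕ × F)) : S.nW (L ++ L') = S.nW L * S.nW L' := by
  unfold nW
  rw [List.map_append, List.prod_append]

theorem nW_cons (q : ℕ × F) (L : List (ℕ × F)) : S.nW (q :: L) = S.nb (fd.simples.getD q.1 0) q.2 * S.nW L := by
  unfold nW
  rw [List.map_cons, List.prod_cons]

theorem nW_mem (L : List (ℕ × F)) (hL : ∀ q ∈ L, q.1 < fd.l ∧ q.2 ≠ 0) : S.nW L ∈ S.Nbar := by
  unfold nW
  apply Subgroup.list_prod_mem
  intro x hx
  obtain ⟨q, hq, rfl⟩ := List.mem_map.mp hx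
  exact S.nb_mem_Nbar q.1 (hL q hq).1 q.2 (hL q hq).2

theorem Nbar_word (g : M) (hg : g ∈ S.Nbar) : ∃ L : List (ℕ × F), (∀ q ∈ L, q.1 < fd.l ∧ q.2 ≠ 0) ∧ g = S.nW L := by
  unfold Nbar at hg
  induction hg using Subgroup.closure_induction_left with
  | one => exact ⟨[], by simp, by simp [nW]⟩
  | mul_left x hx y _ ih =>
    obtain ⟨L, hL, rfl⟩ := ih
    obtain ⟨i, t, hi, ht, rfl⟩ := hx
    refine ⟨(i, t) :: L, ?_, by rw [S.nW_cons]⟩
    intro q hq
    rcases List.mem_cons.mp hq with rfl | hq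
    · exact ⟨hi, ht⟩
    · exact hL q hq
  | inv_mul_cancel x hx y _ ih =>
    obtain ⟨L, hL, rfl⟩ := ih
    obtain ⟨i, t, hi, ht, rfl⟩ := hx
    refine ⟨(i, -t) :: L, ?_, by rw [S.nW_cons, S.nb_inv _ (C.c6.c2.simple_lt i hi)]⟩
    intro q hq
    rcases List.mem_cons.mp hq with rfl | hq
    · exact ⟨hi, neg_ne_zero.mpr ht⟩
    · exact hL q hq

theorem perm_nW (L : List (ℕ × F)) (hL : ∀ q ∈ L, q.1 < fd.l ∧ q.2 ≠ 0) :
    C.c6.c2.Perm (S.θ (S.nW L)) (fd.wordP fx (L.map Prod.fst)) := by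
  induction L with
  | nil =>
    have : S.nW ([] : List (ℕ × F)) = 1 := by simp [nW]
    rw [this, map_one]
    exact C.c6.perm_one
  | cons q L ih =>
    have hq := hL q (by simp)
    rw [S.nW_cons, map_mul, S.θ_nb _ (C.c6.c2.simple_lt q.1 hq.1)]
    exact C.c6.perm_mul (C.perm_nE q.1 hq.1 q.2 hq.2) (ih (fun q' h => hL q' (List.mem_cons_of_mem _ h)))

/-- an element of `N̄` whose image lies in `H` lies in `H̄` -/
theorem nW_mem_Hbar (hst : fd.ChkSt fx wit) (k : ℕ) : ∀ L : List (ℕ × F), L.length = k →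
    (∀ q ∈ L, q.1 < fd.l ∧ q.2 ≠ 0) → S.θ (S.nW L) ∈ D.diagonalSubgroup F → S.nW L ∈ S.Hbar := by
  have hev := C.c6.c2.heven
  induction k using Nat.strong_induction_on with
  | _ k ih =>
    intro L hlen hL hdiag
    rcases List.eq_nil_or_concat L with rfl | ⟨L', q₀, rfl⟩
    · have : S.nW ([] : List (ℕ × F)) = 1 := by simp [nW]
      rw [this]; exact one_mem _
    · rw [List.concat_eq_append] at hlen hL hdiag ⊢
      have hq₀ := hL q₀ (by simp)
      have hL' : ∀ q ∈ L', q.1 < fd.l ∧ q.2 ≠ 0 := fun q h => hL q (List.mem_append_left _ h)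
      have hp₀ := C.c6.c2.simple_lt q₀.1 hq₀.1
      have hpp₀ := C.c6.simple_pos q₀.1 hq₀.1
      -- the word acts trivially on the roots
      have hid := C.perm_unique _ _ _ (S.perm_nW _ hL) (C.c6.perm_diag _ hdiag) _ hp₀
      simp only [id, List.map_append, List.map_cons, List.map_nil] at hid
      rw [FD.wordP_append] at hid
      simp only [FD.wordP] at hid
      have hswp : fd.sw fx q₀.1 (fd.simples.getD q₀.1 0) = fd.n - 1 - fd.simples.getD q₀.1 0 :=
        (fd.neg_spec C.c6.c2.neg _ hp₀).1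
      have hwL' : IsWd fd.l (L'.map Prod.fst) := by
        intro j hj
        obtain ⟨q', hq', rfl⟩ := List.mem_map.mp hj
        exact (hL' q' hq').1
      rw [hswp, C.wordP_neg _ hwL' _ hp₀] at hid
      have hlt := C.wordP_lt _ hwL' _ hp₀
      have hneg : fd.wordP fx (L'.map Prod.fst) (fd.simples.getD q₀.1 0) < fd.n / 2 := by omega
      obtain ⟨A, q, B, rfl, hB⟩ := C.exists_split L' (fun q h => (hL' q h).1) _ hp₀ hpp₀ hneg
      have hA : ∀ q' ∈ A, q'.1 < fd.l ∧ q'.2 ≠ 0 := fun q' h => hL' q' (List.mem_append_left _ h)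
      have hq := hL' q (by simp)
      have hBl : ∀ q' ∈ B, q'.1 < fd.l ∧ q'.2 ≠ 0 :=
        fun q' h => hL' q' (List.mem_append_right _ (List.mem_cons_of_mem _ h))
      have hp := C.c6.c2.simple_lt q.1 hq.1
      -- conjugate the last factor by the product along `B`
      obtain ⟨hLB, hMB⟩ := S.Nbar_spec hst _ (S.nW_mem B hBl)
      obtain ⟨_, _, c, hc⟩ := S.perm_nW B hBl _ hp₀
      rw [hB] at hc
      have hc0 := C.conj_const_ne _ _ _ hp₀ c hc
      have e1 := S.conj_nb_of_lift _ hLB hMB _ _ hp₀ hp c hc q₀.2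
      have e2 : S.nW ((A ++ q :: B) ++ [q₀]) =
          (S.nW A * (S.nb (fd.simples.getD q.1 0) q.2 * S.nb (fd.simples.getD q.1 0) (c * q₀.2)) * (S.nW A)⁻¹) *
            S.nW (A ++ B) := by
        rw [S.nW_append, S.nW_append, S.nW_cons, S.nW_append, ← e1]
        have : S.nW [q₀] = S.nb (fd.simples.getD q₀.1 0) q₀.2 := by simp [nW]
        rw [this]
        group
      have hh₁ : S.nb (fd.simples.getD q.1 0) q.2 * S.nb (fd.simples.getD q.1 0) (c * q₀.2) ∈ S.Hbar := by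
        rw [S.nb_mul_nb _ hp]
        exact mul_mem (S.hb_mem_Hbar q.1 hq.1 _ hq.2)
          (inv_mem (S.hb_mem_Hbar q.1 hq.1 _ (neg_ne_zero.mpr (mul_ne_zero hc0 hq₀.2))))
      have hh₂ := (S.Hbar_normal hst _ (S.nW_mem A hA)).1 _ hh₁
      have hAB : ∀ q' ∈ A ++ B, q'.1 < fd.l ∧ q'.2 ≠ 0 := by
        intro q' h
        rcases List.mem_append.mp h with h | h
        · exact hA q' h
        · exact hBl q' h
      have hdiag' : S.θ (S.nW (A ++ B)) ∈ D.diagonalSubgroup F := by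
        have : S.nW (A ++ B) = (S.nW A * (S.nb (fd.simples.getD q.1 0) q.2 *
            S.nb (fd.simples.getD q.1 0) (c * q₀.2)) * (S.nW A)⁻¹)⁻¹ * S.nW ((A ++ q :: B) ++ [q₀]) := by
          rw [e2]; group
        rw [this, map_mul, map_inv]
        exact mul_mem (inv_mem (S.θ_Hbar _ hh₂)) hdiag
      have hlen' : (A ++ B).length < k := by
        rw [← hlen]
        simp only [List.length_append, List.length_cons, List.length_nil]
        omega
      rw [e2]
      exact mul_mem hh₂ (ih _ hlen' (A ++ B) rfl hAB hdiag')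

/-- the kernel of `θ` lies in `H̄` -/
theorem ker_le_Hbar (hst : fd.ChkSt fx wit) (g : M) (hg : S.θ g = 1) : g ∈ S.Hbar := by
  obtain ⟨hn, _⟩ := S.ker_spec hst g hg
  obtain ⟨L, hL, rfl⟩ := S.Nbar_word g hn
  apply S.nW_mem_Hbar hst _ L rfl hL
  rw [hg]
  exact one_mem _

end StG

end Cfsg.Agent.Lib.H29.Chev
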