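import Mathlib
import Cfsg.Prelude.Def_ChevStructure
import Cfsg.Agent.Lib.H29.ChevStK
import Cfsg.Agent.Lib.H29.ChevGen46

/-!
# Steinberg's presentation: the subgroup `H̄` when the relators (R3) hold, and unimodular Cartan matrices
-/

set_option autoImplicit false
set_option linter.unusedSectionVars false
set_option linter.unusedSimpArgs false
set_option linter.unusedVariables false

namespace Cfsg.Agent.Lib.H29.Chev

open Cfsg.Lie Matrix

variable {D : ChevalleyDatum} {fd : FD} {fx : FX} {fc : FC} {fz : FZ}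

/-- `B` is a right inverse of the Cartan matrix -/
def FD.ChkUni (fd : FD) (B : List (List ℤ)) : Prop :=
  ∀ i < fd.l, ∀ k < fd.l,
    ∑ j ∈ Finset.range fd.l, fd.carZ i (fd.simples.getD j 0) * tblGet B j k = if i = k then 1 else 0

instance (fd : FD) (B : List (List ℤ)) : Decidable (fd.ChkUni B) := by
  unfold FD.ChkUni
  infer_instance

namespace Cert12

variable {F : Type*} [Field F] (C : Cert12 D fd fx fc fz)
include C

/-- the matrix of a product of elements `h_{p_i}(c_i)` -/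
theorem hprod_val (c : ℕ → F) (hc : ∀ i < fd.l, c i ≠ 0) :
    ((((List.range fd.l).map fun i => C.nE (fd.simples.getD i 0) (c i) * C.nE (fd.simples.getD i 0) (-1)).prod :
      GL D.Idx F) : Matrix D.Idx D.Idx F) = Dg D fd fx c := by
  have e : ∀ L : List (GL D.Idx F), ((L.prod : GL D.Idx F) : Matrix D.Idx D.Idx F) =
      (L.map (fun g : GL D.Idx F => g.val)).prod := by
    intro L
    induction L with
    | nil => simp
    | cons a L ih => rw [List.prod_cons, Units.val_mul, ih, List.map_cons, List.prod_cons]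
  rw [e, List.map_map]
  have : ((List.range fd.l).map ((fun g : GL D.Idx F => g.val) ∘
      fun i => C.nE (fd.simples.getD i 0) (c i) * C.nE (fd.simples.getD i 0) (-1))) =
      (List.range fd.l).map fun i => Td (hExp D fd fx (fd.simples.getD i 0)) (c i) := by
    apply List.map_congr_left
    intro i hi
    have hi' := List.mem_range.mp hi
    have hp := C.c6.c2.simple_lt i hi'
    simp only [Function.comp]
    rw [Units.val_mul, C.nE_val _ hp, C.nE_val _ hp, ← hMat_mul C.c6.c2.agrees, C.c6.c2.hMat_eq _ hp (c i) (hc i hi')]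
  rw [this, prod_Td_range]
  rfl

/-- a trivial product of elements `h_{p_i}(c_i)` -/
theorem hprod_eq_one (c : ℕ → F) (hc : ∀ i < fd.l, c i ≠ 0)
    (h : ((List.range fd.l).map fun i => C.nE (fd.simples.getD i 0) (c i) * C.nE (fd.simples.getD i 0) (-1)).prod =
      (1 : GL D.Idx F)) :
    ∀ j < fd.l, ∏ i ∈ Finset.range fd.l, c i ^ fd.carZ i (fd.simples.getD j 0) = 1 := by
  intro j hj
  have hp := C.c6.c2.simple_lt j hj
  have hp' : fd.simples.getD j 0 < D.nroots := by rw [C.c6.c2.nroots_eq]; exact hp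
  have h1 := C.hprod_val c hc
  rw [h, Units.val_one] at h1
  have h2 := congrFun (congrFun h1 (Sum.inr ⟨_, hp'⟩)) (Sum.inr ⟨_, hp'⟩)
  rw [Matrix.one_apply_eq] at h2
  unfold Dg at h2
  rw [Matrix.diagonal_apply_eq] at h2
  rw [h2]
  apply Finset.prod_congr rfl
  intro i hi
  have hi' := Finset.mem_range.mp hi
  rw [C.c6.c2.hExp_simple_inr i hi', C.c6.c2.agrees.cartan_eq i _ hi' hp]

/-- for a unimodular Cartan matrix the parameters of a trivial product are trivial -/
theorem uni_eq_one (B : List (List ℤ)) (hB : fd.ChkUni B) (c : ℕ → F) (hc : ∀ i < fd.l, c i ≠ 0)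
    (h : ∀ j < fd.l, ∏ i ∈ Finset.range fd.l, c i ^ fd.carZ i (fd.simples.getD j 0) = 1) :
    ∀ k < fd.l, c k = 1 := by
  intro k hk
  have e1 : c k = ∏ i ∈ Finset.range fd.l, c i ^ (if i = k then (1 : ℤ) else 0) := by
    rw [Finset.prod_eq_single k]
    · simp
    · intro i _ hik
      simp [hik]
    · intro h; exact absurd (Finset.mem_range.mpr hk) h
  rw [e1]
  have e2 : ∀ i ∈ Finset.range fd.l, c i ^ (if i = k then (1 : ℤ) else 0) =
      ∏ j ∈ Finset.range fd.l, (c i ^ fd.carZ i (fd.simples.getD j 0)) ^ tblGet B j k := by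
    intro i hi
    have hi' := Finset.mem_range.mp hi
    rw [← hB i hi' k hk, zpow_finsum _ (hc i hi')]
    apply Finset.prod_congr rfl
    intro j _
    rw [_root_.zpow_mul]
  rw [Finset.prod_congr rfl e2, Finset.prod_comm]
  apply Finset.prod_eq_one
  intro j hj
  rw [Finset.prod_zpow, h j (Finset.mem_range.mp hj), _root_.one_zpow]

end Cert12

end Cfsg.Agent.Lib.H29.Chev

namespace Cfsg.Agent.Lib.H29.Chev

open Cfsg.Lie Matrix

variable {D : ChevalleyDatum} {fd : FD} {fx : FX} {fc : FC} {fz : FZ}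

namespace StG

variable {C : Cert12 D fd fx fc fz} {F : Type*} [Field F] {M : Type*} [Group M] (S : StG C F M)
variable {wit : List (ℕ × ℕ)}

/-- the relations (R3) -/
def R3 : Prop :=
  ∀ r, r < fd.n → ∀ t₁ t₂ : F, t₁ ≠ 0 → t₂ ≠ 0 → S.hb r t₁ * S.hb r t₂ = S.hb r (t₁ * t₂)

theorem hb_one (h3 : S.R3) (r : ℕ) (hr : r < fd.n) : S.hb r (1 : F) = 1 := by
  have := h3 r hr 1 1 one_ne_zero one_ne_zero
  rw [mul_one] at this
  exact mul_eq_left.mp this

theorem hb_inv (h3 : S.R3) (r : ℕ) (hr : r < fd.n) (t : F) (ht : t ≠ 0) : (S.hb r t)⁻¹ = S.hb r t⁻¹ := by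
  apply inv_eq_of_mul_eq_one_right
  rw [h3 r hr t t⁻¹ ht (inv_ne_zero ht), mul_inv_cancel₀ ht, S.hb_one h3 r hr]

theorem hb_comm_same (h3 : S.R3) (r : ℕ) (hr : r < fd.n) (a b : F) (ha : a ≠ 0) (hb : b ≠ 0) :
    S.hb r a * S.hb r b = S.hb r b * S.hb r a := by
  rw [h3 r hr a b ha hb, h3 r hr b a hb ha, mul_comm]

/-- the elements `h̄_p(t)`, `p` fundamental, commute -/
theorem hb_comm (hst : fd.ChkSt fx wit) (h3 : S.R3) (i j : ℕ) (hi : i < fd.l) (hj : j < fd.l) (t u : F)
    (ht : t ≠ 0) (hu : u ≠ 0) :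
    S.hb (fd.simples.getD i 0) t * S.hb (fd.simples.getD j 0) u =
      S.hb (fd.simples.getD j 0) u * S.hb (fd.simples.getD i 0) t := by
  have hq := C.c6.c2.simple_lt j hj
  set g := S.hb (fd.simples.getD i 0) t with hg
  obtain ⟨hL, hM⟩ := S.Nbar_spec hst g (S.hb_mem_Nbar i hi t ht)
  have hdiag := S.θ_Hbar g (S.hb_mem_Hbar i hi t ht)
  obtain ⟨_, _, χ, hχ⟩ := C.c6.perm_diag _ hdiag _ hq
  simp only [id] at hχ
  have hχ0 := C.conj_const_ne _ _ _ hq χ hχ
  have e1 := S.conj_nb_of_lift g hL hM _ _ hq hq χ hχ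
  have e2 : g * S.hb (fd.simples.getD j 0) u * g⁻¹ = S.hb (fd.simples.getD j 0) u := by
    have : g * S.hb (fd.simples.getD j 0) u * g⁻¹ =
        (g * S.nb (fd.simples.getD j 0) u * g⁻¹) * (g * S.nb (fd.simples.getD j 0) (-1) * g⁻¹) := by
      unfold hb; group
    rw [this, e1, e1, S.nb_mul_nb _ hq, mul_neg, mul_one, neg_neg, ← h3 _ hq χ u hχ0 hu,
      S.hb_comm_same h3 _ hq χ u hχ0 hu, mul_inv_cancel_right]
  calc g * S.hb (fd.simples.getD j 0) u = (g * S.hb (fd.simples.getD j 0) u * g⁻¹) * g := by group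
    _ = S.hb (fd.simples.getD j 0) u * g := by rw [e2]

/-- the subgroup generated by the `h̄_{p_i}(t)`, `i < k` -/
def Hk (k : ℕ) : Subgroup M :=
  Subgroup.closure {g | ∃ (i : ℕ) (t : F), i < k ∧ i < fd.l ∧ t ≠ 0 ∧ g = S.hb (fd.simples.getD i 0) t}

theorem Hk_peel (hst : fd.ChkSt fx wit) (h3 : S.R3) (k : ℕ) (hk : k < fd.l) (h : M) (hh : h ∈ S.Hk (k + 1)) :
    ∃ x ∈ S.Hk k, ∃ u : F, u ≠ 0 ∧ h = x * S.hb (fd.simples.getD k 0) u := by
  have hp := C.c6.c2.simple_lt k hk
  have hcomm : ∀ (v : F), v ≠ 0 → ∀ x ∈ S.Hk k,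
      S.hb (fd.simples.getD k 0) v * x = x * S.hb (fd.simples.getD k 0) v := by
    intro v hv x hx
    unfold Hk at hx
    induction hx using Subgroup.closure_induction with
    | mem x hx =>
      obtain ⟨i, t, _, hi, ht, rfl⟩ := hx
      exact S.hb_comm hst h3 k i hk hi v t hv ht
    | one => simp
    | mul x y _ _ hx hy => rw [← mul_assoc, hx, mul_assoc, hy, mul_assoc]
    | inv x _ hx =>
      calc S.hb (fd.simples.getD k 0) v * x⁻¹ = x⁻¹ * (x * S.hb (fd.simples.getD k 0) v) * x⁻¹ := by simp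
        _ = x⁻¹ * (S.hb (fd.simples.getD k 0) v * x) * x⁻¹ := by rw [hx]
        _ = x⁻¹ * S.hb (fd.simples.getD k 0) v := by simp [mul_assoc]
  have step : ∀ (i : ℕ) (t : F), i < k + 1 → i < fd.l → t ≠ 0 → ∀ x ∈ S.Hk k, ∀ u : F, u ≠ 0 →
      ∃ x' ∈ S.Hk k, ∃ u' : F, u' ≠ 0 ∧
        S.hb (fd.simples.getD i 0) t * (x * S.hb (fd.simples.getD k 0) u) = x' * S.hb (fd.simples.getD k 0) u' := by
    intro i t hik hi ht x hx u hu
    rcases Nat.lt_succ_iff_lt_or_eq.mp hik with hlt | rfl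
    · exact ⟨S.hb (fd.simples.getD i 0) t * x,
        mul_mem (Subgroup.subset_closure ⟨i, t, hlt, hi, ht, rfl⟩) hx, u, hu, by rw [mul_assoc]⟩
    · refine ⟨x, hx, t * u, mul_ne_zero ht hu, ?_⟩
      rw [← mul_assoc, hcomm t ht x hx, mul_assoc, h3 _ hp t u ht hu]
  unfold Hk at hh
  induction hh using Subgroup.closure_induction_left with
  | one => exact ⟨1, one_mem _, 1, one_ne_zero, by rw [S.hb_one h3 _ hp, one_mul]⟩
  | mul_left x hx y _ ih =>
    obtain ⟨x', hx', u, hu, rfl⟩ := ih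
    obtain ⟨i, t, hik, hi, ht, rfl⟩ := hx
    exact step i t hik hi ht x' hx' u hu
  | inv_mul_cancel x hx y _ ih =>
    obtain ⟨x', hx', u, hu, rfl⟩ := ih
    obtain ⟨i, t, hik, hi, ht, rfl⟩ := hx
    rw [S.hb_inv h3 _ (C.c6.c2.simple_lt i hi) t ht]
    exact step i t⁻¹ hik hi (inv_ne_zero ht) x' hx' u hu

/-- the elements of `H̄` are products of elements `h̄_{p_i}(c_i)` -/
theorem Hk_form (hst : fd.ChkSt fx wit) (h3 : S.R3) (k : ℕ) : k ≤ fd.l → ∀ h ∈ S.Hk k,
    ∃ c : ℕ → F, (∀ i, c i ≠ 0) ∧ h = ((List.range k).map fun i => S.hb (fd.simples.getD i 0) (c i)).prod := by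
  induction k with
  | zero =>
    intro _ h hh
    have : {g : M | ∃ (i : ℕ) (t : F), i < 0 ∧ i < fd.l ∧ t ≠ 0 ∧ g = S.hb (fd.simples.getD i 0) t} = ∅ := by
      ext g
      simp
    unfold Hk at hh
    rw [this, Subgroup.closure_empty, Subgroup.mem_bot] at hh
    exact ⟨fun _ => 1, fun _ => one_ne_zero, by simp [hh]⟩
  | succ k ih =>
    intro hk h hh
    obtain ⟨x, hx, u, hu, rfl⟩ := S.Hk_peel hst h3 k (by omega) h hh
    obtain ⟨c, hc, rfl⟩ := ih (by omega) x hx
    refine ⟨Function.update c k u, fun i => ?_, ?_⟩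
    · by_cases hik : i = k
      · subst hik; rw [Function.update_self]; exact hu
      · rw [Function.update_of_ne hik]; exact hc i
    · rw [List.range_succ, List.map_append, List.prod_append, List.map_singleton, List.prod_singleton,
        Function.update_self]
      congr 2
      apply List.map_congr_left
      intro i hi
      rw [Function.update_of_ne (by have := List.mem_range.mp hi; omega)]

/-- for a unimodular Cartan matrix, `θ` is injective on `H̄` -/
theorem ker_Hbar (hst : fd.ChkSt fx wit) (h3 : S.R3) (B : List (List ℤ)) (hB : fd.ChkUni B) (h : M)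
    (hh : h ∈ S.Hbar) (hθ : S.θ h = 1) : h = 1 := by
  have e : S.Hbar = S.Hk fd.l := by
    unfold Hbar Hk
    congr 1
    ext g
    constructor
    · rintro ⟨i, t, hi, ht, rfl⟩
      exact ⟨i, t, hi, hi, ht, rfl⟩
    · rintro ⟨i, t, _, hi, ht, rfl⟩
      exact ⟨i, t, hi, ht, rfl⟩
  rw [e] at hh
  obtain ⟨c, hc, rfl⟩ := S.Hk_form hst h3 fd.l (le_refl _) h hh
  rw [map_list_prod, List.map_map] at hθ
  have e2 : ((List.range fd.l).map (⇑S.θ ∘ fun i => S.hb (fd.simples.getD i 0) (c i))) =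
      (List.range fd.l).map fun i => C.nE (fd.simples.getD i 0) (c i) * C.nE (fd.simples.getD i 0) (-1) := by
    apply List.map_congr_left
    intro i hi
    simp only [Function.comp]
    rw [S.θ_hb _ (C.c6.c2.simple_lt i (List.mem_range.mp hi))]
  rw [e2] at hθ
  have h1 := C.uni_eq_one B hB c (fun i _ => hc i) (C.hprod_eq_one c (fun i _ => hc i) hθ)
  apply List.prod_eq_one
  intro x hx
  obtain ⟨i, hi, rfl⟩ := List.mem_map.mp hx
  have hi' := List.mem_range.mp hi
  rw [h1 i hi', S.hb_one h3 _ (C.c6.c2.simple_lt i hi')]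

end StG

end Cfsg.Agent.Lib.H29.Chev
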