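import Mathlib
import Cfsg.Prelude.Def_ChevStructure
import Cfsg.Agent.Lib.H29.ChevStR1
import Cfsg.Agent.Lib.H29.ChevStM

/-!
# Steinberg's presentation: over a finite field the relations (R3) follow from (R1), (R2)
-/

set_option autoImplicit false
set_option linter.unusedSectionVars false
set_option linter.unusedSimpArgs false
set_option linter.unusedVariables false

namespace Cfsg.Agent.Lib.H29.Chev

open Cfsg.Lie Matrix

variable {D : ChevalleyDatum} {fd : FD} {fx : FX} {fc : FC} {fz : FZ}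

namespace Cert12

variable {F : Type*} [Field F] (C : Cert12 D fd fx fc fz)
include C

theorem hE_val (r : ℕ) (hr : r < fd.n) (t : F) :
    ((C.nE r t * C.nE r (-1) : GL D.Idx F) : Matrix D.Idx D.Idx F) = D.hMat F r t := by
  rw [Units.val_mul, C.nE_val r hr, C.nE_val r hr, ← hMat_mul C.c6.c2.agrees]

/-- `h_r(t) x_s(v) h_r(t)⁻¹ = x_s(t^{⟨s, r⟩} v)` -/
theorem hE_conj (r s : ℕ) (hr : r < fd.n) (hs : s < fd.n) (t : F) (ht : t ≠ 0) (v : F) :
    (C.nE r t * C.nE r (-1)) * C.c6.c2.xA s v * (C.nE r t * C.nE r (-1))⁻¹ =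
      C.c6.c2.xA s (t ^ (fd.pr s r) * v) := by
  apply gl_conj_eq
  rw [C.hE_val r hr t, C.c6.c2.xA_val, C.c6.c2.xA_val]
  exact C.c6.c2.hMat_mul_x r s hr hs t ht v

/-- `n_r(t) x_r(u) n_r(t)⁻¹ = x_{-r}(-t⁻² u)` -/
theorem nE_conj_self (r : ℕ) (hr : r < fd.n) (t : F) (ht : t ≠ 0) (u : F) :
    C.nE r t * C.c6.c2.xA r u * (C.nE r t)⁻¹ = C.c6.c2.xA (fd.n - 1 - r) (-(t⁻¹ * t⁻¹) * u) := by
  have hev := C.c6.c2.heven
  obtain ⟨h1, h2, h3⟩ := fd.neg_spec C.c6.c2.neg r hr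
  have e1 := C.c6.c2.nG_conj_x (F := F) r r hr hr h3 u
  rw [h1, h2] at e1
  have hH := C.nE_mul_mem_diag r hr t ht
  have e2 : ∀ v, (C.nE r t * C.nE r (-1)) * C.c6.c2.xA r v * (C.nE r t * C.nE r (-1))⁻¹ =
      C.c6.c2.xA r (t ^ (2 : ℤ) * v) := by
    intro v
    rw [C.hE_conj r r hr hr t ht v, C.c6.c2.pr_self r hr]
  have e3 := C.negC_of_diag _ hH r r hr hr _ e2
  rw [C.nE_eq r hr t]
  have : C.nE r t * C.nE r (-1) * C.c6.c2.nG r hr * C.c6.c2.xA r u * (C.nE r t * C.nE r (-1) * C.c6.c2.nG r hr)⁻¹ =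
      (C.nE r t * C.nE r (-1)) * (C.c6.c2.nG r hr * C.c6.c2.xA r u * (C.c6.c2.nG r hr)⁻¹) *
        (C.nE r t * C.nE r (-1))⁻¹ := by group
  rw [this, e1, e3]
  congr 1
  rw [zpow_two, _root_.mul_inv]
  push_cast
  ring

/-- `n_r(t) x_{-r}(u) n_r(t)⁻¹ = x_r(-t² u)` -/
theorem nE_conj_negself (r : ℕ) (hr : r < fd.n) (t : F) (ht : t ≠ 0) (u : F) :
    C.nE r t * C.c6.c2.xA (fd.n - 1 - r) u * (C.nE r t)⁻¹ = C.c6.c2.xA r (-(t * t) * u) := by
  have hev := C.c6.c2.heven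
  have e := C.negC_of_mem _ (C.nE_mem_monomial r hr t ht) r (fd.n - 1 - r) hr (by omega) _
    (C.nE_conj_self r hr t ht) u
  rw [show fd.n - 1 - (fd.n - 1 - r) = r by omega] at e
  rw [e]
  congr 1
  rw [inv_neg, _root_.mul_inv, inv_inv]

end Cert12

namespace StG

variable {C : Cert12 D fd fx fc fz} {F : Type*} [Field F] {M : Type*} [Group M] (S : StG C F M)
variable {wit : List (ℕ × ℕ)}

/-- the root elements of a fundamental root and its negative satisfy the hypotheses of the rank one computation -/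
theorem rk1_ax (hst : fd.ChkSt fx wit) (i : ℕ) (hi : i < fd.l) :
    Rk1.Ax (S.y (fd.simples.getD i 0)) (S.y (fd.n - 1 - fd.simples.getD i 0)) := by
  have hev := C.c6.c2.heven
  have hp := C.c6.c2.simple_lt i hi
  have hq : fd.n - 1 - fd.simples.getD i 0 < fd.n := by omega
  refine ⟨fun a b => S.y_add _ hp a b, fun a b => S.y_add _ hq a b, ?_, ?_⟩
  · intro t ht u
    have hL := S.lift_nb hst i hi t ht
    exact hL _ _ hp hq _ (by rw [S.θ_nb _ hp]; exact C.nE_conj_self _ hp t ht) u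
  · intro t ht u
    have hL := S.lift_nb hst i hi t ht
    exact hL _ _ hq hp _ (by rw [S.θ_nb _ hp]; exact C.nE_conj_negself _ hp t ht) u

theorem hb_one' (r : ℕ) (hr : r < fd.n) : S.hb r (1 : F) = 1 := by
  unfold hb
  rw [← S.nb_inv r hr, mul_inv_cancel]

/-- the defects of multiplicativity are central -/
theorem f_central (hst : fd.ChkSt fx wit) (r : ℕ) (hr : r < fd.n) (t u : F) (ht : t ≠ 0) (hu : u ≠ 0) (g : M) :
    g * (S.hb r t * S.hb r u * (S.hb r (t * u))⁻¹) = (S.hb r t * S.hb r u * (S.hb r (t * u))⁻¹) * g := by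
  have hθ : S.θ (S.hb r t * S.hb r u * (S.hb r (t * u))⁻¹) = 1 := by
    rw [map_mul, map_mul, map_inv, S.θ_hb r hr, S.θ_hb r hr, S.θ_hb r hr]
    have e : ∀ c : F, c ≠ 0 → ((C.nE r c * C.nE r (-1) : GL D.Idx F) : Matrix D.Idx D.Idx F) =
        Td (hExp D fd fx r) c := by
      intro c hc
      rw [C.hE_val r hr c, C.c6.c2.hMat_eq r hr c hc]
    have e3 : (C.nE r t * C.nE r (-1)) * (C.nE r u * C.nE r (-1)) = C.nE r (t * u) * C.nE r (-1) := by
      apply gl_ext
      rw [Units.val_mul, e t ht, e u hu, e _ (mul_ne_zero ht hu), Td_mul_param]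
    rw [e3, mul_inv_cancel]
  exact ((S.ker_spec hst _ hθ).2 g).symm

/-- the relations (R3) for a fundamental root -/
theorem R3_simple [Finite F] (hst : fd.ChkSt fx wit) (i : ℕ) (hi : i < fd.l) (t u : F) (ht : t ≠ 0) (hu : u ≠ 0) :
    S.hb (fd.simples.getD i 0) t * S.hb (fd.simples.getD i 0) u = S.hb (fd.simples.getD i 0) (t * u) := by
  have hp := C.c6.c2.simple_lt i hi
  exact Rk1.h_mul (S.rk1_ax hst i hi) (fun t u ht hu g => S.f_central hst _ hp t u ht hu g) t u ht hu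

/-- transfer of the relations (R3) along a conjugation -/
theorem R3_transfer (m : M) (hL : S.Lift m) (hM : S.θ m ∈ D.monomialSubgroup F) (s s' : ℕ) (hs : s < fd.n)
    (hs' : s' < fd.n) (c : F) (hc : ∀ u, S.θ m * C.c6.c2.xA s u * (S.θ m)⁻¹ = C.c6.c2.xA s' (c * u))
    (h3 : ∀ t u : F, t ≠ 0 → u ≠ 0 → S.hb s t * S.hb s u = S.hb s (t * u)) :
    ∀ t u : F, t ≠ 0 → u ≠ 0 → S.hb s' t * S.hb s' u = S.hb s' (t * u) := by
  have hc0 := C.conj_const_ne _ s s' hs c hc
  have hcn := S.conj_nb_of_lift m hL hM s s' hs hs' c hc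
  -- (E)
  have hE : ∀ t : F, m * S.hb s t * m⁻¹ = S.hb s' (c * t) * (S.hb s' c)⁻¹ := by
    intro t
    have : m * S.hb s t * m⁻¹ = (m * S.nb s t * m⁻¹) * (m * S.nb s (-1) * m⁻¹) := by
      unfold hb; group
    rw [this, hcn, hcn, S.nb_mul_nb s' hs', mul_neg, mul_one, neg_neg]
  have hinv : (S.hb s c⁻¹)⁻¹ = S.hb s c := by
    apply inv_eq_of_mul_eq_one_left
    rw [h3 c c⁻¹ hc0 (inv_ne_zero hc0), mul_inv_cancel₀ hc0, S.hb_one' s hs]
  have hcc : S.hb s' c = m * S.hb s c * m⁻¹ := by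
    have := hE c⁻¹
    rw [mul_inv_cancel₀ hc0, S.hb_one' s' hs', one_mul] at this
    rw [← hinv, ← _root_.inv_inj, ← this]
    group
  have key : ∀ u : F, u ≠ 0 → S.hb s' u = m * S.hb s u * m⁻¹ := by
    intro u hu
    have := hE (c⁻¹ * u)
    rw [← mul_assoc, mul_inv_cancel₀ hc0, one_mul] at this
    have e : S.hb s' u = (m * S.hb s (c⁻¹ * u) * m⁻¹) * S.hb s' c := by
      rw [this]; group
    rw [e, hcc]
    have : m * S.hb s (c⁻¹ * u) * m⁻¹ * (m * S.hb s c * m⁻¹) = m * (S.hb s (c⁻¹ * u) * S.hb s c) * m⁻¹ := by group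
    rw [this, h3 _ _ (mul_ne_zero (inv_ne_zero hc0) hu) hc0]
    congr 3
    field_simp
  intro t u ht hu
  rw [key t ht, key u hu, key _ (mul_ne_zero ht hu), ← h3 t u ht hu]
  group

/-- over a finite field the relations (R3) hold -/
theorem R3_of_finite [Finite F] (hst : fd.ChkSt fx wit) : S.R3 := by
  have hev := C.c6.c2.heven
  -- transfer along a fundamental reflection
  have step : ∀ j, j < fd.l → ∀ s, s < fd.n →
      (∀ t u : F, t ≠ 0 → u ≠ 0 → S.hb s t * S.hb s u = S.hb s (t * u)) →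
      ∀ t u : F, t ≠ 0 → u ≠ 0 → S.hb (fd.sw fx j s) t * S.hb (fd.sw fx j s) u = S.hb (fd.sw fx j s) (t * u) := by
    intro j hj s hs h3
    have hp := C.c6.c2.simple_lt j hj
    obtain ⟨h1, _, c₀, hc₀⟩ := C.perm_nE j hj (1 : F) one_ne_zero s hs
    have hL := S.lift_nb hst j hj (1 : F) one_ne_zero
    have hM : S.θ (S.nb (fd.simples.getD j 0) (1 : F)) ∈ D.monomialSubgroup F := by
      rw [S.θ_nb _ hp]
      exact C.nE_mem_monomial _ hp 1 one_ne_zero
    exact S.R3_transfer _ hL hM s _ hs h1 c₀ (by rw [S.θ_nb _ hp]; exact hc₀) h3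
  have main : ∀ m : ℕ, ∀ r, ∀ hr : r < fd.n, fd.n / 2 ≤ r → (fd.coH r).toNat = m →
      (∀ t u : F, t ≠ 0 → u ≠ 0 → S.hb r t * S.hb r u = S.hb r (t * u)) ∧
      (∀ t u : F, t ≠ 0 → u ≠ 0 → S.hb (fd.n - 1 - r) t * S.hb (fd.n - 1 - r) u = S.hb (fd.n - 1 - r) (t * u)) := by
    intro m
    induction m using Nat.strong_induction_on with
    | _ m ih =>
      intro r hr hpos hm
      obtain ⟨_, hdesc⟩ := fd.desc_spec C.c6.desc r hr
      rcases hdesc hpos with ⟨j, hj, hjr⟩ | ⟨j, hj, hc, hpr, hpos'⟩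
      · have hp := C.c6.c2.simple_lt j hj
        have e : fd.sw fx j r = fd.n - 1 - r := by
          rw [← hjr]
          exact (fd.neg_spec C.c6.c2.neg _ hp).1
        have h3 : ∀ t u : F, t ≠ 0 → u ≠ 0 → S.hb r t * S.hb r u = S.hb r (t * u) := by
          rw [← hjr]
          exact S.R3_simple hst j hj
        refine ⟨h3, ?_⟩
        rw [← e]
        exact step j hj r hr h3
      · have hp := C.c6.c2.simple_lt j hj
        have hw : fd.sw fx j r < fd.n := C.sw_lt j r hj hr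
        have hH := C.c6.coH_nw j r hj hr
        have hH0 := C.c6.coH_nonneg _ hw hpos'
        have hlt : (fd.coH (fd.sw fx j r)).toNat < m := by
          rw [← hm]
          apply (Int.toNat_lt_toNat (by unfold FD.sw at hH0; linarith)).mpr
          unfold FD.sw
          linarith
        obtain ⟨IH1, IH2⟩ := ih _ hlt (fd.sw fx j r) hw hpos' rfl
        constructor
        · have := step j hj _ hw IH1
          rwa [C.sw_sw j r hj hr] at this
        · have e : fd.sw fx j (fd.n - 1 - fd.sw fx j r) = fd.n - 1 - r := by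
            rw [C.sw_neg j _ hj hw, C.sw_sw j r hj hr]
          have := step j hj _ (by omega) IH2
          rwa [e] at this
  intro r hr t₁ t₂ ht₁ ht₂
  by_cases hpos : fd.n / 2 ≤ r
  · exact (main _ r hr hpos rfl).1 t₁ t₂ ht₁ ht₂
  · have := (main _ (fd.n - 1 - r) (by omega) (by omega) rfl).2 t₁ t₂ ht₁ ht₂
    rwa [show fd.n - 1 - (fd.n - 1 - r) = r by omega] at this

end StG

end Cfsg.Agent.Lib.H29.Chev
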