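import Mathlib
import Cfsg.Prelude.Def_ChevStructure
import Cfsg.Agent.Lib.H29.ChevAut1
import Cfsg.Agent.Lib.H29.ChevStR3

/-! Automorphisms of Chevalley groups, part 2: an automorphism preserving `B` permutes the minimal
parabolic subgroups; `V ∩ P_j = X_{-α_j}`. -/

set_option autoImplicit false
set_option linter.unusedSimpArgs false
set_option linter.unusedVariables false

namespace Cfsg.Agent.Lib.H29.Chev

open Cfsg.Lie Matrix

section BNabs

open Cfsg.Agent.Lib.H2.BN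

variable {G : Type*} [Group G] (P : Cfsg.BNPair G)

theorem parabolic_singleton_le {s : G} (M : Subgroup G) (hB : P.B ≤ M) (hs : s ∈ M) : P.parabolic {s} ≤ M := by
  unfold Cfsg.BNPair.parabolic
  apply sup_le hB
  rw [Subgroup.closure_le]
  intro x hx
  rw [Set.mem_singleton_iff] at hx
  rw [hx]
  exact hs

theorem exists_parabolic_le_map (ψ : G ≃* G) (hψ : ∀ g, g ∈ P.B ↔ ψ g ∈ P.B) {s : G} (hs : s ∈ P.S) :
    ∃ s' ∈ P.S, ∀ g, g ∈ P.parabolic {s'} → ψ.symm g ∈ P.parabolic {s} := by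
  set M : Subgroup G := (P.parabolic {s}).comap ψ.symm.toMonoidHom with hM
  have hBM : P.B ≤ M := by
    intro b hb
    rw [hM, Subgroup.mem_comap]
    have : ψ.symm b ∈ P.B := by
      rw [hψ]
      simpa using hb
    exact (le_sup_left : P.B ≤ P.parabolic {s}) this
  have key := eq_parabolic_of_le (P := P) M hBM
  by_cases hex : ∃ s' ∈ P.S, s' ∈ M
  · obtain ⟨s', hs', hs'M⟩ := hex
    refine ⟨s', hs', fun g hg => ?_⟩
    have := parabolic_singleton_le P M hBM hs'M hg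
    rwa [hM, Subgroup.mem_comap] at this
  · exfalso
    have hempty : {t | t ∈ P.S ∧ t ∈ M} = (∅ : Set G) := by
      ext t
      simp only [Set.mem_setOf_eq, Set.mem_empty_iff_false, iff_false]
      rintro ⟨h1, h2⟩
      exact hex ⟨t, h1, h2⟩
    rw [hempty] at key
    have hMB : M = P.B := by
      rw [key]
      unfold Cfsg.BNPair.parabolic
      rw [Subgroup.closure_empty, sup_bot_eq]
    have h1 : ψ s ∈ M := by
      rw [hM, Subgroup.mem_comap]
      show ψ.symm (ψ s) ∈ P.parabolic {s}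
      rw [MulEquiv.symm_apply_apply]
      exact (le_sup_right : Subgroup.closure {s} ≤ P.parabolic {s}) (Subgroup.subset_closure rfl)
    rw [hMB, ← hψ] at h1
    exact S_not_mem_B (P := P) hs h1

theorem map_parabolic_singleton (ψ : G ≃* G) (hψ : ∀ g, g ∈ P.B ↔ ψ g ∈ P.B) {s : G} (hs : s ∈ P.S) :
    ∃ s' ∈ P.S, ∀ g, g ∈ P.parabolic {s} ↔ ψ g ∈ P.parabolic {s'} := by
  obtain ⟨s', hs', h1⟩ := exists_parabolic_le_map P ψ hψ hs
  have hψ' : ∀ g, g ∈ P.B ↔ ψ.symm g ∈ P.B := by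
    intro g
    rw [hψ (ψ.symm g), MulEquiv.apply_symm_apply]
  obtain ⟨s'', hs'', h2⟩ := exists_parabolic_le_map P ψ.symm hψ' hs'
  have h3 : s'' ∈ P.parabolic {s} := by
    have h4 := h2 s'' ((le_sup_right : Subgroup.closure {s''} ≤ P.parabolic {s''}) (Subgroup.subset_closure rfl))
    have h5 := h1 _ h4
    simpa using h5
  have h6 : s'' ∈ ({s} : Set G) :=
    mem_of_mem_parabolic (P := P) (Set.singleton_subset_iff.mpr hs) hs'' h3
  rw [Set.mem_singleton_iff] at h6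
  subst h6
  refine ⟨s', hs', fun g => ⟨fun hg => ?_, fun hg => ?_⟩⟩
  · have := h2 g hg
    simpa using this
  · have := h1 _ hg
    simpa using this

end BNabs

variable {D : ChevalleyDatum} {fd : FD} {fx : FX} {fc : FC} {fz : FZ} {F : Type*} [Field F]

namespace Cert12

variable (C : Cert12 D fd fx fc fz)
include C

/-- the root element as an element of the Chevalley group -/
noncomputable def xg (r : ℕ) (t : F) : ↥(D.group F) := ⟨C.c6.c2.xA r t, C.c6.c2.xA_mem_group r t⟩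

theorem xg_val (r : ℕ) (t : F) : ((C.xg r t : ↥(D.group F)) : GL D.Idx F) = C.c6.c2.xA r t := rfl

/-- the fundamental reflection representatives as elements of the Chevalley group -/
noncomputable def sg (i : ℕ) (hi : i < fd.l) : ↥(D.group F) :=
  ⟨C.c6.c2.nG (fd.simples.getD i 0) (C.c6.c2.simple_lt i hi), C.c6.c2.monomial_le_group (C.c6.c2.nG_mem_monomial _ _)⟩

theorem sg_mem_S (i : ℕ) (hi : i < fd.l) : C.sg (F := F) i hi ∈ (C.c6.bnPair F).S :=
  C.c6.nG_mem_SSet i hi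

theorem exists_sg_of_mem_S (s : ↥(D.group F)) (hs : s ∈ (C.c6.bnPair F).S) :
    ∃ i, ∃ hi : i < fd.l, s = C.sg i hi := by
  obtain ⟨i, hi, h⟩ := C.c6.eq_nG_of_SSet (s : GL D.Idx F) hs
  exact ⟨i, hi, Subtype.ext h⟩

/-- conjugation by an element of `H` rescales root elements -/
theorem diag_conj_xA' (k : GL D.Idx F) (hk : k ∈ D.diagonalSubgroup F) (s : ℕ) (hs : s < fd.n) :
    ∃ c : F, ∀ t, k * C.c6.c2.xA s t * k⁻¹ = C.c6.c2.xA s (c * t) := by
  obtain ⟨_, _, c, hc⟩ := C.c6.perm_diag k hk s hs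
  exact ⟨c, hc⟩

/-- `V ∩ (B ∪ B n_j B) ⊆ X_{-α_j}`, abstract version -/
theorem neg_inf_minimal_aux (α : ℕ) (hp : α < fd.n) (hpos : fd.n / 2 ≤ α) (s : GL D.Idx F)
    (hsdef : s = C.c6.c2.nG α hp)
    (v b' k : GL D.Idx F) (hv : v ∈ D.negUnipotent F) (hb'B : b' ∈ D.borelSubgroup F)
    (hk : k ∈ D.diagonalSubgroup F) (t : F)
    (e1 : v = b' * C.c6.c2.xA (fd.n - 1 - α) (-t) * s * k) :
    ∃ t : F, v = C.c6.c2.xA (fd.n - 1 - α) t := by
  have hev := C.c6.c2.heven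
  have hBV : ∀ g, g ∈ D.borelSubgroup F → g ∈ D.negUnipotent F → g = 1 := by
    intro g h1 h2
    have : g ∈ D.borelSubgroup F ⊓ D.negUnipotent F := ⟨h1, h2⟩
    rwa [C.c6.c2.borel_inf_neg, Subgroup.mem_bot] at this
  have hkV : ∀ w ∈ D.negUnipotent F, k⁻¹ * w * k ∈ D.negUnipotent F := by
    intro w hw
    have := (Subgroup.mem_normalizer_iff.mp (C.c6.c2.diag_le_normalizer_neg (inv_mem hk)) w).mp hw
    simpa using this
  by_cases ht : t = 0
  · exfalso
    rw [ht, neg_zero, C.c6.c2.xA_zero, mul_one] at e1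
    have e2 : s = b'⁻¹ * v * k⁻¹ := by rw [e1]; group
    have e3 := C.nE_conj_negself α hp (1 : F) one_ne_zero (1 : F)
    rw [C.nE_one α hp, ← hsdef] at e3
    have hy : C.c6.c2.xA (fd.n - 1 - α) (1 : F) ∈ D.negUnipotent F := C.xA_neg_mem _ (by omega) (by omega) _
    generalize C.c6.c2.xA (fd.n - 1 - α) (1 : F) = y at e3 hy
    generalize hz : C.c6.c2.xA α (-(1 * 1) * 1 : F) = z at e3
    have e4 : v * (k⁻¹ * y * k) * v⁻¹ = b' * z * b'⁻¹ := by
      rw [← e3, e2]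
      group
    have h5 : v * (k⁻¹ * y * k) * v⁻¹ ∈ D.negUnipotent F :=
      mul_mem (mul_mem hv (hkV _ hy)) (inv_mem hv)
    have h6 : b' * z * b'⁻¹ ∈ D.borelSubgroup F := by
      rw [← hz]
      exact mul_mem (mul_mem hb'B (C.c6.xA_pos_mem_borel _ hp hpos _)) (inv_mem hb'B)
    rw [e4] at h5
    have h7 := hBV _ h6 h5
    have h8 : z = 1 := by
      have : z = b'⁻¹ * (b' * z * b'⁻¹) * b' := by group
      rw [this, h7]
      group
    rw [← hz] at h8
    have := C.c6.xA_eq_one α hp _ h8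
    norm_num at this
  · have hnt : -t ≠ 0 := neg_ne_zero.mpr ht
    obtain ⟨k₁, hk₁, e5⟩ := C.c6.xA_neg_eq (F := F) α hp (-t) hnt
    have hss : s * s ∈ D.diagonalSubgroup F := by rw [hsdef]; exact C.c6.nG_sq_mem_diag _ hp
    have hx2 := C.c6.nG_conj_self (F := F) α hp (-t)⁻¹
    rw [← hsdef] at hx2 e5
    have hb''B : b' * C.c6.c2.xA α (-t)⁻¹ * k₁ ∈ D.borelSubgroup F :=
      mul_mem (mul_mem hb'B (C.c6.xA_pos_mem_borel _ hp hpos _)) (C.c6.diag_le_borel hk₁)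
    have hh''H : s * s * k ∈ D.diagonalSubgroup F := mul_mem hss hk
    obtain ⟨c, hc⟩ := C.diag_conj_xA' (s * s * k)⁻¹ (inv_mem hh''H) (fd.n - 1 - α) (by omega)
    have hc' := hc (-(-t)⁻¹)
    have hw : C.c6.c2.xA (fd.n - 1 - α) (c * -(-t)⁻¹) ∈ D.negUnipotent F :=
      C.xA_neg_mem _ (by omega) (by omega) _
    rw [e5] at e1
    refine ⟨c * -(-t)⁻¹, ?_⟩
    generalize C.c6.c2.xA (fd.n - 1 - α) (-(-t)⁻¹) = y at hx2 hc'
    generalize C.c6.c2.xA (fd.n - 1 - α) (c * -(-t)⁻¹) = w at hc' hw ⊢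
    generalize C.c6.c2.xA α (-t)⁻¹ = x at hx2 e1 hb''B
    have e6 : v = (b' * x * k₁) * y * (s * s * k) := by
      rw [e1, ← hx2]
      group
    generalize s * s * k = h'' at hc' e6 hh''H
    have e7 : (b' * x * k₁) * h'' = v * w⁻¹ := by
      rw [e6, ← hc']
      group
    have h9 : (b' * x * k₁) * h'' ∈ D.borelSubgroup F := mul_mem hb''B (C.c6.diag_le_borel hh''H)
    have h10 : v * w⁻¹ ∈ D.negUnipotent F := mul_mem hv (inv_mem hw)
    rw [← e7] at h10
    have h11 := hBV _ h9 h10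
    rw [h11] at e7
    have : v = (v * w⁻¹) * w := by group
    rw [this, ← e7, one_mul]

/-- `V ∩ (B ∪ B n_j B) ⊆ X_{-α_j}` -/
theorem neg_inf_minimal (j : ℕ) (hj : j < fd.l) (v : GL D.Idx F) (hv : v ∈ D.negUnipotent F)
    (hP : v ∈ (D.borelSubgroup F : Set (GL D.Idx F)) ∪
      DoubleCoset.doubleCoset (C.c6.c2.nG (fd.simples.getD j 0) (C.c6.c2.simple_lt j hj))
        (D.borelSubgroup F : Set (GL D.Idx F)) (D.borelSubgroup F)) :
    ∃ t : F, v = C.c6.c2.xA (fd.n - 1 - fd.simples.getD j 0) t := by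
  have hp := C.c6.c2.simple_lt j hj
  rcases hP with hP | hP
  · have : v ∈ D.borelSubgroup F ⊓ D.negUnipotent F := ⟨hP, hv⟩
    rw [C.c6.c2.borel_inf_neg, Subgroup.mem_bot] at this
    exact ⟨0, by rw [this, C.c6.c2.xA_zero]⟩
  · rw [DoubleCoset.mem_doubleCoset] at hP
    obtain ⟨b₁, hb₁, b₂, hb₂, e⟩ := hP
    obtain ⟨u, hu, k, hk, rfl⟩ := C.c6.c2.borel_mem b₂ hb₂
    obtain ⟨u', hu', t, rfl⟩ := C.c6.pos_mem_Up_mul j hj u hu
    have hu'' := (Subgroup.mem_normalizer_iff.mp (C.c6.nG_mem_normalizer_Up j hj) u').mp hu'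
    have hx := C.c6.nG_conj_self (F := F) (fd.simples.getD j 0) hp t
    refine C.neg_inf_minimal_aux (fd.simples.getD j 0) hp (C.c6.simple_pos j hj) _ rfl v
      (b₁ * (C.c6.c2.nG (fd.simples.getD j 0) hp * u' * (C.c6.c2.nG (fd.simples.getD j 0) hp)⁻¹)) k hv
      (mul_mem hb₁ (C.c6.Up_le_borel _ hu'')) hk t ?_
    rw [e, ← hx]
    group

omit C in
theorem normalizer_iff_of_iff {G : Type*} [Group G] (θ : G ≃* G) (K : Subgroup G)
    (hK : ∀ g, g ∈ K ↔ θ g ∈ K) (g : G) :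
    g ∈ Subgroup.normalizer (K : Set G) ↔ θ g ∈ Subgroup.normalizer (K : Set G) := by
  rw [Subgroup.mem_normalizer_iff, Subgroup.mem_normalizer_iff]
  constructor
  · intro h y
    obtain ⟨x, rfl⟩ := θ.surjective y
    rw [← hK, h x, hK, map_mul, map_mul, map_inv]
  · intro h x
    rw [hK x, h (θ x), hK (g * x * g⁻¹), map_mul, map_mul, map_inv]

/-- an automorphism preserving `U` preserves `B` -/
theorem B1_iff_of_U1 (θ : ↥(D.group F) ≃* ↥(D.group F)) (hU : ∀ g, g ∈ U1 D F ↔ θ g ∈ U1 D F)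
    (g : ↥(D.group F)) : g ∈ B1 D F ↔ θ g ∈ B1 D F := by
  have := normalizer_iff_of_iff θ (U1 D F) hU g
  rwa [C.normalizer_U1] at this

/-- an automorphism preserving `U` and `V` maps negative fundamental root subgroups to such -/
theorem std_neg_simple (θ : ↥(D.group F) ≃* ↥(D.group F)) (hU : ∀ g, g ∈ U1 D F ↔ θ g ∈ U1 D F)
    (hV : ∀ g, g ∈ V1 D F ↔ θ g ∈ V1 D F) (i : ℕ) (hi : i < fd.l) :
    ∃ j, ∃ hj : j < fd.l, ∀ t : F, ∃ t' : F,
      θ (C.xg (fd.n - 1 - fd.simples.getD i 0) t) = C.xg (fd.n - 1 - fd.simples.getD j 0) t' := by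
  have hB : ∀ g, g ∈ (C.c6.bnPair F).B ↔ θ g ∈ (C.c6.bnPair F).B := C.B1_iff_of_U1 θ hU
  obtain ⟨s', hs', hpar⟩ := map_parabolic_singleton (C.c6.bnPair F) θ hB (C.sg_mem_S i hi)
  obtain ⟨j, hj, rfl⟩ := C.exists_sg_of_mem_S s' hs'
  refine ⟨j, hj, fun t => ?_⟩
  have hp := C.c6.c2.simple_lt i hi
  have hev := C.c6.c2.heven
  have hpos := C.c6.simple_pos i hi
  -- `x_{-α_i}(t) ∈ P_i`
  have h1 : C.xg (F := F) (fd.n - 1 - fd.simples.getD i 0) t ∈ (C.c6.bnPair F).parabolic {C.sg i hi} := by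
    have hx := C.c6.nG_conj_self (F := F) (fd.simples.getD i 0) hp (-t)
    rw [neg_neg] at hx
    have e : C.xg (F := F) (fd.n - 1 - fd.simples.getD i 0) t =
        C.sg i hi * C.xg (fd.simples.getD i 0) (-t) * (C.sg i hi)⁻¹ := by
      apply Subtype.ext
      exact hx.symm
    rw [e]
    have hs : C.sg (F := F) i hi ∈ (C.c6.bnPair F).parabolic {C.sg i hi} :=
      (le_sup_right : Subgroup.closure {C.sg i hi} ≤ _) (Subgroup.subset_closure rfl)
    have hb : C.xg (F := F) (fd.simples.getD i 0) (-t) ∈ (C.c6.bnPair F).parabolic {C.sg i hi} := by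
      apply (le_sup_left : (C.c6.bnPair F).B ≤ _)
      exact Subgroup.mem_subgroupOf.mpr (C.c6.xA_pos_mem_borel _ hp hpos _)
    exact mul_mem (mul_mem hs hb) (inv_mem hs)
  have h2 := (hpar _).mp h1
  have h3 : θ (C.xg (F := F) (fd.n - 1 - fd.simples.getD i 0) t) ∈ V1 D F := by
    rw [← hV]
    exact Subgroup.mem_subgroupOf.mpr (C.xA_neg_mem _ (by omega) (by omega) _)
  obtain ⟨Pm, hPm⟩ := C.c6.exists_minimal_parabolic (F := F) j hj
  have h4 : (C.c6.bnPair F).parabolic {C.sg j hj} ≤ Pm.subgroupOf (D.group F) := by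
    apply parabolic_singleton_le
    · intro b hb
      rw [Subgroup.mem_subgroupOf, ← SetLike.mem_coe, hPm]
      left
      exact Subgroup.mem_subgroupOf.mp hb
    · rw [Subgroup.mem_subgroupOf, ← SetLike.mem_coe, hPm]
      right
      rw [DoubleCoset.mem_doubleCoset]
      exact ⟨1, one_mem _, 1, one_mem _, by simp [Cert12.sg]⟩
  have h5 := h4 h2
  rw [Subgroup.mem_subgroupOf, ← SetLike.mem_coe, hPm] at h5
  obtain ⟨t', ht'⟩ := C.neg_inf_minimal j hj _ (Subgroup.mem_subgroupOf.mp h3) h5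
  exact ⟨t', Subtype.ext ht'⟩

end Cert12

end Cfsg.Agent.Lib.H29.Chev
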