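import Mathlib
import Cfsg.Prelude.Def_ChevStructure
import Cfsg.Agent.Lib.H29.ChevAut2
import Cfsg.Agent.Lib.H29.ChevFld1

/-! Automorphisms of Chevalley groups, part 3: every automorphism can be moved by an inner one
so that it preserves both `U` and `V`. -/

set_option autoImplicit false
set_option linter.unusedSimpArgs false
set_option linter.unusedVariables false

namespace Cfsg.Agent.Lib.H29.Chev

open Cfsg.Lie Matrix

/-- an automorphism mapping a finite subgroup into itself maps it onto itself -/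
theorem iff_of_forall_mem {G : Type*} [Group G] (ψ : G ≃* G) (K : Subgroup G) [Finite K]
    (h : ∀ g ∈ K, ψ g ∈ K) (g : G) : g ∈ K ↔ ψ g ∈ K := by
  refine ⟨h g, fun hg => ?_⟩
  have hle : K.map ψ.toMonoidHom ≤ K := by
    rintro _ ⟨k, hk, rfl⟩
    exact h k hk
  have hcard : Nat.card (K.map ψ.toMonoidHom) = Nat.card K :=
    Subgroup.card_map_of_injective ψ.injective
  have heq : K.map ψ.toMonoidHom = K := Subgroup.eq_of_le_of_card_ge hle (le_of_eq hcard.symm)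
  rw [← heq] at hg
  obtain ⟨k, hk, e⟩ := hg
  have : k = g := ψ.injective e
  rwa [← this]

variable {D : ChevalleyDatum} {fd : FD} {fx : FX} {fc : FC} {fz : FZ} {F : Type*} [Field F]

namespace Cert12

variable (C : Cert12 D fd fx fc fz)
include C

theorem borel_conj_pos (b u : GL D.Idx F) (hb : b ∈ D.borelSubgroup F) (hu : u ∈ D.posUnipotent F) :
    b * u * b⁻¹ ∈ D.posUnipotent F := by
  obtain ⟨u₁, hu₁, k, hk, rfl⟩ := C.c6.c2.borel_mem b hb
  have h1 : k * u * k⁻¹ ∈ D.posUnipotent F :=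
    (Subgroup.mem_normalizer_iff.mp (C.c6.c2.diag_le_normalizer_pos hk) u).mp hu
  have : u₁ * k * u * (u₁ * k)⁻¹ = u₁ * (k * u * k⁻¹) * u₁⁻¹ := by group
  rw [this]
  exact mul_mem (mul_mem hu₁ h1) (inv_mem hu₁)

theorem pos_inf_neg (g : GL D.Idx F) (h1 : g ∈ D.posUnipotent F) (h2 : g ∈ D.negUnipotent F) : g = 1 := by
  have : g ∈ D.borelSubgroup F ⊓ D.negUnipotent F := ⟨(le_sup_left : D.posUnipotent F ≤ _) h1, h2⟩
  rwa [C.c6.c2.borel_inf_neg, Subgroup.mem_bot] at this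

theorem neg_le_group' : D.negUnipotent F ≤ D.group F := by
  unfold ChevalleyDatum.negUnipotent
  rw [Subgroup.closure_le]
  rintro g ⟨r, t, hr, hg⟩
  have hgx : g = C.c6.c2.xA r t := gl_ext (by rw [hg, C.c6.c2.xA_val])
  rw [hgx]
  exact C.c6.c2.xA_mem_group r t

theorem card_V1 : Nat.card (V1 D F) = Nat.card (U1 D F) := by
  obtain ⟨n, hn, hmap⟩ := C.c6.c5.c3.exists_w0 (F := F)
  rw [C.card_U1, Nat.card_congr (Subgroup.subgroupOfEquivOfLe C.neg_le_group').toEquiv, ← hmap]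
  exact Subgroup.card_map_of_injective (MulAut.conj n).injective

/-- if `θ` preserves `U`, some `u ∈ U` conjugates `θ(V)` back to `V` -/
theorem exists_conj_V1 [Finite F] (p : ℕ) [hp : Fact p.Prime] [CharP F p]
    (θ : ↥(D.group F) ≃* ↥(D.group F)) (hU : ∀ g, g ∈ U1 D F ↔ θ g ∈ U1 D F) :
    ∃ u : ↥(D.group F), u ∈ U1 D F ∧ ∀ g ∈ V1 D F, u⁻¹ * θ g * u ∈ V1 D F := by
  have hev := C.c6.c2.heven
  have hK : Nat.card ((V1 D F).map θ.toMonoidHom) = Nat.card (U1 D F) := by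
    rw [Subgroup.card_map_of_injective θ.injective, C.card_V1]
  obtain ⟨x, hx⟩ := C.exists_conj_U1 p _ hK
  obtain ⟨b, hb, n, hn, u', hu', e⟩ := C.c6.canonical_form.1 ((x⁻¹ : ↥(D.group F)) : GL D.Idx F) (x⁻¹).property
  have hu'U : u' ∈ D.posUnipotent F := C.Uw_le_pos n hu'
  obtain ⟨π, hπ⟩ := (C.c6.perm_of_mem n hn).1
  have hxinv : ((x : ↥(D.group F)) : GL D.Idx F) = (b * n * u')⁻¹ := by
    rw [← e]
    simp
  -- elements `y u₀ y⁻¹`, `u₀ ∈ U`, lie in `θ(V)`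
  have hmemK : ∀ (z : ↥(D.group F)),
      (b * n * u')⁻¹ * (z : GL D.Idx F) * (b * n * u') ∈ D.posUnipotent F → ∃ v ∈ V1 D F, θ v = z := by
    intro z hz
    have : z ∈ (V1 D F).map θ.toMonoidHom := by
      rw [hx z, Subgroup.mem_subgroupOf]
      simp only [Subgroup.coe_mul, InvMemClass.coe_inv, hxinv, inv_inv]
      exact hz
    obtain ⟨v, hv, hvz⟩ := this
    exact ⟨v, hv, hvz⟩
  -- `n` maps positive roots to negative roots
  have hA : ∀ r, r < fd.n → fd.n / 2 ≤ r → π r < fd.n / 2 := by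
    intro r hr hpos
    by_contra hcon
    obtain ⟨h1, _, c, hc⟩ := hπ r hr
    have hw : C.c6.c2.xA (π r) (c * 1) ∈ D.posUnipotent F := C.xA_pos_mem _ h1 (by omega) _
    have hzU : b * C.c6.c2.xA (π r) (c * 1) * b⁻¹ ∈ D.posUnipotent F := C.borel_conj_pos b _ hb hw
    have hzG : b * C.c6.c2.xA (π r) (c * 1) * b⁻¹ ∈ D.group F := C.c6.c2.pos_le_group hzU
    obtain ⟨v, hv, hvz⟩ := hmemK ⟨_, hzG⟩ (by
      show (b * n * u')⁻¹ * (b * C.c6.c2.xA (π r) (c * 1) * b⁻¹) * (b * n * u') ∈ D.posUnipotent F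
      rw [← hc 1]
      have : (b * n * u')⁻¹ * (b * (n * C.c6.c2.xA r 1 * n⁻¹) * b⁻¹) * (b * n * u') =
          u'⁻¹ * C.c6.c2.xA r 1 * u' := by group
      rw [this]
      exact mul_mem (mul_mem (inv_mem hu'U) (C.xA_pos_mem _ hr hpos _)) hu'U)
    have hvU : v ∈ U1 D F := by
      rw [hU, hvz]
      exact Subgroup.mem_subgroupOf.mpr hzU
    have hv1 : v = 1 := by
      apply Subtype.ext
      exact C.pos_inf_neg _ (Subgroup.mem_subgroupOf.mp hvU) (Subgroup.mem_subgroupOf.mp hv)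
    rw [hv1, map_one] at hvz
    have hz1 : b * C.c6.c2.xA (π r) (c * 1) * b⁻¹ = 1 := by
      have := congrArg Subtype.val hvz
      exact this.symm
    have hw1 : C.c6.c2.xA (π r) (c * 1) = 1 := by
      have : C.c6.c2.xA (π r) (c * 1) = b⁻¹ * (b * C.c6.c2.xA (π r) (c * 1) * b⁻¹) * b := by group
      rw [this, hz1]
      group
    rw [← hc 1] at hw1
    have hx1 : C.c6.c2.xA r (1 : F) = 1 := by
      have : C.c6.c2.xA r (1 : F) = n⁻¹ * (n * C.c6.c2.xA r 1 * n⁻¹) * n := by group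
      rw [this, hw1]
      group
    have := C.c6.xA_eq_one r hr _ hx1
    exact one_ne_zero this
  -- `n U n⁻¹ ≤ V`
  have hB : ∀ u₀ ∈ D.posUnipotent F, n * u₀ * n⁻¹ ∈ D.negUnipotent F := by
    intro u₀ hu₀
    unfold ChevalleyDatum.posUnipotent at hu₀
    induction hu₀ using Subgroup.closure_induction with
    | mem y hy =>
      obtain ⟨r, t, hr, hy⟩ := hy
      obtain ⟨hr1, hr2⟩ := (C.c6.isPos_iff r).mp hr
      have hyx : y = C.c6.c2.xA r t := gl_ext (by rw [hy, C.c6.c2.xA_val])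
      obtain ⟨h1, _, c, hc⟩ := hπ r hr1
      rw [hyx, hc t]
      exact C.xA_neg_mem _ h1 (hA r hr1 hr2) _
    | one => simp
    | mul a b' _ _ ha hb' =>
      have : n * (a * b') * n⁻¹ = (n * a * n⁻¹) * (n * b' * n⁻¹) := by group
      rw [this]; exact mul_mem ha hb'
    | inv a _ ha =>
      have : n * a⁻¹ * n⁻¹ = (n * a * n⁻¹)⁻¹ := by group
      rw [this]; exact inv_mem ha
  obtain ⟨u, hu, k, hk, rfl⟩ := C.c6.c2.borel_mem b hb
  refine ⟨⟨u, C.c6.c2.pos_le_group hu⟩, Subgroup.mem_subgroupOf.mpr hu, fun g hg => ?_⟩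
  have h1 : θ g ∈ (V1 D F).map θ.toMonoidHom := ⟨g, hg, rfl⟩
  rw [hx, Subgroup.mem_subgroupOf] at h1
  simp only [Subgroup.coe_mul, InvMemClass.coe_inv, hxinv, inv_inv] at h1
  rw [Subgroup.mem_subgroupOf]
  simp only [Subgroup.coe_mul, InvMemClass.coe_inv]
  generalize ((θ g : ↥(D.group F)) : GL D.Idx F) = w at h1 ⊢
  have h2 := hB _ (mul_mem (mul_mem hu'U h1) (inv_mem hu'U))
  have h3 : k * (n * (u' * ((u * k * n * u')⁻¹ * w * (u * k * n * u')) * u'⁻¹) * n⁻¹) * k⁻¹ ∈ D.negUnipotent F :=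
    (Subgroup.mem_normalizer_iff.mp (C.c6.c2.diag_le_normalizer_neg hk) _).mp h2
  have : u⁻¹ * w * u = k * (n * (u' * ((u * k * n * u')⁻¹ * w * (u * k * n * u')) * u'⁻¹) * n⁻¹) * k⁻¹ := by
    group
  rw [this]
  exact h3

/-- every automorphism can be moved by an inner automorphism so as to preserve `U` and `V` -/
theorem exists_std [Finite F] (p : ℕ) [hp : Fact p.Prime] [CharP F p]
    (θ : ↥(D.group F) ≃* ↥(D.group F)) :
    ∃ x : ↥(D.group F), (∀ g, g ∈ U1 D F ↔ x * θ g * x⁻¹ ∈ U1 D F) ∧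
      (∀ g, g ∈ V1 D F ↔ x * θ g * x⁻¹ ∈ V1 D F) := by
  have hK : Nat.card ((U1 D F).map θ.toMonoidHom) = Nat.card (U1 D F) :=
    Subgroup.card_map_of_injective θ.injective
  obtain ⟨x₁, hx₁⟩ := C.exists_conj_U1 p _ hK
  have hfinU : Finite (U1 D F) := inferInstance
  have hfinV : Finite (V1 D F) := inferInstance
  have hU₁ : ∀ g, g ∈ U1 D F ↔ (θ.trans (MulAut.conj x₁)) g ∈ U1 D F := by
    apply iff_of_forall_mem
    intro g hg
    have : θ g ∈ (U1 D F).map θ.toMonoidHom := ⟨g, hg, rfl⟩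
    rw [hx₁] at this
    simpa [MulAut.conj_apply] using this
  obtain ⟨u, hu, huV⟩ := C.exists_conj_V1 p (θ.trans (MulAut.conj x₁)) hU₁
  refine ⟨u⁻¹ * x₁, ?_, ?_⟩
  · have : ∀ g, g ∈ U1 D F ↔ ((θ.trans (MulAut.conj x₁)).trans (MulAut.conj u⁻¹)) g ∈ U1 D F := by
      apply iff_of_forall_mem
      intro g hg
      have h1 := (hU₁ g).mp hg
      simp only [MulEquiv.trans_apply, MulAut.conj_apply, inv_inv] at h1 ⊢
      exact mul_mem (mul_mem (inv_mem hu) h1) hu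
    intro g
    rw [this g]
    simp only [MulEquiv.trans_apply, MulAut.conj_apply, inv_inv, _root_.mul_inv_rev, mul_assoc]
  · have : ∀ g, g ∈ V1 D F ↔ ((θ.trans (MulAut.conj x₁)).trans (MulAut.conj u⁻¹)) g ∈ V1 D F := by
      apply iff_of_forall_mem
      intro g hg
      have h1 := huV g hg
      simp only [MulEquiv.trans_apply, MulAut.conj_apply, inv_inv] at h1 ⊢
      exact h1
    intro g
    rw [this g]
    simp only [MulEquiv.trans_apply, MulAut.conj_apply, inv_inv, _root_.mul_inv_rev, mul_assoc]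

end Cert12

end Cfsg.Agent.Lib.H29.Chev
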