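import Mathlib
import Cfsg.Prelude.Def_ChevStructure
import Cfsg.Agent.Lib.H29.ChevAut3

/-! Automorphisms of Chevalley groups, part 4: an automorphism preserving `U` and `V` permutes the
fundamental root subgroups (and their negatives, in the same way); the rank one lemma. -/

set_option autoImplicit false
set_option linter.unusedSimpArgs false
set_option linter.unusedVariables false

namespace Cfsg.Agent.Lib.H29.Chev

open Cfsg.Lie Matrix

/-- an automorphism mapping a finite subgroup into another of the same order maps it onto it -/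
theorem iff_of_forall_mem' {G : Type*} [Group G] (ψ : G ≃* G) (K K' : Subgroup G) [Finite K']
    (hcard : Nat.card K = Nat.card K') (h : ∀ g ∈ K, ψ g ∈ K') (g : G) : g ∈ K ↔ ψ g ∈ K' := by
  refine ⟨h g, fun hg => ?_⟩
  have hle : K.map ψ.toMonoidHom ≤ K' := by
    rintro _ ⟨k, hk, rfl⟩
    exact h k hk
  have hc : Nat.card (K.map ψ.toMonoidHom) = Nat.card K' := by
    rw [Subgroup.card_map_of_injective ψ.injective, hcard]
  have heq : K.map ψ.toMonoidHom = K' := Subgroup.eq_of_le_of_card_ge hle (le_of_eq hc.symm)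
  rw [← heq] at hg
  obtain ⟨k, hk, e⟩ := hg
  have : k = g := ψ.injective e
  rwa [← this]

variable {D : ChevalleyDatum} {fd : FD} {fx : FX} {fc : FC} {fz : FZ} {F : Type*} [Field F]

namespace Cert12

variable (C : Cert12 D fd fx fc fz)
include C

theorem simple_inj (i j : ℕ) (hi : i < fd.l) (hj : j < fd.l)
    (h : fd.simples.getD i 0 = fd.simples.getD j 0) : i = j := by
  have h1 := C.rcZ_simple i i hi hi
  rw [h, C.rcZ_simple j i hj hi, if_pos rfl] at h1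
  by_contra hne
  rw [if_neg (Ne.symm hne)] at h1
  exact zero_ne_one h1

/-- `x_{α_i}` and `x_{-α_j}` commute for `i ≠ j` -/
theorem comm_simple_negsimple (i j : ℕ) (hi : i < fd.l) (hj : j < fd.l) (hij : i ≠ j) (t u : F) :
    C.c6.c2.xA (fd.simples.getD i 0) t * C.c6.c2.xA (fd.n - 1 - fd.simples.getD j 0) u =
      C.c6.c2.xA (fd.n - 1 - fd.simples.getD j 0) u * C.c6.c2.xA (fd.simples.getD i 0) t := by
  have hev := C.c6.c2.heven
  have hpi := C.c6.c2.simple_lt i hi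
  have hpj := C.c6.c2.simple_lt j hj
  have hposi := C.c6.simple_pos i hi
  have hposj := C.c6.simple_pos j hj
  have hne : fd.simples.getD i 0 ≠ fd.simples.getD j 0 := fun h => hij (C.simple_inj i j hi hj h)
  have hcf := C.c6.cfg (F := F) (fd.simples.getD i 0) (fd.n - 1 - fd.simples.getD j 0) hpi (by omega)
    (by omega) (by omega) t u
  have hnil : fd.commT (fd.simples.getD i 0) (fd.n - 1 - fd.simples.getD j 0) = [] := by
    rw [List.eq_nil_iff_forall_not_mem]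
    intro c hc
    obtain ⟨h1, h2, _⟩ := fd.linc_spec C.linc _ _ hpi (by omega) c hc
    obtain ⟨ha, hb⟩ := fd.commT_ij _ _ c hc
    have e1 := h2 i hi
    have e2 := h2 j hj
    rw [C.rcZ_simple i i hi hi, if_pos rfl, C.rcZ_neg _ i hpj hi, C.rcZ_simple j i hj hi,
      if_neg (Ne.symm hij)] at e1
    rw [C.rcZ_simple i j hi hj, if_neg hij, C.rcZ_neg _ j hpj hj, C.rcZ_simple j j hj hj, if_pos rfl] at e2
    by_cases hpos : fd.n / 2 ≤ c.1
    · have := C.rcZ_nonneg c.1 h1 hpos j hj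
      have hb' : (1 : ℤ) ≤ (c.2.2.2 : ℤ) := by exact_mod_cast hb
      omega
    · have := C.rcZ_nonpos c.1 h1 (by omega) i hi
      have ha' : (1 : ℤ) ≤ (c.2.2.1 : ℤ) := by exact_mod_cast ha
      omega
  rw [hnil] at hcf
  simp only [Cert2.ctG, List.map_nil, List.prod_nil, mul_one] at hcf
  exact hcf.symm

/-- `x_r(t)` and `x_{-r}(u)` do not commute for `t, u ≠ 0` -/
theorem not_comm_self_neg (r : ℕ) (hr : r < fd.n) (t u : F) (ht : t ≠ 0) (hu : u ≠ 0) :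
    C.c6.c2.xA r t * C.c6.c2.xA (fd.n - 1 - r) u ≠ C.c6.c2.xA (fd.n - 1 - r) u * C.c6.c2.xA r t := by
  have hev := C.c6.c2.heven
  intro h
  have hc : -u⁻¹ ≠ 0 := neg_ne_zero.mpr (inv_ne_zero hu)
  have e1 := C.nE_conj_self r hr (-u⁻¹) hc t
  have e2 : C.nE r (-u⁻¹) = C.c6.c2.xA r (-u⁻¹) * C.c6.c2.xA (fd.n - 1 - r) u * C.c6.c2.xA r (-u⁻¹) := by
    unfold Cert12.nE
    rw [inv_neg, inv_inv, neg_neg]
  have e3 : C.c6.c2.xA r t * C.c6.c2.xA r (-u⁻¹) = C.c6.c2.xA r (-u⁻¹) * C.c6.c2.xA r t := by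
    rw [C.c6.c2.xA_mul, C.c6.c2.xA_mul, add_comm]
  have e4 : C.nE r (-u⁻¹) * C.c6.c2.xA r t * (C.nE r (-u⁻¹))⁻¹ = C.c6.c2.xA r t := by
    rw [e2]
    generalize C.c6.c2.xA r (-u⁻¹) = a at e3 ⊢
    generalize C.c6.c2.xA r t = b at e3 h ⊢
    generalize C.c6.c2.xA (fd.n - 1 - r) u = c at h ⊢
    have : a * c * a * b = b * (a * c * a) := by
      calc a * c * a * b = a * c * (b * a) := by rw [e3]; group
        _ = a * (c * b) * a := by group
        _ = a * (b * c) * a := by rw [h]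
        _ = (b * a) * c * a := by rw [e3]; group
        _ = b * (a * c * a) := by group
    rw [this]
    group
  rw [e4] at e1
  have := C.xA_inj r (fd.n - 1 - r) hr (by omega) t _ ht e1
  omega

/-! ### the longest element -/

/-- the representative of the longest element -/
noncomputable def n0 : ↥(D.group F) :=
  ⟨C.c6.c5.c3.nW fx.w0, C.c6.c2.monomial_le_group (C.c6.c5.c3.nW_mem _)⟩

theorem n0_conj (s : ℕ) (hs : s < fd.n) :
    fd.wact fx fx.w0 s < fd.n ∧ ∃ ε : ℤ, ε * ε = 1 ∧ ∀ u : F,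
      C.n0 * C.xg s u * (C.n0)⁻¹ = C.xg (fd.wact fx fx.w0 s) ((ε : F) * u) := by
  obtain ⟨hw, _⟩ := fd.w0_spec C.c6.c2.w0
  obtain ⟨h1, ε, hε, h2⟩ := C.c6.c5.c3.nW_conj (F := F) fx.w0 hw s hs
  exact ⟨h1, ε, hε, fun u => Subtype.ext (h2 u)⟩

theorem w0_neg (s : ℕ) (hs : s < fd.n) :
    fd.wact fx fx.w0 (fd.n - 1 - s) = fd.n - 1 - fd.wact fx fx.w0 s := by
  have hev := C.c6.c2.heven
  obtain ⟨hw, _⟩ := fd.w0_spec C.c6.c2.w0
  obtain ⟨π, hπ⟩ := (C.c6.perm_of_mem (F := ℚ) _ (C.c6.c5.c3.nW_mem fx.w0)).1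
  have key : ∀ s < fd.n, π s = fd.wact fx fx.w0 s := by
    intro s hs
    obtain ⟨h1, _, c, hc⟩ := hπ s hs
    obtain ⟨h1', ε, hε, h2⟩ := C.c6.c5.c3.nW_conj (F := ℚ) fx.w0 hw s hs
    have e := (hc 1).symm.trans (h2 1)
    have hc0 : c * 1 ≠ 0 := by
      intro h0
      rw [h0, C.c6.c2.xA_zero] at e
      have := C.c6.xA_eq_one _ h1' _ e.symm
      have hε' : ((ε : ℚ)) * (ε : ℚ) = 1 := by exact_mod_cast congrArg (Int.cast (R := ℚ)) hε
      rw [mul_one] at this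
      rw [this, mul_zero] at hε'
      exact zero_ne_one hε'
    exact C.xA_inj _ _ h1 h1' _ _ hc0 e
  obtain ⟨_, h2, _⟩ := hπ s hs
  rw [key s hs, key _ (by omega)] at h2
  exact h2

theorem w0_neg_pos (s : ℕ) (hs : s < fd.n) (hneg : s < fd.n / 2) : fd.n / 2 ≤ fd.wact fx fx.w0 s := by
  have hev := C.c6.c2.heven
  obtain ⟨hw, hspec⟩ := fd.w0_spec C.c6.c2.w0
  have h1 := (hspec (fd.n - 1 - s) (by omega)).1 (by omega)
  have h2 := C.w0_neg (fd.n - 1 - s) (by omega)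
  have h3 : fd.n - 1 - (fd.n - 1 - s) = s := by omega
  rw [h3] at h2
  obtain ⟨hlt, _⟩ := C.c6.c5.c3.nW_conj (F := ℚ) fx.w0 hw (fd.n - 1 - s) (by omega)
  omega

theorem n0_conj_pos (u : ↥(D.group F)) (hu : u ∈ U1 D F) : C.n0 * u * (C.n0)⁻¹ ∈ V1 D F := by
  obtain ⟨hw, hspec⟩ := fd.w0_spec C.c6.c2.w0
  rw [Subgroup.mem_subgroupOf] at hu ⊢
  simp only [Subgroup.coe_mul, InvMemClass.coe_inv]
  generalize (u : GL D.Idx F) = u₀ at hu ⊢
  unfold ChevalleyDatum.posUnipotent at hu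
  induction hu using Subgroup.closure_induction with
  | mem y hy =>
    obtain ⟨r, t, hr, hy⟩ := hy
    obtain ⟨hr1, hr2⟩ := (C.c6.isPos_iff r).mp hr
    have hyx : y = C.c6.c2.xA r t := gl_ext (by rw [hy, C.c6.c2.xA_val])
    obtain ⟨h1, ε, hε, h2⟩ := C.c6.c5.c3.nW_conj (F := F) fx.w0 hw r hr1
    rw [hyx]
    show C.c6.c5.c3.nW fx.w0 * C.c6.c2.xA r t * (C.c6.c5.c3.nW fx.w0)⁻¹ ∈ D.negUnipotent F
    rw [h2 t]
    exact C.xA_neg_mem _ h1 ((hspec r hr1).1 hr2) _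
  | one => simp
  | mul a b' _ _ ha hb' =>
    have : (C.n0 (F := F) : GL D.Idx F) * (a * b') * (C.n0 (F := F) : GL D.Idx F)⁻¹ =
      ((C.n0 (F := F) : GL D.Idx F) * a * (C.n0 (F := F) : GL D.Idx F)⁻¹) *
        ((C.n0 (F := F) : GL D.Idx F) * b' * (C.n0 (F := F) : GL D.Idx F)⁻¹) := by group
    rw [this]; exact mul_mem ha hb'
  | inv a _ ha =>
    have : (C.n0 (F := F) : GL D.Idx F) * a⁻¹ * (C.n0 (F := F) : GL D.Idx F)⁻¹ =
      ((C.n0 (F := F) : GL D.Idx F) * a * (C.n0 (F := F) : GL D.Idx F)⁻¹)⁻¹ := by group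
    rw [this]; exact inv_mem ha

theorem n0_conj_neg (u : ↥(D.group F)) (hu : u ∈ V1 D F) : C.n0 * u * (C.n0)⁻¹ ∈ U1 D F := by
  obtain ⟨hw, hspec⟩ := fd.w0_spec C.c6.c2.w0
  rw [Subgroup.mem_subgroupOf] at hu ⊢
  simp only [Subgroup.coe_mul, InvMemClass.coe_inv]
  generalize (u : GL D.Idx F) = u₀ at hu ⊢
  unfold ChevalleyDatum.negUnipotent at hu
  induction hu using Subgroup.closure_induction with
  | mem y hy =>
    obtain ⟨r, t, hr, hy⟩ := hy
    obtain ⟨hr2, hr1⟩ := (isNeg_iff C.c6.c2.agrees C.c6.c2.lev r).mp hr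
    have hyx : y = C.c6.c2.xA r t := gl_ext (by rw [hy, C.c6.c2.xA_val])
    obtain ⟨h1, ε, hε, h2⟩ := C.c6.c5.c3.nW_conj (F := F) fx.w0 hw r hr1
    rw [hyx]
    show C.c6.c5.c3.nW fx.w0 * C.c6.c2.xA r t * (C.c6.c5.c3.nW fx.w0)⁻¹ ∈ D.posUnipotent F
    rw [h2 t]
    exact C.xA_pos_mem _ h1 (C.w0_neg_pos r hr1 hr2) _
  | one => simp
  | mul a b' _ _ ha hb' =>
    have : (C.n0 (F := F) : GL D.Idx F) * (a * b') * (C.n0 (F := F) : GL D.Idx F)⁻¹ =
      ((C.n0 (F := F) : GL D.Idx F) * a * (C.n0 (F := F) : GL D.Idx F)⁻¹) *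
        ((C.n0 (F := F) : GL D.Idx F) * b' * (C.n0 (F := F) : GL D.Idx F)⁻¹) := by group
    rw [this]; exact mul_mem ha hb'
  | inv a _ ha =>
    have : (C.n0 (F := F) : GL D.Idx F) * a⁻¹ * (C.n0 (F := F) : GL D.Idx F)⁻¹ =
      ((C.n0 (F := F) : GL D.Idx F) * a * (C.n0 (F := F) : GL D.Idx F)⁻¹)⁻¹ := by group
    rw [this]; exact inv_mem ha

end Cert12

end Cfsg.Agent.Lib.H29.Chev
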