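import Mathlib
import Cfsg.Prelude.Def_ChevStructure
import Cfsg.Agent.Lib.H29.ChevAut4

/-! Automorphisms of Chevalley groups, part 5: the permutation of the fundamental roots attached to
an automorphism preserving `U` and `V`, and the parametrisation of its action. -/

set_option autoImplicit false
set_option linter.unusedSimpArgs false
set_option linter.unusedVariables false

namespace Cfsg.Agent.Lib.H29.Chev

open Cfsg.Lie Matrix

/-- the opposition check: `w₀(-α_i)` is a fundamental root, and every fundamental root arises -/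
def FD.chkOpp (fd : FD) (fx : FX) : Bool :=
  ((List.range fd.l).all fun i => (List.range fd.l).any fun k =>
    Nat.beq (fd.wact fx fx.w0 (fd.n - 1 - fd.simples.getD i 0)) (fd.simples.getD k 0)) &&
  ((List.range fd.l).all fun k => (List.range fd.l).any fun i =>
    Nat.beq (fd.wact fx fx.w0 (fd.n - 1 - fd.simples.getD i 0)) (fd.simples.getD k 0))

theorem FD.opp_spec {fd : FD} {fx : FX} (h : fd.chkOpp fx = true) :
    (∀ i < fd.l, ∃ k < fd.l, fd.wact fx fx.w0 (fd.n - 1 - fd.simples.getD i 0) = fd.simples.getD k 0) ∧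
    (∀ k < fd.l, ∃ i < fd.l, fd.wact fx fx.w0 (fd.n - 1 - fd.simples.getD i 0) = fd.simples.getD k 0) := by
  simp only [FD.chkOpp, Bool.and_eq_true, List.all_eq_true, List.any_eq_true, List.mem_range, natBeq_iff] at h
  exact ⟨fun i hi => h.1 i hi, fun k hk => h.2 k hk⟩

variable {D : ChevalleyDatum} {fd : FD} {fx : FX} {fc : FC} {fz : FZ} {F : Type*} [Field F]

/-- `θ` preserves `U` and `V` -/
def StdAut (θ : ↥(D.group F) ≃* ↥(D.group F)) : Prop :=
  (∀ g, g ∈ Cert12.U1 D F ↔ θ g ∈ Cert12.U1 D F) ∧ (∀ g, g ∈ Cert12.V1 D F ↔ θ g ∈ Cert12.V1 D F)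

namespace Cert12

variable (C : Cert12 D fd fx fc fz)
include C

theorem xg_injective (r : ℕ) (hr : r < fd.n) (a b : F) (h : C.xg r a = C.xg r b) : a = b :=
  C.xA_param_inj' r hr a b (congrArg Subtype.val h)

theorem xg_add (r : ℕ) (a b : F) : C.xg r (a + b) = C.xg r a * C.xg r b :=
  Subtype.ext (C.c6.c2.xA_mul r a b).symm

theorem xg_zero (r : ℕ) : C.xg (F := F) r 0 = 1 := Subtype.ext (C.c6.c2.xA_zero r)

theorem xg_neg (r : ℕ) (a : F) : C.xg r (-a) = (C.xg r a)⁻¹ := by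
  rw [eq_inv_iff_mul_eq_one, ← C.xg_add, neg_add_cancel, C.xg_zero]

/-- an automorphism preserving `U` and `V` maps positive fundamental root subgroups to such -/
theorem std_pos_simple [Finite F] (hO : fd.chkOpp fx = true) (θ : ↥(D.group F) ≃* ↥(D.group F))
    (hθ : StdAut θ) (k : ℕ) (hk : k < fd.l) :
    ∃ k', ∃ hk' : k' < fd.l, ∀ t : F, ∃ t' : F,
      θ (C.xg (fd.simples.getD k 0) t) = C.xg (fd.simples.getD k' 0) t' := by
  obtain ⟨hU, hV⟩ := hθ
  obtain ⟨hfwd, hbwd⟩ := fd.opp_spec hO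
  have hev := C.c6.c2.heven
  have hfinU : Finite (U1 D F) := inferInstance
  have hfinV : Finite (V1 D F) := inferInstance
  set ι : ↥(D.group F) ≃* ↥(D.group F) := MulAut.conj (C.n0 (F := F)) with hι
  have hιa : ∀ g, ι g = C.n0 * g * (C.n0)⁻¹ := fun g => rfl
  have hιU : ∀ g, g ∈ U1 D F ↔ ι g ∈ V1 D F :=
    iff_of_forall_mem' ι (U1 D F) (V1 D F) C.card_V1.symm (fun g hg => C.n0_conj_pos g hg)
  have hιV : ∀ g, g ∈ V1 D F ↔ ι g ∈ U1 D F :=
    iff_of_forall_mem' ι (V1 D F) (U1 D F) C.card_V1 (fun g hg => C.n0_conj_neg g hg)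
  have hU' : ∀ g, g ∈ U1 D F ↔ ((ι.trans θ).trans ι.symm) g ∈ U1 D F := by
    intro g
    rw [hιU g, hV (ι g), hιU (((ι.trans θ).trans ι.symm) g)]
    simp only [MulEquiv.trans_apply, MulEquiv.apply_symm_apply]
  have hV' : ∀ g, g ∈ V1 D F ↔ ((ι.trans θ).trans ι.symm) g ∈ V1 D F := by
    intro g
    rw [hιV g, hU (ι g), hιV (((ι.trans θ).trans ι.symm) g)]
    simp only [MulEquiv.trans_apply, MulEquiv.apply_symm_apply]
  obtain ⟨i, hi, hik⟩ := hbwd k hk
  obtain ⟨j, hj, h⟩ := C.std_neg_simple ((ι.trans θ).trans ι.symm) hU' hV' i hi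
  obtain ⟨k', hk', hjk'⟩ := hfwd j hj
  have hpi := C.c6.c2.simple_lt i hi
  have hpj := C.c6.c2.simple_lt j hj
  obtain ⟨_, ε, hε, h1⟩ := C.n0_conj (F := F) (fd.n - 1 - fd.simples.getD i 0) (by omega)
  obtain ⟨_, ε', hε', h2⟩ := C.n0_conj (F := F) (fd.n - 1 - fd.simples.getD j 0) (by omega)
  rw [hik] at h1
  rw [hjk'] at h2
  refine ⟨k', hk', fun t => ?_⟩
  obtain ⟨t', ht'⟩ := h ((ε : F) * t)
  refine ⟨(ε' : F) * t', ?_⟩
  have hεF : (ε : F) * (ε : F) = 1 := by exact_mod_cast congrArg (Int.cast (R := F)) hε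
  have e1 : C.xg (fd.simples.getD k 0) t = ι (C.xg (fd.n - 1 - fd.simples.getD i 0) ((ε : F) * t)) := by
    rw [hιa, h1, ← mul_assoc, hεF, one_mul]
  rw [e1, ← h2, ← hιa, ← ht']
  simp only [MulEquiv.trans_apply, MulEquiv.apply_symm_apply]

/-- the permutation of the fundamental roots attached to an automorphism preserving `U` and `V` -/
theorem std_rho [Finite F] (hO : fd.chkOpp fx = true) (θ : ↥(D.group F) ≃* ↥(D.group F))
    (hθ : StdAut θ) :
    ∃ ρ : ℕ → ℕ, ∀ i < fd.l, ρ i < fd.l ∧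
      (∀ t : F, ∃ t' : F, θ (C.xg (fd.simples.getD i 0) t) = C.xg (fd.simples.getD (ρ i) 0) t') ∧
      (∀ t : F, ∃ t' : F, θ (C.xg (fd.n - 1 - fd.simples.getD i 0) t) =
        C.xg (fd.n - 1 - fd.simples.getD (ρ i) 0) t') := by
  have key : ∀ i, ∃ k, i < fd.l → k < fd.l ∧
      (∀ t : F, ∃ t' : F, θ (C.xg (fd.simples.getD i 0) t) = C.xg (fd.simples.getD k 0) t') ∧
      (∀ t : F, ∃ t' : F, θ (C.xg (fd.n - 1 - fd.simples.getD i 0) t) =
        C.xg (fd.n - 1 - fd.simples.getD k 0) t') := by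
    intro i
    by_cases hi : i < fd.l
    · obtain ⟨k, hk, hpos⟩ := C.std_pos_simple hO θ hθ i hi
      obtain ⟨j, hj, hneg⟩ := C.std_neg_simple θ hθ.1 hθ.2 i hi
      have hkj : k = j := by
        by_contra hne
        obtain ⟨a, ha⟩ := hpos 1
        obtain ⟨b, hb⟩ := hneg 1
        have hcomm := C.comm_simple_negsimple k j hk hj hne a b
        have hp := C.c6.c2.simple_lt i hi
        apply C.not_comm_self_neg (fd.simples.getD i 0) hp (1 : F) 1 one_ne_zero one_ne_zero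
        have h1 : θ (C.xg (fd.simples.getD i 0) 1 * C.xg (fd.n - 1 - fd.simples.getD i 0) 1) =
            θ (C.xg (fd.n - 1 - fd.simples.getD i 0) 1 * C.xg (fd.simples.getD i 0) 1) := by
          rw [map_mul, map_mul, ha, hb]
          exact Subtype.ext hcomm
        exact congrArg Subtype.val (θ.injective h1)
      subst hkj
      exact ⟨k, fun _ => ⟨hk, hpos, hneg⟩⟩
    · exact ⟨0, fun h => absurd h hi⟩
  choose ρ hρ using key
  exact ⟨ρ, fun i hi => hρ i hi⟩

/-- parametrisation of the action on a root subgroup -/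
theorem exists_param (θ : ↥(D.group F) ≃* ↥(D.group F)) (r r' : ℕ) (hr : r < fd.n) (hr' : r' < fd.n)
    (h : ∀ t : F, ∃ t' : F, θ (C.xg r t) = C.xg r' t') :
    ∃ f : F →+ F, (∀ t, θ (C.xg r t) = C.xg r' (f t)) ∧ Function.Injective f := by
  choose f hf using h
  have hadd : ∀ a b, f (a + b) = f a + f b := by
    intro a b
    apply C.xg_injective r' hr'
    rw [← hf, C.xg_add, map_mul, hf, hf, C.xg_add]
  have h0 : f 0 = 0 := by
    have := hadd 0 0
    rw [add_zero] at this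
    exact left_eq_add.mp this
  refine ⟨⟨⟨f, h0⟩, hadd⟩, hf, ?_⟩
  intro a b hab
  have hab' : f a = f b := hab
  apply C.xg_injective r hr
  apply θ.injective
  rw [hf, hf, hab']

end Cert12

end Cfsg.Agent.Lib.H29.Chev
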