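import Mathlib
import Cfsg.Prelude.Def_ChevStructure
import Cfsg.Agent.Lib.H29.ChevAut5

/-! Automorphisms of Chevalley groups, part 6: the rank one lemma: if `θ x_r(t) = x_{r'}(f t)` and
`θ x_{-r}(t) = x_{-r'}(g t)` then `g t = (f t⁻¹)⁻¹`, so `θ n_r(t) = n_{r'}(f t)`. -/

set_option autoImplicit false
set_option linter.unusedSimpArgs false
set_option linter.unusedVariables false

namespace Cfsg.Agent.Lib.H29.Chev

open Cfsg.Lie Matrix

variable {D : ChevalleyDatum} {fd : FD} {fx : FX} {fc : FC} {fz : FZ} {F : Type*} [Field F]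

namespace Cert12

variable (C : Cert12 D fd fx fc fz)
include C

theorem rank_one_aux (r' : ℕ) (hr' : r' < fd.n) (e : F) (he : e ≠ 0) (z₀ : F)
    (h : C.c6.c2.xA r' e * C.c6.c2.xA (fd.n - 1 - r') (-e⁻¹) =
      C.c6.c2.xA (fd.n - 1 - r') z₀ * C.c6.c2.xA r' e) : False := by
  have hev := C.c6.c2.heven
  have hn : C.nE r' e = C.c6.c2.xA (fd.n - 1 - r') z₀ * C.c6.c2.xA r' (e + e) := by
    unfold Cert12.nE
    rw [h, mul_assoc, C.c6.c2.xA_mul]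
  have h1 := C.nE_conj_self r' hr' e he (-(e + e))
  rw [mul_inv_eq_iff_eq_mul] at h1
  have h1' : C.nE r' e * C.c6.c2.xA r' (-(e + e)) = C.c6.c2.xA (fd.n - 1 - r') z₀ := by
    rw [hn, mul_assoc, C.c6.c2.xA_mul, add_neg_cancel, C.c6.c2.xA_zero, mul_one]
  rw [h1'] at h1
  have hn2 : C.nE r' e = C.c6.c2.xA (fd.n - 1 - r') (-(-(e⁻¹ * e⁻¹) * -(e + e)) + z₀) := by
    rw [← C.c6.c2.xA_mul, h1, ← mul_assoc, C.c6.c2.xA_mul, neg_add_cancel, C.c6.c2.xA_zero, one_mul]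
  have h2 := C.nE_conj_negself r' hr' e he 1
  rw [hn2, mul_inv_eq_iff_eq_mul, C.c6.c2.xA_mul] at h2
  generalize -(-(e⁻¹ * e⁻¹) * -(e + e)) + z₀ = w at h2
  have h3 : C.c6.c2.xA r' (-(e * e) * 1) = C.c6.c2.xA (fd.n - 1 - r') 1 := by
    have : C.c6.c2.xA r' (-(e * e) * 1) =
        C.c6.c2.xA (fd.n - 1 - r') (w + 1) * (C.c6.c2.xA (fd.n - 1 - r') w)⁻¹ := by
      rw [h2]; group
    rw [this, C.c6.c2.xA_inv, C.c6.c2.xA_mul]
    congr 1
    ring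
  have hc : (-(e * e) * 1 : F) ≠ 0 := by
    rw [mul_one]
    exact neg_ne_zero.mpr (mul_ne_zero he he)
  have := C.xA_inj r' (fd.n - 1 - r') hr' (by omega) _ _ hc h3
  omega

omit C in
theorem rank_one_grp {G : Type*} [Group G] (E N A Z Y : G) (h1 : E * A = A * E)
    (h2 : E * N * E * A = Z * (E * N * E)) (h3 : N * A = Y * N) : E * Y = Z * E := by
  have e1 : E * N * E * A = E * Y * (N * E) := by
    calc E * N * E * A = E * N * (E * A) := by group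
      _ = E * N * (A * E) := by rw [h1]
      _ = E * (N * A) * E := by group
      _ = E * (Y * N) * E := by rw [h3]
      _ = E * Y * (N * E) := by group
  have e2 : E * Y * (N * E) = Z * E * (N * E) := by
    rw [← e1, h2]; group
  exact mul_right_cancel e2

/-- the rank one lemma -/
theorem rank_one (θ : ↥(D.group F) ≃* ↥(D.group F)) (r r' : ℕ) (hr : r < fd.n) (hr' : r' < fd.n)
    (f g : F →+ F) (hf : ∀ t, θ (C.xg r t) = C.xg r' (f t))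
    (hg : ∀ t, θ (C.xg (fd.n - 1 - r) t) = C.xg (fd.n - 1 - r') (g t))
    (fsurj : Function.Surjective f) (ginj : Function.Injective g) (t : F) (ht : t ≠ 0) :
    g t = (f t⁻¹)⁻¹ := by
  have hev := C.c6.c2.heven
  have hc0 : -t⁻¹ ≠ 0 := neg_ne_zero.mpr (inv_ne_zero ht)
  have hs0 : g t ≠ 0 := fun h => ht (ginj (h.trans (map_zero g).symm))
  have P1 : ∀ u, C.xg r (-t⁻¹) * C.xg (fd.n - 1 - r) t * C.xg r (-t⁻¹) * C.xg r u =
      C.xg (fd.n - 1 - r) (-((-t⁻¹)⁻¹ * (-t⁻¹)⁻¹) * u) *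
        (C.xg r (-t⁻¹) * C.xg (fd.n - 1 - r) t * C.xg r (-t⁻¹)) := by
    intro u
    apply Subtype.ext
    have h1 := C.nE_conj_self r hr (-t⁻¹) hc0 u
    rw [mul_inv_eq_iff_eq_mul] at h1
    have e2 : C.nE r (-t⁻¹) = C.c6.c2.xA r (-t⁻¹) * C.c6.c2.xA (fd.n - 1 - r) t * C.c6.c2.xA r (-t⁻¹) := by
      unfold Cert12.nE
      rw [inv_neg, inv_inv, neg_neg]
    rw [e2] at h1
    exact h1
  have P2 : ∀ u, C.c6.c2.xA r' (f (-t⁻¹)) * C.c6.c2.xA (fd.n - 1 - r') (g t) * C.c6.c2.xA r' (f (-t⁻¹)) *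
      C.c6.c2.xA r' (f u) =
      C.c6.c2.xA (fd.n - 1 - r') (g (-((-t⁻¹)⁻¹ * (-t⁻¹)⁻¹) * u)) *
        (C.c6.c2.xA r' (f (-t⁻¹)) * C.c6.c2.xA (fd.n - 1 - r') (g t) * C.c6.c2.xA r' (f (-t⁻¹))) := by
    intro u
    have := congrArg θ (P1 u)
    simp only [map_mul, hf, hg] at this
    exact congrArg Subtype.val this
  generalize hs : g t = s at hs0 P2 ⊢
  generalize ha : f (-t⁻¹) = a at P2
  have hsi : -(-s⁻¹)⁻¹ = s := by rw [inv_neg, inv_inv, neg_neg]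
  have hxs : C.c6.c2.xA (fd.n - 1 - r') s =
      C.c6.c2.xA r' s⁻¹ * C.nE r' (-s⁻¹) * C.c6.c2.xA r' s⁻¹ := by
    unfold Cert12.nE
    rw [hsi]
    have e1 : C.c6.c2.xA r' s⁻¹ * C.c6.c2.xA r' (-s⁻¹) = 1 := by
      rw [C.c6.c2.xA_mul, add_neg_cancel, C.c6.c2.xA_zero]
    have e2 : C.c6.c2.xA r' (-s⁻¹) * C.c6.c2.xA r' s⁻¹ = 1 := by
      rw [C.c6.c2.xA_mul, neg_add_cancel, C.c6.c2.xA_zero]
    generalize C.c6.c2.xA r' s⁻¹ = p at e1 e2 ⊢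
    generalize C.c6.c2.xA r' (-s⁻¹) = q at e1 e2 ⊢
    generalize C.c6.c2.xA (fd.n - 1 - r') s = w
    calc w = (p * q) * w * (q * p) := by rw [e1, e2]; group
      _ = p * (q * w * q) * p := by group
  have hE : C.c6.c2.xA r' a * C.c6.c2.xA (fd.n - 1 - r') s * C.c6.c2.xA r' a =
      C.c6.c2.xA r' (a + s⁻¹) * C.nE r' (-s⁻¹) * C.c6.c2.xA r' (s⁻¹ + a) := by
    rw [hxs, ← C.c6.c2.xA_mul, ← C.c6.c2.xA_mul]
    group
  rw [add_comm s⁻¹ a] at hE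
  by_cases he : a + s⁻¹ = 0
  · have h1 : s⁻¹ = f t⁻¹ := by
      have : s⁻¹ = -a := by linear_combination he
      rw [this, ← ha, map_neg, neg_neg]
    rw [← h1, inv_inv]
  · exfalso
    obtain ⟨u, hu⟩ := fsurj ((a + s⁻¹)⁻¹ / (s * s))
    have hY := C.nE_conj_self r' hr' (-s⁻¹) (neg_ne_zero.mpr (inv_ne_zero hs0)) (f u)
    rw [mul_inv_eq_iff_eq_mul] at hY
    have hpar : -((-s⁻¹)⁻¹ * (-s⁻¹)⁻¹) * f u = -(a + s⁻¹)⁻¹ := by
      rw [hu, inv_neg, inv_inv]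
      field_simp
    rw [hpar] at hY
    have hcomm : C.c6.c2.xA r' (a + s⁻¹) * C.c6.c2.xA r' (f u) =
        C.c6.c2.xA r' (f u) * C.c6.c2.xA r' (a + s⁻¹) := by
      rw [C.c6.c2.xA_mul, C.c6.c2.xA_mul, add_comm]
    have hP := P2 u
    rw [hE] at hP
    exact C.rank_one_aux r' hr' (a + s⁻¹) he _ (rank_one_grp _ _ _ _ _ hcomm hP hY)

end Cert12

end Cfsg.Agent.Lib.H29.Chev
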