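import Mathlib
import Cfsg.Prelude.Def_ChevStructure
import Cfsg.Agent.Lib.H29.ChevAut6

/-! Automorphisms of Chevalley groups, part 7: the action on the fundamental root elements
(`SimpAct`), tracking of root subgroups along reflections, commutation. -/

set_option autoImplicit false
set_option linter.unusedSimpArgs false
set_option linter.unusedVariables false

namespace Cfsg.Agent.Lib.H29.Chev

open Cfsg.Lie Matrix

variable {D : ChevalleyDatum} {fd : FD} {fx : FX} {fc : FC} {fz : FZ} {F : Type*} [Field F]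

/-- the action of an automorphism on the fundamental root elements and their negatives -/
structure SimpAct (C : Cert12 D fd fx fc fz) (θ : ↥(D.group F) ≃* ↥(D.group F)) (ρ : ℕ → ℕ)
    (f g : ℕ → F →+ F) : Prop where
  rho_lt : ∀ i < fd.l, ρ i < fd.l
  pos : ∀ i < fd.l, ∀ t, θ (C.xg (fd.simples.getD i 0) t) = C.xg (fd.simples.getD (ρ i) 0) (f i t)
  neg : ∀ i < fd.l, ∀ t, θ (C.xg (fd.n - 1 - fd.simples.getD i 0) t) =
    C.xg (fd.n - 1 - fd.simples.getD (ρ i) 0) (g i t)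
  finj : ∀ i < fd.l, Function.Injective (f i)
  ginj : ∀ i < fd.l, Function.Injective (g i)

namespace Cert12

variable (C : Cert12 D fd fx fc fz)
include C

/-- the element `n_r(t)` of the Chevalley group -/
noncomputable def ng (r : ℕ) (t : F) : ↥(D.group F) := ⟨C.nE r t, C.nE_mem_group r t⟩

theorem ng_eq (r : ℕ) (t : F) : C.ng r t = C.xg r t * C.xg (fd.n - 1 - r) (-t⁻¹) * C.xg r t := rfl

/-- `x_r` and `x_s` commute elementwise -/
def Comm (F : Type*) [Field F] (r s : ℕ) : Prop :=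
  ∀ t u : F, C.c6.c2.xA r t * C.c6.c2.xA s u = C.c6.c2.xA s u * C.c6.c2.xA r t

/-- `θ` maps `X_r` into `X_{r'}` -/
def Tracks (θ : ↥(D.group F) ≃* ↥(D.group F)) (r r' : ℕ) : Prop :=
  ∀ t : F, ∃ t' : F, θ (C.xg r t) = C.xg r' t'

theorem comm_of_tracks (θ : ↥(D.group F) ≃* ↥(D.group F)) (r r' s s' : ℕ) (hr : C.Tracks θ r r')
    (hs : C.Tracks θ s s') (h : C.Comm F r' s') : C.Comm F r s := by
  intro t u
  obtain ⟨t', ht'⟩ := hr t
  obtain ⟨u', hu'⟩ := hs u
  have h1 : θ (C.xg r t * C.xg s u) = θ (C.xg s u * C.xg r t) := by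
    rw [map_mul, map_mul, ht', hu']
    exact Subtype.ext (h t' u')
  exact congrArg Subtype.val (θ.injective h1)

/-- existence of the data of the action, for an automorphism preserving `U` and `V` -/
theorem exists_simpAct [Finite F] (hO : fd.chkOpp fx = true) (θ : ↥(D.group F) ≃* ↥(D.group F))
    (hθ : StdAut θ) : ∃ ρ f g, SimpAct C θ ρ f g := by
  have hev := C.c6.c2.heven
  obtain ⟨ρ, hρ⟩ := C.std_rho hO θ hθ
  have key : ∀ i, ∃ fg : (F →+ F) × (F →+ F), i < fd.l →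
      (∀ t, θ (C.xg (fd.simples.getD i 0) t) = C.xg (fd.simples.getD (ρ i) 0) (fg.1 t)) ∧
      (∀ t, θ (C.xg (fd.n - 1 - fd.simples.getD i 0) t) =
        C.xg (fd.n - 1 - fd.simples.getD (ρ i) 0) (fg.2 t)) ∧
      Function.Injective fg.1 ∧ Function.Injective fg.2 := by
    intro i
    by_cases hi : i < fd.l
    · obtain ⟨h1, h2, h3⟩ := hρ i hi
      have hp := C.c6.c2.simple_lt i hi
      have hp' := C.c6.c2.simple_lt (ρ i) h1
      obtain ⟨f, hf, hfi⟩ := C.exists_param θ _ _ hp hp' h2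
      obtain ⟨g, hg, hgi⟩ := C.exists_param θ _ _ (by omega) (by omega) h3
      exact ⟨(f, g), fun _ => ⟨hf, hg, hfi, hgi⟩⟩
    · exact ⟨(0, 0), fun h => absurd h hi⟩
  choose fg hfg using key
  exact ⟨ρ, fun i => (fg i).1, fun i => (fg i).2,
    ⟨fun i hi => (hρ i hi).1, fun i hi => (hfg i hi).1, fun i hi => (hfg i hi).2.1,
      fun i hi => (hfg i hi).2.2.1, fun i hi => (hfg i hi).2.2.2⟩⟩

end Cert12

namespace SimpAct

variable {C : Cert12 D fd fx fc fz} {θ : ↥(D.group F) ≃* ↥(D.group F)} {ρ : ℕ → ℕ} {f g : ℕ → F →+ F}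
  (S : SimpAct C θ ρ f g)
include S

theorem fsurj [Finite F] (i : ℕ) (hi : i < fd.l) : Function.Surjective (f i) :=
  Finite.surjective_of_injective (S.finj i hi)

theorem f_ne_zero (i : ℕ) (hi : i < fd.l) (t : F) (ht : t ≠ 0) : f i t ≠ 0 :=
  fun h => ht (S.finj i hi (h.trans (map_zero (f i)).symm))

theorem g_eq [Finite F] (i : ℕ) (hi : i < fd.l) (t : F) (ht : t ≠ 0) : g i t = (f i t⁻¹)⁻¹ :=
  C.rank_one θ _ _ (C.c6.c2.simple_lt i hi) (C.c6.c2.simple_lt _ (S.rho_lt i hi)) (f i) (g i)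
    (S.pos i hi) (S.neg i hi) (S.fsurj i hi) (S.ginj i hi) t ht

theorem map_ng [Finite F] (i : ℕ) (hi : i < fd.l) (t : F) (ht : t ≠ 0) :
    θ (C.ng (fd.simples.getD i 0) t) = C.ng (fd.simples.getD (ρ i) 0) (f i t) := by
  rw [C.ng_eq, C.ng_eq, map_mul, map_mul, S.pos i hi, S.neg i hi,
    S.g_eq i hi (-t⁻¹) (neg_ne_zero.mpr (inv_ne_zero ht))]
  congr 3
  rw [inv_neg, inv_inv, map_neg, inv_neg]

theorem tracks_pos (i : ℕ) (hi : i < fd.l) :
    C.Tracks θ (fd.simples.getD i 0) (fd.simples.getD (ρ i) 0) := fun t => ⟨_, S.pos i hi t⟩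

theorem tracks_neg (i : ℕ) (hi : i < fd.l) :
    C.Tracks θ (fd.n - 1 - fd.simples.getD i 0) (fd.n - 1 - fd.simples.getD (ρ i) 0) :=
  fun t => ⟨_, S.neg i hi t⟩

/-- tracking root subgroups along a fundamental reflection -/
theorem tracks_sw [Finite F] (i : ℕ) (hi : i < fd.l) (r r' : ℕ) (hr : r < fd.n) (hr' : r' < fd.n)
    (h : C.Tracks θ r r') : C.Tracks θ (fd.sw fx i r) (fd.sw fx (ρ i) r') := by
  intro t
  obtain ⟨_, _, c, hc⟩ := C.perm_nE i hi (1 : F) one_ne_zero r hr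
  have hf1 : f i 1 ≠ 0 := S.f_ne_zero i hi 1 one_ne_zero
  obtain ⟨_, _, c', hc'⟩ := C.perm_nE (ρ i) (S.rho_lt i hi) (f i 1) hf1 r' hr'
  have hc0 : c ≠ 0 := by
    intro h0
    have h1 := hc 1
    rw [h0, zero_mul, C.c6.c2.xA_zero] at h1
    have h2 : C.c6.c2.xA r (1 : F) = 1 := by
      have : C.c6.c2.xA r (1 : F) = (C.nE (fd.simples.getD i 0) 1)⁻¹ *
          (C.nE (fd.simples.getD i 0) 1 * C.c6.c2.xA r 1 * (C.nE (fd.simples.getD i 0) 1)⁻¹) *
          C.nE (fd.simples.getD i 0) 1 := by group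
      rw [this, h1]; group
    exact one_ne_zero (C.c6.xA_eq_one r hr _ h2)
  obtain ⟨u', hu'⟩ := h (c⁻¹ * t)
  refine ⟨c' * u', ?_⟩
  have e1 : C.xg (fd.sw fx i r) t =
      C.ng (fd.simples.getD i 0) 1 * C.xg r (c⁻¹ * t) * (C.ng (fd.simples.getD i 0) 1)⁻¹ := by
    apply Subtype.ext
    show C.c6.c2.xA (fd.sw fx i r) t = C.nE (fd.simples.getD i 0) 1 * C.c6.c2.xA r (c⁻¹ * t) *
      (C.nE (fd.simples.getD i 0) 1)⁻¹
    rw [hc, ← mul_assoc, mul_inv_cancel₀ hc0, one_mul]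
  rw [e1, map_mul, map_mul, map_inv, S.map_ng i hi 1 one_ne_zero, hu']
  apply Subtype.ext
  exact hc' u'

/-- `ρ` is injective -/
theorem rho_inj [Finite F] (i j : ℕ) (hi : i < fd.l) (hj : j < fd.l) (h : ρ i = ρ j) : i = j := by
  obtain ⟨u, hu⟩ := S.fsurj j hj (f i 1)
  have h1 : θ (C.xg (fd.simples.getD i 0) 1) = θ (C.xg (fd.simples.getD j 0) u) := by
    rw [S.pos i hi, S.pos j hj, hu, h]
  have h2 := congrArg Subtype.val (θ.injective h1)
  exact C.simple_inj i j hi hj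
    (C.xA_inj _ _ (C.c6.c2.simple_lt i hi) (C.c6.c2.simple_lt j hj) _ _ one_ne_zero h2)

/-- commutation of fundamental root subgroups is preserved -/
theorem comm_iff [Finite F] (i j : ℕ) (hi : i < fd.l) (hj : j < fd.l) :
    C.Comm F (fd.simples.getD i 0) (fd.simples.getD j 0) ↔
      C.Comm F (fd.simples.getD (ρ i) 0) (fd.simples.getD (ρ j) 0) := by
  constructor
  · intro h t' u'
    obtain ⟨t, ht⟩ := S.fsurj i hi t'
    obtain ⟨u, hu⟩ := S.fsurj j hj u'
    have h1 := congrArg θ (Subtype.ext (h t u) :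
      C.xg (fd.simples.getD i 0) t * C.xg (fd.simples.getD j 0) u =
        C.xg (fd.simples.getD j 0) u * C.xg (fd.simples.getD i 0) t)
    rw [map_mul, map_mul, S.pos i hi, S.pos j hj, ht, hu] at h1
    exact congrArg Subtype.val h1
  · exact C.comm_of_tracks θ _ _ _ _ (S.tracks_pos i hi) (S.tracks_pos j hj)

end SimpAct

end Cfsg.Agent.Lib.H29.Chev
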