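import Mathlib
import Cfsg.Prelude.Def_ChevAutomorphisms
import Cfsg.Agent.Lib.H29.ChevAut7

/-! Automorphisms of Chevalley groups, part 8: tracking along words; commutation of fundamental
root subgroups and the bonds of the diagram. -/

set_option autoImplicit false
set_option linter.unusedSimpArgs false
set_option linter.unusedVariables false

namespace Cfsg.Agent.Lib.H29.Chev

open Cfsg.Lie Matrix

/-- the table check relating commutation of fundamental root subgroups and bonds -/
def chkAdj (D : ChevalleyDatum) (fd : FD) (fx : FX) : Bool :=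
  (List.range fd.l).all fun i => (List.range fd.l).all fun j => Nat.beq i j ||
    ((!(intBeq (D.bonds i j) 0) || (fd.commT (fd.simples.getD i 0) (fd.simples.getD j 0)).isEmpty) &&
     (!(Nat.beq (fd.sw fx i (fd.simples.getD j 0)) (fd.simples.getD j 0)) || intBeq (D.bonds i j) 0))

theorem chkAdj_spec {D : ChevalleyDatum} {fd : FD} {fx : FX} (h : chkAdj D fd fx = true) (i j : ℕ)
    (hi : i < fd.l) (hj : j < fd.l) (hij : i ≠ j) :
    (D.bonds i j = 0 → fd.commT (fd.simples.getD i 0) (fd.simples.getD j 0) = []) ∧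
    (fd.sw fx i (fd.simples.getD j 0) = fd.simples.getD j 0 → D.bonds i j = 0) := by
  simp only [chkAdj, List.all_eq_true, List.mem_range, Bool.or_eq_true, Bool.and_eq_true, natBeq_iff,
    Bool.not_eq_true', intBeq_iff, List.isEmpty_iff] at h
  rcases h i hi j hj with h | ⟨h1, h2⟩
  · exact absurd h hij
  · constructor
    · intro hb
      rcases h1 with h1 | h1
      · rw [← Bool.not_eq_true, intBeq_iff] at h1
        exact absurd hb h1
      · exact h1
    · intro hs
      rcases h2 with h2 | h2
      · rw [← Bool.not_eq_true, natBeq_iff] at h2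
        exact absurd hs h2
      · exact h2

variable {D : ChevalleyDatum} {fd : FD} {fx : FX} {fc : FC} {fz : FZ} {F : Type*} [Field F]

namespace Cert12

variable (C : Cert12 D fd fx fc fz)
include C

theorem wact_lt (w : List ℕ) (hw : ∀ i ∈ w, i < fd.l) (s : ℕ) (hs : s < fd.n) : fd.wact fx w s < fd.n := by
  induction w with
  | nil => exact hs
  | cons i w ih =>
    have hi : i < fd.l := hw i List.mem_cons_self
    have := ih (fun j hj => hw j (List.mem_cons_of_mem _ hj))
    exact (fd.nw_spec C.c6.c2.chk.nn _ _ (C.c6.c2.simple_lt i hi) this).1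

/-- fundamental root subgroups commute exactly when there is no bond -/
theorem comm_simple_iff (hA : chkAdj D fd fx = true) (i j : ℕ) (hi : i < fd.l) (hj : j < fd.l) (hij : i ≠ j) :
    C.Comm F (fd.simples.getD i 0) (fd.simples.getD j 0) ↔ D.bonds i j = 0 := by
  obtain ⟨h1, h2⟩ := chkAdj_spec hA i j hi hj hij
  have hev := C.c6.c2.heven
  have hpi := C.c6.c2.simple_lt i hi
  have hpj := C.c6.c2.simple_lt j hj
  have hposi := C.c6.simple_pos i hi
  have hposj := C.c6.simple_pos j hj
  have hne : fd.simples.getD i 0 ≠ fd.simples.getD j 0 := fun h => hij (C.simple_inj i j hi hj h)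
  constructor
  · intro hc
    apply h2
    obtain ⟨_, _, c, hcc⟩ := C.perm_nE i hi (1 : F) one_ne_zero _ hpj
    have h3 := hcc 1
    have hcn := C.comm_simple_negsimple j i hj hi (Ne.symm hij) (1 : F) (-(1 : F)⁻¹)
    have hcp := hc 1 (1 : F)
    have e : C.nE (fd.simples.getD i 0) (1 : F) * C.c6.c2.xA (fd.simples.getD j 0) 1 *
        (C.nE (fd.simples.getD i 0) (1 : F))⁻¹ = C.c6.c2.xA (fd.simples.getD j 0) 1 := by
      unfold Cert12.nE
      generalize C.c6.c2.xA (fd.simples.getD i 0) (1 : F) = a at hcp ⊢
      generalize C.c6.c2.xA (fd.n - 1 - fd.simples.getD i 0) (-(1 : F)⁻¹) = b at hcn ⊢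
      generalize C.c6.c2.xA (fd.simples.getD j 0) (1 : F) = x at hcp hcn ⊢
      have : a * b * a * x = x * (a * b * a) := by
        calc a * b * a * x = a * b * (a * x) := by group
          _ = a * b * (x * a) := by rw [hcp]
          _ = a * (b * x) * a := by group
          _ = a * (x * b) * a := by rw [hcn]
          _ = (a * x) * b * a := by group
          _ = (x * a) * b * a := by rw [hcp]
          _ = x * (a * b * a) := by group
      rw [this]; group
    rw [e] at h3
    have := C.xA_inj _ _ hpj (fd.nw_spec C.c6.c2.chk.nn _ _ hpi hpj).1 _ _ one_ne_zero h3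
    exact this.symm
  · intro hb t u
    have hcf := C.c6.cfg (F := F) (fd.simples.getD i 0) (fd.simples.getD j 0) hpi hpj (Ne.symm hne) (by omega) t u
    rw [h1 hb] at hcf
    simp only [Cert2.ctG, List.map_nil, List.prod_nil, mul_one] at hcf
    exact hcf.symm

end Cert12

namespace SimpAct

variable {C : Cert12 D fd fx fc fz} {θ : ↥(D.group F) ≃* ↥(D.group F)} {ρ : ℕ → ℕ} {f g : ℕ → F →+ F}
  (S : SimpAct C θ ρ f g)
include S

/-- tracking root subgroups along a word of fundamental reflections -/
theorem tracks_word [Finite F] (w : List ℕ) (hw : ∀ i ∈ w, i < fd.l) (r r' : ℕ) (hr : r < fd.n)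
    (hr' : r' < fd.n) (h : C.Tracks θ r r') :
    C.Tracks θ (fd.wact fx w r) (fd.wact fx (w.map ρ) r') := by
  induction w with
  | nil => exact h
  | cons i w ih =>
    have hi : i < fd.l := hw i List.mem_cons_self
    have hw' : ∀ j ∈ w, j < fd.l := fun j hj => hw j (List.mem_cons_of_mem _ hj)
    have h1 := ih hw'
    have hw'' : ∀ j ∈ w.map ρ, j < fd.l := by
      intro j hj
      obtain ⟨k, hk, rfl⟩ := List.mem_map.mp hj
      exact S.rho_lt k (hw' k hk)
    exact S.tracks_sw i hi _ _ (C.wact_lt w hw' r hr) (C.wact_lt _ hw'' r' hr') h1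

/-- the bonds of the diagram are preserved up to vanishing -/
theorem bonds_iff [Finite F] (hA : chkAdj D fd fx = true) (i j : ℕ) (hi : i < fd.l) (hj : j < fd.l)
    (hij : i ≠ j) : D.bonds (ρ i) (ρ j) = 0 ↔ D.bonds i j = 0 := by
  have hne : ρ i ≠ ρ j := fun h => hij (S.rho_inj i j hi hj h)
  rw [← C.comm_simple_iff (F := F) hA i j hi hj hij,
    ← C.comm_simple_iff (F := F) hA (ρ i) (ρ j) (S.rho_lt i hi) (S.rho_lt j hj) hne]
  exact (S.comm_iff i j hi hj).symm

end SimpAct

end Cfsg.Agent.Lib.H29.Chev
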