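import Mathlib
import Cfsg.Prelude.Def_ChevAutomorphisms
import Cfsg.Agent.Lib.H29.ChevAut8

/-! Automorphisms of Chevalley groups, part 9: the diagonal automorphism with prescribed values on
the fundamental roots. -/

set_option autoImplicit false
set_option linter.unusedSimpArgs false
set_option linter.unusedVariables false

namespace Cfsg.Agent.Lib.H29.Chev

open Cfsg.Lie Matrix

variable {D : ChevalleyDatum} {fd : FD} {fx : FX} {fc : FC} {fz : FZ} {F : Type*} [Field F]

/-- the character of the root lattice with the values `c` on the fundamental roots -/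
noncomputable def chiOf (fd : FD) (fx : FX) (c : ℕ → Fˣ) (r : ℕ) : Fˣ :=
  ∏ j ∈ Finset.range fd.l, c j ^ fd.rcZ fx r j

/-- the conjugation property of the diagonal matrices of root characters (statement S2157) -/
def DiagConj (D : ChevalleyDatum) (F : Type*) [Field F] : Prop :=
  ∀ χ : ℕ → Fˣ, D.IsRootCharacter χ → ∀ r < D.nroots, ∀ t : F,
    D.charDiag F χ * D.x F r t * D.charDiag F (fun s => (χ s)⁻¹) = D.x F r ((χ r : F) * t)

theorem charDiag_mul_inv (D : ChevalleyDatum) (χ : ℕ → Fˣ) :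
    D.charDiag F χ * D.charDiag F (fun s => (χ s)⁻¹) = 1 := by
  unfold ChevalleyDatum.charDiag
  rw [Matrix.diagonal_mul_diagonal, ← Matrix.diagonal_one]
  congr 1
  funext a
  rcases a with a | a
  · simp
  · simp

theorem charDiag_inv_mul (D : ChevalleyDatum) (χ : ℕ → Fˣ) :
    D.charDiag F (fun s => (χ s)⁻¹) * D.charDiag F χ = 1 := by
  have := charDiag_mul_inv (F := F) D (fun s => (χ s)⁻¹)
  simpa using this

/-- the diagonal matrix of `χ` as an invertible matrix -/
noncomputable def charDiagG (D : ChevalleyDatum) (χ : ℕ → Fˣ) : GL D.Idx F :=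
  ⟨D.charDiag F χ, D.charDiag F (fun s => (χ s)⁻¹), charDiag_mul_inv D χ, charDiag_inv_mul D χ⟩

theorem isRootCharacter_inv (χ : ℕ → Fˣ) (h : D.IsRootCharacter χ) :
    D.IsRootCharacter (fun s => (χ s)⁻¹) := by
  refine ⟨fun r hr => ?_, fun r s k hr hs hk => ?_⟩
  · show (χ (D.neg r))⁻¹ = ((χ r)⁻¹)⁻¹
    rw [h.1 r hr]
  · show (χ k)⁻¹ = (χ r)⁻¹ * (χ s)⁻¹
    rw [h.2 r s k hr hs hk, _root_.mul_inv]

namespace Cert12

variable (C : Cert12 D fd fx fc fz)
include C

theorem isRootCharacter_chiOf (c : ℕ → Fˣ) : D.IsRootCharacter (chiOf fd fx c) := by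
  have hn := C.c6.c2.nroots_eq
  refine ⟨fun r hr => ?_, fun r s k hr hs hk => ?_⟩
  · have hr' : r < fd.n := by omega
    rw [C.c6.c2.agrees.neg_eq' r hr']
    unfold chiOf
    rw [← Finset.prod_inv_distrib]
    apply Finset.prod_congr rfl
    intro j hj
    rw [C.rcZ_neg r j hr' (Finset.mem_range.mp hj), _root_.zpow_neg]
  · have hr' : r < fd.n := by omega
    have hs' : s < fd.n := by omega
    rw [C.c6.c2.agrees.chainRoot_eq r s 1 hr' hs'] at hk
    have hmem : (k, fd.cM r s 1, 1, 1) ∈ fd.commT r s := by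
      unfold FD.commT
      simp only [List.filterMap_cons, hk, Option.map_some]
      exact List.mem_cons_self
    obtain ⟨_, h2, _⟩ := fd.linc_spec C.linc r s hr' hs' _ hmem
    unfold chiOf
    rw [← Finset.prod_mul_distrib]
    apply Finset.prod_congr rfl
    intro j hj
    have := h2 j (Finset.mem_range.mp hj)
    simp only [Nat.cast_one, one_mul] at this
    rw [this, _root_.zpow_add]

theorem chiOf_simple (c : ℕ → Fˣ) (i : ℕ) (hi : i < fd.l) : chiOf fd fx c (fd.simples.getD i 0) = c i := by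
  unfold chiOf
  rw [Finset.prod_eq_single i]
  · rw [C.rcZ_simple i i hi hi, if_pos rfl, zpow_one]
  · intro j hj hji
    rw [C.rcZ_simple i j hi (Finset.mem_range.mp hj), if_neg (Ne.symm hji), zpow_zero]
  · intro h
    exact absurd (Finset.mem_range.mpr hi) h

theorem chiOf_negsimple (c : ℕ → Fˣ) (i : ℕ) (hi : i < fd.l) :
    chiOf fd fx c (fd.n - 1 - fd.simples.getD i 0) = (c i)⁻¹ := by
  have h := (C.isRootCharacter_chiOf c).1 (fd.simples.getD i 0)
    (by rw [C.c6.c2.nroots_eq]; exact C.c6.c2.simple_lt i hi)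
  rw [C.c6.c2.agrees.neg_eq' _ (C.c6.c2.simple_lt i hi), C.chiOf_simple c i hi] at h
  exact h

/-- conjugation by the diagonal matrix of a root character rescales root elements -/
theorem charDiagG_conj (hS : DiagConj D F) (χ : ℕ → Fˣ) (hχ : D.IsRootCharacter χ) (r : ℕ) (hr : r < fd.n)
    (t : F) : charDiagG D χ * C.c6.c2.xA r t * (charDiagG D χ)⁻¹ = C.c6.c2.xA r ((χ r : F) * t) := by
  apply gl_ext
  rw [Units.val_mul, Units.val_mul, C.c6.c2.xA_val, C.c6.c2.xA_val]
  exact hS χ hχ r (by rw [C.c6.c2.nroots_eq]; exact hr) t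

theorem map_conj_charDiagG (hS : DiagConj D F) (χ : ℕ → Fˣ) (hχ : D.IsRootCharacter χ) :
    (D.group F).map (MulAut.conj (charDiagG D χ)).toMonoidHom = D.group F := by
  apply le_antisymm
  · rw [Subgroup.map_le_iff_le_comap]
    unfold ChevalleyDatum.group
    rw [Subgroup.closure_le]
    rintro g ⟨r, t, hgm⟩
    have hr : r.val < fd.n := by rw [← C.c6.c2.nroots_eq]; exact r.isLt
    have hgx : g = C.c6.c2.xA r.val t := by
      apply gl_ext
      rw [hgm, C.c6.c2.xA_val]
      unfold ChevalleyDatum.x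
      rw [dif_pos r.isLt]
    rw [SetLike.mem_coe, Subgroup.mem_comap, hgx]
    show charDiagG D χ * C.c6.c2.xA r.val t * (charDiagG D χ)⁻¹ ∈ Subgroup.closure _
    rw [C.charDiagG_conj hS χ hχ r.val hr t]
    exact C.c6.c2.xA_mem_group _ _
  · unfold ChevalleyDatum.group
    rw [Subgroup.closure_le]
    rintro g ⟨r, t, hgm⟩
    have hr : r.val < fd.n := by rw [← C.c6.c2.nroots_eq]; exact r.isLt
    have hgx : g = C.c6.c2.xA r.val t := by
      apply gl_ext
      rw [hgm, C.c6.c2.xA_val]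
      unfold ChevalleyDatum.x
      rw [dif_pos r.isLt]
    rw [SetLike.mem_coe, Subgroup.mem_map]
    refine ⟨C.c6.c2.xA r.val (((χ r.val)⁻¹ : Fˣ) * t), C.c6.c2.xA_mem_group _ _, ?_⟩
    show charDiagG D χ * C.c6.c2.xA _ _ * (charDiagG D χ)⁻¹ = g
    rw [C.charDiagG_conj hS χ hχ r.val hr, hgx, ← mul_assoc]
    simp

/-- the diagonal automorphism attached to a root character -/
noncomputable def diagAut (hS : DiagConj D F) (χ : ℕ → Fˣ) (hχ : D.IsRootCharacter χ) :
    ↥(D.group F) ≃* ↥(D.group F) :=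
  ((MulAut.conj (charDiagG (F := F) D χ)).subgroupMap (D.group F)).trans
    (MulEquiv.subgroupCongr (C.map_conj_charDiagG hS χ hχ))

theorem diagAut_val (hS : DiagConj D F) (χ : ℕ → Fˣ) (hχ : D.IsRootCharacter χ) (g : ↥(D.group F)) :
    ((C.diagAut hS χ hχ g : ↥(D.group F)) : GL D.Idx F) =
      charDiagG D χ * (g : GL D.Idx F) * (charDiagG D χ)⁻¹ := rfl

theorem isDiagonalAut_diagAut (hS : DiagConj D F) (χ : ℕ → Fˣ) (hχ : D.IsRootCharacter χ) :
    D.IsDiagonalAut (C.diagAut hS χ hχ) := by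
  refine ⟨χ, hχ, fun g => ?_⟩
  rw [C.diagAut_val]
  rfl

theorem diagAut_xg (hS : DiagConj D F) (χ : ℕ → Fˣ) (hχ : D.IsRootCharacter χ) (r : ℕ) (hr : r < fd.n)
    (t : F) : C.diagAut hS χ hχ (C.xg r t) = C.xg r ((χ r : F) * t) := by
  apply Subtype.ext
  rw [C.diagAut_val]
  exact C.charDiagG_conj hS χ hχ r hr t

end Cert12

end Cfsg.Agent.Lib.H29.Chev
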