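import Mathlib
import Cfsg.Prelude.Def_ChevAutomorphisms
import Cfsg.Agent.Lib.H29.ChevAut9
import Cfsg.Agent.Lib.H29.ChevFld2
import Cfsg.Agent.Lib.H29.ChevSimpleGen

/-! Automorphisms of Chevalley groups, part 10: field automorphisms; an automorphism fixing the
fundamental root subgroups and the elements `x_{α_i}(1)` is a field automorphism. -/

set_option autoImplicit false
set_option linter.unusedSimpArgs false
set_option linter.unusedVariables false

namespace Cfsg.Agent.Lib.H29.Chev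

open Cfsg.Lie Matrix

/-- closure of a set of nodes under a list of edges, processed in order -/
def closeE (es : List (ℕ × ℕ)) (K : List ℕ) : List ℕ :=
  es.foldl (fun K e => if e.1 ∈ K ∨ e.2 ∈ K then e.1 :: e.2 :: K else K) K

/-- the edges have pairing `-1` and connect all the nodes to node `0` -/
def chkConn (fd : FD) (es : List (ℕ × ℕ)) : Bool :=
  (es.all fun e => Nat.blt e.1 fd.l && Nat.blt e.2 fd.l &&
    intBeq (fd.pr (fd.simples.getD e.1 0) (fd.simples.getD e.2 0)) (-1)) &&
  ((List.range fd.l).all fun k => decide (k ∈ closeE es [0])) && !es.isEmpty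

theorem closeE_induction (P : ℕ → Prop) (es : List (ℕ × ℕ))
    (hes : ∀ e ∈ es, (P e.1 ∨ P e.2) → (P e.1 ∧ P e.2)) :
    ∀ K : List ℕ, (∀ k ∈ K, P k) → ∀ k ∈ closeE es K, P k := by
  induction es with
  | nil => intro K hK k hk; exact hK k hk
  | cons e es ih =>
    intro K hK k hk
    unfold closeE at hk
    rw [List.foldl_cons] at hk
    have hes' : ∀ e' ∈ es, (P e'.1 ∨ P e'.2) → (P e'.1 ∧ P e'.2) :=
      fun e' he' => hes e' (List.mem_cons_of_mem _ he')
    by_cases hc : e.1 ∈ K ∨ e.2 ∈ K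
    · rw [if_pos hc] at hk
      have h12 : P e.1 ∧ P e.2 := by
        apply hes e List.mem_cons_self
        rcases hc with hc | hc
        · exact Or.inl (hK _ hc)
        · exact Or.inr (hK _ hc)
      apply ih hes' (e.1 :: e.2 :: K) _ k hk
      intro k' hk'
      simp only [List.mem_cons] at hk'
      rcases hk' with rfl | rfl | hk'
      · exact h12.1
      · exact h12.2
      · exact hK _ hk'
    · rw [if_neg hc] at hk
      exact ih hes' K hK k hk

variable {D : ChevalleyDatum} {fd : FD} {fx : FX} {fc : FC} {fz : FZ} {F : Type*} [Field F]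

namespace Cert12

variable (C : Cert12 D fd fx fc fz)
include C

/-- the field automorphism of the Chevalley group attached to `σ` -/
noncomputable def fieldAut (σ : F ≃+* F) : ↥(D.group F) ≃* ↥(D.group F) where
  toFun g := ⟨bc D (σ : F →+* F) g.val, C.c6.c2.bc_group_le (σ : F →+* F) ⟨g.val, g.property, rfl⟩⟩
  invFun g := ⟨bc D (σ.symm : F →+* F) g.val, C.c6.c2.bc_group_le (σ.symm : F →+* F) ⟨g.val, g.property, rfl⟩⟩
  left_inv g := by
    apply Subtype.ext
    show bc D (σ.symm : F →+* F) (bc D (σ : F →+* F) g.val) = g.val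
    rw [← bc_comp]
    have : ((σ.symm : F →+* F).comp (σ : F →+* F)) = RingHom.id F := by
      ext x; simp
    rw [this, bc_id]
  right_inv g := by
    apply Subtype.ext
    show bc D (σ : F →+* F) (bc D (σ.symm : F →+* F) g.val) = g.val
    rw [← bc_comp]
    have : ((σ : F →+* F).comp (σ.symm : F →+* F)) = RingHom.id F := by
      ext x; simp
    rw [this, bc_id]
  map_mul' a b := by
    apply Subtype.ext
    show bc D (σ : F →+* F) (a.val * b.val) = bc D (σ : F →+* F) a.val * bc D (σ : F →+* F) b.val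
    rw [map_mul]

theorem fieldAut_val (σ : F ≃+* F) (g : ↥(D.group F)) :
    ((C.fieldAut σ g : ↥(D.group F)) : GL D.Idx F) = bc D (σ : F →+* F) g.val := rfl

theorem fieldAut_xg (σ : F ≃+* F) (r : ℕ) (t : F) : C.fieldAut σ (C.xg r t) = C.xg r (σ t) := by
  apply Subtype.ext
  rw [C.fieldAut_val]
  show bc D (σ : F →+* F) (C.c6.c2.xA r t) = C.c6.c2.xA r (σ t)
  rw [C.c6.c2.bc_xA]
  rfl

theorem isFieldAut_fieldAut (σ : F ≃+* F) : D.IsFieldAut (C.fieldAut σ) := by
  refine ⟨σ, fun g r t hr hg => ?_⟩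
  have hgx : g = C.xg r t := Subtype.ext (gl_ext (by rw [hg, C.xg_val, C.c6.c2.xA_val]))
  rw [hgx, C.fieldAut_xg, C.xg_val, C.c6.c2.xA_val]

/-- two automorphisms agreeing on the fundamental root elements and their negatives are equal -/
theorem aut_ext (θ φ : ↥(D.group F) ≃* ↥(D.group F))
    (h1 : ∀ i < fd.l, ∀ t : F, θ (C.xg (fd.simples.getD i 0) t) = φ (C.xg (fd.simples.getD i 0) t))
    (h2 : ∀ i < fd.l, ∀ t : F, θ (C.xg (fd.n - 1 - fd.simples.getD i 0) t) =
      φ (C.xg (fd.n - 1 - fd.simples.getD i 0) t)) (g : ↥(D.group F)) : θ g = φ g := by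
  have key : ∀ x (hx : x ∈ Subgroup.closure (SimGen D fd F)),
      ∀ hx' : x ∈ D.group F, θ ⟨x, hx'⟩ = φ ⟨x, hx'⟩ := by
    intro x hx
    induction hx using Subgroup.closure_induction with
    | mem y hy =>
      intro hy'
      obtain ⟨i, hi, t, hyt | hyt⟩ := hy
      · have : (⟨y, hy'⟩ : ↥(D.group F)) = C.xg (fd.simples.getD i 0) t :=
          Subtype.ext (gl_ext (by rw [hyt, C.xg_val, C.c6.c2.xA_val]))
        rw [this]
        exact h1 i hi t
      · have : (⟨y, hy'⟩ : ↥(D.group F)) = C.xg (fd.n - 1 - fd.simples.getD i 0) t :=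
          Subtype.ext (gl_ext (by rw [hyt, C.xg_val, C.c6.c2.xA_val]))
        rw [this]
        exact h2 i hi t
    | one =>
      intro h1'
      have : (⟨1, h1'⟩ : ↥(D.group F)) = 1 := rfl
      rw [this, map_one, map_one]
    | mul a b ha hb iha ihb =>
      intro hab
      have ha' : a ∈ D.group F := by rw [C.c6.group_eq_closure_SimGen]; exact ha
      have hb' : b ∈ D.group F := by rw [C.c6.group_eq_closure_SimGen]; exact hb
      have : (⟨a * b, hab⟩ : ↥(D.group F)) = ⟨a, ha'⟩ * ⟨b, hb'⟩ := rfl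
      rw [this, map_mul, map_mul, iha ha', ihb hb']
    | inv a ha iha =>
      intro hinv
      have ha' : a ∈ D.group F := by rw [C.c6.group_eq_closure_SimGen]; exact ha
      have : (⟨a⁻¹, hinv⟩ : ↥(D.group F)) = (⟨a, ha'⟩ : ↥(D.group F))⁻¹ := rfl
      rw [this, map_inv, map_inv, iha ha']
  have hg : (g : GL D.Idx F) ∈ Subgroup.closure (SimGen D fd F) := by
    rw [← C.c6.group_eq_closure_SimGen]; exact g.property
  exact key g.val hg g.property

end Cert12

namespace SimpAct

variable {C : Cert12 D fd fx fc fz} {θ : ↥(D.group F) ≃* ↥(D.group F)} {ρ : ℕ → ℕ} {f g : ℕ → F →+ F}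
  (S : SimpAct C θ ρ f g)
include S

/-- the action on the elements `h_{α_j}(t)` when `ρ j = j` and `f_j(1) = 1` -/
theorem map_hg [Finite F] (j : ℕ) (hj : j < fd.l) (hρ : ρ j = j) (h1 : f j 1 = 1) (t : F) (ht : t ≠ 0) :
    θ (C.ng (fd.simples.getD j 0) t * C.ng (fd.simples.getD j 0) (-1)) =
      C.ng (fd.simples.getD j 0) (f j t) * C.ng (fd.simples.getD j 0) (-1) := by
  rw [map_mul, S.map_ng j hj t ht, S.map_ng j hj (-1) (neg_ne_zero.mpr one_ne_zero), hρ, map_neg, h1]

/-- the functional equation along an edge -/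
theorem f_edge [Finite F] (i j : ℕ) (hi : i < fd.l) (hj : j < fd.l) (hρi : ρ i = i) (hρj : ρ j = j)
    (h1 : f j 1 = 1) (t v : F) (ht : t ≠ 0) :
    f i (t ^ (fd.pr (fd.simples.getD i 0) (fd.simples.getD j 0)) * v) =
      (f j t) ^ (fd.pr (fd.simples.getD i 0) (fd.simples.getD j 0)) * f i v := by
  have hpi := C.c6.c2.simple_lt i hi
  have hpj := C.c6.c2.simple_lt j hj
  have e1 := C.hE_conj (fd.simples.getD j 0) (fd.simples.getD i 0) hpj hpi t ht v
  have e1' : (C.ng (fd.simples.getD j 0) t * C.ng (fd.simples.getD j 0) (-1)) * C.xg (fd.simples.getD i 0) v *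
      (C.ng (fd.simples.getD j 0) t * C.ng (fd.simples.getD j 0) (-1))⁻¹ =
      C.xg (fd.simples.getD i 0) (t ^ (fd.pr (fd.simples.getD i 0) (fd.simples.getD j 0)) * v) :=
    Subtype.ext e1
  have e2 := congrArg θ e1'
  rw [map_mul, map_mul, map_inv, S.map_hg j hj hρj h1 t ht, S.pos i hi, S.pos i hi, hρi] at e2
  have e3 := C.hE_conj (fd.simples.getD j 0) (fd.simples.getD i 0) hpj hpi (f j t) (S.f_ne_zero j hj t ht) (f i v)
  have e3' : (C.ng (fd.simples.getD j 0) (f j t) * C.ng (fd.simples.getD j 0) (-1)) *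
      C.xg (fd.simples.getD i 0) (f i v) *
      (C.ng (fd.simples.getD j 0) (f j t) * C.ng (fd.simples.getD j 0) (-1))⁻¹ =
      C.xg (fd.simples.getD i 0) ((f j t) ^ (fd.pr (fd.simples.getD i 0) (fd.simples.getD j 0)) * f i v) :=
    Subtype.ext e3
  rw [e3'] at e2
  exact (C.xg_injective _ hpi _ _ e2).symm

/-- along an edge with pairing `-1`: `f_i` is multiplicative and `f_j = f_i` -/
theorem f_edge_neg_one [Finite F] (i j : ℕ) (hi : i < fd.l) (hj : j < fd.l) (hρi : ρ i = i) (hρj : ρ j = j)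
    (h1i : f i 1 = 1) (h1j : f j 1 = 1)
    (hpr : fd.pr (fd.simples.getD i 0) (fd.simples.getD j 0) = -1) :
    (∀ a b, f i (a * b) = f i a * f i b) ∧ ∀ t, f j t = f i t := by
  have key : ∀ t v : F, t ≠ 0 → f i (t⁻¹ * v) = (f j t)⁻¹ * f i v := by
    intro t v ht
    have := S.f_edge i j hi hj hρi hρj h1j t v ht
    rw [hpr] at this
    simpa using this
  have k1 : ∀ t : F, t ≠ 0 → f i t⁻¹ = (f j t)⁻¹ := by
    intro t ht
    have := key t 1 ht
    rwa [mul_one, h1i, mul_one] at this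
  have hmul : ∀ a b, f i (a * b) = f i a * f i b := by
    intro a b
    by_cases ha : a = 0
    · rw [ha, zero_mul, map_zero, zero_mul]
    · have h2 := key a⁻¹ b (inv_ne_zero ha)
      have h3 := k1 a⁻¹ (inv_ne_zero ha)
      rw [inv_inv] at h2 h3
      rw [h2, h3]
  refine ⟨hmul, fun t => ?_⟩
  by_cases ht : t = 0
  · rw [ht, map_zero, map_zero]
  · have h2 := k1 t ht
    have h3 : f i t * f i t⁻¹ = 1 := by rw [← hmul, mul_inv_cancel₀ ht, h1i]
    have h4 : f i t⁻¹ = (f i t)⁻¹ := eq_inv_of_mul_eq_one_right h3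
    rw [h4, _root_.inv_inj] at h2
    exact h2.symm

end SimpAct

end Cfsg.Agent.Lib.H29.Chev
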