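import Mathlib
import Cfsg.Prelude.Def_ChevAutomorphisms
import Cfsg.Agent.Lib.H29.ChevAut10

/-! Automorphisms of Chevalley groups, part 11: assembly of the decomposition
`θ = inner ∘ diagonal ∘ graph ∘ field`, given the graph automorphisms of the type. -/

set_option autoImplicit false
set_option linter.unusedSimpArgs false
set_option linter.unusedVariables false

namespace Cfsg.Agent.Lib.H29.Chev

open Cfsg.Lie Matrix

variable {D : ChevalleyDatum} {fd : FD} {fx : FX} {fc : FC} {fz : FZ} {F : Type*} [Field F]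

/-- a graph automorphism realising the permutation `ρ` of the fundamental roots -/
def GraphFor (C : Cert12 D fd fx fc fz) (F : Type*) [Field F] (ρ : ℕ → ℕ) : Prop :=
  ∃ γ : ↥(D.group F) ≃* ↥(D.group F), D.IsGraphAut γ ∧ ∀ i < fd.l,
    C.Tracks γ (fd.simples.getD i 0) (fd.simples.getD (ρ i) 0) ∧
    C.Tracks γ (fd.n - 1 - fd.simples.getD i 0) (fd.n - 1 - fd.simples.getD (ρ i) 0) ∧
    γ (C.xg (fd.simples.getD i 0) 1) = C.xg (fd.simples.getD (ρ i) 0) 1

namespace SimpAct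

variable {C : Cert12 D fd fx fc fz} {θ : ↥(D.group F) ≃* ↥(D.group F)} {ρ : ℕ → ℕ} {f g : ℕ → F →+ F}
  (S : SimpAct C θ ρ f g)
include S

/-- an automorphism fixing the fundamental root subgroups and the `x_{α_i}(1)` is a field automorphism -/
theorem eq_fieldAut [Finite F] (es : List (ℕ × ℕ)) (hconn : chkConn fd es = true)
    (hρ : ∀ i < fd.l, ρ i = i) (h1 : ∀ i < fd.l, f i 1 = 1) :
    ∃ σ : F ≃+* F, ∀ y, θ y = C.fieldAut σ y := by
  simp only [chkConn, Bool.and_eq_true, List.all_eq_true, natBlt_iff, intBeq_iff, List.mem_range,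
    decide_eq_true_eq, Bool.not_eq_true', List.isEmpty_eq_false_iff] at hconn
  obtain ⟨⟨hes, hall⟩, hne⟩ := hconn
  obtain ⟨e₀, he₀⟩ := List.exists_mem_of_ne_nil es hne
  have hl : 0 < fd.l := by have := (hes e₀ he₀).1.1; omega
  have hedge : ∀ e ∈ es, (∀ a b, f e.1 (a * b) = f e.1 a * f e.1 b) ∧ ∀ t, f e.2 t = f e.1 t := by
    intro e he
    obtain ⟨⟨h1e, h2e⟩, hpr⟩ := hes e he
    exact S.f_edge_neg_one e.1 e.2 h1e h2e (hρ _ h1e) (hρ _ h2e) (h1 _ h1e) (h1 _ h2e) hpr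
  have hP : ∀ k ∈ closeE es [0], ∀ t, f k t = f 0 t := by
    apply closeE_induction (fun k => ∀ t, f k t = f 0 t) es
    · intro e he hor
      obtain ⟨_, h21⟩ := hedge e he
      rcases hor with h | h
      · exact ⟨h, fun t => (h21 t).trans (h t)⟩
      · exact ⟨fun t => (h21 t).symm.trans (h t), h⟩
    · intro k hk
      simp only [List.mem_singleton] at hk
      subst hk
      exact fun t => rfl
  have hall' : ∀ k < fd.l, ∀ t, f k t = f 0 t := fun k hk => hP k (hall k hk)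
  have hmul : ∀ a b, f 0 (a * b) = f 0 a * f 0 b := by
    intro a b
    have h1e := (hes e₀ he₀).1.1
    rw [← hall' e₀.1 h1e, ← hall' e₀.1 h1e, ← hall' e₀.1 h1e]
    exact (hedge e₀ he₀).1 a b
  let σ₀ : F →+* F :=
    { toFun := f 0, map_one' := h1 0 hl, map_mul' := hmul, map_zero' := map_zero _, map_add' := map_add _ }
  have hbij : Function.Bijective σ₀ := ⟨S.finj 0 hl, S.fsurj 0 hl⟩
  let σ : F ≃+* F := RingEquiv.ofBijective σ₀ hbij
  have hσ : ∀ t, σ t = f 0 t := fun t => rfl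
  refine ⟨σ, fun y => ?_⟩
  apply C.aut_ext θ (C.fieldAut σ)
  · intro i hi t
    rw [S.pos i hi, hρ i hi, C.fieldAut_xg, hσ, hall' i hi]
  · intro i hi t
    rw [S.neg i hi, hρ i hi, C.fieldAut_xg]
    congr 1
    by_cases ht : t = 0
    · rw [ht, map_zero, map_zero]
    · rw [S.g_eq i hi t ht, hall' i hi, ← hσ, map_inv₀, inv_inv]

end SimpAct

namespace Cert12

variable (C : Cert12 D fd fx fc fz)
include C

theorem tracks_surj [Finite F] (γ : ↥(D.group F) ≃* ↥(D.group F)) (r r' : ℕ) (hr : r < fd.n) (hr' : r' < fd.n)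
    (h : C.Tracks γ r r') (u : F) : ∃ s : F, γ (C.xg r s) = C.xg r' u := by
  obtain ⟨f, hf, hfi⟩ := C.exists_param γ r r' hr hr' h
  obtain ⟨s, hs⟩ := Finite.surjective_of_injective hfi u
  exact ⟨s, by rw [hf, hs]⟩

/-- the decomposition of an automorphism, given the graph automorphisms -/
theorem aut_decomp [Finite F] (p : ℕ) [hp : Fact p.Prime] [CharP F p] (hO : fd.chkOpp fx = true)
    (hS : DiagConj D F) (es : List (ℕ × ℕ)) (hconn : chkConn fd es = true)
    (hgraph : ∀ (θ' : ↥(D.group F) ≃* ↥(D.group F)) (ρ : ℕ → ℕ) (f g : ℕ → F →+ F),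
      SimpAct C θ' ρ f g → GraphFor C F ρ)
    (θ : ↥(D.group F) ≃* ↥(D.group F)) :
    ∃ (x : ↥(D.group F)) (d γ φ : ↥(D.group F) ≃* ↥(D.group F)),
      D.IsDiagonalAut d ∧ D.IsGraphAut γ ∧ D.IsFieldAut φ ∧ ∀ y : ↥(D.group F), θ y = x * d (γ (φ y)) * x⁻¹ := by
  classical
  have hev := C.c6.c2.heven
  obtain ⟨x, hxU, hxV⟩ := C.exists_std p θ
  have hθ₁ : StdAut (θ.trans (MulAut.conj x)) := ⟨hxU, hxV⟩
  obtain ⟨ρ, f, g, S₁⟩ := C.exists_simpAct hO _ hθ₁
  -- the diagonal automorphism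
  let cval : ℕ → Fˣ := fun k =>
    if h : ∃ i, i < fd.l ∧ ρ i = k then Units.mk0 (f h.choose 1) (S₁.f_ne_zero _ h.choose_spec.1 1 one_ne_zero)
    else 1
  have hcval : ∀ i < fd.l, ((cval (ρ i) : Fˣ) : F) = f i 1 := by
    intro i hi
    have h : ∃ i', i' < fd.l ∧ ρ i' = ρ i := ⟨i, hi, rfl⟩
    have hi' : h.choose = i := S₁.rho_inj _ _ h.choose_spec.1 hi h.choose_spec.2
    show ((if h : ∃ i', i' < fd.l ∧ ρ i' = ρ i then
      Units.mk0 (f h.choose 1) (S₁.f_ne_zero _ h.choose_spec.1 1 one_ne_zero) else 1 : Fˣ) : F) = f i 1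
    rw [dif_pos h, Units.val_mk0, hi']
  have hχ := C.isRootCharacter_chiOf cval
  set d := C.diagAut hS (chiOf fd fx cval) hχ with hd
  -- the second automorphism
  have S₂ : SimpAct C ((θ.trans (MulAut.conj x)).trans d.symm) ρ
      (fun i => (AddMonoidHom.mulLeft ((cval (ρ i) : F))⁻¹).comp (f i))
      (fun i => (AddMonoidHom.mulLeft ((cval (ρ i) : F))).comp (g i)) := by
    refine ⟨S₁.rho_lt, fun i hi t => ?_, fun i hi t => ?_, fun i hi => ?_, fun i hi => ?_⟩
    · rw [MulEquiv.trans_apply, S₁.pos i hi, MulEquiv.symm_apply_eq, hd,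
        C.diagAut_xg hS _ hχ _ (C.c6.c2.simple_lt _ (S₁.rho_lt i hi)), C.chiOf_simple cval _ (S₁.rho_lt i hi)]
      congr 1
      simp only [AddMonoidHom.coe_comp, AddMonoidHom.coe_mulLeft, Function.comp_apply]
      rw [← mul_assoc, mul_inv_cancel₀ (Units.ne_zero _), one_mul]
    · rw [MulEquiv.trans_apply, S₁.neg i hi, MulEquiv.symm_apply_eq, hd,
        C.diagAut_xg hS _ hχ _ (by have := C.c6.c2.simple_lt _ (S₁.rho_lt i hi); omega),
        C.chiOf_negsimple cval _ (S₁.rho_lt i hi)]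
      congr 1
      simp only [AddMonoidHom.coe_comp, AddMonoidHom.coe_mulLeft, Function.comp_apply, Units.val_inv_eq_inv_val]
      rw [← mul_assoc, inv_mul_cancel₀ (Units.ne_zero _), one_mul]
    · intro a b hab
      simp only [AddMonoidHom.coe_comp, AddMonoidHom.coe_mulLeft, Function.comp_apply] at hab
      exact S₁.finj i hi (mul_left_cancel₀ (inv_ne_zero (Units.ne_zero _)) hab)
    · intro a b hab
      simp only [AddMonoidHom.coe_comp, AddMonoidHom.coe_mulLeft, Function.comp_apply] at hab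
      exact S₁.ginj i hi (mul_left_cancel₀ (Units.ne_zero _) hab)
  have h1₂ : ∀ i < fd.l, ((AddMonoidHom.mulLeft ((cval (ρ i) : F))⁻¹).comp (f i)) 1 = 1 := by
    intro i hi
    simp only [AddMonoidHom.coe_comp, AddMonoidHom.coe_mulLeft, Function.comp_apply]
    rw [hcval i hi, inv_mul_cancel₀ (S₁.f_ne_zero i hi 1 one_ne_zero)]
  -- the graph automorphism
  obtain ⟨γ, hγ, hγt⟩ := hgraph _ _ _ _ S₂
  set θ₂ := (θ.trans (MulAut.conj x)).trans d.symm with hθ₂
  have ht₃ : ∀ i < fd.l, C.Tracks (θ₂.trans γ.symm) (fd.simples.getD i 0) (fd.simples.getD i 0) ∧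
      C.Tracks (θ₂.trans γ.symm) (fd.n - 1 - fd.simples.getD i 0) (fd.n - 1 - fd.simples.getD i 0) ∧
      (θ₂.trans γ.symm) (C.xg (fd.simples.getD i 0) 1) = C.xg (fd.simples.getD i 0) 1 := by
    intro i hi
    obtain ⟨t1, t2, t3⟩ := hγt i hi
    have hp := C.c6.c2.simple_lt i hi
    have hp' := C.c6.c2.simple_lt _ (S₂.rho_lt i hi)
    refine ⟨fun t => ?_, fun t => ?_, ?_⟩
    · obtain ⟨s, hs⟩ := C.tracks_surj γ _ _ hp hp' t1 ((AddMonoidHom.mulLeft ((cval (ρ i) : F))⁻¹).comp (f i) t)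
      exact ⟨s, by rw [MulEquiv.trans_apply, S₂.pos i hi, MulEquiv.symm_apply_eq, hs]⟩
    · obtain ⟨s, hs⟩ := C.tracks_surj γ _ _ (by omega) (by omega) t2
        ((AddMonoidHom.mulLeft ((cval (ρ i) : F))).comp (g i) t)
      exact ⟨s, by rw [MulEquiv.trans_apply, S₂.neg i hi, MulEquiv.symm_apply_eq, hs]⟩
    · rw [MulEquiv.trans_apply, S₂.pos i hi, MulEquiv.symm_apply_eq, h1₂ i hi, t3]
  -- the action of the third automorphism
  have key : ∀ i, ∃ fg : (F →+ F) × (F →+ F), i < fd.l →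
      (∀ t, (θ₂.trans γ.symm) (C.xg (fd.simples.getD i 0) t) = C.xg (fd.simples.getD i 0) (fg.1 t)) ∧
      (∀ t, (θ₂.trans γ.symm) (C.xg (fd.n - 1 - fd.simples.getD i 0) t) =
        C.xg (fd.n - 1 - fd.simples.getD i 0) (fg.2 t)) ∧
      Function.Injective fg.1 ∧ Function.Injective fg.2 := by
    intro i
    by_cases hi : i < fd.l
    · obtain ⟨h2, h3, _⟩ := ht₃ i hi
      have hp := C.c6.c2.simple_lt i hi
      obtain ⟨f', hf', hfi'⟩ := C.exists_param _ _ _ hp hp h2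
      obtain ⟨g', hg', hgi'⟩ := C.exists_param _ _ _ (by omega) (by omega) h3
      exact ⟨(f', g'), fun _ => ⟨hf', hg', hfi', hgi'⟩⟩
    · exact ⟨(0, 0), fun h => absurd h hi⟩
  choose fg hfg using key
  have S₃ : SimpAct C (θ₂.trans γ.symm) id (fun i => (fg i).1) (fun i => (fg i).2) :=
    ⟨fun i hi => hi, fun i hi => (hfg i hi).1, fun i hi => (hfg i hi).2.1,
      fun i hi => (hfg i hi).2.2.1, fun i hi => (hfg i hi).2.2.2⟩
  have h1₃ : ∀ i < fd.l, (fg i).1 1 = 1 := by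
    intro i hi
    have := (ht₃ i hi).2.2
    rw [(hfg i hi).1] at this
    exact C.xg_injective _ (C.c6.c2.simple_lt i hi) _ _ this
  obtain ⟨σ, hσ⟩ := S₃.eq_fieldAut es hconn (fun i _ => rfl) h1₃
  refine ⟨x⁻¹, d, γ, C.fieldAut σ, C.isDiagonalAut_diagAut hS _ hχ, hγ, C.isFieldAut_fieldAut σ, fun y => ?_⟩
  have h := hσ y
  rw [MulEquiv.trans_apply, MulEquiv.symm_apply_eq, hθ₂, MulEquiv.trans_apply, MulEquiv.symm_apply_eq,
    MulEquiv.trans_apply, MulAut.conj_apply] at h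
  rw [← h]
  group

end Cert12

end Cfsg.Agent.Lib.H29.Chev
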