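import Mathlib
import Cfsg.Prelude.Def_ChevAutomorphisms
import Cfsg.Agent.Lib.H29.ChevAut11

/-! Automorphisms of Chevalley groups, part 12: enumeration of the symmetries of the diagram by a
pruned search; generic graph automorphism lemmas. -/

set_option autoImplicit false
set_option linter.unusedSimpArgs false
set_option linter.unusedVariables false

namespace Cfsg.Agent.Lib.H29.Chev

open Cfsg.Lie Matrix

/-- may the partial assignment `p` (images of the nodes `0, …, |p| - 1`) be extended by `a`? -/
def okExt (adj : ℕ → ℕ → Bool) (p : List ℕ) (a : ℕ) : Bool :=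
  !(p.contains a) && (List.range p.length).all fun j => adj (p.getD j 0) a == adj j p.length

/-- all extensions of a partial assignment to adjacency preserving injections -/
def extendA (adj : ℕ → ℕ → Bool) (l : ℕ) : ℕ → List ℕ → List (List ℕ)
  | 0, p => [p]
  | fuel + 1, p => (List.range l).flatMap fun a => if okExt adj p a then extendA adj l fuel (p ++ [a]) else []

theorem extendA_sound (adj : ℕ → ℕ → Bool) (l : ℕ) (ρ : ℕ → ℕ) (hlt : ∀ i < l, ρ i < l)
    (hinj : ∀ i < l, ∀ j < l, ρ i = ρ j → i = j)
    (hadj : ∀ i < l, ∀ j < l, i ≠ j → adj (ρ i) (ρ j) = adj i j) :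
    ∀ fuel k, k + fuel = l → (List.range l).map ρ ∈ extendA adj l fuel ((List.range k).map ρ) := by
  intro fuel
  induction fuel with
  | zero =>
    intro k hk
    rw [add_zero] at hk
    subst hk
    simp [extendA]
  | succ fuel ih =>
    intro k hk
    have hkl : k < l := by omega
    unfold extendA
    rw [List.mem_flatMap]
    refine ⟨ρ k, List.mem_range.mpr (hlt k hkl), ?_⟩
    have hok : okExt adj ((List.range k).map ρ) (ρ k) = true := by
      unfold okExt
      rw [Bool.and_eq_true]
      constructor
      · rw [Bool.not_eq_true', ← Bool.not_eq_true, List.contains_iff_mem]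
        intro hmem
        obtain ⟨j, hj, hjk⟩ := List.mem_map.mp hmem
        have hj' := List.mem_range.mp hj
        have := hinj j (by omega) k hkl hjk
        omega
      · rw [List.all_eq_true]
        intro j hj
        rw [List.length_map, List.length_range] at hj ⊢
        have hj' := List.mem_range.mp hj
        have e : ((List.range k).map ρ).getD j 0 = ρ j := by
          rw [List.getD_eq_getElem?_getD, List.getElem?_map, List.getElem?_range hj']
          rfl
        rw [e, hadj j (by omega) k hkl (by omega)]
        simp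
    rw [if_pos hok]
    have := ih (k + 1) (by omega)
    rwa [List.range_succ, List.map_append, List.map_singleton] at this

/-- adjacency in the diagram -/
def adjB (D : ChevalleyDatum) (i j : ℕ) : Bool := !(intBeq (D.bonds i j) 0)

/-- the symmetries of the diagram, as lists of images -/
def autList (D : ChevalleyDatum) (l : ℕ) : List (List ℕ) := extendA (adjB D) l l []

variable {D : ChevalleyDatum} {fd : FD} {fx : FX} {fc : FC} {fz : FZ} {F : Type*} [Field F]

namespace SimpAct

variable {C : Cert12 D fd fx fc fz} {θ : ↥(D.group F) ≃* ↥(D.group F)} {ρ : ℕ → ℕ} {f g : ℕ → F →+ F}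
  (S : SimpAct C θ ρ f g)
include S

theorem map_rho_mem_autList [Finite F] (hA : chkAdj D fd fx = true) :
    (List.range fd.l).map ρ ∈ autList D fd.l := by
  have := extendA_sound (adjB D) fd.l ρ S.rho_lt (fun i hi j hj h => S.rho_inj i j hi hj h)
    (fun i hi j hj hij => by
      unfold adjB
      have := S.bonds_iff hA i j hi hj hij
      by_cases h : D.bonds i j = 0
      · rw [(intBeq_iff _ _).mpr h, (intBeq_iff _ _).mpr (this.mpr h)]
      · have h' : ¬ D.bonds (ρ i) (ρ j) = 0 := fun h0 => h (this.mp h0)
        rw [← intBeq_iff, Bool.not_eq_true] at h h'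
        rw [h, h']) fd.l 0 (by omega)
  simpa [autList] using this

theorem rho_eq_of_map [Finite F] (L : List ℕ) (h : (List.range fd.l).map ρ = L) (i : ℕ) (hi : i < fd.l) :
    ρ i = L.getD i 0 := by
  rw [← h, List.getD_eq_getElem?_getD, List.getElem?_map, List.getElem?_range hi]
  rfl

end SimpAct

namespace Cert12

variable (C : Cert12 D fd fx fc fz)
include C

/-- the identity is a graph automorphism -/
theorem isGraphAut_refl : D.IsGraphAut (MulEquiv.refl ↥(D.group F)) := by
  refine ⟨1, fun i j _ => rfl, fun g i t => ?_⟩
  have e : D.graphExp (ringChar F) i ((1 : Equiv.Perm (Fin D.rank)) i) = 1 := by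
    unfold ChevalleyDatum.graphExp
    simp
  rw [e, pow_one]
  exact ⟨fun h => h, fun h => h⟩

theorem graphFor_id (ρ : ℕ → ℕ) (hρ : ∀ i < fd.l, ρ i = i) : GraphFor C F ρ := by
  refine ⟨MulEquiv.refl _, C.isGraphAut_refl, fun i hi => ?_⟩
  rw [hρ i hi]
  exact ⟨fun t => ⟨t, rfl⟩, fun t => ⟨t, rfl⟩, rfl⟩

end Cert12

end Cfsg.Agent.Lib.H29.Chev
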