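import Mathlib
import Cfsg.Prelude.Def_ChevAutomorphisms
import Cfsg.Agent.Lib.H29.ChevAut12

/-! Automorphisms of Chevalley groups, part 13: from an automorphism with a known action on the
fundamental root elements to a graph automorphism in the sense of the definition; the
characteristic from a commutation. -/

set_option autoImplicit false
set_option linter.unusedSimpArgs false
set_option linter.unusedVariables false

namespace Cfsg.Agent.Lib.H29.Chev

open Cfsg.Lie Matrix

/-- the symmetries found by the search preserve the bonds -/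
def chkSym (D : ChevalleyDatum) (l : ℕ) : Bool :=
  (autList D l).all fun L => (List.range l).all fun i => (List.range l).all fun j =>
    Nat.beq i j || intBeq (D.bonds (L.getD i 0) (L.getD j 0)) (D.bonds i j)

/-- the permutation of `Fin n` given by an injective self-map of `{0, …, n - 1}` -/
noncomputable def permOf {n : ℕ} (ρ : ℕ → ℕ) (hlt : ∀ i < n, ρ i < n)
    (hinj : ∀ i < n, ∀ j < n, ρ i = ρ j → i = j) : Equiv.Perm (Fin n) :=
  Equiv.ofBijective (fun i => ⟨ρ i.val, hlt i.val i.isLt⟩)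
    (Finite.injective_iff_bijective.mp (fun i j h => Fin.ext (hinj i.val i.isLt j.val j.isLt (Fin.mk.inj h))))

theorem permOf_val {n : ℕ} (ρ : ℕ → ℕ) (hlt : ∀ i < n, ρ i < n)
    (hinj : ∀ i < n, ∀ j < n, ρ i = ρ j → i = j) (i : Fin n) : (permOf ρ hlt hinj i).val = ρ i.val := rfl

variable {D : ChevalleyDatum} {fd : FD} {fx : FX} {fc : FC} {fz : FZ} {F : Type*} [Field F]

namespace SimpAct

variable {C : Cert12 D fd fx fc fz} {θ : ↥(D.group F) ≃* ↥(D.group F)} {ρ : ℕ → ℕ} {f g : ℕ → F →+ F}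
  (S : SimpAct C θ ρ f g)
include S

theorem bonds_eq [Finite F] (hA : chkAdj D fd fx = true) (hsym : chkSym D fd.l = true) (i j : ℕ)
    (hi : i < fd.l) (hj : j < fd.l) (hij : i ≠ j) : D.bonds (ρ i) (ρ j) = D.bonds i j := by
  have hmem := S.map_rho_mem_autList hA
  simp only [chkSym, List.all_eq_true, List.mem_range, Bool.or_eq_true, natBeq_iff, intBeq_iff] at hsym
  rcases hsym _ hmem i hi j hj with h | h
  · exact absurd h hij
  · rwa [← S.rho_eq_of_map _ rfl i hi, ← S.rho_eq_of_map _ rfl j hj] at h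

/-- an automorphism acting on the fundamental root elements as a graph automorphism should -/
theorem graphFor_of [Finite F] (hA : chkAdj D fd fx = true) (hsym : chkSym D fd.l = true)
    (γ : ↥(D.group F) ≃* ↥(D.group F)) (e : ℕ → ℕ)
    (he : ∀ i < fd.l, e i = D.graphExp (ringChar F) i (ρ i))
    (hpos : ∀ i < fd.l, ∀ t : F, γ (C.xg (fd.simples.getD i 0) t) = C.xg (fd.simples.getD (ρ i) 0) (t ^ e i))
    (hneg : ∀ i < fd.l, ∀ t : F, γ (C.xg (fd.n - 1 - fd.simples.getD i 0) t) =
      C.xg (fd.n - 1 - fd.simples.getD (ρ i) 0) (t ^ e i)) : GraphFor C F ρ := by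
  have hrk := C.c6.c2.rank_eq
  have hlt : ∀ i < D.rank, ρ i < D.rank := by
    intro i hi
    rw [hrk] at hi ⊢
    exact S.rho_lt i hi
  have hinj : ∀ i < D.rank, ∀ j < D.rank, ρ i = ρ j → i = j := by
    intro i hi j hj h
    rw [hrk] at hi hj
    exact S.rho_inj i j hi hj h
  refine ⟨γ, ⟨permOf ρ hlt hinj, ?_, ?_⟩, fun i hi => ⟨fun t => ⟨_, hpos i hi t⟩, fun t => ⟨_, hneg i hi t⟩, ?_⟩⟩
  · intro i j hij
    rw [permOf_val, permOf_val]
    exact S.bonds_eq hA hsym i.val j.val (by rw [← hrk]; exact i.isLt) (by rw [← hrk]; exact j.isLt)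
      (fun h => hij (Fin.ext h))
  · intro x i t
    have hi : i.val < fd.l := by rw [← hrk]; exact i.isLt
    have hp := C.c6.c2.simple_lt i.val hi
    have hρi := S.rho_lt i.val hi
    have hp' := C.c6.c2.simple_lt _ hρi
    rw [permOf_val, ← he i.val hi]
    constructor
    · intro hx
      have hxg : x = C.xg (fd.simples.getD i.val 0) t :=
        Subtype.ext (gl_ext (by rw [hx, C.xg_val, C.c6.c2.xA_val, C.c6.c2.agrees.simple_eq]))
      rw [hxg, hpos i.val hi, C.xg_val, C.c6.c2.xA_val, C.c6.c2.agrees.simple_eq]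
    · intro hx
      have hxg : x = C.xg (fd.n - 1 - fd.simples.getD i.val 0) t :=
        Subtype.ext (gl_ext (by
          rw [hx, C.xg_val, C.c6.c2.xA_val, C.c6.c2.agrees.simple_eq, C.c6.c2.agrees.neg_eq' _ hp]))
      rw [hxg, hneg i.val hi, C.xg_val, C.c6.c2.xA_val, C.c6.c2.agrees.simple_eq, C.c6.c2.agrees.neg_eq' _ hp']
  · rw [hpos i hi, one_pow]

end SimpAct

namespace Cert12

variable (C : Cert12 D fd fx fc fz)
include C

/-- if `x_r` and `x_s` commute and the commutator formula has the single term `x_{r+s}(m t u)` then `m = 0`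
in the field -/
theorem coeff_zero_of_comm (r s : ℕ) (hr : r < fd.n) (hs : s < fd.n) (h1 : s ≠ r) (h2 : s ≠ fd.n - 1 - r)
    (k : ℕ) (m : ℤ) (hT : fd.commT r s = [(k, m, 1, 1)]) (hk : k < fd.n) (hc : C.Comm F r s) :
    ((m : ℤ) : F) = 0 := by
  have hcf := C.c6.cfg (F := F) r s hr hs h1 h2 1 1
  rw [hT, hc 1 1] at hcf
  simp only [Cert2.ctG, List.map_cons, List.map_nil, List.prod_cons, List.prod_nil, mul_one, pow_one] at hcf
  have h3 : C.c6.c2.xA k (((m : ℤ) : F) * -1) = 1 := by
    have := mul_left_cancel (a := C.c6.c2.xA s (1 : F) * C.c6.c2.xA r (1 : F)) (b := 1)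
      (c := C.c6.c2.xA k (((m : ℤ) : F) * -1)) (by rw [mul_one]; exact hcf)
    exact this.symm
  have := C.c6.xA_eq_one k hk _ h3
  simpa using this

end Cert12

end Cfsg.Agent.Lib.H29.Chev
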