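import Mathlib
import Cfsg.Prelude.Def_ChevAutomorphisms
import Cfsg.Agent.Lib.H29.ChevAut13
import Cfsg.Agent.Lib.H29.ChevGen15

/-! Automorphisms of Chevalley groups, part 14: graph automorphisms from permutation matrices
(one root length). -/

set_option autoImplicit false
set_option linter.unusedSimpArgs false
set_option linter.unusedVariables false

namespace Cfsg.Agent.Lib.H29.Chev

open Cfsg.Lie Matrix

/-- no fundamental root is long (one root length) -/
def chkNoLong (D : ChevalleyDatum) (l : ℕ) : Bool := (List.range l).all fun j => !(D.isLong (D.simple j))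

variable {D : ChevalleyDatum} {fd : FD} {fx : FX} {fc : FC} {fz : FZ} {F : Type*} [Field F]

namespace SimpAct

variable {C : Cert12 D fd fx fc fz} {θ : ↥(D.group F) ≃* ↥(D.group F)} {ρ : ℕ → ℕ} {f g : ℕ → F →+ F}
  (S : SimpAct C θ ρ f g)
include S

theorem graphFor_ga [Finite F] (hA : chkAdj D fd fx = true) (hsym : chkSym D fd.l = true)
    (hlong : chkNoLong D fd.l = true) {ga : GA} (hgi : fd.ChkGInv ga) (hg : fd.ChkGraph ga)
    (hgs : fd.chkGSimple ga = true) (hρ : ∀ i < fd.l, ρ i = ga.rh.getD i 0) : GraphFor C F ρ := by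
  have hrk := C.c6.c2.rank_eq
  have hev := C.c6.c2.heven
  obtain ⟨α, hα⟩ := C.c6.c2.exists_graph_aut (F := F) hgi hg hgs
  simp only [chkNoLong, List.all_eq_true, List.mem_range, Bool.not_eq_true'] at hlong
  refine S.graphFor_of hA hsym α (fun _ => 1) (fun i hi => ?_) (fun i hi t => ?_) (fun i hi t => ?_)
  · unfold ChevalleyDatum.graphExp
    rw [hlong (ρ i) (S.rho_lt i hi)]
    simp
  · have hp := C.c6.c2.simple_lt i hi
    have h1 := (hα (C.xg (fd.simples.getD i 0) t) i t (by rw [hrk]; exact hi)).1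
      (by rw [C.xg_val, C.c6.c2.xA_val, C.c6.c2.agrees.simple_eq])
    rw [pow_one, hρ i hi]
    exact Subtype.ext (gl_ext (by rw [h1, C.xg_val, C.c6.c2.xA_val, C.c6.c2.agrees.simple_eq]))
  · have hp := C.c6.c2.simple_lt i hi
    have hp' := C.c6.c2.simple_lt _ (S.rho_lt i hi)
    rw [hρ i hi] at hp'
    have h1 := (hα (C.xg (fd.n - 1 - fd.simples.getD i 0) t) i t (by rw [hrk]; exact hi)).2
      (by rw [C.xg_val, C.c6.c2.xA_val, C.c6.c2.agrees.simple_eq, C.c6.c2.agrees.neg_eq' _ hp])
    rw [pow_one, hρ i hi]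
    exact Subtype.ext (gl_ext (by
      rw [h1, C.xg_val, C.c6.c2.xA_val, C.c6.c2.agrees.simple_eq, C.c6.c2.agrees.neg_eq' _ hp']))

end SimpAct

end Cfsg.Agent.Lib.H29.Chev
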