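import Mathlib
import Cfsg.Agent.Lib.H29.ChevFast3
import Cfsg.Agent.Lib.H29.ChevDataD4
import Cfsg.Agent.Lib.H29.ChevGen1

/-! Packed tables of a graph automorphism of the Chevalley datum of type D4 (generated) -/

set_option autoImplicit false

namespace Cfsg.Agent.Lib.H29.Chev

def gaD4c : GA where
  rh := [0, 1, 3, 2]
  rhi := [0, 1, 3, 2]
  pt := 0x17001600140015001300120011000f0010000e000c000d000a000b0009000700080006000500040002000300010000
  pti := 0x17001600140015001300120011000f0010000e000c000d000a000b0009000700080006000500040002000300010000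

set_option maxRecDepth 1000000 in
set_option maxHeartbeats 0 in
theorem gaD4c_inv_all : allR 0 28 (fdD4.chkGInvC gaD4c) = true := by decide +kernel

theorem gaD4c_ChkGInv : fdD4.ChkGInv gaD4c := fun c hc => allR_spec gaD4c_inv_all c (Nat.zero_le c) hc

set_option maxRecDepth 1000000 in
set_option maxHeartbeats 0 in
theorem gaD4c_graph_all : allR 0 24 (fdD4.chkGraphR gaD4c) = true := by decide +kernel

theorem gaD4c_ChkGraph : fdD4.ChkGraph gaD4c := fun r hr => allR_spec gaD4c_graph_all r (Nat.zero_le r) hr

set_option maxRecDepth 1000000 in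
set_option maxHeartbeats 0 in
theorem gaD4c_simple : fdD4.chkGSimple gaD4c = true := by decide +kernel

end Cfsg.Agent.Lib.H29.Chev
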