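import Mathlib
import Cfsg.Agent.Lib.H29.ChevFast3
import Cfsg.Agent.Lib.H29.ChevDataD4
import Cfsg.Agent.Lib.H29.ChevGen1

/-! Packed tables of a graph automorphism of the Chevalley datum of type D4 (generated) -/

set_option autoImplicit false

namespace Cfsg.Agent.Lib.H29.Chev

def gaD4d : GA where
  rh := [2, 1, 0, 3]
  rhi := [2, 1, 0, 3]
  pt := 0x170016001501110110000d01140113000f000e0012000c000b00050009000801040103000a01070106000200010000
  pti := 0x170016001501110110000d01140113000f000e0012000c000b00050009000801040103000a01070106000200010000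

set_option maxRecDepth 1000000 in
set_option maxHeartbeats 0 in
theorem gaD4d_inv_all : allR 0 28 (fdD4.chkGInvC gaD4d) = true := by decide +kernel

theorem gaD4d_ChkGInv : fdD4.ChkGInv gaD4d := fun c hc => allR_spec gaD4d_inv_all c (Nat.zero_le c) hc

set_option maxRecDepth 1000000 in
set_option maxHeartbeats 0 in
theorem gaD4d_graph_all : allR 0 24 (fdD4.chkGraphR gaD4d) = true := by decide +kernel

theorem gaD4d_ChkGraph : fdD4.ChkGraph gaD4d := fun r hr => allR_spec gaD4d_graph_all r (Nat.zero_le r) hr

set_option maxRecDepth 1000000 in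
set_option maxHeartbeats 0 in
theorem gaD4d_simple : fdD4.chkGSimple gaD4d = true := by decide +kernel

end Cfsg.Agent.Lib.H29.Chev
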