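import Mathlib
import Cfsg.Prelude.Def_ChevAutomorphisms
import Cfsg.Prelude.Def_ChevD4
import Cfsg.Agent.Lib.H29.ChevAut14
import Cfsg.Agent.Lib.H29.ChevCert13
import Cfsg.Agent.Lib.H29.ChevGAD4a
import Cfsg.Agent.Lib.H29.ChevGAD4b
import Cfsg.Agent.Lib.H29.ChevGAD4c
import Cfsg.Agent.Lib.H29.ChevGAD4d
import Cfsg.Agent.Lib.H29.ChevGAD4e
import Cfsg.Agent.S2157

/-! Automorphisms of the Chevalley groups of type `D₄` -/

set_option autoImplicit false
set_option linter.unusedSimpArgs false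
set_option linter.unusedVariables false

namespace Cfsg.Agent.Lib.H29.Chev

open Cfsg.Lie Matrix

set_option maxRecDepth 1000000 in
set_option maxHeartbeats 0 in
theorem fdD4_chkOpp : fdD4.chkOpp fxD4 = true := by decide +kernel

set_option maxRecDepth 1000000 in
set_option maxHeartbeats 0 in
theorem chkAdj_D4 : chkAdj chevD4 fdD4 fxD4 = true := by decide +kernel

def esD4 : List (ℕ × ℕ) := [(0, 1), (2, 1), (3, 1)]

set_option maxRecDepth 1000000 in
set_option maxHeartbeats 0 in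
theorem chkConn_D4 : chkConn fdD4 esD4 = true := by decide +kernel

set_option maxRecDepth 1000000 in
set_option maxHeartbeats 0 in
theorem autList_D4 : autList chevD4 4 =
    [[0, 1, 2, 3], [0, 1, 3, 2], [2, 1, 0, 3], [2, 1, 3, 0], [3, 1, 0, 2], [3, 1, 2, 0]] := by decide +kernel

set_option maxRecDepth 1000000 in
set_option maxHeartbeats 0 in
theorem chkSym_D4 : chkSym chevD4 4 = true := by decide +kernel

set_option maxRecDepth 1000000 in
set_option maxHeartbeats 0 in
theorem chkNoLong_D4 : chkNoLong chevD4 4 = true := by decide +kernel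

theorem diagConj_D4 {F : Type*} [Field F] : DiagConj chevD4 F :=
  fun χ hχ r hr t => Cfsg.Agent.S2157.result chevD4 (by simp) χ hχ r hr t

theorem graphFor_D4 {F : Type*} [Field F] [Finite F] (θ' : ↥(chevD4.group F) ≃* ↥(chevD4.group F)) (ρ : ℕ → ℕ)
    (f g : ℕ → F →+ F) (S : SimpAct cert12_D4 θ' ρ f g) : GraphFor cert12_D4 F ρ := by
  have hmem := S.map_rho_mem_autList chkAdj_D4
  rw [show fdD4.l = 4 from rfl, autList_D4] at hmem
  simp only [List.mem_cons, List.not_mem_nil, or_false] at hmem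
  rcases hmem with hmem | hmem | hmem | hmem | hmem | hmem
  · apply cert12_D4.graphFor_id
    intro i hi
    rw [S.rho_eq_of_map _ hmem i hi]
    have hi' : i < 4 := hi
    interval_cases i <;> rfl
  · exact S.graphFor_ga chkAdj_D4 chkSym_D4 chkNoLong_D4 gaD4c_ChkGInv gaD4c_ChkGraph gaD4c_simple
      (fun i hi => S.rho_eq_of_map _ hmem i hi)
  · exact S.graphFor_ga chkAdj_D4 chkSym_D4 chkNoLong_D4 gaD4d_ChkGInv gaD4d_ChkGraph gaD4d_simple
      (fun i hi => S.rho_eq_of_map _ hmem i hi)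
  · exact S.graphFor_ga chkAdj_D4 chkSym_D4 chkNoLong_D4 gaD4a_ChkGInv gaD4a_ChkGraph gaD4a_simple
      (fun i hi => S.rho_eq_of_map _ hmem i hi)
  · exact S.graphFor_ga chkAdj_D4 chkSym_D4 chkNoLong_D4 gaD4b_ChkGInv gaD4b_ChkGraph gaD4b_simple
      (fun i hi => S.rho_eq_of_map _ hmem i hi)
  · exact S.graphFor_ga chkAdj_D4 chkSym_D4 chkNoLong_D4 gaD4e_ChkGInv gaD4e_ChkGraph gaD4e_simple
      (fun i hi => S.rho_eq_of_map _ hmem i hi)

/-- decomposition of the automorphisms of `D₄(q)` -/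
theorem aut_decomp_D4 {F : Type*} [Field F] [Finite F] (θ : ↥(chevD4.group F) ≃* ↥(chevD4.group F)) :
    ∃ (x : ↥(chevD4.group F)) (d γ φ : ↥(chevD4.group F) ≃* ↥(chevD4.group F)),
      chevD4.IsDiagonalAut d ∧ chevD4.IsGraphAut γ ∧ chevD4.IsFieldAut φ ∧
        ∀ y : ↥(chevD4.group F), θ y = x * d (γ (φ y)) * x⁻¹ := by
  obtain ⟨p, hp⟩ := CharP.exists F
  have : Fact p.Prime := ⟨CharP.char_is_prime F p⟩
  exact cert12_D4.aut_decomp p fdD4_chkOpp diagConj_D4 esD4 chkConn_D4 graphFor_D4 θ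

end Cfsg.Agent.Lib.H29.Chev
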