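import Mathlib
import Cfsg.Prelude.Def_LieTwisted
import Cfsg.Prelude.Def_LieExceptional
import Cfsg.Agent.Lib.H29.ChevTw33
import Cfsg.Agent.Lib.H29.ChevTwSimA

/-!
# Perfectness and simplicity of the twisted groups of types `D₄` and `E₆`
-/

set_option autoImplicit false
set_option linter.unusedSectionVars false
set_option linter.unusedSimpArgs false
set_option linter.unusedVariables false

namespace Cfsg.Agent.Lib.H29.Chev

open Cfsg.Lie Matrix

def witD4a : List (ℕ × ℕ × ℕ × ℕ × ℕ) := [(14, 3, 14, 22, 23), (9, 6, 14, 22, 23)]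

def witE6a : List (ℕ × ℕ × ℕ × ℕ × ℕ) :=
  [(46, 4, 39, 46, 47), (25, 9, 39, 46, 47), (39, 2, 39, 46, 47), (32, 12, 39, 46, 47)]

set_option maxRecDepth 1000000 in
set_option maxHeartbeats 0 in
theorem twD4a_perf : fdD4.chkPerfS gaD4a 3 fqD4a srD4a witD4a = true := by decide +kernel

set_option maxRecDepth 1000000 in
set_option maxHeartbeats 0 in
theorem twE6a_perf : fdE6.chkPerfS gaE6a 2 fqE6a srE6a witE6a = true := by decide +kernel

/-- a finite field with at least four elements has a non-zero element whose square is not `1` -/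
theorem exists_sq_ne_one {K : Type*} [Field K] [Fintype K] (h : 4 ≤ Fintype.card K) :
    ∃ u : K, u ≠ 0 ∧ u ^ 2 ≠ 1 := by
  classical
  by_contra hcon
  simp only [not_exists, not_and, not_not] at hcon
  have hsub : (Finset.univ : Finset K) ⊆ {0, 1, -1} := by
    intro u _
    by_cases hu : u = 0
    · simp [hu]
    · have h2 := hcon u hu
      have : (u - 1) * (u + 1) = 0 := by linear_combination h2
      rcases mul_eq_zero.mp this with h' | h'
      · have : u = 1 := by linear_combination h'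
        simp [this]
      · have : u = -1 := by linear_combination h'
        simp [this]
  have := Finset.card_le_card hsub
  have h3 : ({0, 1, -1} : Finset K).card ≤ 3 := Finset.card_le_three
  rw [Finset.card_univ] at this
  omega

theorem perfect_twistedD4 {K : Type*} [Field K] [Fintype K] {q : ℕ} (hq : IsPrimePow q)
    (hK : Fintype.card K = q ^ 3) : commutator ↥(twistedD4 K q) = ⊤ := by
  obtain ⟨φ, hφ, _, hφk⟩ := exists_frob hq hK
  have e : twistedD4 K q = Subgroup.closure (cert12_D4.twGen gaD4a 3 φ srD4a) := by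
    unfold twistedD4 ChevalleyDatum.genSubgroup
    rw [twGen_D4 q φ hφ]
  rw [e]
  have h2 : 2 ≤ q := hq.one_lt
  have h4 : 4 ≤ Fintype.card K := by
    rw [hK]
    calc 4 ≤ 2 ^ 3 := by norm_num
      _ ≤ q ^ 3 := Nat.pow_le_pow_left h2 3
  exact cert12_D4.tw_perfect twD4a_spec twD4a_spec2 φ (Or.inr rfl) hφk twD4a_chain twD4a_ChkQ twD4a_O witD4a twD4a_perf
    (exists_sq_ne_one h4)

theorem perfect_twistedE6 {K : Type*} [Field K] [Fintype K] {q : ℕ} (hq : IsPrimePow q)
    (hK : Fintype.card K = q ^ 2) : commutator ↥(twistedE6 K q) = ⊤ := by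
  obtain ⟨φ, hφ, _, hφk⟩ := exists_frob hq hK
  have e : twistedE6 K q = Subgroup.closure (cert12_E6.twGen gaE6a 2 φ srE6a) := by
    unfold twistedE6 ChevalleyDatum.genSubgroup
    rw [twGen_E6 q φ hφ]
  rw [e]
  have h2 : 2 ≤ q := hq.one_lt
  have h4 : 4 ≤ Fintype.card K := by
    rw [hK]
    calc 4 = 2 ^ 2 := by norm_num
      _ ≤ q ^ 2 := Nat.pow_le_pow_left h2 2
  exact cert12_E6.tw_perfect twE6a_spec twE6a_spec2 φ (Or.inl rfl) hφk twE6a_chain twE6a_ChkQ twE6a_O witE6a twE6a_perf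
    (exists_sq_ne_one h4)

theorem simple_twistedD4 {K : Type*} [Field K] [Fintype K] {q : ℕ} (hq : IsPrimePow q)
    (hK : Fintype.card K = q ^ 3) :
    IsSimpleGroup ↥(twistedD4 K q) ∧ ¬ IsMulCommutative ↥(twistedD4 K q) := by
  obtain ⟨φ, hφ, _, hφk⟩ := exists_frob hq hK
  have e : twistedD4 K q = Subgroup.closure (cert12_D4.twGen gaD4a 3 φ srD4a) := by
    unfold twistedD4 ChevalleyDatum.genSubgroup
    rw [twGen_D4 q φ hφ]
  rw [e]
  have h2 : 2 ≤ q := hq.one_lt
  have h4 : 4 ≤ Fintype.card K := by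
    rw [hK]
    calc 4 ≤ 2 ^ 3 := by norm_num
      _ ≤ q ^ 3 := Nat.pow_le_pow_left h2 3
  exact cert12_D4.tw_simple twD4a_spec twD4a_spec2 φ (Or.inr rfl) hφk twD4a_chain twD4a_ChkQ (by decide) twD4a_scover
    twD4a_O twD4a_injS twD4a_irr 11 twD4a_w0 witD4a twD4a_perf (exists_sq_ne_one h4)

theorem simple_twistedE6 {K : Type*} [Field K] [Fintype K] {q : ℕ} (hq : IsPrimePow q)
    (hK : Fintype.card K = q ^ 2) :
    IsSimpleGroup ↥(twistedE6 K q) ∧ ¬ IsMulCommutative ↥(twistedE6 K q) := by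
  obtain ⟨φ, hφ, _, hφk⟩ := exists_frob hq hK
  have e : twistedE6 K q = Subgroup.closure (cert12_E6.twGen gaE6a 2 φ srE6a) := by
    unfold twistedE6 ChevalleyDatum.genSubgroup
    rw [twGen_E6 q φ hφ]
  rw [e]
  have h2 : 2 ≤ q := hq.one_lt
  have h4 : 4 ≤ Fintype.card K := by
    rw [hK]
    calc 4 = 2 ^ 2 := by norm_num
      _ ≤ q ^ 2 := Nat.pow_le_pow_left h2 2
  exact cert12_E6.tw_simple twE6a_spec twE6a_spec2 φ (Or.inl rfl) hφk twE6a_chain twE6a_ChkQ (by decide) twE6a_scover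
    twE6a_O twE6a_injS twE6a_irr 1151 twE6a_w0 witE6a twE6a_perf (exists_sq_ne_one h4)

end Cfsg.Agent.Lib.H29.Chev
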