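import Mathlib
import Cfsg.Prelude.Def_KGroupFacts
import Cfsg.Prelude.Def_ChevAutomorphisms
import Cfsg.Agent.Lib.H29.ChevAut11

/-! Outer automorphism groups of Chevalley groups, part 1: the order of `Out` through the group of
automorphisms preserving `U` and `V`. -/

set_option autoImplicit false
set_option linter.unusedSimpArgs false
set_option linter.unusedVariables false

namespace Cfsg.Agent.Lib.H29.Chev

open Cfsg.Lie Matrix

/-- the order of the outer automorphism group through a subgroup of standard automorphisms -/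
theorem card_out_mul {G : Type*} [Group G] [Finite G] (Std : Subgroup (MulAut G)) (Hs : Subgroup G)
    (h1 : ∀ θ : MulAut G, ∃ x : G, MulAut.conj x * θ ∈ Std)
    (h2 : ∀ x : G, MulAut.conj x ∈ Std ↔ x ∈ Hs)
    (h3 : ∀ h ∈ Hs, MulAut.conj h = 1 → h = 1) :
    Nat.card (Cfsg.Out G) * Nat.card Hs = Nat.card Std := by
  have hfin : Finite (MulAut G) := Finite.of_injective (fun θ : MulAut G => (θ : G → G))
    (fun a b h => MulEquiv.ext (congrFun h))
  have htop : Std ⊔ Cfsg.Inn G = ⊤ := by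
    rw [eq_top_iff]
    intro θ _
    obtain ⟨x, hx⟩ := h1 θ
    have : θ = (MulAut.conj x * θ) * (θ⁻¹ * (MulAut.conj x)⁻¹ * θ) := by group
    rw [this]
    apply Subgroup.mul_mem_sup hx
    have hn : (MulAut.conj x)⁻¹ ∈ Cfsg.Inn G := Subgroup.inv_mem _ ⟨x, rfl⟩
    have := (Cfsg.innNormal G).conj_mem _ hn θ⁻¹
    simpa using this
  have e1 : Nat.card (Cfsg.Out G) = (Cfsg.Inn G).relIndex Std := by
    rw [← Subgroup.relIndex_sup_right, htop, Subgroup.relIndex_top_right]
    rfl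
  have e2 : Nat.card ((Cfsg.Inn G).subgroupOf Std) = Nat.card Hs := by
    symm
    refine Nat.card_congr (Equiv.ofBijective
      (fun h : Hs => (⟨⟨MulAut.conj (h : G), (h2 _).mpr h.property⟩, ⟨(h : G), rfl⟩⟩ :
        (Cfsg.Inn G).subgroupOf Std)) ⟨?_, ?_⟩)
    · intro a b hab
      have h' : MulAut.conj (a : G) = MulAut.conj (b : G) :=
        congrArg (fun z => ((z : Std) : MulAut G)) (congrArg Subtype.val hab)
      have h4 : MulAut.conj ((a : G) * (b : G)⁻¹) = 1 := by
        rw [map_mul, map_inv, h', mul_inv_cancel]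
      have := h3 _ (Hs.mul_mem a.property (Hs.inv_mem b.property)) h4
      exact Subtype.ext (mul_inv_eq_one.mp this)
    · rintro ⟨⟨θ, hθ⟩, ⟨x, hx⟩⟩
      have hx' : MulAut.conj x = θ := hx
      have hxs : x ∈ Hs := (h2 x).mp (by rw [hx']; exact hθ)
      refine ⟨⟨x, hxs⟩, ?_⟩
      apply Subtype.ext
      apply Subtype.ext
      exact hx'
  rw [e1, ← e2]
  exact Subgroup.index_mul_card _

variable {D : ChevalleyDatum} {fd : FD} {fx : FX} {fc : FC} {fz : FZ} {F : Type*} [Field F]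

/-- the automorphisms preserving `U` and `V`, as a subgroup of the automorphism group -/
def stdSub (D : ChevalleyDatum) (F : Type*) [Field F] : Subgroup (MulAut ↥(D.group F)) where
  carrier := {θ | StdAut θ}
  mul_mem' := by
    intro a b ha hb
    refine ⟨fun g => ?_, fun g => ?_⟩
    · rw [MulAut.mul_apply, ← ha.1, ← hb.1]
    · rw [MulAut.mul_apply, ← ha.2, ← hb.2]
  one_mem' := ⟨fun g => Iff.rfl, fun g => Iff.rfl⟩
  inv_mem' := by
    intro a ha
    refine ⟨fun g => ?_, fun g => ?_⟩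
    · rw [ha.1 (a⁻¹ g), MulAut.apply_inv_self]
    · rw [ha.2 (a⁻¹ g), MulAut.apply_inv_self]

theorem mem_stdSub (θ : MulAut ↥(D.group F)) : θ ∈ stdSub D F ↔ StdAut θ := Iff.rfl

namespace Cert12

variable (C : Cert12 D fd fx fc fz)
include C

theorem H1_conj_U1 (h : ↥(D.group F)) (hh : h ∈ H1 D F) (g : ↥(D.group F)) :
    g ∈ U1 D F ↔ h * g * h⁻¹ ∈ U1 D F := by
  rw [Subgroup.mem_subgroupOf] at hh ⊢
  rw [Subgroup.mem_subgroupOf]
  have := Subgroup.mem_normalizer_iff.mp (C.c6.c2.diag_le_normalizer_pos hh) (g : GL D.Idx F)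
  simpa using this

theorem H1_conj_V1 (h : ↥(D.group F)) (hh : h ∈ H1 D F) (g : ↥(D.group F)) :
    g ∈ V1 D F ↔ h * g * h⁻¹ ∈ V1 D F := by
  rw [Subgroup.mem_subgroupOf] at hh ⊢
  rw [Subgroup.mem_subgroupOf]
  have := Subgroup.mem_normalizer_iff.mp (C.c6.c2.diag_le_normalizer_neg hh) (g : GL D.Idx F)
  simpa using this

/-- an element of `U` normalizing `V` is trivial -/
theorem U1_normalizer_V1 [Finite F] (u : ↥(D.group F)) (hu : u ∈ U1 D F)
    (hV : ∀ g, g ∈ V1 D F → u * g * u⁻¹ ∈ V1 D F) : u = 1 := by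
  have hfinU : Finite (U1 D F) := inferInstance
  have hfinV : Finite (V1 D F) := inferInstance
  have hvV : C.n0 * u * (C.n0)⁻¹ ∈ V1 D F := C.n0_conj_pos u hu
  have hn0 : ∀ g, g ∈ V1 D F ↔ C.n0 * g * (C.n0)⁻¹ ∈ U1 D F := by
    intro g
    have := iff_of_forall_mem' (MulAut.conj (C.n0 (F := F))) (V1 D F) (U1 D F) C.card_V1
      (fun g hg => by rw [MulAut.conj_apply]; exact C.n0_conj_neg g hg) g
    rwa [MulAut.conj_apply] at this
  have hvN : ∀ g ∈ U1 D F, MulAut.conj (C.n0 * u * (C.n0)⁻¹) g ∈ U1 D F := by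
    intro g hg
    rw [MulAut.conj_apply]
    have hg' : (C.n0)⁻¹ * g * C.n0 ∈ V1 D F := by
      rw [hn0]
      have : C.n0 * ((C.n0)⁻¹ * g * C.n0) * (C.n0)⁻¹ = g := by group
      rwa [this]
    have h2 := C.n0_conj_neg _ (hV _ hg')
    have : C.n0 * (u * ((C.n0)⁻¹ * g * C.n0) * u⁻¹) * (C.n0)⁻¹ =
        C.n0 * u * (C.n0)⁻¹ * g * (C.n0 * u * (C.n0)⁻¹)⁻¹ := by group
    rwa [this] at h2
  have hvB : C.n0 * u * (C.n0)⁻¹ ∈ B1 D F := by
    rw [← C.normalizer_U1, Subgroup.mem_normalizer_iff]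
    intro g
    have := iff_of_forall_mem (MulAut.conj (C.n0 * u * (C.n0)⁻¹)) (U1 D F) hvN g
    rwa [MulAut.conj_apply] at this
  have h1 : ((C.n0 * u * (C.n0)⁻¹ : ↥(D.group F)) : GL D.Idx F) ∈ D.borelSubgroup F ⊓ D.negUnipotent F :=
    ⟨Subgroup.mem_subgroupOf.mp hvB, Subgroup.mem_subgroupOf.mp hvV⟩
  rw [C.c6.c2.borel_inf_neg, Subgroup.mem_bot] at h1
  have h2 : C.n0 * u * (C.n0)⁻¹ = 1 := Subtype.ext h1
  have : u = (C.n0)⁻¹ * (C.n0 * u * (C.n0)⁻¹) * C.n0 := by group
  rw [this, h2]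
  group

/-- an inner automorphism preserving `U` and `V` is conjugation by an element of `H` -/
theorem conj_mem_stdSub_iff [Finite F] (x : ↥(D.group F)) : MulAut.conj x ∈ stdSub D F ↔ x ∈ H1 D F := by
  constructor
  · rintro ⟨hU, hV⟩
    simp only [MulAut.conj_apply] at hU hV
    have hxB : x ∈ B1 D F := by
      rw [← C.normalizer_U1, Subgroup.mem_normalizer_iff]
      exact hU
    obtain ⟨u, hu, h, hh, huh⟩ := C.c6.c2.borel_mem (x : GL D.Idx F) (Subgroup.mem_subgroupOf.mp hxB)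
    let uG : ↥(D.group F) := ⟨u, C.c6.c2.pos_le_group hu⟩
    let hG : ↥(D.group F) := ⟨h, C.c6.c2.diag_le_group hh⟩
    have hxe : x = uG * hG := Subtype.ext huh.symm
    have huU : uG ∈ U1 D F := Subgroup.mem_subgroupOf.mpr hu
    have hhH : hG ∈ H1 D F := Subgroup.mem_subgroupOf.mpr hh
    have hu1 : uG = 1 := by
      apply C.U1_normalizer_V1 uG huU
      intro g hg
      have h1 : hG⁻¹ * g * hG ∈ V1 D F := by
        have := (C.H1_conj_V1 hG⁻¹ (Subgroup.inv_mem _ hhH) g).mp hg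
        rwa [inv_inv] at this
      have h2 := (hV _).mp h1
      have : x * (hG⁻¹ * g * hG) * x⁻¹ = uG * g * uG⁻¹ := by rw [hxe]; group
      rwa [this] at h2
    rw [hxe, hu1, one_mul]
    exact hhH
  · intro hx
    exact ⟨fun g => by rw [MulAut.conj_apply]; exact C.H1_conj_U1 x hx g,
      fun g => by rw [MulAut.conj_apply]; exact C.H1_conj_V1 x hx g⟩

/-- an element of `H` centralising the Chevalley group is trivial -/
theorem H1_conj_eq_one (h : ↥(D.group F)) (hh : h ∈ H1 D F) (hc : MulAut.conj h = 1) : h = 1 := by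
  have hh' : (h : GL D.Idx F) ∈ D.diagonalSubgroup F := Subgroup.mem_subgroupOf.mp hh
  obtain ⟨hcart, hconj⟩ := C.c6.c2.diag_conj_x (h : GL D.Idx F) hh'
  have hdiag := C.c6.c2.diag_isDiag (h : GL D.Idx F) hh'
  apply Subtype.ext
  apply gl_ext
  ext a b
  by_cases hab : a = b
  · subst hab
    rw [Subgroup.coe_one, Units.val_one, Matrix.one_apply_eq]
    cases a with
    | inl j => exact hcart j
    | inr r =>
      have hr : r.val < fd.n := by rw [← C.c6.c2.nroots_eq]; exact r.isLt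
      have h1 := hconj r 1
      have h2 : (h : GL D.Idx F) * C.c6.c2.xA r.val 1 * (h : GL D.Idx F)⁻¹ = C.c6.c2.xA r.val (1 : F) := by
        have := congrArg (fun θ : MulAut ↥(D.group F) => ((θ (C.xg r.val 1) : ↥(D.group F)) : GL D.Idx F)) hc
        simpa [MulAut.conj_apply, C.xg_val] using this
      rw [h2] at h1
      have := C.xA_param_inj' r.val hr _ _ h1
      rw [mul_one] at this
      exact this.symm
  · rw [hdiag a b hab, Subgroup.coe_one, Units.val_one, Matrix.one_apply_ne hab]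

theorem card_H1 : Nat.card (H1 D F) = Nat.card (D.diagonalSubgroup F) :=
  Nat.card_congr (Subgroup.subgroupOfEquivOfLe C.c6.c2.diag_le_group).toEquiv

/-- the order of `Out` through the automorphisms preserving `U` and `V` -/
theorem card_out_std [Finite F] (p : ℕ) [hp : Fact p.Prime] [CharP F p] :
    Nat.card (Cfsg.Out ↥(D.group F)) * Nat.card (D.diagonalSubgroup F) = Nat.card (stdSub D F) := by
  rw [← C.card_H1]
  apply card_out_mul (stdSub D F) (H1 D F)
  · intro θ
    obtain ⟨x, hxU, hxV⟩ := C.exists_std p θ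
    exact ⟨x, hxU, hxV⟩
  · exact C.conj_mem_stdSub_iff
  · exact C.H1_conj_eq_one

end Cert12

end Cfsg.Agent.Lib.H29.Chev
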