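import Mathlib
import Cfsg.Prelude.Def_ChevStructure
import Cfsg.Prelude.Def_LieExceptional
import Cfsg.Agent.Lib.H29.TwAut1
import Cfsg.Agent.Lib.H29.ChevAut3

/-!
# Automorphisms of twisted groups, part 2: the hypotheses, `U¹`, `V¹` and the longest element
-/

set_option autoImplicit false
set_option linter.unusedSectionVars false
set_option linter.unusedSimpArgs false
set_option linter.unusedVariables false

namespace Cfsg.Agent.Lib.H29.Chev

open Cfsg.Lie Matrix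

variable {D : ChevalleyDatum} {fd : FD} {fx : FX} {fc : FC} {fz : FZ} {F : Type*} [Field F]

/-- the hypotheses on a twisted group, bundled -/
structure TwPack (C : Cert12 D fd fx fc fz) (ga : GA) (k : ℕ) (φ : F →+* F) (RL sreps : List ℕ) (fq : FQ)
    (q : ℕ) : Prop where
  T : TwSpec fd fx ga k
  T2 : TwSpec2 fd fx ga k
  hk : k = 2 ∨ k = 3
  hφk : ∀ x : F, φ^[k] x = x
  S : ChainSpec fd fx ga k RL sreps
  hQ : fd.ChkQ fx ga k sreps RL fq
  hdk : 0 < fq.dk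
  hcov : ∀ i < fd.l, ∃ ii < sreps.length, ∃ j < k, i = rhIt ga j (sreps.getD ii 0)
  hO : ∀ c < fd.l, chkOrb ga k sreps c = true
  hI : fd.chkInjS fx ga k sreps = true
  hw0 : ∃ a0, fd.chkQW0 fq a0 = true
  hq : 1 ≤ q
  hF : Nat.card F = q ^ k
  hφ : ∀ x, φ x = x ^ q

namespace Cert12

variable (C : Cert12 D fd fx fc fz) {ga : GA} {k : ℕ} {φ : F →+* F} {RL sreps : List ℕ} {fq : FQ} {q : ℕ}

/-- the twisted group -/
abbrev G1 (C : Cert12 D fd fx fc fz) (ga : GA) (k : ℕ) (φ : F →+* F) (sreps : List ℕ) : Subgroup (GL D.Idx F) :=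
  Subgroup.closure (C.twGen ga k φ sreps)

variable (W : TwPack C ga k φ RL sreps fq q)
include W

theorem pk_k1 : 1 ≤ k := by
  rcases W.hk with h | h <;> omega

theorem G1_le_group : C.G1 ga k φ sreps ≤ D.group F := (C.twGen_spec W.T W.T2 φ W.hk W.hφk W.S W.hO).1

theorem G1_le_fix : C.G1 ga k φ sreps ≤ fixS (C.c6.c2.sigma W.T.ginv φ) :=
  (C.twGen_spec W.T W.T2 φ W.hk W.hφk W.S W.hO).2.1

theorem fixU_le_G1 : fixS (C.c6.c2.sigma W.T.ginv φ) ⊓ D.posUnipotent F ≤ C.G1 ga k φ sreps :=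
  (C.twGen_spec W.T W.T2 φ W.hk W.hφk W.S W.hO).2.2.1

theorem H1_le_G1 : (fixS (sigT fd ga k φ)).map (chiHom D fd F) ≤ C.G1 ga k φ sreps :=
  (C.twGen_spec W.T W.T2 φ W.hk W.hφk W.S W.hO).2.2.2.1

theorem nS_mem_G1 (i : ℕ) (hi : i ∈ sreps) : C.nS F ga k i ∈ C.G1 ga k φ sreps :=
  (C.twGen_spec W.T W.T2 φ W.hk W.hφk W.S W.hO).2.2.2.2 i hi

theorem sigma_of_mem {g : GL D.Idx F} (hg : g ∈ C.G1 ga k φ sreps) : C.c6.c2.sigma W.T.ginv φ g = g :=
  C.G1_le_fix W hg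

/-- positive elements `x_S(t)` lie in `U` -/
theorem xS_pos_mem (r : ℕ) (hr : r < fd.n) (hpos : fd.n / 2 ≤ r) (t : F) :
    C.xS ga k φ r t ∈ D.posUnipotent F := by
  rw [C.posUnipotent_eq]
  exact C.xS_mem_Vm W.T φ _ r hr hpos (fun _ _ => trivial) t

/-- negative elements `x_S(t)` lie in `V` -/
theorem xS_neg_mem (r : ℕ) (hr : r < fd.n) (hneg : r < fd.n / 2) (t : F) :
    C.xS ga k φ r t ∈ D.negUnipotent F := by
  unfold xS
  apply Subgroup.list_prod_mem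
  intro x hx
  obtain ⟨j, _, rfl⟩ := List.mem_map.mp hx
  unfold aj
  exact C.c6.xA_neg_mem_neg _ (W.T.gIt_lt j r hr) ((C.gIt_neg_iff W.T W.T2 j r hr).mpr hneg) _

/-- the parameter of a positive element `x_S(t)` is determined by the element -/
theorem xS_pos_inj (r : ℕ) (hr : r < fd.n) (hpos : fd.n / 2 ≤ r) (t t' : F)
    (h : C.xS ga k φ r t = C.xS ga k φ r t') : t = t' := by
  have h1 := (C.coord_xS W.T φ (C.pk_k1 W) r hr hpos (W.T.htpos r hr hpos) t).2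
  have h2 := (C.coord_xS W.T φ (C.pk_k1 W) r hr hpos (W.T.htpos r hr hpos) t').2
  rw [h] at h1
  exact h1.symm.trans h2

/-- the longest element: an element of `N ∩ G¹` interchanging the positive and the negative roots -/
theorem exists_n0 : ∃ n0 ∈ D.monomialSubgroup F, n0 ∈ C.G1 ga k φ sreps ∧ ∃ π0 : ℕ → ℕ, C.c6.c2.Perm n0 π0 ∧
    (∀ s < fd.n, fd.n / 2 ≤ s → π0 s < fd.n / 2) ∧ (∀ s < fd.n, s < fd.n / 2 → fd.n / 2 ≤ π0 s) := by
  obtain ⟨a0, ha0⟩ := W.hw0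
  obtain ⟨ha, hw⟩ := fd.chkQW0_spec ha0
  obtain ⟨m, hm, hmG, hπ⟩ := C.exists_rep W.T W.T2 (F := F) W.hQ W.S.sreps_lt (C.G1 ga k φ sreps)
    (fun i hi => C.nS_mem_G1 W i hi) a0 ha
  refine ⟨m, hm, hmG, _, hπ, hw, ?_⟩
  intro s hs hneg
  have hev := C.c6.c2.heven
  obtain ⟨h1, h2, _⟩ := hπ s hs
  have h3 := hw (fd.n - 1 - s) (by omega) (by omega)
  rw [h2] at h3
  omega

end Cert12

end Cfsg.Agent.Lib.H29.Chev
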