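import Mathlib
import Cfsg.Prelude.Def_ChevStructure
import Cfsg.Prelude.Def_LieExceptional
import Cfsg.Agent.Lib.H29.TwAut2

/-!
# Automorphisms of twisted groups, part 3: `V¹`, the decomposition `B¹ = U¹ H¹`, and the Bruhat decomposition
-/

set_option autoImplicit false
set_option linter.unusedSectionVars false
set_option linter.unusedSimpArgs false
set_option linter.unusedVariables false

namespace Cfsg.Agent.Lib.H29.Chev

open Cfsg.Lie Matrix

variable {D : ChevalleyDatum} {fd : FD} {fx : FX} {fc : FC} {fz : FZ} {F : Type*} [Field F]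

namespace Cert12

variable (C : Cert12 D fd fx fc fz) {ga : GA} {k : ℕ} {φ : F →+* F} {RL sreps : List ℕ} {fq : FQ} {q : ℕ}

/-- an element of `N` mapping all negative roots to positive roots conjugates `V` into `U` -/
theorem conj_neg_mem_pos (m : GL D.Idx F) (π : ℕ → ℕ) (hπ : C.c6.c2.Perm m π)
    (hw0 : ∀ s < fd.n, s < fd.n / 2 → fd.n / 2 ≤ π s) (u : GL D.Idx F) (hu : u ∈ D.negUnipotent F) :
    m * u * m⁻¹ ∈ D.posUnipotent F := by
  unfold ChevalleyDatum.negUnipotent at hu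
  induction hu using Subgroup.closure_induction with
  | mem x hx =>
    obtain ⟨s, t, hs, hg⟩ := hx
    obtain ⟨hs2, hs1⟩ := (Chev.isNeg_iff C.c6.c2.agrees C.c6.c2.lev s).mp hs
    have hgx : x = C.c6.c2.xA s t := gl_ext (by rw [hg, C.c6.c2.xA_val])
    obtain ⟨h1, _, c, h3⟩ := hπ s hs1
    rw [hgx, h3]
    exact C.xA_pos_mem _ h1 (hw0 s hs1 hs2) _
  | one => simp
  | mul x y _ _ hx hy =>
    have : m * (x * y) * m⁻¹ = (m * x * m⁻¹) * (m * y * m⁻¹) := by group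
    rw [this]; exact mul_mem hx hy
  | inv x _ hx =>
    have : m * x⁻¹ * m⁻¹ = (m * x * m⁻¹)⁻¹ := by group
    rw [this]; exact inv_mem hx

variable (W : TwPack C ga k φ RL sreps fq q)
include W

/-- the `σ`-fixed elements of `V` lie in the twisted group -/
theorem fixV_le_G1 : fixS (C.c6.c2.sigma W.T.ginv φ) ⊓ D.negUnipotent F ≤ C.G1 ga k φ sreps := by
  obtain ⟨n0, hn0, hn0G, π0, hπ0, hpn, hnp⟩ := C.exists_n0 W
  intro v hv
  obtain ⟨hv1, hv2⟩ := Subgroup.mem_inf.mp hv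
  have hfix := C.sigma_of_mem W hn0G
  have h1 : n0 * v * n0⁻¹ ∈ fixS (C.c6.c2.sigma W.T.ginv φ) ⊓ D.posUnipotent F := by
    refine Subgroup.mem_inf.mpr ⟨?_, C.conj_neg_mem_pos n0 π0 hπ0 hnp v hv2⟩
    rw [mem_fixS, map_mul, map_mul, map_inv, hfix, (mem_fixS _ _).mp hv1]
  have h2 := C.fixU_le_G1 W h1
  have : v = n0⁻¹ * (n0 * v * n0⁻¹) * n0 := by group
  rw [this]
  exact mul_mem (mul_mem (inv_mem hn0G) h2) hn0G

/-- `U ∩ G¹` consists of the `σ`-fixed elements of `U` -/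
theorem pos_inf_G1 : D.posUnipotent F ⊓ C.G1 ga k φ sreps = fixS (C.c6.c2.sigma W.T.ginv φ) ⊓ D.posUnipotent F := by
  apply le_antisymm
  · intro g hg
    exact Subgroup.mem_inf.mpr ⟨C.G1_le_fix W (Subgroup.mem_inf.mp hg).2, (Subgroup.mem_inf.mp hg).1⟩
  · intro g hg
    exact Subgroup.mem_inf.mpr ⟨(Subgroup.mem_inf.mp hg).2, C.fixU_le_G1 W hg⟩

/-- a `σ`-fixed element of `B` is the product of `σ`-fixed elements of `U` and `H` -/
theorem borel_fix_decomp (b : GL D.Idx F) (hb : b ∈ D.borelSubgroup F)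
    (hfix : C.c6.c2.sigma W.T.ginv φ b = b) :
    ∃ u ∈ D.posUnipotent F, C.c6.c2.sigma W.T.ginv φ u = u ∧
    ∃ h ∈ D.diagonalSubgroup F, C.c6.c2.sigma W.T.ginv φ h = h ∧ b = u * h := by
  obtain ⟨u, hu, h, hh, rfl⟩ := C.c6.c2.borel_mem b hb
  rw [map_mul] at hfix
  have hu' := C.sigma_pos W.T W.T2 φ u hu
  have hh' := C.sigma_diag W.T W.T2 φ (C.pk_k1 W) h hh
  set σ := C.c6.c2.sigma W.T.ginv φ with hσ
  have h1 : u⁻¹ * σ u ∈ D.posUnipotent F ⊓ D.diagonalSubgroup F := by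
    refine Subgroup.mem_inf.mpr ⟨mul_mem (inv_mem hu) hu', ?_⟩
    have : u⁻¹ * σ u = h * (σ h)⁻¹ := by
      have : u⁻¹ * σ u = u⁻¹ * (σ u * σ h) * (σ h)⁻¹ := by group
      rw [this, hfix]; group
    rw [this]
    exact mul_mem hh (inv_mem hh')
  rw [C.c6.c2.pos_inf_diag, Subgroup.mem_bot] at h1
  have hu1 : σ u = u := by
    have : σ u = u * (u⁻¹ * σ u) := by group
    rw [this, h1, mul_one]
  have hh1 : σ h = h := by
    rw [hu1] at hfix
    exact mul_left_cancel hfix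
  exact ⟨u, hu, hu1, h, hh, hh1, rfl⟩

/-- the decomposition `G¹ = U¹ N¹ U¹`, with the property needed for the conjugation of `V¹` -/
theorem tw_dec [Finite F] (g : GL D.Idx F) (hg : g ∈ C.G1 ga k φ sreps) :
    ∃ u ∈ D.posUnipotent F ⊓ C.G1 ga k φ sreps, ∃ n ∈ C.G1 ga k φ sreps,
    ∃ u' ∈ D.posUnipotent F ⊓ C.G1 ga k φ sreps, g = u * n * u' ∧
      ((∀ y ∈ D.posUnipotent F ⊓ C.G1 ga k φ sreps, n * y * n⁻¹ ∈ D.posUnipotent F → y = 1) →
        ∀ y ∈ D.posUnipotent F, n * y * n⁻¹ ∈ D.negUnipotent F) := by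
  obtain ⟨u, hu, m, hm, hmfix, u', hu', e⟩ := C.tw_canon W.T W.T2 φ W.hk W.hφk _ (C.G1_le_group W)
    (C.G1_le_fix W) g hg
  have huG := C.fixU_le_G1 W hu
  have hu'G := C.fixU_le_G1 W hu'
  have hmG : m ∈ C.G1 ga k φ sreps := by
    have : m = u⁻¹ * g * u'⁻¹ := by rw [e]; group
    rw [this]
    exact mul_mem (mul_mem (inv_mem huG) hg) (inv_mem hu'G)
  refine ⟨u, Subgroup.mem_inf.mpr ⟨hu.2, huG⟩, m, hmG, u', Subgroup.mem_inf.mpr ⟨hu'.2, hu'G⟩, e, ?_⟩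
  intro hy
  obtain ⟨⟨π, hπ⟩, _⟩ := C.c6.perm_of_mem m hm
  apply C.conj_pos_mem_neg m π hπ
  intro s hs hpos
  by_contra hcon
  obtain ⟨c, hc0, _, hc⟩ := C.conj_xS_perm W.T W.T2 φ (k := k) m hm hmfix π hπ s hs
  have h1K : (1 : F) ∈ Kr fd ga φ s := fun _ => map_one φ
  have hx : C.xS ga k φ s (1 : F) ∈ D.posUnipotent F ⊓ C.G1 ga k φ sreps := by
    refine Subgroup.mem_inf.mpr ⟨C.xS_pos_mem W s hs hpos 1, C.fixU_le_G1 W ?_⟩
    exact Subgroup.mem_inf.mpr ⟨C.sigma_xS W.T φ W.hk W.hφk s hs 1 h1K, C.xS_pos_mem W s hs hpos 1⟩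
  have h2 := hy _ hx (by
    rw [hc]
    exact C.xS_pos_mem W _ (hπ s hs).1 (by omega) _)
  have h3 := C.xS_pos_inj W s hs hpos 1 0 (by rw [h2, C.xS_param_zero])
  exact one_ne_zero h3

end Cert12

end Cfsg.Agent.Lib.H29.Chev
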