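import Mathlib
import Cfsg.Prelude.Def_LieExceptional
import Cfsg.Agent.Lib.H2.BN5

/-!
# Automorphisms of twisted groups, part A: generic group theory

* the minimal parabolic subgroups of a `(B, N)`-pair are `B ∪ B s B`;
* an automorphism of a finite group can be moved by an inner automorphism so as to preserve a Sylow subgroup `U`
  and an "opposite" subgroup `V`;
* the rank one lemma for a pair of opposite root subgroups;
* additive maps of finite fields compatible with squares are multiplicative.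
-/

set_option autoImplicit false
set_option linter.unusedSectionVars false
set_option linter.unusedSimpArgs false
set_option linter.unusedVariables false

namespace Cfsg.Agent.Lib.H29.Chev

section BNsingle

open Cfsg.Agent.Lib.H2.BN

variable {G : Type*} [Group G] (P : Cfsg.BNPair G)

/-- the minimal parabolic subgroup attached to `s` is `B ∪ B s B` -/
theorem parabolic_singleton_cases {s : G} (hs : s ∈ P.S) (g : G) (hg : g ∈ P.parabolic {s}) :
    g ∈ P.B ∨ g ∈ C P s := by
  rw [mem_parabolic_iff (Set.singleton_subset_iff.mpr hs)] at hg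
  obtain ⟨n, hn, hgn⟩ := hg
  have hsN : s ∈ P.N := S_mem_N hs
  have key : ∀ n ∈ Subgroup.closure ({s} : Set G), n ∈ P.N ∧ (Eqv P 1 n ∨ Eqv P s n) := by
    intro n hn
    induction hn using Subgroup.closure_induction with
    | mem x hx =>
      rw [Set.mem_singleton_iff] at hx
      subst hx
      exact ⟨hsN, Or.inr (Eqv.refl _)⟩
    | one => exact ⟨one_mem _, Or.inl (Eqv.refl _)⟩
    | mul x y _ _ hx hy =>
      obtain ⟨hxN, hx⟩ := hx
      obtain ⟨hyN, hy⟩ := hy
      refine ⟨mul_mem hxN hyN, ?_⟩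
      have h11 : Eqv P (1 : G) (s * s) := by
        show (1 : G)⁻¹ * (s * s) ∈ P.B
        rw [inv_one, one_mul]
        exact S_sq hs
      rcases hx with hx | hx <;> rcases hy with hy | hy
      · left
        have := Eqv.mul (one_mem P.N) hxN (one_mem P.N) hx hy
        rwa [one_mul] at this
      · right
        have := Eqv.mul (one_mem P.N) hxN hsN hx hy
        rwa [one_mul] at this
      · right
        have := Eqv.mul hsN hxN (one_mem P.N) hx hy
        rwa [mul_one] at this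
      · left
        have := Eqv.mul hsN hxN hsN hx hy
        exact h11.trans this
    | inv x _ hx =>
      obtain ⟨hxN, hx⟩ := hx
      refine ⟨inv_mem hxN, ?_⟩
      rcases hx with hx | hx
      · left
        have := Eqv.inv (one_mem P.N) hxN hx
        rwa [inv_one] at this
      · right
        have := Eqv.inv hsN hxN hx
        exact (S_eqv_inv hs).trans this
  obtain ⟨hnN, h⟩ := key n hn
  rcases h with h | h
  · left
    rw [← h.C_eq] at hgn
    exact mem_C_one_iff.mp hgn
  · right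
    rw [← h.C_eq] at hgn
    exact hgn

end BNsingle

section Sylow

variable {G : Type*} [Group G] [Finite G]

/-- a subgroup of the order of a Sylow subgroup `U` is conjugate to `U` -/
theorem exists_conj_of_sylow (p : ℕ) [hp : Fact p.Prime] (U : Subgroup G) (hU : IsPGroup p U)
    (hUi : ¬ p ∣ U.index) (K : Subgroup G) (hK : Nat.card K = Nat.card U) :
    ∃ x : G, ∀ g : G, g ∈ K ↔ x * g * x⁻¹ ∈ U := by
  classical
  let P : Sylow p G := hU.toSylow hUi
  have hKp : IsPGroup p K := by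
    obtain ⟨k, hk⟩ := (IsPGroup.iff_card.mp hU)
    exact IsPGroup.of_card (n := k) (by rw [hK, hk])
  have hKi : ¬ p ∣ K.index := by
    intro h
    apply hUi
    have h1 := Subgroup.card_mul_index K
    have h2 := Subgroup.card_mul_index U
    rw [hK] at h1
    have hpos : 0 < Nat.card U := Nat.card_pos
    have : K.index = U.index := Nat.eq_of_mul_eq_mul_left hpos (h1.trans h2.symm)
    rwa [← this]
  let Q : Sylow p G := hKp.toSylow hKi
  obtain ⟨x, hx⟩ := MulAction.exists_smul_eq G Q P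
  refine ⟨x, fun g => ?_⟩
  have hmem : ∀ y : G, y ∈ (P : Subgroup G) ↔ x⁻¹ * y * x ∈ (Q : Subgroup G) := by
    intro y
    rw [← hx, Sylow.coe_subgroup_smul, Subgroup.mem_pointwise_smul_iff_inv_smul_mem]
    simp [MulAut.smul_def, MulAut.conj_apply, MulAut.inv_apply]
  have h1 := hmem (x * g * x⁻¹)
  have e : x⁻¹ * (x * g * x⁻¹) * x = g := by group
  rw [e] at h1
  exact h1.symm

theorem iff_of_forall_mem_fin (ψ : G ≃* G) (K : Subgroup G) (h : ∀ g ∈ K, ψ g ∈ K) (g : G) :
    g ∈ K ↔ ψ g ∈ K := by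
  refine ⟨h g, fun hg => ?_⟩
  have hle : K.map ψ.toMonoidHom ≤ K := by
    rintro _ ⟨k, hk, rfl⟩
    exact h k hk
  have hcard : Nat.card (K.map ψ.toMonoidHom) = Nat.card K :=
    Subgroup.card_map_of_injective ψ.injective
  have heq : K.map ψ.toMonoidHom = K := Subgroup.eq_of_le_of_card_ge hle (le_of_eq hcard.symm)
  rw [← heq] at hg
  obtain ⟨k, hk, e⟩ := hg
  have : k = g := ψ.injective e
  rwa [← this]

/-- every automorphism can be moved by an inner automorphism so as to preserve `U` and `V` -/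
theorem exists_std_abs (p : ℕ) [hp : Fact p.Prime] (U V : Subgroup G) (hU : IsPGroup p U)
    (hUi : ¬ p ∣ U.index) (hUV : ∀ g, g ∈ U → g ∈ V → g = 1) (hcard : Nat.card V = Nat.card U)
    (hdec : ∀ g : G, ∃ u ∈ U, ∃ n : G, ∃ u' ∈ U, g = u * n * u' ∧
      ((∀ y ∈ U, n * y * n⁻¹ ∈ U → y = 1) → ∀ y ∈ U, n * y * n⁻¹ ∈ V))
    (θ : G ≃* G) :
    ∃ x : G, (∀ g, g ∈ U ↔ x * θ g * x⁻¹ ∈ U) ∧ (∀ g, g ∈ V ↔ x * θ g * x⁻¹ ∈ V) := by
  have hK : Nat.card (U.map θ.toMonoidHom) = Nat.card U := Subgroup.card_map_of_injective θ.injective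
  obtain ⟨x₁, hx₁⟩ := exists_conj_of_sylow p U hU hUi _ hK
  -- `θ₁ = conj x₁ ∘ θ` preserves `U`
  have hU₁ : ∀ g, g ∈ U ↔ (θ.trans (MulAut.conj x₁)) g ∈ U := by
    apply iff_of_forall_mem_fin
    intro g hg
    have : θ g ∈ U.map θ.toMonoidHom := ⟨g, hg, rfl⟩
    rw [hx₁] at this
    simpa [MulAut.conj_apply] using this
  set θ₁ := θ.trans (MulAut.conj x₁) with hθ₁
  have hK2 : Nat.card (V.map θ₁.toMonoidHom) = Nat.card U := by
    rw [Subgroup.card_map_of_injective θ₁.injective, hcard]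
  obtain ⟨x, hx⟩ := exists_conj_of_sylow p U hU hUi _ hK2
  obtain ⟨u, hu, n, u', hu', e, hn⟩ := hdec x⁻¹
  have hxe : x = (u * n * u')⁻¹ := by rw [← e, inv_inv]
  -- elements of `θ₁ V`
  have hmemK : ∀ z : G, (u * n * u')⁻¹ * z * (u * n * u') ∈ U → ∃ v ∈ V, θ₁ v = z := by
    intro z hz
    have : z ∈ V.map θ₁.toMonoidHom := by
      rw [hx z, hxe, inv_inv]
      exact hz
    obtain ⟨v, hv, hvz⟩ := this
    exact ⟨v, hv, hvz⟩
  have hn' : ∀ y ∈ U, n * y * n⁻¹ ∈ V := by
    apply hn
    intro y hy hny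
    -- `z = u (n y n⁻¹) u⁻¹ ∈ U ∩ θ₁ V`
    have hzU : u * (n * y * n⁻¹) * u⁻¹ ∈ U := mul_mem (mul_mem hu hny) (inv_mem hu)
    obtain ⟨v, hv, hvz⟩ := hmemK (u * (n * y * n⁻¹) * u⁻¹) (by
      have : (u * n * u')⁻¹ * (u * (n * y * n⁻¹) * u⁻¹) * (u * n * u') = u'⁻¹ * y * u' := by group
      rw [this]
      exact mul_mem (mul_mem (inv_mem hu') hy) hu')
    have hvU : v ∈ U := by
      rw [hU₁, hvz]
      exact hzU
    have hv1 : v = 1 := hUV v hvU hv
    rw [hv1, map_one] at hvz
    have : y = n⁻¹ * (u⁻¹ * (u * (n * y * n⁻¹) * u⁻¹) * u) * n := by group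
    rw [this, ← hvz]
    group
  have huV : ∀ g ∈ V, u⁻¹ * θ₁ g * u ∈ V := by
    intro g hg
    have h1 : θ₁ g ∈ V.map θ₁.toMonoidHom := ⟨g, hg, rfl⟩
    rw [hx, hxe, inv_inv] at h1
    generalize θ₁ g = w at h1 ⊢
    have h2 := hn' _ (mul_mem (mul_mem hu' h1) (inv_mem hu'))
    have : u⁻¹ * w * u = n * (u' * ((u * n * u')⁻¹ * w * (u * n * u')) * u'⁻¹) * n⁻¹ := by group
    rw [this]
    exact h2
  refine ⟨u⁻¹ * x₁, ?_, ?_⟩
  · have : ∀ g, g ∈ U ↔ (θ₁.trans (MulAut.conj u⁻¹)) g ∈ U := by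
      apply iff_of_forall_mem_fin
      intro g hg
      have h1 := (hU₁ g).mp hg
      simp only [MulEquiv.trans_apply, MulAut.conj_apply, inv_inv] at h1 ⊢
      exact mul_mem (mul_mem (inv_mem hu) h1) hu
    intro g
    rw [this g, hθ₁]
    simp only [MulEquiv.trans_apply, MulAut.conj_apply, inv_inv, _root_.mul_inv_rev, mul_assoc]
  · have : ∀ g, g ∈ V ↔ (θ₁.trans (MulAut.conj u⁻¹)) g ∈ V := by
      apply iff_of_forall_mem_fin
      intro g hg
      have h1 := huV g hg
      simp only [MulEquiv.trans_apply, MulAut.conj_apply, inv_inv] at h1 ⊢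
      exact h1
    intro g
    rw [this g, hθ₁]
    simp only [MulEquiv.trans_apply, MulAut.conj_apply, inv_inv, _root_.mul_inv_rev, mul_assoc]

end Sylow

end Cfsg.Agent.Lib.H29.Chev
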