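import Mathlib
import Cfsg.Prelude.Def_ChevStructure
import Cfsg.Prelude.Def_LieExceptional
import Cfsg.Agent.Lib.H29.TwAut3
import Cfsg.Agent.Lib.H29.TwAutA

/-!
# Automorphisms of twisted groups, part 4: every automorphism is standard up to an inner automorphism;
the normalizer of `U¹` is `B¹`
-/

set_option autoImplicit false
set_option linter.unusedSectionVars false
set_option linter.unusedSimpArgs false
set_option linter.unusedVariables false

namespace Cfsg.Agent.Lib.H29.Chev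

open Cfsg.Lie Matrix

section BNnorm

open Cfsg.Agent.Lib.H2.BN

variable {G : Type*} [Group G] (P : Cfsg.BNPair G)

/-- a subgroup normalized by `B` but by no element of `S` has normalizer `B` -/
theorem normalizer_eq_B (U : Subgroup G) (hBU : P.B ≤ Subgroup.normalizer (U : Set G))
    (hS : ∀ s ∈ P.S, s ∉ Subgroup.normalizer (U : Set G)) : Subgroup.normalizer (U : Set G) = P.B := by
  have h1 := eq_parabolic_of_le (P := P) (Subgroup.normalizer (U : Set G)) hBU
  have h2 : {s | s ∈ P.S ∧ s ∈ Subgroup.normalizer (U : Set G)} = (∅ : Set G) := by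
    ext s
    simp only [Set.mem_ofPred_eq, Set.mem_empty_iff_false, iff_false, not_and]
    exact hS s
  rw [h2] at h1
  rw [h1]
  unfold Cfsg.BNPair.parabolic
  rw [Subgroup.closure_empty, sup_bot_eq]

end BNnorm

variable {D : ChevalleyDatum} {fd : FD} {fx : FX} {fc : FC} {fz : FZ} {F : Type*} [Field F]

namespace Cert12

variable (C : Cert12 D fd fx fc fz) {ga : GA} {k : ℕ} {φ : F →+* F} {RL sreps : List ℕ} {fq : FQ} {q : ℕ}

/-- `U¹` as a subgroup of the twisted group -/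
abbrev tU (C : Cert12 D fd fx fc fz) (ga : GA) (k : ℕ) (φ : F →+* F) (sreps : List ℕ) :
    Subgroup ↥(C.G1 ga k φ sreps) := (D.posUnipotent F).subgroupOf (C.G1 ga k φ sreps)

/-- `V¹` as a subgroup of the twisted group -/
abbrev tV (C : Cert12 D fd fx fc fz) (ga : GA) (k : ℕ) (φ : F →+* F) (sreps : List ℕ) :
    Subgroup ↥(C.G1 ga k φ sreps) := (D.negUnipotent F).subgroupOf (C.G1 ga k φ sreps)

/-- `B¹` as a subgroup of the twisted group -/
abbrev tB (C : Cert12 D fd fx fc fz) (ga : GA) (k : ℕ) (φ : F →+* F) (sreps : List ℕ) :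
    Subgroup ↥(C.G1 ga k φ sreps) := (D.borelSubgroup F).subgroupOf (C.G1 ga k φ sreps)

/-- `H¹` as a subgroup of the twisted group -/
abbrev tH (C : Cert12 D fd fx fc fz) (ga : GA) (k : ℕ) (φ : F →+* F) (sreps : List ℕ) :
    Subgroup ↥(C.G1 ga k φ sreps) := (D.diagonalSubgroup F).subgroupOf (C.G1 ga k φ sreps)

/-- the standard automorphisms: those preserving `U¹` and `V¹` -/
def TwStd (C : Cert12 D fd fx fc fz) (ga : GA) (k : ℕ) (φ : F →+* F) (sreps : List ℕ)
    (θ : ↥(C.G1 ga k φ sreps) ≃* ↥(C.G1 ga k φ sreps)) : Prop :=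
  (∀ g, g ∈ C.tU ga k φ sreps ↔ θ g ∈ C.tU ga k φ sreps) ∧ (∀ g, g ∈ C.tV ga k φ sreps ↔ θ g ∈ C.tV ga k φ sreps)

variable (W : TwPack C ga k φ RL sreps fq q)
include W

theorem card_subgroupOf_G1 (A : Subgroup (GL D.Idx F)) :
    Nat.card (A.subgroupOf (C.G1 ga k φ sreps)) = Nat.card ↥(A ⊓ C.G1 ga k φ sreps) := by
  rw [← Subgroup.inf_subgroupOf_right]
  exact Nat.card_congr (Subgroup.subgroupOfEquivOfLe inf_le_right).toEquiv

theorem card_tV_eq [Finite F] : Nat.card (C.tV ga k φ sreps) = Nat.card (C.tU ga k φ sreps) := by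
  obtain ⟨n0, hn0, hn0G, π0, hπ0, hpn, hnp⟩ := C.exists_n0 W
  rw [C.card_subgroupOf_G1 W, C.card_subgroupOf_G1 W]
  have h1 : (D.negUnipotent F ⊓ C.G1 ga k φ sreps).map (MulAut.conj n0).toMonoidHom ≤
      D.posUnipotent F ⊓ C.G1 ga k φ sreps := by
    rintro _ ⟨v, hv, rfl⟩
    obtain ⟨hv1, hv2⟩ := Subgroup.mem_inf.mp hv
    refine Subgroup.mem_inf.mpr ⟨C.conj_neg_mem_pos n0 π0 hπ0 hnp v hv1, ?_⟩
    exact mul_mem (mul_mem hn0G hv2) (inv_mem hn0G)
  have h2 : (D.posUnipotent F ⊓ C.G1 ga k φ sreps).map (MulAut.conj n0).toMonoidHom ≤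
      D.negUnipotent F ⊓ C.G1 ga k φ sreps := by
    rintro _ ⟨v, hv, rfl⟩
    obtain ⟨hv1, hv2⟩ := Subgroup.mem_inf.mp hv
    refine Subgroup.mem_inf.mpr ⟨C.conj_pos_mem_neg n0 π0 hπ0 hpn v hv1, ?_⟩
    exact mul_mem (mul_mem hn0G hv2) (inv_mem hn0G)
  have c1 := Subgroup.card_le_of_le h1
  have c2 := Subgroup.card_le_of_le h2
  rw [Subgroup.card_map_of_injective (MulAut.conj n0).injective] at c1 c2
  exact le_antisymm c1 c2

/-- every automorphism of the twisted group is standard up to an inner automorphism -/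
theorem tw_exists_std [Finite F] (p : ℕ) [hp : Fact p.Prime] (hUp : IsPGroup p (C.tU ga k φ sreps))
    (hidx : ¬ p ∣ (C.tU ga k φ sreps).index) (θ : ↥(C.G1 ga k φ sreps) ≃* ↥(C.G1 ga k φ sreps)) :
    ∃ x : ↥(C.G1 ga k φ sreps), C.TwStd ga k φ sreps (θ.trans (MulAut.conj x)) := by
  have hfin : Finite ↥(C.G1 ga k φ sreps) := inferInstance
  obtain ⟨x, hx1, hx2⟩ := exists_std_abs p (C.tU ga k φ sreps) (C.tV ga k φ sreps) hUp hidx
    (by
      intro g h1 h2
      apply Subtype.ext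
      exact C.pos_inf_neg _ (Subgroup.mem_subgroupOf.mp h1) (Subgroup.mem_subgroupOf.mp h2))
    (C.card_tV_eq W)
    (by
      rintro ⟨g, hg⟩
      obtain ⟨u, hu, n, hn, u', hu', e, h⟩ := C.tw_dec W g hg
      refine ⟨⟨u, (Subgroup.mem_inf.mp hu).2⟩, Subgroup.mem_subgroupOf.mpr (Subgroup.mem_inf.mp hu).1,
        ⟨n, hn⟩, ⟨u', (Subgroup.mem_inf.mp hu').2⟩, Subgroup.mem_subgroupOf.mpr (Subgroup.mem_inf.mp hu').1,
        Subtype.ext e, ?_⟩
      intro hy y hyU
      apply Subgroup.mem_subgroupOf.mpr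
      have := h (by
        intro y' hy' hny'
        have := hy ⟨y', (Subgroup.mem_inf.mp hy').2⟩ (Subgroup.mem_subgroupOf.mpr (Subgroup.mem_inf.mp hy').1)
          (Subgroup.mem_subgroupOf.mpr (by simpa using hny'))
        exact congrArg Subtype.val this) y.1 (Subgroup.mem_subgroupOf.mp hyU)
      simpa using this) θ
  refine ⟨x, ?_, ?_⟩
  · intro g
    rw [hx1 g]
    simp [MulAut.conj_apply]
  · intro g
    rw [hx2 g]
    simp [MulAut.conj_apply]

end Cert12

end Cfsg.Agent.Lib.H29.Chev
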