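import Mathlib
import Cfsg.Prelude.Def_ChevStructure
import Cfsg.Prelude.Def_LieExceptional
import Cfsg.Agent.Lib.H29.TwAut4
import Cfsg.Agent.Lib.H29.ChevTw29

/-!
# Automorphisms of twisted groups, part 5: the normalizer of `U¹` is `B¹`
-/

set_option autoImplicit false
set_option linter.unusedSectionVars false
set_option linter.unusedSimpArgs false
set_option linter.unusedVariables false

namespace Cfsg.Agent.Lib.H29.Chev

open Cfsg.Lie Matrix

variable {D : ChevalleyDatum} {fd : FD} {fx : FX} {fc : FC} {fz : FZ} {F : Type*} [Field F]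

theorem FD.chkInjS_spec {fd : FD} {fx : FX} {ga : GA} {k : ℕ} {sreps : List ℕ}
    (hI : fd.chkInjS fx ga k sreps = true) :
    (∀ i ∈ sreps, ∀ i' ∈ sreps, i = i' ∨ ∃ s < fd.n, fd.piS fx ga k i s ≠ fd.piS fx ga k i' s) ∧
    (∀ i ∈ sreps, ∀ j ∈ orbW ga k i, fd.piS fx ga k i (fd.simples.getD j 0) < fd.n / 2) ∧
    (∀ i ∈ sreps, fd.chkSub fx ga k i = true) := by
  simp only [FD.chkInjS, Bool.and_eq_true, List.all_eq_true, Bool.or_eq_true, natBeq_iff, List.any_eq_true,
    List.mem_range, Bool.not_eq_true', ← Bool.not_eq_true, natBlt_iff] at hI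
  exact ⟨hI.1.1, hI.1.2, hI.2⟩

namespace Cert12

variable (C : Cert12 D fd fx fc fz) {ga : GA} {k : ℕ} {φ : F →+* F} {RL sreps : List ℕ} {fq : FQ} {q : ℕ}

variable (W : TwPack C ga k φ RL sreps fq q)

/-- the `(B, N)`-pair of the twisted group -/
noncomputable abbrev tBN [Finite F] (W : TwPack C ga k φ RL sreps fq q) : Cfsg.BNPair ↥(C.G1 ga k φ sreps) :=
  C.twBN W.T W.T2 φ W.hk W.hφk W.S W.hQ W.hdk W.hcov W.hO W.hI

include W

theorem tBN_B [Finite F] : (C.tBN W).B = C.tB ga k φ sreps := by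
  show (D.borelSubgroup F ⊓ C.G1 ga k φ sreps).subgroupOf (C.G1 ga k φ sreps) = _
  rw [Subgroup.inf_subgroupOf_right]

theorem tBN_S [Finite F] (s : ↥(C.G1 ga k φ sreps)) :
    s ∈ (C.tBN W).S ↔ ∃ i ∈ sreps, (s : GL D.Idx F) = C.nS F ga k i := Iff.rfl

/-- the generators `x_S(t)` as elements of the twisted group -/
theorem xS_mem_G1 (i : ℕ) (hi : i ∈ sreps) (t : F) (ht : t ∈ Kr fd ga φ (fd.simples.getD i 0)) :
    C.xS ga k φ (fd.simples.getD i 0) t ∈ C.G1 ga k φ sreps :=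
  Subgroup.subset_closure ⟨i, hi, t, ht, Or.inl rfl⟩

theorem xS_neg_mem_G1 (i : ℕ) (hi : i ∈ sreps) (t : F) (ht : t ∈ Kr fd ga φ (fd.simples.getD i 0)) :
    C.xS ga k φ (fd.n - 1 - fd.simples.getD i 0) t ∈ C.G1 ga k φ sreps :=
  Subgroup.subset_closure ⟨i, hi, t, ht, Or.inr rfl⟩

/-- the normalizer of `U¹` is `B¹` -/
theorem tw_normalizer_U [Finite F] :
    Subgroup.normalizer (C.tU ga k φ sreps : Set ↥(C.G1 ga k φ sreps)) = C.tB ga k φ sreps := by
  rw [← C.tBN_B W]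
  apply normalizer_eq_B
  · rw [C.tBN_B W]
    intro b hb
    have hbB : (b : GL D.Idx F) ∈ D.borelSubgroup F := Subgroup.mem_subgroupOf.mp hb
    rw [Subgroup.mem_normalizer_iff]
    intro h
    constructor
    · intro hh
      apply Subgroup.mem_subgroupOf.mpr
      have := C.borel_conj_pos _ _ hbB (Subgroup.mem_subgroupOf.mp hh)
      simpa using this
    · intro hh
      apply Subgroup.mem_subgroupOf.mpr
      have h1 : ((b : GL D.Idx F) * h * (b : GL D.Idx F)⁻¹) ∈ D.posUnipotent F := by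
        have := Subgroup.mem_subgroupOf.mp hh
        simpa using this
      have := C.borel_conj_pos _ _ (inv_mem hbB) h1
      have e : (b : GL D.Idx F)⁻¹ * ((b : GL D.Idx F) * h * (b : GL D.Idx F)⁻¹) * ((b : GL D.Idx F)⁻¹)⁻¹ = h := by
        group
      rwa [e] at this
  · rintro s ⟨i, hi, hs⟩ hsn
    have hil := W.S.sreps_lt i hi
    have hp := C.c6.c2.simple_lt i hil
    have hpp := C.c6.simple_pos i hil
    have h1K : (1 : F) ∈ Kr fd ga φ (fd.simples.getD i 0) := fun _ => map_one φ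
    have hxG := C.xS_mem_G1 W i hi 1 h1K
    have hxU : (⟨_, hxG⟩ : ↥(C.G1 ga k φ sreps)) ∈ C.tU ga k φ sreps :=
      Subgroup.mem_subgroupOf.mpr (C.xS_pos_mem W _ hp hpp 1)
    have h2 := (Subgroup.mem_normalizer_iff.mp hsn _).mp hxU
    have h3 : C.nS F ga k i * C.xS ga k φ (fd.simples.getD i 0) (1 : F) * (C.nS F ga k i)⁻¹ ∈
        D.posUnipotent F := by
      have := Subgroup.mem_subgroupOf.mp h2
      simpa [hs] using this
    have h4 := C.nS_conj_xS_mem_neg W.T W.T2 φ i hil ((FD.chkInjS_spec W.hI).2.1 i hi) (1 : F)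
    have h5 := C.pos_inf_neg _ h3 h4
    have h6 : C.xS ga k φ (fd.simples.getD i 0) (1 : F) = 1 := by
      have : C.xS ga k φ (fd.simples.getD i 0) (1 : F) =
          (C.nS F ga k i)⁻¹ * (C.nS F ga k i * C.xS ga k φ (fd.simples.getD i 0) (1 : F) * (C.nS F ga k i)⁻¹) *
            C.nS F ga k i := by group
      rw [this, h5]
      group
    have h7 := C.xS_pos_inj W _ hp hpp 1 0 (by rw [h6, C.xS_param_zero])
    exact one_ne_zero h7

/-- a standard automorphism preserves `B¹` -/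
theorem tB_iff_of_std [Finite F] (θ : ↥(C.G1 ga k φ sreps) ≃* ↥(C.G1 ga k φ sreps))
    (hU : ∀ g, g ∈ C.tU ga k φ sreps ↔ θ g ∈ C.tU ga k φ sreps) (g : ↥(C.G1 ga k φ sreps)) :
    g ∈ C.tB ga k φ sreps ↔ θ g ∈ C.tB ga k φ sreps := by
  have := normalizer_iff_of_iff θ (C.tU ga k φ sreps) hU g
  rwa [C.tw_normalizer_U W] at this

end Cert12

end Cfsg.Agent.Lib.H29.Chev
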