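import Mathlib
import Cfsg.Prelude.Def_ChevStructure
import Cfsg.Prelude.Def_LieExceptional
import Cfsg.Agent.Lib.H29.TwAut5

/-!
# Automorphisms of twisted groups, part 6: the decomposition `U¹ = U_S X_S`
-/

set_option autoImplicit false
set_option linter.unusedSectionVars false
set_option linter.unusedSimpArgs false
set_option linter.unusedVariables false

namespace Cfsg.Agent.Lib.H29.Chev

open Cfsg.Lie Matrix

variable {D : ChevalleyDatum} {fd : FD} {fx : FX} {fc : FC} {fz : FZ} {F : Type*} [Field F]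

namespace FD

variable (fd : FD) (fx : FX) (ga : GA) (k : ℕ)

/-- `w_S` maps the positive roots outside the orbit `S` to positive roots -/
def chkPiSPos (sreps : List ℕ) : Bool :=
  sreps.all fun i => (List.range fd.n).all fun s =>
    Nat.blt s (fd.n / 2) || ((List.range k).any fun j => Nat.beq s (fd.gIt ga j (fd.simples.getD i 0))) ||
      !(Nat.blt (fd.piS fx ga k i s) (fd.n / 2))

end FD

theorem FD.chkPiSPos_spec {fd : FD} {fx : FX} {ga : GA} {k : ℕ} {sreps : List ℕ}
    (h : fd.chkPiSPos fx ga k sreps = true) (i : ℕ) (hi : i ∈ sreps) (s : ℕ) (hs : s < fd.n)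
    (hpos : fd.n / 2 ≤ s) (hne : ∀ j < k, s ≠ fd.gIt ga j (fd.simples.getD i 0)) :
    fd.n / 2 ≤ fd.piS fx ga k i s := by
  simp only [FD.chkPiSPos, List.all_eq_true, Bool.or_eq_true, natBlt_iff, List.any_eq_true, List.mem_range,
    natBeq_iff, Bool.not_eq_true', ← Bool.not_eq_true] at h
  rcases h i hi s hs with (h1 | ⟨j, hj, e⟩) | h1
  · omega
  · exact absurd e (hne j hj)
  · omega

namespace Cert12

variable (C : Cert12 D fd fx fc fz) {ga : GA} {k : ℕ} {φ : F →+* F} {RL sreps : List ℕ} {fq : FQ} {q : ℕ}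

section
include C

theorem ht_simple (i : ℕ) (hi : i < fd.l) : fd.ht fx (fd.simples.getD i 0) = 1 := by
  unfold FD.ht FD.omr
  rw [listsum_eq, Finset.sum_eq_single i]
  · rw [C.rcZ_simple i i hi hi, if_pos rfl, mul_one]
    rfl
  · intro j hj hji
    rw [C.rcZ_simple i j hi (Finset.mem_range.mp hj), if_neg (Ne.symm hji), mul_zero]
  · intro h; exact absurd (Finset.mem_range.mpr hi) h

theorem Vm_mono_pos (Ψ Ψ' : ℕ → Prop) (h : ∀ s, fd.n / 2 ≤ s → s < fd.n → Ψ s → Ψ' s) :
    Vm D F Ψ (fd.n / 2) ≤ Vm D F Ψ' (fd.n / 2) := by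
  unfold Vm
  rw [Subgroup.closure_le]
  intro x hx
  obtain ⟨s, t, hs, hpos, hΨ, hm, rfl⟩ := C.eq_xA_of_VmSet _ _ x hx
  exact C.xA_mem_Vm Ψ' _ s hs hpos (h s hpos hs hΨ) hm t

end

variable (W : TwPack C ga k φ RL sreps fq q)
include W

/-- the roots outside the orbit of the `i`-th fundamental root -/
def PsiOut (fd : FD) (ga : GA) (k i : ℕ) (s : ℕ) : Prop := ∀ j < k, s ≠ fd.gIt ga j (fd.simples.getD i 0)

omit W in
instance (i : ℕ) : DecidablePred (PsiOut fd ga k i) := fun s => by unfold PsiOut; infer_instance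

theorem gIt_mod (r : ℕ) (hr : r < fd.n) (a : ℕ) : ∃ j < k, fd.gIt ga a r = fd.gIt ga j r := by
  have hk1 := C.pk_k1 W
  induction a using Nat.strong_induction_on with
  | _ a ih =>
    by_cases ha : a < k
    · exact ⟨a, ha, rfl⟩
    · obtain ⟨j, hj, e⟩ := ih (a - k) (by omega)
      refine ⟨j, hj, ?_⟩
      have : a = (a - k) + k := by omega
      rw [this, C.gIt_add W.T, (W.T.ord r hr).1, e]

/-- the admissible list with the orbit of the `i`-th fundamental root in front -/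
theorem adm_front (i : ℕ) (hi : i < fd.l) :
    Adm fd fx ga k (fd.simples.getD i 0 :: RL.filter fun r => decide (PsiOut fd ga k i r)) ∧
    ∀ s, fd.n / 2 ≤ s → s < fd.n →
      PsiL fd ga k (fd.simples.getD i 0 :: RL.filter fun r => decide (PsiOut fd ga k i r)) s := by
  have hk1 := C.pk_k1 W
  have hp := C.c6.c2.simple_lt i hi
  have hpp := C.c6.simple_pos i hi
  set r := fd.simples.getD i 0 with hr
  have hsub : ∀ b ∈ RL.filter (fun r => decide (PsiOut fd ga k i r)), b ∈ RL ∧ PsiOut fd ga k i b := by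
    intro b hb
    rw [List.mem_filter, decide_eq_true_eq] at hb
    exact hb
  have hcov : ∀ s, fd.n / 2 ≤ s → s < fd.n →
      PsiL fd ga k (r :: RL.filter fun r => decide (PsiOut fd ga k i r)) s := by
    intro s hps hs
    obtain ⟨r', hr', j, hj, e⟩ := W.S.cover s hps hs
    by_cases hΨ : PsiOut fd ga k i r'
    · refine ⟨r', List.mem_cons_of_mem _ ?_, j, hj, e⟩
      rw [List.mem_filter, decide_eq_true_eq]
      exact ⟨hr', hΨ⟩
    · unfold PsiOut at hΨ
      push Not at hΨ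
      obtain ⟨j', hj', e'⟩ := hΨ
      rw [e', ← C.gIt_add W.T] at e
      obtain ⟨j'', hj'', e''⟩ := C.gIt_mod W r hp (j + j')
      exact ⟨r, List.mem_cons_self, j'', hj'', by rw [e, ← hr, e'']⟩
  refine ⟨⟨?_, ?_, ?_, ?_⟩, hcov⟩
  · intro b hb
    rcases List.mem_cons.mp hb with rfl | hb
    · exact ⟨hpp, hp⟩
    · exact W.S.adm.pos b (hsub b hb).1
  · rw [List.pairwise_cons]
    refine ⟨?_, W.S.adm.sorted.filter _⟩
    intro b hb
    obtain ⟨hb1, hb2⟩ := W.S.adm.pos b (hsub b hb).1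
    have := W.T.htpos b hb2 hb1
    rw [hr, C.ht_simple i hi]
    omega
  · rw [List.pairwise_cons]
    refine ⟨?_, W.S.adm.disj.filter _⟩
    intro b hb j hj e
    obtain ⟨hb1, hb2⟩ := hsub b hb
    obtain ⟨_, hbn⟩ := W.S.adm.pos b hb1
    by_cases hj0 : j = 0
    · subst hj0
      rw [fd.gIt_zero] at e
      exact hb2 0 (by omega) (by rw [fd.gIt_zero]; exact e.symm)
    · apply hb2 (k - j) (by omega)
      rw [← hr, e, ← C.gIt_add W.T, Nat.sub_add_cancel (le_of_lt hj), (W.T.ord b hbn).1]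
  · intro s s' hs hs' hps hps' hne _ _ c hc
    obtain ⟨hc1, _, hc3⟩ := fd.linc_spec C.linc s s' hs hs' c hc
    have hc4 := hc3 hps hps' hne
    exact hcov c.1 (by omega) hc1

/-- the decomposition `U¹ = U_S X_S`, with `n_S U_S n_S⁻¹ ≤ U` -/
theorem pos_decomp_S (hPos : fd.chkPiSPos fx ga k sreps = true) (i : ℕ) (hi : i ∈ sreps) (u : GL D.Idx F)
    (hu : u ∈ D.posUnipotent F) (hfix : C.c6.c2.sigma W.T.ginv φ u = u) :
    ∃ t ∈ Kr fd ga φ (fd.simples.getD i 0), ∃ u' ∈ D.posUnipotent F,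
      u = u' * C.xS ga k φ (fd.simples.getD i 0) t ∧
      C.nS F ga k i * u' * (C.nS F ga k i)⁻¹ ∈ D.posUnipotent F := by
  have hk1 := C.pk_k1 W
  have hil := W.S.sreps_lt i hi
  have hp := C.c6.c2.simple_lt i hil
  have hpp := C.c6.simple_pos i hil
  obtain ⟨hA, hcov⟩ := C.adm_front W i hil
  set r := fd.simples.getD i 0 with hr
  set L := RL.filter fun r => decide (PsiOut fd ga k i r) with hL
  have hg : u⁻¹ ∈ Vm D F (PsiL fd ga k (r :: L)) (fd.n / 2) := by
    have h1 : u⁻¹ ∈ D.posUnipotent F := inv_mem hu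
    rw [C.posUnipotent_eq] at h1
    exact C.Vm_mono_pos _ _ (fun s h1 h2 _ => hcov s h1 h2) h1
  have hfix' : C.c6.c2.sigma W.T.ginv φ u⁻¹ = u⁻¹ := by rw [map_inv, hfix]
  obtain ⟨ht, hw⟩ := C.step_decomp W.T φ hk1 r L hA u⁻¹ hg hfix'
    (fun t ht => C.sigma_xS W.T φ W.hk W.hφk r hp t ht)
  set t₀ := coordM D fd fz F r ((u⁻¹ : GL D.Idx F) : Matrix D.Idx D.Idx F) with ht₀
  have htn : -t₀ ∈ Kr fd ga φ r := by
    intro hf
    rw [map_neg, ht hf]
  refine ⟨-t₀, htn, ((C.xS ga k φ r t₀)⁻¹ * u⁻¹)⁻¹, ?_, ?_, ?_⟩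
  · apply inv_mem
    have hle : Vm D F (PsiL fd ga k L) (fd.n / 2) ≤ D.posUnipotent F := by
      rw [C.posUnipotent_eq]
      exact C.Vm_mono_pos _ _ (fun _ _ _ _ => trivial)
    exact hle hw
  · rw [← C.xS_inv W.T φ W.hk r hp]
    group
  · -- conjugation by `n_S`
    have hπ := C.perm_nS W.T W.T2 (F := F) i hil
    have key : ∀ w ∈ Vm D F (PsiL fd ga k L) (fd.n / 2),
        C.nS F ga k i * w * (C.nS F ga k i)⁻¹ ∈ D.posUnipotent F := by
      intro w hw
      unfold Vm at hw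
      induction hw using Subgroup.closure_induction with
      | mem x hx =>
        obtain ⟨s, t, hs, hpos, ⟨r', hr', j, hj, e⟩, _, rfl⟩ := C.eq_xA_of_VmSet _ _ x hx
        rw [hL, List.mem_filter, decide_eq_true_eq] at hr'
        obtain ⟨hr'1, hr'2⟩ := hr'
        obtain ⟨hr'p, hr'n⟩ := W.S.adm.pos r' hr'1
        obtain ⟨h1, _, c, h3⟩ := hπ s hs
        rw [h3]
        apply C.xA_pos_mem _ h1 _ _
        apply FD.chkPiSPos_spec hPos i hi s hs hpos
        intro j' hj' e'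
        -- then `r'` lies in the orbit of `r`
        rw [e] at e'
        by_cases hj0 : j = 0
        · subst hj0
          rw [fd.gIt_zero] at e'
          exact hr'2 j' hj' e'
        · have e2 : fd.gIt ga (k - j) (fd.gIt ga j r') = fd.gIt ga (k - j) (fd.gIt ga j' (fd.simples.getD i 0)) := by
            rw [e']
          rw [← C.gIt_add W.T, Nat.sub_add_cancel (le_of_lt hj), (W.T.ord r' hr'n).1, ← C.gIt_add W.T] at e2
          obtain ⟨j'', hj'', e''⟩ := C.gIt_mod W (fd.simples.getD i 0) hp (k - j + j')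
          rw [e''] at e2
          exact hr'2 j'' hj'' e2
      | one => simp
      | mul x y _ _ hx hy =>
        have : C.nS F ga k i * (x * y) * (C.nS F ga k i)⁻¹ =
            (C.nS F ga k i * x * (C.nS F ga k i)⁻¹) * (C.nS F ga k i * y * (C.nS F ga k i)⁻¹) := by group
        rw [this]; exact mul_mem hx hy
      | inv x _ hx =>
        have : C.nS F ga k i * x⁻¹ * (C.nS F ga k i)⁻¹ = (C.nS F ga k i * x * (C.nS F ga k i)⁻¹)⁻¹ := by group
        rw [this]; exact inv_mem hx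
    exact key _ (inv_mem hw)

end Cert12

end Cfsg.Agent.Lib.H29.Chev
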