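import Mathlib
import Cfsg.Prelude.Def_ChevStructure
import Cfsg.Prelude.Def_LieExceptional
import Cfsg.Agent.Lib.H29.TwAut6

/-!
# Automorphisms of twisted groups, part 7: the rank one relations for the elements `x_S(t)`, `x_{-S}(t)`
-/

set_option autoImplicit false
set_option linter.unusedSectionVars false
set_option linter.unusedSimpArgs false
set_option linter.unusedVariables false

namespace Cfsg.Agent.Lib.H29.Chev

open Cfsg.Lie Matrix

variable {D : ChevalleyDatum} {fd : FD} {fx : FX} {fc : FC} {fz : FZ} {F : Type*} [Field F]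

theorem iterate_hom_ne_zero (φ : F →+* F) (j : ℕ) (a : F) (ha : a ≠ 0) : φ^[j] a ≠ 0 := by
  induction j with
  | zero => exact ha
  | succ j ih =>
    rw [Function.iterate_succ_apply']
    exact (map_ne_zero φ).mpr ih

theorem iterate_hom_neg (φ : F →+* F) (j : ℕ) (a : F) : φ^[j] (-a) = -(φ^[j] a) := by
  induction j with
  | zero => rfl
  | succ j ih => rw [Function.iterate_succ_apply', Function.iterate_succ_apply', ih, map_neg]

theorem iterate_hom_inv (φ : F →+* F) (j : ℕ) (a : F) : φ^[j] (a⁻¹) = (φ^[j] a)⁻¹ := by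
  induction j with
  | zero => rfl
  | succ j ih => rw [Function.iterate_succ_apply', Function.iterate_succ_apply', ih, map_inv₀]

namespace Cert12

variable (C : Cert12 D fd fx fc fz) {ga : GA} {k : ℕ} (T : TwSpec fd fx ga k) (T2 : TwSpec2 fd fx ga k)
  (φ : F →+* F)
include C T T2

/-- the product of four elements attached to an orbit of fundamental roots, column by column -/
theorem orbit_prod4 (i : ℕ) (hi : i < fd.l) (s1 s2 s3 s4 : Bool) (t1 t2 t3 t4 : F) :
    let X : Bool → F → GL D.Idx F := fun s t => if s then C.xS ga k φ (fd.simples.getD i 0) t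
      else C.xS ga k φ (fd.n - 1 - fd.simples.getD i 0) t
    let Y : Bool → F → ℕ → GL D.Idx F := fun s t j =>
      if s then C.c6.c2.xA (fd.simples.getD (rhIt ga j i) 0) (φ^[j] t)
      else C.c6.c2.xA (fd.n - 1 - fd.simples.getD (rhIt ga j i) 0) (φ^[j] t)
    X s1 t1 * X s2 t2 * X s3 t3 * X s4 t4 =
      ((List.range (if ga.rh.getD i 0 = i then 1 else k)).map fun j =>
        Y s1 t1 j * (Y s2 t2 j * (Y s3 t3 j * Y s4 t4 j))).prod := by
  intro X Y
  set m := (if ga.rh.getD i 0 = i then 1 else k) with hm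
  have eX : ∀ s t, X s t = ((List.range m).map (Y s t)).prod := by
    intro s t
    cases s
    · simp only [X, Y, Bool.false_eq_true, if_false]
      exact (C.xS_simple T T2 φ i hi t).2
    · simp only [X, Y, if_true]
      exact (C.xS_simple T T2 φ i hi t).1
  have hcomm : ∀ f ∈ [Y s1 t1, Y s2 t2, Y s3 t3, Y s4 t4], ∀ g ∈ [Y s1 t1, Y s2 t2, Y s3 t3, Y s4 t4],
      ∀ a < m, ∀ b < m, a ≠ b → Commute (f a) (g b) := by
    intro f hf g hg a ha b hb hab
    have hne : ga.rh.getD i 0 ≠ i := by
      intro h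
      rw [hm, if_pos h] at ha hb
      omega
    rw [hm, if_neg hne] at ha hb
    have hf' : ∃ s t, f = Y s t := by
      simp only [List.mem_cons, List.not_mem_nil, or_false] at hf
      rcases hf with h | h | h | h <;> exact ⟨_, _, h⟩
    have hg' : ∃ s t, g = Y s t := by
      simp only [List.mem_cons, List.not_mem_nil, or_false] at hg
      rcases hg with h | h | h | h <;> exact ⟨_, _, h⟩
    obtain ⟨s, t, rfl⟩ := hf'
    obtain ⟨s', t', rfl⟩ := hg'
    cases s <;> cases s' <;> simp only [Y, Bool.false_eq_true, if_false, if_true]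
    · exact C.cNN T T2 i hi hne a b ha hb hab _ _
    · exact C.cNP T T2 i hi hne b a hb ha (Ne.symm hab) _ _
    · exact (C.cNP T T2 i hi hne a b ha hb hab _ _).symm
    · exact C.cPP T T2 i hi hne a b ha hb hab _ _
  have key := prod_swap [Y s1 t1, Y s2 t2, Y s3 t3, Y s4 t4] m hcomm
  simp only [List.map_cons, List.map_nil, List.prod_cons, List.prod_nil, mul_one] at key
  rw [eX, eX, eX, eX]
  have e1 : ∀ a b c d : GL D.Idx F, a * b * c * d = a * (b * (c * d)) := by
    intro a b c d; group
  rw [e1, key]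

/-- the rank one relations of a twisted group -/
theorem tw_rank_one (i : ℕ) (hi : i < fd.l) (e u : F) (he : e ≠ 0) :
    (C.xS ga k φ (fd.simples.getD i 0) e * C.xS ga k φ (fd.n - 1 - fd.simples.getD i 0) (-e⁻¹) *
        C.xS ga k φ (fd.simples.getD i 0) e) * C.xS ga k φ (fd.simples.getD i 0) u *
      (C.xS ga k φ (fd.simples.getD i 0) e * C.xS ga k φ (fd.n - 1 - fd.simples.getD i 0) (-e⁻¹) *
        C.xS ga k φ (fd.simples.getD i 0) e)⁻¹ =
      C.xS ga k φ (fd.n - 1 - fd.simples.getD i 0) (-(e⁻¹ * e⁻¹) * u) ∧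
    (C.xS ga k φ (fd.simples.getD i 0) e * C.xS ga k φ (fd.n - 1 - fd.simples.getD i 0) (-e⁻¹) *
        C.xS ga k φ (fd.simples.getD i 0) e) * C.xS ga k φ (fd.n - 1 - fd.simples.getD i 0) u *
      (C.xS ga k φ (fd.simples.getD i 0) e * C.xS ga k φ (fd.n - 1 - fd.simples.getD i 0) (-e⁻¹) *
        C.xS ga k φ (fd.simples.getD i 0) e)⁻¹ =
      C.xS ga k φ (fd.simples.getD i 0) (-(e * e) * u) := by
  have hl : ∀ a, rhIt ga a i < fd.l := fun a => C.rhIt_lt T T2 a i hi
  constructor
  · rw [mul_inv_eq_iff_eq_mul]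
    have h1 := C.orbit_prod4 T T2 φ i hi true false true true e (-e⁻¹) e u
    have h2 := C.orbit_prod4 T T2 φ i hi false true false true (-(e⁻¹ * e⁻¹) * u) e (-e⁻¹) e
    simp only [if_true, Bool.false_eq_true, if_false] at h1 h2
    have e2 : ∀ a b c d : GL D.Idx F, a * (b * c * d) = a * b * c * d := by
      intro a b c d; group
    rw [h1, e2, h2]
    congr 1
    apply List.map_congr_left
    intro j _
    have hp := C.c6.c2.simple_lt _ (hl j)
    have key := C.nE_conj_self _ hp (φ^[j] e) (iterate_hom_ne_zero φ j e he) (φ^[j] u)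
    rw [mul_inv_eq_iff_eq_mul] at key
    unfold Cert12.nE at key
    rw [iterate_hom_mul, iterate_hom_neg, iterate_hom_neg, iterate_hom_mul, iterate_hom_inv]
    have e3 : ∀ a b c d : GL D.Idx F, a * (b * (c * d)) = a * b * c * d := by
      intro a b c d; group
    rw [e3, e3, key]
    group
  · rw [mul_inv_eq_iff_eq_mul]
    have h1 := C.orbit_prod4 T T2 φ i hi true false true false e (-e⁻¹) e u
    have h2 := C.orbit_prod4 T T2 φ i hi true true false true (-(e * e) * u) e (-e⁻¹) e
    simp only [if_true, Bool.false_eq_true, if_false] at h1 h2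
    have e2 : ∀ a b c d : GL D.Idx F, a * (b * c * d) = a * b * c * d := by
      intro a b c d; group
    rw [h1, e2, h2]
    congr 1
    apply List.map_congr_left
    intro j _
    have hp := C.c6.c2.simple_lt _ (hl j)
    have key := C.nE_conj_negself _ hp (φ^[j] e) (iterate_hom_ne_zero φ j e he) (φ^[j] u)
    rw [mul_inv_eq_iff_eq_mul] at key
    unfold Cert12.nE at key
    rw [iterate_hom_mul, iterate_hom_neg, iterate_hom_neg, iterate_hom_mul, iterate_hom_inv]
    have e3 : ∀ a b c d : GL D.Idx F, a * (b * (c * d)) = a * b * c * d := by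
      intro a b c d; group
    rw [e3, e3, key]
    group

end Cert12

end Cfsg.Agent.Lib.H29.Chev
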