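import Mathlib
import Cfsg.Prelude.Def_ChevStructure
import Cfsg.Prelude.Def_LieExceptional
import Cfsg.Agent.Lib.H29.TwAut7

/-!
# Automorphisms of twisted groups, part 8: `V¹ ∩ (B¹ ∪ B¹ n_S B¹) = X_{-S}`
-/

set_option autoImplicit false
set_option linter.unusedSectionVars false
set_option linter.unusedSimpArgs false
set_option linter.unusedVariables false

namespace Cfsg.Agent.Lib.H29.Chev

open Cfsg.Lie Matrix

variable {D : ChevalleyDatum} {fd : FD} {fx : FX} {fc : FC} {fz : FZ} {F : Type*} [Field F]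

namespace Cert12

variable (C : Cert12 D fd fx fc fz) {ga : GA} {k : ℕ} {φ : F →+* F} {RL sreps : List ℕ} {fq : FQ} {q : ℕ}

variable (W : TwPack C ga k φ RL sreps fq q)
include W

/-- conjugation of `x_S(t)` by a `σ`-fixed element of `H` -/
theorem diag_conj_xS (h : GL D.Idx F) (hh : h ∈ D.diagonalSubgroup F) (hfix : C.c6.c2.sigma W.T.ginv φ h = h)
    (r : ℕ) (hr : r < fd.n) :
    ∃ c : F, c ≠ 0 ∧ (∀ t ∈ Kr fd ga φ r, c * t ∈ Kr fd ga φ r) ∧
      ∀ t, h * C.xS ga k φ r t * h⁻¹ = C.xS ga k φ r (c * t) :=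
  C.conj_xS_perm W.T W.T2 φ h ((le_sup_left : D.diagonalSubgroup F ≤ D.monomialSubgroup F) hh) hfix id
    (C.c6.perm_diag h hh) r hr

/-- `n_S² ∈ H` -/
theorem nS_sq_mem_diag (i : ℕ) (hi : i < fd.l) : C.nS F ga k i * C.nS F ga k i ∈ D.diagonalSubgroup F := by
  have hπ := C.perm_nS W.T W.T2 (F := F) i hi
  have hsN := C.nS_mem_monomial W.T W.T2 (F := F) i
  have := C.mul_inv_mem_diag W.T W.T2 (C.nS F ga k i * C.nS F ga k i) 1 (mul_mem hsN hsN) (one_mem _) _ _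
    (C.c6.perm_mul hπ hπ) C.c6.perm_one (fun t ht => by
      simp only [Function.comp, id]
      exact W.T2.invol i hi t ht)
  rwa [inv_one, mul_one] at this

/-- `n_S = x_S(1) x_{-S}(-1) x_S(1)` acts on `X_S` and `X_{-S}` -/
theorem nS_conj (i : ℕ) (hi : i < fd.l) (u : F) :
    C.nS F ga k i * C.xS ga k φ (fd.simples.getD i 0) u * (C.nS F ga k i)⁻¹ =
      C.xS ga k φ (fd.n - 1 - fd.simples.getD i 0) (-u) ∧
    C.nS F ga k i * C.xS ga k φ (fd.n - 1 - fd.simples.getD i 0) u * (C.nS F ga k i)⁻¹ =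
      C.xS ga k φ (fd.simples.getD i 0) (-u) := by
  obtain ⟨h1, h2⟩ := C.tw_rank_one W.T W.T2 φ (k := k) i hi 1 u one_ne_zero
  rw [inv_one, ← C.nS_eq W.T W.T2 φ W.hk i hi, mul_one, neg_mul, one_mul] at h1 h2
  exact ⟨h1, h2⟩

/-- the element `h_S(a)` and `n_S` -/
theorem hS_mul_nS (i : ℕ) (hi : i < fd.l) (a : F) :
    C.xS ga k φ (fd.simples.getD i 0) a * C.xS ga k φ (fd.n - 1 - fd.simples.getD i 0) (-a⁻¹) *
      C.xS ga k φ (fd.simples.getD i 0) a = C.hS ga k φ i a * C.nS F ga k i := by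
  have hp := C.c6.c2.simple_lt i hi
  have hev := C.c6.c2.heven
  unfold hS
  have e : C.xS ga k φ (fd.simples.getD i 0) (-1) * C.xS ga k φ (fd.n - 1 - fd.simples.getD i 0) (-(-1 : F)⁻¹) *
      C.xS ga k φ (fd.simples.getD i 0) (-1) = (C.nS F ga k i)⁻¹ := by
    rw [C.nS_eq W.T W.T2 φ W.hk i hi, _root_.mul_inv_rev, _root_.mul_inv_rev, C.xS_inv W.T φ W.hk _ hp,
      C.xS_inv W.T φ W.hk _ (by omega), mul_assoc]
    norm_num
  rw [e]
  group

/-- `h_S(a)` lies in `H` and in the twisted group -/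
theorem hS_mem (i : ℕ) (hi : i ∈ sreps) (a : F) (ha : a ≠ 0) (haK : a ∈ Kr fd ga φ (fd.simples.getD i 0)) :
    C.hS ga k φ i a ∈ D.diagonalSubgroup F ∧ C.hS ga k φ i a ∈ C.G1 ga k φ sreps := by
  have hil := W.S.sreps_lt i hi
  constructor
  · have := C.hS_eq W.T W.T2 φ (k := k) i hil (Units.mk0 a ha)
    rw [Units.val_mk0] at this
    rw [this, C.diag_eq_range]
    exact ⟨_, rfl⟩
  · have hm1K : (-1 : F) ∈ Kr fd ga φ (fd.simples.getD i 0) := fun _ => by rw [map_neg, map_one]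
    have ha' : (-a⁻¹) ∈ Kr fd ga φ (fd.simples.getD i 0) := by
      intro hfix
      rw [map_neg, map_inv₀, haK hfix]
    have h11 : (-(-1 : F)⁻¹) ∈ Kr fd ga φ (fd.simples.getD i 0) := by
      intro hfix
      rw [map_neg, map_inv₀, map_neg, map_one]
    unfold hS
    exact mul_mem (mul_mem (mul_mem (C.xS_mem_G1 W i hi _ haK) (C.xS_neg_mem_G1 W i hi _ ha'))
      (C.xS_mem_G1 W i hi _ haK))
      (mul_mem (mul_mem (C.xS_mem_G1 W i hi _ hm1K) (C.xS_neg_mem_G1 W i hi _ h11)) (C.xS_mem_G1 W i hi _ hm1K))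

/-- `V¹ ∩ B¹ n_S B¹ ⊆ X_{-S}` -/
theorem tw_neg_inf_minimal (hPos : fd.chkPiSPos fx ga k sreps = true) (i : ℕ) (hi : i ∈ sreps)
    (v : GL D.Idx F) (hv : v ∈ D.negUnipotent F) (b b' : GL D.Idx F)
    (hb : b ∈ D.borelSubgroup F) (hb' : b' ∈ D.borelSubgroup F) (hb'G : b' ∈ C.G1 ga k φ sreps)
    (hvG : v ∈ C.G1 ga k φ sreps)
    (e : v = b * C.nS F ga k i * b') :
    ∃ t ∈ Kr fd ga φ (fd.simples.getD i 0), v = C.xS ga k φ (fd.n - 1 - fd.simples.getD i 0) t := by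
  have hil := W.S.sreps_lt i hi
  have hp := C.c6.c2.simple_lt i hil
  have hpp := C.c6.simple_pos i hil
  have hev := C.c6.c2.heven
  have hnp : fd.n - 1 - fd.simples.getD i 0 < fd.n := by omega
  have hnn : fd.n - 1 - fd.simples.getD i 0 < fd.n / 2 := by omega
  have hBV : ∀ g, g ∈ D.borelSubgroup F → g ∈ D.negUnipotent F → g = 1 := by
    intro g h1 h2
    have : g ∈ D.borelSubgroup F ⊓ D.negUnipotent F := ⟨h1, h2⟩
    rwa [C.c6.c2.borel_inf_neg, Subgroup.mem_bot] at this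
  have hUB : D.posUnipotent F ≤ D.borelSubgroup F := le_sup_left
  have hHB : D.diagonalSubgroup F ≤ D.borelSubgroup F := le_sup_right
  -- step 1: `b' = u' h'`
  obtain ⟨u', hu', hu'fix, h', hh', hh'fix, rfl⟩ := C.borel_fix_decomp W b' hb' (C.sigma_of_mem W hb'G)
  -- step 2: `u' = u* x_S(t)`
  obtain ⟨t, ht, us, hus, rfl, hconj⟩ := C.pos_decomp_S W hPos i hi u' hu' hu'fix
  -- step 3
  have hR2 := (C.nS_conj W i hil t).1
  have hsG : C.nS F ga k i ∈ C.G1 ga k φ sreps := C.nS_mem_G1 W i hi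
  have hsfix := C.sigma_of_mem W hsG
  set α := fd.simples.getD i 0 with hα
  set s := C.nS F ga k i with hs
  set b₂ := b * (s * us * s⁻¹) with hb₂
  have hb₂B : b₂ ∈ D.borelSubgroup F := mul_mem hb (hUB hconj)
  have e2 : v = b₂ * C.xS ga k φ (fd.n - 1 - α) (-t) * s * h' := by
    rw [e, hb₂, ← hR2]
    group
  by_cases ht0 : t = 0
  · exfalso
    rw [ht0, neg_zero, C.xS_param_zero, mul_one] at e2
    obtain ⟨c, hc0, _, hc⟩ := C.diag_conj_xS W h' hh' hh'fix (fd.n - 1 - α) hnp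
    have h3 := (C.nS_conj W i hil (c * 1)).2
    rw [← hs, ← hα] at h3
    have hyV : C.xS ga k φ (fd.n - 1 - α) (1 : F) ∈ D.negUnipotent F := C.xS_neg_mem W _ hnp hnn 1
    have e4 : v * C.xS ga k φ (fd.n - 1 - α) (1 : F) * v⁻¹ = b₂ * C.xS ga k φ α (-(c * 1)) * b₂⁻¹ := by
      rw [← h3, ← hc 1, e2]
      group
    have h5 : v * C.xS ga k φ (fd.n - 1 - α) (1 : F) * v⁻¹ ∈ D.negUnipotent F :=
      mul_mem (mul_mem hv hyV) (inv_mem hv)
    have h6 : b₂ * C.xS ga k φ α (-(c * 1)) * b₂⁻¹ ∈ D.borelSubgroup F :=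
      mul_mem (mul_mem hb₂B (hUB (C.xS_pos_mem W α hp hpp _))) (inv_mem hb₂B)
    rw [e4] at h5
    have h7 := hBV _ h6 h5
    have h8 : C.xS ga k φ α (-(c * 1)) = 1 := by
      have : C.xS ga k φ α (-(c * 1)) = b₂⁻¹ * (b₂ * C.xS ga k φ α (-(c * 1)) * b₂⁻¹) * b₂ := by group
      rw [this, h7]
      group
    have h9 := C.xS_pos_inj W α hp hpp _ 0 (by rw [h8, C.xS_param_zero])
    apply hc0
    linear_combination (-1 : F) * h9
  · -- `a = t⁻¹`
    set a := t⁻¹ with ha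
    have ha0 : a ≠ 0 := inv_ne_zero ht0
    have haK : a ∈ Kr fd ga φ α := by
      intro hfix
      rw [ha, map_inv₀, ht hfix]
    have hat : -a⁻¹ = -t := by rw [ha, inv_inv]
    have hN := C.hS_mul_nS W i hil a
    rw [← hs, ← hα, hat] at hN
    obtain ⟨hhS, hhSG⟩ := C.hS_mem W i hi a ha0 haK
    have e3 : C.xS ga k φ (fd.n - 1 - α) (-t) =
        C.xS ga k φ α (-a) * C.hS ga k φ i a * s * C.xS ga k φ α (-a) := by
      rw [← C.xS_inv W.T φ W.hk α hp]
      have : C.xS ga k φ (fd.n - 1 - α) (-t) = (C.xS ga k φ α a)⁻¹ *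
          (C.xS ga k φ α a * C.xS ga k φ (fd.n - 1 - α) (-t) * C.xS ga k φ α a) * (C.xS ga k φ α a)⁻¹ := by group
      rw [this, hN]
      group
    have hR3 := (C.nS_conj W i hil (-a)).1
    rw [← hs, ← hα, neg_neg] at hR3
    have hss := C.nS_sq_mem_diag W i hil
    rw [← hs] at hss
    set b₃ := b₂ * C.xS ga k φ α (-a) * C.hS ga k φ i a with hb₃
    have hb₃B : b₃ ∈ D.borelSubgroup F :=
      mul_mem (mul_mem hb₂B (hUB (C.xS_pos_mem W α hp hpp _))) (hHB hhS)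
    set h'' := s * s * h' with hh''
    have hh''H : h'' ∈ D.diagonalSubgroup F := mul_mem hss hh'
    have hh''fix : C.c6.c2.sigma W.T.ginv φ h'' = h'' := by
      rw [hh'', map_mul, map_mul, hsfix, hh'fix]
    have e5 : v = b₃ * C.xS ga k φ (fd.n - 1 - α) a * h'' := by
      rw [e2, e3, hb₃, hh'', ← hR3]
      group
    obtain ⟨c, hc0, hcK, hc⟩ := C.diag_conj_xS W h''⁻¹ (inv_mem hh''H) (by rw [map_inv, hh''fix])
      (fd.n - 1 - α) hnp
    have hc' := hc a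
    rw [inv_inv] at hc'
    have hw : C.xS ga k φ (fd.n - 1 - α) (c * a) ∈ D.negUnipotent F := C.xS_neg_mem W _ hnp hnn _
    refine ⟨c * a, ?_, ?_⟩
    · have := hcK a (C.Kr_neg W.T W.T2 φ α hp a haK)
      intro hfix
      apply this
      rw [(W.T.neg α hp).1, hfix]
    · generalize C.xS ga k φ (fd.n - 1 - α) a = y at e5 hc'
      generalize C.xS ga k φ (fd.n - 1 - α) (c * a) = w at hc' hw ⊢
      have e7 : b₃ * h'' = v * w⁻¹ := by
        rw [e5, ← hc']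
        group
      have h9 : b₃ * h'' ∈ D.borelSubgroup F := mul_mem hb₃B (hHB hh''H)
      have h10 : v * w⁻¹ ∈ D.negUnipotent F := mul_mem hv (inv_mem hw)
      rw [← e7] at h10
      have h11 := hBV _ h9 h10
      rw [h11] at e7
      have : v = (v * w⁻¹) * w := by group
      rw [this, ← e7, one_mul]

end Cert12

end Cfsg.Agent.Lib.H29.Chev
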