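import Mathlib

/-!
# Automorphisms of twisted groups, part B: the rank one lemma and a lemma on finite fields
-/

set_option autoImplicit false
set_option linter.unusedSectionVars false
set_option linter.unusedSimpArgs false
set_option linter.unusedVariables false

namespace Cfsg.Agent.Lib.H29.Chev

/-- a pair of opposite root subgroups parametrized by a field, with the relations of `SL₂` -/
structure RankOne {G k : Type*} [Group G] [Field k] (xp xm : k → G) : Prop where
  add_p : ∀ a b, xp (a + b) = xp a * xp b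
  add_m : ∀ a b, xm (a + b) = xm a * xm b
  conj_p : ∀ e, e ≠ 0 → ∀ u, (xp e * xm (-e⁻¹) * xp e) * xp u * (xp e * xm (-e⁻¹) * xp e)⁻¹ =
    xm (-(e⁻¹ * e⁻¹) * u)
  conj_m : ∀ e, e ≠ 0 → ∀ u, (xp e * xm (-e⁻¹) * xp e) * xm u * (xp e * xm (-e⁻¹) * xp e)⁻¹ =
    xp (-(e * e) * u)
  ne : ∀ a b, a ≠ 0 → xp a ≠ xm b

namespace RankOne

variable {G k : Type*} [Group G] [Field k] {xp xm : k → G} (R : RankOne xp xm)
include R

theorem zero_p : xp 0 = 1 := by
  have := R.add_p 0 0
  rw [add_zero] at this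
  exact (mul_eq_left.mp this.symm)

theorem zero_m : xm 0 = 1 := by
  have := R.add_m 0 0
  rw [add_zero] at this
  exact (mul_eq_left.mp this.symm)

theorem neg_p (a : k) : xp (-a) = (xp a)⁻¹ := by
  rw [eq_inv_iff_mul_eq_one, ← R.add_p, neg_add_cancel, R.zero_p]

theorem neg_m (a : k) : xm (-a) = (xm a)⁻¹ := by
  rw [eq_inv_iff_mul_eq_one, ← R.add_m, neg_add_cancel, R.zero_m]

theorem inj_p (a b : k) (h : xp a = xp b) : a = b := by
  by_contra hne
  have h0 : a - b ≠ 0 := sub_ne_zero.mpr hne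
  have : xp (a - b) = xm 0 := by
    rw [sub_eq_add_neg, R.add_p, R.neg_p, h, mul_inv_cancel, R.zero_m]
  exact R.ne _ _ h0 this

theorem inj_m (a b : k) (h : xm a = xm b) : a = b := by
  by_contra hne
  have h0 : a - b ≠ 0 := sub_ne_zero.mpr hne
  -- conjugate by `n(1)` to get back to `xp`
  have h1 := R.conj_m 1 one_ne_zero a
  have h2 := R.conj_m 1 one_ne_zero b
  rw [h] at h1
  rw [h1] at h2
  have := R.inj_p _ _ h2
  apply hne
  linear_combination (-1 : k) * this

/-- the element `n(t) = x(t) y(-t⁻¹) x(t)` -/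
def nn (xp xm : k → G) (t : k) : G := xp t * xm (-t⁻¹) * xp t

theorem rank_one_aux (e : k) (he : e ≠ 0) (z₀ : k)
    (h : xp e * xm (-e⁻¹) = xm z₀ * xp e) : False := by
  have hn : nn xp xm e = xm z₀ * xp (e + e) := by
    unfold nn
    rw [h, mul_assoc, ← R.add_p]
  have h1 := R.conj_p e he (-(e + e))
  rw [mul_inv_eq_iff_eq_mul] at h1
  have h1' : nn xp xm e * xp (-(e + e)) = xm z₀ := by
    rw [hn, mul_assoc, ← R.add_p, add_neg_cancel, R.zero_p, mul_one]
  change nn xp xm e * xp (-(e + e)) = _ * nn xp xm e at h1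
  rw [h1'] at h1
  have hn2 : nn xp xm e = xm (-(-(e⁻¹ * e⁻¹) * -(e + e)) + z₀) := by
    rw [R.add_m, h1, ← mul_assoc, ← R.add_m, neg_add_cancel, R.zero_m, one_mul]
  have h2 := R.conj_m e he 1
  change nn xp xm e * xm 1 * (nn xp xm e)⁻¹ = _ at h2
  rw [hn2, mul_inv_eq_iff_eq_mul, ← R.add_m] at h2
  generalize -(-(e⁻¹ * e⁻¹) * -(e + e)) + z₀ = w at h2
  have h3 : xp (-(e * e) * 1) = xm 1 := by
    have : xp (-(e * e) * 1) = xm (w + 1) * (xm w)⁻¹ := by
      rw [h2]; group
    rw [this, ← R.neg_m, ← R.add_m]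
    congr 1
    ring
  have hc : (-(e * e) * 1 : k) ≠ 0 := by
    rw [mul_one]
    exact neg_ne_zero.mpr (mul_ne_zero he he)
  exact R.ne _ _ hc h3

end RankOne

theorem rank_one_grp {G : Type*} [Group G] (E N A Z Y : G) (h1 : E * A = A * E)
    (h2 : E * N * E * A = Z * (E * N * E)) (h3 : N * A = Y * N) : E * Y = Z * E := by
  have e1 : E * N * E * A = E * Y * (N * E) := by
    calc E * N * E * A = E * N * (E * A) := by group
      _ = E * N * (A * E) := by rw [h1]
      _ = E * (N * A) * E := by group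
      _ = E * (Y * N) * E := by rw [h3]
      _ = E * Y * (N * E) := by group
  have e2 : E * Y * (N * E) = Z * E * (N * E) := by
    rw [← e1, h2]; group
  exact mul_right_cancel e2

/-- the rank one lemma -/
theorem rank_one_abs {G G' k k' : Type*} [Group G] [Group G'] [Field k] [Field k'] {xp xm : k → G}
    {xp' xm' : k' → G'} (R : RankOne xp xm) (R' : RankOne xp' xm') (θ : G →* G') (f g : k →+ k')
    (hf : ∀ t, θ (xp t) = xp' (f t)) (hg : ∀ t, θ (xm t) = xm' (g t))
    (fsurj : Function.Surjective f) (ginj : Function.Injective g) (t : k) (ht : t ≠ 0) :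
    g t = (f t⁻¹)⁻¹ := by
  have hc0 : -t⁻¹ ≠ 0 := neg_ne_zero.mpr (inv_ne_zero ht)
  have hs0 : g t ≠ 0 := fun h => ht (ginj (h.trans (map_zero g).symm))
  have P1 : ∀ u, xp (-t⁻¹) * xm t * xp (-t⁻¹) * xp u =
      xm (-((-t⁻¹)⁻¹ * (-t⁻¹)⁻¹) * u) * (xp (-t⁻¹) * xm t * xp (-t⁻¹)) := by
    intro u
    have h1 := R.conj_p (-t⁻¹) hc0 u
    rw [mul_inv_eq_iff_eq_mul] at h1
    rw [inv_neg, inv_inv, neg_neg] at h1
    rw [inv_neg, inv_inv]
    exact h1
  have P2 : ∀ u, xp' (f (-t⁻¹)) * xm' (g t) * xp' (f (-t⁻¹)) * xp' (f u) =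
      xm' (g (-((-t⁻¹)⁻¹ * (-t⁻¹)⁻¹) * u)) * (xp' (f (-t⁻¹)) * xm' (g t) * xp' (f (-t⁻¹))) := by
    intro u
    have := congrArg θ (P1 u)
    simp only [map_mul, hf, hg] at this
    exact this
  generalize hs : g t = s at hs0 P2 ⊢
  generalize ha : f (-t⁻¹) = a at P2
  have hsi : -(-s⁻¹)⁻¹ = s := by rw [inv_neg, inv_inv, neg_neg]
  have hxs : xm' s = xp' s⁻¹ * RankOne.nn xp' xm' (-s⁻¹) * xp' s⁻¹ := by
    unfold RankOne.nn
    rw [hsi]
    have e1 : xp' s⁻¹ * xp' (-s⁻¹) = 1 := by
      rw [← R'.add_p, add_neg_cancel, R'.zero_p]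
    have e2 : xp' (-s⁻¹) * xp' s⁻¹ = 1 := by
      rw [← R'.add_p, neg_add_cancel, R'.zero_p]
    generalize xp' s⁻¹ = p at e1 e2 ⊢
    generalize xp' (-s⁻¹) = q at e1 e2 ⊢
    generalize xm' s = w
    calc w = (p * q) * w * (q * p) := by rw [e1, e2]; group
      _ = p * (q * w * q) * p := by group
  have hE : xp' a * xm' s * xp' a =
      xp' (a + s⁻¹) * RankOne.nn xp' xm' (-s⁻¹) * xp' (a + s⁻¹) := by
    rw [hxs, R'.add_p]
    have : xp' a * xp' s⁻¹ = xp' s⁻¹ * xp' a := by rw [← R'.add_p, ← R'.add_p, add_comm]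
    generalize xp' a = A at this ⊢
    generalize xp' s⁻¹ = B at this ⊢
    generalize RankOne.nn xp' xm' (-s⁻¹) = N
    calc A * (B * N * B) * A = (A * B) * N * (B * A) := by group
      _ = (A * B) * N * (A * B) := by rw [this]
  by_cases he : a + s⁻¹ = 0
  · have h1 : s⁻¹ = f t⁻¹ := by
      have : s⁻¹ = -a := by linear_combination he
      rw [this, ← ha, map_neg, neg_neg]
    rw [← h1, inv_inv]
  · exfalso
    obtain ⟨u, hu⟩ := fsurj ((a + s⁻¹)⁻¹ / (s * s))
    have hY := R'.conj_p (-s⁻¹) (neg_ne_zero.mpr (inv_ne_zero hs0)) (f u)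
    rw [mul_inv_eq_iff_eq_mul] at hY
    have hpar : -((-s⁻¹)⁻¹ * (-s⁻¹)⁻¹) * f u = -(a + s⁻¹)⁻¹ := by
      rw [hu, inv_neg, inv_inv]
      field_simp
    rw [hpar] at hY
    change RankOne.nn xp' xm' (-s⁻¹) * xp' (f u) = _ * RankOne.nn xp' xm' (-s⁻¹) at hY
    have hcomm : xp' (a + s⁻¹) * xp' (f u) = xp' (f u) * xp' (a + s⁻¹) := by
      rw [← R'.add_p, ← R'.add_p, add_comm]
    have hP := P2 u
    rw [hE] at hP
    exact R'.rank_one_aux (a + s⁻¹) he _ (rank_one_grp _ _ _ _ _ hcomm hP hY)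

/-- consequently `θ n(t) = n'(f t)` -/
theorem rank_one_nn {G G' k k' : Type*} [Group G] [Group G'] [Field k] [Field k'] {xp xm : k → G}
    {xp' xm' : k' → G'} (R : RankOne xp xm) (R' : RankOne xp' xm') (θ : G →* G') (f g : k →+ k')
    (hf : ∀ t, θ (xp t) = xp' (f t)) (hg : ∀ t, θ (xm t) = xm' (g t))
    (fsurj : Function.Surjective f) (ginj : Function.Injective g) (t : k) (ht : t ≠ 0) :
    θ (RankOne.nn xp xm t) = RankOne.nn xp' xm' (f t) := by
  unfold RankOne.nn
  rw [map_mul, map_mul, hf, hg, map_neg,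
    rank_one_abs R R' θ f g hf hg fsurj ginj t⁻¹ (inv_ne_zero ht), inv_inv]

section Field

variable {k : Type*} [Field k] [Finite k]

/-- an additive map of a finite field with `f 1 = 1` and `f (t² u) = (f t)² f u` is multiplicative -/
theorem mul_of_sq (f : k →+ k) (h1 : f 1 = 1) (hsq : ∀ t u, t ≠ 0 → f (t * t * u) = f t * f t * f u)
    (a b : k) : f (a * b) = f a * f b := by
  by_cases h2 : (2 : k) = 0
  · -- squaring is bijective
    have hinj : Function.Injective (fun x : k => x * x) := by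
      intro x y hxy
      simp only at hxy
      have : (x - y) * (x - y) = 0 := by
        have e : (x - y) * (x - y) = x * x - 2 * (x * y) + y * y := by ring
        rw [e, h2, zero_mul, sub_zero, hxy]
        have : y * y + y * y = 2 * (y * y) := by ring
        rw [this, h2, zero_mul]
      have := mul_self_eq_zero.mp this
      exact sub_eq_zero.mp this
    have hsurj : Function.Surjective (fun x : k => x * x) := Finite.surjective_of_injective hinj
    obtain ⟨s, hs⟩ := hsurj a
    simp only at hs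
    by_cases hs0 : s = 0
    · rw [← hs, hs0]
      simp
    · have e1 := hsq s b hs0
      have e2 := hsq s 1 hs0
      rw [mul_one, h1, mul_one] at e2
      rw [← hs, e1, e2]
  · by_cases ha : a = 0
    · rw [ha]; simp
    · by_cases ha1 : a + 1 = 0
      · have : a = -1 := by linear_combination ha1
        rw [this]
        simp [h1]
      · have e1 := hsq (a + 1) b ha1
        have e2 := hsq a b ha
        have e3 : (a + 1) * (a + 1) * b = a * a * b + 2 * (a * b) + b := by ring
        rw [e3, map_add, map_add, e2, map_add, h1] at e1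
        have e4 : f (2 * (a * b)) = 2 * f (a * b) := by
          rw [two_mul, map_add, two_mul]
        rw [e4] at e1
        have e5 : 2 * f (a * b) = 2 * (f a * f b) := by linear_combination e1
        exact mul_left_cancel₀ h2 e5

/-- an additive multiplicative map as a ring homomorphism -/
def ringHomOfMul (f : k →+ k) (h1 : f 1 = 1) (hmul : ∀ a b, f (a * b) = f a * f b) : k →+* k where
  toFun := f
  map_one' := h1
  map_mul' := hmul
  map_zero' := map_zero f
  map_add' := map_add f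

/-- a bijective additive multiplicative map of a field is a ring automorphism -/
noncomputable def ringEquivOfMul (f : k →+ k) (h1 : f 1 = 1) (hmul : ∀ a b, f (a * b) = f a * f b)
    (hinj : Function.Injective f) : k ≃+* k :=
  RingEquiv.ofBijective (ringHomOfMul f h1 hmul) ⟨hinj, Finite.surjective_of_injective hinj⟩

theorem ringEquivOfMul_apply (f : k →+ k) (h1 : f 1 = 1) (hmul : ∀ a b, f (a * b) = f a * f b)
    (hinj : Function.Injective f) (x : k) : ringEquivOfMul f h1 hmul hinj x = f x := rfl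

end Field

end Cfsg.Agent.Lib.H29.Chev
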