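import Mathlib
import Cfsg.Prelude.Def_ChevStructure
import Cfsg.Prelude.Def_LieExceptional
import Cfsg.Agent.Lib.H29.TwAut8
import Cfsg.Agent.Lib.H29.TwAutB

/-!
# Automorphisms of twisted groups, part 9: the parameter fields, the root elements of the twisted group, and
the action of a standard automorphism on the negative fundamental root subgroups
-/

set_option autoImplicit false
set_option linter.unusedSectionVars false
set_option linter.unusedSimpArgs false
set_option linter.unusedVariables false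

namespace Cfsg.Agent.Lib.H29.Chev

open Cfsg.Lie Matrix

variable {D : ChevalleyDatum} {fd : FD} {fx : FX} {fc : FC} {fz : FZ} {F : Type*} [Field F]

/-- the field of the admissible parameters at the root `r` -/
def KrF (fd : FD) (ga : GA) (φ : F →+* F) (r : ℕ) : Subfield F where
  carrier := Kr fd ga φ r
  mul_mem' := by
    intro a b ha hb hfix
    rw [map_mul, ha hfix, hb hfix]
  one_mem' := fun _ => map_one φ
  add_mem' := by
    intro a b ha hb hfix
    rw [map_add, ha hfix, hb hfix]
  zero_mem' := fun _ => map_zero φ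
  neg_mem' := by
    intro a ha hfix
    rw [map_neg, ha hfix]
  inv_mem' := by
    intro a ha hfix
    rw [map_inv₀, ha hfix]

theorem mem_KrF (fd : FD) (ga : GA) (φ : F →+* F) (r : ℕ) (t : F) : t ∈ KrF fd ga φ r ↔ t ∈ Kr fd ga φ r :=
  Iff.rfl

namespace Cert12

variable (C : Cert12 D fd fx fc fz) {ga : GA} {k : ℕ} {φ : F →+* F} {RL sreps : List ℕ} {fq : FQ} {q : ℕ}

/-- the positive root elements of the twisted group -/
noncomputable def xp (C : Cert12 D fd fx fc fz) (ga : GA) (k : ℕ) (φ : F →+* F) (sreps : List ℕ) (i : ℕ)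
    (hi : i ∈ sreps) (t : ↥(KrF fd ga φ (fd.simples.getD i 0))) : ↥(C.G1 ga k φ sreps) :=
  ⟨C.xS ga k φ (fd.simples.getD i 0) t, Subgroup.subset_closure ⟨i, hi, t, t.2, Or.inl rfl⟩⟩

/-- the negative root elements of the twisted group -/
noncomputable def xm (C : Cert12 D fd fx fc fz) (ga : GA) (k : ℕ) (φ : F →+* F) (sreps : List ℕ) (i : ℕ)
    (hi : i ∈ sreps) (t : ↥(KrF fd ga φ (fd.simples.getD i 0))) : ↥(C.G1 ga k φ sreps) :=
  ⟨C.xS ga k φ (fd.n - 1 - fd.simples.getD i 0) t, Subgroup.subset_closure ⟨i, hi, t, t.2, Or.inr rfl⟩⟩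

/-- `n_S` as an element of the twisted group -/
noncomputable def ns (C : Cert12 D fd fx fc fz) (ga : GA) (k : ℕ) (φ : F →+* F) (sreps : List ℕ) (i : ℕ)
    (h : C.nS F ga k i ∈ C.G1 ga k φ sreps) : ↥(C.G1 ga k φ sreps) := ⟨C.nS F ga k i, h⟩

variable (W : TwPack C ga k φ RL sreps fq q)
include W

theorem xp_mem_tU (i : ℕ) (hi : i ∈ sreps) (t : ↥(KrF fd ga φ (fd.simples.getD i 0))) :
    C.xp ga k φ sreps i hi t ∈ C.tU ga k φ sreps :=
  Subgroup.mem_subgroupOf.mpr (C.xS_pos_mem W _ (C.c6.c2.simple_lt i (W.S.sreps_lt i hi))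
    (C.c6.simple_pos i (W.S.sreps_lt i hi)) _)

theorem xm_mem_tV (i : ℕ) (hi : i ∈ sreps) (t : ↥(KrF fd ga φ (fd.simples.getD i 0))) :
    C.xm ga k φ sreps i hi t ∈ C.tV ga k φ sreps := by
  have hp := C.c6.c2.simple_lt i (W.S.sreps_lt i hi)
  have hpp := C.c6.simple_pos i (W.S.sreps_lt i hi)
  have hev := C.c6.c2.heven
  exact Subgroup.mem_subgroupOf.mpr (C.xS_neg_mem W _ (by omega) (by omega) _)

/-- the rank one relations in the twisted group -/
theorem rankOne (i : ℕ) (hi : i ∈ sreps) : RankOne (C.xp ga k φ sreps i hi) (C.xm ga k φ sreps i hi) := by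
  have hil := W.S.sreps_lt i hi
  have hp := C.c6.c2.simple_lt i hil
  have hpp := C.c6.simple_pos i hil
  have hev := C.c6.c2.heven
  refine ⟨?_, ?_, ?_, ?_, ?_⟩
  · intro a b
    apply Subtype.ext
    show C.xS ga k φ _ ((a + b : ↥(KrF fd ga φ (fd.simples.getD i 0))) : F) = _ * _
    rw [Subfield.coe_add]
    exact (C.xS_add W.T φ W.hk _ hp _ _).symm
  · intro a b
    apply Subtype.ext
    show C.xS ga k φ _ ((a + b : ↥(KrF fd ga φ (fd.simples.getD i 0))) : F) = _ * _
    rw [Subfield.coe_add]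
    exact (C.xS_add W.T φ W.hk _ (by omega) _ _).symm
  · intro e he u
    apply Subtype.ext
    have he' : (e : F) ≠ 0 := fun h => he (Subtype.ext h)
    have := (C.tw_rank_one W.T W.T2 φ (k := k) i hil (e : F) (u : F) he').1
    simpa [xp, xm] using this
  · intro e he u
    apply Subtype.ext
    have he' : (e : F) ≠ 0 := fun h => he (Subtype.ext h)
    have := (C.tw_rank_one W.T W.T2 φ (k := k) i hil (e : F) (u : F) he').2
    simpa [xp, xm] using this
  · intro a b ha h
    have ha' : (a : F) ≠ 0 := fun h => ha (Subtype.ext h)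
    have h1 := congrArg Subtype.val h
    simp only [xp, xm] at h1
    have h2 : C.xS ga k φ (fd.simples.getD i 0) (a : F) = 1 := by
      apply C.pos_inf_neg _ (C.xS_pos_mem W _ hp hpp _)
      rw [h1]
      exact C.xS_neg_mem W _ (by omega) (by omega) _
    exact ha' (C.xS_pos_inj W _ hp hpp _ 0 (by rw [h2, C.xS_param_zero]))

end Cert12

end Cfsg.Agent.Lib.H29.Chev
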