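import Mathlib
import Cfsg.Prelude.Def_ChevStructure
import Cfsg.Prelude.Def_LieExceptional
import Cfsg.Agent.Lib.H29.TwAut9

/-!
# Automorphisms of twisted groups, part 10: a standard automorphism permutes the negative fundamental root
subgroups
-/

set_option autoImplicit false
set_option linter.unusedSectionVars false
set_option linter.unusedSimpArgs false
set_option linter.unusedVariables false

namespace Cfsg.Agent.Lib.H29.Chev

open Cfsg.Lie Matrix

variable {D : ChevalleyDatum} {fd : FD} {fx : FX} {fc : FC} {fz : FZ} {F : Type*} [Field F]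

namespace Cert12

variable (C : Cert12 D fd fx fc fz) {ga : GA} {k : ℕ} {φ : F →+* F} {RL sreps : List ℕ} {fq : FQ} {q : ℕ}

variable (W : TwPack C ga k φ RL sreps fq q)
include W

open Cfsg.Agent.Lib.H2.BN in
/-- a standard automorphism maps negative fundamental root subgroups to such -/
theorem tw_std_neg [Finite F] (hPos : fd.chkPiSPos fx ga k sreps = true)
    (θ : ↥(C.G1 ga k φ sreps) ≃* ↥(C.G1 ga k φ sreps)) (hθ : C.TwStd ga k φ sreps θ) (i : ℕ) (hi : i ∈ sreps) :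
    ∃ i', ∃ hi' : i' ∈ sreps, ∀ t, ∃ t', θ (C.xm ga k φ sreps i hi t) = C.xm ga k φ sreps i' hi' t' := by
  have hil := W.S.sreps_lt i hi
  have hp := C.c6.c2.simple_lt i hil
  have hpp := C.c6.simple_pos i hil
  have hev := C.c6.c2.heven
  have hB : ∀ g, g ∈ (C.tBN W).B ↔ θ g ∈ (C.tBN W).B := by
    intro g
    rw [C.tBN_B W]
    exact C.tB_iff_of_std W θ hθ.1 g
  have hsS : C.ns ga k φ sreps i (C.nS_mem_G1 W i hi) ∈ (C.tBN W).S := ⟨i, hi, rfl⟩
  obtain ⟨s', hs', hpar⟩ := map_parabolic_singleton (C.tBN W) θ hB hsS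
  obtain ⟨i', hi', hs'e⟩ := hs'
  refine ⟨i', hi', fun t => ?_⟩
  have hil' := W.S.sreps_lt i' hi'
  -- `x_{-S}(t) ∈ P_S`
  have h1 : C.xm ga k φ sreps i hi t ∈ (C.tBN W).parabolic {C.ns ga k φ sreps i (C.nS_mem_G1 W i hi)} := by
    have e : C.xm ga k φ sreps i hi t =
        C.ns ga k φ sreps i (C.nS_mem_G1 W i hi) * C.xp ga k φ sreps i hi (-t) *
          (C.ns ga k φ sreps i (C.nS_mem_G1 W i hi))⁻¹ := by
      apply Subtype.ext
      have := (C.nS_conj W i hil (-(t : F))).1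
      rw [neg_neg] at this
      simp only [xm, xp, ns, Subgroup.coe_mul, InvMemClass.coe_inv, Subfield.coe_neg]
      exact this.symm
    rw [e]
    have hs : C.ns ga k φ sreps i (C.nS_mem_G1 W i hi) ∈
        (C.tBN W).parabolic {C.ns ga k φ sreps i (C.nS_mem_G1 W i hi)} :=
      (le_sup_right : Subgroup.closure {C.ns ga k φ sreps i (C.nS_mem_G1 W i hi)} ≤ _) (Subgroup.subset_closure rfl)
    have hb : C.xp ga k φ sreps i hi (-t) ∈
        (C.tBN W).parabolic {C.ns ga k φ sreps i (C.nS_mem_G1 W i hi)} := by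
      apply (le_sup_left : (C.tBN W).B ≤ _)
      rw [C.tBN_B W]
      exact Subgroup.mem_subgroupOf.mpr ((le_sup_left : D.posUnipotent F ≤ D.borelSubgroup F)
        (Subgroup.mem_subgroupOf.mp (C.xp_mem_tU W i hi (-t))))
    exact mul_mem (mul_mem hs hb) (inv_mem hs)
  have h2 := (hpar _).mp h1
  have h3 : θ (C.xm ga k φ sreps i hi t) ∈ C.tV ga k φ sreps := (hθ.2 _).mp (C.xm_mem_tV W i hi t)
  have hs'S : s' ∈ (C.tBN W).S := ⟨i', hi', hs'e⟩
  rcases parabolic_singleton_cases (C.tBN W) hs'S _ h2 with h4 | h4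
  · -- in `B ∩ V`
    rw [C.tBN_B W] at h4
    have h5 : ((θ (C.xm ga k φ sreps i hi t) : ↥(C.G1 ga k φ sreps)) : GL D.Idx F) = 1 := by
      have : ((θ (C.xm ga k φ sreps i hi t) : ↥(C.G1 ga k φ sreps)) : GL D.Idx F) ∈
          D.borelSubgroup F ⊓ D.negUnipotent F :=
        ⟨Subgroup.mem_subgroupOf.mp h4, Subgroup.mem_subgroupOf.mp h3⟩
      rwa [C.c6.c2.borel_inf_neg, Subgroup.mem_bot] at this
    refine ⟨0, Subtype.ext ?_⟩
    rw [h5]
    simp only [xm, ZeroMemClass.coe_zero]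
    exact (C.xS_param_zero φ _).symm
  · rw [mem_C_iff] at h4
    obtain ⟨b, hb, b', hb', e⟩ := h4
    rw [C.tBN_B W] at hb hb'
    have e' := congrArg Subtype.val e
    simp only [Subgroup.coe_mul, hs'e] at e'
    obtain ⟨t', ht', hv⟩ := C.tw_neg_inf_minimal W hPos i' hi' _ (Subgroup.mem_subgroupOf.mp h3) b b'
      (Subgroup.mem_subgroupOf.mp hb) (Subgroup.mem_subgroupOf.mp hb') b'.2 (θ (C.xm ga k φ sreps i hi t)).2 e'
    exact ⟨⟨t', ht'⟩, Subtype.ext hv⟩

end Cert12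

end Cfsg.Agent.Lib.H29.Chev
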