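import Mathlib
import Cfsg.Prelude.Def_ChevStructure
import Cfsg.Prelude.Def_LieExceptional
import Cfsg.Agent.Lib.H29.TwAut10

/-!
# Automorphisms of twisted groups, part 11: a standard automorphism permutes the positive fundamental root
subgroups
-/

set_option autoImplicit false
set_option linter.unusedSectionVars false
set_option linter.unusedSimpArgs false
set_option linter.unusedVariables false

namespace Cfsg.Agent.Lib.H29.Chev

open Cfsg.Lie Matrix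

variable {D : ChevalleyDatum} {fd : FD} {fx : FX} {fc : FC} {fz : FZ} {F : Type*} [Field F]

namespace FD

/-- the longest element maps the negative of each orbit of fundamental roots to the same orbit -/
def chkOppS (fd : FD) (ga : GA) (k : ℕ) (fq : FQ) (a0 : ℕ) (sreps : List ℕ) : Bool :=
  sreps.all fun i => (List.range k).any fun j =>
    Nat.beq (fd.qT fq a0 (fd.n - 1 - fd.simples.getD i 0)) (fd.gIt ga j (fd.simples.getD i 0))

end FD

theorem FD.chkOppS_spec {fd : FD} {ga : GA} {k : ℕ} {fq : FQ} {a0 : ℕ} {sreps : List ℕ}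
    (h : fd.chkOppS ga k fq a0 sreps = true) (i : ℕ) (hi : i ∈ sreps) :
    ∃ j < k, fd.qT fq a0 (fd.n - 1 - fd.simples.getD i 0) = fd.gIt ga j (fd.simples.getD i 0) := by
  simp only [FD.chkOppS, List.all_eq_true, List.any_eq_true, List.mem_range, natBeq_iff] at h
  exact h i hi

namespace Cert12

variable (C : Cert12 D fd fx fc fz) {ga : GA} {k : ℕ} {φ : F →+* F} {RL sreps : List ℕ} {fq : FQ} {q : ℕ}

variable (W : TwPack C ga k φ RL sreps fq q)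
include W

/-- the elements `x_S(t)` attached to the different roots of an orbit of positive roots are the same -/
theorem xS_orbit (r : ℕ) (hr : r < fd.n) (hpos : fd.n / 2 ≤ r) (j : ℕ) (s : F)
    (hs : s ∈ Kr fd ga φ (fd.gIt ga j r)) :
    ∃ t ∈ Kr fd ga φ r, C.xS ga k φ (fd.gIt ga j r) s = C.xS ga k φ r t := by
  have hk1 := C.pk_k1 W
  have hr' := W.T.gIt_lt j r hr
  have hpos' := W.T.gIt_pos j r hr hpos
  have h1 := C.xS_mem_AL W.T φ W.hk W.hφk _ hr' hpos' s hs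
  obtain ⟨h2, h3⟩ := Subgroup.mem_inf.mp h1
  have h4 : C.xS ga k φ (fd.gIt ga j r) s ∈ Vm D F (PsiL fd ga k (r :: [])) (fd.n / 2) := by
    refine C.Vm_mono_pos _ _ ?_ h3
    rintro s' _ _ ⟨r1, hr1, j', hj', e⟩
    rw [List.mem_singleton] at hr1
    rw [hr1, ← C.gIt_add W.T] at e
    obtain ⟨j'', hj'', e''⟩ := C.gIt_mod W r hr (j' + j)
    exact ⟨r, List.mem_singleton_self r, j'', hj'', by rw [e, e'']⟩
  obtain ⟨ht, hg'⟩ := C.step_decomp W.T φ hk1 r [] (C.adm_single W.T r hr hpos) _ h4 h2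
    (fun t ht => C.sigma_xS W.T φ W.hk W.hφk r hr t ht)
  refine ⟨_, ht, ?_⟩
  have h5 : (C.xS ga k φ r (coordM D fd fz F r ((C.xS ga k φ (fd.gIt ga j r) s : GL D.Idx F) :
      Matrix D.Idx D.Idx F)))⁻¹ * C.xS ga k φ (fd.gIt ga j r) s ∈ C.AL W.T φ [] := by
    refine Subgroup.mem_inf.mpr ⟨?_, hg'⟩
    rw [mem_fixS, map_mul, map_inv, C.sigma_xS W.T φ W.hk W.hφk r hr _ ht, (mem_fixS _ _).mp h2]
  rw [C.AL_nil W.T φ, Subgroup.mem_bot] at h5
  exact (inv_mul_eq_one.mp h5).symm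

/-- the longest element attached to an entry of the table -/
theorem exists_n0_of (a0 : ℕ) (ha0 : fd.chkQW0 fq a0 = true) :
    ∃ n0 ∈ D.monomialSubgroup F, n0 ∈ C.G1 ga k φ sreps ∧ C.c6.c2.Perm n0 (fd.qT fq a0) ∧
    (∀ s < fd.n, fd.n / 2 ≤ s → fd.qT fq a0 s < fd.n / 2) ∧ (∀ s < fd.n, s < fd.n / 2 → fd.n / 2 ≤ fd.qT fq a0 s) ∧
    ∃ π' : ℕ → ℕ, C.c6.c2.Perm n0⁻¹ π' ∧ (∀ s < fd.n, fd.qT fq a0 (π' s) = s) ∧
      (∀ s < fd.n, fd.n / 2 ≤ s → π' s < fd.n / 2) ∧ (∀ s < fd.n, s < fd.n / 2 → fd.n / 2 ≤ π' s) := by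
  obtain ⟨ha, hw⟩ := fd.chkQW0_spec ha0
  obtain ⟨m, hm, hmG, hπ⟩ := C.exists_rep W.T W.T2 (F := F) W.hQ W.S.sreps_lt (C.G1 ga k φ sreps)
    (fun i hi => C.nS_mem_G1 W i hi) a0 ha
  have hev := C.c6.c2.heven
  have hnp : ∀ s < fd.n, s < fd.n / 2 → fd.n / 2 ≤ fd.qT fq a0 s := by
    intro s hs hneg
    obtain ⟨h1, h2, _⟩ := hπ s hs
    have h3 := hw (fd.n - 1 - s) (by omega) (by omega)
    rw [h2] at h3
    omega
  obtain ⟨_, ⟨π', hπ'⟩⟩ := C.c6.perm_of_mem m hm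
  have hinv := C.perm_inv m _ π' hπ hπ'
  refine ⟨m, hm, hmG, hπ, hw, hnp, π', hπ', hinv.2, ?_, ?_⟩
  · intro s hs hpos
    by_contra hcon
    have h1 := hw (π' s) (hπ' s hs).1 (by omega)
    rw [hinv.2 s hs] at h1
    omega
  · intro s hs hneg
    by_contra hcon
    have h1 := hnp (π' s) (hπ' s hs).1 (by omega)
    rw [hinv.2 s hs] at h1
    omega

/-- a standard automorphism maps positive fundamental root subgroups to such -/
theorem tw_std_pos [Finite F] (hPos : fd.chkPiSPos fx ga k sreps = true) (a0 : ℕ)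
    (ha0 : fd.chkQW0 fq a0 = true) (hOpp : fd.chkOppS ga k fq a0 sreps = true)
    (θ : ↥(C.G1 ga k φ sreps) ≃* ↥(C.G1 ga k φ sreps)) (hθ : C.TwStd ga k φ sreps θ) (i : ℕ) (hi : i ∈ sreps) :
    ∃ i', ∃ hi' : i' ∈ sreps, ∀ t, ∃ t', θ (C.xp ga k φ sreps i hi t) = C.xp ga k φ sreps i' hi' t' := by
  have hil := W.S.sreps_lt i hi
  have hp := C.c6.c2.simple_lt i hil
  have hpp := C.c6.simple_pos i hil
  have hev := C.c6.c2.heven
  obtain ⟨n0, hn0, hn0G, hπ0, hpn, hnp, π', hπ', hinv, hpn', hnp'⟩ := C.exists_n0_of W a0 ha0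
  have hn0fix := C.sigma_of_mem W hn0G
  have hn0fix' : C.c6.c2.sigma W.T.ginv φ n0⁻¹ = n0⁻¹ := by rw [map_inv, hn0fix]
  set m : ↥(C.G1 ga k φ sreps) := ⟨n0, hn0G⟩ with hm
  -- the conjugate automorphism
  set θ' : ↥(C.G1 ga k φ sreps) ≃* ↥(C.G1 ga k φ sreps) :=
    (MulAut.conj m).trans (θ.trans (MulAut.conj m⁻¹)) with hθ'
  have hθ'a : ∀ g, θ' g = m⁻¹ * θ (m * g * m⁻¹) * m := by
    intro g
    simp [hθ', MulAut.conj_apply]
  have hstd : C.TwStd ga k φ sreps θ' := by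
    constructor
    · apply iff_of_forall_mem_fin
      intro g hg
      rw [hθ'a]
      have h1 : m * g * m⁻¹ ∈ C.tV ga k φ sreps := by
        apply Subgroup.mem_subgroupOf.mpr
        have := C.conj_pos_mem_neg n0 _ hπ0 hpn _ (Subgroup.mem_subgroupOf.mp hg)
        simpa [hm] using this
      have h2 := (hθ.2 _).mp h1
      apply Subgroup.mem_subgroupOf.mpr
      have := C.conj_neg_mem_pos n0⁻¹ π' hπ' hnp' _ (Subgroup.mem_subgroupOf.mp h2)
      simpa [hm] using this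
    · apply iff_of_forall_mem_fin
      intro g hg
      rw [hθ'a]
      have h1 : m * g * m⁻¹ ∈ C.tU ga k φ sreps := by
        apply Subgroup.mem_subgroupOf.mpr
        have := C.conj_neg_mem_pos n0 _ hπ0 hnp _ (Subgroup.mem_subgroupOf.mp hg)
        simpa [hm] using this
      have h2 := (hθ.1 _).mp h1
      apply Subgroup.mem_subgroupOf.mpr
      have := C.conj_pos_mem_neg n0⁻¹ π' hπ' hpn' _ (Subgroup.mem_subgroupOf.mp h2)
      simpa [hm] using this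
  obtain ⟨i₂, hi₂, hneg⟩ := C.tw_std_neg W hPos θ' hstd i hi
  refine ⟨i₂, hi₂, fun t => ?_⟩
  have hil₂ := W.S.sreps_lt i₂ hi₂
  have hp₂ := C.c6.c2.simple_lt i₂ hil₂
  have hpp₂ := C.c6.simple_pos i₂ hil₂
  -- `x_S(t) = n0 x_{-S}(s) n0⁻¹`
  obtain ⟨j, hj, ej⟩ := FD.chkOppS_spec hOpp i hi
  have hα : fd.simples.getD i 0 = fd.gIt ga (k - j) (fd.gIt ga j (fd.simples.getD i 0)) := by
    rw [← C.gIt_add W.T, Nat.sub_add_cancel (le_of_lt hj), (W.T.ord _ hp).1]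
  have htK : (t : F) ∈ Kr fd ga φ (fd.gIt ga (k - j) (fd.gIt ga j (fd.simples.getD i 0))) := by
    rw [← hα]; exact t.2
  obtain ⟨t₂, ht₂, e₂⟩ := C.xS_orbit W (fd.gIt ga j (fd.simples.getD i 0)) (W.T.gIt_lt j _ hp)
    (W.T.gIt_pos j _ hp hpp) (k - j) (t : F) htK
  rw [← hα] at e₂
  obtain ⟨c', hc'0, hc'K, hc'⟩ := C.conj_xS_perm W.T W.T2 φ (k := k) n0⁻¹ (inv_mem hn0) hn0fix' π' hπ'
    (fd.gIt ga j (fd.simples.getD i 0)) (W.T.gIt_lt j _ hp)
  have hπ'α : π' (fd.gIt ga j (fd.simples.getD i 0)) = fd.n - 1 - fd.simples.getD i 0 := by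
    have h1 := (C.perm_inv n0 _ π' hπ0 hπ').1 (fd.n - 1 - fd.simples.getD i 0) (by omega)
    rw [ej] at h1
    exact h1
  have hsK : c' * t₂ ∈ Kr fd ga φ (fd.simples.getD i 0) := by
    have h1 := hc'K t₂ ht₂
    rw [hπ'α] at h1
    intro hfix
    apply h1
    rw [(W.T.neg _ hp).1, hfix]
  have e3 : C.xp ga k φ sreps i hi t = m * C.xm ga k φ sreps i hi ⟨c' * t₂, hsK⟩ * m⁻¹ := by
    apply Subtype.ext
    have h1 := hc' t₂
    rw [hπ'α, inv_inv] at h1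
    simp only [xp, xm, hm, Subgroup.coe_mul, InvMemClass.coe_inv]
    rw [e₂, ← h1]
    group
  obtain ⟨s', hs'⟩ := hneg ⟨c' * t₂, hsK⟩
  rw [hθ'a, ← e3] at hs'
  have e4 : θ (C.xp ga k φ sreps i hi t) = m * C.xm ga k φ sreps i₂ hi₂ s' * m⁻¹ := by
    rw [← hs']; group
  -- `n0 x_{-S'}(s') n0⁻¹ = x_{S'}(t')`
  obtain ⟨j₂, hj₂, ej₂⟩ := FD.chkOppS_spec hOpp i₂ hi₂
  obtain ⟨c, hc0, hcK, hc⟩ := C.conj_xS_perm W.T W.T2 φ (k := k) n0 hn0 hn0fix _ hπ0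
    (fd.n - 1 - fd.simples.getD i₂ 0) (by omega)
  rw [ej₂] at hcK hc
  have hs'K : (s' : F) ∈ Kr fd ga φ (fd.n - 1 - fd.simples.getD i₂ 0) :=
    C.Kr_neg W.T W.T2 φ _ hp₂ _ s'.2
  obtain ⟨t', ht', e5⟩ := C.xS_orbit W (fd.simples.getD i₂ 0) hp₂ hpp₂ j₂ (c * (s' : F)) (hcK _ hs'K)
  refine ⟨⟨t', ht'⟩, ?_⟩
  rw [e4]
  apply Subtype.ext
  simp only [xp, xm, hm, Subgroup.coe_mul, InvMemClass.coe_inv]
  rw [hc, e5]

end Cert12

end Cfsg.Agent.Lib.H29.Chev
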