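import Mathlib
import Cfsg.Prelude.Def_ChevStructure
import Cfsg.Prelude.Def_LieExceptional
import Cfsg.Agent.Lib.H29.TwAut11
import Cfsg.Agent.Lib.H29.ChevAut4

/-!
# Automorphisms of twisted groups, part 12: a standard automorphism maps the positive and the negative
fundamental root subgroups of an orbit to those of one and the same orbit
-/

set_option autoImplicit false
set_option linter.unusedSectionVars false
set_option linter.unusedSimpArgs false
set_option linter.unusedVariables false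

namespace Cfsg.Agent.Lib.H29.Chev

open Cfsg.Lie Matrix

variable {D : ChevalleyDatum} {fd : FD} {fx : FX} {fc : FC} {fz : FZ} {F : Type*} [Field F]

/-- the orbits of the representatives are pairwise disjoint -/
def chkDisj (ga : GA) (k : ℕ) (sreps : List ℕ) : Bool :=
  sreps.all fun i => sreps.all fun j => Nat.beq i j ||
    (List.range k).all fun a => (List.range k).all fun b => !(Nat.beq (rhIt ga a i) (rhIt ga b j))

theorem chkDisj_spec {ga : GA} {k : ℕ} {sreps : List ℕ} (h : chkDisj ga k sreps = true) (i : ℕ) (hi : i ∈ sreps)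
    (j : ℕ) (hj : j ∈ sreps) (hij : i ≠ j) (a : ℕ) (ha : a < k) (b : ℕ) (hb : b < k) :
    rhIt ga a i ≠ rhIt ga b j := by
  simp only [chkDisj, List.all_eq_true, Bool.or_eq_true, natBeq_iff, List.mem_range, Bool.not_eq_true',
    ← Bool.not_eq_true] at h
  rcases h i hi j hj with h1 | h1
  · exact absurd h1 hij
  · exact h1 a ha b hb

namespace Cert12

variable (C : Cert12 D fd fx fc fz) {ga : GA} {k : ℕ} {φ : F →+* F} {RL sreps : List ℕ} {fq : FQ} {q : ℕ}

variable (W : TwPack C ga k φ RL sreps fq q)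
include W

/-- positive and negative root elements of different orbits commute -/
theorem xS_comm_pos_neg (hDisj : chkDisj ga k sreps = true) (i : ℕ) (hi : i ∈ sreps) (j : ℕ) (hj : j ∈ sreps)
    (hij : i ≠ j) (t u : F) :
    C.xS ga k φ (fd.simples.getD i 0) t * C.xS ga k φ (fd.n - 1 - fd.simples.getD j 0) u =
      C.xS ga k φ (fd.n - 1 - fd.simples.getD j 0) u * C.xS ga k φ (fd.simples.getD i 0) t := by
  have hil := W.S.sreps_lt i hi
  have hjl := W.S.sreps_lt j hj
  have hk1 := C.pk_k1 W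
  rw [(C.xS_simple W.T W.T2 φ (k := k) i hil t).1, (C.xS_simple W.T W.T2 φ (k := k) j hjl u).2]
  apply Commute.list_prod_left
  intro x hx
  apply Commute.list_prod_right
  intro y hy
  obtain ⟨a, ha, rfl⟩ := List.mem_map.mp hx
  obtain ⟨b, hb, rfl⟩ := List.mem_map.mp hy
  rw [List.mem_range] at ha hb
  have ha' : a < k := by split_ifs at ha <;> omega
  have hb' : b < k := by split_ifs at hb <;> omega
  exact C.comm_simple_negsimple _ _ (C.rhIt_lt W.T W.T2 a i hil) (C.rhIt_lt W.T W.T2 b j hjl)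
    (chkDisj_spec hDisj i hi j hj hij a ha' b hb') _ _

theorem xp_comm_xm (hDisj : chkDisj ga k sreps = true) (i : ℕ) (hi : i ∈ sreps) (j : ℕ) (hj : j ∈ sreps)
    (hij : i ≠ j) (t : ↥(KrF fd ga φ (fd.simples.getD i 0))) (u : ↥(KrF fd ga φ (fd.simples.getD j 0))) :
    C.xp ga k φ sreps i hi t * C.xm ga k φ sreps j hj u = C.xm ga k φ sreps j hj u * C.xp ga k φ sreps i hi t := by
  apply Subtype.ext
  simp only [xp, xm, Subgroup.coe_mul]
  exact C.xS_comm_pos_neg W hDisj i hi j hj hij _ _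

/-- positive root elements of different orbits are different -/
theorem xp_orbit_inj (hDisj : chkDisj ga k sreps = true) (i : ℕ) (hi : i ∈ sreps) (j : ℕ) (hj : j ∈ sreps)
    (t : ↥(KrF fd ga φ (fd.simples.getD i 0))) (u : ↥(KrF fd ga φ (fd.simples.getD j 0))) (ht : t ≠ 0)
    (h : C.xp ga k φ sreps i hi t = C.xp ga k φ sreps j hj u) : i = j := by
  by_contra hij
  have h1 := C.xp_comm_xm W hDisj j hj i hi (Ne.symm hij) u (-t⁻¹)
  rw [← h] at h1
  exact RankOne.rank_one_aux (C.rankOne W i hi) t ht _ h1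

/-- negative root elements of different orbits are different -/
theorem xm_orbit_inj (hDisj : chkDisj ga k sreps = true) (i : ℕ) (hi : i ∈ sreps) (j : ℕ) (hj : j ∈ sreps)
    (t : ↥(KrF fd ga φ (fd.simples.getD i 0))) (u : ↥(KrF fd ga φ (fd.simples.getD j 0))) (ht : t ≠ 0)
    (h : C.xm ga k φ sreps i hi t = C.xm ga k φ sreps j hj u) : i = j := by
  by_contra hij
  have ht' : -t⁻¹ ≠ 0 := neg_ne_zero.mpr (inv_ne_zero ht)
  have h1 := C.xp_comm_xm W hDisj i hi j hj hij (-t⁻¹) u
  rw [← h] at h1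
  have e : -(-t⁻¹)⁻¹ = t := by
    rw [inv_neg, inv_inv, neg_neg]
  have := RankOne.rank_one_aux (C.rankOne W i hi) (-t⁻¹) ht' t
  rw [e] at this
  exact this h1

/-- a standard automorphism maps the positive and the negative fundamental root subgroups of an orbit to those
of one orbit -/
theorem tw_std_both [Finite F] (hPos : fd.chkPiSPos fx ga k sreps = true) (a0 : ℕ)
    (ha0 : fd.chkQW0 fq a0 = true) (hOpp : fd.chkOppS ga k fq a0 sreps = true)
    (hDisj : chkDisj ga k sreps = true)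
    (θ : ↥(C.G1 ga k φ sreps) ≃* ↥(C.G1 ga k φ sreps)) (hθ : C.TwStd ga k φ sreps θ) (i : ℕ) (hi : i ∈ sreps) :
    ∃ i', ∃ hi' : i' ∈ sreps, (∀ t, ∃ t', θ (C.xp ga k φ sreps i hi t) = C.xp ga k φ sreps i' hi' t') ∧
      ∀ t, ∃ t', θ (C.xm ga k φ sreps i hi t) = C.xm ga k φ sreps i' hi' t' := by
  obtain ⟨i₁, hi₁, h₁⟩ := C.tw_std_pos W hPos a0 ha0 hOpp θ hθ i hi
  obtain ⟨i₂, hi₂, h₂⟩ := C.tw_std_neg W hPos θ hθ i hi
  have e : i₁ = i₂ := by
    by_contra hne
    obtain ⟨a, ha⟩ := h₁ 1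
    obtain ⟨b, hb⟩ := h₂ (-(1 : ↥(KrF fd ga φ (fd.simples.getD i 0)))⁻¹)
    have h1 := C.xp_comm_xm W hDisj i₁ hi₁ i₂ hi₂ hne a b
    rw [← ha, ← hb, ← map_mul, ← map_mul] at h1
    exact RankOne.rank_one_aux (C.rankOne W i hi) 1 one_ne_zero _ (θ.injective h1)
  subst e
  exact ⟨i₁, hi₁, h₁, h₂⟩

end Cert12

end Cfsg.Agent.Lib.H29.Chev
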