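import Mathlib
import Cfsg.Prelude.Def_ChevStructure
import Cfsg.Prelude.Def_LieExceptional
import Cfsg.Agent.Lib.H29.TwAut12

/-!
# Automorphisms of twisted groups, part 13: the permutation of the orbits of fundamental roots induced by a
standard automorphism
-/

set_option autoImplicit false
set_option linter.unusedSectionVars false
set_option linter.unusedSimpArgs false
set_option linter.unusedVariables false

namespace Cfsg.Agent.Lib.H29.Chev

open Cfsg.Lie Matrix

variable {D : ChevalleyDatum} {fd : FD} {fx : FX} {fc : FC} {fz : FZ} {F : Type*} [Field F]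

namespace Cert12

variable (C : Cert12 D fd fx fc fz) {ga : GA} {k : ℕ} {φ : F →+* F} {RL sreps : List ℕ} {fq : FQ} {q : ℕ}

/-- `θ` maps the fundamental root subgroups of the orbit `i` into those of the orbit `i'` -/
def TwMaps (C : Cert12 D fd fx fc fz) (ga : GA) (k : ℕ) (φ : F →+* F) (sreps : List ℕ)
    (θ : ↥(C.G1 ga k φ sreps) ≃* ↥(C.G1 ga k φ sreps)) (i : ℕ) (hi : i ∈ sreps) (i' : ℕ) (hi' : i' ∈ sreps) : Prop :=
  (∀ t, ∃ t', θ (C.xp ga k φ sreps i hi t) = C.xp ga k φ sreps i' hi' t') ∧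
    ∀ t, ∃ t', θ (C.xm ga k φ sreps i hi t) = C.xm ga k φ sreps i' hi' t'

/-- the positive fundamental root elements of the orbits `i` and `j` commute -/
def PComm (C : Cert12 D fd fx fc fz) (ga : GA) (k : ℕ) (φ : F →+* F) (sreps : List ℕ)
    (i : ℕ) (hi : i ∈ sreps) (j : ℕ) (hj : j ∈ sreps) : Prop :=
  ∀ t u, C.xp ga k φ sreps i hi t * C.xp ga k φ sreps j hj u =
    C.xp ga k φ sreps j hj u * C.xp ga k φ sreps i hi t

theorem twStd_symm (θ : ↥(C.G1 ga k φ sreps) ≃* ↥(C.G1 ga k φ sreps)) (hθ : C.TwStd ga k φ sreps θ) :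
    C.TwStd ga k φ sreps θ.symm := by
  constructor
  · intro g
    rw [hθ.1 (θ.symm g), MulEquiv.apply_symm_apply]
  · intro g
    rw [hθ.2 (θ.symm g), MulEquiv.apply_symm_apply]

theorem pComm_symm (i : ℕ) (hi : i ∈ sreps) (j : ℕ) (hj : j ∈ sreps) (h : C.PComm ga k φ sreps i hi j hj) :
    C.PComm ga k φ sreps j hj i hi := fun t u => (h u t).symm

variable (W : TwPack C ga k φ RL sreps fq q)
include W

/-- there is an element of the field not fixed by `φ` -/
theorem exists_not_fixed [Finite F] : ∃ s : F, φ s ≠ s := by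
  by_contra hcon
  push Not at hcon
  have hk1 := C.pk_k1 W
  have h1 := card_pow_eq (K := F) q k hk1 W.hq W.hF
  have h2 : Nat.card {t : F // t ^ q = t} = Nat.card F :=
    Nat.card_congr (Equiv.subtypeUnivEquiv (fun t => by rw [← W.hφ]; exact hcon t))
  rw [h1, W.hF] at h2
  have hq2 : 2 ≤ q := by
    by_contra hlt
    have hq1 : q = 1 := by have := W.hq; omega
    have hc := W.hF
    rw [hq1, one_pow] at hc
    have : 1 < Nat.card F := Finite.one_lt_card
    omega
  have hk2 : 2 ≤ k := by rcases W.hk with h | h <;> omega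
  have : q ^ 1 < q ^ k := Nat.pow_lt_pow_right hq2 hk2
  rw [pow_one] at this
  omega

/-- the number of admissible parameters at a root fixed by the graph automorphism -/
theorem card_KrF_fixed [Finite F] (r : ℕ) (hfix : fd.gRoot ga r = r) : Nat.card ↥(KrF fd ga φ r) = q := by
  rw [← card_pow_eq (K := F) q k (C.pk_k1 W) W.hq W.hF]
  apply Nat.card_congr
  apply Equiv.subtypeEquivRight
  intro t
  rw [mem_KrF, ← W.hφ]
  exact ⟨fun h => h hfix, fun h _ => h⟩

theorem card_KrF_nonfixed [Finite F] (r : ℕ) (hfix : fd.gRoot ga r ≠ r) : Nat.card ↥(KrF fd ga φ r) = q ^ k := by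
  rw [← W.hF]
  exact Nat.card_congr (Equiv.subtypeUnivEquiv (fun t h => absurd h hfix))

theorem xp_one_ne (i : ℕ) (hi : i ∈ sreps) : C.xp ga k φ sreps i hi 1 ≠ 1 := by
  intro h
  rw [← (C.rankOne W i hi).zero_p] at h
  exact one_ne_zero ((C.rankOne W i hi).inj_p _ _ h)

/-- the inverse of an automorphism mapping the orbit `i` to the orbit `i'` maps `i'` to `i` -/
theorem twMaps_symm [Finite F] (hPos : fd.chkPiSPos fx ga k sreps = true) (a0 : ℕ)
    (ha0 : fd.chkQW0 fq a0 = true) (hOpp : fd.chkOppS ga k fq a0 sreps = true)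
    (hDisj : chkDisj ga k sreps = true)
    (θ : ↥(C.G1 ga k φ sreps) ≃* ↥(C.G1 ga k φ sreps)) (hθ : C.TwStd ga k φ sreps θ) (i : ℕ) (hi : i ∈ sreps)
    (i' : ℕ) (hi' : i' ∈ sreps) (h : C.TwMaps ga k φ sreps θ i hi i' hi') :
    C.TwMaps ga k φ sreps θ.symm i' hi' i hi := by
  obtain ⟨i₂, hi₂, h₂⟩ := C.tw_std_both W hPos a0 ha0 hOpp hDisj θ.symm (C.twStd_symm θ hθ) i' hi'
  obtain ⟨a, ha⟩ := h.1 1
  have ha0' : a ≠ 0 := by
    intro h0
    rw [h0, (C.rankOne W i' hi').zero_p] at ha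
    have : C.xp ga k φ sreps i hi 1 = 1 := θ.injective (by rw [ha, map_one])
    exact C.xp_one_ne W i hi this
  obtain ⟨b, hb⟩ := h₂.1 a
  rw [← ha, MulEquiv.symm_apply_apply] at hb
  have e : i = i₂ := C.xp_orbit_inj W hDisj i hi i₂ hi₂ 1 b one_ne_zero hb
  subst e
  exact h₂

/-- the permutation of the orbits is injective -/
theorem twMaps_inj [Finite F] (hPos : fd.chkPiSPos fx ga k sreps = true) (a0 : ℕ)
    (ha0 : fd.chkQW0 fq a0 = true) (hOpp : fd.chkOppS ga k fq a0 sreps = true)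
    (hDisj : chkDisj ga k sreps = true)
    (θ : ↥(C.G1 ga k φ sreps) ≃* ↥(C.G1 ga k φ sreps)) (hθ : C.TwStd ga k φ sreps θ) (i : ℕ) (hi : i ∈ sreps)
    (j : ℕ) (hj : j ∈ sreps) (i' : ℕ) (hi' : i' ∈ sreps) (h1 : C.TwMaps ga k φ sreps θ i hi i' hi')
    (h2 : C.TwMaps ga k φ sreps θ j hj i' hi') : i = j := by
  have s1 := C.twMaps_symm W hPos a0 ha0 hOpp hDisj θ hθ i hi i' hi' h1
  have s2 := C.twMaps_symm W hPos a0 ha0 hOpp hDisj θ hθ j hj i' hi' h2
  obtain ⟨a, ha⟩ := s1.1 1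
  obtain ⟨b, hb⟩ := s2.1 1
  have ha0' : a ≠ 0 := by
    intro h0
    rw [h0, (C.rankOne W i hi).zero_p] at ha
    have : C.xp ga k φ sreps i' hi' 1 = 1 := θ.symm.injective (by rw [ha, map_one])
    exact C.xp_one_ne W i' hi' this
  exact C.xp_orbit_inj W hDisj i hi j hj a b ha0' (by rw [← ha, ← hb])

/-- the image of an orbit with more than one element has more than one element -/
theorem twMaps_nonfixed [Finite F] (θ : ↥(C.G1 ga k φ sreps) ≃* ↥(C.G1 ga k φ sreps)) (i : ℕ) (hi : i ∈ sreps)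
    (i' : ℕ) (hi' : i' ∈ sreps) (h : C.TwMaps ga k φ sreps θ i hi i' hi')
    (hne : fd.gRoot ga (fd.simples.getD i 0) ≠ fd.simples.getD i 0) :
    fd.gRoot ga (fd.simples.getD i' 0) ≠ fd.simples.getD i' 0 := by
  intro hfix
  choose f hf using h.1
  have hinj : Function.Injective f := by
    intro a b hab
    have := hf a
    rw [hab, ← hf b] at this
    exact (C.rankOne W i hi).inj_p _ _ (θ.injective this)
  have h1 := Nat.card_le_card_of_injective f hinj
  rw [C.card_KrF_fixed W _ hfix, C.card_KrF_nonfixed W _ hne] at h1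
  have hq2 : 2 ≤ q := by
    by_contra hlt
    have hq1 : q = 1 := by have := W.hq; omega
    have hc := W.hF
    rw [hq1, one_pow] at hc
    have : 1 < Nat.card F := Finite.one_lt_card
    omega
  have hk2 : 2 ≤ k := by rcases W.hk with h | h <;> omega
  have : q ^ 1 < q ^ k := Nat.pow_lt_pow_right hq2 hk2
  rw [pow_one] at this
  omega

/-- commutation of the positive fundamental root subgroups is preserved -/
theorem twMaps_pComm [Finite F] (hPos : fd.chkPiSPos fx ga k sreps = true) (a0 : ℕ)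
    (ha0 : fd.chkQW0 fq a0 = true) (hOpp : fd.chkOppS ga k fq a0 sreps = true)
    (hDisj : chkDisj ga k sreps = true)
    (θ : ↥(C.G1 ga k φ sreps) ≃* ↥(C.G1 ga k φ sreps)) (hθ : C.TwStd ga k φ sreps θ) (i : ℕ) (hi : i ∈ sreps)
    (j : ℕ) (hj : j ∈ sreps) (i' : ℕ) (hi' : i' ∈ sreps) (j' : ℕ) (hj' : j' ∈ sreps)
    (h1 : C.TwMaps ga k φ sreps θ i hi i' hi') (h2 : C.TwMaps ga k φ sreps θ j hj j' hj')
    (hc : C.PComm ga k φ sreps i hi j hj) : C.PComm ga k φ sreps i' hi' j' hj' := by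
  have s1 := C.twMaps_symm W hPos a0 ha0 hOpp hDisj θ hθ i hi i' hi' h1
  have s2 := C.twMaps_symm W hPos a0 ha0 hOpp hDisj θ hθ j hj j' hj' h2
  intro t u
  obtain ⟨a, ha⟩ := s1.1 t
  obtain ⟨b, hb⟩ := s2.1 u
  apply θ.symm.injective
  rw [map_mul, map_mul, ha, hb]
  exact hc a b

end Cert12

end Cfsg.Agent.Lib.H29.Chev
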