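import Mathlib
import Cfsg.Prelude.Def_ChevStructure
import Cfsg.Prelude.Def_LieExceptional
import Cfsg.Agent.Lib.H29.TwAut13

/-!
# Automorphisms of twisted groups, part 14: commuting and non commuting pairs of positive fundamental root
subgroups
-/

set_option autoImplicit false
set_option linter.unusedSectionVars false
set_option linter.unusedSimpArgs false
set_option linter.unusedVariables false

namespace Cfsg.Agent.Lib.H29.Chev

open Cfsg.Lie Matrix

variable {D : ChevalleyDatum} {fd : FD} {fx : FX} {fc : FC} {fz : FZ} {F : Type*} [Field F]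

/-- the fundamental roots of the orbits of `i` and `j` are pairwise different with trivial commutator formula -/
def chkCommP (fd : FD) (ga : GA) (k i j : ℕ) : Bool :=
  (List.range k).all fun a => (List.range k).all fun b =>
    !(Nat.beq (fd.simples.getD (rhIt ga a i) 0) (fd.simples.getD (rhIt ga b j) 0)) &&
    (fd.commT (fd.simples.getD (rhIt ga a i) 0) (fd.simples.getD (rhIt ga b j) 0)).isEmpty

theorem chkCommP_spec {fd : FD} {ga : GA} {k i j : ℕ} (h : chkCommP fd ga k i j = true) (a : ℕ) (ha : a < k)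
    (b : ℕ) (hb : b < k) :
    fd.simples.getD (rhIt ga a i) 0 ≠ fd.simples.getD (rhIt ga b j) 0 ∧
    fd.commT (fd.simples.getD (rhIt ga a i) 0) (fd.simples.getD (rhIt ga b j) 0) = [] := by
  simp only [chkCommP, List.all_eq_true, List.mem_range, Bool.and_eq_true, Bool.not_eq_true',
    ← Bool.not_eq_true, natBeq_iff, List.isEmpty_iff] at h
  exact h a ha b hb

/-- the reflection of the orbit `i` raises the height of the `j`-th fundamental root -/
def chkNC (fd : FD) (fx : FX) (ga : GA) (k i j : ℕ) : Bool :=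
  decide (fd.ht fx (fd.simples.getD j 0) < fd.ht fx (fd.piS fx ga k i (fd.simples.getD j 0))) &&
    (List.range k).all fun a => !(Nat.beq (fd.simples.getD j 0) (fd.gIt ga a (fd.simples.getD i 0)))

namespace Cert12

variable (C : Cert12 D fd fx fc fz) {ga : GA} {k : ℕ} {φ : F →+* F} {RL sreps : List ℕ} {fq : FQ} {q : ℕ}

section
include C

theorem coordM_zero_of_GF' (m : ℤ) (r : ℕ) (hr : r < fd.n) (hrm : fd.ht fx r < m) (M : Matrix D.Idx D.Idx F)
    (hM : M ∈ GF D F (fd.wtA fx D hwt) m) : coordM D fd fz F r M = 0 := by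
  have hn := C.c6.c2.nroots_eq
  have hr' : r < D.nroots := by omega
  rw [coordM_eq r hr']
  apply Finset.sum_eq_zero
  intro j _
  have : M (Sum.inl j) (Sum.inr ⟨D.nroots - 1 - r, by omega⟩) = 0 := by
    by_contra h
    have h1 := hM.2 (Sum.inl j) (Sum.inr ⟨D.nroots - 1 - r, by omega⟩) (by intro e; cases e) h
    rw [C.wtA_inl, C.wtA_inr] at h1
    simp only at h1
    rw [hn] at h1
    have h2 := C.ht_neg r hr
    unfold FD.ht at h2 hrm
    omega
  rw [this, mul_zero]

end

variable (W : TwPack C ga k φ RL sreps fq q)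
include W

/-- commuting positive fundamental root subgroups -/
theorem pComm_of_chk (i : ℕ) (hi : i ∈ sreps) (j : ℕ) (hj : j ∈ sreps) (h : chkCommP fd ga k i j = true) :
    C.PComm ga k φ sreps i hi j hj := by
  have hil := W.S.sreps_lt i hi
  have hjl := W.S.sreps_lt j hj
  have hev := C.c6.c2.heven
  intro t u
  apply Subtype.ext
  simp only [xp, Subgroup.coe_mul]
  rw [(C.xS_simple W.T W.T2 φ (k := k) i hil t).1, (C.xS_simple W.T W.T2 φ (k := k) j hjl u).1]
  apply Commute.list_prod_left
  intro x hx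
  apply Commute.list_prod_right
  intro y hy
  obtain ⟨a, ha, rfl⟩ := List.mem_map.mp hx
  obtain ⟨b, hb, rfl⟩ := List.mem_map.mp hy
  rw [List.mem_range] at ha hb
  have hk1 := C.pk_k1 W
  have ha' : a < k := by split_ifs at ha <;> omega
  have hb' : b < k := by split_ifs at hb <;> omega
  obtain ⟨hne, hnil⟩ := chkCommP_spec h a ha' b hb'
  have hla := C.rhIt_lt W.T W.T2 a i hil
  have hlb := C.rhIt_lt W.T W.T2 b j hjl
  have hpa := C.c6.c2.simple_lt _ hla
  have hpb := C.c6.c2.simple_lt _ hlb
  have hppa := C.c6.simple_pos _ hla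
  have hppb := C.c6.simple_pos _ hlb
  have := C.c6.cfg (F := F) (fd.simples.getD (rhIt ga a i) 0) (fd.simples.getD (rhIt ga b j) 0) hpa hpb
    (Ne.symm hne) (by omega) (φ^[a] t) (φ^[b] u)
  rw [hnil] at this
  simp only [Cert2.ctG, List.map_nil, List.prod_nil, mul_one] at this
  exact this.symm

/-- non commuting positive fundamental root subgroups -/
theorem not_pComm_of_chk (hPos : fd.chkPiSPos fx ga k sreps = true) (hDisj : chkDisj ga k sreps = true)
    (i : ℕ) (hi : i ∈ sreps) (j : ℕ) (hj : j ∈ sreps) (hij : i ≠ j)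
    (h : chkNC fd fx ga k i j = true) : ¬ C.PComm ga k φ sreps i hi j hj := by
  intro hc
  have hil := W.S.sreps_lt i hi
  have hjl := W.S.sreps_lt j hj
  have hev := C.c6.c2.heven
  have hk1 := C.pk_k1 W
  have hpj := C.c6.c2.simple_lt j hjl
  have hppj := C.c6.simple_pos j hjl
  simp only [chkNC, Bool.and_eq_true, decide_eq_true_eq, List.all_eq_true, List.mem_range, Bool.not_eq_true',
    ← Bool.not_eq_true, natBeq_iff] at h
  obtain ⟨hht, hout⟩ := h
  -- `n_S` commutes with `x_j(1)`
  have h1 := congrArg Subtype.val (hc 1 1)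
  have h2 := C.xS_comm_pos_neg W hDisj j hj i hi (Ne.symm hij) 1 (-1)
  simp only [xp, Subgroup.coe_mul, OneMemClass.coe_one] at h1
  have h3 : C.nS F ga k i * C.xS ga k φ (fd.simples.getD j 0) 1 * (C.nS F ga k i)⁻¹ =
      C.xS ga k φ (fd.simples.getD j 0) 1 := by
    rw [mul_inv_eq_iff_eq_mul, C.nS_eq W.T W.T2 φ W.hk i hil]
    set A := C.xS ga k φ (fd.simples.getD i 0) 1
    set B := C.xS ga k φ (fd.n - 1 - fd.simples.getD i 0) (-1)
    set X := C.xS ga k φ (fd.simples.getD j 0) 1
    calc A * B * A * X = A * B * (A * X) := by group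
      _ = A * B * (X * A) := by rw [h1]
      _ = A * (B * X) * A := by group
      _ = A * (X * B) * A := by rw [h2]
      _ = (A * X) * B * A := by group
      _ = (X * A) * B * A := by rw [h1]
      _ = X * (A * B * A) := by group
  obtain ⟨c, hc0, _, hcc⟩ := C.conj_xS_perm W.T W.T2 φ (k := k) (C.nS F ga k i)
    (C.nS_mem_monomial W.T W.T2 i) (C.sigma_nS W.T W.T2 φ W.hk W.hφk i hil) _ (C.perm_nS W.T W.T2 i hil)
    (fd.simples.getD j 0) hpj
  have h4 := hcc 1
  rw [h3, mul_one] at h4
  have hr' := ((C.perm_nS W.T W.T2 (F := F) i hil) _ hpj).1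
  have hpos' := FD.chkPiSPos_spec hPos i hi _ hpj hppj hout
  have h5 := (C.coord_xS W.T φ hk1 _ hr' hpos' (W.T.htpos _ hr' hpos') c).1
  have h6 := (C.coord_xS W.T φ hk1 _ hpj hppj (W.T.htpos _ hpj hppj) (1 : F)).2
  rw [h4, C.coordM_zero_of_GF' _ _ hpj hht _ h5] at h6
  exact zero_ne_one h6

end Cert12

end Cfsg.Agent.Lib.H29.Chev
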