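import Mathlib
import Cfsg.Agent.Lib.H29.TwAutB

/-!
# Automorphisms of twisted groups, part C: the torus elements of a rank one group, parametrizing maps, and a
closure of a set of nodes along directed edges
-/

set_option autoImplicit false
set_option linter.unusedSectionVars false
set_option linter.unusedSimpArgs false
set_option linter.unusedVariables false

namespace Cfsg.Agent.Lib.H29.Chev

namespace RankOne

variable {G k : Type*} [Group G] [Field k] {xp xm : k → G}

/-- the torus element `h(t) = n(t) n(-1)` -/
def hh (xp xm : k → G) (t : k) : G := nn xp xm t * nn xp xm (-1)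

variable (R : RankOne xp xm)
include R

/-- the action of the torus element on the positive root subgroup -/
theorem hh_conj_p (a : k) (ha : a ≠ 0) (u : k) : hh xp xm a * xp u * (hh xp xm a)⁻¹ = xp (a * a * u) := by
  have h1 := R.conj_p (-1) (neg_ne_zero.mpr one_ne_zero) u
  have h2 := R.conj_m a ha (-u)
  have e1 : -((-1 : k)⁻¹ * (-1 : k)⁻¹) * u = -u := by
    rw [inv_neg, inv_one]; ring
  have e2 : -(a * a) * -u = a * a * u := by ring
  rw [e1] at h1
  rw [e2] at h2
  change nn xp xm (-1) * xp u * (nn xp xm (-1))⁻¹ = xm (-u) at h1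
  change nn xp xm a * xm (-u) * (nn xp xm a)⁻¹ = xp (a * a * u) at h2
  unfold hh
  rw [← h2, ← h1]
  group

end RankOne

/-- the torus elements are mapped to torus elements -/
theorem rank_one_hh {G G' k k' : Type*} [Group G] [Group G'] [Field k] [Field k'] {xp xm : k → G}
    {xp' xm' : k' → G'} (R : RankOne xp xm) (R' : RankOne xp' xm') (θ : G →* G') (f g : k →+ k')
    (hf : ∀ t, θ (xp t) = xp' (f t)) (hg : ∀ t, θ (xm t) = xm' (g t))
    (fsurj : Function.Surjective f) (ginj : Function.Injective g) (h1 : f 1 = 1) (t : k) (ht : t ≠ 0) :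
    θ (RankOne.hh xp xm t) = RankOne.hh xp' xm' (f t) := by
  unfold RankOne.hh
  rw [map_mul, rank_one_nn R R' θ f g hf hg fsurj ginj t ht,
    rank_one_nn R R' θ f g hf hg fsurj ginj (-1) (neg_ne_zero.mpr one_ne_zero), map_neg, h1]

/-- the additive map parametrizing a homomorphism mapping a root subgroup into a root subgroup -/
theorem exists_addHom {G G' k k' : Type*} [Group G] [Group G'] [Field k] [Field k'] {xp : k → G} {xp' : k' → G'}
    (hadd : ∀ a b, xp (a + b) = xp a * xp b) (hadd' : ∀ a b, xp' (a + b) = xp' a * xp' b)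
    (hinj' : Function.Injective xp') (θ : G →* G') (h : ∀ t, ∃ t', θ (xp t) = xp' t') :
    ∃ f : k →+ k', ∀ t, θ (xp t) = xp' (f t) := by
  choose f hf using h
  have h0 : xp' 0 = 1 := by
    have := hadd' 0 0
    rw [add_zero] at this
    exact mul_eq_left.mp this.symm
  have hx0 : xp 0 = 1 := by
    have := hadd 0 0
    rw [add_zero] at this
    exact mul_eq_left.mp this.symm
  refine ⟨⟨⟨f, ?_⟩, ?_⟩, hf⟩
  · apply hinj'
    rw [← hf, hx0, map_one, h0]
  · intro a b
    apply hinj'
    rw [← hf, hadd, map_mul, hf, hf, hadd']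

/-- closure of a set of nodes along directed edges, processed in order: the source of an edge is added when its
target is present -/
def closeD (es : List (ℕ × ℕ)) (K : List ℕ) : List ℕ :=
  es.foldl (fun K e => if e.2 ∈ K then e.1 :: K else K) K

theorem closeD_induction (P : ℕ → Prop) (es : List (ℕ × ℕ)) (hes : ∀ e ∈ es, P e.2 → P e.1) :
    ∀ K : List ℕ, (∀ k ∈ K, P k) → ∀ k ∈ closeD es K, P k := by
  induction es with
  | nil => intro K hK k hk; exact hK k hk
  | cons e es ih =>
    intro K hK k hk
    unfold closeD at hk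
    rw [List.foldl_cons] at hk
    have hes' : ∀ e' ∈ es, P e'.2 → P e'.1 := fun e' he' => hes e' (List.mem_cons_of_mem _ he')
    by_cases hc : e.2 ∈ K
    · rw [if_pos hc] at hk
      apply ih hes' (e.1 :: K) _ k hk
      intro k' hk'
      rcases List.mem_cons.mp hk' with rfl | hk'
      · exact hes e List.mem_cons_self (hK _ hc)
      · exact hK _ hk'
    · rw [if_neg hc] at hk
      exact ih hes' K hK k hk

end Cfsg.Agent.Lib.H29.Chev
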