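import Mathlib
import Cfsg.Prelude.Def_ChevStructure
import Cfsg.Prelude.Def_LieExceptional
import Cfsg.Agent.Lib.H29.TwAut14
import Cfsg.Agent.Lib.H29.TwAutC
import Cfsg.Agent.Lib.H29.ChevAut9
import Cfsg.Agent.Lib.H29.ChevFld2

/-!
# Automorphisms of twisted groups, part 15: restriction of automorphisms of the general linear group to the
twisted group; the diagonal automorphisms
-/

set_option autoImplicit false
set_option linter.unusedSectionVars false
set_option linter.unusedSimpArgs false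
set_option linter.unusedVariables false

namespace Cfsg.Agent.Lib.H29.Chev

open Cfsg.Lie Matrix

variable {D : ChevalleyDatum} {fd : FD} {fx : FX} {fc : FC} {fz : FZ} {F : Type*} [Field F]

/-- the restriction to a finite subgroup of an automorphism mapping the subgroup into itself -/
noncomputable def restrictEquivFin {G : Type*} [Group G] (H : Subgroup G) [Finite H] (Θ : G ≃* G)
    (h1 : ∀ g ∈ H, Θ g ∈ H) : H ≃* H :=
  MulEquiv.ofBijective
    ({ toFun := fun g => ⟨Θ (g : G), h1 (g : G) g.2⟩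
       map_one' := Subtype.ext (map_one Θ)
       map_mul' := fun a b => Subtype.ext (map_mul Θ (a : G) (b : G)) } : H →* H)
    (Finite.injective_iff_bijective.mp (fun a b hab => Subtype.ext (Θ.injective (congrArg Subtype.val hab))))

theorem restrictEquivFin_val {G : Type*} [Group G] (H : Subgroup G) [Finite H] (Θ : G ≃* G)
    (h1 : ∀ g ∈ H, Θ g ∈ H) (g : H) : ((restrictEquivFin H Θ h1 g : H) : G) = Θ g := rfl

/-- extension by `1` of a family of units on the nodes -/
def extX {l : ℕ} (x : Fin l → Fˣ) : ℕ → Fˣ := fun j => if h : j < l then x ⟨j, h⟩ else 1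

/-- the diagonal matrix attached to an element of the torus of parameters -/
noncomputable def dX (D : ChevalleyDatum) (fd : FD) (fx : FX) (x : Fin fd.l → Fˣ) : GL D.Idx F :=
  charDiagG D (chiOf fd fx (extX x))

namespace Cert12

variable (C : Cert12 D fd fx fc fz) {ga : GA} {k : ℕ} {φ : F →+* F} {RL sreps : List ℕ} {fq : FQ} {q : ℕ}

variable (W : TwPack C ga k φ RL sreps fq q)
include W

/-- a homomorphism rescaling the root elements maps `U` into `U` -/
theorem hom_pos_mem (Θ : GL D.Idx F →* GL D.Idx F)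
    (h : ∀ r < fd.n, ∀ t, ∃ t', Θ (C.c6.c2.xA r t) = C.c6.c2.xA r t') (g : GL D.Idx F)
    (hg : g ∈ D.posUnipotent F) : Θ g ∈ D.posUnipotent F := by
  unfold ChevalleyDatum.posUnipotent at hg
  induction hg using Subgroup.closure_induction with
  | mem x hx =>
    obtain ⟨r, t, hpos, hx⟩ := hx
    obtain ⟨hr, hpr⟩ := (C.c6.isPos_iff r).mp hpos
    have : x = C.c6.c2.xA r t := gl_ext (by rw [hx, C.c6.c2.xA_val])
    obtain ⟨t', ht'⟩ := h r hr t
    rw [this, ht']
    exact C.xA_mem_pos W.T W.T2 r hr hpr t'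
  | one => rw [map_one]; exact one_mem _
  | mul x y _ _ hx hy => rw [map_mul]; exact mul_mem hx hy
  | inv x _ hx => rw [map_inv]; exact inv_mem hx

/-- a homomorphism rescaling the root elements maps `V` into `V` -/
theorem hom_neg_mem (Θ : GL D.Idx F →* GL D.Idx F)
    (h : ∀ r < fd.n, ∀ t, ∃ t', Θ (C.c6.c2.xA r t) = C.c6.c2.xA r t') (g : GL D.Idx F)
    (hg : g ∈ D.negUnipotent F) : Θ g ∈ D.negUnipotent F := by
  unfold ChevalleyDatum.negUnipotent at hg
  induction hg using Subgroup.closure_induction with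
  | mem x hx =>
    obtain ⟨r, t, hneg, hx⟩ := hx
    obtain ⟨hnr, hr⟩ := (isNeg_iff C.c6.c2.agrees C.c6.c2.lev r).mp hneg
    have : x = C.c6.c2.xA r t := gl_ext (by rw [hx, C.c6.c2.xA_val])
    obtain ⟨t', ht'⟩ := h r hr t
    rw [this, ht']
    exact C.xA_mem_neg W.T W.T2 r hr hnr t'
  | one => rw [map_one]; exact one_mem _
  | mul x y _ _ hx hy => rw [map_mul]; exact mul_mem hx hy
  | inv x _ hx => rw [map_inv]; exact inv_mem hx


/-- an automorphism of the general linear group mapping the generators of the twisted group into the twisted group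
maps the twisted group into itself -/
theorem mem_G1_of_gen (Θ : GL D.Idx F →* GL D.Idx F)
    (h : ∀ i ∈ sreps, ∀ t ∈ Kr fd ga φ (fd.simples.getD i 0),
      Θ (C.xS ga k φ (fd.simples.getD i 0) t) ∈ C.G1 ga k φ sreps ∧
      Θ (C.xS ga k φ (fd.n - 1 - fd.simples.getD i 0) t) ∈ C.G1 ga k φ sreps) (g : GL D.Idx F)
    (hg : g ∈ C.G1 ga k φ sreps) : Θ g ∈ C.G1 ga k φ sreps := by
  have : C.G1 ga k φ sreps ≤ (C.G1 ga k φ sreps).comap Θ := by
    rw [Subgroup.closure_le]
    rintro y ⟨i, hi, t, ht, rfl | rfl⟩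
    · exact (h i hi t ht).1
    · exact (h i hi t ht).2
  exact this hg

/-- a fixed point of `σ` on the torus of parameters has admissible values at the nodes -/
theorem fix_mem_Kr (x : Fin fd.l → Fˣ) (hx : sigT fd ga k φ x = x) (i : ℕ) (hi : i < fd.l) :
    ((x ⟨i, hi⟩ : Fˣ) : F) ∈ Kr fd ga φ (fd.simples.getD i 0) := by
  intro hfix
  have hrh : ga.rh.getD i 0 = i := by
    by_contra hne
    exact C.gRoot_simple_ne W.T W.T2 i hi hne hfix
  have h1 := C.fix_coord W.T W.T2 φ (C.pk_k1 W) x hx i hi 1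
  have e : (⟨rhIt ga 1 i, C.rhIt_lt W.T W.T2 1 i hi⟩ : Fin fd.l) = ⟨i, hi⟩ := Fin.ext hrh
  rw [e] at h1
  have h2 := congrArg Units.val h1
  rw [units_iterate_val] at h2
  exact h2.symm

/-- the conjugation by the diagonal matrix of a fixed point of `σ` on the elements `x_S(t)` -/
theorem dX_conj_xS (hS : DiagConj D F) (x : Fin fd.l → Fˣ) (hx : sigT fd ga k φ x = x) (i : ℕ) (hi : i < fd.l)
    (t : F) :
    dX D fd fx x * C.xS ga k φ (fd.simples.getD i 0) t * (dX D fd fx x)⁻¹ =
      C.xS ga k φ (fd.simples.getD i 0) (((x ⟨i, hi⟩ : Fˣ) : F) * t) ∧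
    dX D fd fx x * C.xS ga k φ (fd.n - 1 - fd.simples.getD i 0) t * (dX D fd fx x)⁻¹ =
      C.xS ga k φ (fd.n - 1 - fd.simples.getD i 0) ((((x ⟨i, hi⟩)⁻¹ : Fˣ) : F) * t) := by
  have hev := C.c6.c2.heven
  have hχ := C.isRootCharacter_chiOf (F := F) (extX x)
  have hcoord : ∀ a, ((extX x (rhIt ga a i) : Fˣ) : F) = φ^[a] ((x ⟨i, hi⟩ : Fˣ) : F) := by
    intro a
    unfold extX
    rw [dif_pos (C.rhIt_lt W.T W.T2 a i hi), C.fix_coord W.T W.T2 φ (C.pk_k1 W) x hx i hi a, units_iterate_val]
  constructor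
  · rw [(C.xS_simple W.T W.T2 φ (k := k) i hi t).1, (C.xS_simple W.T W.T2 φ (k := k) i hi _).1, conj_list_prod,
      List.map_map]
    congr 1
    apply List.map_congr_left
    intro a _
    have hla := C.rhIt_lt W.T W.T2 a i hi
    simp only [Function.comp]
    unfold dX
    rw [C.charDiagG_conj hS _ hχ _ (C.c6.c2.simple_lt _ hla), C.chiOf_simple _ _ hla, hcoord a, iterate_map_mul]
  · rw [(C.xS_simple W.T W.T2 φ (k := k) i hi t).2, (C.xS_simple W.T W.T2 φ (k := k) i hi _).2, conj_list_prod,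
      List.map_map]
    congr 1
    apply List.map_congr_left
    intro a _
    have hla := C.rhIt_lt W.T W.T2 a i hi
    have hpa := C.c6.c2.simple_lt _ hla
    simp only [Function.comp]
    unfold dX
    rw [C.charDiagG_conj hS _ hχ _ (by omega), C.chiOf_negsimple _ _ hla, iterate_map_mul,
      Units.val_inv_eq_inv_val, Units.val_inv_eq_inv_val, hcoord a, iterate_hom_inv]

end Cert12

end Cfsg.Agent.Lib.H29.Chev
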