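import Mathlib
import Cfsg.Prelude.Def_ChevStructure
import Cfsg.Prelude.Def_LieExceptional
import Cfsg.Agent.Lib.H29.TwAut15

/-!
# Automorphisms of twisted groups, part 16: the diagonal and the field automorphisms of the twisted group
-/

set_option autoImplicit false
set_option linter.unusedSectionVars false
set_option linter.unusedSimpArgs false
set_option linter.unusedVariables false

namespace Cfsg.Agent.Lib.H29.Chev

open Cfsg.Lie Matrix

variable {D : ChevalleyDatum} {fd : FD} {fx : FX} {fc : FC} {fz : FZ} {F : Type*} [Field F]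

/-- base change along a field automorphism, as an automorphism of the general linear group -/
noncomputable def bcEquiv (D : ChevalleyDatum) (ψ : F ≃+* F) : GL D.Idx F ≃* GL D.Idx F where
  toFun := bc D (ψ : F →+* F)
  invFun := bc D (ψ.symm : F →+* F)
  left_inv g := by
    show bc D (ψ.symm : F →+* F) (bc D (ψ : F →+* F) g) = g
    rw [← bc_comp]
    have : ((ψ.symm : F →+* F).comp (ψ : F →+* F)) = RingHom.id F := by
      ext x; simp
    rw [this, bc_id]
  right_inv g := by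
    show bc D (ψ : F →+* F) (bc D (ψ.symm : F →+* F) g) = g
    rw [← bc_comp]
    have : ((ψ : F →+* F).comp (ψ.symm : F →+* F)) = RingHom.id F := by
      ext x; simp
    rw [this, bc_id]
  map_mul' a b := map_mul (bc D (ψ : F →+* F)) a b

theorem bcEquiv_apply (D : ChevalleyDatum) (ψ : F ≃+* F) (g : GL D.Idx F) :
    bcEquiv D ψ g = bc D (ψ : F →+* F) g := rfl

/-- the parameter field at the `i`-th fundamental root -/
abbrev KS (fd : FD) (ga : GA) (φ : F →+* F) (i : ℕ) : Subfield F := KrF fd ga φ (fd.simples.getD i 0)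

namespace Cert12

variable (C : Cert12 D fd fx fc fz) {ga : GA} {k : ℕ} {φ : F →+* F} {RL sreps : List ℕ} {fq : FQ} {q : ℕ}

variable (W : TwPack C ga k φ RL sreps fq q)
include W

theorem frob_comm (ψ : F ≃+* F) (t : F) : φ (ψ t) = ψ (φ t) := by
  rw [W.hφ, W.hφ, map_pow]

theorem frob_iterate_comm (ψ : F ≃+* F) (j : ℕ) (t : F) : φ^[j] (ψ t) = ψ (φ^[j] t) := by
  induction j with
  | zero => rfl
  | succ j ih => rw [Function.iterate_succ_apply', Function.iterate_succ_apply', ih, C.frob_comm W]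

theorem field_mem_Kr (ψ : F ≃+* F) (r : ℕ) (t : F) (ht : t ∈ Kr fd ga φ r) : ψ t ∈ Kr fd ga φ r := by
  intro hfix
  rw [C.frob_comm W, ht hfix]

/-- base change along a field automorphism on the elements `x_S(t)` -/
theorem bc_xS (ψ : F ≃+* F) (r : ℕ) (t : F) :
    bc D (ψ : F →+* F) (C.xS ga k φ r t) = C.xS ga k φ r (ψ t) := by
  unfold xS
  rw [map_list_prod, List.map_map]
  congr 1
  apply List.map_congr_left
  intro j _
  simp only [Function.comp]
  unfold aj
  rw [C.c6.c2.bc_xA]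
  congr 1
  show ψ (((fd.eProd ga r j : ℤ) : F) * φ^[j] t) = ((fd.eProd ga r j : ℤ) : F) * φ^[j] (ψ t)
  rw [map_mul, map_intCast, C.frob_iterate_comm W]

/-- the value of a fixed point of `σ` at a node, as an element of the parameter field -/
def xK (x : Fin fd.l → Fˣ) (hx : sigT fd ga k φ x = x) (i : ℕ) (hi : i < fd.l) : ↥(KS fd ga φ i) :=
  ⟨((x ⟨i, hi⟩ : Fˣ) : F), C.fix_mem_Kr W x hx i hi⟩

theorem xK_ne_zero (x : Fin fd.l → Fˣ) (hx : sigT fd ga k φ x = x) (i : ℕ) (hi : i < fd.l) :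
    C.xK W x hx i hi ≠ 0 := by
  intro h
  have := congrArg Subtype.val h
  exact (x ⟨i, hi⟩).ne_zero this

theorem dX_conj_mem [Finite F] (hS : DiagConj D F) (x : Fin fd.l → Fˣ) (hx : sigT fd ga k φ x = x)
    (g : GL D.Idx F) (hg : g ∈ C.G1 ga k φ sreps) :
    MulAut.conj (dX D fd fx x) g ∈ C.G1 ga k φ sreps := by
  refine C.mem_G1_of_gen W (MulAut.conj (dX D fd fx x)).toMonoidHom (fun i hi t ht => ?_) g hg
  have hil := W.S.sreps_lt i hi
  obtain ⟨h1, h2⟩ := C.dX_conj_xS W hS x hx i hil t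
  have hm1 : ((x ⟨i, hil⟩ : Fˣ) : F) * t ∈ Kr fd ga φ (fd.simples.getD i 0) :=
    (KS fd ga φ i).mul_mem (C.fix_mem_Kr W x hx i hil) ht
  have hm2 : (((x ⟨i, hil⟩)⁻¹ : Fˣ) : F) * t ∈ Kr fd ga φ (fd.simples.getD i 0) := by
    rw [Units.val_inv_eq_inv_val]
    exact (KS fd ga φ i).mul_mem ((KS fd ga φ i).inv_mem (C.fix_mem_Kr W x hx i hil)) ht
  constructor
  · show dX D fd fx x * _ * (dX D fd fx x)⁻¹ ∈ _
    rw [h1]
    exact Subgroup.subset_closure ⟨i, hi, _, hm1, Or.inl rfl⟩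
  · show dX D fd fx x * _ * (dX D fd fx x)⁻¹ ∈ _
    rw [h2]
    exact Subgroup.subset_closure ⟨i, hi, _, hm2, Or.inr rfl⟩

/-- the diagonal automorphism of the twisted group attached to a fixed point of `σ` -/
noncomputable def twDiag [Finite F] (hS : DiagConj D F) (x : Fin fd.l → Fˣ) (hx : sigT fd ga k φ x = x) :
    ↥(C.G1 ga k φ sreps) ≃* ↥(C.G1 ga k φ sreps) :=
  restrictEquivFin (C.G1 ga k φ sreps) (MulAut.conj (dX D fd fx x)) (C.dX_conj_mem W hS x hx)

theorem twDiag_val [Finite F] (hS : DiagConj D F) (x : Fin fd.l → Fˣ) (hx : sigT fd ga k φ x = x)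
    (g : ↥(C.G1 ga k φ sreps)) :
    ((C.twDiag W hS x hx g : ↥(C.G1 ga k φ sreps)) : GL D.Idx F) =
      dX D fd fx x * (g : GL D.Idx F) * (dX D fd fx x)⁻¹ := rfl

theorem twDiag_xp [Finite F] (hS : DiagConj D F) (x : Fin fd.l → Fˣ) (hx : sigT fd ga k φ x = x)
    (i : ℕ) (hi : i ∈ sreps) (t : ↥(KS fd ga φ i)) :
    C.twDiag W hS x hx (C.xp ga k φ sreps i hi t) =
      C.xp ga k φ sreps i hi (C.xK W x hx i (W.S.sreps_lt i hi) * t) := by
  apply Subtype.ext
  rw [C.twDiag_val W]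
  exact (C.dX_conj_xS W hS x hx i (W.S.sreps_lt i hi) t).1

theorem twDiag_xm [Finite F] (hS : DiagConj D F) (x : Fin fd.l → Fˣ) (hx : sigT fd ga k φ x = x)
    (i : ℕ) (hi : i ∈ sreps) (t : ↥(KS fd ga φ i)) :
    C.twDiag W hS x hx (C.xm ga k φ sreps i hi t) =
      C.xm ga k φ sreps i hi ((C.xK W x hx i (W.S.sreps_lt i hi))⁻¹ * t) := by
  apply Subtype.ext
  rw [C.twDiag_val W]
  have := (C.dX_conj_xS W hS x hx i (W.S.sreps_lt i hi) t).2
  rw [Units.val_inv_eq_inv_val] at this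
  exact this

theorem twStd_twDiag [Finite F] (hS : DiagConj D F) (x : Fin fd.l → Fˣ) (hx : sigT fd ga k φ x = x) :
    C.TwStd ga k φ sreps (C.twDiag W hS x hx) := by
  have hχ := C.isRootCharacter_chiOf (F := F) (extX x)
  have hresc : ∀ r < fd.n, ∀ t, ∃ t', (MulAut.conj (dX D fd fx x)).toMonoidHom (C.c6.c2.xA r t) =
      C.c6.c2.xA r t' := by
    intro r hr t
    exact ⟨_, C.charDiagG_conj hS _ hχ r hr t⟩
  constructor
  · apply iff_of_forall_mem_fin
    intro g hg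
    apply Subgroup.mem_subgroupOf.mpr
    rw [C.twDiag_val W]
    exact C.hom_pos_mem W _ hresc _ (Subgroup.mem_subgroupOf.mp hg)
  · apply iff_of_forall_mem_fin
    intro g hg
    apply Subgroup.mem_subgroupOf.mpr
    rw [C.twDiag_val W]
    exact C.hom_neg_mem W _ hresc _ (Subgroup.mem_subgroupOf.mp hg)

theorem bc_mem [Finite F] (ψ : F ≃+* F) (g : GL D.Idx F) (hg : g ∈ C.G1 ga k φ sreps) :
    bcEquiv D ψ g ∈ C.G1 ga k φ sreps := by
  refine C.mem_G1_of_gen W (bcEquiv D ψ).toMonoidHom (fun i hi t ht => ?_) g hg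
  have hil := W.S.sreps_lt i hi
  constructor
  · show bc D (ψ : F →+* F) _ ∈ _
    rw [C.bc_xS W]
    exact Subgroup.subset_closure ⟨i, hi, _, C.field_mem_Kr W ψ _ t ht, Or.inl rfl⟩
  · show bc D (ψ : F →+* F) _ ∈ _
    rw [C.bc_xS W]
    exact Subgroup.subset_closure ⟨i, hi, _, C.field_mem_Kr W ψ _ t ht, Or.inr rfl⟩

/-- the field automorphism of the twisted group attached to an automorphism of the field -/
noncomputable def twField [Finite F] (ψ : F ≃+* F) : ↥(C.G1 ga k φ sreps) ≃* ↥(C.G1 ga k φ sreps) :=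
  restrictEquivFin (C.G1 ga k φ sreps) (bcEquiv D ψ) (C.bc_mem W ψ)

theorem twField_val [Finite F] (ψ : F ≃+* F) (g : ↥(C.G1 ga k φ sreps)) :
    ((C.twField W ψ g : ↥(C.G1 ga k φ sreps)) : GL D.Idx F) = bc D (ψ : F →+* F) (g : GL D.Idx F) := rfl

/-- the image of a parameter under a field automorphism -/
def fK (ψ : F ≃+* F) (i : ℕ) (t : ↥(KS fd ga φ i)) : ↥(KS fd ga φ i) :=
  ⟨ψ (t : F), C.field_mem_Kr W ψ _ _ t.2⟩

theorem twField_xp [Finite F] (ψ : F ≃+* F) (i : ℕ) (hi : i ∈ sreps) (t : ↥(KS fd ga φ i)) :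
    C.twField W ψ (C.xp ga k φ sreps i hi t) = C.xp ga k φ sreps i hi (C.fK W ψ i t) := by
  apply Subtype.ext
  rw [C.twField_val W]
  exact C.bc_xS W ψ _ _

theorem twField_xm [Finite F] (ψ : F ≃+* F) (i : ℕ) (hi : i ∈ sreps) (t : ↥(KS fd ga φ i)) :
    C.twField W ψ (C.xm ga k φ sreps i hi t) = C.xm ga k φ sreps i hi (C.fK W ψ i t) := by
  apply Subtype.ext
  rw [C.twField_val W]
  exact C.bc_xS W ψ _ _

theorem twStd_twField [Finite F] (ψ : F ≃+* F) : C.TwStd ga k φ sreps (C.twField W ψ) := by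
  have hresc : ∀ r < fd.n, ∀ t, ∃ t', (bcEquiv D ψ).toMonoidHom (C.c6.c2.xA r t) = C.c6.c2.xA r t' := by
    intro r hr t
    exact ⟨_, C.c6.c2.bc_xA (ψ : F →+* F) r t⟩
  constructor
  · apply iff_of_forall_mem_fin
    intro g hg
    apply Subgroup.mem_subgroupOf.mpr
    rw [C.twField_val W]
    exact C.hom_pos_mem W _ hresc _ (Subgroup.mem_subgroupOf.mp hg)
  · apply iff_of_forall_mem_fin
    intro g hg
    apply Subgroup.mem_subgroupOf.mpr
    rw [C.twField_val W]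
    exact C.hom_neg_mem W _ hresc _ (Subgroup.mem_subgroupOf.mp hg)

/-- two automorphisms of the twisted group agreeing on the generators are equal -/
theorem tw_aut_ext (θ θ' : ↥(C.G1 ga k φ sreps) ≃* ↥(C.G1 ga k φ sreps))
    (h1 : ∀ i (hi : i ∈ sreps) t, θ (C.xp ga k φ sreps i hi t) = θ' (C.xp ga k φ sreps i hi t))
    (h2 : ∀ i (hi : i ∈ sreps) t, θ (C.xm ga k φ sreps i hi t) = θ' (C.xm ga k φ sreps i hi t))
    (g : ↥(C.G1 ga k φ sreps)) : θ g = θ' g := by
  have key : ∀ x (hx : x ∈ C.G1 ga k φ sreps), θ ⟨x, hx⟩ = θ' ⟨x, hx⟩ := by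
    intro x hx
    induction hx using Subgroup.closure_induction with
    | mem y hy =>
      obtain ⟨i, hi, t, ht, rfl | rfl⟩ := hy
      · exact h1 i hi ⟨t, ht⟩
      · exact h2 i hi ⟨t, ht⟩
    | one => exact (map_one θ).trans (map_one θ').symm
    | mul a b ha hb iha ihb =>
      have : (⟨a * b, mul_mem ha hb⟩ : ↥(C.G1 ga k φ sreps)) = ⟨a, ha⟩ * ⟨b, hb⟩ := rfl
      rw [this, map_mul, map_mul, iha, ihb]
    | inv a ha iha =>
      have : (⟨a⁻¹, inv_mem ha⟩ : ↥(C.G1 ga k φ sreps)) = (⟨a, ha⟩ : ↥(C.G1 ga k φ sreps))⁻¹ := rfl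
      rw [this, map_inv, map_inv, iha]
  exact key g.1 g.2

end Cert12

end Cfsg.Agent.Lib.H29.Chev
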