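import Mathlib
import Cfsg.Prelude.Def_ChevStructure
import Cfsg.Prelude.Def_LieExceptional
import Cfsg.Agent.Lib.H29.TwAut16
import Cfsg.Agent.Lib.H29.ChevTw32

/-!
# Automorphisms of twisted groups, part 17: the action of the elements `h_S(t)` on the fundamental root
subgroups of the twisted group
-/

set_option autoImplicit false
set_option linter.unusedSectionVars false
set_option linter.unusedSimpArgs false
set_option linter.unusedVariables false

namespace Cfsg.Agent.Lib.H29.Chev

open Cfsg.Lie Matrix

variable {D : ChevalleyDatum} {fd : FD} {fx : FX} {fc : FC} {fz : FZ} {F : Type*} [Field F]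

/-- the pairing of the root `s` with the coroots of the orbit of the `i`-th fundamental root: `e` at the `i`-th
fundamental root and `0` at the others -/
def chkChi (fd : FD) (ga : GA) (k i s : ℕ) (e : ℤ) : Bool :=
  intBeq (fd.carZ i s) e &&
    (List.range k).all fun b => Nat.beq b 0 || Nat.beq (ga.rh.getD i 0) i || intBeq (fd.carZ (rhIt ga b i) s) 0

namespace Cert12

variable (C : Cert12 D fd fx fc fz) {ga : GA} {k : ℕ} {φ : F →+* F} {RL sreps : List ℕ} {fq : FQ} {q : ℕ}

section
include C

/-- the coordinates of a conjugate by an element of the torus -/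
theorem coordM_chi_conj (x : Fin fd.l → Fˣ) (r : ℕ) (hr : r < fd.n) (g : GL D.Idx F) :
    coordM D fd fz F r ((chiHom D fd F x * g * (chiHom D fd F x)⁻¹ : GL D.Idx F) : Matrix D.Idx D.Idx F) =
      chiC D fd F x r * coordM D fd fz F r (g : Matrix D.Idx D.Idx F) := by
  have hn := C.c6.c2.nroots_eq
  have hr' : r < D.nroots := by omega
  rw [coordM_eq r hr', coordM_eq r hr', Finset.mul_sum]
  apply Finset.sum_congr rfl
  intro j _
  rw [← map_inv, Units.val_mul, Units.val_mul, chiHom_val, chiHom_val, Matrix.mul_diagonal, Matrix.diagonal_mul]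
  have e1 : entryHom D fd F x (Sum.inl j) = 1 := rfl
  have hb : fd.n - 1 - (⟨r, hr'⟩ : Fin D.nroots).val < D.nroots := by simp only; omega
  have e2 : entryHom D fd F x⁻¹ (Sum.inr ⟨D.nroots - 1 - r, by omega⟩) =
      entryHom D fd F x (Sum.inr ⟨r, hr'⟩) := by
    rw [map_inv, Pi.inv_apply]
    have := C.entry_neg x ⟨r, hr'⟩ hb
    simp only at this
    have e3 : (⟨D.nroots - 1 - r, by omega⟩ : Fin D.nroots) = ⟨fd.n - 1 - r, hb⟩ := Fin.ext (by simp only; omega)
    rw [e3, this, inv_inv]
  rw [e1, e2, Units.val_one, one_mul]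
  unfold chiC
  rw [dif_pos hr']
  ring

end

variable (W : TwPack C ga k φ RL sreps fq q)
include W

/-- the value of the root `s` at the torus element attached to the orbit of the `i`-th fundamental root -/
theorem chiC_yS_gen (i : ℕ) (hi : i < fd.l) (s : ℕ) (hs : s < fd.n) (e : ℤ)
    (hchk : chkChi fd ga k i s e = true) (u : Fˣ) :
    chiC D fd F (yS fd ga k φ i u) s = ((u ^ e : Fˣ) : F) := by
  have hn := C.c6.c2.nroots_eq
  have hs' : s < D.nroots := by omega
  have hl : ∀ a, rhIt ga a i < fd.l := fun a => C.rhIt_lt W.T W.T2 a i hi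
  simp only [chkChi, Bool.and_eq_true, intBeq_iff, List.all_eq_true, List.mem_range, Bool.or_eq_true,
    natBeq_iff] at hchk
  obtain ⟨c0, call⟩ := hchk
  have key : entryHom D fd F (yS fd ga k φ i u) (Sum.inr ⟨s, hs'⟩) = u ^ e := by
    unfold yS
    by_cases hfix : ga.rh.getD i 0 = i
    · rw [if_pos hfix]
      simp only [List.range_one, List.map_cons, List.map_nil, List.prod_cons, List.prod_nil, mul_one,
        dif_pos (hl 0)]
      rw [entry_mulSingle]
      show ((Units.map φ.toMonoidHom)^[0] u) ^ fd.carZ i s = u ^ e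
      rw [c0]
      rfl
    · rw [if_neg hfix]
      rcases W.hk with rfl | rfl
      · have c1 := (call 1 (by norm_num)).resolve_left (by rintro (h | h); exact absurd h (by norm_num); exact hfix h)
        simp only [List.range_succ, List.range_zero, List.nil_append, List.cons_append, List.map_cons, List.map_nil,
          List.prod_cons, List.prod_nil, mul_one, map_mul, Pi.mul_apply, dif_pos (hl 0), dif_pos (hl 1)]
        rw [entry_mulSingle, entry_mulSingle]
        simp only
        rw [c1, zpow_zero, mul_one]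
        show ((Units.map φ.toMonoidHom)^[0] u) ^ fd.carZ i s = u ^ e
        rw [c0]
        rfl
      · have c1 := (call 1 (by norm_num)).resolve_left (by rintro (h | h); exact absurd h (by norm_num); exact hfix h)
        have c2 := (call 2 (by norm_num)).resolve_left (by rintro (h | h); exact absurd h (by norm_num); exact hfix h)
        simp only [List.range_succ, List.range_zero, List.nil_append, List.cons_append, List.map_cons, List.map_nil,
          List.prod_cons, List.prod_nil, mul_one, map_mul, Pi.mul_apply, dif_pos (hl 0), dif_pos (hl 1),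
          dif_pos (hl 2)]
        rw [entry_mulSingle, entry_mulSingle, entry_mulSingle]
        simp only
        rw [c1, c2, zpow_zero, zpow_zero, mul_one, mul_one]
        show ((Units.map φ.toMonoidHom)^[0] u) ^ fd.carZ i s = u ^ e
        rw [c0]
        rfl
  unfold chiC
  rw [dif_pos hs', key]

/-- the action of `h_S(a)` on the elements `x_S(t)` at a positive root -/
theorem hS_conj_xS (i : ℕ) (hi : i ∈ sreps) (a : F) (ha : a ≠ 0) (haK : a ∈ Kr fd ga φ (fd.simples.getD i 0))
    (r : ℕ) (hr : r < fd.n) (hpos : fd.n / 2 ≤ r) :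
    (∀ t ∈ Kr fd ga φ r, chiC D fd F (yS fd ga k φ i (Units.mk0 a ha)) r * t ∈ Kr fd ga φ r) ∧
    ∀ t, C.hS ga k φ i a * C.xS ga k φ r t * (C.hS ga k φ i a)⁻¹ =
      C.xS ga k φ r (chiC D fd F (yS fd ga k φ i (Units.mk0 a ha)) r * t) := by
  have hil := W.S.sreps_lt i hi
  obtain ⟨hd, hG⟩ := C.hS_mem W i hi a ha haK
  obtain ⟨c, hc0, hcK, hc⟩ := C.diag_conj_xS W _ hd (C.sigma_of_mem W hG) r hr
  have he := C.hS_eq W.T W.T2 φ (k := k) i hil (Units.mk0 a ha)
  rw [Units.val_mk0] at he
  have h1 := hc 1
  have h2 := congrArg (fun g : GL D.Idx F => coordM D fd fz F r (g : Matrix D.Idx D.Idx F)) h1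
  rw [he, C.coordM_chi_conj _ r hr, (C.coord_xS W.T φ (C.pk_k1 W) r hr hpos (W.T.htpos r hr hpos) _).2,
    (C.coord_xS W.T φ (C.pk_k1 W) r hr hpos (W.T.htpos r hr hpos) _).2, mul_one, mul_one] at h2
  rw [h2]
  exact ⟨hcK, hc⟩

end Cert12

end Cfsg.Agent.Lib.H29.Chev
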