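import Mathlib
import Cfsg.Prelude.Def_ChevStructure
import Cfsg.Prelude.Def_LieExceptional
import Cfsg.Agent.Lib.H29.TwAut17

/-!
# Automorphisms of twisted groups, part 18: a standard automorphism fixing the orbits acts on each pair of opposite
fundamental root subgroups through an automorphism of the parameter field
-/

set_option autoImplicit false
set_option linter.unusedSectionVars false
set_option linter.unusedSimpArgs false
set_option linter.unusedVariables false

namespace Cfsg.Agent.Lib.H29.Chev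

open Cfsg.Lie Matrix

variable {D : ChevalleyDatum} {fd : FD} {fx : FX} {fc : FC} {fz : FZ} {F : Type*} [Field F]

namespace Cert12

variable (C : Cert12 D fd fx fc fz) {ga : GA} {k : ℕ} {φ : F →+* F} {RL sreps : List ℕ} {fq : FQ} {q : ℕ}

variable (W : TwPack C ga k φ RL sreps fq q)
include W

/-- `h_S(a)` as an element of the twisted group -/
theorem hh_val (i : ℕ) (hi : i ∈ sreps) (a : ↥(KS fd ga φ i)) :
    ((RankOne.hh (C.xp ga k φ sreps i hi) (C.xm ga k φ sreps i hi) a : ↥(C.G1 ga k φ sreps)) : GL D.Idx F) =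
      C.hS ga k φ i (a : F) := by
  simp only [RankOne.hh, RankOne.nn, xp, xm, hS, Subgroup.coe_mul, Subfield.coe_neg, Subfield.coe_inv,
    Subfield.coe_one]

/-- the action of `h_S(b)` on the positive fundamental root subgroup of an adjacent orbit -/
theorem hh_conj_xp (i : ℕ) (hi : i ∈ sreps) (j : ℕ) (hj : j ∈ sreps)
    (hchk : chkChi fd ga k i (fd.simples.getD j 0) (-1) = true)
    (b : ↥(KS fd ga φ i)) (hb : b ≠ 0) (u : ↥(KS fd ga φ j)) :
    ∃ m : (b : F)⁻¹ * (u : F) ∈ Kr fd ga φ (fd.simples.getD j 0),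
      RankOne.hh (C.xp ga k φ sreps i hi) (C.xm ga k φ sreps i hi) b * C.xp ga k φ sreps j hj u *
        (RankOne.hh (C.xp ga k φ sreps i hi) (C.xm ga k φ sreps i hi) b)⁻¹ =
      C.xp ga k φ sreps j hj ⟨(b : F)⁻¹ * (u : F), m⟩ := by
  have hil := W.S.sreps_lt i hi
  have hjl := W.S.sreps_lt j hj
  have hpj := C.c6.c2.simple_lt j hjl
  have hppj := C.c6.simple_pos j hjl
  have hb' : (b : F) ≠ 0 := fun h => hb (Subtype.ext h)
  obtain ⟨h1, h2⟩ := C.hS_conj_xS W i hi (b : F) hb' b.2 _ hpj hppj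
  have e : chiC D fd F (yS fd ga k φ i (Units.mk0 (b : F) hb')) (fd.simples.getD j 0) = (b : F)⁻¹ := by
    rw [C.chiC_yS_gen W i hil _ hpj (-1) hchk, _root_.zpow_neg_one, Units.val_inv_eq_inv_val, Units.val_mk0]
  rw [e] at h1 h2
  refine ⟨h1 _ u.2, ?_⟩
  apply Subtype.ext
  simp only [Subgroup.coe_mul, InvMemClass.coe_inv, C.hh_val W]
  exact h2 _

/-- a standard automorphism fixing an orbit and the element `x_S(1)` acts on the root subgroups of the orbit
through an automorphism of the parameter field -/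
theorem tw_fi [Finite F] (θ : ↥(C.G1 ga k φ sreps) ≃* ↥(C.G1 ga k φ sreps)) (i : ℕ) (hi : i ∈ sreps)
    (hm : C.TwMaps ga k φ sreps θ i hi i hi)
    (h1 : θ (C.xp ga k φ sreps i hi 1) = C.xp ga k φ sreps i hi 1) :
    ∃ f : ↥(KS fd ga φ i) →+ ↥(KS fd ga φ i),
      (∀ t, θ (C.xp ga k φ sreps i hi t) = C.xp ga k φ sreps i hi (f t)) ∧
      (∀ t, θ (C.xm ga k φ sreps i hi t) = C.xm ga k φ sreps i hi (f t)) ∧
      f 1 = 1 ∧ (∀ a b, f (a * b) = f a * f b) ∧ Function.Injective f ∧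
      ∀ a, a ≠ 0 → θ (RankOne.hh (C.xp ga k φ sreps i hi) (C.xm ga k φ sreps i hi) a) =
        RankOne.hh (C.xp ga k φ sreps i hi) (C.xm ga k φ sreps i hi) (f a) := by
  have R := C.rankOne W i hi
  obtain ⟨f, hf⟩ := exists_addHom R.add_p R.add_p (fun a b h => R.inj_p a b h) θ.toMonoidHom hm.1
  obtain ⟨g, hg⟩ := exists_addHom R.add_m R.add_m (fun a b h => R.inj_m a b h) θ.toMonoidHom hm.2
  have hf' : ∀ t, θ (C.xp ga k φ sreps i hi t) = C.xp ga k φ sreps i hi (f t) := hf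
  have hg' : ∀ t, θ (C.xm ga k φ sreps i hi t) = C.xm ga k φ sreps i hi (g t) := hg
  have finj : Function.Injective f := by
    intro a b hab
    apply R.inj_p
    apply θ.injective
    rw [hf', hf', hab]
  have ginj : Function.Injective g := by
    intro a b hab
    apply R.inj_m
    apply θ.injective
    rw [hg', hg', hab]
  have fsurj : Function.Surjective f := Finite.surjective_of_injective finj
  have f1 : f 1 = 1 := R.inj_p _ _ (by rw [← hf', h1])
  have habs := rank_one_abs R R θ.toMonoidHom f g hf hg fsurj ginj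
  have hhh : ∀ a, a ≠ 0 → θ (RankOne.hh (C.xp ga k φ sreps i hi) (C.xm ga k φ sreps i hi) a) =
      RankOne.hh (C.xp ga k φ sreps i hi) (C.xm ga k φ sreps i hi) (f a) :=
    fun a ha => rank_one_hh R R θ.toMonoidHom f g hf hg fsurj ginj f1 a ha
  have fne : ∀ a, a ≠ 0 → f a ≠ 0 := fun a ha h => ha (finj (h.trans (map_zero f).symm))
  have hsq : ∀ t u, t ≠ 0 → f (t * t * u) = f t * f t * f u := by
    intro t u ht
    have h2 := congrArg θ (R.hh_conj_p t ht u)
    rw [map_mul, map_mul, map_inv, hhh t ht, hf', hf', R.hh_conj_p (f t) (fne t ht)] at h2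
    exact (R.inj_p _ _ h2).symm
  have hmul := mul_of_sq f f1 hsq
  have hgf : ∀ t, g t = f t := by
    intro t
    by_cases ht : t = 0
    · rw [ht, map_zero, map_zero]
    · rw [habs t ht]
      have e : f t⁻¹ * f t = 1 := by rw [← hmul, inv_mul_cancel₀ ht, f1]
      rw [eq_inv_of_mul_eq_one_left e, inv_inv]
  refine ⟨f, hf', fun t => ?_, f1, hmul, finj, hhh⟩
  rw [hg', hgf]

/-- along an edge of the diagram of orbits, the automorphism of the parameter field at the target extends the one at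
the source -/
theorem tw_edge [Finite F] (θ : ↥(C.G1 ga k φ sreps) ≃* ↥(C.G1 ga k φ sreps)) (i : ℕ) (hi : i ∈ sreps)
    (j : ℕ) (hj : j ∈ sreps) (hchk : chkChi fd ga k i (fd.simples.getD j 0) (-1) = true)
    (fi : ↥(KS fd ga φ i) →+ ↥(KS fd ga φ i)) (fj : ↥(KS fd ga φ j) →+ ↥(KS fd ga φ j))
    (hi1 : fi 1 = 1) (himul : ∀ a b, fi (a * b) = fi a * fi b) (hiinj : Function.Injective fi)
    (hih : ∀ a, a ≠ 0 → θ (RankOne.hh (C.xp ga k φ sreps i hi) (C.xm ga k φ sreps i hi) a) =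
        RankOne.hh (C.xp ga k φ sreps i hi) (C.xm ga k φ sreps i hi) (fi a))
    (hj1 : fj 1 = 1) (hjp : ∀ t, θ (C.xp ga k φ sreps j hj t) = C.xp ga k φ sreps j hj (fj t))
    (a : ↥(KS fd ga φ i)) :
    ∃ m : (a : F) ∈ Kr fd ga φ (fd.simples.getD j 0), ((fj ⟨(a : F), m⟩ : ↥(KS fd ga φ j)) : F) = (fi a : F) := by
  by_cases ha : a = 0
  · subst ha
    refine ⟨(KS fd ga φ j).zero_mem, ?_⟩
    have e : (⟨((0 : ↥(KS fd ga φ i)) : F), (KS fd ga φ j).zero_mem⟩ : ↥(KS fd ga φ j)) = 0 := Subtype.ext rfl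
    rw [e, map_zero, map_zero]
    rfl
  · have hb : a⁻¹ ≠ 0 := inv_ne_zero ha
    have hfb : fi a⁻¹ ≠ 0 := fun h => hb (hiinj (h.trans (map_zero fi).symm))
    obtain ⟨m, e⟩ := C.hh_conj_xp W i hi j hj hchk a⁻¹ hb 1
    obtain ⟨m', e'⟩ := C.hh_conj_xp W i hi j hj hchk (fi a⁻¹) hfb 1
    have h2 := congrArg θ e
    rw [map_mul, map_mul, map_inv, hih _ hb, hjp, hjp, hj1, e'] at h2
    have h3 := congrArg Subtype.val ((C.rankOne W j hj).inj_p _ _ h2)
    simp only at h3
    have hz : ((a⁻¹ : ↥(KS fd ga φ i)) : F)⁻¹ * ((1 : ↥(KS fd ga φ j)) : F) = (a : F) := by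
      rw [Subfield.coe_inv, inv_inv, Subfield.coe_one, mul_one]
    have key : ∀ (z : F) (hz : z ∈ Kr fd ga φ (fd.simples.getD j 0)) (z' : F) (hz' : z' ∈ Kr fd ga φ (fd.simples.getD j 0)),
        z = z' → ((fj ⟨z, hz⟩ : ↥(KS fd ga φ j)) : F) = ((fj ⟨z', hz'⟩ : ↥(KS fd ga φ j)) : F) := by
      intro z hz z' hz' h
      subst h
      rfl
    have ma : (a : F) ∈ Kr fd ga φ (fd.simples.getD j 0) := by rw [← hz]; exact m
    refine ⟨ma, ?_⟩
    rw [key (a : F) ma _ m hz.symm, ← h3]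
    have e4 : fi a⁻¹ * fi a = 1 := by rw [← himul, inv_mul_cancel₀ ha, hi1]
    rw [eq_inv_of_mul_eq_one_left e4, Subfield.coe_inv, inv_inv, Subfield.coe_one, mul_one]

end Cert12

end Cfsg.Agent.Lib.H29.Chev
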