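import Mathlib
import Cfsg.Prelude.Def_ChevStructure
import Cfsg.Prelude.Def_LieExceptional
import Cfsg.Agent.Lib.H29.TwAut18

/-!
# Automorphisms of twisted groups, part 19: a standard automorphism is the product of a diagonal and a field
automorphism
-/

set_option autoImplicit false
set_option linter.unusedSectionVars false
set_option linter.unusedSimpArgs false
set_option linter.unusedVariables false

namespace Cfsg.Agent.Lib.H29.Chev

open Cfsg.Lie Matrix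

variable {D : ChevalleyDatum} {fd : FD} {fx : FX} {fc : FC} {fz : FZ} {F : Type*} [Field F]

/-- the hypotheses for the determination of the standard automorphisms of a twisted group -/
structure TwAutHyp (C : Cert12 D fd fx fc fz) (ga : GA) (k : ℕ) (φ : F →+* F) (sreps : List ℕ) (fq : FQ)
    (a0 j₀ : ℕ) (es : List (ℕ × ℕ)) : Prop where
  hPos : fd.chkPiSPos fx ga k sreps = true
  ha0 : fd.chkQW0 fq a0 = true
  hOpp : fd.chkOppS ga k fq a0 sreps = true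
  hDisj : chkDisj ga k sreps = true
  hj₀ : j₀ ∈ sreps
  hj₀ne : fd.gRoot ga (fd.simples.getD j₀ 0) ≠ fd.simples.getD j₀ 0
  hes : ∀ e ∈ es, e.1 ∈ sreps ∧ e.2 ∈ sreps ∧ chkChi fd ga k e.1 (fd.simples.getD e.2 0) (-1) = true
  hcl : ∀ i ∈ sreps, i ∈ closeD es [j₀]
  hId : ∀ θ : ↥(C.G1 ga k φ sreps) ≃* ↥(C.G1 ga k φ sreps), C.TwStd ga k φ sreps θ →
    ∀ i (hi : i ∈ sreps), C.TwMaps ga k φ sreps θ i hi i hi
  hEx : ∀ c : ℕ → Fˣ, (∀ i ∈ sreps, ((c i : Fˣ) : F) ∈ Kr fd ga φ (fd.simples.getD i 0)) →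
    ∃ x : Fin fd.l → Fˣ, sigT fd ga k φ x = x ∧ ∀ i ∈ sreps, ∀ hil : i < fd.l, x ⟨i, hil⟩ = c i

namespace Cert12

variable (C : Cert12 D fd fx fc fz) {ga : GA} {k : ℕ} {φ : F →+* F} {RL sreps : List ℕ} {fq : FQ} {q : ℕ}

theorem twStd_trans (θ₁ θ₂ : ↥(C.G1 ga k φ sreps) ≃* ↥(C.G1 ga k φ sreps)) (h₁ : C.TwStd ga k φ sreps θ₁)
    (h₂ : C.TwStd ga k φ sreps θ₂) : C.TwStd ga k φ sreps (θ₁.trans θ₂) := by
  constructor
  · intro g
    rw [MulEquiv.trans_apply, ← h₂.1, ← h₁.1]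
  · intro g
    rw [MulEquiv.trans_apply, ← h₂.2, ← h₁.2]

variable (W : TwPack C ga k φ RL sreps fq q) {a0 j₀ : ℕ} {es : List (ℕ × ℕ)}
  (H : TwAutHyp C ga k φ sreps fq a0 j₀ es)
include W H

/-- a standard automorphism fixing the elements `x_S(1)` is a field automorphism -/
theorem tw_std_normalized [Finite F] (θ : ↥(C.G1 ga k φ sreps) ≃* ↥(C.G1 ga k φ sreps))
    (hθ : C.TwStd ga k φ sreps θ)
    (h1 : ∀ i (hi : i ∈ sreps), θ (C.xp ga k φ sreps i hi 1) = C.xp ga k φ sreps i hi 1) :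
    ∃ ψ : F ≃+* F, ∀ g, θ g = C.twField W ψ g := by
  have hm := H.hId θ hθ
  choose f hfp hfm hf1 hfmul hfinj hfh using
    (fun i (hi : i ∈ sreps) => C.tw_fi W θ i hi (hm i hi) (h1 i hi))
  have hmem : ∀ t : F, t ∈ Kr fd ga φ (fd.simples.getD j₀ 0) := fun t h => absurd h H.hj₀ne
  let ψ₀ : F →+ F :=
    { toFun := fun t => ((f j₀ H.hj₀ ⟨t, hmem t⟩ : ↥(KS fd ga φ j₀)) : F)
      map_zero' := by
        show ((f j₀ H.hj₀ (0 : ↥(KS fd ga φ j₀)) : ↥(KS fd ga φ j₀)) : F) = 0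
        rw [map_zero]; rfl
      map_add' := by
        intro a b
        show ((f j₀ H.hj₀ ((⟨a, hmem a⟩ : ↥(KS fd ga φ j₀)) + ⟨b, hmem b⟩) : ↥(KS fd ga φ j₀)) : F) = _
        rw [map_add]; rfl }
  have hψ1 : ψ₀ 1 = 1 := by
    show ((f j₀ H.hj₀ (1 : ↥(KS fd ga φ j₀)) : ↥(KS fd ga φ j₀)) : F) = 1
    rw [hf1]; rfl
  have hψmul : ∀ a b, ψ₀ (a * b) = ψ₀ a * ψ₀ b := by
    intro a b
    show ((f j₀ H.hj₀ ((⟨a, hmem a⟩ : ↥(KS fd ga φ j₀)) * ⟨b, hmem b⟩) : ↥(KS fd ga φ j₀)) : F) = _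
    rw [hfmul]; rfl
  have hψinj : Function.Injective ψ₀ := by
    intro a b hab
    have : f j₀ H.hj₀ ⟨a, hmem a⟩ = f j₀ H.hj₀ ⟨b, hmem b⟩ := Subtype.ext hab
    exact congrArg Subtype.val (hfinj j₀ H.hj₀ this)
  let ψ : F ≃+* F := ringEquivOfMul ψ₀ hψ1 hψmul hψinj
  have hall : ∀ i ∈ closeD es [j₀], ∀ (hi : i ∈ sreps) (t : ↥(KS fd ga φ i)),
      ((f i hi t : ↥(KS fd ga φ i)) : F) = ψ (t : F) := by
    apply closeD_induction (fun i => ∀ (hi : i ∈ sreps) (t : ↥(KS fd ga φ i)),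
      ((f i hi t : ↥(KS fd ga φ i)) : F) = ψ (t : F))
    · intro e he hP hi t
      obtain ⟨_, h2, hchk⟩ := H.hes e he
      obtain ⟨m, em⟩ := C.tw_edge W θ e.1 hi e.2 h2 hchk (f e.1 hi) (f e.2 h2) (hf1 _ hi) (hfmul _ hi)
        (hfinj _ hi) (hfh _ hi) (hf1 _ h2) (hfp _ h2) t
      rw [← em, hP h2 ⟨(t : F), m⟩]
    · intro i hi0 hi t
      rw [List.mem_singleton] at hi0
      subst hi0
      rfl
  refine ⟨ψ, fun g => ?_⟩
  apply C.tw_aut_ext W θ (C.twField W ψ)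
  · intro i hi t
    rw [hfp, C.twField_xp W]
    congr 1
    exact Subtype.ext (hall i (H.hcl i hi) hi t)
  · intro i hi t
    rw [hfm, C.twField_xm W]
    congr 1
    exact Subtype.ext (hall i (H.hcl i hi) hi t)

/-- a standard automorphism is the product of a diagonal and a field automorphism -/
theorem tw_std_decomp [Finite F] (hS : DiagConj D F) (θ : ↥(C.G1 ga k φ sreps) ≃* ↥(C.G1 ga k φ sreps))
    (hθ : C.TwStd ga k φ sreps θ) :
    ∃ (x : Fin fd.l → Fˣ) (hx : sigT fd ga k φ x = x) (ψ : F ≃+* F),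
      ∀ g, θ g = C.twDiag W hS x hx (C.twField W ψ g) := by
  classical
  have hm := H.hId θ hθ
  have hc : ∀ i (hi : i ∈ sreps), ∃ c : ↥(KS fd ga φ i), c ≠ 0 ∧
      θ (C.xp ga k φ sreps i hi 1) = C.xp ga k φ sreps i hi c := by
    intro i hi
    obtain ⟨c, hc⟩ := (hm i hi).1 1
    refine ⟨c, ?_, hc⟩
    intro h0
    rw [h0, (C.rankOne W i hi).zero_p] at hc
    exact C.xp_one_ne W i hi (θ.injective (by rw [hc, map_one]))
  choose c hc0 hc using hc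
  have hcF : ∀ i (hi : i ∈ sreps), ((c i hi : ↥(KS fd ga φ i)) : F) ≠ 0 :=
    fun i hi h => hc0 i hi (Subtype.ext h)
  let cu : ℕ → Fˣ := fun i => if hi : i ∈ sreps then Units.mk0 ((c i hi : ↥(KS fd ga φ i)) : F) (hcF i hi) else 1
  have hcu : ∀ i (hi : i ∈ sreps), ((cu i : Fˣ) : F) = ((c i hi : ↥(KS fd ga φ i)) : F) := by
    intro i hi
    show (((if hi : i ∈ sreps then Units.mk0 ((c i hi : ↥(KS fd ga φ i)) : F) (hcF i hi) else 1 : Fˣ)) : F) = _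
    rw [dif_pos hi, Units.val_mk0]
  obtain ⟨x, hx, hxc⟩ := H.hEx cu (fun i hi => by rw [hcu i hi]; exact (c i hi).2)
  have hd := C.twStd_twDiag W hS x hx
  have hθ' : C.TwStd ga k φ sreps (θ.trans (C.twDiag W hS x hx).symm) :=
    C.twStd_trans θ _ hθ (C.twStd_symm _ hd)
  have h1 : ∀ i (hi : i ∈ sreps), (θ.trans (C.twDiag W hS x hx).symm) (C.xp ga k φ sreps i hi 1) =
      C.xp ga k φ sreps i hi 1 := by
    intro i hi
    rw [MulEquiv.trans_apply, MulEquiv.symm_apply_eq, hc, C.twDiag_xp W, mul_one]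
    congr 1
    apply Subtype.ext
    show ((c i hi : ↥(KS fd ga φ i)) : F) = ((x ⟨i, W.S.sreps_lt i hi⟩ : Fˣ) : F)
    rw [hxc i hi, hcu i hi]
  obtain ⟨ψ, hψ⟩ := C.tw_std_normalized W H _ hθ' h1
  refine ⟨x, hx, ψ, fun g => ?_⟩
  rw [← hψ g, MulEquiv.trans_apply, MulEquiv.apply_symm_apply]

end Cert12

end Cfsg.Agent.Lib.H29.Chev
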