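import Mathlib
import Cfsg.Prelude.Def_KGroupFacts
import Cfsg.Prelude.Def_ChevStructure
import Cfsg.Prelude.Def_LieExceptional
import Cfsg.Agent.Lib.H29.TwAut19
import Cfsg.Agent.Lib.H29.ChevOut1

/-!
# Automorphisms of twisted groups, part 20: the order of the outer automorphism group of a twisted group
-/

set_option autoImplicit false
set_option linter.unusedSectionVars false
set_option linter.unusedSimpArgs false
set_option linter.unusedVariables false

namespace Cfsg.Agent.Lib.H29.Chev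

open Cfsg.Lie Matrix

variable {D : ChevalleyDatum} {fd : FD} {fx : FX} {fc : FC} {fz : FZ} {F : Type*} [Field F]

namespace Cert12

variable (C : Cert12 D fd fx fc fz) {ga : GA} {k : ℕ} {φ : F →+* F} {RL sreps : List ℕ} {fq : FQ} {q : ℕ}

/-- the standard automorphisms of the twisted group, as a subgroup of the automorphism group -/
def stdSubTw (C : Cert12 D fd fx fc fz) (ga : GA) (k : ℕ) (φ : F →+* F) (sreps : List ℕ) :
    Subgroup (MulAut ↥(C.G1 ga k φ sreps)) where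
  carrier := {θ | C.TwStd ga k φ sreps θ}
  mul_mem' := by
    intro a b ha hb
    refine ⟨fun g => ?_, fun g => ?_⟩
    · rw [MulAut.mul_apply, ← ha.1, ← hb.1]
    · rw [MulAut.mul_apply, ← ha.2, ← hb.2]
  one_mem' := ⟨fun g => Iff.rfl, fun g => Iff.rfl⟩
  inv_mem' := by
    intro a ha
    refine ⟨fun g => ?_, fun g => ?_⟩
    · rw [ha.1 (a⁻¹ g), MulAut.apply_inv_self]
    · rw [ha.2 (a⁻¹ g), MulAut.apply_inv_self]

theorem mem_stdSubTw (θ : MulAut ↥(C.G1 ga k φ sreps)) :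
    θ ∈ C.stdSubTw ga k φ sreps ↔ C.TwStd ga k φ sreps θ := Iff.rfl

variable (W : TwPack C ga k φ RL sreps fq q)
include W

theorem tH_conj_tU (h : ↥(C.G1 ga k φ sreps)) (hh : h ∈ C.tH ga k φ sreps) (g : ↥(C.G1 ga k φ sreps)) :
    g ∈ C.tU ga k φ sreps ↔ h * g * h⁻¹ ∈ C.tU ga k φ sreps := by
  rw [Subgroup.mem_subgroupOf] at hh ⊢
  rw [Subgroup.mem_subgroupOf]
  have := Subgroup.mem_normalizer_iff.mp (C.c6.c2.diag_le_normalizer_pos hh) (g : GL D.Idx F)
  simpa using this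

theorem tH_conj_tV (h : ↥(C.G1 ga k φ sreps)) (hh : h ∈ C.tH ga k φ sreps) (g : ↥(C.G1 ga k φ sreps)) :
    g ∈ C.tV ga k φ sreps ↔ h * g * h⁻¹ ∈ C.tV ga k φ sreps := by
  rw [Subgroup.mem_subgroupOf] at hh ⊢
  rw [Subgroup.mem_subgroupOf]
  have := Subgroup.mem_normalizer_iff.mp (C.c6.c2.diag_le_normalizer_neg hh) (g : GL D.Idx F)
  simpa using this

/-- an element of `U¹` normalizing `V¹` is trivial -/
theorem tU_normalizer_tV [Finite F] (u : ↥(C.G1 ga k φ sreps)) (hu : u ∈ C.tU ga k φ sreps)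
    (hV : ∀ g, g ∈ C.tV ga k φ sreps → u * g * u⁻¹ ∈ C.tV ga k φ sreps) : u = 1 := by
  obtain ⟨a0, ha0⟩ := W.hw0
  obtain ⟨n0, hn0, hn0G, hπ0, hpn, hnp, π', hπ', hinv, hpn', hnp'⟩ := C.exists_n0_of W a0 ha0
  set m : ↥(C.G1 ga k φ sreps) := ⟨n0, hn0G⟩ with hm
  have hvV : m * u * m⁻¹ ∈ C.tV ga k φ sreps := by
    apply Subgroup.mem_subgroupOf.mpr
    have := C.conj_pos_mem_neg n0 _ hπ0 hpn _ (Subgroup.mem_subgroupOf.mp hu)
    simpa [hm] using this
  have hvN : ∀ g ∈ C.tU ga k φ sreps, MulAut.conj (m * u * m⁻¹) g ∈ C.tU ga k φ sreps := by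
    intro g hg
    rw [MulAut.conj_apply]
    have hg' : m⁻¹ * g * m ∈ C.tV ga k φ sreps := by
      apply Subgroup.mem_subgroupOf.mpr
      have := C.conj_pos_mem_neg n0⁻¹ π' hπ' hpn' _ (Subgroup.mem_subgroupOf.mp hg)
      simpa [hm] using this
    have h2 := hV _ hg'
    have h3 : m * (u * (m⁻¹ * g * m) * u⁻¹) * m⁻¹ ∈ C.tU ga k φ sreps := by
      apply Subgroup.mem_subgroupOf.mpr
      have := C.conj_neg_mem_pos n0 _ hπ0 hnp _ (Subgroup.mem_subgroupOf.mp h2)
      simpa [hm] using this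
    have : m * (u * (m⁻¹ * g * m) * u⁻¹) * m⁻¹ = m * u * m⁻¹ * g * (m * u * m⁻¹)⁻¹ := by group
    rwa [this] at h3
  have hvB : m * u * m⁻¹ ∈ C.tB ga k φ sreps := by
    rw [← C.tw_normalizer_U W, Subgroup.mem_normalizer_iff]
    intro g
    have := iff_of_forall_mem_fin (MulAut.conj (m * u * m⁻¹)) (C.tU ga k φ sreps) hvN g
    rwa [MulAut.conj_apply] at this
  have h1 : ((m * u * m⁻¹ : ↥(C.G1 ga k φ sreps)) : GL D.Idx F) ∈ D.borelSubgroup F ⊓ D.negUnipotent F :=
    ⟨Subgroup.mem_subgroupOf.mp hvB, Subgroup.mem_subgroupOf.mp hvV⟩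
  rw [C.c6.c2.borel_inf_neg, Subgroup.mem_bot] at h1
  have h2 : m * u * m⁻¹ = 1 := Subtype.ext h1
  have : u = m⁻¹ * (m * u * m⁻¹) * m := by group
  rw [this, h2]
  group

/-- an inner automorphism is standard exactly when it is the conjugation by an element of `H¹` -/
theorem conj_mem_stdSubTw_iff [Finite F] (x : ↥(C.G1 ga k φ sreps)) :
    MulAut.conj x ∈ C.stdSubTw ga k φ sreps ↔ x ∈ C.tH ga k φ sreps := by
  constructor
  · rintro ⟨hU, hV⟩
    simp only [MulAut.conj_apply] at hU hV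
    have hxB : x ∈ C.tB ga k φ sreps := by
      rw [← C.tw_normalizer_U W, Subgroup.mem_normalizer_iff]
      exact hU
    obtain ⟨u, hu, hufix, h, hh, hhfix, huh⟩ := C.borel_fix_decomp W (x : GL D.Idx F)
      (Subgroup.mem_subgroupOf.mp hxB) (C.sigma_of_mem W x.2)
    have huG : u ∈ C.G1 ga k φ sreps := C.fixU_le_G1 W (Subgroup.mem_inf.mpr ⟨hufix, hu⟩)
    have hhG : h ∈ C.G1 ga k φ sreps := by
      have : h = u⁻¹ * (x : GL D.Idx F) := by rw [huh]; group
      rw [this]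
      exact mul_mem (inv_mem huG) x.2
    let uG : ↥(C.G1 ga k φ sreps) := ⟨u, huG⟩
    let hG : ↥(C.G1 ga k φ sreps) := ⟨h, hhG⟩
    have hxe : x = uG * hG := Subtype.ext huh
    have huU : uG ∈ C.tU ga k φ sreps := Subgroup.mem_subgroupOf.mpr hu
    have hhH : hG ∈ C.tH ga k φ sreps := Subgroup.mem_subgroupOf.mpr hh
    have hu1 : uG = 1 := by
      apply C.tU_normalizer_tV W uG huU
      intro g hg
      have h1 : hG⁻¹ * g * hG ∈ C.tV ga k φ sreps := by
        have := (C.tH_conj_tV W hG⁻¹ (Subgroup.inv_mem _ hhH) g).mp hg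
        rwa [inv_inv] at this
      have h2 := (hV _).mp h1
      have : x * (hG⁻¹ * g * hG) * x⁻¹ = uG * g * uG⁻¹ := by rw [hxe]; group
      rwa [this] at h2
    rw [hxe, hu1, one_mul]
    exact hhH
  · intro hx
    exact ⟨fun g => by rw [MulAut.conj_apply]; exact C.tH_conj_tU W x hx g,
      fun g => by rw [MulAut.conj_apply]; exact C.tH_conj_tV W x hx g⟩

variable {a0 j₀ : ℕ} {es : List (ℕ × ℕ)} (H : TwAutHyp C ga k φ sreps fq a0 j₀ es)
include H

/-- the number of standard automorphisms -/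
theorem card_stdSubTw [Finite F] (hS : DiagConj D F) :
    Nat.card (C.stdSubTw ga k φ sreps) = Nat.card ↥(fixS (sigT fd ga k φ)) * Nat.card (F ≃+* F) := by
  have hfx : ∀ p : ↥(fixS (sigT fd ga k φ)) × (F ≃+* F), sigT fd ga k φ p.1.1 = p.1.1 := fun p => p.1.2
  let Ψ : ↥(fixS (sigT fd ga k φ)) × (F ≃+* F) → C.stdSubTw ga k φ sreps := fun p =>
    ⟨(C.twDiag W hS p.1.1 (hfx p) : MulAut ↥(C.G1 ga k φ sreps)) *
      (C.twField W p.2 : MulAut ↥(C.G1 ga k φ sreps)),
      Subgroup.mul_mem _ (C.twStd_twDiag W hS _ _) (C.twStd_twField W _)⟩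
  have heval : ∀ (p : ↥(fixS (sigT fd ga k φ)) × (F ≃+* F)) (i : ℕ) (hi : i ∈ sreps) (t : ↥(KS fd ga φ i)),
      ((Ψ p : C.stdSubTw ga k φ sreps) : MulAut ↥(C.G1 ga k φ sreps)) (C.xp ga k φ sreps i hi t) =
        C.xp ga k φ sreps i hi (C.xK W p.1.1 (hfx p) i (W.S.sreps_lt i hi) * C.fK W p.2 i t) := by
    intro p i hi t
    show C.twDiag W hS p.1.1 (hfx p) (C.twField W p.2 (C.xp ga k φ sreps i hi t)) = _
    rw [C.twField_xp W, C.twDiag_xp W]
  have hbij : Function.Bijective Ψ := by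
    constructor
    · rintro ⟨⟨x, hx⟩, ψ⟩ ⟨⟨x', hx'⟩, ψ'⟩ hpp
      have hpp' : ∀ y, ((Ψ (⟨x, hx⟩, ψ) : C.stdSubTw ga k φ sreps) : MulAut ↥(C.G1 ga k φ sreps)) y =
          ((Ψ (⟨x', hx'⟩, ψ') : C.stdSubTw ga k φ sreps) : MulAut ↥(C.G1 ga k φ sreps)) y := fun y => by rw [hpp]
      have hxi : ∀ i (hi : i ∈ sreps), x ⟨i, W.S.sreps_lt i hi⟩ = x' ⟨i, W.S.sreps_lt i hi⟩ := by
        intro i hi
        have h := hpp' (C.xp ga k φ sreps i hi 1)
        rw [heval _ i hi, heval _ i hi] at h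
        have h2 := congrArg Subtype.val ((C.rankOne W i hi).inj_p _ _ h)
        simp only [fK, xK, Subfield.coe_mul, Subfield.coe_one, map_one, mul_one] at h2
        exact Units.ext h2
      have hxx : x = x' := by
        rw [C.fix_decomp W.T W.T2 φ (C.pk_k1 W) W.S.sreps_lt W.hO x hx,
          C.fix_decomp W.T W.T2 φ (C.pk_k1 W) W.S.sreps_lt W.hO x' hx']
        congr 1
        apply List.map_congr_left
        intro i hi
        rw [dif_pos (W.S.sreps_lt i hi), dif_pos (W.S.sreps_lt i hi), hxi i hi]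
      subst hxx
      have hψψ : ψ = ψ' := by
        apply RingEquiv.ext
        intro t
        have hmem : t ∈ Kr fd ga φ (fd.simples.getD j₀ 0) := fun h => absurd h H.hj₀ne
        have h := hpp' (C.xp ga k φ sreps j₀ H.hj₀ ⟨t, hmem⟩)
        rw [heval _ j₀ H.hj₀, heval _ j₀ H.hj₀] at h
        have h2 := congrArg Subtype.val ((C.rankOne W j₀ H.hj₀).inj_p _ _ h)
        simp only [fK, xK, Subfield.coe_mul] at h2
        exact mul_left_cancel₀ (Units.ne_zero _) h2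
      subst hψψ
      rfl
    · rintro ⟨θ, hθ⟩
      obtain ⟨x, hx, ψ, h⟩ := C.tw_std_decomp W H hS θ hθ
      refine ⟨(⟨x, hx⟩, ψ), ?_⟩
      apply Subtype.ext
      apply MulEquiv.ext
      intro y
      exact (h y).symm
  rw [← Nat.card_congr (Equiv.ofBijective Ψ hbij), Nat.card_prod]

/-- the order of the outer automorphism group of the twisted group -/
theorem card_out_tw [Finite F] (hS : DiagConj D F) (p : ℕ) [hp : Fact p.Prime]
    (hUp : IsPGroup p (C.tU ga k φ sreps)) (hidx : ¬ p ∣ (C.tU ga k φ sreps).index)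
    (hZ : Subgroup.center ↥(C.G1 ga k φ sreps) = ⊥) :
    Nat.card (Cfsg.Out ↥(C.G1 ga k φ sreps)) * Nat.card (C.tH ga k φ sreps) =
      Nat.card ↥(fixS (sigT fd ga k φ)) * Nat.card (F ≃+* F) := by
  rw [← C.card_stdSubTw W H hS]
  apply card_out_mul (C.stdSubTw ga k φ sreps) (C.tH ga k φ sreps)
  · intro θ
    obtain ⟨x, hx⟩ := C.tw_exists_std W p hUp hidx θ
    exact ⟨x, hx⟩
  · exact C.conj_mem_stdSubTw_iff W
  · intro h _ hc
    have : h ∈ Subgroup.center ↥(C.G1 ga k φ sreps) := by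
      rw [Subgroup.mem_center_iff]
      intro g
      have := congrArg (fun θ : MulAut ↥(C.G1 ga k φ sreps) => θ g) hc
      simp only [MulAut.conj_apply, MulAut.one_apply] at this
      rw [mul_inv_eq_iff_eq_mul] at this
      exact this.symm
    rw [hZ, Subgroup.mem_bot] at this
    exact this

end Cert12

end Cfsg.Agent.Lib.H29.Chev
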