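import Mathlib
import Cfsg.Prelude.Def_KGroupFacts
import Cfsg.Prelude.Def_LieTwisted
import Cfsg.Agent.Lib.H29.TwAut20
import Cfsg.Agent.Lib.H29.ChevTwSimB
import Cfsg.Agent.Lib.H29.ChevTwD4d
import Cfsg.Agent.Lib.H29.ChevAutD4
import Cfsg.Agent.Lib.H2.SzAutCard

/-!
# The outer automorphism group of the twisted group of type `D₄`
-/

set_option autoImplicit false
set_option linter.unusedSectionVars false
set_option linter.unusedSimpArgs false
set_option linter.unusedVariables false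

namespace Cfsg.Agent.Lib.H29.Chev

open Cfsg.Lie Matrix

/-- the center of a non commutative simple group is trivial -/
theorem center_eq_bot_of_simple {G : Type*} [Group G] (h : IsSimpleGroup G) (hc : ¬ IsMulCommutative G) :
    Subgroup.center G = ⊥ := by
  rcases h.eq_bot_or_eq_top_of_normal (Subgroup.center G) inferInstance with h1 | h1
  · exact h1
  · exfalso
    apply hc
    constructor
    constructor
    intro a b
    have : a ∈ Subgroup.center G := by rw [h1]; exact Subgroup.mem_top a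
    exact (Subgroup.mem_center_iff.mp this b).symm

set_option maxRecDepth 1000000 in
set_option maxHeartbeats 0 in
theorem twD4a_piSPos : fdD4.chkPiSPos fxD4 gaD4a 3 srD4a = true := by decide +kernel

set_option maxRecDepth 1000000 in
set_option maxHeartbeats 0 in
theorem twD4a_oppS : fdD4.chkOppS gaD4a 3 fqD4a 11 srD4a = true := by decide +kernel

theorem twD4a_disj : chkDisj gaD4a 3 srD4a = true := by decide +kernel

theorem twD4a_j0 : fdD4.gRoot gaD4a (fdD4.simples.getD 0 0) ≠ fdD4.simples.getD 0 0 := by decide +kernel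

theorem twD4a_fix1 : fdD4.gRoot gaD4a (fdD4.simples.getD 1 0) = fdD4.simples.getD 1 0 := by decide +kernel

set_option maxRecDepth 1000000 in
theorem twD4a_edge : chkChi fdD4 gaD4a 3 1 (fdD4.simples.getD 0 0) (-1) = true := by decide +kernel

theorem twD4a_cl : ∀ i ∈ srD4a, i ∈ closeD [(1, 0)] [0] := by decide

variable {K : Type*} [Field K]

theorem twPack_D4 [Finite K] (q : ℕ) (hq : 1 ≤ q) (hK : Nat.card K = q ^ 3) (φ : K →+* K)
    (hφ : ∀ x, φ x = x ^ q) (hφk : ∀ x : K, φ^[3] x = x) :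
    TwPack cert12_D4 gaD4a 3 φ rlD4a srD4a fqD4a q where
  T := twD4a_spec
  T2 := twD4a_spec2
  hk := Or.inr rfl
  hφk := hφk
  S := twD4a_chain
  hQ := twD4a_ChkQ
  hdk := by decide
  hcov := twD4a_scover
  hO := twD4a_O
  hI := twD4a_injS
  hw0 := ⟨11, twD4a_w0⟩
  hq := hq
  hF := hK
  hφ := hφ

theorem twAutHyp_D4 [Finite K] (q : ℕ) (hq : 1 ≤ q) (hK : Nat.card K = q ^ 3) (φ : K →+* K)
    (hφ : ∀ x, φ x = x ^ q) (hφk : ∀ x : K, φ^[3] x = x) :
    TwAutHyp cert12_D4 gaD4a 3 φ srD4a fqD4a 11 0 [(1, 0)] := by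
  have W := twPack_D4 q hq hK φ hφ hφk
  have h0 : (0 : ℕ) ∈ srD4a := by decide
  have h1 : (1 : ℕ) ∈ srD4a := by decide
  refine ⟨twD4a_piSPos, twD4a_w0, twD4a_oppS, twD4a_disj, h0, twD4a_j0, ?_, twD4a_cl, ?_, ?_⟩
  · intro e he
    rw [List.mem_singleton] at he
    subst he
    exact ⟨h1, h0, twD4a_edge⟩
  · intro θ hθ
    have key0 : cert12_D4.TwMaps gaD4a 3 φ srD4a θ 0 h0 0 h0 := by
      obtain ⟨i', hi', hm⟩ := cert12_D4.tw_std_both W twD4a_piSPos 11 twD4a_w0 twD4a_oppS twD4a_disj θ hθ 0 h0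
      have hne := cert12_D4.twMaps_nonfixed W θ 0 h0 i' hi' hm twD4a_j0
      have hi'2 : i' = 0 ∨ i' = 1 := by simpa [srD4a] using hi'
      rcases hi'2 with rfl | rfl
      · exact hm
      · exact absurd twD4a_fix1 hne
    have key1 : cert12_D4.TwMaps gaD4a 3 φ srD4a θ 1 h1 1 h1 := by
      obtain ⟨i', hi', hm⟩ := cert12_D4.tw_std_both W twD4a_piSPos 11 twD4a_w0 twD4a_oppS twD4a_disj θ hθ 1 h1
      have hi'2 : i' = 0 ∨ i' = 1 := by simpa [srD4a] using hi'
      rcases hi'2 with rfl | rfl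
      · have := cert12_D4.twMaps_inj W twD4a_piSPos 11 twD4a_w0 twD4a_oppS twD4a_disj θ hθ 1 h1 0 h0 0 h0 hm key0
        omega
      · exact hm
    intro i hi
    have hi2 : i = 0 ∨ i = 1 := by simpa [srD4a] using hi
    rcases hi2 with rfl | rfl
    · exact key0
    · exact key1
  · intro c hc
    have hs : Units.map φ.toMonoidHom (c 1) = c 1 := Units.ext (hc 1 h1 twD4a_fix1)
    refine ⟨vecD4 φ (c 1) (c 0), vecD4_fix φ hφk (c 1) (c 0) hs, ?_⟩
    intro i hi hil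
    have hi2 : i = 0 ∨ i = 1 := by simpa [srD4a] using hi
    rcases hi2 with rfl | rfl
    · simp [vecD4]
    · simp [vecD4]

/-- a number congruent to `±1` modulo a multiple of `p` is prime to `p` -/
theorem not_dvd_of_pm_one {p q : ℕ} (hp : 2 ≤ p) (hpq : p ∣ q) (a b : ℕ) (h : a = q * b + 1 ∨ a + 1 = q * b) :
    ¬ p ∣ a := by
  intro ha
  have h1 : p ∣ 1 := by
    rcases h with h | h
    · rw [h] at ha
      exact (Nat.dvd_add_right (Dvd.dvd.mul_right hpq b)).mp ha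
    · have h2 : p ∣ a + 1 := by rw [h]; exact Dvd.dvd.mul_right hpq b
      exact (Nat.dvd_add_right ha).mp h2
  have := Nat.le_of_dvd one_pos h1
  omega

theorem not_dvd_pow_sub_one {p q : ℕ} (hp : 2 ≤ p) (hpq : p ∣ q) (hq : 1 ≤ q) (n : ℕ) (hn : 1 ≤ n) :
    ¬ p ∣ q ^ n - 1 := by
  apply not_dvd_of_pm_one hp hpq _ (q ^ (n - 1))
  right
  have : 1 ≤ q ^ n := Nat.one_le_pow _ _ hq
  rw [Nat.sub_add_cancel this, ← pow_succ', Nat.sub_add_cancel hn]

theorem not_dvd_pow_add_one {p q : ℕ} (hp : 2 ≤ p) (hpq : p ∣ q) (n : ℕ) (hn : 1 ≤ n) :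
    ¬ p ∣ q ^ n + 1 := by
  apply not_dvd_of_pm_one hp hpq _ (q ^ (n - 1))
  left
  rw [← pow_succ', Nat.sub_add_cancel hn]

/-- the order of the outer automorphism group of the twisted group of type `D₄` -/
theorem card_out_twistedD4 {K : Type*} [Field K] [Fintype K] (p f : ℕ) [hp : Fact p.Prime]
    (hK : Fintype.card K = p ^ (3 * f)) (hf : 1 ≤ f) :
    Nat.card (Cfsg.Out ↥(twistedD4 K (p ^ f))) = 3 * f := by
  have hq : IsPrimePow (p ^ f) := hp.out.isPrimePow.pow (by omega)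
  have hK' : Fintype.card K = (p ^ f) ^ 3 := by rw [hK, ← pow_mul, mul_comm]
  obtain ⟨φ, hφ, _, hφk⟩ := exists_frob hq hK'
  have hq1 : 1 ≤ p ^ f := hq.one_lt.le
  have hq2 : 2 ≤ p ^ f := hq.one_lt
  have hKc : Nat.card K = (p ^ f) ^ 3 := by rw [Nat.card_eq_fintype_card, hK']
  have e : twistedD4 K (p ^ f) = Subgroup.closure (cert12_D4.twGen gaD4a 3 φ srD4a) := by
    unfold twistedD4 ChevalleyDatum.genSubgroup
    rw [twGen_D4 (p ^ f) φ hφ]
  have hcard := card_twistedD4 hq hK'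
  have hsim := simple_twistedD4 hq hK'
  rw [e] at hcard hsim ⊢
  have W := twPack_D4 (p ^ f) hq1 hKc φ hφ hφk
  have H := twAutHyp_D4 (p ^ f) hq1 hKc φ hφ hφk
  have hpdvd : p ∣ p ^ f := dvd_pow_self p (by omega)
  have hp2 : 2 ≤ p := hp.out.two_le
  have hcU : Nat.card (cert12_D4.tU gaD4a 3 φ srD4a) = (p ^ f) ^ 12 := by
    rw [cert12_D4.card_subgroupOf_G1 W]
    exact hcard.2
  have hUp : IsPGroup p (cert12_D4.tU gaD4a 3 φ srD4a) := by
    apply IsPGroup.of_card (n := f * 12)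
    rw [hcU, ← pow_mul]
  have hidx : ¬ p ∣ (cert12_D4.tU gaD4a 3 φ srD4a).index := by
    have h1 := (cert12_D4.tU gaD4a 3 φ srD4a).index_mul_card
    rw [hcU, hcard.1] at h1
    have hpos : 0 < (p ^ f) ^ 12 := by positivity
    have h2 : (cert12_D4.tU gaD4a 3 φ srD4a).index =
        ((p ^ f) ^ 2 - 1) * ((p ^ f) ^ 6 - 1) * ((p ^ f) ^ 8 + (p ^ f) ^ 4 + 1) := by
      apply Nat.eq_of_mul_eq_mul_right hpos
      rw [h1]
      ring
    rw [h2]
    intro hd
    rcases (Nat.Prime.dvd_mul hp.out).mp hd with hd | hd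
    · rcases (Nat.Prime.dvd_mul hp.out).mp hd with hd | hd
      · exact not_dvd_pow_sub_one hp2 hpdvd hq1 2 (by norm_num) hd
      · exact not_dvd_pow_sub_one hp2 hpdvd hq1 6 (by norm_num) hd
    · refine not_dvd_of_pm_one hp2 hpdvd _ ((p ^ f) ^ 7 + (p ^ f) ^ 3) (Or.inl ?_) hd
      ring
  have hZ := center_eq_bot_of_simple hsim.1 hsim.2
  have key := cert12_D4.card_out_tw W H diagConj_D4 p hUp hidx hZ
  have hH : Nat.card (cert12_D4.tH gaD4a 3 φ srD4a) = (p ^ f - 1) * ((p ^ f) ^ 3 - 1) := by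
    rw [cert12_D4.card_subgroupOf_G1 W,
      cert12_D4.diag_inf_tw twD4a_spec twD4a_spec2 φ 2 (Or.inl ⟨rfl, rfl⟩) _ (cartB_of_chk blD4 2 twD4a_cartB)
        (cert12_D4.sigT_pow twD4a_spec twD4a_spec2 φ (by norm_num) hφk) _ (cert12_D4.G1_le_fix W)
        (cert12_D4.H1_le_G1 W)]
    exact card_H1_D4 φ (p ^ f) hq1 hKc hφ hφk
  rw [hH, card_fixD4 φ (p ^ f) hq1 hKc hφ hφk, Cfsg.Agent.Lib.H2.SzAut.card_ringAut hK, mul_comm] at key
  have hM : 0 < (p ^ f - 1) * ((p ^ f) ^ 3 - 1) := by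
    apply Nat.mul_pos
    · omega
    · have : 2 ^ 3 ≤ (p ^ f) ^ 3 := Nat.pow_le_pow_left hq2 3
      omega
  exact Nat.eq_of_mul_eq_mul_left hM key

end Cfsg.Agent.Lib.H29.Chev
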