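import Mathlib
import Cfsg.Prelude.Def_ChevStructure
import Cfsg.Prelude.Def_LieTwisted
import Cfsg.Agent.Lib.H29.D4Inv4
import Cfsg.Agent.Lib.H29.TwAutD4

/-!
# The twisted group of type `D₄` in characteristic two: the elements of `U¹` and the group
-/

set_option autoImplicit false
set_option linter.unusedSectionVars false
set_option linter.unusedSimpArgs false
set_option linter.unusedVariables false

namespace Cfsg.Agent.Lib.H29.Chev

open Cfsg.Lie Matrix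

/-- conjugacy under a subgroup -/
def ConjS {G : Type*} [Group G] (H : Subgroup G) (g g' : G) : Prop := ∃ x ∈ H, x * g * x⁻¹ = g'

theorem ConjS.refl {G : Type*} [Group G] (H : Subgroup G) (g : G) : ConjS H g g := ⟨1, one_mem _, by group⟩

theorem ConjS.trans {G : Type*} [Group G] {H : Subgroup G} {g g' g'' : G} (h : ConjS H g g') (h' : ConjS H g' g'') :
    ConjS H g g'' := by
  obtain ⟨x, hx, rfl⟩ := h
  obtain ⟨y, hy, rfl⟩ := h'
  exact ⟨y * x, mul_mem hy hx, by group⟩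

theorem ConjS.symm {G : Type*} [Group G] {H : Subgroup G} {g g' : G} (h : ConjS H g g') : ConjS H g' g := by
  obtain ⟨x, hx, rfl⟩ := h
  exact ⟨x⁻¹, inv_mem hx, by group⟩

theorem ConjS.of_eq {G : Type*} [Group G] {H : Subgroup G} {g g' : G} (h : g = g') : ConjS H g g' := by
  rw [h]; exact ConjS.refl H g'

namespace Cert12

variable {D : ChevalleyDatum} {fd : FD} {fx : FX} {fc : FC} {fz : FZ} {F : Type*} [Field F]
variable (C : Cert12 D fd fx fc fz) {ga : GA} {k : ℕ} (T : TwSpec fd fx ga k) (φ : F →+* F)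
include T

/-- splitting off the first orbit -/
theorem AL_cons (hk : k = 2 ∨ k = 3) (hφk : ∀ x : F, φ^[k] x = x) (r : ℕ) (L : List ℕ)
    (hA : Adm fd fx ga k (r :: L)) (g : GL D.Idx F) (hg : g ∈ C.AL T φ (r :: L)) :
    ∃ t ∈ Kr fd ga φ r, ∃ g' ∈ C.AL T φ L, g = C.xS ga k φ r t * g' := by
  obtain ⟨hg1, hg2⟩ := Subgroup.mem_inf.mp hg
  rw [mem_fixS] at hg1
  have hxf := C.xS_fixed T φ hk hφk r L hA
  obtain ⟨ht, hg'⟩ := C.step_decomp T φ (by omega) r L hA g hg2 hg1 hxf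
  refine ⟨_, ht, _, Subgroup.mem_inf.mpr ⟨?_, hg'⟩, by group⟩
  rw [mem_fixS, map_mul, map_inv, hxf _ ht, hg1]

end Cert12

section D4

variable {K : Type*} [Field K] [CharP K 2] (φ : K →+* K)

local notation "xd" => cert12_D4.c6.c2.xA

theorem d4_gfix : fdD4.gRoot gaD4a 14 = 14 ∧ fdD4.gRoot gaD4a 22 = 22 ∧ fdD4.gRoot gaD4a 23 = 23 ∧
    fdD4.gRoot gaD4a 18 ≠ 18 ∧ fdD4.gRoot gaD4a 15 ≠ 15 ∧ fdD4.gRoot gaD4a 17 ≠ 17 := by decide

theorem d4E_xS (u a c d e f : K) :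
    d4E φ u a c d e f = cert12_D4.xS gaD4a 3 φ 14 u * (cert12_D4.xS gaD4a 3 φ 18 a * (cert12_D4.xS gaD4a 3 φ 15 c *
      (cert12_D4.xS gaD4a 3 φ 17 d * (cert12_D4.xS gaD4a 3 φ 22 e * cert12_D4.xS gaD4a 3 φ 23 f)))) := by
  rw [xS14, xS18, xS15, xS17, xS22, xS23]
  unfold d4E
  simp only [mul_assoc]

variable {q : ℕ} (W : TwPack cert12_D4 gaD4a 3 φ rlD4a srD4a fqD4a q)
include W

/-- the normal form of the elements of `U¹` -/
theorem d4_normal (g : GL chevD4.Idx K)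
    (hg : g ∈ fixS (cert12_D4.c6.c2.sigma W.T.ginv φ) ⊓ chevD4.posUnipotent K) :
    ∃ u a c d e f : K, φ u = u ∧ φ e = e ∧ φ f = f ∧ g = d4E φ u a c d e f := by
  have e1 : chevD4.posUnipotent K = Vm chevD4 K (PsiL fdD4 gaD4a 3 rlD4a) (fdD4.n / 2) := by
    rw [cert12_D4.posUnipotent_eq]
    unfold Vm VmSet
    congr 1
    ext g
    constructor
    · rintro ⟨s, t, h1, _, h3, h4⟩
      exact ⟨s, t, h1, W.S.cover s h3 ((cert12_D4.c6.isPos_iff s).mp h1).1, h3, h4⟩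
    · rintro ⟨s, t, h1, _, h3, h4⟩
      exact ⟨s, t, h1, trivial, h3, h4⟩
  rw [e1] at hg
  have hg' : g ∈ cert12_D4.AL W.T φ [14, 18, 15, 17, 22, 23] := hg
  have hA : Adm fdD4 fxD4 gaD4a 3 [14, 18, 15, 17, 22, 23] := W.S.adm
  obtain ⟨u, hu, g1, hg1, rfl⟩ := cert12_D4.AL_cons W.T φ W.hk W.hφk _ _ hA g hg'
  have hA1 := cert12_D4.adm_tail W.T _ _ hA
  obtain ⟨a, ha, g2, hg2, rfl⟩ := cert12_D4.AL_cons W.T φ W.hk W.hφk _ _ hA1 g1 hg1
  have hA2 := cert12_D4.adm_tail W.T _ _ hA1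
  obtain ⟨c, hc, g3, hg3, rfl⟩ := cert12_D4.AL_cons W.T φ W.hk W.hφk _ _ hA2 g2 hg2
  have hA3 := cert12_D4.adm_tail W.T _ _ hA2
  obtain ⟨d, hd, g4, hg4, rfl⟩ := cert12_D4.AL_cons W.T φ W.hk W.hφk _ _ hA3 g3 hg3
  have hA4 := cert12_D4.adm_tail W.T _ _ hA3
  obtain ⟨e, he, g5, hg5, rfl⟩ := cert12_D4.AL_cons W.T φ W.hk W.hφk _ _ hA4 g4 hg4
  have hA5 := cert12_D4.adm_tail W.T _ _ hA4
  obtain ⟨f, hf, g6, hg6, rfl⟩ := cert12_D4.AL_cons W.T φ W.hk W.hφk _ _ hA5 g5 hg5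
  rw [cert12_D4.AL_nil W.T φ, Subgroup.mem_bot] at hg6
  subst hg6
  refine ⟨u, a, c, d, e, f, hu d4_gfix.1, he d4_gfix.2.1, hf d4_gfix.2.2.1, ?_⟩
  rw [d4E_xS, mul_one]

/-- positive elements `x_S(t)` lie in the twisted group -/
theorem xS_mem_G1_pos (r : ℕ) (hr : r < 24) (hpos : 12 ≤ r) (t : K) (ht : t ∈ Kr fdD4 gaD4a φ r) :
    cert12_D4.xS gaD4a 3 φ r t ∈ cert12_D4.G1 gaD4a 3 φ srD4a := by
  apply cert12_D4.fixU_le_G1 W
  refine Subgroup.mem_inf.mpr ⟨?_, cert12_D4.xS_pos_mem W r hr hpos t⟩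
  rw [mem_fixS]
  exact cert12_D4.sigma_xS W.T φ W.hk W.hφk r hr t ht

theorem d4B_mem (v : K) (hv : φ v = v) : xd 14 v ∈ cert12_D4.G1 gaD4a 3 φ srD4a := by
  rw [← xS14 φ]
  exact xS_mem_G1_pos φ W 14 (by norm_num) (by norm_num) v (fun _ => hv)

theorem d4A_mem (v : K) : d4A φ v ∈ cert12_D4.G1 gaD4a 3 φ srD4a := by
  have := xS_mem_G1_pos φ W 18 (by norm_num) (by norm_num) v (fun h => absurd h d4_gfix.2.2.2.1)
  rwa [xS18] at this

theorem d4C_mem (v : K) : d4C φ v ∈ cert12_D4.G1 gaD4a 3 φ srD4a := by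
  have := xS_mem_G1_pos φ W 15 (by norm_num) (by norm_num) v (fun h => absurd h d4_gfix.2.2.2.2.1)
  rwa [xS15] at this

theorem d4D_mem (v : K) : d4D φ v ∈ cert12_D4.G1 gaD4a 3 φ srD4a := by
  have := xS_mem_G1_pos φ W 17 (by norm_num) (by norm_num) v (fun h => absurd h d4_gfix.2.2.2.2.2)
  rwa [xS17] at this

theorem d4E_mem (v : K) (hv : φ v = v) : xd 22 v ∈ cert12_D4.G1 gaD4a 3 φ srD4a := by
  rw [← xS22 φ]
  exact xS_mem_G1_pos φ W 22 (by norm_num) (by norm_num) v (fun _ => hv)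

theorem d4F_mem (v : K) (hv : φ v = v) : xd 23 v ∈ cert12_D4.G1 gaD4a 3 φ srD4a := by
  rw [← xS23 φ]
  exact xS_mem_G1_pos φ W 23 (by norm_num) (by norm_num) v (fun _ => hv)

end D4

end Cfsg.Agent.Lib.H29.Chev
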