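import Mathlib
import Cfsg.Prelude.Def_ChevStructure
import Cfsg.Prelude.Def_LieTwisted
import Cfsg.Agent.Lib.H29.D4Inv5
import Cfsg.Agent.Lib.H29.ChevInvG2c

/-!
# The twisted group of type `D₄` in characteristic two: uniqueness of the normal form, the Weyl group and the torus
-/

set_option autoImplicit false
set_option linter.unusedSectionVars false
set_option linter.unusedSimpArgs false
set_option linter.unusedVariables false

namespace Cfsg.Agent.Lib.H29.Chev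

open Cfsg.Lie Matrix

namespace Cert12

variable {D : ChevalleyDatum} {fd : FD} {fx : FX} {fc : FC} {fz : FZ} {F : Type*} [Field F]
variable (C : Cert12 D fd fx fc fz) {ga : GA} {k : ℕ} (T : TwSpec fd fx ga k) (φ : F →+* F)
include T

/-- uniqueness in the splitting of the first orbit -/
theorem xS_mul_inj (hk : 1 ≤ k) (r : ℕ) (L : List ℕ) (hA : Adm fd fx ga k (r :: L)) (t t' : F)
    (g' g'' : GL D.Idx F) (hg' : g' ∈ Vm D F (PsiL fd ga k L) (fd.n / 2))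
    (hg'' : g'' ∈ Vm D F (PsiL fd ga k L) (fd.n / 2))
    (h : C.xS ga k φ r t * g' = C.xS ga k φ r t' * g'') : t = t' ∧ g' = g'' := by
  have h1 := (C.step_coord T φ hk r L hA t g' hg').2
  have h2 := (C.step_coord T φ hk r L hA t' g'' hg'').2
  rw [h, h2] at h1
  subst h1
  exact ⟨rfl, mul_left_cancel h⟩

end Cert12

section D4

theorem conj_mul2 {G : Type*} [Group G] (m a b : G) : m * (a * b) * m⁻¹ = (m * a * m⁻¹) * (m * b * m⁻¹) := by group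


variable {K : Type*} [Field K] [CharP K 2] (φ : K →+* K)

local notation "xd" => cert12_D4.c6.c2.xA


theorem d4_os' : fdD4.os gaD4a 3 12 = 3 ∧ fdD4.os gaD4a 3 19 = 3 := by decide

theorem d4_gIt' : fdD4.gIt gaD4a 1 12 = 18 ∧ fdD4.gIt gaD4a 2 12 = 13 ∧ fdD4.gIt gaD4a 1 19 = 16 ∧
    fdD4.gIt gaD4a 2 19 = 15 := by decide

theorem d4_eProd' : fdD4.eProd gaD4a 12 1 = 1 ∧ fdD4.eProd gaD4a 12 2 = 1 ∧ fdD4.eProd gaD4a 19 1 = -1 ∧
    fdD4.eProd gaD4a 19 2 = -1 := by decide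

theorem xS12 (h3 : ∀ x : K, φ (φ (φ x)) = x) (a : K) : cert12_D4.xS gaD4a 3 φ 12 a = d4A φ (φ a) := by
  unfold Cert12.xS d4A
  rw [d4_os'.1]
  simp only [List.range_succ, List.range_zero, List.nil_append, List.cons_append, List.map_cons, List.map_nil,
    List.prod_cons, List.prod_nil, mul_one, Cert12.aj, d4_gIt'.1, d4_gIt'.2.1, d4_eProd'.1, d4_eProd'.2.1,
    Function.iterate_succ, Function.iterate_zero, Function.comp, id, Int.cast_one, one_mul, FD.gIt_zero, d4_eProd0,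
    h3]
  simp only [d4s14_18, d4s14_18', d4s14_13, d4s14_13', d4s14_12, d4s14_12', d4s14_15, d4s14_15', d4s14_19, d4s14_19', d4s14_16, d4s14_16', d4s14_17, d4s14_17', d4s14_20, d4s14_20', d4s14_21, d4s14_21', d4s14_22, d4s14_22', d4s14_23, d4s14_23', d4s18_13, d4s18_13', d4s18_12, d4s18_12', d4s18_15, d4s18_15', d4s18_19, d4s18_19', d4s18_16, d4s18_16', d4s18_17, d4s18_17', d4s18_20, d4s18_20', d4s18_21, d4s18_21', d4s18_22, d4s18_22', d4s18_23, d4s18_23', d4s13_12, d4s13_12', d4s13_15, d4s13_15', d4s13_19, d4s13_19', d4s13_16, d4s13_16', d4s13_17, d4s13_17', d4s13_20, d4s13_20', d4s13_21, d4s13_21', d4s13_22, d4s13_22', d4s13_23, d4s13_23', d4s12_15, d4s12_15', d4s12_19, d4s12_19', d4s12_16, d4s12_16', d4s12_17, d4s12_17', d4s12_20, d4s12_20', d4s12_21, d4s12_21', d4s12_22, d4s12_22', d4s12_23, d4s12_23', d4s15_19, d4s15_19', d4s15_16, d4s15_16', d4s15_17, d4s15_17',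 d4s15_20, d4s15_20', d4s15_21, d4s15_21', d4s15_22, d4s15_22', d4s15_23, d4s15_23', d4s19_16, d4s19_16', d4s19_17, d4s19_17', d4s19_20, d4s19_20', d4s19_21, d4s19_21', d4s19_22, d4s19_22', d4s19_23, d4s19_23', d4s16_17, d4s16_17', d4s16_20, d4s16_20', d4s16_21, d4s16_21', d4s16_22, d4s16_22', d4s16_23, d4s16_23', d4s17_20, d4s17_20', d4s17_21, d4s17_21', d4s17_22, d4s17_22', d4s17_23, d4s17_23', d4s20_21, d4s20_21', d4s20_22, d4s20_22', d4s20_23, d4s20_23', d4s21_22, d4s21_22', d4s21_23, d4s21_23', d4s22_23, d4s22_23', mul_assoc]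

theorem xS19 (h3 : ∀ x : K, φ (φ (φ x)) = x) (a : K) : cert12_D4.xS gaD4a 3 φ 19 a = d4C φ (φ (φ a)) := by
  unfold Cert12.xS d4C
  rw [d4_os'.2]
  simp only [List.range_succ, List.range_zero, List.nil_append, List.cons_append, List.map_cons, List.map_nil,
    List.prod_cons, List.prod_nil, mul_one, Cert12.aj, d4_gIt'.2.2.1, d4_gIt'.2.2.2, d4_eProd'.2.2.1, d4_eProd'.2.2.2,
    Function.iterate_succ, Function.iterate_zero, Function.comp, id, Int.cast_one, Int.cast_neg, one_mul,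
    neg_eq_self_F, FD.gIt_zero, d4_eProd0, h3]
  simp only [d4s14_18, d4s14_18', d4s14_13, d4s14_13', d4s14_12, d4s14_12', d4s14_15, d4s14_15', d4s14_19, d4s14_19', d4s14_16, d4s14_16', d4s14_17, d4s14_17', d4s14_20, d4s14_20', d4s14_21, d4s14_21', d4s14_22, d4s14_22', d4s14_23, d4s14_23', d4s18_13, d4s18_13', d4s18_12, d4s18_12', d4s18_15, d4s18_15', d4s18_19, d4s18_19', d4s18_16, d4s18_16', d4s18_17, d4s18_17', d4s18_20, d4s18_20', d4s18_21, d4s18_21', d4s18_22, d4s18_22', d4s18_23, d4s18_23', d4s13_12, d4s13_12', d4s13_15, d4s13_15', d4s13_19, d4s13_19', d4s13_16, d4s13_16', d4s13_17, d4s13_17', d4s13_20, d4s13_20', d4s13_21, d4s13_21', d4s13_22, d4s13_22', d4s13_23, d4s13_23', d4s12_15, d4s12_15', d4s12_19, d4s12_19', d4s12_16, d4s12_16', d4s12_17, d4s12_17', d4s12_20, d4s12_20', d4s12_21, d4s12_21', d4s12_22, d4s12_22', d4s12_23, d4s12_23', d4s15_19, d4s15_19',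 d4s15_16, d4s15_16', d4s15_17, d4s15_17', d4s15_20, d4s15_20', d4s15_21, d4s15_21', d4s15_22, d4s15_22', d4s15_23, d4s15_23', d4s19_16, d4s19_16', d4s19_17, d4s19_17', d4s19_20, d4s19_20', d4s19_21, d4s19_21', d4s19_22, d4s19_22', d4s19_23, d4s19_23', d4s16_17, d4s16_17', d4s16_20, d4s16_20', d4s16_21, d4s16_21', d4s16_22, d4s16_22', d4s16_23, d4s16_23', d4s17_20, d4s17_20', d4s17_21, d4s17_21', d4s17_22, d4s17_22', d4s17_23, d4s17_23', d4s20_21, d4s20_21', d4s20_22, d4s20_22', d4s20_23, d4s20_23', d4s21_22, d4s21_22', d4s21_23, d4s21_23', d4s22_23, d4s22_23', mul_assoc]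

theorem xS18' (a : K) : cert12_D4.xS gaD4a 3 φ 18 a = d4A φ a := by rw [xS18]; rfl

theorem xS15' (a : K) : cert12_D4.xS gaD4a 3 φ 15 a = d4C φ a := by rw [xS15]; rfl

theorem xS17' (a : K) : cert12_D4.xS gaD4a 3 φ 17 a = d4D φ a := by rw [xS17]; rfl

theorem d4_piS : fdD4.piS fxD4 gaD4a 3 1 15 = 12 ∧ fdD4.piS fxD4 gaD4a 3 1 22 = 23 ∧
    fdD4.piS fxD4 gaD4a 3 0 14 = 22 ∧ fdD4.piS fxD4 gaD4a 3 0 17 = 19 := by decide +kernel

theorem d4_chk1 : chkChi fdD4 gaD4a 3 1 23 1 = true := by decide +kernel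

theorem d4_chk0 : chkChi fdD4 gaD4a 3 0 18 2 = true := by decide +kernel

variable {q : ℕ} (W : TwPack cert12_D4 gaD4a 3 φ rlD4a srD4a fqD4a q)
include W

/-- uniqueness of the normal form -/
theorem d4E_inj (u a c d e f u' a' c' d' e' f' : K) (h : d4E φ u a c d e f = d4E φ u' a' c' d' e' f') :
    u = u' ∧ a = a' ∧ c = c' ∧ d = d' ∧ e = e' ∧ f = f' := by
  have hk1 : 1 ≤ 3 := by norm_num
  have hA : Adm fdD4 fxD4 gaD4a 3 [14, 18, 15, 17, 22, 23] := W.S.adm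
  have hA1 := cert12_D4.adm_tail W.T _ _ hA
  have hA2 := cert12_D4.adm_tail W.T _ _ hA1
  have hA3 := cert12_D4.adm_tail W.T _ _ hA2
  have hA4 := cert12_D4.adm_tail W.T _ _ hA3
  have hA5 := cert12_D4.adm_tail W.T _ _ hA4
  have m0 : (1 : GL chevD4.Idx K) ∈ Vm chevD4 K (PsiL fdD4 gaD4a 3 []) (fdD4.n / 2) := one_mem _
  have m5 : ∀ f : K, cert12_D4.xS gaD4a 3 φ 23 f * 1 ∈ Vm chevD4 K (PsiL fdD4 gaD4a 3 [23]) (fdD4.n / 2) :=
    fun f => (cert12_D4.step_coord W.T φ hk1 23 [] hA5 f 1 m0).1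
  have m4 : ∀ e f : K, cert12_D4.xS gaD4a 3 φ 22 e * (cert12_D4.xS gaD4a 3 φ 23 f * 1) ∈
      Vm chevD4 K (PsiL fdD4 gaD4a 3 [22, 23]) (fdD4.n / 2) :=
    fun e f => (cert12_D4.step_coord W.T φ hk1 22 [23] hA4 e _ (m5 f)).1
  have m3 : ∀ d e f : K, cert12_D4.xS gaD4a 3 φ 17 d * (cert12_D4.xS gaD4a 3 φ 22 e *
      (cert12_D4.xS gaD4a 3 φ 23 f * 1)) ∈ Vm chevD4 K (PsiL fdD4 gaD4a 3 [17, 22, 23]) (fdD4.n / 2) :=
    fun d e f => (cert12_D4.step_coord W.T φ hk1 17 [22, 23] hA3 d _ (m4 e f)).1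
  have m2 : ∀ c d e f : K, cert12_D4.xS gaD4a 3 φ 15 c * (cert12_D4.xS gaD4a 3 φ 17 d *
      (cert12_D4.xS gaD4a 3 φ 22 e * (cert12_D4.xS gaD4a 3 φ 23 f * 1))) ∈
      Vm chevD4 K (PsiL fdD4 gaD4a 3 [15, 17, 22, 23]) (fdD4.n / 2) :=
    fun c d e f => (cert12_D4.step_coord W.T φ hk1 15 [17, 22, 23] hA2 c _ (m3 d e f)).1
  have m1 : ∀ a c d e f : K, cert12_D4.xS gaD4a 3 φ 18 a * (cert12_D4.xS gaD4a 3 φ 15 c *
      (cert12_D4.xS gaD4a 3 φ 17 d * (cert12_D4.xS gaD4a 3 φ 22 e * (cert12_D4.xS gaD4a 3 φ 23 f * 1)))) ∈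
      Vm chevD4 K (PsiL fdD4 gaD4a 3 [18, 15, 17, 22, 23]) (fdD4.n / 2) :=
    fun a c d e f => (cert12_D4.step_coord W.T φ hk1 18 [15, 17, 22, 23] hA1 a _ (m2 c d e f)).1
  rw [d4E_xS, d4E_xS] at h
  rw [← mul_one (cert12_D4.xS gaD4a 3 φ 23 f), ← mul_one (cert12_D4.xS gaD4a 3 φ 23 f')] at h
  obtain ⟨e1, k1⟩ := cert12_D4.xS_mul_inj W.T φ hk1 14 _ hA u u' _ _ (m1 a c d e f) (m1 a' c' d' e' f') h
  obtain ⟨e2, k2⟩ := cert12_D4.xS_mul_inj W.T φ hk1 18 _ hA1 a a' _ _ (m2 c d e f) (m2 c' d' e' f') k1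
  obtain ⟨e3, k3⟩ := cert12_D4.xS_mul_inj W.T φ hk1 15 _ hA2 c c' _ _ (m3 d e f) (m3 d' e' f') k2
  obtain ⟨e4, k4⟩ := cert12_D4.xS_mul_inj W.T φ hk1 17 _ hA3 d d' _ _ (m4 e f) (m4 e' f') k3
  obtain ⟨e5, k5⟩ := cert12_D4.xS_mul_inj W.T φ hk1 22 _ hA4 e e' _ _ (m5 f) (m5 f') k4
  obtain ⟨e6, k6⟩ := cert12_D4.xS_mul_inj W.T φ hk1 23 _ hA5 f f' _ _ m0 m0 k5
  exact ⟨e1, e2, e3, e4, e5, e6⟩

/-- conjugation by `n_b` -/
theorem d4_weyl1 (h3 : ∀ x : K, φ (φ (φ x)) = x) : ∃ k1 k2 : K, k1 ≠ 0 ∧ k2 ≠ 0 ∧ φ k2 = k2 ∧ ∀ c e : K,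
    ConjS (cert12_D4.G1 gaD4a 3 φ srD4a) (d4C φ c * xd 22 e) (d4A φ (φ (k1 * c)) * xd 23 (k2 * e)) := by
  have hm := cert12_D4.nS_mem_monomial W.T W.T2 (F := K) 1
  have hf := cert12_D4.sigma_nS W.T W.T2 φ W.hk W.hφk 1 (by decide)
  have hπ := cert12_D4.perm_nS W.T W.T2 (F := K) 1 (by decide)
  obtain ⟨k1, hk1, _, e1⟩ := cert12_D4.conj_xS_perm W.T W.T2 φ _ hm hf _ hπ 15 (by decide)
  obtain ⟨k2, hk2, hK2, e2⟩ := cert12_D4.conj_xS_perm W.T W.T2 φ _ hm hf _ hπ 22 (by decide)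
  rw [d4_piS.1] at e1
  rw [d4_piS.2.1] at e2 hK2
  refine ⟨k1, k2, hk1, hk2, ?_, fun c e => ⟨_, cert12_D4.nS_mem_G1 W 1 (by decide), ?_⟩⟩
  · have := hK2 1 (fun _ => map_one φ) d4_gfix.2.2.1
    rwa [mul_one] at this
  · rw [conj_mul2, ← xS15' φ, ← xS22 φ, e1, e2, xS12 φ h3, xS23]

/-- conjugation by `n_a` -/
theorem d4_weyl0 (h3 : ∀ x : K, φ (φ (φ x)) = x) : ∃ k1 k2 : K, k1 ≠ 0 ∧ k2 ≠ 0 ∧ φ k2 = k2 ∧ ∀ u d : K,
    ConjS (cert12_D4.G1 gaD4a 3 φ srD4a) (xd 14 u * d4D φ d) (xd 22 (k2 * u) * d4C φ (φ (φ (k1 * d)))) := by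
  have hm := cert12_D4.nS_mem_monomial W.T W.T2 (F := K) 0
  have hf := cert12_D4.sigma_nS W.T W.T2 φ W.hk W.hφk 0 (by decide)
  have hπ := cert12_D4.perm_nS W.T W.T2 (F := K) 0 (by decide)
  obtain ⟨k1, hk1, _, e1⟩ := cert12_D4.conj_xS_perm W.T W.T2 φ _ hm hf _ hπ 17 (by decide)
  obtain ⟨k2, hk2, hK2, e2⟩ := cert12_D4.conj_xS_perm W.T W.T2 φ _ hm hf _ hπ 14 (by decide)
  rw [d4_piS.2.2.2] at e1
  rw [d4_piS.2.2.1] at e2 hK2
  refine ⟨k1, k2, hk1, hk2, ?_, fun c e => ⟨_, cert12_D4.nS_mem_G1 W 0 (by decide), ?_⟩⟩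
  · have := hK2 1 (fun _ => map_one φ) d4_gfix.2.1
    rwa [mul_one] at this
  · rw [conj_mul2, ← xS17' φ, ← xS14 φ, e2, e1, xS19 φ h3, xS22]

/-- the short root elements are conjugate under the torus -/
theorem d4_torusA [Finite K] (a : K) (ha : a ≠ 0) :
    ConjS (cert12_D4.G1 gaD4a 3 φ srD4a) (d4A φ a) (d4A φ 1) := by
  obtain ⟨z, hz⟩ := exists_sqrt_F a⁻¹
  have hz0 : z ≠ 0 := by
    rintro rfl
    rw [zero_pow (by norm_num)] at hz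
    exact inv_ne_zero ha hz.symm
  have hzK : z ∈ Kr fdD4 gaD4a φ (fdD4.simples.getD 0 0) := fun h => absurd h (by decide)
  obtain ⟨_, hc⟩ := cert12_D4.hS_conj_xS W 0 (by decide) z hz0 hzK 18 (by decide) (by decide)
  refine ⟨cert12_D4.hS gaD4a 3 φ 0 z, (cert12_D4.hS_mem W 0 (by decide) z hz0 hzK).2, ?_⟩
  rw [← xS18' φ, hc, cert12_D4.chiC_yS_gen W 0 (by decide) 18 (by decide) 2 d4_chk0, ← xS18' φ]
  congr 1
  rw [zpow_ofNat, Units.val_pow_eq_pow_val, Units.val_mk0, hz, inv_mul_cancel₀ ha]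

/-- the long root elements are conjugate under the torus -/
theorem d4_torusF (f : K) (hf : f ≠ 0) (hφ : φ f = f) :
    ConjS (cert12_D4.G1 gaD4a 3 φ srD4a) (xd 23 f) (xd 23 1) := by
  have hz0 : f⁻¹ ≠ 0 := inv_ne_zero hf
  have hzK : f⁻¹ ∈ Kr fdD4 gaD4a φ (fdD4.simples.getD 1 0) := fun _ => by rw [map_inv₀, hφ]
  obtain ⟨_, hc⟩ := cert12_D4.hS_conj_xS W 1 (by decide) f⁻¹ hz0 hzK 23 (by decide) (by decide)
  refine ⟨cert12_D4.hS gaD4a 3 φ 1 f⁻¹, (cert12_D4.hS_mem W 1 (by decide) f⁻¹ hz0 hzK).2, ?_⟩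
  rw [← xS23 φ, hc, cert12_D4.chiC_yS_gen W 1 (by decide) 23 (by decide) 1 d4_chk1, ← xS23 φ]
  congr 1
  rw [zpow_one, Units.val_mk0, inv_mul_cancel₀ hf]

end D4

end Cfsg.Agent.Lib.H29.Chev
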