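import Mathlib
import Cfsg.Prelude.Def_ChevStructure
import Cfsg.Prelude.Def_LieTwisted
import Cfsg.Agent.Lib.H29.D4Inv6

/-!
# The twisted group of type `D₄` in characteristic two: the involutions of `U¹`, part 1
-/

set_option autoImplicit false
set_option linter.unusedSectionVars false
set_option linter.unusedSimpArgs false
set_option linter.unusedVariables false
set_option linter.unusedTactic false
set_option linter.unreachableTactic false

namespace Cfsg.Agent.Lib.H29.Chev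

open Cfsg.Lie Matrix

section D4

variable {K : Type*} [Field K] [CharP K 2] (φ : K →+* K)

local notation "xd" => cert12_D4.c6.c2.xA

theorem ConjS.mem {G : Type*} [Group G] {H : Subgroup G} {g g' : G} (h : ConjS H g g') (hg : g ∈ H) : g' ∈ H := by
  obtain ⟨x, hx, rfl⟩ := h
  exact mul_mem (mul_mem hx hg) (inv_mem hx)

theorem ConjS.sq {G : Type*} [Group G] {H : Subgroup G} {g g' : G} (h : ConjS H g g') (hg : g * g = 1) :
    g' * g' = 1 := by
  obtain ⟨x, hx, rfl⟩ := h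
  have : x * g * x⁻¹ * (x * g * x⁻¹) = x * (g * g) * x⁻¹ := by group
  rw [this, hg]
  group

theorem d4E_mem_pos (u a c d e f : K) : d4E φ u a c d e f ∈ chevD4.posUnipotent K := by
  have h : ∀ r, 12 ≤ r → r < 24 → ∀ t : K, xd r t ∈ chevD4.posUnipotent K := by
    intro r h1 h2 t
    rw [cert12_D4.c6.c2.xA_of_lt r h2]
    exact cert12_D4.c6.c2.xG_mem_pos r h2 h1 t
  unfold d4E
  exact mul_mem (h 14 (by norm_num) (by norm_num) _) (mul_mem (h 18 (by norm_num) (by norm_num) _)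
    (mul_mem (h 13 (by norm_num) (by norm_num) _) (mul_mem (h 12 (by norm_num) (by norm_num) _)
    (mul_mem (h 15 (by norm_num) (by norm_num) _) (mul_mem (h 19 (by norm_num) (by norm_num) _)
    (mul_mem (h 16 (by norm_num) (by norm_num) _) (mul_mem (h 17 (by norm_num) (by norm_num) _)
    (mul_mem (h 20 (by norm_num) (by norm_num) _) (mul_mem (h 21 (by norm_num) (by norm_num) _)
    (mul_mem (h 22 (by norm_num) (by norm_num) _) (h 23 (by norm_num) (by norm_num) _)))))))))))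

variable {q : ℕ} (W : TwPack cert12_D4 gaD4a 3 φ rlD4a srD4a fqD4a q)
include W

/-- the coordinates at the fixed roots of an element of the group are fixed -/
theorem d4E_fixed_of_mem (u a c d e f : K) (h : d4E φ u a c d e f ∈ cert12_D4.G1 gaD4a 3 φ srD4a) :
    φ u = u ∧ φ e = e ∧ φ f = f := by
  obtain ⟨u', a', c', d', e', f', hu, he, hf, heq⟩ := d4_normal φ W _
    (Subgroup.mem_inf.mpr ⟨cert12_D4.G1_le_fix W h, d4E_mem_pos φ u a c d e f⟩)
  obtain ⟨rfl, _, _, _, rfl, rfl⟩ := d4E_inj φ W _ _ _ _ _ _ _ _ _ _ _ _ heq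
  exact ⟨hu, he, hf⟩

variable (h3 : ∀ x : K, φ (φ (φ x)) = x)
include h3

/-- the conditions for an element in normal form to be an involution -/
theorem d4_inv_cond (u a c d e f : K) (hu : φ u = u) (hsq : d4E φ u a c d e f * d4E φ u a c d e f = 1) :
    u * φ (φ a) = 0 ∧ u * φ a * φ (φ a) + φ a * c + φ (φ a) * φ (φ c) = 0 ∧
    u * a * φ a * φ (φ a) + a * φ a * c + a * φ (φ a) * φ (φ c) + a * d + φ a * φ (φ a) * φ c + φ a * φ d +
        φ (φ a) * φ (φ d) = 0 ∧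
    u * e + u ^ 2 * a * φ a * φ (φ a) + a * c * φ (φ c) + φ a * c * φ c + c * φ (φ d) + φ (φ a) * φ c * φ (φ c) +
        φ c * d + φ (φ c) * φ d = 0 := by
  rw [d4E_sq φ h3 _ _ _ _ _ _ hu, ← d4E_zero φ] at hsq
  obtain ⟨_, _, h1, h2, h4, h5⟩ := d4E_inj φ W _ _ _ _ _ _ _ _ _ _ _ _ hsq
  exact ⟨h1, h2, h4, h5⟩

/-- killing the coordinate at `3a+b` -/
theorem d4_kill_e (a e f : K) (ha : a ≠ 0) (he : φ e = e) :
    ConjS (cert12_D4.G1 gaD4a 3 φ srD4a) (d4E φ 0 a 0 0 e f) (d4E φ 0 a 0 0 0 f) := by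
  have ha1 : φ a ≠ 0 := (map_ne_zero φ).mpr ha
  have ha2 : φ (φ a) ≠ 0 := (map_ne_zero φ).mpr ha1
  refine ⟨d4D φ (e / a), d4D_mem φ W _, ?_⟩
  rw [d4_conjD φ h3 _ _ _ _ _ _ _ (map_zero φ)]
  apply d4E_congr <;> try rfl
  · simp only [map_div₀, he]
    field_simp
    first | rfl | ring1 | (ring_nf; (try simp only [c2_2, c2_3, c2_4, c2_5, c2_6, c2_7, c2_8, c2_9, c2_10, c2_11, c2_12, neg_eq_self_F, mul_zero, mul_one, add_zero, zero_add]); try ring1)
  · simp only [map_zero, zero_mul, add_zero]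

omit W h3 in
/-- a square root of a fixed element is fixed -/
theorem sqrt_fixed (w : K) (h : φ (w ^ 2) = w ^ 2) : φ w = w := by
  have h1 : (φ w + w) ^ 2 = 0 := by
    rw [map_pow] at h
    have : (φ w + w) ^ 2 = φ w ^ 2 + w ^ 2 + 2 * (φ w * w) := by ring
    rw [this, h, c2_2, zero_mul, add_zero]
    first | rfl | ring1 | (ring_nf; (try simp only [c2_2, c2_3, c2_4, c2_5, c2_6, c2_7, c2_8, c2_9, c2_10, c2_11, c2_12, neg_eq_self_F, mul_zero, mul_one, add_zero, zero_add]); try ring1)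
  have h2 := pow_eq_zero_iff (two_ne_zero) |>.mp h1
  have : φ w = -w := eq_neg_of_add_eq_zero_left h2
  rw [this, neg_eq_self_F]

/-- killing the coordinate at `3a+2b` -/
theorem d4_kill_f [Finite K] (a f : K) (ha : a ≠ 0) (hf : φ f = f) :
    ConjS (cert12_D4.G1 gaD4a 3 φ srD4a) (d4E φ 0 a 0 0 0 f) (d4A φ a) := by
  have ha1 : φ a ≠ 0 := (map_ne_zero φ).mpr ha
  have ha2 : φ (φ a) ≠ 0 := (map_ne_zero φ).mpr ha1
  have hN : a * φ a * φ (φ a) ≠ 0 := mul_ne_zero (mul_ne_zero ha ha1) ha2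
  have hNf : φ (a * φ a * φ (φ a)) = a * φ a * φ (φ a) := by
    simp only [map_mul, h3]; ring
  obtain ⟨w, hw⟩ := exists_sqrt_F (f / (a * φ a * φ (φ a)))
  have hwf : φ w = w := by
    apply sqrt_fixed φ
    rw [hw, map_div₀, hf, hNf]
  have hw' : w ^ 2 * (a * φ a * φ (φ a)) = f := by
    rw [hw]; field_simp
  have s1 : ConjS (cert12_D4.G1 gaD4a 3 φ srD4a) (d4E φ 0 a 0 0 0 f)
      (d4E φ 0 a 0 0 (w * (a * φ a * φ (φ a))) 0) := by
    refine ⟨d4C φ (w * φ (φ a)), d4C_mem φ W _, ?_⟩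
    rw [d4_conjC φ h3]
    apply d4E_congr <;> try rfl
    · simp only [map_mul, h3, hwf]
      first | rfl | ring1 | (ring_nf; (try simp only [c2_2, c2_3, c2_4, c2_5, c2_6, c2_7, c2_8, c2_9, c2_10, c2_11, c2_12, neg_eq_self_F, mul_zero, mul_one, add_zero, zero_add]); try ring1)
    · simp only [map_mul, h3, hwf]
      first | rfl | ring1 | (ring_nf; (try simp only [c2_2, c2_3, c2_4, c2_5, c2_6, c2_7, c2_8, c2_9, c2_10, c2_11, c2_12, neg_eq_self_F, mul_zero, mul_one, add_zero, zero_add]); try ring1)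
    · simp only [map_mul, map_zero, h3, hwf]
      rw [← hw']
      first | rfl | ring1 | (ring_nf; (try simp only [c2_2, c2_3, c2_4, c2_5, c2_6, c2_7, c2_8, c2_9, c2_10, c2_11, c2_12, neg_eq_self_F, mul_zero, mul_one, add_zero, zero_add]); try ring1)
  have hwN : φ (w * (a * φ a * φ (φ a))) = w * (a * φ a * φ (φ a)) := by
    rw [map_mul, hwf, hNf]
  exact s1.trans ((d4_kill_e φ W h3 a _ 0 ha hwN).trans (ConjS.of_eq (d4E_A φ a).symm))

/-- killing the coordinate at `2a+b` -/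
theorem d4_kill_d (a d e f : K) (ha : a ≠ 0) (htr : a * d + φ a * φ d + φ (φ a) * φ (φ d) = 0) :
    ∃ e' f' : K, ConjS (cert12_D4.G1 gaD4a 3 φ srD4a) (d4E φ 0 a 0 d e f) (d4E φ 0 a 0 0 e' f') := by
  have ha1 : φ a ≠ 0 := (map_ne_zero φ).mpr ha
  have ha2 : φ (φ a) ≠ 0 := (map_ne_zero φ).mpr ha1
  refine ⟨?_, ?_, d4C φ (φ (φ a) * φ (φ d) / (a * φ a)), d4C_mem φ W _, ?_⟩
  rotate_left 2
  rw [d4_conjC φ h3]
  apply d4E_congr <;> try rfl
  simp only [map_div₀, map_mul, h3]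
  field_simp
  linear_combination htr

/-- the involutions with a non zero coordinate at `a` -/
theorem d4_caseI [Finite K] (a c d e f : K) (ha : a ≠ 0)
    (hmem : d4E φ 0 a c d e f ∈ cert12_D4.G1 gaD4a 3 φ srD4a)
    (hsq : d4E φ 0 a c d e f * d4E φ 0 a c d e f = 1) :
    ConjS (cert12_D4.G1 gaD4a 3 φ srD4a) (d4E φ 0 a c d e f) (d4A φ 1) := by
  have ha1 : φ a ≠ 0 := (map_ne_zero φ).mpr ha
  have ha2 : φ (φ a) ≠ 0 := (map_ne_zero φ).mpr ha1
  obtain ⟨_, hc1, _, _⟩ := d4_inv_cond φ W h3 0 a c d e f (map_zero φ) hsq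
  have hv2 : φ (φ (c / φ (φ a))) = c / φ (φ a) := by
    simp only [map_div₀, h3]
    field_simp
    linear_combination hc1 - φ a * c * c2_2 (K := K)
  have hvf : φ (c / φ (φ a)) = c / φ (φ a) := by
    have := congrArg φ hv2
    rw [h3] at this
    exact this.symm
  obtain ⟨d1, e1, f1, s1⟩ : ∃ d1 e1 f1 : K, ConjS (cert12_D4.G1 gaD4a 3 φ srD4a) (d4E φ 0 a c d e f)
      (d4E φ 0 a 0 d1 e1 f1) := by
    refine ⟨?_, ?_, ?_, xd 14 (c / φ (φ a)), d4B_mem φ W _ hvf, ?_⟩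
    rotate_left 3
    rw [d4_conjB φ h3 _ _ _ _ _ _ _ hvf]
    apply d4E_congr <;> try rfl
    field_simp
    first | rfl | ring1 | (ring_nf; (try simp only [c2_2, c2_3, c2_4, c2_5, c2_6, c2_7, c2_8, c2_9, c2_10, c2_11, c2_12, neg_eq_self_F, mul_zero, mul_one, add_zero, zero_add]); try ring1)
  have hmem1 := s1.mem hmem
  have hsq1 := s1.sq hsq
  obtain ⟨_, _, htr, _⟩ := d4_inv_cond φ W h3 0 a 0 d1 e1 f1 (map_zero φ) hsq1
  simp only [map_zero, mul_zero, zero_mul, zero_add, add_zero] at htr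
  obtain ⟨e2, f2, s2⟩ := d4_kill_d φ W h3 a d1 e1 f1 ha htr
  have hmem2 := s2.mem hmem1
  obtain ⟨_, he2, hf2⟩ := d4E_fixed_of_mem φ W _ _ _ _ _ _ hmem2
  exact s1.trans (s2.trans ((d4_kill_e φ W h3 a e2 f2 ha he2).trans ((d4_kill_f φ W h3 a f2 ha hf2).trans
    (d4_torusA φ W a ha))))

end D4

end Cfsg.Agent.Lib.H29.Chev
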