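import Mathlib
import Cfsg.Prelude.Def_ChevStructure
import Cfsg.Prelude.Def_LieTwisted
import Cfsg.Agent.Lib.H29.D4Inv7

/-!
# The twisted group of type `D₄` in characteristic two: the involutions of `U¹`, part 2
-/

set_option autoImplicit false
set_option linter.unusedSectionVars false
set_option linter.unusedSimpArgs false
set_option linter.unusedVariables false
set_option linter.unusedTactic false
set_option linter.unreachableTactic false

namespace Cfsg.Agent.Lib.H29.Chev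

open Cfsg.Lie Matrix

section D4

variable {K : Type*} [Field K] [CharP K 2] (φ : K →+* K)

local notation "xd" => cert12_D4.c6.c2.xA

variable {q : ℕ} (W : TwPack cert12_D4 gaD4a 3 φ rlD4a srD4a fqD4a q)
include W

variable (h3 : ∀ x : K, φ (φ (φ x)) = x)
include h3

theorem d4_AF [Finite K] (a f : K) (ha : a ≠ 0) (hf : φ f = f) :
    ConjS (cert12_D4.G1 gaD4a 3 φ srD4a) (d4A φ a * xd 23 f) (d4A φ 1) := by
  have e : d4A φ a * xd 23 f = d4E φ 0 a 0 0 0 f := by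
    rw [d4E_A φ a, d4E_mul_F, zero_add]
  rw [e]
  exact (d4_kill_f φ W h3 a f ha hf).trans (d4_torusA φ W a ha)

theorem d4_CE [Finite K] (c e : K) (hc : c ≠ 0) (he : φ e = e) :
    ConjS (cert12_D4.G1 gaD4a 3 φ srD4a) (d4C φ c * xd 22 e) (d4A φ 1) := by
  obtain ⟨k1, k2, hk1, hk2, hk2f, hw⟩ := d4_weyl1 φ W h3
  exact (hw c e).trans (d4_AF φ W h3 _ _ ((map_ne_zero φ).mpr (mul_ne_zero hk1 hc)) (by rw [map_mul, hk2f, he]))

theorem d4_BD [Finite K] (u d : K) (hd : d ≠ 0) (hu : φ u = u) :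
    ConjS (cert12_D4.G1 gaD4a 3 φ srD4a) (xd 14 u * d4D φ d) (d4A φ 1) := by
  obtain ⟨k1, k2, hk1, hk2, hk2f, hw⟩ := d4_weyl0 φ W h3
  have e : xd 22 (k2 * u) * d4C φ (φ (φ (k1 * d))) = d4C φ (φ (φ (k1 * d))) * xd 22 (k2 * u) := by
    have l : xd 22 (k2 * u) * d4C φ (φ (φ (k1 * d))) = d4E φ 0 0 (φ (φ (k1 * d))) 0 (k2 * u) 0 := by
      rw [d4E_E φ, d4E_mul_C φ h3]
      apply d4E_congr <;> (try simp only [map_zero, mul_zero, zero_mul, add_zero, zero_add])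
    have r : d4C φ (φ (φ (k1 * d))) * xd 22 (k2 * u) = d4E φ 0 0 (φ (φ (k1 * d))) 0 (k2 * u) 0 := by
      rw [d4E_C φ, d4E_mul_E]
      apply d4E_congr <;> (try simp only [map_zero, mul_zero, zero_mul, add_zero, zero_add])
    rw [l, r]
  have hne : φ (φ (k1 * d)) ≠ 0 := (map_ne_zero φ).mpr ((map_ne_zero φ).mpr (mul_ne_zero hk1 hd))
  exact ((hw u d).trans (ConjS.of_eq e)).trans (d4_CE φ W h3 _ _ hne (by rw [map_mul, hk2f, hu]))

theorem d4_longE (e : K) (he0 : e ≠ 0) (he : φ e = e) :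
    ConjS (cert12_D4.G1 gaD4a 3 φ srD4a) (xd 22 e) (xd 23 1) := by
  obtain ⟨k1, k2, hk1, hk2, hk2f, hw⟩ := d4_weyl1 φ W h3
  have h := hw 0 e
  have e1 : d4C φ (0 : K) = 1 := by rw [d4E_C, d4E_zero]
  have e2 : d4A φ (φ (k1 * 0)) = 1 := by rw [mul_zero, map_zero, d4E_A, d4E_zero]
  rw [e1, e2, one_mul, one_mul] at h
  exact h.trans (d4_torusF φ W _ (mul_ne_zero hk2 he0) (by rw [map_mul, hk2f, he]))

theorem d4_longB (u : K) (hu0 : u ≠ 0) (hu : φ u = u) :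
    ConjS (cert12_D4.G1 gaD4a 3 φ srD4a) (xd 14 u) (xd 23 1) := by
  obtain ⟨k1, k2, hk1, hk2, hk2f, hw⟩ := d4_weyl0 φ W h3
  have h := hw u 0
  have e1 : d4D φ (0 : K) = 1 := by rw [d4E_D, d4E_zero]
  have e2 : d4C φ (φ (φ (k1 * 0))) = 1 := by rw [mul_zero, map_zero, map_zero, d4E_C, d4E_zero]
  rw [e1, e2, mul_one, mul_one] at h
  exact h.trans (d4_longE φ W h3 _ (mul_ne_zero hk2 hu0) (by rw [map_mul, hk2f, hu]))

omit W in
theorem d4E_CE (c e : K) : d4E φ 0 0 c 0 e 0 = d4C φ c * xd 22 e := by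
  rw [d4E_C φ, d4E_mul_E, zero_add]

omit W h3 in
theorem d4E_BD (u d : K) : d4E φ u 0 0 d 0 0 = xd 14 u * d4D φ d := by
  rw [d4E_B φ, d4E_mul_D, zero_add]

/-- the involutions with a non zero coordinate at `b` -/
theorem d4_caseII [Finite K] (u c d e f : K) (hu0 : u ≠ 0)
    (hmem : d4E φ u 0 c d e f ∈ cert12_D4.G1 gaD4a 3 φ srD4a)
    (hsq : d4E φ u 0 c d e f * d4E φ u 0 c d e f = 1) :
    ConjS (cert12_D4.G1 gaD4a 3 φ srD4a) (d4E φ u 0 c d e f) (d4A φ 1) ∨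
    ConjS (cert12_D4.G1 gaD4a 3 φ srD4a) (d4E φ u 0 c d e f) (xd 23 1) := by
  obtain ⟨hu, he, hf⟩ := d4E_fixed_of_mem φ W _ _ _ _ _ _ hmem
  obtain ⟨d1, e1, f1, s1⟩ : ∃ d1 e1 f1 : K, ConjS (cert12_D4.G1 gaD4a 3 φ srD4a) (d4E φ u 0 c d e f)
      (d4E φ u 0 0 d1 e1 f1) := by
    refine ⟨?_, ?_, ?_, d4A φ (φ (c / u)), d4A_mem φ W _, ?_⟩
    rotate_left 3
    rw [d4_conjA φ h3 _ _ _ _ _ _ hu]
    apply d4E_congr <;> try rfl
    rw [h3]
    field_simp
    first | rfl | ring1 | (ring_nf; (try simp only [c2_2, c2_3, c2_4, c2_5, c2_6, c2_7, c2_8, c2_9, c2_10, c2_11, c2_12, neg_eq_self_F, mul_zero, mul_one, add_zero, zero_add]); try ring1)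
  have hmem1 := s1.mem hmem
  have hsq1 := s1.sq hsq
  obtain ⟨_, _, hf1⟩ := d4E_fixed_of_mem φ W _ _ _ _ _ _ hmem1
  obtain ⟨_, _, _, h5⟩ := d4_inv_cond φ W h3 u 0 0 d1 e1 f1 hu hsq1
  simp only [map_zero, mul_zero, zero_mul, zero_add, add_zero] at h5
  have he1 : e1 = 0 := (mul_eq_zero.mp h5).resolve_left hu0
  subst he1
  have s2 : ConjS (cert12_D4.G1 gaD4a 3 φ srD4a) (d4E φ u 0 0 d1 0 f1) (d4E φ u 0 0 d1 0 0) := by
    refine ⟨xd 22 (f1 / u), d4E_mem φ W _ (by rw [map_div₀, hf1, hu]), ?_⟩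
    rw [d4_conjE φ h3 _ _ _ _ _ _ _ hu]
    apply d4E_congr <;> try rfl
    field_simp
    first | rfl | ring1 | (ring_nf; (try simp only [c2_2, c2_3, c2_4, c2_5, c2_6, c2_7, c2_8, c2_9, c2_10, c2_11, c2_12, neg_eq_self_F, mul_zero, mul_one, add_zero, zero_add]); try ring1)
  rw [d4E_BD] at s2
  by_cases hd1 : d1 = 0
  · subst hd1
    have e1 : d4D φ (0 : K) = 1 := by rw [d4E_D, d4E_zero]
    rw [e1, mul_one] at s2
    exact Or.inr (s1.trans (s2.trans (d4_longB φ W h3 u hu0 hu)))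
  · exact Or.inl (s1.trans (s2.trans (d4_BD φ W h3 u d1 hd1 hu)))

/-- the involutions with zero coordinates at `a`, `b` and `a + b` -/
theorem d4_caseIIIa [Finite K] (d e f : K)
    (hmem : d4E φ 0 0 0 d e f ∈ cert12_D4.G1 gaD4a 3 φ srD4a) (hne : d4E φ 0 0 0 d e f ≠ 1) :
    ConjS (cert12_D4.G1 gaD4a 3 φ srD4a) (d4E φ 0 0 0 d e f) (d4A φ 1) ∨
    ConjS (cert12_D4.G1 gaD4a 3 φ srD4a) (d4E φ 0 0 0 d e f) (xd 23 1) := by
  obtain ⟨_, he, hf⟩ := d4E_fixed_of_mem φ W _ _ _ _ _ _ hmem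
  by_cases hd : d = 0
  · subst hd
    by_cases he0 : e = 0
    · subst he0
      have hf0 : f ≠ 0 := by
        rintro rfl
        exact hne (d4E_zero φ)
      rw [← d4E_F]
      exact Or.inr (d4_torusF φ W f hf0 hf)
    · have s1 : ConjS (cert12_D4.G1 gaD4a 3 φ srD4a) (d4E φ 0 0 0 0 e f) (d4E φ 0 0 0 0 e 0) := by
        refine ⟨xd 14 (f / e), d4B_mem φ W _ (by rw [map_div₀, hf, he]), ?_⟩
        rw [d4_conjB φ h3 _ _ _ _ _ _ _ (by rw [map_div₀, hf, he])]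
        apply d4E_congr <;> (try simp only [map_zero, mul_zero, zero_mul, add_zero, zero_add])
        field_simp
        first | rfl | ring1 | (ring_nf; (try simp only [c2_2, c2_3, c2_4, c2_5, c2_6, c2_7, c2_8, c2_9, c2_10, c2_11, c2_12, neg_eq_self_F, mul_zero, mul_one, add_zero, zero_add]); try ring1)
      rw [← d4E_E] at s1
      exact Or.inr (s1.trans (d4_longE φ W h3 e he0 he))
  · have hd1 : φ d ≠ 0 := (map_ne_zero φ).mpr hd
    have hd2 : φ (φ d) ≠ 0 := (map_ne_zero φ).mpr hd1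
    have s1 : ConjS (cert12_D4.G1 gaD4a 3 φ srD4a) (d4E φ 0 0 0 d e f) (d4E φ 0 0 0 d 0 f) := by
      refine ⟨d4A φ (e / d), d4A_mem φ W _, ?_⟩
      rw [d4_conjA φ h3 _ _ _ _ _ _ (map_zero φ)]
      apply d4E_congr <;> (try simp only [map_zero, mul_zero, zero_mul, add_zero, zero_add])
      simp only [map_div₀, he]
      field_simp
      first | rfl | ring1 | (ring_nf; (try simp only [c2_2, c2_3, c2_4, c2_5, c2_6, c2_7, c2_8, c2_9, c2_10, c2_11, c2_12, neg_eq_self_F, mul_zero, mul_one, add_zero, zero_add]); try ring1)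
    have s2 : ConjS (cert12_D4.G1 gaD4a 3 φ srD4a) (d4E φ 0 0 0 d 0 f) (d4E φ 0 0 0 d 0 0) := by
      refine ⟨d4C φ (f / φ (φ d)), d4C_mem φ W _, ?_⟩
      rw [d4_conjC φ h3]
      apply d4E_congr <;> (try simp only [map_zero, mul_zero, zero_mul, add_zero, zero_add])
      simp only [map_div₀, hf, h3]
      field_simp
      first | rfl | ring1 | (ring_nf; (try simp only [c2_2, c2_3, c2_4, c2_5, c2_6, c2_7, c2_8, c2_9, c2_10, c2_11, c2_12, neg_eq_self_F, mul_zero, mul_one, add_zero, zero_add]); try ring1)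
    rw [d4E_BD] at s2
    exact Or.inl (s1.trans (s2.trans (d4_BD φ W h3 0 d hd (map_zero φ))))

/-- the involutions with zero coordinates at `a` and `b` and a non zero coordinate at `a + b` -/
theorem d4_caseIIIb [Finite K] (c d e f : K) (hc : c ≠ 0)
    (hmem : d4E φ 0 0 c d e f ∈ cert12_D4.G1 gaD4a 3 φ srD4a)
    (hsq : d4E φ 0 0 c d e f * d4E φ 0 0 c d e f = 1) :
    ConjS (cert12_D4.G1 gaD4a 3 φ srD4a) (d4E φ 0 0 c d e f) (d4A φ 1) := by
  have hc1 : φ c ≠ 0 := (map_ne_zero φ).mpr hc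
  have hc2 : φ (φ c) ≠ 0 := (map_ne_zero φ).mpr hc1
  obtain ⟨_, _, _, htr⟩ := d4_inv_cond φ W h3 0 0 c d e f (map_zero φ) hsq
  simp only [map_zero, mul_zero, zero_mul, zero_add, add_zero] at htr
  obtain ⟨e1, f1, s1⟩ : ∃ e1 f1 : K, ConjS (cert12_D4.G1 gaD4a 3 φ srD4a) (d4E φ 0 0 c d e f)
      (d4E φ 0 0 c 0 e1 f1) := by
    refine ⟨?_, ?_, d4A φ (φ c * d / (φ (φ c) * c)), d4A_mem φ W _, ?_⟩
    rotate_left 2
    rw [d4_conjA φ h3 _ _ _ _ _ _ (map_zero φ)]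
    apply d4E_congr <;> try rfl
    · simp only [zero_mul, add_zero]
    · simp only [map_div₀, map_mul, h3, zero_mul, add_zero]
      field_simp
      linear_combination htr
  have hmem1 := s1.mem hmem
  obtain ⟨_, he1, hf1⟩ := d4E_fixed_of_mem φ W _ _ _ _ _ _ hmem1
  by_cases he0 : e1 = 0
  · subst he0
    by_cases hf0 : f1 = 0
    · subst hf0
      rw [d4E_CE φ h3] at s1
      exact s1.trans (d4_CE φ W h3 c 0 hc (map_zero φ))
    · have hN : c * φ c * φ (φ c) ≠ 0 := mul_ne_zero (mul_ne_zero hc hc1) hc2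
      have hNf : φ (c * φ c * φ (φ c)) = c * φ c * φ (φ c) := by
        simp only [map_mul, h3]; ring
      have hvf : φ (f1 / (c * φ c * φ (φ c))) = f1 / (c * φ c * φ (φ c)) := by
        rw [map_div₀, hf1, hNf]
      obtain ⟨e2, s2⟩ : ∃ e2 : K, ConjS (cert12_D4.G1 gaD4a 3 φ srD4a) (d4E φ 0 0 c 0 0 f1)
          (d4E φ 0 0 c 0 e2 0) := by
        refine ⟨?_, d4A φ (f1 / (c * φ c * φ (φ c)) * φ c), d4A_mem φ W _, ?_⟩
        rotate_left 1
        rw [d4_conjA φ h3 _ _ _ _ _ _ (map_zero φ)]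
        apply d4E_congr <;> try rfl
        · simp only [zero_mul, add_zero]
        · simp only [map_mul, hvf, h3, zero_mul, add_zero]
          first | rfl | ring1 | (ring_nf; (try simp only [c2_2, c2_3, c2_4, c2_5, c2_6, c2_7, c2_8, c2_9, c2_10, c2_11, c2_12, neg_eq_self_F, mul_zero, mul_one, add_zero, zero_add]); try ring1)
        · simp only [map_mul, hvf, h3, zero_mul, add_zero]
          field_simp
          first | rfl | ring1 | (ring_nf; (try simp only [c2_2, c2_3, c2_4, c2_5, c2_6, c2_7, c2_8, c2_9, c2_10, c2_11, c2_12, neg_eq_self_F, mul_zero, mul_one, add_zero, zero_add]); try ring1)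
      have hmem2 := s2.mem hmem1
      obtain ⟨_, he2, _⟩ := d4E_fixed_of_mem φ W _ _ _ _ _ _ hmem2
      rw [d4E_CE φ h3] at s2
      exact s1.trans (s2.trans (d4_CE φ W h3 c e2 hc he2))
  · have s2 : ConjS (cert12_D4.G1 gaD4a 3 φ srD4a) (d4E φ 0 0 c 0 e1 f1) (d4E φ 0 0 c 0 e1 0) := by
      refine ⟨xd 14 (f1 / e1), d4B_mem φ W _ (by rw [map_div₀, hf1, he1]), ?_⟩
      rw [d4_conjB φ h3 _ _ _ _ _ _ _ (by rw [map_div₀, hf1, he1])]
      apply d4E_congr <;> (try simp only [map_zero, mul_zero, zero_mul, add_zero, zero_add])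
      field_simp
      first | rfl | ring1 | (ring_nf; (try simp only [c2_2, c2_3, c2_4, c2_5, c2_6, c2_7, c2_8, c2_9, c2_10, c2_11, c2_12, neg_eq_self_F, mul_zero, mul_one, add_zero, zero_add]); try ring1)
    rw [d4E_CE φ h3] at s2
    exact s1.trans (s2.trans (d4_CE φ W h3 c e1 hc he1))

/-- every involution of `U¹` is conjugate to a short or to a long root element -/
theorem d4_inv_conj [Finite K] (u a c d e f : K)
    (hmem : d4E φ u a c d e f ∈ cert12_D4.G1 gaD4a 3 φ srD4a)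
    (hsq : d4E φ u a c d e f * d4E φ u a c d e f = 1) (hne : d4E φ u a c d e f ≠ 1) :
    ConjS (cert12_D4.G1 gaD4a 3 φ srD4a) (d4E φ u a c d e f) (d4A φ 1) ∨
    ConjS (cert12_D4.G1 gaD4a 3 φ srD4a) (d4E φ u a c d e f) (xd 23 1) := by
  obtain ⟨hu, he, hf⟩ := d4E_fixed_of_mem φ W _ _ _ _ _ _ hmem
  obtain ⟨h1, _, _, _⟩ := d4_inv_cond φ W h3 u a c d e f hu hsq
  by_cases ha : a = 0
  · subst ha
    by_cases hu0 : u = 0
    · subst hu0
      by_cases hc : c = 0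
      · subst hc
        exact d4_caseIIIa φ W h3 d e f hmem hne
      · exact Or.inl (d4_caseIIIb φ W h3 c d e f hc hmem hsq)
    · exact d4_caseII φ W h3 u c d e f hu0 hmem hsq
  · have hu0 : u = 0 :=
      (mul_eq_zero.mp h1).resolve_right ((map_ne_zero φ).mpr ((map_ne_zero φ).mpr ha))
    subst hu0
    exact Or.inl (d4_caseI φ W h3 a c d e f ha hmem hsq)

end D4

end Cfsg.Agent.Lib.H29.Chev
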