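import Mathlib
import Cfsg.Prelude.Def_ChevStructure
import Cfsg.Prelude.Def_LieTwisted
import Cfsg.Agent.Lib.H29.D4Inv8

/-!
# The twisted group of type `D₄` in characteristic two: every involution is conjugate to a root element
-/

set_option autoImplicit false
set_option linter.unusedSectionVars false
set_option linter.unusedSimpArgs false
set_option linter.unusedVariables false

namespace Cfsg.Agent.Lib.H29.Chev

open Cfsg.Lie Matrix

/-- an element of `p`-power order is conjugate to an element of a given Sylow subgroup -/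
theorem exists_conj_mem_of_sylow {G : Type*} [Group G] [Finite G] (p : ℕ) [hp : Fact p.Prime] (U : Subgroup G)
    (hU : IsPGroup p U) (hUi : ¬ p ∣ U.index) (g : G) (k : ℕ) (hg : g ^ p ^ k = 1) :
    ∃ x : G, x * g * x⁻¹ ∈ U := by
  classical
  let P : Sylow p G := hU.toSylow hUi
  have hZ : IsPGroup p (Subgroup.zpowers g) := by
    obtain ⟨j, _, hj⟩ := (Nat.dvd_prime_pow hp.out).mp (orderOf_dvd_of_pow_eq_one hg)
    apply IsPGroup.of_card (n := j)
    rw [Nat.card_zpowers, hj]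
  obtain ⟨Q, hQ⟩ := hZ.exists_le_sylow
  obtain ⟨x, hx⟩ := MulAction.exists_smul_eq G Q P
  have hgQ : g ∈ (Q : Subgroup G) := hQ (Subgroup.mem_zpowers _)
  have hgP : x * g * x⁻¹ ∈ (P : Subgroup G) := by
    rw [← hx, Sylow.coe_subgroup_smul]
    exact Subgroup.smul_mem_pointwise_smul _ (MulAut.conj x) _ hgQ
  exact ⟨x, hgP⟩

section D4

local notation "xd" => cert12_D4.c6.c2.xA

/-- every involution of the twisted group is conjugate to a short or to a long root element -/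
theorem d4_involution_conj {K : Type*} [Field K] [Fintype K] [CharP K 2] {q : ℕ} (hq : IsPrimePow q)
    (hK : Fintype.card K = q ^ 3) (φ : K →+* K) (hφ : ∀ x, φ x = x ^ q) (hφk : ∀ x : K, φ^[3] x = x)
    (g : GL chevD4.Idx K) (hg : g ∈ twistedD4 K q) (hg2 : g * g = 1) (hg1 : g ≠ 1) :
    ConjS (twistedD4 K q) g (d4A φ 1) ∨ ConjS (twistedD4 K q) g (xd 23 1) := by
  have hp : Fact (Nat.Prime 2) := ⟨Nat.prime_two⟩
  have hq1 : 1 ≤ q := hq.one_lt.le
  have hq2 : 2 ≤ q := hq.one_lt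
  have hKc : Nat.card K = q ^ 3 := by rw [Nat.card_eq_fintype_card, hK]
  have h3 : ∀ x : K, φ (φ (φ x)) = x := fun x => hφk x
  have e : twistedD4 K q = Subgroup.closure (cert12_D4.twGen gaD4a 3 φ srD4a) := by
    unfold twistedD4 ChevalleyDatum.genSubgroup
    rw [twGen_D4 q φ hφ]
  have hcard := card_twistedD4 hq hK
  rw [e] at hcard hg ⊢
  have W := twPack_D4 q hq1 hKc φ hφ hφk
  -- `2` divides `q`
  have hpdvd : 2 ∣ q := by
    obtain ⟨n, _, hn⟩ := FiniteField.card K 2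
    have h1 : 2 ∣ q ^ 3 := by
      rw [← hK, hn]
      exact dvd_pow_self 2 n.ne_zero
    exact Nat.Prime.dvd_of_dvd_pow Nat.prime_two h1
  obtain ⟨m, hm⟩ : ∃ m, q = 2 ^ m := by
    obtain ⟨p, f, hp', hf, rfl⟩ := hq
    have hpp : p.Prime := Nat.prime_iff.mpr hp'
    have : 2 ∣ p := Nat.Prime.dvd_of_dvd_pow Nat.prime_two hpdvd
    have : p = 2 := ((Nat.prime_dvd_prime_iff_eq Nat.prime_two hpp).mp this).symm
    exact ⟨f, by rw [this]⟩
  have hcU : Nat.card (cert12_D4.tU gaD4a 3 φ srD4a) = q ^ 12 := by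
    rw [cert12_D4.card_subgroupOf_G1 W]
    exact hcard.2
  have hUp : IsPGroup 2 (cert12_D4.tU gaD4a 3 φ srD4a) := by
    apply IsPGroup.of_card (n := m * 12)
    rw [hcU, hm, ← pow_mul]
  have hidx : ¬ 2 ∣ (cert12_D4.tU gaD4a 3 φ srD4a).index := by
    have h1 := (cert12_D4.tU gaD4a 3 φ srD4a).index_mul_card
    rw [hcU, hcard.1] at h1
    have hpos : 0 < q ^ 12 := by positivity
    have h2 : (cert12_D4.tU gaD4a 3 φ srD4a).index = (q ^ 2 - 1) * (q ^ 6 - 1) * (q ^ 8 + q ^ 4 + 1) := by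
      apply Nat.eq_of_mul_eq_mul_right hpos
      rw [h1]
      ring
    rw [h2]
    intro hd
    rcases (Nat.Prime.dvd_mul Nat.prime_two).mp hd with hd | hd
    · rcases (Nat.Prime.dvd_mul Nat.prime_two).mp hd with hd | hd
      · exact not_dvd_pow_sub_one (le_refl 2) hpdvd hq1 2 (by norm_num) hd
      · exact not_dvd_pow_sub_one (le_refl 2) hpdvd hq1 6 (by norm_num) hd
    · refine not_dvd_of_pm_one (le_refl 2) hpdvd _ (q ^ 7 + q ^ 3) (Or.inl ?_) hd
      ring
  have hfin : Finite ↥(cert12_D4.G1 gaD4a 3 φ srD4a) := inferInstance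
  obtain ⟨x, hx⟩ := exists_conj_mem_of_sylow 2 (cert12_D4.tU gaD4a 3 φ srD4a) hUp hidx ⟨g, hg⟩ 1 (by
    apply Subtype.ext
    rw [pow_one, sq]
    exact hg2)
  rw [Subgroup.mem_subgroupOf] at hx
  have hxU : x.1 * g * x.1⁻¹ ∈ chevD4.posUnipotent K := hx
  have hxG : x.1 * g * x.1⁻¹ ∈ cert12_D4.G1 gaD4a 3 φ srD4a := mul_mem (mul_mem x.2 hg) (inv_mem x.2)
  obtain ⟨u, a, c, d, e', f, _, _, _, heq⟩ := d4_normal φ W _
    (Subgroup.mem_inf.mpr ⟨cert12_D4.G1_le_fix W hxG, hxU⟩)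
  have s0 : ConjS (cert12_D4.G1 gaD4a 3 φ srD4a) g (d4E φ u a c d e' f) := ⟨x.1, x.2, heq⟩
  have hmem := s0.mem hg
  have hsq := s0.sq hg2
  have hne : d4E φ u a c d e' f ≠ 1 := by
    rw [← heq]
    intro h
    apply hg1
    have : g = x.1⁻¹ * (x.1 * g * x.1⁻¹) * x.1 := by group
    rw [this, h]
    group
  rcases d4_inv_conj φ W h3 u a c d e' f hmem hsq hne with h | h
  · exact Or.inl (s0.trans h)
  · exact Or.inr (s0.trans h)

end D4

end Cfsg.Agent.Lib.H29.Chev
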