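import Mathlib
import Cfsg.Prelude.Def_ChevStructure
import Cfsg.Prelude.Def_LieTwisted
import Cfsg.Agent.Lib.H29.ChevF4y

/-!
# The group `U` of type `F₄` in characteristic two: the rules for sorting products of root elements

The positive roots are sorted in the order
`33, 24, 34, 26, 36, 42, 38, 43, 29, 41, 44, 47, 39, 45, 35, 31, 40, 46, 37, 32, 27, 25, 28, 30`
(the classes of the twisted root system, in the order of the chain). (Generated file.)
-/

set_option autoImplicit false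
set_option linter.unusedSectionVars false
set_option linter.unusedSimpArgs false
set_option linter.unusedVariables false
set_option maxRecDepth 100000

namespace Cfsg.Agent.Lib.H29.Chev

open Cfsg.Lie Matrix

section F4

variable {K : Type*} [Field K] [CharP K 2]

theorem fX_sw1 (r s q : ℕ) (e : ℤ) (hr : r < 48) (hs : s < 48) (h1 : s ≠ r) (h2 : s ≠ 47 - r)
    (he : e = 1 ∨ e = -1) (hT : fdF4.commT r s = [(q, e, 1, 1)]) (t u : K) :
    fX s u * fX r t = fX r t * (fX s u * fX q (t * u)) := by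
  have := cert12_F4.c6.cfg (F := K) r s hr hs h1 h2 t u
  rw [hT] at this
  rw [this]
  unfold Cert2.ctG
  simp only [List.map_cons, List.map_nil, List.prod_cons, List.prod_nil, mul_one, pm_one_cast e he, one_mul, pow_one, CharTwo.neg_eq,
    mul_assoc]

theorem fX_sw21 (a b c d : ℕ) (e1 e2 : ℤ) (ha : a < 48) (hb : b < 48) (h1 : b ≠ a) (h2 : b ≠ 47 - a)
    (he1 : e1 = 1 ∨ e1 = -1) (he2 : e2 = 1 ∨ e2 = -1) (hT : fdF4.commT a b = [(c, e1, 1, 1), (d, e2, 2, 1)])
    (t u : K) : fX b u * fX a t = fX a t * (fX b u * (fX c (t * u) * fX d (t ^ 2 * u))) := by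
  rw [fX_b2 a b c d e1 e2 ha hb h1 h2 he1 he2 hT, mul_assoc]

theorem fX_sw12 (a b c d : ℕ) (e1 e2 : ℤ) (ha : a < 48) (hb : b < 48) (h1 : b ≠ a) (h2 : b ≠ 47 - a)
    (he1 : e1 = 1 ∨ e1 = -1) (he2 : e2 = 1 ∨ e2 = -1) (hT : fdF4.commT a b = [(c, e1, 1, 1), (d, e2, 1, 2)])
    (t u : K) : fX b u * fX a t = fX a t * (fX b u * (fX c (t * u) * fX d (t * u ^ 2))) := by
  have := cert12_F4.c6.cfg (F := K) a b ha hb h1 h2 t u
  rw [hT] at this
  rw [this]
  unfold Cert2.ctG
  simp only [List.map_cons, List.map_nil, List.prod_cons, List.prod_nil, mul_one, pm_one_cast e1 he1,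
    pm_one_cast e2 he2, one_mul, pow_one, CharTwo.neg_eq, mul_assoc]

theorem fX_sq (r : ℕ) (t : K) : fX r t * fX r t = 1 := by
  rw [fX_mul, CharTwo.add_self_eq_zero]
  exact cert12_F4.c6.c2.xA_zero r

theorem fX_inv2 (r : ℕ) (t : K) : (fX r t)⁻¹ = fX r t := by
  rw [cert12_F4.c6.c2.xA_inv, CharTwo.neg_eq]

theorem fX_merge (r : ℕ) (t u : K) (Z : GL chevF4.Idx K) : fX r t * (fX r u * Z) = fX r (t + u) * Z := by
  rw [← mul_assoc, fX_mul]

theorem fX_zero (r : ℕ) : fX r (0 : K) = 1 := cert12_F4.c6.c2.xA_zero r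

theorem f4s33_24 (t u : K) : fX 24 u * fX 33 t = fX 33 t * fX 24 u :=
  (fX_comm_nil 33 24 (by decide) (by decide) (by decide) (by decide) (by decide +kernel) t u).eq.symm

theorem f4s33_24' (t u : K) (Z : GL chevF4.Idx K) : fX 24 u * (fX 33 t * Z) = fX 33 t * (fX 24 u * Z) := by
  rw [← mul_assoc, f4s33_24]; simp only [mul_assoc]

theorem f4s33_34 (t u : K) : fX 34 u * fX 33 t = fX 33 t * fX 34 u :=
  (fX_comm_nil 33 34 (by decide) (by decide) (by decide) (by decide) (by decide +kernel) t u).eq.symm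

theorem f4s33_34' (t u : K) (Z : GL chevF4.Idx K) : fX 34 u * (fX 33 t * Z) = fX 33 t * (fX 34 u * Z) := by
  rw [← mul_assoc, f4s33_34]; simp only [mul_assoc]

theorem f4s33_26 (t u : K) : fX 26 u * fX 33 t = fX 33 t * fX 26 u :=
  (fX_comm_nil 33 26 (by decide) (by decide) (by decide) (by decide) (by decide +kernel) t u).eq.symm

theorem f4s33_26' (t u : K) (Z : GL chevF4.Idx K) : fX 26 u * (fX 33 t * Z) = fX 33 t * (fX 26 u * Z) := by
  rw [← mul_assoc, f4s33_26]; simp only [mul_assoc]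

theorem f4s33_36 (t u : K) : fX 36 u * fX 33 t = fX 33 t * fX 36 u :=
  (fX_comm_nil 33 36 (by decide) (by decide) (by decide) (by decide) (by decide +kernel) t u).eq.symm

theorem f4s33_36' (t u : K) (Z : GL chevF4.Idx K) : fX 36 u * (fX 33 t * Z) = fX 33 t * (fX 36 u * Z) := by
  rw [← mul_assoc, f4s33_36]; simp only [mul_assoc]

theorem f4s33_42 (t u : K) : fX 42 u * fX 33 t = fX 33 t * fX 42 u :=
  (fX_comm_nil 33 42 (by decide) (by decide) (by decide) (by decide) (by decide +kernel) t u).eq.symm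

theorem f4s33_42' (t u : K) (Z : GL chevF4.Idx K) : fX 42 u * (fX 33 t * Z) = fX 33 t * (fX 42 u * Z) := by
  rw [← mul_assoc, f4s33_42]; simp only [mul_assoc]

theorem f4s33_38 (t u : K) : fX 38 u * fX 33 t = fX 33 t * fX 38 u :=
  (fX_comm_two 33 38 42 (2) (by decide) (by decide) (by decide) (by decide) (Or.inl rfl) (by decide +kernel) t u).eq.symm

theorem f4s33_38' (t u : K) (Z : GL chevF4.Idx K) : fX 38 u * (fX 33 t * Z) = fX 33 t * (fX 38 u * Z) := by
  rw [← mul_assoc, f4s33_38]; simp only [mul_assoc]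

theorem f4s33_43 (t u : K) : fX 43 u * fX 33 t = fX 33 t * fX 43 u :=
  (fX_comm_nil 33 43 (by decide) (by decide) (by decide) (by decide) (by decide +kernel) t u).eq.symm

theorem f4s33_43' (t u : K) (Z : GL chevF4.Idx K) : fX 43 u * (fX 33 t * Z) = fX 33 t * (fX 43 u * Z) := by
  rw [← mul_assoc, f4s33_43]; simp only [mul_assoc]

theorem f4s33_29 (t u : K) : fX 29 u * fX 33 t = fX 33 t * (fX 29 u * fX 36 (t * u)) :=
  fX_sw1 33 29 36 (-1) (by decide) (by decide) (by decide) (by decide) (Or.inr rfl) (by decide +kernel) t u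

theorem f4s33_29' (t u : K) (Z : GL chevF4.Idx K) : fX 29 u * (fX 33 t * Z) = fX 33 t * (fX 29 u * (fX 36 (t * u) * Z)) := by
  rw [← mul_assoc, f4s33_29]; simp only [mul_assoc]

theorem f4s33_41 (t u : K) : fX 41 u * fX 33 t = fX 33 t * fX 41 u :=
  (fX_comm_nil 33 41 (by decide) (by decide) (by decide) (by decide) (by decide +kernel) t u).eq.symm

theorem f4s33_41' (t u : K) (Z : GL chevF4.Idx K) : fX 41 u * (fX 33 t * Z) = fX 33 t * (fX 41 u * Z) := by
  rw [← mul_assoc, f4s33_41]; simp only [mul_assoc]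

theorem f4s33_44 (t u : K) : fX 44 u * fX 33 t = fX 33 t * fX 44 u :=
  (fX_comm_nil 33 44 (by decide) (by decide) (by decide) (by decide) (by decide +kernel) t u).eq.symm

theorem f4s33_44' (t u : K) (Z : GL chevF4.Idx K) : fX 44 u * (fX 33 t * Z) = fX 33 t * (fX 44 u * Z) := by
  rw [← mul_assoc, f4s33_44]; simp only [mul_assoc]

theorem f4s33_47 (t u : K) : fX 47 u * fX 33 t = fX 33 t * fX 47 u :=
  (fX_comm_nil 33 47 (by decide) (by decide) (by decide) (by decide) (by decide +kernel) t u).eq.symm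

theorem f4s33_47' (t u : K) (Z : GL chevF4.Idx K) : fX 47 u * (fX 33 t * Z) = fX 33 t * (fX 47 u * Z) := by
  rw [← mul_assoc, f4s33_47]; simp only [mul_assoc]

theorem f4s33_39 (t u : K) : fX 39 u * fX 33 t = fX 33 t * fX 39 u :=
  (fX_comm_two 33 39 43 (2) (by decide) (by decide) (by decide) (by decide) (Or.inl rfl) (by decide +kernel) t u).eq.symm

theorem f4s33_39' (t u : K) (Z : GL chevF4.Idx K) : fX 39 u * (fX 33 t * Z) = fX 33 t * (fX 39 u * Z) := by
  rw [← mul_assoc, f4s33_39]; simp only [mul_assoc]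

theorem f4s33_45 (t u : K) : fX 45 u * fX 33 t = fX 33 t * fX 45 u :=
  (fX_comm_nil 33 45 (by decide) (by decide) (by decide) (by decide) (by decide +kernel) t u).eq.symm

theorem f4s33_45' (t u : K) (Z : GL chevF4.Idx K) : fX 45 u * (fX 33 t * Z) = fX 33 t * (fX 45 u * Z) := by
  rw [← mul_assoc, f4s33_45]; simp only [mul_assoc]

theorem f4s33_35 (t u : K) : fX 35 u * fX 33 t = fX 33 t * fX 35 u :=
  (fX_comm_nil 33 35 (by decide) (by decide) (by decide) (by decide) (by decide +kernel) t u).eq.symm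

theorem f4s33_35' (t u : K) (Z : GL chevF4.Idx K) : fX 35 u * (fX 33 t * Z) = fX 33 t * (fX 35 u * Z) := by
  rw [← mul_assoc, f4s33_35]; simp only [mul_assoc]

theorem f4s33_31 (t u : K) : fX 31 u * fX 33 t = fX 33 t * (fX 31 u * (fX 38 (t * u) * fX 42 (t ^ 2 * u))) :=
  fX_sw21 33 31 38 42 (-1) (-1) (by decide) (by decide) (by decide) (by decide) (Or.inr rfl) (Or.inr rfl) (by decide +kernel) t u

theorem f4s33_31' (t u : K) (Z : GL chevF4.Idx K) : fX 31 u * (fX 33 t * Z) = fX 33 t * (fX 31 u * (fX 38 (t * u) * (fX 42 (t ^ 2 * u) * Z))) := by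
  rw [← mul_assoc, f4s33_31]; simp only [mul_assoc]

theorem f4s33_40 (t u : K) : fX 40 u * fX 33 t = fX 33 t * (fX 40 u * fX 44 (t * u)) :=
  fX_sw1 33 40 44 (1) (by decide) (by decide) (by decide) (by decide) (Or.inl rfl) (by decide +kernel) t u

theorem f4s33_40' (t u : K) (Z : GL chevF4.Idx K) : fX 40 u * (fX 33 t * Z) = fX 33 t * (fX 40 u * (fX 44 (t * u) * Z)) := by
  rw [← mul_assoc, f4s33_40]; simp only [mul_assoc]

theorem f4s33_46 (t u : K) : fX 46 u * fX 33 t = fX 33 t * fX 46 u :=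
  (fX_comm_nil 33 46 (by decide) (by decide) (by decide) (by decide) (by decide +kernel) t u).eq.symm

theorem f4s33_46' (t u : K) (Z : GL chevF4.Idx K) : fX 46 u * (fX 33 t * Z) = fX 33 t * (fX 46 u * Z) := by
  rw [← mul_assoc, f4s33_46]; simp only [mul_assoc]

theorem f4s33_37 (t u : K) : fX 37 u * fX 33 t = fX 33 t * fX 37 u :=
  (fX_comm_two 33 37 41 (2) (by decide) (by decide) (by decide) (by decide) (Or.inl rfl) (by decide +kernel) t u).eq.symm

theorem f4s33_37' (t u : K) (Z : GL chevF4.Idx K) : fX 37 u * (fX 33 t * Z) = fX 33 t * (fX 37 u * Z) := by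
  rw [← mul_assoc, f4s33_37]; simp only [mul_assoc]

theorem f4s33_32 (t u : K) : fX 32 u * fX 33 t = fX 33 t * (fX 32 u * (fX 39 (t * u) * fX 43 (t ^ 2 * u))) :=
  fX_sw21 33 32 39 43 (-1) (-1) (by decide) (by decide) (by decide) (by decide) (Or.inr rfl) (Or.inr rfl) (by decide +kernel) t u

theorem f4s33_32' (t u : K) (Z : GL chevF4.Idx K) : fX 32 u * (fX 33 t * Z) = fX 33 t * (fX 32 u * (fX 39 (t * u) * (fX 43 (t ^ 2 * u) * Z))) := by
  rw [← mul_assoc, f4s33_32]; simp only [mul_assoc]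

theorem f4s33_27 (t u : K) : fX 27 u * fX 33 t = fX 33 t * (fX 27 u * fX 34 (t * u)) :=
  fX_sw1 33 27 34 (-1) (by decide) (by decide) (by decide) (by decide) (Or.inr rfl) (by decide +kernel) t u

theorem f4s33_27' (t u : K) (Z : GL chevF4.Idx K) : fX 27 u * (fX 33 t * Z) = fX 33 t * (fX 27 u * (fX 34 (t * u) * Z)) := by
  rw [← mul_assoc, f4s33_27]; simp only [mul_assoc]

theorem f4s33_25 (t u : K) : fX 25 u * fX 33 t = fX 33 t * fX 25 u :=
  (fX_comm_nil 33 25 (by decide) (by decide) (by decide) (by decide) (by decide +kernel) t u).eq.symm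

theorem f4s33_25' (t u : K) (Z : GL chevF4.Idx K) : fX 25 u * (fX 33 t * Z) = fX 33 t * (fX 25 u * Z) := by
  rw [← mul_assoc, f4s33_25]; simp only [mul_assoc]

theorem f4s33_28 (t u : K) : fX 28 u * fX 33 t = fX 33 t * (fX 28 u * fX 35 (t * u)) :=
  fX_sw1 33 28 35 (-1) (by decide) (by decide) (by decide) (by decide) (Or.inr rfl) (by decide +kernel) t u

theorem f4s33_28' (t u : K) (Z : GL chevF4.Idx K) : fX 28 u * (fX 33 t * Z) = fX 33 t * (fX 28 u * (fX 35 (t * u) * Z)) := by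
  rw [← mul_assoc, f4s33_28]; simp only [mul_assoc]

theorem f4s33_30 (t u : K) : fX 30 u * fX 33 t = fX 33 t * (fX 30 u * (fX 37 (t * u) * fX 41 (t ^ 2 * u))) :=
  fX_sw21 33 30 37 41 (-1) (-1) (by decide) (by decide) (by decide) (by decide) (Or.inr rfl) (Or.inr rfl) (by decide +kernel) t u

theorem f4s33_30' (t u : K) (Z : GL chevF4.Idx K) : fX 30 u * (fX 33 t * Z) = fX 33 t * (fX 30 u * (fX 37 (t * u) * (fX 41 (t ^ 2 * u) * Z))) := by
  rw [← mul_assoc, f4s33_30]; simp only [mul_assoc]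

theorem f4s24_34 (t u : K) : fX 34 u * fX 24 t = fX 24 t * fX 34 u :=
  (fX_comm_nil 24 34 (by decide) (by decide) (by decide) (by decide) (by decide +kernel) t u).eq.symm

theorem f4s24_34' (t u : K) (Z : GL chevF4.Idx K) : fX 34 u * (fX 24 t * Z) = fX 24 t * (fX 34 u * Z) := by
  rw [← mul_assoc, f4s24_34]; simp only [mul_assoc]

theorem f4s24_26 (t u : K) : fX 26 u * fX 24 t = fX 24 t * fX 26 u :=
  (fX_comm_nil 24 26 (by decide) (by decide) (by decide) (by decide) (by decide +kernel) t u).eq.symm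

theorem f4s24_26' (t u : K) (Z : GL chevF4.Idx K) : fX 26 u * (fX 24 t * Z) = fX 24 t * (fX 26 u * Z) := by
  rw [← mul_assoc, f4s24_26]; simp only [mul_assoc]

theorem f4s24_36 (t u : K) : fX 36 u * fX 24 t = fX 24 t * fX 36 u :=
  (fX_comm_nil 24 36 (by decide) (by decide) (by decide) (by decide) (by decide +kernel) t u).eq.symm

theorem f4s24_36' (t u : K) (Z : GL chevF4.Idx K) : fX 36 u * (fX 24 t * Z) = fX 24 t * (fX 36 u * Z) := by
  rw [← mul_assoc, f4s24_36]; simp only [mul_assoc]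

theorem f4s24_42 (t u : K) : fX 42 u * fX 24 t = fX 24 t * fX 42 u :=
  (fX_comm_nil 24 42 (by decide) (by decide) (by decide) (by decide) (by decide +kernel) t u).eq.symm

theorem f4s24_42' (t u : K) (Z : GL chevF4.Idx K) : fX 42 u * (fX 24 t * Z) = fX 24 t * (fX 42 u * Z) := by
  rw [← mul_assoc, f4s24_42]; simp only [mul_assoc]

theorem f4s24_38 (t u : K) : fX 38 u * fX 24 t = fX 24 t * fX 38 u :=
  (fX_comm_nil 24 38 (by decide) (by decide) (by decide) (by decide) (by decide +kernel) t u).eq.symm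

theorem f4s24_38' (t u : K) (Z : GL chevF4.Idx K) : fX 38 u * (fX 24 t * Z) = fX 24 t * (fX 38 u * Z) := by
  rw [← mul_assoc, f4s24_38]; simp only [mul_assoc]

theorem f4s24_43 (t u : K) : fX 43 u * fX 24 t = fX 24 t * fX 43 u :=
  (fX_comm_nil 24 43 (by decide) (by decide) (by decide) (by decide) (by decide +kernel) t u).eq.symm

theorem f4s24_43' (t u : K) (Z : GL chevF4.Idx K) : fX 43 u * (fX 24 t * Z) = fX 24 t * (fX 43 u * Z) := by
  rw [← mul_assoc, f4s24_43]; simp only [mul_assoc]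

theorem f4s24_29 (t u : K) : fX 29 u * fX 24 t = fX 24 t * fX 29 u :=
  (fX_comm_nil 24 29 (by decide) (by decide) (by decide) (by decide) (by decide +kernel) t u).eq.symm

theorem f4s24_29' (t u : K) (Z : GL chevF4.Idx K) : fX 29 u * (fX 24 t * Z) = fX 24 t * (fX 29 u * Z) := by
  rw [← mul_assoc, f4s24_29]; simp only [mul_assoc]

theorem f4s24_41 (t u : K) : fX 41 u * fX 24 t = fX 24 t * (fX 41 u * fX 42 (t * u)) :=
  fX_sw1 24 41 42 (1) (by decide) (by decide) (by decide) (by decide) (Or.inl rfl) (by decide +kernel) t u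

theorem f4s24_41' (t u : K) (Z : GL chevF4.Idx K) : fX 41 u * (fX 24 t * Z) = fX 24 t * (fX 41 u * (fX 42 (t * u) * Z)) := by
  rw [← mul_assoc, f4s24_41]; simp only [mul_assoc]

theorem f4s24_44 (t u : K) : fX 44 u * fX 24 t = fX 24 t * fX 44 u :=
  (fX_comm_nil 24 44 (by decide) (by decide) (by decide) (by decide) (by decide +kernel) t u).eq.symm

theorem f4s24_44' (t u : K) (Z : GL chevF4.Idx K) : fX 44 u * (fX 24 t * Z) = fX 24 t * (fX 44 u * Z) := by
  rw [← mul_assoc, f4s24_44]; simp only [mul_assoc]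

theorem f4s24_47 (t u : K) : fX 47 u * fX 24 t = fX 24 t * fX 47 u :=
  (fX_comm_nil 24 47 (by decide) (by decide) (by decide) (by decide) (by decide +kernel) t u).eq.symm

theorem f4s24_47' (t u : K) (Z : GL chevF4.Idx K) : fX 47 u * (fX 24 t * Z) = fX 24 t * (fX 47 u * Z) := by
  rw [← mul_assoc, f4s24_47]; simp only [mul_assoc]

theorem f4s24_39 (t u : K) : fX 39 u * fX 24 t = fX 24 t * fX 39 u :=
  (fX_comm_nil 24 39 (by decide) (by decide) (by decide) (by decide) (by decide +kernel) t u).eq.symm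

theorem f4s24_39' (t u : K) (Z : GL chevF4.Idx K) : fX 39 u * (fX 24 t * Z) = fX 24 t * (fX 39 u * Z) := by
  rw [← mul_assoc, f4s24_39]; simp only [mul_assoc]

theorem f4s24_45 (t u : K) : fX 45 u * fX 24 t = fX 24 t * fX 45 u :=
  (fX_comm_nil 24 45 (by decide) (by decide) (by decide) (by decide) (by decide +kernel) t u).eq.symm

theorem f4s24_45' (t u : K) (Z : GL chevF4.Idx K) : fX 45 u * (fX 24 t * Z) = fX 24 t * (fX 45 u * Z) := by
  rw [← mul_assoc, f4s24_45]; simp only [mul_assoc]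

theorem f4s24_35 (t u : K) : fX 35 u * fX 24 t = fX 24 t * (fX 35 u * (fX 36 (t * u) * fX 43 (t * u ^ 2))) :=
  fX_sw12 24 35 36 43 (1) (1) (by decide) (by decide) (by decide) (by decide) (Or.inl rfl) (Or.inl rfl) (by decide +kernel) t u

theorem f4s24_35' (t u : K) (Z : GL chevF4.Idx K) : fX 35 u * (fX 24 t * Z) = fX 24 t * (fX 35 u * (fX 36 (t * u) * (fX 43 (t * u ^ 2) * Z))) := by
  rw [← mul_assoc, f4s24_35]; simp only [mul_assoc]

theorem f4s24_31 (t u : K) : fX 31 u * fX 24 t = fX 24 t * fX 31 u :=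
  (fX_comm_nil 24 31 (by decide) (by decide) (by decide) (by decide) (by decide +kernel) t u).eq.symm

theorem f4s24_31' (t u : K) (Z : GL chevF4.Idx K) : fX 31 u * (fX 24 t * Z) = fX 24 t * (fX 31 u * Z) := by
  rw [← mul_assoc, f4s24_31]; simp only [mul_assoc]

theorem f4s24_40 (t u : K) : fX 40 u * fX 24 t = fX 24 t * fX 40 u :=
  (fX_comm_nil 24 40 (by decide) (by decide) (by decide) (by decide) (by decide +kernel) t u).eq.symm

theorem f4s24_40' (t u : K) (Z : GL chevF4.Idx K) : fX 40 u * (fX 24 t * Z) = fX 24 t * (fX 40 u * Z) := by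
  rw [← mul_assoc, f4s24_40]; simp only [mul_assoc]

theorem f4s24_46 (t u : K) : fX 46 u * fX 24 t = fX 24 t * (fX 46 u * fX 47 (t * u)) :=
  fX_sw1 24 46 47 (1) (by decide) (by decide) (by decide) (by decide) (Or.inl rfl) (by decide +kernel) t u

theorem f4s24_46' (t u : K) (Z : GL chevF4.Idx K) : fX 46 u * (fX 24 t * Z) = fX 24 t * (fX 46 u * (fX 47 (t * u) * Z)) := by
  rw [← mul_assoc, f4s24_46]; simp only [mul_assoc]

theorem f4s24_37 (t u : K) : fX 37 u * fX 24 t = fX 24 t * (fX 37 u * (fX 38 (t * u) * fX 45 (t * u ^ 2))) :=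
  fX_sw12 24 37 38 45 (1) (1) (by decide) (by decide) (by decide) (by decide) (Or.inl rfl) (Or.inl rfl) (by decide +kernel) t u

theorem f4s24_37' (t u : K) (Z : GL chevF4.Idx K) : fX 37 u * (fX 24 t * Z) = fX 24 t * (fX 37 u * (fX 38 (t * u) * (fX 45 (t * u ^ 2) * Z))) := by
  rw [← mul_assoc, f4s24_37]; simp only [mul_assoc]

theorem f4s24_32 (t u : K) : fX 32 u * fX 24 t = fX 24 t * fX 32 u :=
  (fX_comm_nil 24 32 (by decide) (by decide) (by decide) (by decide) (by decide +kernel) t u).eq.symm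

theorem f4s24_32' (t u : K) (Z : GL chevF4.Idx K) : fX 32 u * (fX 24 t * Z) = fX 24 t * (fX 32 u * Z) := by
  rw [← mul_assoc, f4s24_32]; simp only [mul_assoc]

theorem f4s24_27 (t u : K) : fX 27 u * fX 24 t = fX 24 t * fX 27 u :=
  (fX_comm_nil 24 27 (by decide) (by decide) (by decide) (by decide) (by decide +kernel) t u).eq.symm

theorem f4s24_27' (t u : K) (Z : GL chevF4.Idx K) : fX 27 u * (fX 24 t * Z) = fX 24 t * (fX 27 u * Z) := by
  rw [← mul_assoc, f4s24_27]; simp only [mul_assoc]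

theorem f4s24_25 (t u : K) : fX 25 u * fX 24 t = fX 24 t * (fX 25 u * fX 26 (t * u)) :=
  fX_sw1 24 25 26 (1) (by decide) (by decide) (by decide) (by decide) (Or.inl rfl) (by decide +kernel) t u

theorem f4s24_25' (t u : K) (Z : GL chevF4.Idx K) : fX 25 u * (fX 24 t * Z) = fX 24 t * (fX 25 u * (fX 26 (t * u) * Z)) := by
  rw [← mul_assoc, f4s24_25]; simp only [mul_assoc]

theorem f4s24_28 (t u : K) : fX 28 u * fX 24 t = fX 24 t * (fX 28 u * (fX 29 (t * u) * fX 32 (t * u ^ 2))) :=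
  fX_sw12 24 28 29 32 (1) (-1) (by decide) (by decide) (by decide) (by decide) (Or.inl rfl) (Or.inr rfl) (by decide +kernel) t u

theorem f4s24_28' (t u : K) (Z : GL chevF4.Idx K) : fX 28 u * (fX 24 t * Z) = fX 24 t * (fX 28 u * (fX 29 (t * u) * (fX 32 (t * u ^ 2) * Z))) := by
  rw [← mul_assoc, f4s24_28]; simp only [mul_assoc]

theorem f4s24_30 (t u : K) : fX 30 u * fX 24 t = fX 24 t * (fX 30 u * fX 31 (t * u)) :=
  fX_sw1 24 30 31 (1) (by decide) (by decide) (by decide) (by decide) (Or.inl rfl) (by decide +kernel) t u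

theorem f4s24_30' (t u : K) (Z : GL chevF4.Idx K) : fX 30 u * (fX 24 t * Z) = fX 24 t * (fX 30 u * (fX 31 (t * u) * Z)) := by
  rw [← mul_assoc, f4s24_30]; simp only [mul_assoc]

theorem f4s34_26 (t u : K) : fX 26 u * fX 34 t = fX 34 t * (fX 26 u * (fX 36 (t * u) * fX 42 (t ^ 2 * u))) :=
  fX_sw21 34 26 36 42 (-1) (1) (by decide) (by decide) (by decide) (by decide) (Or.inr rfl) (Or.inl rfl) (by decide +kernel) t u

theorem f4s34_26' (t u : K) (Z : GL chevF4.Idx K) : fX 26 u * (fX 34 t * Z) = fX 34 t * (fX 26 u * (fX 36 (t * u) * (fX 42 (t ^ 2 * u) * Z))) := by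
  rw [← mul_assoc, f4s34_26]; simp only [mul_assoc]

theorem f4s34_36 (t u : K) : fX 36 u * fX 34 t = fX 34 t * fX 36 u :=
  (fX_comm_two 34 36 42 (-2) (by decide) (by decide) (by decide) (by decide) (Or.inr rfl) (by decide +kernel) t u).eq.symm

theorem f4s34_36' (t u : K) (Z : GL chevF4.Idx K) : fX 36 u * (fX 34 t * Z) = fX 34 t * (fX 36 u * Z) := by
  rw [← mul_assoc, f4s34_36]; simp only [mul_assoc]

theorem f4s34_42 (t u : K) : fX 42 u * fX 34 t = fX 34 t * fX 42 u :=
  (fX_comm_nil 34 42 (by decide) (by decide) (by decide) (by decide) (by decide +kernel) t u).eq.symm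

theorem f4s34_42' (t u : K) (Z : GL chevF4.Idx K) : fX 42 u * (fX 34 t * Z) = fX 34 t * (fX 42 u * Z) := by
  rw [← mul_assoc, f4s34_42]; simp only [mul_assoc]

theorem f4s34_38 (t u : K) : fX 38 u * fX 34 t = fX 34 t * fX 38 u :=
  (fX_comm_nil 34 38 (by decide) (by decide) (by decide) (by decide) (by decide +kernel) t u).eq.symm

theorem f4s34_38' (t u : K) (Z : GL chevF4.Idx K) : fX 38 u * (fX 34 t * Z) = fX 34 t * (fX 38 u * Z) := by
  rw [← mul_assoc, f4s34_38]; simp only [mul_assoc]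

theorem f4s34_43 (t u : K) : fX 43 u * fX 34 t = fX 34 t * fX 43 u :=
  (fX_comm_nil 34 43 (by decide) (by decide) (by decide) (by decide) (by decide +kernel) t u).eq.symm

theorem f4s34_43' (t u : K) (Z : GL chevF4.Idx K) : fX 43 u * (fX 34 t * Z) = fX 34 t * (fX 43 u * Z) := by
  rw [← mul_assoc, f4s34_43]; simp only [mul_assoc]

theorem f4s34_29 (t u : K) : fX 29 u * fX 34 t = fX 34 t * (fX 29 u * fX 38 (t * u)) :=
  fX_sw1 34 29 38 (1) (by decide) (by decide) (by decide) (by decide) (Or.inl rfl) (by decide +kernel) t u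

theorem f4s34_29' (t u : K) (Z : GL chevF4.Idx K) : fX 29 u * (fX 34 t * Z) = fX 34 t * (fX 29 u * (fX 38 (t * u) * Z)) := by
  rw [← mul_assoc, f4s34_29]; simp only [mul_assoc]

theorem f4s34_41 (t u : K) : fX 41 u * fX 34 t = fX 34 t * fX 41 u :=
  (fX_comm_nil 34 41 (by decide) (by decide) (by decide) (by decide) (by decide +kernel) t u).eq.symm

theorem f4s34_41' (t u : K) (Z : GL chevF4.Idx K) : fX 41 u * (fX 34 t * Z) = fX 34 t * (fX 41 u * Z) := by
  rw [← mul_assoc, f4s34_41]; simp only [mul_assoc]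

theorem f4s34_44 (t u : K) : fX 44 u * fX 34 t = fX 34 t * fX 44 u :=
  (fX_comm_nil 34 44 (by decide) (by decide) (by decide) (by decide) (by decide +kernel) t u).eq.symm

theorem f4s34_44' (t u : K) (Z : GL chevF4.Idx K) : fX 44 u * (fX 34 t * Z) = fX 34 t * (fX 44 u * Z) := by
  rw [← mul_assoc, f4s34_44]; simp only [mul_assoc]

theorem f4s34_47 (t u : K) : fX 47 u * fX 34 t = fX 34 t * fX 47 u :=
  (fX_comm_nil 34 47 (by decide) (by decide) (by decide) (by decide) (by decide +kernel) t u).eq.symm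

theorem f4s34_47' (t u : K) (Z : GL chevF4.Idx K) : fX 47 u * (fX 34 t * Z) = fX 34 t * (fX 47 u * Z) := by
  rw [← mul_assoc, f4s34_47]; simp only [mul_assoc]

theorem f4s34_39 (t u : K) : fX 39 u * fX 34 t = fX 34 t * (fX 39 u * fX 44 (t * u)) :=
  fX_sw1 34 39 44 (1) (by decide) (by decide) (by decide) (by decide) (Or.inl rfl) (by decide +kernel) t u

theorem f4s34_39' (t u : K) (Z : GL chevF4.Idx K) : fX 39 u * (fX 34 t * Z) = fX 34 t * (fX 39 u * (fX 44 (t * u) * Z)) := by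
  rw [← mul_assoc, f4s34_39]; simp only [mul_assoc]

theorem f4s34_45 (t u : K) : fX 45 u * fX 34 t = fX 34 t * fX 45 u :=
  (fX_comm_nil 34 45 (by decide) (by decide) (by decide) (by decide) (by decide +kernel) t u).eq.symm

theorem f4s34_45' (t u : K) (Z : GL chevF4.Idx K) : fX 45 u * (fX 34 t * Z) = fX 34 t * (fX 45 u * Z) := by
  rw [← mul_assoc, f4s34_45]; simp only [mul_assoc]

theorem f4s34_35 (t u : K) : fX 35 u * fX 34 t = fX 34 t * fX 35 u :=
  (fX_comm_two 34 35 41 (-2) (by decide) (by decide) (by decide) (by decide) (Or.inr rfl) (by decide +kernel) t u).eq.symm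

theorem f4s34_35' (t u : K) (Z : GL chevF4.Idx K) : fX 35 u * (fX 34 t * Z) = fX 34 t * (fX 35 u * Z) := by
  rw [← mul_assoc, f4s34_35]; simp only [mul_assoc]

theorem f4s34_31 (t u : K) : fX 31 u * fX 34 t = fX 34 t * fX 31 u :=
  (fX_comm_nil 34 31 (by decide) (by decide) (by decide) (by decide) (by decide +kernel) t u).eq.symm

theorem f4s34_31' (t u : K) (Z : GL chevF4.Idx K) : fX 31 u * (fX 34 t * Z) = fX 34 t * (fX 31 u * Z) := by
  rw [← mul_assoc, f4s34_31]; simp only [mul_assoc]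

theorem f4s34_40 (t u : K) : fX 40 u * fX 34 t = fX 34 t * fX 40 u :=
  (fX_comm_two 34 40 45 (2) (by decide) (by decide) (by decide) (by decide) (Or.inl rfl) (by decide +kernel) t u).eq.symm

theorem f4s34_40' (t u : K) (Z : GL chevF4.Idx K) : fX 40 u * (fX 34 t * Z) = fX 34 t * (fX 40 u * Z) := by
  rw [← mul_assoc, f4s34_40]; simp only [mul_assoc]

theorem f4s34_46 (t u : K) : fX 46 u * fX 34 t = fX 34 t * fX 46 u :=
  (fX_comm_nil 34 46 (by decide) (by decide) (by decide) (by decide) (by decide +kernel) t u).eq.symm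

theorem f4s34_46' (t u : K) (Z : GL chevF4.Idx K) : fX 46 u * (fX 34 t * Z) = fX 34 t * (fX 46 u * Z) := by
  rw [← mul_assoc, f4s34_46]; simp only [mul_assoc]

theorem f4s34_37 (t u : K) : fX 37 u * fX 34 t = fX 34 t * fX 37 u :=
  (fX_comm_nil 34 37 (by decide) (by decide) (by decide) (by decide) (by decide +kernel) t u).eq.symm

theorem f4s34_37' (t u : K) (Z : GL chevF4.Idx K) : fX 37 u * (fX 34 t * Z) = fX 34 t * (fX 37 u * Z) := by
  rw [← mul_assoc, f4s34_37]; simp only [mul_assoc]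

theorem f4s34_32 (t u : K) : fX 32 u * fX 34 t = fX 34 t * (fX 32 u * (fX 40 (t * u) * fX 45 (t ^ 2 * u))) :=
  fX_sw21 34 32 40 45 (-1) (-1) (by decide) (by decide) (by decide) (by decide) (Or.inr rfl) (Or.inr rfl) (by decide +kernel) t u

theorem f4s34_32' (t u : K) (Z : GL chevF4.Idx K) : fX 32 u * (fX 34 t * Z) = fX 34 t * (fX 32 u * (fX 40 (t * u) * (fX 45 (t ^ 2 * u) * Z))) := by
  rw [← mul_assoc, f4s34_32]; simp only [mul_assoc]

theorem f4s34_27 (t u : K) : fX 27 u * fX 34 t = fX 34 t * fX 27 u :=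
  (fX_comm_nil 34 27 (by decide) (by decide) (by decide) (by decide) (by decide +kernel) t u).eq.symm

theorem f4s34_27' (t u : K) (Z : GL chevF4.Idx K) : fX 27 u * (fX 34 t * Z) = fX 34 t * (fX 27 u * Z) := by
  rw [← mul_assoc, f4s34_27]; simp only [mul_assoc]

theorem f4s34_25 (t u : K) : fX 25 u * fX 34 t = fX 34 t * (fX 25 u * (fX 35 (t * u) * fX 41 (t ^ 2 * u))) :=
  fX_sw21 34 25 35 41 (-1) (1) (by decide) (by decide) (by decide) (by decide) (Or.inr rfl) (Or.inl rfl) (by decide +kernel) t u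

theorem f4s34_25' (t u : K) (Z : GL chevF4.Idx K) : fX 25 u * (fX 34 t * Z) = fX 34 t * (fX 25 u * (fX 35 (t * u) * (fX 41 (t ^ 2 * u) * Z))) := by
  rw [← mul_assoc, f4s34_25]; simp only [mul_assoc]

theorem f4s34_28 (t u : K) : fX 28 u * fX 34 t = fX 34 t * (fX 28 u * fX 37 (t * u)) :=
  fX_sw1 34 28 37 (1) (by decide) (by decide) (by decide) (by decide) (Or.inl rfl) (by decide +kernel) t u

theorem f4s34_28' (t u : K) (Z : GL chevF4.Idx K) : fX 28 u * (fX 34 t * Z) = fX 34 t * (fX 28 u * (fX 37 (t * u) * Z)) := by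
  rw [← mul_assoc, f4s34_28]; simp only [mul_assoc]

theorem f4s34_30 (t u : K) : fX 30 u * fX 34 t = fX 34 t * fX 30 u :=
  (fX_comm_nil 34 30 (by decide) (by decide) (by decide) (by decide) (by decide +kernel) t u).eq.symm

theorem f4s34_30' (t u : K) (Z : GL chevF4.Idx K) : fX 30 u * (fX 34 t * Z) = fX 34 t * (fX 30 u * Z) := by
  rw [← mul_assoc, f4s34_30]; simp only [mul_assoc]

theorem f4s26_36 (t u : K) : fX 36 u * fX 26 t = fX 26 t * fX 36 u :=
  (fX_comm_nil 26 36 (by decide) (by decide) (by decide) (by decide) (by decide +kernel) t u).eq.symm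

theorem f4s26_36' (t u : K) (Z : GL chevF4.Idx K) : fX 36 u * (fX 26 t * Z) = fX 26 t * (fX 36 u * Z) := by
  rw [← mul_assoc, f4s26_36]; simp only [mul_assoc]

theorem f4s26_42 (t u : K) : fX 42 u * fX 26 t = fX 26 t * fX 42 u :=
  (fX_comm_nil 26 42 (by decide) (by decide) (by decide) (by decide) (by decide +kernel) t u).eq.symm

theorem f4s26_42' (t u : K) (Z : GL chevF4.Idx K) : fX 42 u * (fX 26 t * Z) = fX 26 t * (fX 42 u * Z) := by
  rw [← mul_assoc, f4s26_42]; simp only [mul_assoc]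

theorem f4s26_38 (t u : K) : fX 38 u * fX 26 t = fX 26 t * fX 38 u :=
  (fX_comm_nil 26 38 (by decide) (by decide) (by decide) (by decide) (by decide +kernel) t u).eq.symm

theorem f4s26_38' (t u : K) (Z : GL chevF4.Idx K) : fX 38 u * (fX 26 t * Z) = fX 26 t * (fX 38 u * Z) := by
  rw [← mul_assoc, f4s26_38]; simp only [mul_assoc]

theorem f4s26_43 (t u : K) : fX 43 u * fX 26 t = fX 26 t * fX 43 u :=
  (fX_comm_nil 26 43 (by decide) (by decide) (by decide) (by decide) (by decide +kernel) t u).eq.symm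

theorem f4s26_43' (t u : K) (Z : GL chevF4.Idx K) : fX 43 u * (fX 26 t * Z) = fX 26 t * (fX 43 u * Z) := by
  rw [← mul_assoc, f4s26_43]; simp only [mul_assoc]

theorem f4s26_29 (t u : K) : fX 29 u * fX 26 t = fX 26 t * fX 29 u :=
  (fX_comm_nil 26 29 (by decide) (by decide) (by decide) (by decide) (by decide +kernel) t u).eq.symm

theorem f4s26_29' (t u : K) (Z : GL chevF4.Idx K) : fX 29 u * (fX 26 t * Z) = fX 26 t * (fX 29 u * Z) := by
  rw [← mul_assoc, f4s26_29]; simp only [mul_assoc]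

theorem f4s26_41 (t u : K) : fX 41 u * fX 26 t = fX 26 t * (fX 41 u * fX 43 (t * u)) :=
  fX_sw1 26 41 43 (-1) (by decide) (by decide) (by decide) (by decide) (Or.inr rfl) (by decide +kernel) t u

theorem f4s26_41' (t u : K) (Z : GL chevF4.Idx K) : fX 41 u * (fX 26 t * Z) = fX 26 t * (fX 41 u * (fX 43 (t * u) * Z)) := by
  rw [← mul_assoc, f4s26_41]; simp only [mul_assoc]

theorem f4s26_44 (t u : K) : fX 44 u * fX 26 t = fX 26 t * fX 44 u :=
  (fX_comm_nil 26 44 (by decide) (by decide) (by decide) (by decide) (by decide +kernel) t u).eq.symm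

theorem f4s26_44' (t u : K) (Z : GL chevF4.Idx K) : fX 44 u * (fX 26 t * Z) = fX 26 t * (fX 44 u * Z) := by
  rw [← mul_assoc, f4s26_44]; simp only [mul_assoc]

theorem f4s26_47 (t u : K) : fX 47 u * fX 26 t = fX 26 t * fX 47 u :=
  (fX_comm_nil 26 47 (by decide) (by decide) (by decide) (by decide) (by decide +kernel) t u).eq.symm

theorem f4s26_47' (t u : K) (Z : GL chevF4.Idx K) : fX 47 u * (fX 26 t * Z) = fX 26 t * (fX 47 u * Z) := by
  rw [← mul_assoc, f4s26_47]; simp only [mul_assoc]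

theorem f4s26_39 (t u : K) : fX 39 u * fX 26 t = fX 26 t * fX 39 u :=
  (fX_comm_nil 26 39 (by decide) (by decide) (by decide) (by decide) (by decide +kernel) t u).eq.symm

theorem f4s26_39' (t u : K) (Z : GL chevF4.Idx K) : fX 39 u * (fX 26 t * Z) = fX 26 t * (fX 39 u * Z) := by
  rw [← mul_assoc, f4s26_39]; simp only [mul_assoc]

theorem f4s26_45 (t u : K) : fX 45 u * fX 26 t = fX 26 t * (fX 45 u * fX 47 (t * u)) :=
  fX_sw1 26 45 47 (1) (by decide) (by decide) (by decide) (by decide) (Or.inl rfl) (by decide +kernel) t u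

theorem f4s26_45' (t u : K) (Z : GL chevF4.Idx K) : fX 45 u * (fX 26 t * Z) = fX 26 t * (fX 45 u * (fX 47 (t * u) * Z)) := by
  rw [← mul_assoc, f4s26_45]; simp only [mul_assoc]

theorem f4s26_35 (t u : K) : fX 35 u * fX 26 t = fX 26 t * fX 35 u :=
  (fX_comm_nil 26 35 (by decide) (by decide) (by decide) (by decide) (by decide +kernel) t u).eq.symm

theorem f4s26_35' (t u : K) (Z : GL chevF4.Idx K) : fX 35 u * (fX 26 t * Z) = fX 26 t * (fX 35 u * Z) := by
  rw [← mul_assoc, f4s26_35]; simp only [mul_assoc]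

theorem f4s26_31 (t u : K) : fX 31 u * fX 26 t = fX 26 t * fX 31 u :=
  (fX_comm_nil 26 31 (by decide) (by decide) (by decide) (by decide) (by decide +kernel) t u).eq.symm

theorem f4s26_31' (t u : K) (Z : GL chevF4.Idx K) : fX 31 u * (fX 26 t * Z) = fX 26 t * (fX 31 u * Z) := by
  rw [← mul_assoc, f4s26_31]; simp only [mul_assoc]

theorem f4s26_40 (t u : K) : fX 40 u * fX 26 t = fX 26 t * fX 40 u :=
  (fX_comm_nil 26 40 (by decide) (by decide) (by decide) (by decide) (by decide +kernel) t u).eq.symm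

theorem f4s26_40' (t u : K) (Z : GL chevF4.Idx K) : fX 40 u * (fX 26 t * Z) = fX 26 t * (fX 40 u * Z) := by
  rw [← mul_assoc, f4s26_40]; simp only [mul_assoc]

theorem f4s26_46 (t u : K) : fX 46 u * fX 26 t = fX 26 t * fX 46 u :=
  (fX_comm_nil 26 46 (by decide) (by decide) (by decide) (by decide) (by decide +kernel) t u).eq.symm

theorem f4s26_46' (t u : K) (Z : GL chevF4.Idx K) : fX 46 u * (fX 26 t * Z) = fX 26 t * (fX 46 u * Z) := by
  rw [← mul_assoc, f4s26_46]; simp only [mul_assoc]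

theorem f4s26_37 (t u : K) : fX 37 u * fX 26 t = fX 26 t * (fX 37 u * (fX 39 (t * u) * fX 46 (t * u ^ 2))) :=
  fX_sw12 26 37 39 46 (-1) (-1) (by decide) (by decide) (by decide) (by decide) (Or.inr rfl) (Or.inr rfl) (by decide +kernel) t u

theorem f4s26_37' (t u : K) (Z : GL chevF4.Idx K) : fX 37 u * (fX 26 t * Z) = fX 26 t * (fX 37 u * (fX 39 (t * u) * (fX 46 (t * u ^ 2) * Z))) := by
  rw [← mul_assoc, f4s26_37]; simp only [mul_assoc]

theorem f4s26_32 (t u : K) : fX 32 u * fX 26 t = fX 26 t * fX 32 u :=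
  (fX_comm_nil 26 32 (by decide) (by decide) (by decide) (by decide) (by decide +kernel) t u).eq.symm

theorem f4s26_32' (t u : K) (Z : GL chevF4.Idx K) : fX 32 u * (fX 26 t * Z) = fX 26 t * (fX 32 u * Z) := by
  rw [← mul_assoc, f4s26_32]; simp only [mul_assoc]

theorem f4s26_27 (t u : K) : fX 27 u * fX 26 t = fX 26 t * (fX 27 u * (fX 29 (t * u) * fX 31 (t * u ^ 2))) :=
  fX_sw12 26 27 29 31 (1) (-1) (by decide) (by decide) (by decide) (by decide) (Or.inl rfl) (Or.inr rfl) (by decide +kernel) t u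

theorem f4s26_27' (t u : K) (Z : GL chevF4.Idx K) : fX 27 u * (fX 26 t * Z) = fX 26 t * (fX 27 u * (fX 29 (t * u) * (fX 31 (t * u ^ 2) * Z))) := by
  rw [← mul_assoc, f4s26_27]; simp only [mul_assoc]

theorem f4s26_25 (t u : K) : fX 25 u * fX 26 t = fX 26 t * fX 25 u :=
  (fX_comm_nil 26 25 (by decide) (by decide) (by decide) (by decide) (by decide +kernel) t u).eq.symm

theorem f4s26_25' (t u : K) (Z : GL chevF4.Idx K) : fX 25 u * (fX 26 t * Z) = fX 26 t * (fX 25 u * Z) := by
  rw [← mul_assoc, f4s26_25]; simp only [mul_assoc]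

theorem f4s26_28 (t u : K) : fX 28 u * fX 26 t = fX 26 t * fX 28 u :=
  (fX_comm_nil 26 28 (by decide) (by decide) (by decide) (by decide) (by decide +kernel) t u).eq.symm

theorem f4s26_28' (t u : K) (Z : GL chevF4.Idx K) : fX 28 u * (fX 26 t * Z) = fX 26 t * (fX 28 u * Z) := by
  rw [← mul_assoc, f4s26_28]; simp only [mul_assoc]

theorem f4s26_30 (t u : K) : fX 30 u * fX 26 t = fX 26 t * (fX 30 u * fX 32 (t * u)) :=
  fX_sw1 26 30 32 (-1) (by decide) (by decide) (by decide) (by decide) (Or.inr rfl) (by decide +kernel) t u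

theorem f4s26_30' (t u : K) (Z : GL chevF4.Idx K) : fX 30 u * (fX 26 t * Z) = fX 26 t * (fX 30 u * (fX 32 (t * u) * Z)) := by
  rw [← mul_assoc, f4s26_30]; simp only [mul_assoc]

theorem f4s36_42 (t u : K) : fX 42 u * fX 36 t = fX 36 t * fX 42 u :=
  (fX_comm_nil 36 42 (by decide) (by decide) (by decide) (by decide) (by decide +kernel) t u).eq.symm

theorem f4s36_42' (t u : K) (Z : GL chevF4.Idx K) : fX 42 u * (fX 36 t * Z) = fX 36 t * (fX 42 u * Z) := by
  rw [← mul_assoc, f4s36_42]; simp only [mul_assoc]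

theorem f4s36_38 (t u : K) : fX 38 u * fX 36 t = fX 36 t * fX 38 u :=
  (fX_comm_nil 36 38 (by decide) (by decide) (by decide) (by decide) (by decide +kernel) t u).eq.symm

theorem f4s36_38' (t u : K) (Z : GL chevF4.Idx K) : fX 38 u * (fX 36 t * Z) = fX 36 t * (fX 38 u * Z) := by
  rw [← mul_assoc, f4s36_38]; simp only [mul_assoc]

theorem f4s36_43 (t u : K) : fX 43 u * fX 36 t = fX 36 t * fX 43 u :=
  (fX_comm_nil 36 43 (by decide) (by decide) (by decide) (by decide) (by decide +kernel) t u).eq.symm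

theorem f4s36_43' (t u : K) (Z : GL chevF4.Idx K) : fX 43 u * (fX 36 t * Z) = fX 36 t * (fX 43 u * Z) := by
  rw [← mul_assoc, f4s36_43]; simp only [mul_assoc]

theorem f4s36_29 (t u : K) : fX 29 u * fX 36 t = fX 36 t * fX 29 u :=
  (fX_comm_nil 36 29 (by decide) (by decide) (by decide) (by decide) (by decide +kernel) t u).eq.symm

theorem f4s36_29' (t u : K) (Z : GL chevF4.Idx K) : fX 29 u * (fX 36 t * Z) = fX 36 t * (fX 29 u * Z) := by
  rw [← mul_assoc, f4s36_29]; simp only [mul_assoc]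

theorem f4s36_41 (t u : K) : fX 41 u * fX 36 t = fX 36 t * fX 41 u :=
  (fX_comm_nil 36 41 (by decide) (by decide) (by decide) (by decide) (by decide +kernel) t u).eq.symm

theorem f4s36_41' (t u : K) (Z : GL chevF4.Idx K) : fX 41 u * (fX 36 t * Z) = fX 36 t * (fX 41 u * Z) := by
  rw [← mul_assoc, f4s36_41]; simp only [mul_assoc]

theorem f4s36_44 (t u : K) : fX 44 u * fX 36 t = fX 36 t * fX 44 u :=
  (fX_comm_nil 36 44 (by decide) (by decide) (by decide) (by decide) (by decide +kernel) t u).eq.symm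

theorem f4s36_44' (t u : K) (Z : GL chevF4.Idx K) : fX 44 u * (fX 36 t * Z) = fX 36 t * (fX 44 u * Z) := by
  rw [← mul_assoc, f4s36_44]; simp only [mul_assoc]

theorem f4s36_47 (t u : K) : fX 47 u * fX 36 t = fX 36 t * fX 47 u :=
  (fX_comm_nil 36 47 (by decide) (by decide) (by decide) (by decide) (by decide +kernel) t u).eq.symm

theorem f4s36_47' (t u : K) (Z : GL chevF4.Idx K) : fX 47 u * (fX 36 t * Z) = fX 36 t * (fX 47 u * Z) := by
  rw [← mul_assoc, f4s36_47]; simp only [mul_assoc]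

theorem f4s36_39 (t u : K) : fX 39 u * fX 36 t = fX 36 t * fX 39 u :=
  (fX_comm_nil 36 39 (by decide) (by decide) (by decide) (by decide) (by decide +kernel) t u).eq.symm

theorem f4s36_39' (t u : K) (Z : GL chevF4.Idx K) : fX 39 u * (fX 36 t * Z) = fX 36 t * (fX 39 u * Z) := by
  rw [← mul_assoc, f4s36_39]; simp only [mul_assoc]

theorem f4s36_45 (t u : K) : fX 45 u * fX 36 t = fX 36 t * fX 45 u :=
  (fX_comm_nil 36 45 (by decide) (by decide) (by decide) (by decide) (by decide +kernel) t u).eq.symm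

theorem f4s36_45' (t u : K) (Z : GL chevF4.Idx K) : fX 45 u * (fX 36 t * Z) = fX 36 t * (fX 45 u * Z) := by
  rw [← mul_assoc, f4s36_45]; simp only [mul_assoc]

theorem f4s36_35 (t u : K) : fX 35 u * fX 36 t = fX 36 t * fX 35 u :=
  (fX_comm_two 36 35 43 (2) (by decide) (by decide) (by decide) (by decide) (Or.inl rfl) (by decide +kernel) t u).eq.symm

theorem f4s36_35' (t u : K) (Z : GL chevF4.Idx K) : fX 35 u * (fX 36 t * Z) = fX 36 t * (fX 35 u * Z) := by
  rw [← mul_assoc, f4s36_35]; simp only [mul_assoc]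

theorem f4s36_31 (t u : K) : fX 31 u * fX 36 t = fX 36 t * fX 31 u :=
  (fX_comm_nil 36 31 (by decide) (by decide) (by decide) (by decide) (by decide +kernel) t u).eq.symm

theorem f4s36_31' (t u : K) (Z : GL chevF4.Idx K) : fX 31 u * (fX 36 t * Z) = fX 36 t * (fX 31 u * Z) := by
  rw [← mul_assoc, f4s36_31]; simp only [mul_assoc]

theorem f4s36_40 (t u : K) : fX 40 u * fX 36 t = fX 36 t * fX 40 u :=
  (fX_comm_two 36 40 47 (2) (by decide) (by decide) (by decide) (by decide) (Or.inl rfl) (by decide +kernel) t u).eq.symm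

theorem f4s36_40' (t u : K) (Z : GL chevF4.Idx K) : fX 40 u * (fX 36 t * Z) = fX 36 t * (fX 40 u * Z) := by
  rw [← mul_assoc, f4s36_40]; simp only [mul_assoc]

theorem f4s36_46 (t u : K) : fX 46 u * fX 36 t = fX 36 t * fX 46 u :=
  (fX_comm_nil 36 46 (by decide) (by decide) (by decide) (by decide) (by decide +kernel) t u).eq.symm

theorem f4s36_46' (t u : K) (Z : GL chevF4.Idx K) : fX 46 u * (fX 36 t * Z) = fX 36 t * (fX 46 u * Z) := by
  rw [← mul_assoc, f4s36_46]; simp only [mul_assoc]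

theorem f4s36_37 (t u : K) : fX 37 u * fX 36 t = fX 36 t * (fX 37 u * fX 44 (t * u)) :=
  fX_sw1 36 37 44 (1) (by decide) (by decide) (by decide) (by decide) (Or.inl rfl) (by decide +kernel) t u

theorem f4s36_37' (t u : K) (Z : GL chevF4.Idx K) : fX 37 u * (fX 36 t * Z) = fX 36 t * (fX 37 u * (fX 44 (t * u) * Z)) := by
  rw [← mul_assoc, f4s36_37]; simp only [mul_assoc]

theorem f4s36_32 (t u : K) : fX 32 u * fX 36 t = fX 36 t * fX 32 u :=
  (fX_comm_nil 36 32 (by decide) (by decide) (by decide) (by decide) (by decide +kernel) t u).eq.symm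

theorem f4s36_32' (t u : K) (Z : GL chevF4.Idx K) : fX 32 u * (fX 36 t * Z) = fX 36 t * (fX 32 u * Z) := by
  rw [← mul_assoc, f4s36_32]; simp only [mul_assoc]

theorem f4s36_27 (t u : K) : fX 27 u * fX 36 t = fX 36 t * (fX 27 u * fX 38 (t * u)) :=
  fX_sw1 36 27 38 (-1) (by decide) (by decide) (by decide) (by decide) (Or.inr rfl) (by decide +kernel) t u

theorem f4s36_27' (t u : K) (Z : GL chevF4.Idx K) : fX 27 u * (fX 36 t * Z) = fX 36 t * (fX 27 u * (fX 38 (t * u) * Z)) := by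
  rw [← mul_assoc, f4s36_27]; simp only [mul_assoc]

theorem f4s36_25 (t u : K) : fX 25 u * fX 36 t = fX 36 t * fX 25 u :=
  (fX_comm_nil 36 25 (by decide) (by decide) (by decide) (by decide) (by decide +kernel) t u).eq.symm

theorem f4s36_25' (t u : K) (Z : GL chevF4.Idx K) : fX 25 u * (fX 36 t * Z) = fX 36 t * (fX 25 u * Z) := by
  rw [← mul_assoc, f4s36_25]; simp only [mul_assoc]

theorem f4s36_28 (t u : K) : fX 28 u * fX 36 t = fX 36 t * (fX 28 u * fX 39 (t * u)) :=
  fX_sw1 36 28 39 (-1) (by decide) (by decide) (by decide) (by decide) (Or.inr rfl) (by decide +kernel) t u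

theorem f4s36_28' (t u : K) (Z : GL chevF4.Idx K) : fX 28 u * (fX 36 t * Z) = fX 36 t * (fX 28 u * (fX 39 (t * u) * Z)) := by
  rw [← mul_assoc, f4s36_28]; simp only [mul_assoc]

theorem f4s36_30 (t u : K) : fX 30 u * fX 36 t = fX 36 t * (fX 30 u * (fX 40 (t * u) * fX 47 (t ^ 2 * u))) :=
  fX_sw21 36 30 40 47 (-1) (-1) (by decide) (by decide) (by decide) (by decide) (Or.inr rfl) (Or.inr rfl) (by decide +kernel) t u

theorem f4s36_30' (t u : K) (Z : GL chevF4.Idx K) : fX 30 u * (fX 36 t * Z) = fX 36 t * (fX 30 u * (fX 40 (t * u) * (fX 47 (t ^ 2 * u) * Z))) := by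
  rw [← mul_assoc, f4s36_30]; simp only [mul_assoc]

theorem f4s42_38 (t u : K) : fX 38 u * fX 42 t = fX 42 t * fX 38 u :=
  (fX_comm_nil 42 38 (by decide) (by decide) (by decide) (by decide) (by decide +kernel) t u).eq.symm

theorem f4s42_38' (t u : K) (Z : GL chevF4.Idx K) : fX 38 u * (fX 42 t * Z) = fX 42 t * (fX 38 u * Z) := by
  rw [← mul_assoc, f4s42_38]; simp only [mul_assoc]

theorem f4s42_43 (t u : K) : fX 43 u * fX 42 t = fX 42 t * fX 43 u :=
  (fX_comm_nil 42 43 (by decide) (by decide) (by decide) (by decide) (by decide +kernel) t u).eq.symm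

theorem f4s42_43' (t u : K) (Z : GL chevF4.Idx K) : fX 43 u * (fX 42 t * Z) = fX 42 t * (fX 43 u * Z) := by
  rw [← mul_assoc, f4s42_43]; simp only [mul_assoc]

theorem f4s42_29 (t u : K) : fX 29 u * fX 42 t = fX 42 t * fX 29 u :=
  (fX_comm_nil 42 29 (by decide) (by decide) (by decide) (by decide) (by decide +kernel) t u).eq.symm

theorem f4s42_29' (t u : K) (Z : GL chevF4.Idx K) : fX 29 u * (fX 42 t * Z) = fX 42 t * (fX 29 u * Z) := by
  rw [← mul_assoc, f4s42_29]; simp only [mul_assoc]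

theorem f4s42_41 (t u : K) : fX 41 u * fX 42 t = fX 42 t * fX 41 u :=
  (fX_comm_nil 42 41 (by decide) (by decide) (by decide) (by decide) (by decide +kernel) t u).eq.symm

theorem f4s42_41' (t u : K) (Z : GL chevF4.Idx K) : fX 41 u * (fX 42 t * Z) = fX 42 t * (fX 41 u * Z) := by
  rw [← mul_assoc, f4s42_41]; simp only [mul_assoc]

theorem f4s42_44 (t u : K) : fX 44 u * fX 42 t = fX 42 t * fX 44 u :=
  (fX_comm_nil 42 44 (by decide) (by decide) (by decide) (by decide) (by decide +kernel) t u).eq.symm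

theorem f4s42_44' (t u : K) (Z : GL chevF4.Idx K) : fX 44 u * (fX 42 t * Z) = fX 42 t * (fX 44 u * Z) := by
  rw [← mul_assoc, f4s42_44]; simp only [mul_assoc]

theorem f4s42_47 (t u : K) : fX 47 u * fX 42 t = fX 42 t * fX 47 u :=
  (fX_comm_nil 42 47 (by decide) (by decide) (by decide) (by decide) (by decide +kernel) t u).eq.symm

theorem f4s42_47' (t u : K) (Z : GL chevF4.Idx K) : fX 47 u * (fX 42 t * Z) = fX 42 t * (fX 47 u * Z) := by
  rw [← mul_assoc, f4s42_47]; simp only [mul_assoc]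

theorem f4s42_39 (t u : K) : fX 39 u * fX 42 t = fX 42 t * fX 39 u :=
  (fX_comm_nil 42 39 (by decide) (by decide) (by decide) (by decide) (by decide +kernel) t u).eq.symm

theorem f4s42_39' (t u : K) (Z : GL chevF4.Idx K) : fX 39 u * (fX 42 t * Z) = fX 42 t * (fX 39 u * Z) := by
  rw [← mul_assoc, f4s42_39]; simp only [mul_assoc]

theorem f4s42_45 (t u : K) : fX 45 u * fX 42 t = fX 42 t * fX 45 u :=
  (fX_comm_nil 42 45 (by decide) (by decide) (by decide) (by decide) (by decide +kernel) t u).eq.symm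

theorem f4s42_45' (t u : K) (Z : GL chevF4.Idx K) : fX 45 u * (fX 42 t * Z) = fX 42 t * (fX 45 u * Z) := by
  rw [← mul_assoc, f4s42_45]; simp only [mul_assoc]

theorem f4s42_35 (t u : K) : fX 35 u * fX 42 t = fX 42 t * fX 35 u :=
  (fX_comm_nil 42 35 (by decide) (by decide) (by decide) (by decide) (by decide +kernel) t u).eq.symm

theorem f4s42_35' (t u : K) (Z : GL chevF4.Idx K) : fX 35 u * (fX 42 t * Z) = fX 42 t * (fX 35 u * Z) := by
  rw [← mul_assoc, f4s42_35]; simp only [mul_assoc]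

theorem f4s42_31 (t u : K) : fX 31 u * fX 42 t = fX 42 t * fX 31 u :=
  (fX_comm_nil 42 31 (by decide) (by decide) (by decide) (by decide) (by decide +kernel) t u).eq.symm

theorem f4s42_31' (t u : K) (Z : GL chevF4.Idx K) : fX 31 u * (fX 42 t * Z) = fX 42 t * (fX 31 u * Z) := by
  rw [← mul_assoc, f4s42_31]; simp only [mul_assoc]

theorem f4s42_40 (t u : K) : fX 40 u * fX 42 t = fX 42 t * fX 40 u :=
  (fX_comm_nil 42 40 (by decide) (by decide) (by decide) (by decide) (by decide +kernel) t u).eq.symm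

theorem f4s42_40' (t u : K) (Z : GL chevF4.Idx K) : fX 40 u * (fX 42 t * Z) = fX 42 t * (fX 40 u * Z) := by
  rw [← mul_assoc, f4s42_40]; simp only [mul_assoc]

theorem f4s42_46 (t u : K) : fX 46 u * fX 42 t = fX 42 t * fX 46 u :=
  (fX_comm_nil 42 46 (by decide) (by decide) (by decide) (by decide) (by decide +kernel) t u).eq.symm

theorem f4s42_46' (t u : K) (Z : GL chevF4.Idx K) : fX 46 u * (fX 42 t * Z) = fX 42 t * (fX 46 u * Z) := by
  rw [← mul_assoc, f4s42_46]; simp only [mul_assoc]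

theorem f4s42_37 (t u : K) : fX 37 u * fX 42 t = fX 42 t * fX 37 u :=
  (fX_comm_nil 42 37 (by decide) (by decide) (by decide) (by decide) (by decide +kernel) t u).eq.symm

theorem f4s42_37' (t u : K) (Z : GL chevF4.Idx K) : fX 37 u * (fX 42 t * Z) = fX 42 t * (fX 37 u * Z) := by
  rw [← mul_assoc, f4s42_37]; simp only [mul_assoc]

theorem f4s42_32 (t u : K) : fX 32 u * fX 42 t = fX 42 t * (fX 32 u * fX 47 (t * u)) :=
  fX_sw1 42 32 47 (-1) (by decide) (by decide) (by decide) (by decide) (Or.inr rfl) (by decide +kernel) t u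

theorem f4s42_32' (t u : K) (Z : GL chevF4.Idx K) : fX 32 u * (fX 42 t * Z) = fX 42 t * (fX 32 u * (fX 47 (t * u) * Z)) := by
  rw [← mul_assoc, f4s42_32]; simp only [mul_assoc]

theorem f4s42_27 (t u : K) : fX 27 u * fX 42 t = fX 42 t * fX 27 u :=
  (fX_comm_nil 42 27 (by decide) (by decide) (by decide) (by decide) (by decide +kernel) t u).eq.symm

theorem f4s42_27' (t u : K) (Z : GL chevF4.Idx K) : fX 27 u * (fX 42 t * Z) = fX 42 t * (fX 27 u * Z) := by
  rw [← mul_assoc, f4s42_27]; simp only [mul_assoc]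

theorem f4s42_25 (t u : K) : fX 25 u * fX 42 t = fX 42 t * (fX 25 u * fX 43 (t * u)) :=
  fX_sw1 42 25 43 (-1) (by decide) (by decide) (by decide) (by decide) (Or.inr rfl) (by decide +kernel) t u

theorem f4s42_25' (t u : K) (Z : GL chevF4.Idx K) : fX 25 u * (fX 42 t * Z) = fX 42 t * (fX 25 u * (fX 43 (t * u) * Z)) := by
  rw [← mul_assoc, f4s42_25]; simp only [mul_assoc]

theorem f4s42_28 (t u : K) : fX 28 u * fX 42 t = fX 42 t * (fX 28 u * (fX 44 (t * u) * fX 46 (t * u ^ 2))) :=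
  fX_sw12 42 28 44 46 (1) (-1) (by decide) (by decide) (by decide) (by decide) (Or.inl rfl) (Or.inr rfl) (by decide +kernel) t u

theorem f4s42_28' (t u : K) (Z : GL chevF4.Idx K) : fX 28 u * (fX 42 t * Z) = fX 42 t * (fX 28 u * (fX 44 (t * u) * (fX 46 (t * u ^ 2) * Z))) := by
  rw [← mul_assoc, f4s42_28]; simp only [mul_assoc]

theorem f4s42_30 (t u : K) : fX 30 u * fX 42 t = fX 42 t * (fX 30 u * fX 45 (t * u)) :=
  fX_sw1 42 30 45 (1) (by decide) (by decide) (by decide) (by decide) (Or.inl rfl) (by decide +kernel) t u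

theorem f4s42_30' (t u : K) (Z : GL chevF4.Idx K) : fX 30 u * (fX 42 t * Z) = fX 42 t * (fX 30 u * (fX 45 (t * u) * Z)) := by
  rw [← mul_assoc, f4s42_30]; simp only [mul_assoc]

theorem f4s38_43 (t u : K) : fX 43 u * fX 38 t = fX 38 t * fX 43 u :=
  (fX_comm_nil 38 43 (by decide) (by decide) (by decide) (by decide) (by decide +kernel) t u).eq.symm

theorem f4s38_43' (t u : K) (Z : GL chevF4.Idx K) : fX 43 u * (fX 38 t * Z) = fX 38 t * (fX 43 u * Z) := by
  rw [← mul_assoc, f4s38_43]; simp only [mul_assoc]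

theorem f4s38_29 (t u : K) : fX 29 u * fX 38 t = fX 38 t * fX 29 u :=
  (fX_comm_nil 38 29 (by decide) (by decide) (by decide) (by decide) (by decide +kernel) t u).eq.symm

theorem f4s38_29' (t u : K) (Z : GL chevF4.Idx K) : fX 29 u * (fX 38 t * Z) = fX 38 t * (fX 29 u * Z) := by
  rw [← mul_assoc, f4s38_29]; simp only [mul_assoc]

theorem f4s38_41 (t u : K) : fX 41 u * fX 38 t = fX 38 t * fX 41 u :=
  (fX_comm_nil 38 41 (by decide) (by decide) (by decide) (by decide) (by decide +kernel) t u).eq.symm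

theorem f4s38_41' (t u : K) (Z : GL chevF4.Idx K) : fX 41 u * (fX 38 t * Z) = fX 38 t * (fX 41 u * Z) := by
  rw [← mul_assoc, f4s38_41]; simp only [mul_assoc]

theorem f4s38_44 (t u : K) : fX 44 u * fX 38 t = fX 38 t * fX 44 u :=
  (fX_comm_nil 38 44 (by decide) (by decide) (by decide) (by decide) (by decide +kernel) t u).eq.symm

theorem f4s38_44' (t u : K) (Z : GL chevF4.Idx K) : fX 44 u * (fX 38 t * Z) = fX 38 t * (fX 44 u * Z) := by
  rw [← mul_assoc, f4s38_44]; simp only [mul_assoc]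

theorem f4s38_47 (t u : K) : fX 47 u * fX 38 t = fX 38 t * fX 47 u :=
  (fX_comm_nil 38 47 (by decide) (by decide) (by decide) (by decide) (by decide +kernel) t u).eq.symm

theorem f4s38_47' (t u : K) (Z : GL chevF4.Idx K) : fX 47 u * (fX 38 t * Z) = fX 38 t * (fX 47 u * Z) := by
  rw [← mul_assoc, f4s38_47]; simp only [mul_assoc]

theorem f4s38_39 (t u : K) : fX 39 u * fX 38 t = fX 38 t * fX 39 u :=
  (fX_comm_two 38 39 47 (-2) (by decide) (by decide) (by decide) (by decide) (Or.inr rfl) (by decide +kernel) t u).eq.symm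

theorem f4s38_39' (t u : K) (Z : GL chevF4.Idx K) : fX 39 u * (fX 38 t * Z) = fX 38 t * (fX 39 u * Z) := by
  rw [← mul_assoc, f4s38_39]; simp only [mul_assoc]

theorem f4s38_45 (t u : K) : fX 45 u * fX 38 t = fX 38 t * fX 45 u :=
  (fX_comm_nil 38 45 (by decide) (by decide) (by decide) (by decide) (by decide +kernel) t u).eq.symm

theorem f4s38_45' (t u : K) (Z : GL chevF4.Idx K) : fX 45 u * (fX 38 t * Z) = fX 38 t * (fX 45 u * Z) := by
  rw [← mul_assoc, f4s38_45]; simp only [mul_assoc]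

theorem f4s38_35 (t u : K) : fX 35 u * fX 38 t = fX 38 t * (fX 35 u * fX 44 (t * u)) :=
  fX_sw1 38 35 44 (1) (by decide) (by decide) (by decide) (by decide) (Or.inl rfl) (by decide +kernel) t u

theorem f4s38_35' (t u : K) (Z : GL chevF4.Idx K) : fX 35 u * (fX 38 t * Z) = fX 38 t * (fX 35 u * (fX 44 (t * u) * Z)) := by
  rw [← mul_assoc, f4s38_35]; simp only [mul_assoc]

theorem f4s38_31 (t u : K) : fX 31 u * fX 38 t = fX 38 t * fX 31 u :=
  (fX_comm_nil 38 31 (by decide) (by decide) (by decide) (by decide) (by decide +kernel) t u).eq.symm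

theorem f4s38_31' (t u : K) (Z : GL chevF4.Idx K) : fX 31 u * (fX 38 t * Z) = fX 38 t * (fX 31 u * Z) := by
  rw [← mul_assoc, f4s38_31]; simp only [mul_assoc]

theorem f4s38_40 (t u : K) : fX 40 u * fX 38 t = fX 38 t * fX 40 u :=
  (fX_comm_nil 38 40 (by decide) (by decide) (by decide) (by decide) (by decide +kernel) t u).eq.symm

theorem f4s38_40' (t u : K) (Z : GL chevF4.Idx K) : fX 40 u * (fX 38 t * Z) = fX 38 t * (fX 40 u * Z) := by
  rw [← mul_assoc, f4s38_40]; simp only [mul_assoc]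

theorem f4s38_46 (t u : K) : fX 46 u * fX 38 t = fX 38 t * fX 46 u :=
  (fX_comm_nil 38 46 (by decide) (by decide) (by decide) (by decide) (by decide +kernel) t u).eq.symm

theorem f4s38_46' (t u : K) (Z : GL chevF4.Idx K) : fX 46 u * (fX 38 t * Z) = fX 38 t * (fX 46 u * Z) := by
  rw [← mul_assoc, f4s38_46]; simp only [mul_assoc]

theorem f4s38_37 (t u : K) : fX 37 u * fX 38 t = fX 38 t * fX 37 u :=
  (fX_comm_two 38 37 45 (2) (by decide) (by decide) (by decide) (by decide) (Or.inl rfl) (by decide +kernel) t u).eq.symm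

theorem f4s38_37' (t u : K) (Z : GL chevF4.Idx K) : fX 37 u * (fX 38 t * Z) = fX 38 t * (fX 37 u * Z) := by
  rw [← mul_assoc, f4s38_37]; simp only [mul_assoc]

theorem f4s38_32 (t u : K) : fX 32 u * fX 38 t = fX 38 t * fX 32 u :=
  (fX_comm_nil 38 32 (by decide) (by decide) (by decide) (by decide) (by decide +kernel) t u).eq.symm

theorem f4s38_32' (t u : K) (Z : GL chevF4.Idx K) : fX 32 u * (fX 38 t * Z) = fX 38 t * (fX 32 u * Z) := by
  rw [← mul_assoc, f4s38_32]; simp only [mul_assoc]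

theorem f4s38_27 (t u : K) : fX 27 u * fX 38 t = fX 38 t * fX 27 u :=
  (fX_comm_nil 38 27 (by decide) (by decide) (by decide) (by decide) (by decide +kernel) t u).eq.symm

theorem f4s38_27' (t u : K) (Z : GL chevF4.Idx K) : fX 27 u * (fX 38 t * Z) = fX 38 t * (fX 27 u * Z) := by
  rw [← mul_assoc, f4s38_27]; simp only [mul_assoc]

theorem f4s38_25 (t u : K) : fX 25 u * fX 38 t = fX 38 t * (fX 25 u * (fX 39 (t * u) * fX 47 (t ^ 2 * u))) :=
  fX_sw21 38 25 39 47 (-1) (1) (by decide) (by decide) (by decide) (by decide) (Or.inr rfl) (Or.inl rfl) (by decide +kernel) t u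

theorem f4s38_25' (t u : K) (Z : GL chevF4.Idx K) : fX 25 u * (fX 38 t * Z) = fX 38 t * (fX 25 u * (fX 39 (t * u) * (fX 47 (t ^ 2 * u) * Z))) := by
  rw [← mul_assoc, f4s38_25]; simp only [mul_assoc]

theorem f4s38_28 (t u : K) : fX 28 u * fX 38 t = fX 38 t * (fX 28 u * fX 40 (t * u)) :=
  fX_sw1 38 28 40 (1) (by decide) (by decide) (by decide) (by decide) (Or.inl rfl) (by decide +kernel) t u

theorem f4s38_28' (t u : K) (Z : GL chevF4.Idx K) : fX 28 u * (fX 38 t * Z) = fX 38 t * (fX 28 u * (fX 40 (t * u) * Z)) := by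
  rw [← mul_assoc, f4s38_28]; simp only [mul_assoc]

theorem f4s38_30 (t u : K) : fX 30 u * fX 38 t = fX 38 t * fX 30 u :=
  (fX_comm_nil 38 30 (by decide) (by decide) (by decide) (by decide) (by decide +kernel) t u).eq.symm

theorem f4s38_30' (t u : K) (Z : GL chevF4.Idx K) : fX 30 u * (fX 38 t * Z) = fX 38 t * (fX 30 u * Z) := by
  rw [← mul_assoc, f4s38_30]; simp only [mul_assoc]

theorem f4s43_29 (t u : K) : fX 29 u * fX 43 t = fX 43 t * fX 29 u :=
  (fX_comm_nil 43 29 (by decide) (by decide) (by decide) (by decide) (by decide +kernel) t u).eq.symm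

theorem f4s43_29' (t u : K) (Z : GL chevF4.Idx K) : fX 29 u * (fX 43 t * Z) = fX 43 t * (fX 29 u * Z) := by
  rw [← mul_assoc, f4s43_29]; simp only [mul_assoc]

theorem f4s43_41 (t u : K) : fX 41 u * fX 43 t = fX 43 t * fX 41 u :=
  (fX_comm_nil 43 41 (by decide) (by decide) (by decide) (by decide) (by decide +kernel) t u).eq.symm

theorem f4s43_41' (t u : K) (Z : GL chevF4.Idx K) : fX 41 u * (fX 43 t * Z) = fX 43 t * (fX 41 u * Z) := by
  rw [← mul_assoc, f4s43_41]; simp only [mul_assoc]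

theorem f4s43_44 (t u : K) : fX 44 u * fX 43 t = fX 43 t * fX 44 u :=
  (fX_comm_nil 43 44 (by decide) (by decide) (by decide) (by decide) (by decide +kernel) t u).eq.symm

theorem f4s43_44' (t u : K) (Z : GL chevF4.Idx K) : fX 44 u * (fX 43 t * Z) = fX 43 t * (fX 44 u * Z) := by
  rw [← mul_assoc, f4s43_44]; simp only [mul_assoc]

theorem f4s43_47 (t u : K) : fX 47 u * fX 43 t = fX 43 t * fX 47 u :=
  (fX_comm_nil 43 47 (by decide) (by decide) (by decide) (by decide) (by decide +kernel) t u).eq.symm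

theorem f4s43_47' (t u : K) (Z : GL chevF4.Idx K) : fX 47 u * (fX 43 t * Z) = fX 43 t * (fX 47 u * Z) := by
  rw [← mul_assoc, f4s43_47]; simp only [mul_assoc]

theorem f4s43_39 (t u : K) : fX 39 u * fX 43 t = fX 43 t * fX 39 u :=
  (fX_comm_nil 43 39 (by decide) (by decide) (by decide) (by decide) (by decide +kernel) t u).eq.symm

theorem f4s43_39' (t u : K) (Z : GL chevF4.Idx K) : fX 39 u * (fX 43 t * Z) = fX 43 t * (fX 39 u * Z) := by
  rw [← mul_assoc, f4s43_39]; simp only [mul_assoc]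

theorem f4s43_45 (t u : K) : fX 45 u * fX 43 t = fX 43 t * fX 45 u :=
  (fX_comm_nil 43 45 (by decide) (by decide) (by decide) (by decide) (by decide +kernel) t u).eq.symm

theorem f4s43_45' (t u : K) (Z : GL chevF4.Idx K) : fX 45 u * (fX 43 t * Z) = fX 43 t * (fX 45 u * Z) := by
  rw [← mul_assoc, f4s43_45]; simp only [mul_assoc]

theorem f4s43_35 (t u : K) : fX 35 u * fX 43 t = fX 43 t * fX 35 u :=
  (fX_comm_nil 43 35 (by decide) (by decide) (by decide) (by decide) (by decide +kernel) t u).eq.symm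

theorem f4s43_35' (t u : K) (Z : GL chevF4.Idx K) : fX 35 u * (fX 43 t * Z) = fX 43 t * (fX 35 u * Z) := by
  rw [← mul_assoc, f4s43_35]; simp only [mul_assoc]

theorem f4s43_31 (t u : K) : fX 31 u * fX 43 t = fX 43 t * (fX 31 u * fX 47 (t * u)) :=
  fX_sw1 43 31 47 (1) (by decide) (by decide) (by decide) (by decide) (Or.inl rfl) (by decide +kernel) t u

theorem f4s43_31' (t u : K) (Z : GL chevF4.Idx K) : fX 31 u * (fX 43 t * Z) = fX 43 t * (fX 31 u * (fX 47 (t * u) * Z)) := by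
  rw [← mul_assoc, f4s43_31]; simp only [mul_assoc]

theorem f4s43_40 (t u : K) : fX 40 u * fX 43 t = fX 43 t * fX 40 u :=
  (fX_comm_nil 43 40 (by decide) (by decide) (by decide) (by decide) (by decide +kernel) t u).eq.symm

theorem f4s43_40' (t u : K) (Z : GL chevF4.Idx K) : fX 40 u * (fX 43 t * Z) = fX 43 t * (fX 40 u * Z) := by
  rw [← mul_assoc, f4s43_40]; simp only [mul_assoc]

theorem f4s43_46 (t u : K) : fX 46 u * fX 43 t = fX 43 t * fX 46 u :=
  (fX_comm_nil 43 46 (by decide) (by decide) (by decide) (by decide) (by decide +kernel) t u).eq.symm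

theorem f4s43_46' (t u : K) (Z : GL chevF4.Idx K) : fX 46 u * (fX 43 t * Z) = fX 43 t * (fX 46 u * Z) := by
  rw [← mul_assoc, f4s43_46]; simp only [mul_assoc]

theorem f4s43_37 (t u : K) : fX 37 u * fX 43 t = fX 43 t * fX 37 u :=
  (fX_comm_nil 43 37 (by decide) (by decide) (by decide) (by decide) (by decide +kernel) t u).eq.symm

theorem f4s43_37' (t u : K) (Z : GL chevF4.Idx K) : fX 37 u * (fX 43 t * Z) = fX 43 t * (fX 37 u * Z) := by
  rw [← mul_assoc, f4s43_37]; simp only [mul_assoc]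

theorem f4s43_32 (t u : K) : fX 32 u * fX 43 t = fX 43 t * fX 32 u :=
  (fX_comm_nil 43 32 (by decide) (by decide) (by decide) (by decide) (by decide +kernel) t u).eq.symm

theorem f4s43_32' (t u : K) (Z : GL chevF4.Idx K) : fX 32 u * (fX 43 t * Z) = fX 43 t * (fX 32 u * Z) := by
  rw [← mul_assoc, f4s43_32]; simp only [mul_assoc]

theorem f4s43_27 (t u : K) : fX 27 u * fX 43 t = fX 43 t * (fX 27 u * (fX 44 (t * u) * fX 45 (t * u ^ 2))) :=
  fX_sw12 43 27 44 45 (-1) (1) (by decide) (by decide) (by decide) (by decide) (Or.inr rfl) (Or.inl rfl) (by decide +kernel) t u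

theorem f4s43_27' (t u : K) (Z : GL chevF4.Idx K) : fX 27 u * (fX 43 t * Z) = fX 43 t * (fX 27 u * (fX 44 (t * u) * (fX 45 (t * u ^ 2) * Z))) := by
  rw [← mul_assoc, f4s43_27]; simp only [mul_assoc]

theorem f4s43_25 (t u : K) : fX 25 u * fX 43 t = fX 43 t * fX 25 u :=
  (fX_comm_nil 43 25 (by decide) (by decide) (by decide) (by decide) (by decide +kernel) t u).eq.symm

theorem f4s43_25' (t u : K) (Z : GL chevF4.Idx K) : fX 25 u * (fX 43 t * Z) = fX 43 t * (fX 25 u * Z) := by
  rw [← mul_assoc, f4s43_25]; simp only [mul_assoc]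

theorem f4s43_28 (t u : K) : fX 28 u * fX 43 t = fX 43 t * fX 28 u :=
  (fX_comm_nil 43 28 (by decide) (by decide) (by decide) (by decide) (by decide +kernel) t u).eq.symm

theorem f4s43_28' (t u : K) (Z : GL chevF4.Idx K) : fX 28 u * (fX 43 t * Z) = fX 43 t * (fX 28 u * Z) := by
  rw [← mul_assoc, f4s43_28]; simp only [mul_assoc]

theorem f4s43_30 (t u : K) : fX 30 u * fX 43 t = fX 43 t * (fX 30 u * fX 46 (t * u)) :=
  fX_sw1 43 30 46 (1) (by decide) (by decide) (by decide) (by decide) (Or.inl rfl) (by decide +kernel) t u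

theorem f4s43_30' (t u : K) (Z : GL chevF4.Idx K) : fX 30 u * (fX 43 t * Z) = fX 43 t * (fX 30 u * (fX 46 (t * u) * Z)) := by
  rw [← mul_assoc, f4s43_30]; simp only [mul_assoc]

theorem f4s29_41 (t u : K) : fX 41 u * fX 29 t = fX 29 t * (fX 41 u * (fX 44 (t * u) * fX 47 (t ^ 2 * u))) :=
  fX_sw21 29 41 44 47 (1) (1) (by decide) (by decide) (by decide) (by decide) (Or.inl rfl) (Or.inl rfl) (by decide +kernel) t u

theorem f4s29_41' (t u : K) (Z : GL chevF4.Idx K) : fX 41 u * (fX 29 t * Z) = fX 29 t * (fX 41 u * (fX 44 (t * u) * (fX 47 (t ^ 2 * u) * Z))) := by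
  rw [← mul_assoc, f4s29_41]; simp only [mul_assoc]

theorem f4s29_44 (t u : K) : fX 44 u * fX 29 t = fX 29 t * fX 44 u :=
  (fX_comm_two 29 44 47 (2) (by decide) (by decide) (by decide) (by decide) (Or.inl rfl) (by decide +kernel) t u).eq.symm

theorem f4s29_44' (t u : K) (Z : GL chevF4.Idx K) : fX 44 u * (fX 29 t * Z) = fX 29 t * (fX 44 u * Z) := by
  rw [← mul_assoc, f4s29_44]; simp only [mul_assoc]

theorem f4s29_47 (t u : K) : fX 47 u * fX 29 t = fX 29 t * fX 47 u :=
  (fX_comm_nil 29 47 (by decide) (by decide) (by decide) (by decide) (by decide +kernel) t u).eq.symm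

theorem f4s29_47' (t u : K) (Z : GL chevF4.Idx K) : fX 47 u * (fX 29 t * Z) = fX 29 t * (fX 47 u * Z) := by
  rw [← mul_assoc, f4s29_47]; simp only [mul_assoc]

theorem f4s29_39 (t u : K) : fX 39 u * fX 29 t = fX 29 t * fX 39 u :=
  (fX_comm_nil 29 39 (by decide) (by decide) (by decide) (by decide) (by decide +kernel) t u).eq.symm

theorem f4s29_39' (t u : K) (Z : GL chevF4.Idx K) : fX 39 u * (fX 29 t * Z) = fX 29 t * (fX 39 u * Z) := by
  rw [← mul_assoc, f4s29_39]; simp only [mul_assoc]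

theorem f4s29_45 (t u : K) : fX 45 u * fX 29 t = fX 29 t * fX 45 u :=
  (fX_comm_nil 29 45 (by decide) (by decide) (by decide) (by decide) (by decide +kernel) t u).eq.symm

theorem f4s29_45' (t u : K) (Z : GL chevF4.Idx K) : fX 45 u * (fX 29 t * Z) = fX 29 t * (fX 45 u * Z) := by
  rw [← mul_assoc, f4s29_45]; simp only [mul_assoc]

theorem f4s29_35 (t u : K) : fX 35 u * fX 29 t = fX 29 t * (fX 35 u * fX 39 (t * u)) :=
  fX_sw1 29 35 39 (-1) (by decide) (by decide) (by decide) (by decide) (Or.inr rfl) (by decide +kernel) t u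

theorem f4s29_35' (t u : K) (Z : GL chevF4.Idx K) : fX 35 u * (fX 29 t * Z) = fX 29 t * (fX 35 u * (fX 39 (t * u) * Z)) := by
  rw [← mul_assoc, f4s29_35]; simp only [mul_assoc]

theorem f4s29_31 (t u : K) : fX 31 u * fX 29 t = fX 29 t * fX 31 u :=
  (fX_comm_nil 29 31 (by decide) (by decide) (by decide) (by decide) (by decide +kernel) t u).eq.symm

theorem f4s29_31' (t u : K) (Z : GL chevF4.Idx K) : fX 31 u * (fX 29 t * Z) = fX 29 t * (fX 31 u * Z) := by
  rw [← mul_assoc, f4s29_31]; simp only [mul_assoc]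

theorem f4s29_40 (t u : K) : fX 40 u * fX 29 t = fX 29 t * fX 40 u :=
  (fX_comm_nil 29 40 (by decide) (by decide) (by decide) (by decide) (by decide +kernel) t u).eq.symm

theorem f4s29_40' (t u : K) (Z : GL chevF4.Idx K) : fX 40 u * (fX 29 t * Z) = fX 29 t * (fX 40 u * Z) := by
  rw [← mul_assoc, f4s29_40]; simp only [mul_assoc]

theorem f4s29_46 (t u : K) : fX 46 u * fX 29 t = fX 29 t * fX 46 u :=
  (fX_comm_nil 29 46 (by decide) (by decide) (by decide) (by decide) (by decide +kernel) t u).eq.symm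

theorem f4s29_46' (t u : K) (Z : GL chevF4.Idx K) : fX 46 u * (fX 29 t * Z) = fX 29 t * (fX 46 u * Z) := by
  rw [← mul_assoc, f4s29_46]; simp only [mul_assoc]

theorem f4s29_37 (t u : K) : fX 37 u * fX 29 t = fX 29 t * (fX 37 u * fX 40 (t * u)) :=
  fX_sw1 29 37 40 (1) (by decide) (by decide) (by decide) (by decide) (Or.inl rfl) (by decide +kernel) t u

theorem f4s29_37' (t u : K) (Z : GL chevF4.Idx K) : fX 37 u * (fX 29 t * Z) = fX 29 t * (fX 37 u * (fX 40 (t * u) * Z)) := by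
  rw [← mul_assoc, f4s29_37]; simp only [mul_assoc]

theorem f4s29_32 (t u : K) : fX 32 u * fX 29 t = fX 29 t * fX 32 u :=
  (fX_comm_nil 29 32 (by decide) (by decide) (by decide) (by decide) (by decide +kernel) t u).eq.symm

theorem f4s29_32' (t u : K) (Z : GL chevF4.Idx K) : fX 32 u * (fX 29 t * Z) = fX 29 t * (fX 32 u * Z) := by
  rw [← mul_assoc, f4s29_32]; simp only [mul_assoc]

theorem f4s29_27 (t u : K) : fX 27 u * fX 29 t = fX 29 t * fX 27 u :=
  (fX_comm_two 29 27 31 (-2) (by decide) (by decide) (by decide) (by decide) (Or.inr rfl) (by decide +kernel) t u).eq.symm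

theorem f4s29_27' (t u : K) (Z : GL chevF4.Idx K) : fX 27 u * (fX 29 t * Z) = fX 29 t * (fX 27 u * Z) := by
  rw [← mul_assoc, f4s29_27]; simp only [mul_assoc]

theorem f4s29_25 (t u : K) : fX 25 u * fX 29 t = fX 29 t * fX 25 u :=
  (fX_comm_nil 29 25 (by decide) (by decide) (by decide) (by decide) (by decide +kernel) t u).eq.symm

theorem f4s29_25' (t u : K) (Z : GL chevF4.Idx K) : fX 25 u * (fX 29 t * Z) = fX 29 t * (fX 25 u * Z) := by
  rw [← mul_assoc, f4s29_25]; simp only [mul_assoc]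

theorem f4s29_28 (t u : K) : fX 28 u * fX 29 t = fX 29 t * fX 28 u :=
  (fX_comm_two 29 28 32 (-2) (by decide) (by decide) (by decide) (by decide) (Or.inr rfl) (by decide +kernel) t u).eq.symm

theorem f4s29_28' (t u : K) (Z : GL chevF4.Idx K) : fX 28 u * (fX 29 t * Z) = fX 29 t * (fX 28 u * Z) := by
  rw [← mul_assoc, f4s29_28]; simp only [mul_assoc]

theorem f4s29_30 (t u : K) : fX 30 u * fX 29 t = fX 29 t * fX 30 u :=
  (fX_comm_nil 29 30 (by decide) (by decide) (by decide) (by decide) (by decide +kernel) t u).eq.symm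

theorem f4s29_30' (t u : K) (Z : GL chevF4.Idx K) : fX 30 u * (fX 29 t * Z) = fX 29 t * (fX 30 u * Z) := by
  rw [← mul_assoc, f4s29_30]; simp only [mul_assoc]

theorem f4s41_44 (t u : K) : fX 44 u * fX 41 t = fX 41 t * fX 44 u :=
  (fX_comm_nil 41 44 (by decide) (by decide) (by decide) (by decide) (by decide +kernel) t u).eq.symm

theorem f4s41_44' (t u : K) (Z : GL chevF4.Idx K) : fX 44 u * (fX 41 t * Z) = fX 41 t * (fX 44 u * Z) := by
  rw [← mul_assoc, f4s41_44]; simp only [mul_assoc]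

theorem f4s41_47 (t u : K) : fX 47 u * fX 41 t = fX 41 t * fX 47 u :=
  (fX_comm_nil 41 47 (by decide) (by decide) (by decide) (by decide) (by decide +kernel) t u).eq.symm

theorem f4s41_47' (t u : K) (Z : GL chevF4.Idx K) : fX 47 u * (fX 41 t * Z) = fX 41 t * (fX 47 u * Z) := by
  rw [← mul_assoc, f4s41_47]; simp only [mul_assoc]

theorem f4s41_39 (t u : K) : fX 39 u * fX 41 t = fX 41 t * fX 39 u :=
  (fX_comm_nil 41 39 (by decide) (by decide) (by decide) (by decide) (by decide +kernel) t u).eq.symm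

theorem f4s41_39' (t u : K) (Z : GL chevF4.Idx K) : fX 39 u * (fX 41 t * Z) = fX 41 t * (fX 39 u * Z) := by
  rw [← mul_assoc, f4s41_39]; simp only [mul_assoc]

theorem f4s41_45 (t u : K) : fX 45 u * fX 41 t = fX 41 t * fX 45 u :=
  (fX_comm_nil 41 45 (by decide) (by decide) (by decide) (by decide) (by decide +kernel) t u).eq.symm

theorem f4s41_45' (t u : K) (Z : GL chevF4.Idx K) : fX 45 u * (fX 41 t * Z) = fX 41 t * (fX 45 u * Z) := by
  rw [← mul_assoc, f4s41_45]; simp only [mul_assoc]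

theorem f4s41_35 (t u : K) : fX 35 u * fX 41 t = fX 41 t * fX 35 u :=
  (fX_comm_nil 41 35 (by decide) (by decide) (by decide) (by decide) (by decide +kernel) t u).eq.symm

theorem f4s41_35' (t u : K) (Z : GL chevF4.Idx K) : fX 35 u * (fX 41 t * Z) = fX 41 t * (fX 35 u * Z) := by
  rw [← mul_assoc, f4s41_35]; simp only [mul_assoc]

theorem f4s41_31 (t u : K) : fX 31 u * fX 41 t = fX 41 t * (fX 31 u * fX 45 (t * u)) :=
  fX_sw1 41 31 45 (-1) (by decide) (by decide) (by decide) (by decide) (Or.inr rfl) (by decide +kernel) t u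

theorem f4s41_31' (t u : K) (Z : GL chevF4.Idx K) : fX 31 u * (fX 41 t * Z) = fX 41 t * (fX 31 u * (fX 45 (t * u) * Z)) := by
  rw [← mul_assoc, f4s41_31]; simp only [mul_assoc]

theorem f4s41_40 (t u : K) : fX 40 u * fX 41 t = fX 41 t * fX 40 u :=
  (fX_comm_nil 41 40 (by decide) (by decide) (by decide) (by decide) (by decide +kernel) t u).eq.symm

theorem f4s41_40' (t u : K) (Z : GL chevF4.Idx K) : fX 40 u * (fX 41 t * Z) = fX 41 t * (fX 40 u * Z) := by
  rw [← mul_assoc, f4s41_40]; simp only [mul_assoc]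

theorem f4s41_46 (t u : K) : fX 46 u * fX 41 t = fX 41 t * fX 46 u :=
  (fX_comm_nil 41 46 (by decide) (by decide) (by decide) (by decide) (by decide +kernel) t u).eq.symm

theorem f4s41_46' (t u : K) (Z : GL chevF4.Idx K) : fX 46 u * (fX 41 t * Z) = fX 41 t * (fX 46 u * Z) := by
  rw [← mul_assoc, f4s41_46]; simp only [mul_assoc]

theorem f4s41_37 (t u : K) : fX 37 u * fX 41 t = fX 41 t * fX 37 u :=
  (fX_comm_nil 41 37 (by decide) (by decide) (by decide) (by decide) (by decide +kernel) t u).eq.symm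

theorem f4s41_37' (t u : K) (Z : GL chevF4.Idx K) : fX 37 u * (fX 41 t * Z) = fX 41 t * (fX 37 u * Z) := by
  rw [← mul_assoc, f4s41_37]; simp only [mul_assoc]

theorem f4s41_32 (t u : K) : fX 32 u * fX 41 t = fX 41 t * (fX 32 u * fX 46 (t * u)) :=
  fX_sw1 41 32 46 (-1) (by decide) (by decide) (by decide) (by decide) (Or.inr rfl) (by decide +kernel) t u

theorem f4s41_32' (t u : K) (Z : GL chevF4.Idx K) : fX 32 u * (fX 41 t * Z) = fX 41 t * (fX 32 u * (fX 46 (t * u) * Z)) := by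
  rw [← mul_assoc, f4s41_32]; simp only [mul_assoc]

theorem f4s41_27 (t u : K) : fX 27 u * fX 41 t = fX 41 t * fX 27 u :=
  (fX_comm_nil 41 27 (by decide) (by decide) (by decide) (by decide) (by decide +kernel) t u).eq.symm

theorem f4s41_27' (t u : K) (Z : GL chevF4.Idx K) : fX 27 u * (fX 41 t * Z) = fX 41 t * (fX 27 u * Z) := by
  rw [← mul_assoc, f4s41_27]; simp only [mul_assoc]

theorem f4s41_25 (t u : K) : fX 25 u * fX 41 t = fX 41 t * fX 25 u :=
  (fX_comm_nil 41 25 (by decide) (by decide) (by decide) (by decide) (by decide +kernel) t u).eq.symm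

theorem f4s41_25' (t u : K) (Z : GL chevF4.Idx K) : fX 25 u * (fX 41 t * Z) = fX 41 t * (fX 25 u * Z) := by
  rw [← mul_assoc, f4s41_25]; simp only [mul_assoc]

theorem f4s41_28 (t u : K) : fX 28 u * fX 41 t = fX 41 t * fX 28 u :=
  (fX_comm_nil 41 28 (by decide) (by decide) (by decide) (by decide) (by decide +kernel) t u).eq.symm

theorem f4s41_28' (t u : K) (Z : GL chevF4.Idx K) : fX 28 u * (fX 41 t * Z) = fX 41 t * (fX 28 u * Z) := by
  rw [← mul_assoc, f4s41_28]; simp only [mul_assoc]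

theorem f4s41_30 (t u : K) : fX 30 u * fX 41 t = fX 41 t * fX 30 u :=
  (fX_comm_nil 41 30 (by decide) (by decide) (by decide) (by decide) (by decide +kernel) t u).eq.symm

theorem f4s41_30' (t u : K) (Z : GL chevF4.Idx K) : fX 30 u * (fX 41 t * Z) = fX 41 t * (fX 30 u * Z) := by
  rw [← mul_assoc, f4s41_30]; simp only [mul_assoc]

theorem f4s44_47 (t u : K) : fX 47 u * fX 44 t = fX 44 t * fX 47 u :=
  (fX_comm_nil 44 47 (by decide) (by decide) (by decide) (by decide) (by decide +kernel) t u).eq.symm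

theorem f4s44_47' (t u : K) (Z : GL chevF4.Idx K) : fX 47 u * (fX 44 t * Z) = fX 44 t * (fX 47 u * Z) := by
  rw [← mul_assoc, f4s44_47]; simp only [mul_assoc]

theorem f4s44_39 (t u : K) : fX 39 u * fX 44 t = fX 44 t * fX 39 u :=
  (fX_comm_nil 44 39 (by decide) (by decide) (by decide) (by decide) (by decide +kernel) t u).eq.symm

theorem f4s44_39' (t u : K) (Z : GL chevF4.Idx K) : fX 39 u * (fX 44 t * Z) = fX 44 t * (fX 39 u * Z) := by
  rw [← mul_assoc, f4s44_39]; simp only [mul_assoc]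

theorem f4s44_45 (t u : K) : fX 45 u * fX 44 t = fX 44 t * fX 45 u :=
  (fX_comm_nil 44 45 (by decide) (by decide) (by decide) (by decide) (by decide +kernel) t u).eq.symm

theorem f4s44_45' (t u : K) (Z : GL chevF4.Idx K) : fX 45 u * (fX 44 t * Z) = fX 44 t * (fX 45 u * Z) := by
  rw [← mul_assoc, f4s44_45]; simp only [mul_assoc]

theorem f4s44_35 (t u : K) : fX 35 u * fX 44 t = fX 44 t * fX 35 u :=
  (fX_comm_nil 44 35 (by decide) (by decide) (by decide) (by decide) (by decide +kernel) t u).eq.symm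

theorem f4s44_35' (t u : K) (Z : GL chevF4.Idx K) : fX 35 u * (fX 44 t * Z) = fX 44 t * (fX 35 u * Z) := by
  rw [← mul_assoc, f4s44_35]; simp only [mul_assoc]

theorem f4s44_31 (t u : K) : fX 31 u * fX 44 t = fX 44 t * fX 31 u :=
  (fX_comm_nil 44 31 (by decide) (by decide) (by decide) (by decide) (by decide +kernel) t u).eq.symm

theorem f4s44_31' (t u : K) (Z : GL chevF4.Idx K) : fX 31 u * (fX 44 t * Z) = fX 44 t * (fX 31 u * Z) := by
  rw [← mul_assoc, f4s44_31]; simp only [mul_assoc]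

theorem f4s44_40 (t u : K) : fX 40 u * fX 44 t = fX 44 t * fX 40 u :=
  (fX_comm_nil 44 40 (by decide) (by decide) (by decide) (by decide) (by decide +kernel) t u).eq.symm

theorem f4s44_40' (t u : K) (Z : GL chevF4.Idx K) : fX 40 u * (fX 44 t * Z) = fX 44 t * (fX 40 u * Z) := by
  rw [← mul_assoc, f4s44_40]; simp only [mul_assoc]

theorem f4s44_46 (t u : K) : fX 46 u * fX 44 t = fX 44 t * fX 46 u :=
  (fX_comm_nil 44 46 (by decide) (by decide) (by decide) (by decide) (by decide +kernel) t u).eq.symm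

theorem f4s44_46' (t u : K) (Z : GL chevF4.Idx K) : fX 46 u * (fX 44 t * Z) = fX 44 t * (fX 46 u * Z) := by
  rw [← mul_assoc, f4s44_46]; simp only [mul_assoc]

theorem f4s44_37 (t u : K) : fX 37 u * fX 44 t = fX 44 t * fX 37 u :=
  (fX_comm_nil 44 37 (by decide) (by decide) (by decide) (by decide) (by decide +kernel) t u).eq.symm

theorem f4s44_37' (t u : K) (Z : GL chevF4.Idx K) : fX 37 u * (fX 44 t * Z) = fX 44 t * (fX 37 u * Z) := by
  rw [← mul_assoc, f4s44_37]; simp only [mul_assoc]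

theorem f4s44_32 (t u : K) : fX 32 u * fX 44 t = fX 44 t * fX 32 u :=
  (fX_comm_nil 44 32 (by decide) (by decide) (by decide) (by decide) (by decide +kernel) t u).eq.symm

theorem f4s44_32' (t u : K) (Z : GL chevF4.Idx K) : fX 32 u * (fX 44 t * Z) = fX 44 t * (fX 32 u * Z) := by
  rw [← mul_assoc, f4s44_32]; simp only [mul_assoc]

theorem f4s44_27 (t u : K) : fX 27 u * fX 44 t = fX 44 t * fX 27 u :=
  (fX_comm_two 44 27 45 (-2) (by decide) (by decide) (by decide) (by decide) (Or.inr rfl) (by decide +kernel) t u).eq.symm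

theorem f4s44_27' (t u : K) (Z : GL chevF4.Idx K) : fX 27 u * (fX 44 t * Z) = fX 44 t * (fX 27 u * Z) := by
  rw [← mul_assoc, f4s44_27]; simp only [mul_assoc]

theorem f4s44_25 (t u : K) : fX 25 u * fX 44 t = fX 44 t * fX 25 u :=
  (fX_comm_nil 44 25 (by decide) (by decide) (by decide) (by decide) (by decide +kernel) t u).eq.symm

theorem f4s44_25' (t u : K) (Z : GL chevF4.Idx K) : fX 25 u * (fX 44 t * Z) = fX 44 t * (fX 25 u * Z) := by
  rw [← mul_assoc, f4s44_25]; simp only [mul_assoc]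

theorem f4s44_28 (t u : K) : fX 28 u * fX 44 t = fX 44 t * fX 28 u :=
  (fX_comm_two 44 28 46 (-2) (by decide) (by decide) (by decide) (by decide) (Or.inr rfl) (by decide +kernel) t u).eq.symm

theorem f4s44_28' (t u : K) (Z : GL chevF4.Idx K) : fX 28 u * (fX 44 t * Z) = fX 44 t * (fX 28 u * Z) := by
  rw [← mul_assoc, f4s44_28]; simp only [mul_assoc]

theorem f4s44_30 (t u : K) : fX 30 u * fX 44 t = fX 44 t * fX 30 u :=
  (fX_comm_nil 44 30 (by decide) (by decide) (by decide) (by decide) (by decide +kernel) t u).eq.symm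

theorem f4s44_30' (t u : K) (Z : GL chevF4.Idx K) : fX 30 u * (fX 44 t * Z) = fX 44 t * (fX 30 u * Z) := by
  rw [← mul_assoc, f4s44_30]; simp only [mul_assoc]

theorem f4s47_39 (t u : K) : fX 39 u * fX 47 t = fX 47 t * fX 39 u :=
  (fX_comm_nil 47 39 (by decide) (by decide) (by decide) (by decide) (by decide +kernel) t u).eq.symm

theorem f4s47_39' (t u : K) (Z : GL chevF4.Idx K) : fX 39 u * (fX 47 t * Z) = fX 47 t * (fX 39 u * Z) := by
  rw [← mul_assoc, f4s47_39]; simp only [mul_assoc]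

theorem f4s47_45 (t u : K) : fX 45 u * fX 47 t = fX 47 t * fX 45 u :=
  (fX_comm_nil 47 45 (by decide) (by decide) (by decide) (by decide) (by decide +kernel) t u).eq.symm

theorem f4s47_45' (t u : K) (Z : GL chevF4.Idx K) : fX 45 u * (fX 47 t * Z) = fX 47 t * (fX 45 u * Z) := by
  rw [← mul_assoc, f4s47_45]; simp only [mul_assoc]

theorem f4s47_35 (t u : K) : fX 35 u * fX 47 t = fX 47 t * fX 35 u :=
  (fX_comm_nil 47 35 (by decide) (by decide) (by decide) (by decide) (by decide +kernel) t u).eq.symm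

theorem f4s47_35' (t u : K) (Z : GL chevF4.Idx K) : fX 35 u * (fX 47 t * Z) = fX 47 t * (fX 35 u * Z) := by
  rw [← mul_assoc, f4s47_35]; simp only [mul_assoc]

theorem f4s47_31 (t u : K) : fX 31 u * fX 47 t = fX 47 t * fX 31 u :=
  (fX_comm_nil 47 31 (by decide) (by decide) (by decide) (by decide) (by decide +kernel) t u).eq.symm

theorem f4s47_31' (t u : K) (Z : GL chevF4.Idx K) : fX 31 u * (fX 47 t * Z) = fX 47 t * (fX 31 u * Z) := by
  rw [← mul_assoc, f4s47_31]; simp only [mul_assoc]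

theorem f4s47_40 (t u : K) : fX 40 u * fX 47 t = fX 47 t * fX 40 u :=
  (fX_comm_nil 47 40 (by decide) (by decide) (by decide) (by decide) (by decide +kernel) t u).eq.symm

theorem f4s47_40' (t u : K) (Z : GL chevF4.Idx K) : fX 40 u * (fX 47 t * Z) = fX 47 t * (fX 40 u * Z) := by
  rw [← mul_assoc, f4s47_40]; simp only [mul_assoc]

theorem f4s47_46 (t u : K) : fX 46 u * fX 47 t = fX 47 t * fX 46 u :=
  (fX_comm_nil 47 46 (by decide) (by decide) (by decide) (by decide) (by decide +kernel) t u).eq.symm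

theorem f4s47_46' (t u : K) (Z : GL chevF4.Idx K) : fX 46 u * (fX 47 t * Z) = fX 47 t * (fX 46 u * Z) := by
  rw [← mul_assoc, f4s47_46]; simp only [mul_assoc]

theorem f4s47_37 (t u : K) : fX 37 u * fX 47 t = fX 47 t * fX 37 u :=
  (fX_comm_nil 47 37 (by decide) (by decide) (by decide) (by decide) (by decide +kernel) t u).eq.symm

theorem f4s47_37' (t u : K) (Z : GL chevF4.Idx K) : fX 37 u * (fX 47 t * Z) = fX 47 t * (fX 37 u * Z) := by
  rw [← mul_assoc, f4s47_37]; simp only [mul_assoc]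

theorem f4s47_32 (t u : K) : fX 32 u * fX 47 t = fX 47 t * fX 32 u :=
  (fX_comm_nil 47 32 (by decide) (by decide) (by decide) (by decide) (by decide +kernel) t u).eq.symm

theorem f4s47_32' (t u : K) (Z : GL chevF4.Idx K) : fX 32 u * (fX 47 t * Z) = fX 47 t * (fX 32 u * Z) := by
  rw [← mul_assoc, f4s47_32]; simp only [mul_assoc]

theorem f4s47_27 (t u : K) : fX 27 u * fX 47 t = fX 47 t * fX 27 u :=
  (fX_comm_nil 47 27 (by decide) (by decide) (by decide) (by decide) (by decide +kernel) t u).eq.symm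

theorem f4s47_27' (t u : K) (Z : GL chevF4.Idx K) : fX 27 u * (fX 47 t * Z) = fX 47 t * (fX 27 u * Z) := by
  rw [← mul_assoc, f4s47_27]; simp only [mul_assoc]

theorem f4s47_25 (t u : K) : fX 25 u * fX 47 t = fX 47 t * fX 25 u :=
  (fX_comm_nil 47 25 (by decide) (by decide) (by decide) (by decide) (by decide +kernel) t u).eq.symm

theorem f4s47_25' (t u : K) (Z : GL chevF4.Idx K) : fX 25 u * (fX 47 t * Z) = fX 47 t * (fX 25 u * Z) := by
  rw [← mul_assoc, f4s47_25]; simp only [mul_assoc]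

theorem f4s47_28 (t u : K) : fX 28 u * fX 47 t = fX 47 t * fX 28 u :=
  (fX_comm_nil 47 28 (by decide) (by decide) (by decide) (by decide) (by decide +kernel) t u).eq.symm

theorem f4s47_28' (t u : K) (Z : GL chevF4.Idx K) : fX 28 u * (fX 47 t * Z) = fX 47 t * (fX 28 u * Z) := by
  rw [← mul_assoc, f4s47_28]; simp only [mul_assoc]

theorem f4s47_30 (t u : K) : fX 30 u * fX 47 t = fX 47 t * fX 30 u :=
  (fX_comm_nil 47 30 (by decide) (by decide) (by decide) (by decide) (by decide +kernel) t u).eq.symm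

theorem f4s47_30' (t u : K) (Z : GL chevF4.Idx K) : fX 30 u * (fX 47 t * Z) = fX 47 t * (fX 30 u * Z) := by
  rw [← mul_assoc, f4s47_30]; simp only [mul_assoc]

theorem f4s39_45 (t u : K) : fX 45 u * fX 39 t = fX 39 t * fX 45 u :=
  (fX_comm_nil 39 45 (by decide) (by decide) (by decide) (by decide) (by decide +kernel) t u).eq.symm

theorem f4s39_45' (t u : K) (Z : GL chevF4.Idx K) : fX 45 u * (fX 39 t * Z) = fX 39 t * (fX 45 u * Z) := by
  rw [← mul_assoc, f4s39_45]; simp only [mul_assoc]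

theorem f4s39_35 (t u : K) : fX 35 u * fX 39 t = fX 39 t * fX 35 u :=
  (fX_comm_nil 39 35 (by decide) (by decide) (by decide) (by decide) (by decide +kernel) t u).eq.symm

theorem f4s39_35' (t u : K) (Z : GL chevF4.Idx K) : fX 35 u * (fX 39 t * Z) = fX 39 t * (fX 35 u * Z) := by
  rw [← mul_assoc, f4s39_35]; simp only [mul_assoc]

theorem f4s39_31 (t u : K) : fX 31 u * fX 39 t = fX 39 t * fX 31 u :=
  (fX_comm_nil 39 31 (by decide) (by decide) (by decide) (by decide) (by decide +kernel) t u).eq.symm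

theorem f4s39_31' (t u : K) (Z : GL chevF4.Idx K) : fX 31 u * (fX 39 t * Z) = fX 39 t * (fX 31 u * Z) := by
  rw [← mul_assoc, f4s39_31]; simp only [mul_assoc]

theorem f4s39_40 (t u : K) : fX 40 u * fX 39 t = fX 39 t * fX 40 u :=
  (fX_comm_nil 39 40 (by decide) (by decide) (by decide) (by decide) (by decide +kernel) t u).eq.symm

theorem f4s39_40' (t u : K) (Z : GL chevF4.Idx K) : fX 40 u * (fX 39 t * Z) = fX 39 t * (fX 40 u * Z) := by
  rw [← mul_assoc, f4s39_40]; simp only [mul_assoc]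

theorem f4s39_46 (t u : K) : fX 46 u * fX 39 t = fX 39 t * fX 46 u :=
  (fX_comm_nil 39 46 (by decide) (by decide) (by decide) (by decide) (by decide +kernel) t u).eq.symm

theorem f4s39_46' (t u : K) (Z : GL chevF4.Idx K) : fX 46 u * (fX 39 t * Z) = fX 39 t * (fX 46 u * Z) := by
  rw [← mul_assoc, f4s39_46]; simp only [mul_assoc]

theorem f4s39_37 (t u : K) : fX 37 u * fX 39 t = fX 39 t * fX 37 u :=
  (fX_comm_two 39 37 46 (2) (by decide) (by decide) (by decide) (by decide) (Or.inl rfl) (by decide +kernel) t u).eq.symm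

theorem f4s39_37' (t u : K) (Z : GL chevF4.Idx K) : fX 37 u * (fX 39 t * Z) = fX 39 t * (fX 37 u * Z) := by
  rw [← mul_assoc, f4s39_37]; simp only [mul_assoc]

theorem f4s39_32 (t u : K) : fX 32 u * fX 39 t = fX 39 t * fX 32 u :=
  (fX_comm_nil 39 32 (by decide) (by decide) (by decide) (by decide) (by decide +kernel) t u).eq.symm

theorem f4s39_32' (t u : K) (Z : GL chevF4.Idx K) : fX 32 u * (fX 39 t * Z) = fX 39 t * (fX 32 u * Z) := by
  rw [← mul_assoc, f4s39_32]; simp only [mul_assoc]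

theorem f4s39_27 (t u : K) : fX 27 u * fX 39 t = fX 39 t * (fX 27 u * fX 40 (t * u)) :=
  fX_sw1 39 27 40 (-1) (by decide) (by decide) (by decide) (by decide) (Or.inr rfl) (by decide +kernel) t u

theorem f4s39_27' (t u : K) (Z : GL chevF4.Idx K) : fX 27 u * (fX 39 t * Z) = fX 39 t * (fX 27 u * (fX 40 (t * u) * Z)) := by
  rw [← mul_assoc, f4s39_27]; simp only [mul_assoc]

theorem f4s39_25 (t u : K) : fX 25 u * fX 39 t = fX 39 t * fX 25 u :=
  (fX_comm_nil 39 25 (by decide) (by decide) (by decide) (by decide) (by decide +kernel) t u).eq.symm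

theorem f4s39_25' (t u : K) (Z : GL chevF4.Idx K) : fX 25 u * (fX 39 t * Z) = fX 39 t * (fX 25 u * Z) := by
  rw [← mul_assoc, f4s39_25]; simp only [mul_assoc]

theorem f4s39_28 (t u : K) : fX 28 u * fX 39 t = fX 39 t * fX 28 u :=
  (fX_comm_nil 39 28 (by decide) (by decide) (by decide) (by decide) (by decide +kernel) t u).eq.symm

theorem f4s39_28' (t u : K) (Z : GL chevF4.Idx K) : fX 28 u * (fX 39 t * Z) = fX 39 t * (fX 28 u * Z) := by
  rw [← mul_assoc, f4s39_28]; simp only [mul_assoc]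

theorem f4s39_30 (t u : K) : fX 30 u * fX 39 t = fX 39 t * fX 30 u :=
  (fX_comm_nil 39 30 (by decide) (by decide) (by decide) (by decide) (by decide +kernel) t u).eq.symm

theorem f4s39_30' (t u : K) (Z : GL chevF4.Idx K) : fX 30 u * (fX 39 t * Z) = fX 39 t * (fX 30 u * Z) := by
  rw [← mul_assoc, f4s39_30]; simp only [mul_assoc]

theorem f4s45_35 (t u : K) : fX 35 u * fX 45 t = fX 45 t * fX 35 u :=
  (fX_comm_nil 45 35 (by decide) (by decide) (by decide) (by decide) (by decide +kernel) t u).eq.symm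

theorem f4s45_35' (t u : K) (Z : GL chevF4.Idx K) : fX 35 u * (fX 45 t * Z) = fX 45 t * (fX 35 u * Z) := by
  rw [← mul_assoc, f4s45_35]; simp only [mul_assoc]

theorem f4s45_31 (t u : K) : fX 31 u * fX 45 t = fX 45 t * fX 31 u :=
  (fX_comm_nil 45 31 (by decide) (by decide) (by decide) (by decide) (by decide +kernel) t u).eq.symm

theorem f4s45_31' (t u : K) (Z : GL chevF4.Idx K) : fX 31 u * (fX 45 t * Z) = fX 45 t * (fX 31 u * Z) := by
  rw [← mul_assoc, f4s45_31]; simp only [mul_assoc]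

theorem f4s45_40 (t u : K) : fX 40 u * fX 45 t = fX 45 t * fX 40 u :=
  (fX_comm_nil 45 40 (by decide) (by decide) (by decide) (by decide) (by decide +kernel) t u).eq.symm

theorem f4s45_40' (t u : K) (Z : GL chevF4.Idx K) : fX 40 u * (fX 45 t * Z) = fX 45 t * (fX 40 u * Z) := by
  rw [← mul_assoc, f4s45_40]; simp only [mul_assoc]

theorem f4s45_46 (t u : K) : fX 46 u * fX 45 t = fX 45 t * fX 46 u :=
  (fX_comm_nil 45 46 (by decide) (by decide) (by decide) (by decide) (by decide +kernel) t u).eq.symm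

theorem f4s45_46' (t u : K) (Z : GL chevF4.Idx K) : fX 46 u * (fX 45 t * Z) = fX 45 t * (fX 46 u * Z) := by
  rw [← mul_assoc, f4s45_46]; simp only [mul_assoc]

theorem f4s45_37 (t u : K) : fX 37 u * fX 45 t = fX 45 t * fX 37 u :=
  (fX_comm_nil 45 37 (by decide) (by decide) (by decide) (by decide) (by decide +kernel) t u).eq.symm

theorem f4s45_37' (t u : K) (Z : GL chevF4.Idx K) : fX 37 u * (fX 45 t * Z) = fX 45 t * (fX 37 u * Z) := by
  rw [← mul_assoc, f4s45_37]; simp only [mul_assoc]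

theorem f4s45_32 (t u : K) : fX 32 u * fX 45 t = fX 45 t * fX 32 u :=
  (fX_comm_nil 45 32 (by decide) (by decide) (by decide) (by decide) (by decide +kernel) t u).eq.symm

theorem f4s45_32' (t u : K) (Z : GL chevF4.Idx K) : fX 32 u * (fX 45 t * Z) = fX 45 t * (fX 32 u * Z) := by
  rw [← mul_assoc, f4s45_32]; simp only [mul_assoc]

theorem f4s45_27 (t u : K) : fX 27 u * fX 45 t = fX 45 t * fX 27 u :=
  (fX_comm_nil 45 27 (by decide) (by decide) (by decide) (by decide) (by decide +kernel) t u).eq.symm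

theorem f4s45_27' (t u : K) (Z : GL chevF4.Idx K) : fX 27 u * (fX 45 t * Z) = fX 45 t * (fX 27 u * Z) := by
  rw [← mul_assoc, f4s45_27]; simp only [mul_assoc]

theorem f4s45_25 (t u : K) : fX 25 u * fX 45 t = fX 45 t * (fX 25 u * fX 46 (t * u)) :=
  fX_sw1 45 25 46 (-1) (by decide) (by decide) (by decide) (by decide) (Or.inr rfl) (by decide +kernel) t u

theorem f4s45_25' (t u : K) (Z : GL chevF4.Idx K) : fX 25 u * (fX 45 t * Z) = fX 45 t * (fX 25 u * (fX 46 (t * u) * Z)) := by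
  rw [← mul_assoc, f4s45_25]; simp only [mul_assoc]

theorem f4s45_28 (t u : K) : fX 28 u * fX 45 t = fX 45 t * fX 28 u :=
  (fX_comm_nil 45 28 (by decide) (by decide) (by decide) (by decide) (by decide +kernel) t u).eq.symm

theorem f4s45_28' (t u : K) (Z : GL chevF4.Idx K) : fX 28 u * (fX 45 t * Z) = fX 45 t * (fX 28 u * Z) := by
  rw [← mul_assoc, f4s45_28]; simp only [mul_assoc]

theorem f4s45_30 (t u : K) : fX 30 u * fX 45 t = fX 45 t * fX 30 u :=
  (fX_comm_nil 45 30 (by decide) (by decide) (by decide) (by decide) (by decide +kernel) t u).eq.symm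

theorem f4s45_30' (t u : K) (Z : GL chevF4.Idx K) : fX 30 u * (fX 45 t * Z) = fX 45 t * (fX 30 u * Z) := by
  rw [← mul_assoc, f4s45_30]; simp only [mul_assoc]

theorem f4s35_31 (t u : K) : fX 31 u * fX 35 t = fX 35 t * (fX 31 u * (fX 40 (t * u) * fX 46 (t ^ 2 * u))) :=
  fX_sw21 35 31 40 46 (1) (1) (by decide) (by decide) (by decide) (by decide) (Or.inl rfl) (Or.inl rfl) (by decide +kernel) t u

theorem f4s35_31' (t u : K) (Z : GL chevF4.Idx K) : fX 31 u * (fX 35 t * Z) = fX 35 t * (fX 31 u * (fX 40 (t * u) * (fX 46 (t ^ 2 * u) * Z))) := by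
  rw [← mul_assoc, f4s35_31]; simp only [mul_assoc]

theorem f4s35_40 (t u : K) : fX 40 u * fX 35 t = fX 35 t * fX 40 u :=
  (fX_comm_two 35 40 46 (2) (by decide) (by decide) (by decide) (by decide) (Or.inl rfl) (by decide +kernel) t u).eq.symm

theorem f4s35_40' (t u : K) (Z : GL chevF4.Idx K) : fX 40 u * (fX 35 t * Z) = fX 35 t * (fX 40 u * Z) := by
  rw [← mul_assoc, f4s35_40]; simp only [mul_assoc]

theorem f4s35_46 (t u : K) : fX 46 u * fX 35 t = fX 35 t * fX 46 u :=
  (fX_comm_nil 35 46 (by decide) (by decide) (by decide) (by decide) (by decide +kernel) t u).eq.symm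

theorem f4s35_46' (t u : K) (Z : GL chevF4.Idx K) : fX 46 u * (fX 35 t * Z) = fX 35 t * (fX 46 u * Z) := by
  rw [← mul_assoc, f4s35_46]; simp only [mul_assoc]

theorem f4s35_37 (t u : K) : fX 37 u * fX 35 t = fX 35 t * fX 37 u :=
  (fX_comm_nil 35 37 (by decide) (by decide) (by decide) (by decide) (by decide +kernel) t u).eq.symm

theorem f4s35_37' (t u : K) (Z : GL chevF4.Idx K) : fX 37 u * (fX 35 t * Z) = fX 35 t * (fX 37 u * Z) := by
  rw [← mul_assoc, f4s35_37]; simp only [mul_assoc]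

theorem f4s35_32 (t u : K) : fX 32 u * fX 35 t = fX 35 t * fX 32 u :=
  (fX_comm_nil 35 32 (by decide) (by decide) (by decide) (by decide) (by decide +kernel) t u).eq.symm

theorem f4s35_32' (t u : K) (Z : GL chevF4.Idx K) : fX 32 u * (fX 35 t * Z) = fX 35 t * (fX 32 u * Z) := by
  rw [← mul_assoc, f4s35_32]; simp only [mul_assoc]

theorem f4s35_27 (t u : K) : fX 27 u * fX 35 t = fX 35 t * (fX 27 u * fX 37 (t * u)) :=
  fX_sw1 35 27 37 (-1) (by decide) (by decide) (by decide) (by decide) (Or.inr rfl) (by decide +kernel) t u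

theorem f4s35_27' (t u : K) (Z : GL chevF4.Idx K) : fX 27 u * (fX 35 t * Z) = fX 35 t * (fX 27 u * (fX 37 (t * u) * Z)) := by
  rw [← mul_assoc, f4s35_27]; simp only [mul_assoc]

theorem f4s35_25 (t u : K) : fX 25 u * fX 35 t = fX 35 t * fX 25 u :=
  (fX_comm_nil 35 25 (by decide) (by decide) (by decide) (by decide) (by decide +kernel) t u).eq.symm

theorem f4s35_25' (t u : K) (Z : GL chevF4.Idx K) : fX 25 u * (fX 35 t * Z) = fX 35 t * (fX 25 u * Z) := by
  rw [← mul_assoc, f4s35_25]; simp only [mul_assoc]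

theorem f4s35_28 (t u : K) : fX 28 u * fX 35 t = fX 35 t * fX 28 u :=
  (fX_comm_nil 35 28 (by decide) (by decide) (by decide) (by decide) (by decide +kernel) t u).eq.symm

theorem f4s35_28' (t u : K) (Z : GL chevF4.Idx K) : fX 28 u * (fX 35 t * Z) = fX 35 t * (fX 28 u * Z) := by
  rw [← mul_assoc, f4s35_28]; simp only [mul_assoc]

theorem f4s35_30 (t u : K) : fX 30 u * fX 35 t = fX 35 t * fX 30 u :=
  (fX_comm_nil 35 30 (by decide) (by decide) (by decide) (by decide) (by decide +kernel) t u).eq.symm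

theorem f4s35_30' (t u : K) (Z : GL chevF4.Idx K) : fX 30 u * (fX 35 t * Z) = fX 35 t * (fX 30 u * Z) := by
  rw [← mul_assoc, f4s35_30]; simp only [mul_assoc]

theorem f4s31_40 (t u : K) : fX 40 u * fX 31 t = fX 31 t * fX 40 u :=
  (fX_comm_nil 31 40 (by decide) (by decide) (by decide) (by decide) (by decide +kernel) t u).eq.symm

theorem f4s31_40' (t u : K) (Z : GL chevF4.Idx K) : fX 40 u * (fX 31 t * Z) = fX 31 t * (fX 40 u * Z) := by
  rw [← mul_assoc, f4s31_40]; simp only [mul_assoc]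

theorem f4s31_46 (t u : K) : fX 46 u * fX 31 t = fX 31 t * fX 46 u :=
  (fX_comm_nil 31 46 (by decide) (by decide) (by decide) (by decide) (by decide +kernel) t u).eq.symm

theorem f4s31_46' (t u : K) (Z : GL chevF4.Idx K) : fX 46 u * (fX 31 t * Z) = fX 31 t * (fX 46 u * Z) := by
  rw [← mul_assoc, f4s31_46]; simp only [mul_assoc]

theorem f4s31_37 (t u : K) : fX 37 u * fX 31 t = fX 31 t * fX 37 u :=
  (fX_comm_nil 31 37 (by decide) (by decide) (by decide) (by decide) (by decide +kernel) t u).eq.symm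

theorem f4s31_37' (t u : K) (Z : GL chevF4.Idx K) : fX 37 u * (fX 31 t * Z) = fX 31 t * (fX 37 u * Z) := by
  rw [← mul_assoc, f4s31_37]; simp only [mul_assoc]

theorem f4s31_32 (t u : K) : fX 32 u * fX 31 t = fX 31 t * fX 32 u :=
  (fX_comm_nil 31 32 (by decide) (by decide) (by decide) (by decide) (by decide +kernel) t u).eq.symm

theorem f4s31_32' (t u : K) (Z : GL chevF4.Idx K) : fX 32 u * (fX 31 t * Z) = fX 31 t * (fX 32 u * Z) := by
  rw [← mul_assoc, f4s31_32]; simp only [mul_assoc]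

theorem f4s31_27 (t u : K) : fX 27 u * fX 31 t = fX 31 t * fX 27 u :=
  (fX_comm_nil 31 27 (by decide) (by decide) (by decide) (by decide) (by decide +kernel) t u).eq.symm

theorem f4s31_27' (t u : K) (Z : GL chevF4.Idx K) : fX 27 u * (fX 31 t * Z) = fX 31 t * (fX 27 u * Z) := by
  rw [← mul_assoc, f4s31_27]; simp only [mul_assoc]

theorem f4s31_25 (t u : K) : fX 25 u * fX 31 t = fX 31 t * (fX 25 u * fX 32 (t * u)) :=
  fX_sw1 31 25 32 (-1) (by decide) (by decide) (by decide) (by decide) (Or.inr rfl) (by decide +kernel) t u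

theorem f4s31_25' (t u : K) (Z : GL chevF4.Idx K) : fX 25 u * (fX 31 t * Z) = fX 31 t * (fX 25 u * (fX 32 (t * u) * Z)) := by
  rw [← mul_assoc, f4s31_25]; simp only [mul_assoc]

theorem f4s31_28 (t u : K) : fX 28 u * fX 31 t = fX 31 t * fX 28 u :=
  (fX_comm_nil 31 28 (by decide) (by decide) (by decide) (by decide) (by decide +kernel) t u).eq.symm

theorem f4s31_28' (t u : K) (Z : GL chevF4.Idx K) : fX 28 u * (fX 31 t * Z) = fX 31 t * (fX 28 u * Z) := by
  rw [← mul_assoc, f4s31_28]; simp only [mul_assoc]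

theorem f4s31_30 (t u : K) : fX 30 u * fX 31 t = fX 31 t * fX 30 u :=
  (fX_comm_nil 31 30 (by decide) (by decide) (by decide) (by decide) (by decide +kernel) t u).eq.symm

theorem f4s31_30' (t u : K) (Z : GL chevF4.Idx K) : fX 30 u * (fX 31 t * Z) = fX 31 t * (fX 30 u * Z) := by
  rw [← mul_assoc, f4s31_30]; simp only [mul_assoc]

theorem f4s40_46 (t u : K) : fX 46 u * fX 40 t = fX 40 t * fX 46 u :=
  (fX_comm_nil 40 46 (by decide) (by decide) (by decide) (by decide) (by decide +kernel) t u).eq.symm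

theorem f4s40_46' (t u : K) (Z : GL chevF4.Idx K) : fX 46 u * (fX 40 t * Z) = fX 40 t * (fX 46 u * Z) := by
  rw [← mul_assoc, f4s40_46]; simp only [mul_assoc]

theorem f4s40_37 (t u : K) : fX 37 u * fX 40 t = fX 40 t * fX 37 u :=
  (fX_comm_nil 40 37 (by decide) (by decide) (by decide) (by decide) (by decide +kernel) t u).eq.symm

theorem f4s40_37' (t u : K) (Z : GL chevF4.Idx K) : fX 37 u * (fX 40 t * Z) = fX 40 t * (fX 37 u * Z) := by
  rw [← mul_assoc, f4s40_37]; simp only [mul_assoc]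

theorem f4s40_32 (t u : K) : fX 32 u * fX 40 t = fX 40 t * fX 32 u :=
  (fX_comm_nil 40 32 (by decide) (by decide) (by decide) (by decide) (by decide +kernel) t u).eq.symm

theorem f4s40_32' (t u : K) (Z : GL chevF4.Idx K) : fX 32 u * (fX 40 t * Z) = fX 40 t * (fX 32 u * Z) := by
  rw [← mul_assoc, f4s40_32]; simp only [mul_assoc]

theorem f4s40_27 (t u : K) : fX 27 u * fX 40 t = fX 40 t * fX 27 u :=
  (fX_comm_nil 40 27 (by decide) (by decide) (by decide) (by decide) (by decide +kernel) t u).eq.symm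

theorem f4s40_27' (t u : K) (Z : GL chevF4.Idx K) : fX 27 u * (fX 40 t * Z) = fX 40 t * (fX 27 u * Z) := by
  rw [← mul_assoc, f4s40_27]; simp only [mul_assoc]

theorem f4s40_25 (t u : K) : fX 25 u * fX 40 t = fX 40 t * fX 25 u :=
  (fX_comm_nil 40 25 (by decide) (by decide) (by decide) (by decide) (by decide +kernel) t u).eq.symm

theorem f4s40_25' (t u : K) (Z : GL chevF4.Idx K) : fX 25 u * (fX 40 t * Z) = fX 40 t * (fX 25 u * Z) := by
  rw [← mul_assoc, f4s40_25]; simp only [mul_assoc]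

theorem f4s40_28 (t u : K) : fX 28 u * fX 40 t = fX 40 t * fX 28 u :=
  (fX_comm_nil 40 28 (by decide) (by decide) (by decide) (by decide) (by decide +kernel) t u).eq.symm

theorem f4s40_28' (t u : K) (Z : GL chevF4.Idx K) : fX 28 u * (fX 40 t * Z) = fX 40 t * (fX 28 u * Z) := by
  rw [← mul_assoc, f4s40_28]; simp only [mul_assoc]

theorem f4s40_30 (t u : K) : fX 30 u * fX 40 t = fX 40 t * fX 30 u :=
  (fX_comm_nil 40 30 (by decide) (by decide) (by decide) (by decide) (by decide +kernel) t u).eq.symm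

theorem f4s40_30' (t u : K) (Z : GL chevF4.Idx K) : fX 30 u * (fX 40 t * Z) = fX 40 t * (fX 30 u * Z) := by
  rw [← mul_assoc, f4s40_30]; simp only [mul_assoc]

theorem f4s46_37 (t u : K) : fX 37 u * fX 46 t = fX 46 t * fX 37 u :=
  (fX_comm_nil 46 37 (by decide) (by decide) (by decide) (by decide) (by decide +kernel) t u).eq.symm

theorem f4s46_37' (t u : K) (Z : GL chevF4.Idx K) : fX 37 u * (fX 46 t * Z) = fX 46 t * (fX 37 u * Z) := by
  rw [← mul_assoc, f4s46_37]; simp only [mul_assoc]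

theorem f4s46_32 (t u : K) : fX 32 u * fX 46 t = fX 46 t * fX 32 u :=
  (fX_comm_nil 46 32 (by decide) (by decide) (by decide) (by decide) (by decide +kernel) t u).eq.symm

theorem f4s46_32' (t u : K) (Z : GL chevF4.Idx K) : fX 32 u * (fX 46 t * Z) = fX 46 t * (fX 32 u * Z) := by
  rw [← mul_assoc, f4s46_32]; simp only [mul_assoc]

theorem f4s46_27 (t u : K) : fX 27 u * fX 46 t = fX 46 t * fX 27 u :=
  (fX_comm_nil 46 27 (by decide) (by decide) (by decide) (by decide) (by decide +kernel) t u).eq.symm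

theorem f4s46_27' (t u : K) (Z : GL chevF4.Idx K) : fX 27 u * (fX 46 t * Z) = fX 46 t * (fX 27 u * Z) := by
  rw [← mul_assoc, f4s46_27]; simp only [mul_assoc]

theorem f4s46_25 (t u : K) : fX 25 u * fX 46 t = fX 46 t * fX 25 u :=
  (fX_comm_nil 46 25 (by decide) (by decide) (by decide) (by decide) (by decide +kernel) t u).eq.symm

theorem f4s46_25' (t u : K) (Z : GL chevF4.Idx K) : fX 25 u * (fX 46 t * Z) = fX 46 t * (fX 25 u * Z) := by
  rw [← mul_assoc, f4s46_25]; simp only [mul_assoc]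

theorem f4s46_28 (t u : K) : fX 28 u * fX 46 t = fX 46 t * fX 28 u :=
  (fX_comm_nil 46 28 (by decide) (by decide) (by decide) (by decide) (by decide +kernel) t u).eq.symm

theorem f4s46_28' (t u : K) (Z : GL chevF4.Idx K) : fX 28 u * (fX 46 t * Z) = fX 46 t * (fX 28 u * Z) := by
  rw [← mul_assoc, f4s46_28]; simp only [mul_assoc]

theorem f4s46_30 (t u : K) : fX 30 u * fX 46 t = fX 46 t * fX 30 u :=
  (fX_comm_nil 46 30 (by decide) (by decide) (by decide) (by decide) (by decide +kernel) t u).eq.symm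

theorem f4s46_30' (t u : K) (Z : GL chevF4.Idx K) : fX 30 u * (fX 46 t * Z) = fX 46 t * (fX 30 u * Z) := by
  rw [← mul_assoc, f4s46_30]; simp only [mul_assoc]

theorem f4s37_32 (t u : K) : fX 32 u * fX 37 t = fX 37 t * fX 32 u :=
  (fX_comm_nil 37 32 (by decide) (by decide) (by decide) (by decide) (by decide +kernel) t u).eq.symm

theorem f4s37_32' (t u : K) (Z : GL chevF4.Idx K) : fX 32 u * (fX 37 t * Z) = fX 37 t * (fX 32 u * Z) := by
  rw [← mul_assoc, f4s37_32]; simp only [mul_assoc]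

theorem f4s37_27 (t u : K) : fX 27 u * fX 37 t = fX 37 t * fX 27 u :=
  (fX_comm_nil 37 27 (by decide) (by decide) (by decide) (by decide) (by decide +kernel) t u).eq.symm

theorem f4s37_27' (t u : K) (Z : GL chevF4.Idx K) : fX 27 u * (fX 37 t * Z) = fX 37 t * (fX 27 u * Z) := by
  rw [← mul_assoc, f4s37_27]; simp only [mul_assoc]

theorem f4s37_25 (t u : K) : fX 25 u * fX 37 t = fX 37 t * fX 25 u :=
  (fX_comm_nil 37 25 (by decide) (by decide) (by decide) (by decide) (by decide +kernel) t u).eq.symm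

theorem f4s37_25' (t u : K) (Z : GL chevF4.Idx K) : fX 25 u * (fX 37 t * Z) = fX 37 t * (fX 25 u * Z) := by
  rw [← mul_assoc, f4s37_25]; simp only [mul_assoc]

theorem f4s37_28 (t u : K) : fX 28 u * fX 37 t = fX 37 t * fX 28 u :=
  (fX_comm_nil 37 28 (by decide) (by decide) (by decide) (by decide) (by decide +kernel) t u).eq.symm

theorem f4s37_28' (t u : K) (Z : GL chevF4.Idx K) : fX 28 u * (fX 37 t * Z) = fX 37 t * (fX 28 u * Z) := by
  rw [← mul_assoc, f4s37_28]; simp only [mul_assoc]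

theorem f4s37_30 (t u : K) : fX 30 u * fX 37 t = fX 37 t * fX 30 u :=
  (fX_comm_nil 37 30 (by decide) (by decide) (by decide) (by decide) (by decide +kernel) t u).eq.symm

theorem f4s37_30' (t u : K) (Z : GL chevF4.Idx K) : fX 30 u * (fX 37 t * Z) = fX 37 t * (fX 30 u * Z) := by
  rw [← mul_assoc, f4s37_30]; simp only [mul_assoc]

theorem f4s32_27 (t u : K) : fX 27 u * fX 32 t = fX 32 t * fX 27 u :=
  (fX_comm_nil 32 27 (by decide) (by decide) (by decide) (by decide) (by decide +kernel) t u).eq.symm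

theorem f4s32_27' (t u : K) (Z : GL chevF4.Idx K) : fX 27 u * (fX 32 t * Z) = fX 32 t * (fX 27 u * Z) := by
  rw [← mul_assoc, f4s32_27]; simp only [mul_assoc]

theorem f4s32_25 (t u : K) : fX 25 u * fX 32 t = fX 32 t * fX 25 u :=
  (fX_comm_nil 32 25 (by decide) (by decide) (by decide) (by decide) (by decide +kernel) t u).eq.symm

theorem f4s32_25' (t u : K) (Z : GL chevF4.Idx K) : fX 25 u * (fX 32 t * Z) = fX 32 t * (fX 25 u * Z) := by
  rw [← mul_assoc, f4s32_25]; simp only [mul_assoc]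

theorem f4s32_28 (t u : K) : fX 28 u * fX 32 t = fX 32 t * fX 28 u :=
  (fX_comm_nil 32 28 (by decide) (by decide) (by decide) (by decide) (by decide +kernel) t u).eq.symm

theorem f4s32_28' (t u : K) (Z : GL chevF4.Idx K) : fX 28 u * (fX 32 t * Z) = fX 32 t * (fX 28 u * Z) := by
  rw [← mul_assoc, f4s32_28]; simp only [mul_assoc]

theorem f4s32_30 (t u : K) : fX 30 u * fX 32 t = fX 32 t * fX 30 u :=
  (fX_comm_nil 32 30 (by decide) (by decide) (by decide) (by decide) (by decide +kernel) t u).eq.symm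

theorem f4s32_30' (t u : K) (Z : GL chevF4.Idx K) : fX 30 u * (fX 32 t * Z) = fX 32 t * (fX 30 u * Z) := by
  rw [← mul_assoc, f4s32_30]; simp only [mul_assoc]

theorem f4s27_25 (t u : K) : fX 25 u * fX 27 t = fX 27 t * (fX 25 u * (fX 28 (t * u) * fX 30 (t ^ 2 * u))) :=
  fX_sw21 27 25 28 30 (-1) (-1) (by decide) (by decide) (by decide) (by decide) (Or.inr rfl) (Or.inr rfl) (by decide +kernel) t u

theorem f4s27_25' (t u : K) (Z : GL chevF4.Idx K) : fX 25 u * (fX 27 t * Z) = fX 27 t * (fX 25 u * (fX 28 (t * u) * (fX 30 (t ^ 2 * u) * Z))) := by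
  rw [← mul_assoc, f4s27_25]; simp only [mul_assoc]

theorem f4s27_28 (t u : K) : fX 28 u * fX 27 t = fX 27 t * fX 28 u :=
  (fX_comm_two 27 28 30 (2) (by decide) (by decide) (by decide) (by decide) (Or.inl rfl) (by decide +kernel) t u).eq.symm

theorem f4s27_28' (t u : K) (Z : GL chevF4.Idx K) : fX 28 u * (fX 27 t * Z) = fX 27 t * (fX 28 u * Z) := by
  rw [← mul_assoc, f4s27_28]; simp only [mul_assoc]

theorem f4s27_30 (t u : K) : fX 30 u * fX 27 t = fX 27 t * fX 30 u :=
  (fX_comm_nil 27 30 (by decide) (by decide) (by decide) (by decide) (by decide +kernel) t u).eq.symm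

theorem f4s27_30' (t u : K) (Z : GL chevF4.Idx K) : fX 30 u * (fX 27 t * Z) = fX 27 t * (fX 30 u * Z) := by
  rw [← mul_assoc, f4s27_30]; simp only [mul_assoc]

theorem f4s25_28 (t u : K) : fX 28 u * fX 25 t = fX 25 t * fX 28 u :=
  (fX_comm_nil 25 28 (by decide) (by decide) (by decide) (by decide) (by decide +kernel) t u).eq.symm

theorem f4s25_28' (t u : K) (Z : GL chevF4.Idx K) : fX 28 u * (fX 25 t * Z) = fX 25 t * (fX 28 u * Z) := by
  rw [← mul_assoc, f4s25_28]; simp only [mul_assoc]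

theorem f4s25_30 (t u : K) : fX 30 u * fX 25 t = fX 25 t * fX 30 u :=
  (fX_comm_nil 25 30 (by decide) (by decide) (by decide) (by decide) (by decide +kernel) t u).eq.symm

theorem f4s25_30' (t u : K) (Z : GL chevF4.Idx K) : fX 30 u * (fX 25 t * Z) = fX 25 t * (fX 30 u * Z) := by
  rw [← mul_assoc, f4s25_30]; simp only [mul_assoc]

theorem f4s28_30 (t u : K) : fX 30 u * fX 28 t = fX 28 t * fX 30 u :=
  (fX_comm_nil 28 30 (by decide) (by decide) (by decide) (by decide) (by decide +kernel) t u).eq.symm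

theorem f4s28_30' (t u : K) (Z : GL chevF4.Idx K) : fX 30 u * (fX 28 t * Z) = fX 28 t * (fX 30 u * Z) := by
  rw [← mul_assoc, f4s28_30]; simp only [mul_assoc]

end F4

end Cfsg.Agent.Lib.H29.Chev
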