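import Mathlib
import Cfsg.Prelude.Def_ChevStructure
import Cfsg.Prelude.Def_LieTwisted
import Cfsg.Agent.Lib.H29.F4Inv1
import Cfsg.Agent.Lib.H29.D4Inv3

/-!
# The unipotent subgroup of the large Ree groups: the normal form and the multiplication by the
generators (generated file)
-/

set_option autoImplicit false
set_option linter.unusedSectionVars false
set_option linter.unusedSimpArgs false
set_option linter.unusedVariables false

namespace Cfsg.Agent.Lib.H29.Chev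

open Cfsg.Lie Matrix

section F4

variable {K : Type*} [Field K] [CharP K 2] (m : ℕ)

local notation "θ" => f4Theta K m

/-- the elements of the eight root subgroups of the twisted group -/
noncomputable abbrev f4x1 (t : K) : GL chevF4.Idx K := pairEl m 33 24 t
noncomputable abbrev f4y2 (t u : K) : GL chevF4.Idx K := clsEl m 34 26 36 42 t u
noncomputable abbrev f4x3 (t : K) : GL chevF4.Idx K := pairEl m 38 43 t
noncomputable abbrev f4y4 (t u : K) : GL chevF4.Idx K := clsEl m 29 41 44 47 t u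
noncomputable abbrev f4x5 (t : K) : GL chevF4.Idx K := pairEl m 39 45 t
noncomputable abbrev f4y6 (t u : K) : GL chevF4.Idx K := clsEl m 35 31 40 46 t u
noncomputable abbrev f4x7 (t : K) : GL chevF4.Idx K := pairEl m 37 32 t
noncomputable abbrev f4y8 (t u : K) : GL chevF4.Idx K := clsEl m 27 25 28 30 t u

/-- the normal form of the elements of `U¹` -/
noncomputable def f4E (a1 a2 b2 a3 a4 b4 a5 a6 b6 a7 a8 b8 : K) : GL chevF4.Idx K :=
  f4x1 m a1 * (f4y2 m a2 b2 * (f4x3 m a3 * (f4y4 m a4 b4 * (f4x5 m a5 * (f4y6 m a6 b6 * (f4x7 m a7 * f4y8 m a8 b8))))))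

theorem f4E_roots (a1 a2 b2 a3 a4 b4 a5 a6 b6 a7 a8 b8 : K) :
    f4E m a1 a2 b2 a3 a4 b4 a5 a6 b6 a7 a8 b8 =
      fX 33 (θ a1) * (fX 24 a1 * (fX 34 (θ a2) * (fX 26 a2 * (fX 36 (θ a2 * a2 + b2) * (fX 42 (θ b2 ^ 2) * (fX 38 (θ a3) * (fX 43 a3 * (fX 29 (θ a4) * (fX 41 a4 * (fX 44 (θ a4 * a4 + b4) * (fX 47 (θ b4 ^ 2) * (fX 39 (θ a5) * (fX 45 a5 * (fX 35 (θ a6) * (fX 31 a6 * (fX 40 (θ a6 * a6 + b6) * (fX 46 (θ b6 ^ 2) * (fX 37 (θ a7) * (fX 32 a7 * (fX 27 (θ a8) * (fX 25 a8 * (fX 28 (θ a8 * a8 + b8) * (fX 30 (θ b8 ^ 2)))))))))))))))))))))))) := by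
  unfold f4E f4x1 f4y2 f4x3 f4y4 f4x5 f4y6 f4x7 f4y8 pairEl clsEl
  simp only [mul_assoc]

theorem f4_ext24 {t1 t2 t3 t4 t5 t6 t7 t8 t9 t10 t11 t12 t13 t14 t15 t16 t17 t18 t19 t20 t21 t22 t23 t24 s1 s2 s3 s4 s5 s6 s7 s8 s9 s10 s11 s12 s13 s14 s15 s16 s17 s18 s19 s20 s21 s22 s23 s24 : K}
    (h1 : t1 = s1) (h2 : t2 = s2) (h3 : t3 = s3) (h4 : t4 = s4) (h5 : t5 = s5) (h6 : t6 = s6) (h7 : t7 = s7) (h8 : t8 = s8) (h9 : t9 = s9) (h10 : t10 = s10) (h11 : t11 = s11) (h12 : t12 = s12) (h13 : t13 = s13) (h14 : t14 = s14) (h15 : t15 = s15) (h16 : t16 = s16) (h17 : t17 = s17) (h18 : t18 = s18) (h19 : t19 = s19) (h20 : t20 = s20) (h21 : t21 = s21) (h22 : t22 = s22) (h23 : t23 = s23) (h24 : t24 = s24) :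
    fX 33 t1 * (fX 24 t2 * (fX 34 t3 * (fX 26 t4 * (fX 36 t5 * (fX 42 t6 * (fX 38 t7 * (fX 43 t8 * (fX 29 t9 * (fX 41 t10 * (fX 44 t11 * (fX 47 t12 * (fX 39 t13 * (fX 45 t14 * (fX 35 t15 * (fX 31 t16 * (fX 40 t17 * (fX 46 t18 * (fX 37 t19 * (fX 32 t20 * (fX 27 t21 * (fX 25 t22 * (fX 28 t23 * (fX 30 t24))))))))))))))))))))))) =
    fX 33 s1 * (fX 24 s2 * (fX 34 s3 * (fX 26 s4 * (fX 36 s5 * (fX 42 s6 * (fX 38 s7 * (fX 43 s8 * (fX 29 s9 * (fX 41 s10 * (fX 44 s11 * (fX 47 s12 * (fX 39 s13 * (fX 45 s14 * (fX 35 s15 * (fX 31 s16 * (fX 40 s17 * (fX 46 s18 * (fX 37 s19 * (fX 32 s20 * (fX 27 s21 * (fX 25 s22 * (fX 28 s23 * (fX 30 s24))))))))))))))))))))))) := by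
  rw [h1, h2, h3, h4, h5, h6, h7, h8, h9, h10, h11, h12, h13, h14, h15, h16, h17, h18, h19, h20, h21, h22, h23, h24]

theorem f4E_congr {a1 a2 b2 a3 a4 b4 a5 a6 b6 a7 a8 b8 a1' a2' b2' a3' a4' b4' a5' a6' b6' a7' a8' b8' : K}
    (h0 : a1 = a1') (h1 : a2 = a2') (h2 : b2 = b2') (h3 : a3 = a3') (h4 : a4 = a4') (h5 : b4 = b4') (h6 : a5 = a5') (h7 : a6 = a6') (h8 : b6 = b6') (h9 : a7 = a7') (h10 : a8 = a8') (h11 : b8 = b8') :
    f4E m a1 a2 b2 a3 a4 b4 a5 a6 b6 a7 a8 b8 = f4E m a1' a2' b2' a3' a4' b4' a5' a6' b6' a7' a8' b8' := by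
  rw [h0, h1, h2, h3, h4, h5, h6, h7, h8, h9, h10, h11]

theorem f4E_zero : f4E m (0 : K) 0 0 0 0 0 0 0 0 0 0 0 = 1 := by
  unfold f4E f4x1 f4y2 f4x3 f4y4 f4x5 f4y6 f4x7 f4y8 pairEl clsEl
  simp only [map_zero, mul_zero, add_zero, fX_zero, mul_one, ne_eq, OfNat.ofNat_ne_zero, not_false_eq_true, zero_pow]

variable (hθ : ∀ x : K, f4Theta K m (f4Theta K m x) ^ 2 = x)
include hθ

theorem f4_th4 (x : K) : θ (θ x) ^ 4 = x ^ 2 := by
  have : θ (θ x) ^ 4 = (θ (θ x) ^ 2) ^ 2 := by ring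
  rw [this, hθ]

theorem f4_th6 (x : K) : θ (θ x) ^ 6 = x ^ 3 := by
  have : θ (θ x) ^ 6 = (θ (θ x) ^ 2) ^ 3 := by ring
  rw [this, hθ]

theorem f4_th8 (x : K) : θ (θ x) ^ 8 = x ^ 4 := by
  have : θ (θ x) ^ 8 = (θ (θ x) ^ 2) ^ 4 := by ring
  rw [this, hθ]

set_option maxHeartbeats 8000000 in
theorem f4E_mul_1 (a1 a2 b2 a3 a4 b4 a5 a6 b6 a7 a8 b8 y : K) :
    f4E m a1 a2 b2 a3 a4 b4 a5 a6 b6 a7 a8 b8 * f4x1 m y = f4E m
      (a1 + y)
      (a2 + a8 * y)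
      (b2 + θ a4 * θ y + θ a6 * y + θ a2 * a8 * y + b8 * y * θ y)
      (a3 + a4 * a8 * y + θ a6 ^ 2 * y + a7 * θ y ^ 2 + b8 ^ 2 * y * θ y ^ 2 + a8 * θ b8 ^ 2 * y * θ y ^ 2 + a8 ^ 2 * θ a8 ^ 2 * y * θ y ^ 2)
      (a4 + θ b8 ^ 2 * θ y ^ 2)
      (b4 + b6 * θ y + θ a5 * θ a8 * θ y + θ a6 * θ a7 * y + a7 * θ a8 * θ y ^ 2 + θ a7 * b8 * y * θ y + θ a4 * θ b8 ^ 2 * θ y ^ 2 + θ a6 * θ a8 * b8 * y * θ y + θ a6 * θ b8 ^ 2 * y * θ y + θ a7 * a8 * θ a8 * y * θ y + θ a6 * a8 * θ a8 ^ 2 * y * θ y + θ a8 * b8 ^ 2 * y * θ y ^ 2 + b8 * θ b8 ^ 2 * y * θ y ^ 2 + a8 * θ a8 * θ b8 ^ 2 * y * θ y ^ 2 + a8 ^ 2 * θ a8 ^ 3 * y * θ y ^ 2)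
      (a5 + θ a7 ^ 2 * y + a6 * θ b8 ^ 2 * θ y ^ 2 + a7 * θ a8 ^ 2 * θ y ^ 2 + θ a8 ^ 2 * b8 ^ 2 * y * θ y ^ 2 + θ b8 ^ 4 * y * θ y ^ 2 + a8 ^ 2 * θ a8 ^ 4 * y * θ y ^ 2)
      (a6 + θ b8 ^ 2 * y + a8 * θ a8 ^ 2 * y)
      (b6 + a7 * θ a8 * θ y + θ a7 * b8 * y + θ a6 * θ b8 ^ 2 * y + θ a6 * a8 * θ a8 ^ 2 * y + θ a8 * b8 ^ 2 * y * θ y + a8 * θ a8 * θ b8 ^ 2 * y * θ y + a8 ^ 2 * θ a8 ^ 3 * y * θ y)
      (a7 + b8 ^ 2 * y + a8 * θ b8 ^ 2 * y + a8 ^ 2 * θ a8 ^ 2 * y)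
      a8
      b8 := by
  rw [f4E_roots, f4E_roots]
  unfold f4x1 pairEl
  simp only [mul_assoc]
  simp only [f4s33_24, f4s33_24', f4s33_34, f4s33_34', f4s33_26, f4s33_26', f4s33_36, f4s33_36', f4s33_42, f4s33_42', f4s33_38, f4s33_38', f4s33_43, f4s33_43', f4s33_29, f4s33_29', f4s33_41, f4s33_41', f4s33_44, f4s33_44', f4s33_47, f4s33_47', f4s33_39, f4s33_39', f4s33_45, f4s33_45', f4s33_35, f4s33_35', f4s33_31, f4s33_31', f4s33_40, f4s33_40', f4s33_46, f4s33_46', f4s33_37, f4s33_37', f4s33_32, f4s33_32', f4s33_27, f4s33_27', f4s33_25, f4s33_25', f4s33_28, f4s33_28', f4s33_30, f4s33_30', f4s24_34, f4s24_34', f4s24_26, f4s24_26', f4s24_36, f4s24_36', f4s24_42, f4s24_42', f4s24_38, f4s24_38', f4s24_43, f4s24_43', f4s24_29, f4s24_29', f4s24_41, f4s24_41', f4s24_44, f4s24_44', f4s24_47, f4s24_47', f4s24_39, f4s24_39', f4s24_45, f4s24_45', f4s24_35, f4s24_35', f4s24_31, f4s24_31', f4s24_40,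 f4s24_40', f4s24_46, f4s24_46', f4s24_37, f4s24_37', f4s24_32, f4s24_32', f4s24_27, f4s24_27', f4s24_25, f4s24_25', f4s24_28, f4s24_28', f4s24_30, f4s24_30', f4s34_26, f4s34_26', f4s34_36, f4s34_36', f4s34_42, f4s34_42', f4s34_38, f4s34_38', f4s34_43, f4s34_43', f4s34_29, f4s34_29', f4s34_41, f4s34_41', f4s34_44, f4s34_44', f4s34_47, f4s34_47', f4s34_39, f4s34_39', f4s34_45, f4s34_45', f4s34_35, f4s34_35', f4s34_31, f4s34_31', f4s34_40, f4s34_40', f4s34_46, f4s34_46', f4s34_37, f4s34_37', f4s34_32, f4s34_32', f4s34_27, f4s34_27', f4s34_25, f4s34_25', f4s34_28, f4s34_28', f4s34_30, f4s34_30', f4s26_36, f4s26_36', f4s26_42, f4s26_42', f4s26_38, f4s26_38', f4s26_43, f4s26_43', f4s26_29, f4s26_29', f4s26_41, f4s26_41', f4s26_44, f4s26_44', f4s26_47, f4s26_47', f4s26_39, f4s26_39', f4s26_45, f4s26_45', f4s26_35, f4s26_35', f4s26_31, f4s26_31', f4s26_40, f4s26_40', f4s26_46, f4s26_46',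 f4s26_37, f4s26_37', f4s26_32, f4s26_32', f4s26_27, f4s26_27', f4s26_25, f4s26_25', f4s26_28, f4s26_28', f4s26_30, f4s26_30', f4s36_42, f4s36_42', f4s36_38, f4s36_38', f4s36_43, f4s36_43', f4s36_29, f4s36_29', f4s36_41, f4s36_41', f4s36_44, f4s36_44', f4s36_47, f4s36_47', f4s36_39, f4s36_39', f4s36_45, f4s36_45', f4s36_35, f4s36_35', f4s36_31, f4s36_31', f4s36_40, f4s36_40', f4s36_46, f4s36_46', f4s36_37, f4s36_37', f4s36_32, f4s36_32', f4s36_27, f4s36_27', f4s36_25, f4s36_25', f4s36_28, f4s36_28', f4s36_30, f4s36_30', f4s42_38, f4s42_38', f4s42_43, f4s42_43', f4s42_29, f4s42_29', f4s42_41, f4s42_41', f4s42_44, f4s42_44', f4s42_47, f4s42_47', f4s42_39, f4s42_39', f4s42_45, f4s42_45', f4s42_35, f4s42_35', f4s42_31, f4s42_31', f4s42_40, f4s42_40', f4s42_46, f4s42_46', f4s42_37, f4s42_37', f4s42_32, f4s42_32', f4s42_27, f4s42_27', f4s42_25, f4s42_25', f4s42_28, f4s42_28', f4s42_30,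 f4s42_30', f4s38_43, f4s38_43', f4s38_29, f4s38_29', f4s38_41, f4s38_41', f4s38_44, f4s38_44', f4s38_47, f4s38_47', f4s38_39, f4s38_39', f4s38_45, f4s38_45', f4s38_35, f4s38_35', f4s38_31, f4s38_31', f4s38_40, f4s38_40', f4s38_46, f4s38_46', f4s38_37, f4s38_37', f4s38_32, f4s38_32', f4s38_27, f4s38_27', f4s38_25, f4s38_25', f4s38_28, f4s38_28', f4s38_30, f4s38_30', f4s43_29, f4s43_29', f4s43_41, f4s43_41', f4s43_44, f4s43_44', f4s43_47, f4s43_47', f4s43_39, f4s43_39', f4s43_45, f4s43_45', f4s43_35, f4s43_35', f4s43_31, f4s43_31', f4s43_40, f4s43_40', f4s43_46, f4s43_46', f4s43_37, f4s43_37', f4s43_32, f4s43_32', f4s43_27, f4s43_27', f4s43_25, f4s43_25', f4s43_28, f4s43_28', f4s43_30, f4s43_30', f4s29_41, f4s29_41', f4s29_44, f4s29_44', f4s29_47, f4s29_47', f4s29_39, f4s29_39', f4s29_45, f4s29_45', f4s29_35, f4s29_35', f4s29_31, f4s29_31', f4s29_40, f4s29_40', f4s29_46, f4s29_46',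 f4s29_37, f4s29_37', f4s29_32, f4s29_32', f4s29_27, f4s29_27', f4s29_25, f4s29_25', f4s29_28, f4s29_28', f4s29_30, f4s29_30', f4s41_44, f4s41_44', f4s41_47, f4s41_47', f4s41_39, f4s41_39', f4s41_45, f4s41_45', f4s41_35, f4s41_35', f4s41_31, f4s41_31', f4s41_40, f4s41_40', f4s41_46, f4s41_46', f4s41_37, f4s41_37', f4s41_32, f4s41_32', f4s41_27, f4s41_27', f4s41_25, f4s41_25', f4s41_28, f4s41_28', f4s41_30, f4s41_30', f4s44_47, f4s44_47', f4s44_39, f4s44_39', f4s44_45, f4s44_45', f4s44_35, f4s44_35', f4s44_31, f4s44_31', f4s44_40, f4s44_40', f4s44_46, f4s44_46', f4s44_37, f4s44_37', f4s44_32, f4s44_32', f4s44_27, f4s44_27', f4s44_25, f4s44_25', f4s44_28, f4s44_28', f4s44_30, f4s44_30', f4s47_39, f4s47_39', f4s47_45, f4s47_45', f4s47_35, f4s47_35', f4s47_31, f4s47_31', f4s47_40, f4s47_40', f4s47_46, f4s47_46', f4s47_37, f4s47_37', f4s47_32, f4s47_32', f4s47_27, f4s47_27', f4s47_25,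 f4s47_25', f4s47_28, f4s47_28', f4s47_30, f4s47_30', f4s39_45, f4s39_45', f4s39_35, f4s39_35', f4s39_31, f4s39_31', f4s39_40, f4s39_40', f4s39_46, f4s39_46', f4s39_37, f4s39_37', f4s39_32, f4s39_32', f4s39_27, f4s39_27', f4s39_25, f4s39_25', f4s39_28, f4s39_28', f4s39_30, f4s39_30', f4s45_35, f4s45_35', f4s45_31, f4s45_31', f4s45_40, f4s45_40', f4s45_46, f4s45_46', f4s45_37, f4s45_37', f4s45_32, f4s45_32', f4s45_27, f4s45_27', f4s45_25, f4s45_25', f4s45_28, f4s45_28', f4s45_30, f4s45_30', f4s35_31, f4s35_31', f4s35_40, f4s35_40', f4s35_46, f4s35_46', f4s35_37, f4s35_37', f4s35_32, f4s35_32', f4s35_27, f4s35_27', f4s35_25, f4s35_25', f4s35_28, f4s35_28', f4s35_30, f4s35_30', f4s31_40, f4s31_40', f4s31_46, f4s31_46', f4s31_37, f4s31_37', f4s31_32, f4s31_32', f4s31_27, f4s31_27', f4s31_25, f4s31_25', f4s31_28, f4s31_28', f4s31_30, f4s31_30', f4s40_46, f4s40_46', f4s40_37, f4s40_37',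 f4s40_32, f4s40_32', f4s40_27, f4s40_27', f4s40_25, f4s40_25', f4s40_28, f4s40_28', f4s40_30, f4s40_30', f4s46_37, f4s46_37', f4s46_32, f4s46_32', f4s46_27, f4s46_27', f4s46_25, f4s46_25', f4s46_28, f4s46_28', f4s46_30, f4s46_30', f4s37_32, f4s37_32', f4s37_27, f4s37_27', f4s37_25, f4s37_25', f4s37_28, f4s37_28', f4s37_30, f4s37_30', f4s32_27, f4s32_27', f4s32_25, f4s32_25', f4s32_28, f4s32_28', f4s32_30, f4s32_30', f4s27_25, f4s27_25', f4s27_28, f4s27_28', f4s27_30, f4s27_30', f4s25_28, f4s25_28', f4s25_30, f4s25_30', f4s28_30, f4s28_30', fX_merge, fX_mul]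
  apply f4_ext24 <;> (try simp only [map_add, map_mul, map_pow, hθ, f4_th4 m hθ, f4_th6 m hθ, f4_th8 m hθ]) <;>
    first | rfl | ring1 | (ring_nf; (try simp only [hθ, f4_th4 m hθ, f4_th6 m hθ, f4_th8 m hθ]); (try ring_nf); (try simp only [c2_2, c2_3, c2_4, c2_5, c2_6, c2_7, c2_8, c2_9, c2_10, c2_11, c2_12, neg_eq_self_F, mul_zero, mul_one, add_zero, zero_add]); try ring1)

set_option maxHeartbeats 8000000 in
theorem f4E_mul_2 (a1 a2 b2 a3 a4 b4 a5 a6 b6 a7 a8 b8 y z : K) :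
    f4E m a1 a2 b2 a3 a4 b4 a5 a6 b6 a7 a8 b8 * f4y2 m y z = f4E m
      a1
      (a2 + y)
      (b2 + z + θ a2 * y)
      (a3 + a4 * y + a8 * θ z ^ 2 + a8 * y * θ y ^ 2)
      (a4 + a8 * θ y ^ 2)
      (b4 + θ a5 * θ y + θ a7 * z + θ a6 * θ a8 * z + θ a7 * y * θ y + b8 * θ y * z + b8 * θ z ^ 2 + θ a4 * a8 * θ y ^ 2 + θ a6 * θ a8 * y * θ y + a8 * θ a8 * θ y * z + b8 * y * θ y ^ 2 + a8 * θ a8 * y * θ y ^ 2)
      (a5 + a7 * θ y ^ 2 + a6 * a8 * θ y ^ 2 + θ b8 ^ 2 * θ z ^ 2 + a8 * θ a8 ^ 2 * θ z ^ 2)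
      (a6 + θ a8 ^ 2 * y)
      (b6 + a7 * θ y + θ a7 * θ a8 * y + θ a8 * b8 * z + θ b8 ^ 2 * z + θ a6 * θ a8 ^ 2 * y + a8 * θ a8 ^ 2 * z + θ b8 ^ 2 * y * θ y)
      (a7 + θ b8 ^ 2 * y)
      a8
      b8 := by
  rw [f4E_roots, f4E_roots]
  unfold f4y2 clsEl
  simp only [mul_assoc]
  simp only [f4s33_24, f4s33_24', f4s33_34, f4s33_34', f4s33_26, f4s33_26', f4s33_36, f4s33_36', f4s33_42, f4s33_42', f4s33_38, f4s33_38', f4s33_43, f4s33_43', f4s33_29, f4s33_29', f4s33_41, f4s33_41', f4s33_44, f4s33_44', f4s33_47, f4s33_47', f4s33_39, f4s33_39', f4s33_45, f4s33_45', f4s33_35, f4s33_35', f4s33_31, f4s33_31', f4s33_40, f4s33_40', f4s33_46, f4s33_46', f4s33_37, f4s33_37', f4s33_32, f4s33_32', f4s33_27, f4s33_27', f4s33_25, f4s33_25', f4s33_28, f4s33_28', f4s33_30, f4s33_30', f4s24_34, f4s24_34', f4s24_26, f4s24_26', f4s24_36, f4s24_36', f4s24_42, f4s24_42', f4s24_38, f4s24_38', f4s24_43,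 f4s24_43', f4s24_29, f4s24_29', f4s24_41, f4s24_41', f4s24_44, f4s24_44', f4s24_47, f4s24_47', f4s24_39, f4s24_39', f4s24_45, f4s24_45', f4s24_35, f4s24_35', f4s24_31, f4s24_31', f4s24_40, f4s24_40', f4s24_46, f4s24_46', f4s24_37, f4s24_37', f4s24_32, f4s24_32', f4s24_27, f4s24_27', f4s24_25, f4s24_25', f4s24_28, f4s24_28', f4s24_30, f4s24_30', f4s34_26, f4s34_26', f4s34_36, f4s34_36', f4s34_42, f4s34_42', f4s34_38, f4s34_38', f4s34_43, f4s34_43', f4s34_29, f4s34_29', f4s34_41, f4s34_41', f4s34_44, f4s34_44', f4s34_47, f4s34_47', f4s34_39, f4s34_39', f4s34_45, f4s34_45', f4s34_35, f4s34_35', f4s34_31, f4s34_31', f4s34_40, f4s34_40', f4s34_46, f4s34_46', f4s34_37, f4s34_37', f4s34_32, f4s34_32', f4s34_27, f4s34_27', f4s34_25, f4s34_25', f4s34_28, f4s34_28', f4s34_30, f4s34_30', f4s26_36, f4s26_36', f4s26_42, f4s26_42', f4s26_38, f4s26_38', f4s26_43, f4s26_43', f4s26_29, f4s26_29',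 f4s26_41, f4s26_41', f4s26_44, f4s26_44', f4s26_47, f4s26_47', f4s26_39, f4s26_39', f4s26_45, f4s26_45', f4s26_35, f4s26_35', f4s26_31, f4s26_31', f4s26_40, f4s26_40', f4s26_46, f4s26_46', f4s26_37, f4s26_37', f4s26_32, f4s26_32', f4s26_27, f4s26_27', f4s26_25, f4s26_25', f4s26_28, f4s26_28', f4s26_30, f4s26_30', f4s36_42, f4s36_42', f4s36_38, f4s36_38', f4s36_43, f4s36_43', f4s36_29, f4s36_29', f4s36_41, f4s36_41', f4s36_44, f4s36_44', f4s36_47, f4s36_47', f4s36_39, f4s36_39', f4s36_45, f4s36_45', f4s36_35, f4s36_35', f4s36_31, f4s36_31', f4s36_40, f4s36_40', f4s36_46, f4s36_46', f4s36_37, f4s36_37', f4s36_32, f4s36_32', f4s36_27, f4s36_27', f4s36_25, f4s36_25', f4s36_28, f4s36_28', f4s36_30, f4s36_30', f4s42_38, f4s42_38', f4s42_43, f4s42_43', f4s42_29, f4s42_29', f4s42_41, f4s42_41', f4s42_44, f4s42_44', f4s42_47, f4s42_47', f4s42_39, f4s42_39', f4s42_45, f4s42_45', f4s42_35,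 f4s42_35', f4s42_31, f4s42_31', f4s42_40, f4s42_40', f4s42_46, f4s42_46', f4s42_37, f4s42_37', f4s42_32, f4s42_32', f4s42_27, f4s42_27', f4s42_25, f4s42_25', f4s42_28, f4s42_28', f4s42_30, f4s42_30', f4s38_43, f4s38_43', f4s38_29, f4s38_29', f4s38_41, f4s38_41', f4s38_44, f4s38_44', f4s38_47, f4s38_47', f4s38_39, f4s38_39', f4s38_45, f4s38_45', f4s38_35, f4s38_35', f4s38_31, f4s38_31', f4s38_40, f4s38_40', f4s38_46, f4s38_46', f4s38_37, f4s38_37', f4s38_32, f4s38_32', f4s38_27, f4s38_27', f4s38_25, f4s38_25', f4s38_28, f4s38_28', f4s38_30, f4s38_30', f4s43_29, f4s43_29', f4s43_41, f4s43_41', f4s43_44, f4s43_44', f4s43_47, f4s43_47', f4s43_39, f4s43_39', f4s43_45, f4s43_45', f4s43_35, f4s43_35', f4s43_31, f4s43_31', f4s43_40, f4s43_40', f4s43_46, f4s43_46', f4s43_37, f4s43_37', f4s43_32, f4s43_32', f4s43_27, f4s43_27', f4s43_25, f4s43_25', f4s43_28, f4s43_28', f4s43_30, f4s43_30',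 f4s29_41, f4s29_41', f4s29_44, f4s29_44', f4s29_47, f4s29_47', f4s29_39, f4s29_39', f4s29_45, f4s29_45', f4s29_35, f4s29_35', f4s29_31, f4s29_31', f4s29_40, f4s29_40', f4s29_46, f4s29_46', f4s29_37, f4s29_37', f4s29_32, f4s29_32', f4s29_27, f4s29_27', f4s29_25, f4s29_25', f4s29_28, f4s29_28', f4s29_30, f4s29_30', f4s41_44, f4s41_44', f4s41_47, f4s41_47', f4s41_39, f4s41_39', f4s41_45, f4s41_45', f4s41_35, f4s41_35', f4s41_31, f4s41_31', f4s41_40, f4s41_40', f4s41_46, f4s41_46', f4s41_37, f4s41_37', f4s41_32, f4s41_32', f4s41_27, f4s41_27', f4s41_25, f4s41_25', f4s41_28, f4s41_28', f4s41_30, f4s41_30', f4s44_47, f4s44_47', f4s44_39, f4s44_39', f4s44_45, f4s44_45', f4s44_35, f4s44_35', f4s44_31, f4s44_31', f4s44_40, f4s44_40', f4s44_46, f4s44_46', f4s44_37, f4s44_37', f4s44_32, f4s44_32', f4s44_27, f4s44_27', f4s44_25, f4s44_25', f4s44_28, f4s44_28', f4s44_30, f4s44_30', f4s47_39,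 f4s47_39', f4s47_45, f4s47_45', f4s47_35, f4s47_35', f4s47_31, f4s47_31', f4s47_40, f4s47_40', f4s47_46, f4s47_46', f4s47_37, f4s47_37', f4s47_32, f4s47_32', f4s47_27, f4s47_27', f4s47_25, f4s47_25', f4s47_28, f4s47_28', f4s47_30, f4s47_30', f4s39_45, f4s39_45', f4s39_35, f4s39_35', f4s39_31, f4s39_31', f4s39_40, f4s39_40', f4s39_46, f4s39_46', f4s39_37, f4s39_37', f4s39_32, f4s39_32', f4s39_27, f4s39_27', f4s39_25, f4s39_25', f4s39_28, f4s39_28', f4s39_30, f4s39_30', f4s45_35, f4s45_35', f4s45_31, f4s45_31', f4s45_40, f4s45_40', f4s45_46, f4s45_46', f4s45_37, f4s45_37', f4s45_32, f4s45_32', f4s45_27, f4s45_27', f4s45_25, f4s45_25', f4s45_28, f4s45_28', f4s45_30, f4s45_30', f4s35_31, f4s35_31', f4s35_40, f4s35_40', f4s35_46, f4s35_46', f4s35_37, f4s35_37', f4s35_32, f4s35_32', f4s35_27, f4s35_27', f4s35_25, f4s35_25', f4s35_28, f4s35_28', f4s35_30, f4s35_30', f4s31_40, f4s31_40',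 f4s31_46, f4s31_46', f4s31_37, f4s31_37', f4s31_32, f4s31_32', f4s31_27, f4s31_27', f4s31_25, f4s31_25', f4s31_28, f4s31_28', f4s31_30, f4s31_30', f4s40_46, f4s40_46', f4s40_37, f4s40_37', f4s40_32, f4s40_32', f4s40_27, f4s40_27', f4s40_25, f4s40_25', f4s40_28, f4s40_28', f4s40_30, f4s40_30', f4s46_37, f4s46_37', f4s46_32, f4s46_32', f4s46_27, f4s46_27', f4s46_25, f4s46_25', f4s46_28, f4s46_28', f4s46_30, f4s46_30', f4s37_32, f4s37_32', f4s37_27, f4s37_27', f4s37_25, f4s37_25', f4s37_28, f4s37_28', f4s37_30, f4s37_30', f4s32_27, f4s32_27', f4s32_25, f4s32_25', f4s32_28, f4s32_28', f4s32_30, f4s32_30', f4s27_25, f4s27_25', f4s27_28, f4s27_28', f4s27_30, f4s27_30', f4s25_28, f4s25_28', f4s25_30, f4s25_30', f4s28_30, f4s28_30', fX_merge, fX_mul]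
  apply f4_ext24 <;> (try simp only [map_add, map_mul, map_pow, hθ, f4_th4 m hθ, f4_th6 m hθ, f4_th8 m hθ]) <;>
    first | rfl | ring1 | (ring_nf; (try simp only [hθ, f4_th4 m hθ, f4_th6 m hθ, f4_th8 m hθ]); (try ring_nf); (try simp only [c2_2, c2_3, c2_4, c2_5, c2_6, c2_7, c2_8, c2_9, c2_10, c2_11, c2_12, neg_eq_self_F, mul_zero, mul_one, add_zero, zero_add]); try ring1)

set_option maxHeartbeats 8000000 in
theorem f4E_mul_3 (a1 a2 b2 a3 a4 b4 a5 a6 b6 a7 a8 b8 y : K) :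
    f4E m a1 a2 b2 a3 a4 b4 a5 a6 b6 a7 a8 b8 * f4x3 m y = f4E m
      a1
      a2
      b2
      (a3 + y)
      a4
      (b4 + θ a6 * θ y + θ a8 * y)
      (a5 + θ a8 ^ 2 * y)
      a6
      (b6 + b8 * θ y)
      a7
      a8
      b8 := by
  rw [f4E_roots, f4E_roots]
  unfold f4x3 pairEl
  simp only [mul_assoc]
  simp only [f4s33_24, f4s33_24', f4s33_34, f4s33_34', f4s33_26, f4s33_26', f4s33_36, f4s33_36', f4s33_42, f4s33_42', f4s33_38, f4s33_38', f4s33_43, f4s33_43', f4s33_29, f4s33_29', f4s33_41, f4s33_41', f4s33_44, f4s33_44', f4s33_47, f4s33_47', f4s33_39, f4s33_39', f4s33_45, f4s33_45', f4s33_35, f4s33_35', f4s33_31, f4s33_31', f4s33_40, f4s33_40', f4s33_46, f4s33_46', f4s33_37, f4s33_37', f4s33_32, f4s33_32', f4s33_27, f4s33_27', f4s33_25, f4s33_25', f4s33_28, f4s33_28', f4s33_30, f4s33_30', f4s24_34, f4s24_34', f4s24_26, f4s24_26', f4s24_36, f4s24_36', f4s24_42, f4s24_42',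 f4s24_38, f4s24_38', f4s24_43, f4s24_43', f4s24_29, f4s24_29', f4s24_41, f4s24_41', f4s24_44, f4s24_44', f4s24_47, f4s24_47', f4s24_39, f4s24_39', f4s24_45, f4s24_45', f4s24_35, f4s24_35', f4s24_31, f4s24_31', f4s24_40, f4s24_40', f4s24_46, f4s24_46', f4s24_37, f4s24_37', f4s24_32, f4s24_32', f4s24_27, f4s24_27', f4s24_25, f4s24_25', f4s24_28, f4s24_28', f4s24_30, f4s24_30', f4s34_26, f4s34_26', f4s34_36, f4s34_36', f4s34_42, f4s34_42', f4s34_38, f4s34_38', f4s34_43, f4s34_43', f4s34_29, f4s34_29', f4s34_41, f4s34_41', f4s34_44, f4s34_44', f4s34_47, f4s34_47', f4s34_39, f4s34_39', f4s34_45, f4s34_45', f4s34_35, f4s34_35', f4s34_31, f4s34_31', f4s34_40, f4s34_40', f4s34_46, f4s34_46', f4s34_37, f4s34_37', f4s34_32, f4s34_32', f4s34_27, f4s34_27', f4s34_25, f4s34_25', f4s34_28, f4s34_28', f4s34_30, f4s34_30', f4s26_36, f4s26_36', f4s26_42, f4s26_42', f4s26_38, f4s26_38', f4s26_43,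 f4s26_43', f4s26_29, f4s26_29', f4s26_41, f4s26_41', f4s26_44, f4s26_44', f4s26_47, f4s26_47', f4s26_39, f4s26_39', f4s26_45, f4s26_45', f4s26_35, f4s26_35', f4s26_31, f4s26_31', f4s26_40, f4s26_40', f4s26_46, f4s26_46', f4s26_37, f4s26_37', f4s26_32, f4s26_32', f4s26_27, f4s26_27', f4s26_25, f4s26_25', f4s26_28, f4s26_28', f4s26_30, f4s26_30', f4s36_42, f4s36_42', f4s36_38, f4s36_38', f4s36_43, f4s36_43', f4s36_29, f4s36_29', f4s36_41, f4s36_41', f4s36_44, f4s36_44', f4s36_47, f4s36_47', f4s36_39, f4s36_39', f4s36_45, f4s36_45', f4s36_35, f4s36_35', f4s36_31, f4s36_31', f4s36_40, f4s36_40', f4s36_46, f4s36_46', f4s36_37, f4s36_37', f4s36_32, f4s36_32', f4s36_27, f4s36_27', f4s36_25, f4s36_25', f4s36_28, f4s36_28', f4s36_30, f4s36_30', f4s42_38, f4s42_38', f4s42_43, f4s42_43', f4s42_29, f4s42_29', f4s42_41, f4s42_41', f4s42_44, f4s42_44', f4s42_47, f4s42_47', f4s42_39, f4s42_39',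 f4s42_45, f4s42_45', f4s42_35, f4s42_35', f4s42_31, f4s42_31', f4s42_40, f4s42_40', f4s42_46, f4s42_46', f4s42_37, f4s42_37', f4s42_32, f4s42_32', f4s42_27, f4s42_27', f4s42_25, f4s42_25', f4s42_28, f4s42_28', f4s42_30, f4s42_30', f4s38_43, f4s38_43', f4s38_29, f4s38_29', f4s38_41, f4s38_41', f4s38_44, f4s38_44', f4s38_47, f4s38_47', f4s38_39, f4s38_39', f4s38_45, f4s38_45', f4s38_35, f4s38_35', f4s38_31, f4s38_31', f4s38_40, f4s38_40', f4s38_46, f4s38_46', f4s38_37, f4s38_37', f4s38_32, f4s38_32', f4s38_27, f4s38_27', f4s38_25, f4s38_25', f4s38_28, f4s38_28', f4s38_30, f4s38_30', f4s43_29, f4s43_29', f4s43_41, f4s43_41', f4s43_44, f4s43_44', f4s43_47, f4s43_47', f4s43_39, f4s43_39', f4s43_45, f4s43_45', f4s43_35, f4s43_35', f4s43_31, f4s43_31', f4s43_40, f4s43_40', f4s43_46, f4s43_46', f4s43_37, f4s43_37', f4s43_32, f4s43_32', f4s43_27, f4s43_27', f4s43_25, f4s43_25', f4s43_28,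 f4s43_28', f4s43_30, f4s43_30', f4s29_41, f4s29_41', f4s29_44, f4s29_44', f4s29_47, f4s29_47', f4s29_39, f4s29_39', f4s29_45, f4s29_45', f4s29_35, f4s29_35', f4s29_31, f4s29_31', f4s29_40, f4s29_40', f4s29_46, f4s29_46', f4s29_37, f4s29_37', f4s29_32, f4s29_32', f4s29_27, f4s29_27', f4s29_25, f4s29_25', f4s29_28, f4s29_28', f4s29_30, f4s29_30', f4s41_44, f4s41_44', f4s41_47, f4s41_47', f4s41_39, f4s41_39', f4s41_45, f4s41_45', f4s41_35, f4s41_35', f4s41_31, f4s41_31', f4s41_40, f4s41_40', f4s41_46, f4s41_46', f4s41_37, f4s41_37', f4s41_32, f4s41_32', f4s41_27, f4s41_27', f4s41_25, f4s41_25', f4s41_28, f4s41_28', f4s41_30, f4s41_30', f4s44_47, f4s44_47', f4s44_39, f4s44_39', f4s44_45, f4s44_45', f4s44_35, f4s44_35', f4s44_31, f4s44_31', f4s44_40, f4s44_40', f4s44_46, f4s44_46', f4s44_37, f4s44_37', f4s44_32, f4s44_32', f4s44_27, f4s44_27', f4s44_25, f4s44_25', f4s44_28, f4s44_28',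 f4s44_30, f4s44_30', f4s47_39, f4s47_39', f4s47_45, f4s47_45', f4s47_35, f4s47_35', f4s47_31, f4s47_31', f4s47_40, f4s47_40', f4s47_46, f4s47_46', f4s47_37, f4s47_37', f4s47_32, f4s47_32', f4s47_27, f4s47_27', f4s47_25, f4s47_25', f4s47_28, f4s47_28', f4s47_30, f4s47_30', f4s39_45, f4s39_45', f4s39_35, f4s39_35', f4s39_31, f4s39_31', f4s39_40, f4s39_40', f4s39_46, f4s39_46', f4s39_37, f4s39_37', f4s39_32, f4s39_32', f4s39_27, f4s39_27', f4s39_25, f4s39_25', f4s39_28, f4s39_28', f4s39_30, f4s39_30', f4s45_35, f4s45_35', f4s45_31, f4s45_31', f4s45_40, f4s45_40', f4s45_46, f4s45_46', f4s45_37, f4s45_37', f4s45_32, f4s45_32', f4s45_27, f4s45_27', f4s45_25, f4s45_25', f4s45_28, f4s45_28', f4s45_30, f4s45_30', f4s35_31, f4s35_31', f4s35_40, f4s35_40', f4s35_46, f4s35_46', f4s35_37, f4s35_37', f4s35_32, f4s35_32', f4s35_27, f4s35_27', f4s35_25, f4s35_25', f4s35_28, f4s35_28', f4s35_30,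 f4s35_30', f4s31_40, f4s31_40', f4s31_46, f4s31_46', f4s31_37, f4s31_37', f4s31_32, f4s31_32', f4s31_27, f4s31_27', f4s31_25, f4s31_25', f4s31_28, f4s31_28', f4s31_30, f4s31_30', f4s40_46, f4s40_46', f4s40_37, f4s40_37', f4s40_32, f4s40_32', f4s40_27, f4s40_27', f4s40_25, f4s40_25', f4s40_28, f4s40_28', f4s40_30, f4s40_30', f4s46_37, f4s46_37', f4s46_32, f4s46_32', f4s46_27, f4s46_27', f4s46_25, f4s46_25', f4s46_28, f4s46_28', f4s46_30, f4s46_30', f4s37_32, f4s37_32', f4s37_27, f4s37_27', f4s37_25, f4s37_25', f4s37_28, f4s37_28', f4s37_30, f4s37_30', f4s32_27, f4s32_27', f4s32_25, f4s32_25', f4s32_28, f4s32_28', f4s32_30, f4s32_30', f4s27_25, f4s27_25', f4s27_28, f4s27_28', f4s27_30, f4s27_30', f4s25_28, f4s25_28', f4s25_30, f4s25_30', f4s28_30, f4s28_30', fX_merge, fX_mul]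
  apply f4_ext24 <;> (try simp only [map_add, map_mul, map_pow, hθ, f4_th4 m hθ, f4_th6 m hθ, f4_th8 m hθ]) <;>
    first | rfl | ring1 | (ring_nf; (try simp only [hθ, f4_th4 m hθ, f4_th6 m hθ, f4_th8 m hθ]); (try ring_nf); (try simp only [c2_2, c2_3, c2_4, c2_5, c2_6, c2_7, c2_8, c2_9, c2_10, c2_11, c2_12, neg_eq_self_F, mul_zero, mul_one, add_zero, zero_add]); try ring1)

set_option maxHeartbeats 8000000 in
theorem f4E_mul_4 (a1 a2 b2 a3 a4 b4 a5 a6 b6 a7 a8 b8 y z : K) :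
    f4E m a1 a2 b2 a3 a4 b4 a5 a6 b6 a7 a8 b8 * f4y4 m y z = f4E m
      a1
      a2
      b2
      a3
      (a4 + y)
      (b4 + z + θ a4 * y)
      (a5 + a6 * y)
      a6
      (b6 + θ a7 * θ y)
      a7
      a8
      b8 := by
  rw [f4E_roots, f4E_roots]
  unfold f4y4 clsEl
  simp only [mul_assoc]
  simp only [f4s33_24, f4s33_24', f4s33_34, f4s33_34', f4s33_26, f4s33_26', f4s33_36, f4s33_36', f4s33_42, f4s33_42', f4s33_38, f4s33_38', f4s33_43, f4s33_43', f4s33_29, f4s33_29', f4s33_41, f4s33_41', f4s33_44, f4s33_44', f4s33_47, f4s33_47', f4s33_39, f4s33_39', f4s33_45, f4s33_45', f4s33_35, f4s33_35', f4s33_31, f4s33_31', f4s33_40, f4s33_40', f4s33_46, f4s33_46', f4s33_37, f4s33_37', f4s33_32, f4s33_32', f4s33_27, f4s33_27', f4s33_25, f4s33_25', f4s33_28, f4s33_28', f4s33_30, f4s33_30', f4s24_34, f4s24_34', f4s24_26, f4s24_26', f4s24_36, f4s24_36', f4s24_42, f4s24_42', f4s24_38,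 f4s24_38', f4s24_43, f4s24_43', f4s24_29, f4s24_29', f4s24_41, f4s24_41', f4s24_44, f4s24_44', f4s24_47, f4s24_47', f4s24_39, f4s24_39', f4s24_45, f4s24_45', f4s24_35, f4s24_35', f4s24_31, f4s24_31', f4s24_40, f4s24_40', f4s24_46, f4s24_46', f4s24_37, f4s24_37', f4s24_32, f4s24_32', f4s24_27, f4s24_27', f4s24_25, f4s24_25', f4s24_28, f4s24_28', f4s24_30, f4s24_30', f4s34_26, f4s34_26', f4s34_36, f4s34_36', f4s34_42, f4s34_42', f4s34_38, f4s34_38', f4s34_43, f4s34_43', f4s34_29, f4s34_29', f4s34_41, f4s34_41', f4s34_44, f4s34_44', f4s34_47, f4s34_47', f4s34_39, f4s34_39', f4s34_45, f4s34_45', f4s34_35, f4s34_35', f4s34_31, f4s34_31', f4s34_40, f4s34_40', f4s34_46, f4s34_46', f4s34_37, f4s34_37', f4s34_32, f4s34_32', f4s34_27, f4s34_27', f4s34_25, f4s34_25', f4s34_28, f4s34_28', f4s34_30, f4s34_30', f4s26_36, f4s26_36', f4s26_42, f4s26_42', f4s26_38, f4s26_38', f4s26_43, f4s26_43',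 f4s26_29, f4s26_29', f4s26_41, f4s26_41', f4s26_44, f4s26_44', f4s26_47, f4s26_47', f4s26_39, f4s26_39', f4s26_45, f4s26_45', f4s26_35, f4s26_35', f4s26_31, f4s26_31', f4s26_40, f4s26_40', f4s26_46, f4s26_46', f4s26_37, f4s26_37', f4s26_32, f4s26_32', f4s26_27, f4s26_27', f4s26_25, f4s26_25', f4s26_28, f4s26_28', f4s26_30, f4s26_30', f4s36_42, f4s36_42', f4s36_38, f4s36_38', f4s36_43, f4s36_43', f4s36_29, f4s36_29', f4s36_41, f4s36_41', f4s36_44, f4s36_44', f4s36_47, f4s36_47', f4s36_39, f4s36_39', f4s36_45, f4s36_45', f4s36_35, f4s36_35', f4s36_31, f4s36_31', f4s36_40, f4s36_40', f4s36_46, f4s36_46', f4s36_37, f4s36_37', f4s36_32, f4s36_32', f4s36_27, f4s36_27', f4s36_25, f4s36_25', f4s36_28, f4s36_28', f4s36_30, f4s36_30', f4s42_38, f4s42_38', f4s42_43, f4s42_43', f4s42_29, f4s42_29', f4s42_41, f4s42_41', f4s42_44, f4s42_44', f4s42_47, f4s42_47', f4s42_39, f4s42_39', f4s42_45,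 f4s42_45', f4s42_35, f4s42_35', f4s42_31, f4s42_31', f4s42_40, f4s42_40', f4s42_46, f4s42_46', f4s42_37, f4s42_37', f4s42_32, f4s42_32', f4s42_27, f4s42_27', f4s42_25, f4s42_25', f4s42_28, f4s42_28', f4s42_30, f4s42_30', f4s38_43, f4s38_43', f4s38_29, f4s38_29', f4s38_41, f4s38_41', f4s38_44, f4s38_44', f4s38_47, f4s38_47', f4s38_39, f4s38_39', f4s38_45, f4s38_45', f4s38_35, f4s38_35', f4s38_31, f4s38_31', f4s38_40, f4s38_40', f4s38_46, f4s38_46', f4s38_37, f4s38_37', f4s38_32, f4s38_32', f4s38_27, f4s38_27', f4s38_25, f4s38_25', f4s38_28, f4s38_28', f4s38_30, f4s38_30', f4s43_29, f4s43_29', f4s43_41, f4s43_41', f4s43_44, f4s43_44', f4s43_47, f4s43_47', f4s43_39, f4s43_39', f4s43_45, f4s43_45', f4s43_35, f4s43_35', f4s43_31, f4s43_31', f4s43_40, f4s43_40', f4s43_46, f4s43_46', f4s43_37, f4s43_37', f4s43_32, f4s43_32', f4s43_27, f4s43_27', f4s43_25, f4s43_25', f4s43_28, f4s43_28',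 f4s43_30, f4s43_30', f4s29_41, f4s29_41', f4s29_44, f4s29_44', f4s29_47, f4s29_47', f4s29_39, f4s29_39', f4s29_45, f4s29_45', f4s29_35, f4s29_35', f4s29_31, f4s29_31', f4s29_40, f4s29_40', f4s29_46, f4s29_46', f4s29_37, f4s29_37', f4s29_32, f4s29_32', f4s29_27, f4s29_27', f4s29_25, f4s29_25', f4s29_28, f4s29_28', f4s29_30, f4s29_30', f4s41_44, f4s41_44', f4s41_47, f4s41_47', f4s41_39, f4s41_39', f4s41_45, f4s41_45', f4s41_35, f4s41_35', f4s41_31, f4s41_31', f4s41_40, f4s41_40', f4s41_46, f4s41_46', f4s41_37, f4s41_37', f4s41_32, f4s41_32', f4s41_27, f4s41_27', f4s41_25, f4s41_25', f4s41_28, f4s41_28', f4s41_30, f4s41_30', f4s44_47, f4s44_47', f4s44_39, f4s44_39', f4s44_45, f4s44_45', f4s44_35, f4s44_35', f4s44_31, f4s44_31', f4s44_40, f4s44_40', f4s44_46, f4s44_46', f4s44_37, f4s44_37', f4s44_32, f4s44_32', f4s44_27, f4s44_27', f4s44_25, f4s44_25', f4s44_28, f4s44_28', f4s44_30,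 f4s44_30', f4s47_39, f4s47_39', f4s47_45, f4s47_45', f4s47_35, f4s47_35', f4s47_31, f4s47_31', f4s47_40, f4s47_40', f4s47_46, f4s47_46', f4s47_37, f4s47_37', f4s47_32, f4s47_32', f4s47_27, f4s47_27', f4s47_25, f4s47_25', f4s47_28, f4s47_28', f4s47_30, f4s47_30', f4s39_45, f4s39_45', f4s39_35, f4s39_35', f4s39_31, f4s39_31', f4s39_40, f4s39_40', f4s39_46, f4s39_46', f4s39_37, f4s39_37', f4s39_32, f4s39_32', f4s39_27, f4s39_27', f4s39_25, f4s39_25', f4s39_28, f4s39_28', f4s39_30, f4s39_30', f4s45_35, f4s45_35', f4s45_31, f4s45_31', f4s45_40, f4s45_40', f4s45_46, f4s45_46', f4s45_37, f4s45_37', f4s45_32, f4s45_32', f4s45_27, f4s45_27', f4s45_25, f4s45_25', f4s45_28, f4s45_28', f4s45_30, f4s45_30', f4s35_31, f4s35_31', f4s35_40, f4s35_40', f4s35_46, f4s35_46', f4s35_37, f4s35_37', f4s35_32, f4s35_32', f4s35_27, f4s35_27', f4s35_25, f4s35_25', f4s35_28, f4s35_28', f4s35_30, f4s35_30',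 f4s31_40, f4s31_40', f4s31_46, f4s31_46', f4s31_37, f4s31_37', f4s31_32, f4s31_32', f4s31_27, f4s31_27', f4s31_25, f4s31_25', f4s31_28, f4s31_28', f4s31_30, f4s31_30', f4s40_46, f4s40_46', f4s40_37, f4s40_37', f4s40_32, f4s40_32', f4s40_27, f4s40_27', f4s40_25, f4s40_25', f4s40_28, f4s40_28', f4s40_30, f4s40_30', f4s46_37, f4s46_37', f4s46_32, f4s46_32', f4s46_27, f4s46_27', f4s46_25, f4s46_25', f4s46_28, f4s46_28', f4s46_30, f4s46_30', f4s37_32, f4s37_32', f4s37_27, f4s37_27', f4s37_25, f4s37_25', f4s37_28, f4s37_28', f4s37_30, f4s37_30', f4s32_27, f4s32_27', f4s32_25, f4s32_25', f4s32_28, f4s32_28', f4s32_30, f4s32_30', f4s27_25, f4s27_25', f4s27_28, f4s27_28', f4s27_30, f4s27_30', f4s25_28, f4s25_28', f4s25_30, f4s25_30', f4s28_30, f4s28_30', fX_merge, fX_mul]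
  apply f4_ext24 <;> (try simp only [map_add, map_mul, map_pow, hθ, f4_th4 m hθ, f4_th6 m hθ, f4_th8 m hθ]) <;>
    first | rfl | ring1 | (ring_nf; (try simp only [hθ, f4_th4 m hθ, f4_th6 m hθ, f4_th8 m hθ]); (try ring_nf); (try simp only [c2_2, c2_3, c2_4, c2_5, c2_6, c2_7, c2_8, c2_9, c2_10, c2_11, c2_12, neg_eq_self_F, mul_zero, mul_one, add_zero, zero_add]); try ring1)

set_option maxHeartbeats 8000000 in
theorem f4E_mul_5 (a1 a2 b2 a3 a4 b4 a5 a6 b6 a7 a8 b8 y : K) :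
    f4E m a1 a2 b2 a3 a4 b4 a5 a6 b6 a7 a8 b8 * f4x5 m y = f4E m
      a1
      a2
      b2
      a3
      a4
      b4
      (a5 + y)
      a6
      (b6 + θ a8 * θ y)
      a7
      a8
      b8 := by
  rw [f4E_roots, f4E_roots]
  unfold f4x5 pairEl
  simp only [mul_assoc]
  simp only [f4s33_24, f4s33_24', f4s33_34, f4s33_34', f4s33_26, f4s33_26', f4s33_36, f4s33_36', f4s33_42, f4s33_42', f4s33_38, f4s33_38', f4s33_43, f4s33_43', f4s33_29, f4s33_29', f4s33_41, f4s33_41', f4s33_44, f4s33_44', f4s33_47, f4s33_47', f4s33_39, f4s33_39', f4s33_45, f4s33_45', f4s33_35, f4s33_35', f4s33_31, f4s33_31', f4s33_40, f4s33_40', f4s33_46, f4s33_46', f4s33_37, f4s33_37', f4s33_32, f4s33_32', f4s33_27, f4s33_27', f4s33_25, f4s33_25', f4s33_28, f4s33_28', f4s33_30, f4s33_30', f4s24_34, f4s24_34', f4s24_26, f4s24_26', f4s24_36, f4s24_36', f4s24_42, f4s24_42', f4s24_38, f4s24_38', f4s24_43, f4s24_43',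 f4s24_29, f4s24_29', f4s24_41, f4s24_41', f4s24_44, f4s24_44', f4s24_47, f4s24_47', f4s24_39, f4s24_39', f4s24_45, f4s24_45', f4s24_35, f4s24_35', f4s24_31, f4s24_31', f4s24_40, f4s24_40', f4s24_46, f4s24_46', f4s24_37, f4s24_37', f4s24_32, f4s24_32', f4s24_27, f4s24_27', f4s24_25, f4s24_25', f4s24_28, f4s24_28', f4s24_30, f4s24_30', f4s34_26, f4s34_26', f4s34_36, f4s34_36', f4s34_42, f4s34_42', f4s34_38, f4s34_38', f4s34_43, f4s34_43', f4s34_29, f4s34_29', f4s34_41, f4s34_41', f4s34_44, f4s34_44', f4s34_47, f4s34_47', f4s34_39, f4s34_39', f4s34_45, f4s34_45', f4s34_35, f4s34_35', f4s34_31, f4s34_31', f4s34_40, f4s34_40', f4s34_46, f4s34_46', f4s34_37, f4s34_37', f4s34_32, f4s34_32', f4s34_27, f4s34_27', f4s34_25, f4s34_25', f4s34_28, f4s34_28', f4s34_30, f4s34_30', f4s26_36, f4s26_36', f4s26_42, f4s26_42', f4s26_38, f4s26_38', f4s26_43, f4s26_43', f4s26_29, f4s26_29', f4s26_41,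 f4s26_41', f4s26_44, f4s26_44', f4s26_47, f4s26_47', f4s26_39, f4s26_39', f4s26_45, f4s26_45', f4s26_35, f4s26_35', f4s26_31, f4s26_31', f4s26_40, f4s26_40', f4s26_46, f4s26_46', f4s26_37, f4s26_37', f4s26_32, f4s26_32', f4s26_27, f4s26_27', f4s26_25, f4s26_25', f4s26_28, f4s26_28', f4s26_30, f4s26_30', f4s36_42, f4s36_42', f4s36_38, f4s36_38', f4s36_43, f4s36_43', f4s36_29, f4s36_29', f4s36_41, f4s36_41', f4s36_44, f4s36_44', f4s36_47, f4s36_47', f4s36_39, f4s36_39', f4s36_45, f4s36_45', f4s36_35, f4s36_35', f4s36_31, f4s36_31', f4s36_40, f4s36_40', f4s36_46, f4s36_46', f4s36_37, f4s36_37', f4s36_32, f4s36_32', f4s36_27, f4s36_27', f4s36_25, f4s36_25', f4s36_28, f4s36_28', f4s36_30, f4s36_30', f4s42_38, f4s42_38', f4s42_43, f4s42_43', f4s42_29, f4s42_29', f4s42_41, f4s42_41', f4s42_44, f4s42_44', f4s42_47, f4s42_47', f4s42_39, f4s42_39', f4s42_45, f4s42_45', f4s42_35, f4s42_35',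 f4s42_31, f4s42_31', f4s42_40, f4s42_40', f4s42_46, f4s42_46', f4s42_37, f4s42_37', f4s42_32, f4s42_32', f4s42_27, f4s42_27', f4s42_25, f4s42_25', f4s42_28, f4s42_28', f4s42_30, f4s42_30', f4s38_43, f4s38_43', f4s38_29, f4s38_29', f4s38_41, f4s38_41', f4s38_44, f4s38_44', f4s38_47, f4s38_47', f4s38_39, f4s38_39', f4s38_45, f4s38_45', f4s38_35, f4s38_35', f4s38_31, f4s38_31', f4s38_40, f4s38_40', f4s38_46, f4s38_46', f4s38_37, f4s38_37', f4s38_32, f4s38_32', f4s38_27, f4s38_27', f4s38_25, f4s38_25', f4s38_28, f4s38_28', f4s38_30, f4s38_30', f4s43_29, f4s43_29', f4s43_41, f4s43_41', f4s43_44, f4s43_44', f4s43_47, f4s43_47', f4s43_39, f4s43_39', f4s43_45, f4s43_45', f4s43_35, f4s43_35', f4s43_31, f4s43_31', f4s43_40, f4s43_40', f4s43_46, f4s43_46', f4s43_37, f4s43_37', f4s43_32, f4s43_32', f4s43_27, f4s43_27', f4s43_25, f4s43_25', f4s43_28, f4s43_28', f4s43_30, f4s43_30', f4s29_41,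 f4s29_41', f4s29_44, f4s29_44', f4s29_47, f4s29_47', f4s29_39, f4s29_39', f4s29_45, f4s29_45', f4s29_35, f4s29_35', f4s29_31, f4s29_31', f4s29_40, f4s29_40', f4s29_46, f4s29_46', f4s29_37, f4s29_37', f4s29_32, f4s29_32', f4s29_27, f4s29_27', f4s29_25, f4s29_25', f4s29_28, f4s29_28', f4s29_30, f4s29_30', f4s41_44, f4s41_44', f4s41_47, f4s41_47', f4s41_39, f4s41_39', f4s41_45, f4s41_45', f4s41_35, f4s41_35', f4s41_31, f4s41_31', f4s41_40, f4s41_40', f4s41_46, f4s41_46', f4s41_37, f4s41_37', f4s41_32, f4s41_32', f4s41_27, f4s41_27', f4s41_25, f4s41_25', f4s41_28, f4s41_28', f4s41_30, f4s41_30', f4s44_47, f4s44_47', f4s44_39, f4s44_39', f4s44_45, f4s44_45', f4s44_35, f4s44_35', f4s44_31, f4s44_31', f4s44_40, f4s44_40', f4s44_46, f4s44_46', f4s44_37, f4s44_37', f4s44_32, f4s44_32', f4s44_27, f4s44_27', f4s44_25, f4s44_25', f4s44_28, f4s44_28', f4s44_30, f4s44_30', f4s47_39, f4s47_39',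 f4s47_45, f4s47_45', f4s47_35, f4s47_35', f4s47_31, f4s47_31', f4s47_40, f4s47_40', f4s47_46, f4s47_46', f4s47_37, f4s47_37', f4s47_32, f4s47_32', f4s47_27, f4s47_27', f4s47_25, f4s47_25', f4s47_28, f4s47_28', f4s47_30, f4s47_30', f4s39_45, f4s39_45', f4s39_35, f4s39_35', f4s39_31, f4s39_31', f4s39_40, f4s39_40', f4s39_46, f4s39_46', f4s39_37, f4s39_37', f4s39_32, f4s39_32', f4s39_27, f4s39_27', f4s39_25, f4s39_25', f4s39_28, f4s39_28', f4s39_30, f4s39_30', f4s45_35, f4s45_35', f4s45_31, f4s45_31', f4s45_40, f4s45_40', f4s45_46, f4s45_46', f4s45_37, f4s45_37', f4s45_32, f4s45_32', f4s45_27, f4s45_27', f4s45_25, f4s45_25', f4s45_28, f4s45_28', f4s45_30, f4s45_30', f4s35_31, f4s35_31', f4s35_40, f4s35_40', f4s35_46, f4s35_46', f4s35_37, f4s35_37', f4s35_32, f4s35_32', f4s35_27, f4s35_27', f4s35_25, f4s35_25', f4s35_28, f4s35_28', f4s35_30, f4s35_30', f4s31_40, f4s31_40', f4s31_46,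 f4s31_46', f4s31_37, f4s31_37', f4s31_32, f4s31_32', f4s31_27, f4s31_27', f4s31_25, f4s31_25', f4s31_28, f4s31_28', f4s31_30, f4s31_30', f4s40_46, f4s40_46', f4s40_37, f4s40_37', f4s40_32, f4s40_32', f4s40_27, f4s40_27', f4s40_25, f4s40_25', f4s40_28, f4s40_28', f4s40_30, f4s40_30', f4s46_37, f4s46_37', f4s46_32, f4s46_32', f4s46_27, f4s46_27', f4s46_25, f4s46_25', f4s46_28, f4s46_28', f4s46_30, f4s46_30', f4s37_32, f4s37_32', f4s37_27, f4s37_27', f4s37_25, f4s37_25', f4s37_28, f4s37_28', f4s37_30, f4s37_30', f4s32_27, f4s32_27', f4s32_25, f4s32_25', f4s32_28, f4s32_28', f4s32_30, f4s32_30', f4s27_25, f4s27_25', f4s27_28, f4s27_28', f4s27_30, f4s27_30', f4s25_28, f4s25_28', f4s25_30, f4s25_30', f4s28_30, f4s28_30', fX_merge, fX_mul]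
  apply f4_ext24 <;> (try simp only [map_add, map_mul, map_pow, hθ, f4_th4 m hθ, f4_th6 m hθ, f4_th8 m hθ]) <;>
    first | rfl | ring1 | (ring_nf; (try simp only [hθ, f4_th4 m hθ, f4_th6 m hθ, f4_th8 m hθ]); (try ring_nf); (try simp only [c2_2, c2_3, c2_4, c2_5, c2_6, c2_7, c2_8, c2_9, c2_10, c2_11, c2_12, neg_eq_self_F, mul_zero, mul_one, add_zero, zero_add]); try ring1)

set_option maxHeartbeats 8000000 in
theorem f4E_mul_6 (a1 a2 b2 a3 a4 b4 a5 a6 b6 a7 a8 b8 y z : K) :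
    f4E m a1 a2 b2 a3 a4 b4 a5 a6 b6 a7 a8 b8 * f4y6 m y z = f4E m
      a1
      a2
      b2
      a3
      a4
      b4
      a5
      (a6 + y)
      (b6 + z + θ a6 * y)
      (a7 + a8 * y)
      a8
      b8 := by
  rw [f4E_roots, f4E_roots]
  unfold f4y6 clsEl
  simp only [mul_assoc]
  simp only [f4s33_24, f4s33_24', f4s33_34, f4s33_34', f4s33_26, f4s33_26', f4s33_36, f4s33_36', f4s33_42, f4s33_42', f4s33_38, f4s33_38', f4s33_43, f4s33_43', f4s33_29, f4s33_29', f4s33_41, f4s33_41', f4s33_44, f4s33_44', f4s33_47, f4s33_47', f4s33_39, f4s33_39', f4s33_45, f4s33_45', f4s33_35, f4s33_35', f4s33_31, f4s33_31', f4s33_40, f4s33_40', f4s33_46, f4s33_46', f4s33_37, f4s33_37', f4s33_32, f4s33_32', f4s33_27, f4s33_27', f4s33_25, f4s33_25', f4s33_28, f4s33_28', f4s33_30, f4s33_30', f4s24_34, f4s24_34', f4s24_26, f4s24_26', f4s24_36, f4s24_36', f4s24_42, f4s24_42', f4s24_38, f4s24_38', f4s24_43,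 f4s24_43', f4s24_29, f4s24_29', f4s24_41, f4s24_41', f4s24_44, f4s24_44', f4s24_47, f4s24_47', f4s24_39, f4s24_39', f4s24_45, f4s24_45', f4s24_35, f4s24_35', f4s24_31, f4s24_31', f4s24_40, f4s24_40', f4s24_46, f4s24_46', f4s24_37, f4s24_37', f4s24_32, f4s24_32', f4s24_27, f4s24_27', f4s24_25, f4s24_25', f4s24_28, f4s24_28', f4s24_30, f4s24_30', f4s34_26, f4s34_26', f4s34_36, f4s34_36', f4s34_42, f4s34_42', f4s34_38, f4s34_38', f4s34_43, f4s34_43', f4s34_29, f4s34_29', f4s34_41, f4s34_41', f4s34_44, f4s34_44', f4s34_47, f4s34_47', f4s34_39, f4s34_39', f4s34_45, f4s34_45', f4s34_35, f4s34_35', f4s34_31, f4s34_31', f4s34_40, f4s34_40', f4s34_46, f4s34_46', f4s34_37, f4s34_37', f4s34_32, f4s34_32', f4s34_27, f4s34_27', f4s34_25, f4s34_25', f4s34_28, f4s34_28', f4s34_30, f4s34_30', f4s26_36, f4s26_36', f4s26_42, f4s26_42', f4s26_38, f4s26_38', f4s26_43, f4s26_43', f4s26_29, f4s26_29',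 f4s26_41, f4s26_41', f4s26_44, f4s26_44', f4s26_47, f4s26_47', f4s26_39, f4s26_39', f4s26_45, f4s26_45', f4s26_35, f4s26_35', f4s26_31, f4s26_31', f4s26_40, f4s26_40', f4s26_46, f4s26_46', f4s26_37, f4s26_37', f4s26_32, f4s26_32', f4s26_27, f4s26_27', f4s26_25, f4s26_25', f4s26_28, f4s26_28', f4s26_30, f4s26_30', f4s36_42, f4s36_42', f4s36_38, f4s36_38', f4s36_43, f4s36_43', f4s36_29, f4s36_29', f4s36_41, f4s36_41', f4s36_44, f4s36_44', f4s36_47, f4s36_47', f4s36_39, f4s36_39', f4s36_45, f4s36_45', f4s36_35, f4s36_35', f4s36_31, f4s36_31', f4s36_40, f4s36_40', f4s36_46, f4s36_46', f4s36_37, f4s36_37', f4s36_32, f4s36_32', f4s36_27, f4s36_27', f4s36_25, f4s36_25', f4s36_28, f4s36_28', f4s36_30, f4s36_30', f4s42_38, f4s42_38', f4s42_43, f4s42_43', f4s42_29, f4s42_29', f4s42_41, f4s42_41', f4s42_44, f4s42_44', f4s42_47, f4s42_47', f4s42_39, f4s42_39', f4s42_45, f4s42_45', f4s42_35,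 f4s42_35', f4s42_31, f4s42_31', f4s42_40, f4s42_40', f4s42_46, f4s42_46', f4s42_37, f4s42_37', f4s42_32, f4s42_32', f4s42_27, f4s42_27', f4s42_25, f4s42_25', f4s42_28, f4s42_28', f4s42_30, f4s42_30', f4s38_43, f4s38_43', f4s38_29, f4s38_29', f4s38_41, f4s38_41', f4s38_44, f4s38_44', f4s38_47, f4s38_47', f4s38_39, f4s38_39', f4s38_45, f4s38_45', f4s38_35, f4s38_35', f4s38_31, f4s38_31', f4s38_40, f4s38_40', f4s38_46, f4s38_46', f4s38_37, f4s38_37', f4s38_32, f4s38_32', f4s38_27, f4s38_27', f4s38_25, f4s38_25', f4s38_28, f4s38_28', f4s38_30, f4s38_30', f4s43_29, f4s43_29', f4s43_41, f4s43_41', f4s43_44, f4s43_44', f4s43_47, f4s43_47', f4s43_39, f4s43_39', f4s43_45, f4s43_45', f4s43_35, f4s43_35', f4s43_31, f4s43_31', f4s43_40, f4s43_40', f4s43_46, f4s43_46', f4s43_37, f4s43_37', f4s43_32, f4s43_32', f4s43_27, f4s43_27', f4s43_25, f4s43_25', f4s43_28, f4s43_28', f4s43_30, f4s43_30',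 f4s29_41, f4s29_41', f4s29_44, f4s29_44', f4s29_47, f4s29_47', f4s29_39, f4s29_39', f4s29_45, f4s29_45', f4s29_35, f4s29_35', f4s29_31, f4s29_31', f4s29_40, f4s29_40', f4s29_46, f4s29_46', f4s29_37, f4s29_37', f4s29_32, f4s29_32', f4s29_27, f4s29_27', f4s29_25, f4s29_25', f4s29_28, f4s29_28', f4s29_30, f4s29_30', f4s41_44, f4s41_44', f4s41_47, f4s41_47', f4s41_39, f4s41_39', f4s41_45, f4s41_45', f4s41_35, f4s41_35', f4s41_31, f4s41_31', f4s41_40, f4s41_40', f4s41_46, f4s41_46', f4s41_37, f4s41_37', f4s41_32, f4s41_32', f4s41_27, f4s41_27', f4s41_25, f4s41_25', f4s41_28, f4s41_28', f4s41_30, f4s41_30', f4s44_47, f4s44_47', f4s44_39, f4s44_39', f4s44_45, f4s44_45', f4s44_35, f4s44_35', f4s44_31, f4s44_31', f4s44_40, f4s44_40', f4s44_46, f4s44_46', f4s44_37, f4s44_37', f4s44_32, f4s44_32', f4s44_27, f4s44_27', f4s44_25, f4s44_25', f4s44_28, f4s44_28', f4s44_30, f4s44_30', f4s47_39,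 f4s47_39', f4s47_45, f4s47_45', f4s47_35, f4s47_35', f4s47_31, f4s47_31', f4s47_40, f4s47_40', f4s47_46, f4s47_46', f4s47_37, f4s47_37', f4s47_32, f4s47_32', f4s47_27, f4s47_27', f4s47_25, f4s47_25', f4s47_28, f4s47_28', f4s47_30, f4s47_30', f4s39_45, f4s39_45', f4s39_35, f4s39_35', f4s39_31, f4s39_31', f4s39_40, f4s39_40', f4s39_46, f4s39_46', f4s39_37, f4s39_37', f4s39_32, f4s39_32', f4s39_27, f4s39_27', f4s39_25, f4s39_25', f4s39_28, f4s39_28', f4s39_30, f4s39_30', f4s45_35, f4s45_35', f4s45_31, f4s45_31', f4s45_40, f4s45_40', f4s45_46, f4s45_46', f4s45_37, f4s45_37', f4s45_32, f4s45_32', f4s45_27, f4s45_27', f4s45_25, f4s45_25', f4s45_28, f4s45_28', f4s45_30, f4s45_30', f4s35_31, f4s35_31', f4s35_40, f4s35_40', f4s35_46, f4s35_46', f4s35_37, f4s35_37', f4s35_32, f4s35_32', f4s35_27, f4s35_27', f4s35_25, f4s35_25', f4s35_28, f4s35_28', f4s35_30, f4s35_30', f4s31_40, f4s31_40',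 f4s31_46, f4s31_46', f4s31_37, f4s31_37', f4s31_32, f4s31_32', f4s31_27, f4s31_27', f4s31_25, f4s31_25', f4s31_28, f4s31_28', f4s31_30, f4s31_30', f4s40_46, f4s40_46', f4s40_37, f4s40_37', f4s40_32, f4s40_32', f4s40_27, f4s40_27', f4s40_25, f4s40_25', f4s40_28, f4s40_28', f4s40_30, f4s40_30', f4s46_37, f4s46_37', f4s46_32, f4s46_32', f4s46_27, f4s46_27', f4s46_25, f4s46_25', f4s46_28, f4s46_28', f4s46_30, f4s46_30', f4s37_32, f4s37_32', f4s37_27, f4s37_27', f4s37_25, f4s37_25', f4s37_28, f4s37_28', f4s37_30, f4s37_30', f4s32_27, f4s32_27', f4s32_25, f4s32_25', f4s32_28, f4s32_28', f4s32_30, f4s32_30', f4s27_25, f4s27_25', f4s27_28, f4s27_28', f4s27_30, f4s27_30', f4s25_28, f4s25_28', f4s25_30, f4s25_30', f4s28_30, f4s28_30', fX_merge, fX_mul]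
  apply f4_ext24 <;> (try simp only [map_add, map_mul, map_pow, hθ, f4_th4 m hθ, f4_th6 m hθ, f4_th8 m hθ]) <;>
    first | rfl | ring1 | (ring_nf; (try simp only [hθ, f4_th4 m hθ, f4_th6 m hθ, f4_th8 m hθ]); (try ring_nf); (try simp only [c2_2, c2_3, c2_4, c2_5, c2_6, c2_7, c2_8, c2_9, c2_10, c2_11, c2_12, neg_eq_self_F, mul_zero, mul_one, add_zero, zero_add]); try ring1)

set_option maxHeartbeats 8000000 in
theorem f4E_mul_7 (a1 a2 b2 a3 a4 b4 a5 a6 b6 a7 a8 b8 y : K) :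
    f4E m a1 a2 b2 a3 a4 b4 a5 a6 b6 a7 a8 b8 * f4x7 m y = f4E m
      a1
      a2
      b2
      a3
      a4
      b4
      a5
      a6
      b6
      (a7 + y)
      a8
      b8 := by
  rw [f4E_roots, f4E_roots]
  unfold f4x7 pairEl
  simp only [mul_assoc]
  simp only [f4s33_24, f4s33_24', f4s33_34, f4s33_34', f4s33_26, f4s33_26', f4s33_36, f4s33_36', f4s33_42, f4s33_42', f4s33_38, f4s33_38', f4s33_43, f4s33_43', f4s33_29, f4s33_29', f4s33_41, f4s33_41', f4s33_44, f4s33_44', f4s33_47, f4s33_47', f4s33_39, f4s33_39', f4s33_45, f4s33_45', f4s33_35, f4s33_35', f4s33_31, f4s33_31', f4s33_40, f4s33_40', f4s33_46, f4s33_46', f4s33_37, f4s33_37', f4s33_32, f4s33_32', f4s33_27, f4s33_27', f4s33_25, f4s33_25', f4s33_28, f4s33_28', f4s33_30, f4s33_30', f4s24_34, f4s24_34', f4s24_26, f4s24_26', f4s24_36, f4s24_36', f4s24_42, f4s24_42', f4s24_38, f4s24_38', f4s24_43, f4s24_43', f4s24_29, f4s24_29',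 f4s24_41, f4s24_41', f4s24_44, f4s24_44', f4s24_47, f4s24_47', f4s24_39, f4s24_39', f4s24_45, f4s24_45', f4s24_35, f4s24_35', f4s24_31, f4s24_31', f4s24_40, f4s24_40', f4s24_46, f4s24_46', f4s24_37, f4s24_37', f4s24_32, f4s24_32', f4s24_27, f4s24_27', f4s24_25, f4s24_25', f4s24_28, f4s24_28', f4s24_30, f4s24_30', f4s34_26, f4s34_26', f4s34_36, f4s34_36', f4s34_42, f4s34_42', f4s34_38, f4s34_38', f4s34_43, f4s34_43', f4s34_29, f4s34_29', f4s34_41, f4s34_41', f4s34_44, f4s34_44', f4s34_47, f4s34_47', f4s34_39, f4s34_39', f4s34_45, f4s34_45', f4s34_35, f4s34_35', f4s34_31, f4s34_31', f4s34_40, f4s34_40', f4s34_46, f4s34_46', f4s34_37, f4s34_37', f4s34_32, f4s34_32', f4s34_27, f4s34_27', f4s34_25, f4s34_25', f4s34_28, f4s34_28', f4s34_30, f4s34_30', f4s26_36, f4s26_36', f4s26_42, f4s26_42', f4s26_38, f4s26_38', f4s26_43, f4s26_43', f4s26_29, f4s26_29', f4s26_41, f4s26_41', f4s26_44,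 f4s26_44', f4s26_47, f4s26_47', f4s26_39, f4s26_39', f4s26_45, f4s26_45', f4s26_35, f4s26_35', f4s26_31, f4s26_31', f4s26_40, f4s26_40', f4s26_46, f4s26_46', f4s26_37, f4s26_37', f4s26_32, f4s26_32', f4s26_27, f4s26_27', f4s26_25, f4s26_25', f4s26_28, f4s26_28', f4s26_30, f4s26_30', f4s36_42, f4s36_42', f4s36_38, f4s36_38', f4s36_43, f4s36_43', f4s36_29, f4s36_29', f4s36_41, f4s36_41', f4s36_44, f4s36_44', f4s36_47, f4s36_47', f4s36_39, f4s36_39', f4s36_45, f4s36_45', f4s36_35, f4s36_35', f4s36_31, f4s36_31', f4s36_40, f4s36_40', f4s36_46, f4s36_46', f4s36_37, f4s36_37', f4s36_32, f4s36_32', f4s36_27, f4s36_27', f4s36_25, f4s36_25', f4s36_28, f4s36_28', f4s36_30, f4s36_30', f4s42_38, f4s42_38', f4s42_43, f4s42_43', f4s42_29, f4s42_29', f4s42_41, f4s42_41', f4s42_44, f4s42_44', f4s42_47, f4s42_47', f4s42_39, f4s42_39', f4s42_45, f4s42_45', f4s42_35, f4s42_35', f4s42_31, f4s42_31',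 f4s42_40, f4s42_40', f4s42_46, f4s42_46', f4s42_37, f4s42_37', f4s42_32, f4s42_32', f4s42_27, f4s42_27', f4s42_25, f4s42_25', f4s42_28, f4s42_28', f4s42_30, f4s42_30', f4s38_43, f4s38_43', f4s38_29, f4s38_29', f4s38_41, f4s38_41', f4s38_44, f4s38_44', f4s38_47, f4s38_47', f4s38_39, f4s38_39', f4s38_45, f4s38_45', f4s38_35, f4s38_35', f4s38_31, f4s38_31', f4s38_40, f4s38_40', f4s38_46, f4s38_46', f4s38_37, f4s38_37', f4s38_32, f4s38_32', f4s38_27, f4s38_27', f4s38_25, f4s38_25', f4s38_28, f4s38_28', f4s38_30, f4s38_30', f4s43_29, f4s43_29', f4s43_41, f4s43_41', f4s43_44, f4s43_44', f4s43_47, f4s43_47', f4s43_39, f4s43_39', f4s43_45, f4s43_45', f4s43_35, f4s43_35', f4s43_31, f4s43_31', f4s43_40, f4s43_40', f4s43_46, f4s43_46', f4s43_37, f4s43_37', f4s43_32, f4s43_32', f4s43_27, f4s43_27', f4s43_25, f4s43_25', f4s43_28, f4s43_28', f4s43_30, f4s43_30', f4s29_41, f4s29_41', f4s29_44,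 f4s29_44', f4s29_47, f4s29_47', f4s29_39, f4s29_39', f4s29_45, f4s29_45', f4s29_35, f4s29_35', f4s29_31, f4s29_31', f4s29_40, f4s29_40', f4s29_46, f4s29_46', f4s29_37, f4s29_37', f4s29_32, f4s29_32', f4s29_27, f4s29_27', f4s29_25, f4s29_25', f4s29_28, f4s29_28', f4s29_30, f4s29_30', f4s41_44, f4s41_44', f4s41_47, f4s41_47', f4s41_39, f4s41_39', f4s41_45, f4s41_45', f4s41_35, f4s41_35', f4s41_31, f4s41_31', f4s41_40, f4s41_40', f4s41_46, f4s41_46', f4s41_37, f4s41_37', f4s41_32, f4s41_32', f4s41_27, f4s41_27', f4s41_25, f4s41_25', f4s41_28, f4s41_28', f4s41_30, f4s41_30', f4s44_47, f4s44_47', f4s44_39, f4s44_39', f4s44_45, f4s44_45', f4s44_35, f4s44_35', f4s44_31, f4s44_31', f4s44_40, f4s44_40', f4s44_46, f4s44_46', f4s44_37, f4s44_37', f4s44_32, f4s44_32', f4s44_27, f4s44_27', f4s44_25, f4s44_25', f4s44_28, f4s44_28', f4s44_30, f4s44_30', f4s47_39, f4s47_39', f4s47_45, f4s47_45',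 f4s47_35, f4s47_35', f4s47_31, f4s47_31', f4s47_40, f4s47_40', f4s47_46, f4s47_46', f4s47_37, f4s47_37', f4s47_32, f4s47_32', f4s47_27, f4s47_27', f4s47_25, f4s47_25', f4s47_28, f4s47_28', f4s47_30, f4s47_30', f4s39_45, f4s39_45', f4s39_35, f4s39_35', f4s39_31, f4s39_31', f4s39_40, f4s39_40', f4s39_46, f4s39_46', f4s39_37, f4s39_37', f4s39_32, f4s39_32', f4s39_27, f4s39_27', f4s39_25, f4s39_25', f4s39_28, f4s39_28', f4s39_30, f4s39_30', f4s45_35, f4s45_35', f4s45_31, f4s45_31', f4s45_40, f4s45_40', f4s45_46, f4s45_46', f4s45_37, f4s45_37', f4s45_32, f4s45_32', f4s45_27, f4s45_27', f4s45_25, f4s45_25', f4s45_28, f4s45_28', f4s45_30, f4s45_30', f4s35_31, f4s35_31', f4s35_40, f4s35_40', f4s35_46, f4s35_46', f4s35_37, f4s35_37', f4s35_32, f4s35_32', f4s35_27, f4s35_27', f4s35_25, f4s35_25', f4s35_28, f4s35_28', f4s35_30, f4s35_30', f4s31_40, f4s31_40', f4s31_46, f4s31_46', f4s31_37,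 f4s31_37', f4s31_32, f4s31_32', f4s31_27, f4s31_27', f4s31_25, f4s31_25', f4s31_28, f4s31_28', f4s31_30, f4s31_30', f4s40_46, f4s40_46', f4s40_37, f4s40_37', f4s40_32, f4s40_32', f4s40_27, f4s40_27', f4s40_25, f4s40_25', f4s40_28, f4s40_28', f4s40_30, f4s40_30', f4s46_37, f4s46_37', f4s46_32, f4s46_32', f4s46_27, f4s46_27', f4s46_25, f4s46_25', f4s46_28, f4s46_28', f4s46_30, f4s46_30', f4s37_32, f4s37_32', f4s37_27, f4s37_27', f4s37_25, f4s37_25', f4s37_28, f4s37_28', f4s37_30, f4s37_30', f4s32_27, f4s32_27', f4s32_25, f4s32_25', f4s32_28, f4s32_28', f4s32_30, f4s32_30', f4s27_25, f4s27_25', f4s27_28, f4s27_28', f4s27_30, f4s27_30', f4s25_28, f4s25_28', f4s25_30, f4s25_30', f4s28_30, f4s28_30', fX_merge, fX_mul]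
  apply f4_ext24 <;> (try simp only [map_add, map_mul, map_pow, hθ, f4_th4 m hθ, f4_th6 m hθ, f4_th8 m hθ]) <;>
    first | rfl | ring1 | (ring_nf; (try simp only [hθ, f4_th4 m hθ, f4_th6 m hθ, f4_th8 m hθ]); (try ring_nf); (try simp only [c2_2, c2_3, c2_4, c2_5, c2_6, c2_7, c2_8, c2_9, c2_10, c2_11, c2_12, neg_eq_self_F, mul_zero, mul_one, add_zero, zero_add]); try ring1)

set_option maxHeartbeats 8000000 in
theorem f4E_mul_8 (a1 a2 b2 a3 a4 b4 a5 a6 b6 a7 a8 b8 y z : K) :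
    f4E m a1 a2 b2 a3 a4 b4 a5 a6 b6 a7 a8 b8 * f4y8 m y z = f4E m
      a1
      a2
      b2
      a3
      a4
      b4
      a5
      a6
      b6
      a7
      (a8 + y)
      (b8 + z + θ a8 * y) := by
  rw [f4E_roots, f4E_roots]
  unfold f4y8 clsEl
  simp only [mul_assoc]
  simp only [f4s33_24, f4s33_24', f4s33_34, f4s33_34', f4s33_26, f4s33_26', f4s33_36, f4s33_36', f4s33_42, f4s33_42', f4s33_38, f4s33_38', f4s33_43, f4s33_43', f4s33_29, f4s33_29', f4s33_41, f4s33_41', f4s33_44, f4s33_44', f4s33_47, f4s33_47', f4s33_39, f4s33_39', f4s33_45, f4s33_45', f4s33_35, f4s33_35', f4s33_31, f4s33_31', f4s33_40, f4s33_40', f4s33_46, f4s33_46', f4s33_37, f4s33_37', f4s33_32, f4s33_32', f4s33_27, f4s33_27', f4s33_25, f4s33_25', f4s33_28, f4s33_28', f4s33_30, f4s33_30', f4s24_34, f4s24_34', f4s24_26, f4s24_26', f4s24_36, f4s24_36', f4s24_42, f4s24_42', f4s24_38, f4s24_38', f4s24_43, f4s24_43',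 f4s24_29, f4s24_29', f4s24_41, f4s24_41', f4s24_44, f4s24_44', f4s24_47, f4s24_47', f4s24_39, f4s24_39', f4s24_45, f4s24_45', f4s24_35, f4s24_35', f4s24_31, f4s24_31', f4s24_40, f4s24_40', f4s24_46, f4s24_46', f4s24_37, f4s24_37', f4s24_32, f4s24_32', f4s24_27, f4s24_27', f4s24_25, f4s24_25', f4s24_28, f4s24_28', f4s24_30, f4s24_30', f4s34_26, f4s34_26', f4s34_36, f4s34_36', f4s34_42, f4s34_42', f4s34_38, f4s34_38', f4s34_43, f4s34_43', f4s34_29, f4s34_29', f4s34_41, f4s34_41', f4s34_44, f4s34_44', f4s34_47, f4s34_47', f4s34_39, f4s34_39', f4s34_45, f4s34_45', f4s34_35, f4s34_35', f4s34_31, f4s34_31', f4s34_40, f4s34_40', f4s34_46, f4s34_46', f4s34_37, f4s34_37', f4s34_32, f4s34_32', f4s34_27, f4s34_27', f4s34_25, f4s34_25', f4s34_28, f4s34_28', f4s34_30, f4s34_30', f4s26_36, f4s26_36', f4s26_42, f4s26_42', f4s26_38, f4s26_38', f4s26_43, f4s26_43', f4s26_29, f4s26_29', f4s26_41,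 f4s26_41', f4s26_44, f4s26_44', f4s26_47, f4s26_47', f4s26_39, f4s26_39', f4s26_45, f4s26_45', f4s26_35, f4s26_35', f4s26_31, f4s26_31', f4s26_40, f4s26_40', f4s26_46, f4s26_46', f4s26_37, f4s26_37', f4s26_32, f4s26_32', f4s26_27, f4s26_27', f4s26_25, f4s26_25', f4s26_28, f4s26_28', f4s26_30, f4s26_30', f4s36_42, f4s36_42', f4s36_38, f4s36_38', f4s36_43, f4s36_43', f4s36_29, f4s36_29', f4s36_41, f4s36_41', f4s36_44, f4s36_44', f4s36_47, f4s36_47', f4s36_39, f4s36_39', f4s36_45, f4s36_45', f4s36_35, f4s36_35', f4s36_31, f4s36_31', f4s36_40, f4s36_40', f4s36_46, f4s36_46', f4s36_37, f4s36_37', f4s36_32, f4s36_32', f4s36_27, f4s36_27', f4s36_25, f4s36_25', f4s36_28, f4s36_28', f4s36_30, f4s36_30', f4s42_38, f4s42_38', f4s42_43, f4s42_43', f4s42_29, f4s42_29', f4s42_41, f4s42_41', f4s42_44, f4s42_44', f4s42_47, f4s42_47', f4s42_39, f4s42_39', f4s42_45, f4s42_45', f4s42_35, f4s42_35',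 f4s42_31, f4s42_31', f4s42_40, f4s42_40', f4s42_46, f4s42_46', f4s42_37, f4s42_37', f4s42_32, f4s42_32', f4s42_27, f4s42_27', f4s42_25, f4s42_25', f4s42_28, f4s42_28', f4s42_30, f4s42_30', f4s38_43, f4s38_43', f4s38_29, f4s38_29', f4s38_41, f4s38_41', f4s38_44, f4s38_44', f4s38_47, f4s38_47', f4s38_39, f4s38_39', f4s38_45, f4s38_45', f4s38_35, f4s38_35', f4s38_31, f4s38_31', f4s38_40, f4s38_40', f4s38_46, f4s38_46', f4s38_37, f4s38_37', f4s38_32, f4s38_32', f4s38_27, f4s38_27', f4s38_25, f4s38_25', f4s38_28, f4s38_28', f4s38_30, f4s38_30', f4s43_29, f4s43_29', f4s43_41, f4s43_41', f4s43_44, f4s43_44', f4s43_47, f4s43_47', f4s43_39, f4s43_39', f4s43_45, f4s43_45', f4s43_35, f4s43_35', f4s43_31, f4s43_31', f4s43_40, f4s43_40', f4s43_46, f4s43_46', f4s43_37, f4s43_37', f4s43_32, f4s43_32', f4s43_27, f4s43_27', f4s43_25, f4s43_25', f4s43_28, f4s43_28', f4s43_30, f4s43_30', f4s29_41,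 f4s29_41', f4s29_44, f4s29_44', f4s29_47, f4s29_47', f4s29_39, f4s29_39', f4s29_45, f4s29_45', f4s29_35, f4s29_35', f4s29_31, f4s29_31', f4s29_40, f4s29_40', f4s29_46, f4s29_46', f4s29_37, f4s29_37', f4s29_32, f4s29_32', f4s29_27, f4s29_27', f4s29_25, f4s29_25', f4s29_28, f4s29_28', f4s29_30, f4s29_30', f4s41_44, f4s41_44', f4s41_47, f4s41_47', f4s41_39, f4s41_39', f4s41_45, f4s41_45', f4s41_35, f4s41_35', f4s41_31, f4s41_31', f4s41_40, f4s41_40', f4s41_46, f4s41_46', f4s41_37, f4s41_37', f4s41_32, f4s41_32', f4s41_27, f4s41_27', f4s41_25, f4s41_25', f4s41_28, f4s41_28', f4s41_30, f4s41_30', f4s44_47, f4s44_47', f4s44_39, f4s44_39', f4s44_45, f4s44_45', f4s44_35, f4s44_35', f4s44_31, f4s44_31', f4s44_40, f4s44_40', f4s44_46, f4s44_46', f4s44_37, f4s44_37', f4s44_32, f4s44_32', f4s44_27, f4s44_27', f4s44_25, f4s44_25', f4s44_28, f4s44_28', f4s44_30, f4s44_30', f4s47_39, f4s47_39',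 f4s47_45, f4s47_45', f4s47_35, f4s47_35', f4s47_31, f4s47_31', f4s47_40, f4s47_40', f4s47_46, f4s47_46', f4s47_37, f4s47_37', f4s47_32, f4s47_32', f4s47_27, f4s47_27', f4s47_25, f4s47_25', f4s47_28, f4s47_28', f4s47_30, f4s47_30', f4s39_45, f4s39_45', f4s39_35, f4s39_35', f4s39_31, f4s39_31', f4s39_40, f4s39_40', f4s39_46, f4s39_46', f4s39_37, f4s39_37', f4s39_32, f4s39_32', f4s39_27, f4s39_27', f4s39_25, f4s39_25', f4s39_28, f4s39_28', f4s39_30, f4s39_30', f4s45_35, f4s45_35', f4s45_31, f4s45_31', f4s45_40, f4s45_40', f4s45_46, f4s45_46', f4s45_37, f4s45_37', f4s45_32, f4s45_32', f4s45_27, f4s45_27', f4s45_25, f4s45_25', f4s45_28, f4s45_28', f4s45_30, f4s45_30', f4s35_31, f4s35_31', f4s35_40, f4s35_40', f4s35_46, f4s35_46', f4s35_37, f4s35_37', f4s35_32, f4s35_32', f4s35_27, f4s35_27', f4s35_25, f4s35_25', f4s35_28, f4s35_28', f4s35_30, f4s35_30', f4s31_40, f4s31_40', f4s31_46,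 f4s31_46', f4s31_37, f4s31_37', f4s31_32, f4s31_32', f4s31_27, f4s31_27', f4s31_25, f4s31_25', f4s31_28, f4s31_28', f4s31_30, f4s31_30', f4s40_46, f4s40_46', f4s40_37, f4s40_37', f4s40_32, f4s40_32', f4s40_27, f4s40_27', f4s40_25, f4s40_25', f4s40_28, f4s40_28', f4s40_30, f4s40_30', f4s46_37, f4s46_37', f4s46_32, f4s46_32', f4s46_27, f4s46_27', f4s46_25, f4s46_25', f4s46_28, f4s46_28', f4s46_30, f4s46_30', f4s37_32, f4s37_32', f4s37_27, f4s37_27', f4s37_25, f4s37_25', f4s37_28, f4s37_28', f4s37_30, f4s37_30', f4s32_27, f4s32_27', f4s32_25, f4s32_25', f4s32_28, f4s32_28', f4s32_30, f4s32_30', f4s27_25, f4s27_25', f4s27_28, f4s27_28', f4s27_30, f4s27_30', f4s25_28, f4s25_28', f4s25_30, f4s25_30', f4s28_30, f4s28_30', fX_merge, fX_mul]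
  apply f4_ext24 <;> (try simp only [map_add, map_mul, map_pow, hθ, f4_th4 m hθ, f4_th6 m hθ, f4_th8 m hθ]) <;>
    first | rfl | ring1 | (ring_nf; (try simp only [hθ, f4_th4 m hθ, f4_th6 m hθ, f4_th8 m hθ]); (try ring_nf); (try simp only [c2_2, c2_3, c2_4, c2_5, c2_6, c2_7, c2_8, c2_9, c2_10, c2_11, c2_12, neg_eq_self_F, mul_zero, mul_one, add_zero, zero_add]); try ring1)

end F4

end Cfsg.Agent.Lib.H29.Chev
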