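import Mathlib
import Cfsg.Prelude.Def_ChevStructure
import Cfsg.Prelude.Def_LieTwisted
import Cfsg.Agent.Lib.H29.F4Inv2

/-!
# The large Ree groups: conjugation of the root elements by the Weyl group, in characteristic two
-/

set_option autoImplicit false
set_option linter.unusedSectionVars false
set_option linter.unusedSimpArgs false
set_option linter.unusedVariables false

namespace Cfsg.Agent.Lib.H29.Chev

open Cfsg.Lie Matrix

namespace Cert12

variable {D : ChevalleyDatum} {fd : FD} {fx : FX} {fc : FC} {fz : FZ} {F : Type*} [Field F]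
variable (C : Cert12 D fd fx fc fz)
include C

theorem wordN_append (w w' : List ℕ) : C.wordN F (w ++ w') = C.wordN F w * C.wordN F w' := by
  induction w with
  | nil => simp [wordN]
  | cons i w ih => simp only [List.cons_append, wordN, ih, mul_assoc]

/-- in characteristic two the elements `n_w` permute the root elements exactly -/
theorem wordN_conj_char2 [CharP F 2] (w : List ℕ) (hw : IsWd fd.l w) (s : ℕ) (hs : s < fd.n) (t : F) :
    C.wordN F w * C.c6.c2.xA s t * (C.wordN F w)⁻¹ = C.c6.c2.xA (fd.wordP fx w s) t := by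
  induction w with
  | nil => simp [wordN, FD.wordP]
  | cons i w ih =>
    obtain ⟨hi, hw'⟩ := hw.of_cons
    simp only [wordN, dif_pos hi, FD.wordP]
    have hs' := C.wordP_lt w hw' s hs
    have e : C.c6.c2.nG (fd.simples.getD i 0) (C.c6.c2.simple_lt i hi) * C.wordN F w * C.c6.c2.xA s t *
        (C.c6.c2.nG (fd.simples.getD i 0) (C.c6.c2.simple_lt i hi) * C.wordN F w)⁻¹ =
        C.c6.c2.nG (fd.simples.getD i 0) (C.c6.c2.simple_lt i hi) *
          (C.wordN F w * C.c6.c2.xA s t * (C.wordN F w)⁻¹) *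
          (C.c6.c2.nG (fd.simples.getD i 0) (C.c6.c2.simple_lt i hi))⁻¹ := by group
    rw [e, ih hw', C.c6.c2.nG_conj_x _ _ (C.c6.c2.simple_lt i hi) hs' (fd.conj_spec C.c6.c5.c3.conj i _ hi hs')]
    congr 1
    rcases fd.neta_cases (fx := fx) (fd.simples.getD i 0) (fd.wordP fx w s) with h | h
    · rw [h, Int.cast_one, one_mul]
    · rw [h, Int.cast_neg, Int.cast_one, CharTwo.neg_eq, one_mul]

/-- conjugation by the inverse -/
theorem wordN_inv_conj_char2 [CharP F 2] (w : List ℕ) (hw : IsWd fd.l w) (s : ℕ) (hs : s < fd.n) (t : F) :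
    (C.wordN F w)⁻¹ * C.c6.c2.xA s t * C.wordN F w = C.c6.c2.xA (fd.wordP fx w.reverse s) t := by
  have h := C.wordN_conj_char2 w hw (fd.wordP fx w.reverse s) (C.wordP_lt _ hw.reverse s hs) t
  rw [C.wordP_rev' w hw s hs] at h
  rw [← h]
  group

end Cert12

section F4

variable {K : Type*} [Field K] [CharP K 2] (m : ℕ)

theorem pairEl_wconj (w : List ℕ) (hw : IsWd fdF4.l w) (r rbar : ℕ) (hr : r < 48) (hrb : rbar < 48) (t : K) :
    cert12_F4.wordN K w * pairEl m r rbar t * (cert12_F4.wordN K w)⁻¹ =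
      pairEl m (fdF4.wordP fxF4 w r) (fdF4.wordP fxF4 w rbar) t := by
  unfold pairEl
  have e : cert12_F4.wordN K w * (fX r (f4Theta K m t) * fX rbar t) * (cert12_F4.wordN K w)⁻¹ =
      (cert12_F4.wordN K w * fX r (f4Theta K m t) * (cert12_F4.wordN K w)⁻¹) *
        (cert12_F4.wordN K w * fX rbar t * (cert12_F4.wordN K w)⁻¹) := by group
  rw [e, cert12_F4.wordN_conj_char2 w hw r hr, cert12_F4.wordN_conj_char2 w hw rbar hrb]

theorem clsEl_wconj (w : List ℕ) (hw : IsWd fdF4.l w) (a b c d : ℕ) (ha : a < 48) (hb : b < 48) (hc : c < 48)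
    (hd : d < 48) (t u : K) :
    cert12_F4.wordN K w * clsEl m a b c d t u * (cert12_F4.wordN K w)⁻¹ =
      clsEl m (fdF4.wordP fxF4 w a) (fdF4.wordP fxF4 w b) (fdF4.wordP fxF4 w c) (fdF4.wordP fxF4 w d) t u := by
  unfold clsEl
  have e : cert12_F4.wordN K w * (fX a (f4Theta K m t) * fX b t * fX c (f4Theta K m t * t + u) *
      fX d (f4Theta K m u ^ 2)) * (cert12_F4.wordN K w)⁻¹ =
      (cert12_F4.wordN K w * fX a (f4Theta K m t) * (cert12_F4.wordN K w)⁻¹) *
        (cert12_F4.wordN K w * fX b t * (cert12_F4.wordN K w)⁻¹) *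
        (cert12_F4.wordN K w * fX c (f4Theta K m t * t + u) * (cert12_F4.wordN K w)⁻¹) *
        (cert12_F4.wordN K w * fX d (f4Theta K m u ^ 2) * (cert12_F4.wordN K w)⁻¹) := by group
  rw [e, cert12_F4.wordN_conj_char2 w hw a ha, cert12_F4.wordN_conj_char2 w hw b hb,
    cert12_F4.wordN_conj_char2 w hw c hc, cert12_F4.wordN_conj_char2 w hw d hd]

theorem pairEl_wconj_inv (w : List ℕ) (hw : IsWd fdF4.l w) (r rbar : ℕ) (hr : r < 48) (hrb : rbar < 48) (t : K) :
    (cert12_F4.wordN K w)⁻¹ * pairEl m r rbar t * cert12_F4.wordN K w =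
      pairEl m (fdF4.wordP fxF4 w.reverse r) (fdF4.wordP fxF4 w.reverse rbar) t := by
  unfold pairEl
  have e : (cert12_F4.wordN K w)⁻¹ * (fX r (f4Theta K m t) * fX rbar t) * cert12_F4.wordN K w =
      ((cert12_F4.wordN K w)⁻¹ * fX r (f4Theta K m t) * cert12_F4.wordN K w) *
        ((cert12_F4.wordN K w)⁻¹ * fX rbar t * cert12_F4.wordN K w) := by group
  rw [e, cert12_F4.wordN_inv_conj_char2 w hw r hr, cert12_F4.wordN_inv_conj_char2 w hw rbar hrb]

theorem clsEl_wconj_inv (w : List ℕ) (hw : IsWd fdF4.l w) (a b c d : ℕ) (ha : a < 48) (hb : b < 48) (hc : c < 48)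
    (hd : d < 48) (t u : K) :
    (cert12_F4.wordN K w)⁻¹ * clsEl m a b c d t u * cert12_F4.wordN K w =
      clsEl m (fdF4.wordP fxF4 w.reverse a) (fdF4.wordP fxF4 w.reverse b) (fdF4.wordP fxF4 w.reverse c)
        (fdF4.wordP fxF4 w.reverse d) t u := by
  unfold clsEl
  have e : (cert12_F4.wordN K w)⁻¹ * (fX a (f4Theta K m t) * fX b t * fX c (f4Theta K m t * t + u) *
      fX d (f4Theta K m u ^ 2)) * cert12_F4.wordN K w =
      ((cert12_F4.wordN K w)⁻¹ * fX a (f4Theta K m t) * cert12_F4.wordN K w) *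
        ((cert12_F4.wordN K w)⁻¹ * fX b t * cert12_F4.wordN K w) *
        ((cert12_F4.wordN K w)⁻¹ * fX c (f4Theta K m t * t + u) * cert12_F4.wordN K w) *
        ((cert12_F4.wordN K w)⁻¹ * fX d (f4Theta K m u ^ 2) * cert12_F4.wordN K w) := by group
  rw [e, cert12_F4.wordN_inv_conj_char2 w hw a ha, cert12_F4.wordN_inv_conj_char2 w hw b hb,
    cert12_F4.wordN_inv_conj_char2 w hw c hc, cert12_F4.wordN_inv_conj_char2 w hw d hd]

set_option maxRecDepth 100000 in
theorem f4_w1_tbl : ∀ s < 48, 24 ≤ s → fdF4.wordP fxF4 [0, 3] s =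
    ([23, 26, 25, 34, 36, 35, 42, 41, 43, 14, 27, 29, 28, 38, 37, 39, 44, 31, 30, 32, 40, 45, 47, 46] : List ℕ).getD
      (s - 24) 0 := by decide +kernel

set_option maxRecDepth 100000 in
theorem f4_w2_tbl : ∀ s < 48, 24 ≤ s → fdF4.wordP fxF4 [1, 2, 1, 2] s =
    ([32, 22, 31, 20, 19, 29, 17, 26, 24, 37, 35, 34, 40, 33, 39, 38, 36, 41, 46, 45, 44, 43, 42, 47] : List ℕ).getD
      (s - 24) 0 := by decide +kernel

set_option maxRecDepth 100000

theorem f4_n1_y2 (t u : K) : fN1 K * f4y2 m t u * (fN1 K)⁻¹ = f4y8 m t u := by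
  have h := clsEl_wconj m [0, 3] isWd_w1 34 26 36 42 (by decide) (by decide) (by decide) (by decide) t u
  rw [show fdF4.wordP fxF4 [0, 3] 34 = 27 from by decide +kernel,
    show fdF4.wordP fxF4 [0, 3] 26 = 25 from by decide +kernel,
    show fdF4.wordP fxF4 [0, 3] 36 = 28 from by decide +kernel,
    show fdF4.wordP fxF4 [0, 3] 42 = 30 from by decide +kernel] at h
  exact h

theorem f4_n1_x3 (t : K) : fN1 K * f4x3 m t * (fN1 K)⁻¹ = f4x7 m t := by
  have h := pairEl_wconj m [0, 3] isWd_w1 38 43 (by decide) (by decide) t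
  rw [show fdF4.wordP fxF4 [0, 3] 38 = 37 from by decide +kernel,
    show fdF4.wordP fxF4 [0, 3] 43 = 32 from by decide +kernel] at h
  exact h

theorem f4_n1_y4 (t u : K) : fN1 K * f4y4 m t u * (fN1 K)⁻¹ = f4y6 m t u := by
  have h := clsEl_wconj m [0, 3] isWd_w1 29 41 44 47 (by decide) (by decide) (by decide) (by decide) t u
  rw [show fdF4.wordP fxF4 [0, 3] 29 = 35 from by decide +kernel,
    show fdF4.wordP fxF4 [0, 3] 41 = 31 from by decide +kernel,
    show fdF4.wordP fxF4 [0, 3] 44 = 40 from by decide +kernel,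
    show fdF4.wordP fxF4 [0, 3] 47 = 46 from by decide +kernel] at h
  exact h

theorem f4_n1_x5 (t : K) : fN1 K * f4x5 m t * (fN1 K)⁻¹ = f4x5 m t := by
  have h := pairEl_wconj m [0, 3] isWd_w1 39 45 (by decide) (by decide) t
  rw [show fdF4.wordP fxF4 [0, 3] 39 = 39 from by decide +kernel,
    show fdF4.wordP fxF4 [0, 3] 45 = 45 from by decide +kernel] at h
  exact h

theorem f4_n1_y6 (t u : K) : fN1 K * f4y6 m t u * (fN1 K)⁻¹ = f4y4 m t u := by
  have h := clsEl_wconj m [0, 3] isWd_w1 35 31 40 46 (by decide) (by decide) (by decide) (by decide) t u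
  rw [show fdF4.wordP fxF4 [0, 3] 35 = 29 from by decide +kernel,
    show fdF4.wordP fxF4 [0, 3] 31 = 41 from by decide +kernel,
    show fdF4.wordP fxF4 [0, 3] 40 = 44 from by decide +kernel,
    show fdF4.wordP fxF4 [0, 3] 46 = 47 from by decide +kernel] at h
  exact h

theorem f4_n1_x7 (t : K) : fN1 K * f4x7 m t * (fN1 K)⁻¹ = f4x3 m t := by
  have h := pairEl_wconj m [0, 3] isWd_w1 37 32 (by decide) (by decide) t
  rw [show fdF4.wordP fxF4 [0, 3] 37 = 38 from by decide +kernel,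
    show fdF4.wordP fxF4 [0, 3] 32 = 43 from by decide +kernel] at h
  exact h

theorem f4_n1_y8 (t u : K) : fN1 K * f4y8 m t u * (fN1 K)⁻¹ = f4y2 m t u := by
  have h := clsEl_wconj m [0, 3] isWd_w1 27 25 28 30 (by decide) (by decide) (by decide) (by decide) t u
  rw [show fdF4.wordP fxF4 [0, 3] 27 = 34 from by decide +kernel,
    show fdF4.wordP fxF4 [0, 3] 25 = 26 from by decide +kernel,
    show fdF4.wordP fxF4 [0, 3] 28 = 36 from by decide +kernel,
    show fdF4.wordP fxF4 [0, 3] 30 = 42 from by decide +kernel] at h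
  exact h

theorem f4_n8_x1 (t : K) : fN2 K * f4x1 m t * (fN2 K)⁻¹ = f4x7 m t := by
  have h := pairEl_wconj m [1, 2, 1, 2] isWd_w2 33 24 (by decide) (by decide) t
  rw [show fdF4.wordP fxF4 [1, 2, 1, 2] 33 = 37 from by decide +kernel,
    show fdF4.wordP fxF4 [1, 2, 1, 2] 24 = 32 from by decide +kernel] at h
  exact h

theorem f4_n8_y2 (t u : K) : fN2 K * f4y2 m t u * (fN2 K)⁻¹ = f4y6 m t u := by
  have h := clsEl_wconj m [1, 2, 1, 2] isWd_w2 34 26 36 42 (by decide) (by decide) (by decide) (by decide) t u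
  rw [show fdF4.wordP fxF4 [1, 2, 1, 2] 34 = 35 from by decide +kernel,
    show fdF4.wordP fxF4 [1, 2, 1, 2] 26 = 31 from by decide +kernel,
    show fdF4.wordP fxF4 [1, 2, 1, 2] 36 = 40 from by decide +kernel,
    show fdF4.wordP fxF4 [1, 2, 1, 2] 42 = 46 from by decide +kernel] at h
  exact h

theorem f4_n8_x3 (t : K) : fN2 K * f4x3 m t * (fN2 K)⁻¹ = f4x5 m t := by
  have h := pairEl_wconj m [1, 2, 1, 2] isWd_w2 38 43 (by decide) (by decide) t
  rw [show fdF4.wordP fxF4 [1, 2, 1, 2] 38 = 39 from by decide +kernel,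
    show fdF4.wordP fxF4 [1, 2, 1, 2] 43 = 45 from by decide +kernel] at h
  exact h

theorem f4_n8_y4 (t u : K) : fN2 K * f4y4 m t u * (fN2 K)⁻¹ = f4y4 m t u := by
  have h := clsEl_wconj m [1, 2, 1, 2] isWd_w2 29 41 44 47 (by decide) (by decide) (by decide) (by decide) t u
  rw [show fdF4.wordP fxF4 [1, 2, 1, 2] 29 = 29 from by decide +kernel,
    show fdF4.wordP fxF4 [1, 2, 1, 2] 41 = 41 from by decide +kernel,
    show fdF4.wordP fxF4 [1, 2, 1, 2] 44 = 44 from by decide +kernel,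
    show fdF4.wordP fxF4 [1, 2, 1, 2] 47 = 47 from by decide +kernel] at h
  exact h

theorem f4_n8_x5 (t : K) : fN2 K * f4x5 m t * (fN2 K)⁻¹ = f4x3 m t := by
  have h := pairEl_wconj m [1, 2, 1, 2] isWd_w2 39 45 (by decide) (by decide) t
  rw [show fdF4.wordP fxF4 [1, 2, 1, 2] 39 = 38 from by decide +kernel,
    show fdF4.wordP fxF4 [1, 2, 1, 2] 45 = 43 from by decide +kernel] at h
  exact h

theorem f4_n8_y6 (t u : K) : fN2 K * f4y6 m t u * (fN2 K)⁻¹ = f4y2 m t u := by
  have h := clsEl_wconj m [1, 2, 1, 2] isWd_w2 35 31 40 46 (by decide) (by decide) (by decide) (by decide) t u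
  rw [show fdF4.wordP fxF4 [1, 2, 1, 2] 35 = 34 from by decide +kernel,
    show fdF4.wordP fxF4 [1, 2, 1, 2] 31 = 26 from by decide +kernel,
    show fdF4.wordP fxF4 [1, 2, 1, 2] 40 = 36 from by decide +kernel,
    show fdF4.wordP fxF4 [1, 2, 1, 2] 46 = 42 from by decide +kernel] at h
  exact h

theorem f4_n8_x7 (t : K) : fN2 K * f4x7 m t * (fN2 K)⁻¹ = f4x1 m t := by
  have h := pairEl_wconj m [1, 2, 1, 2] isWd_w2 37 32 (by decide) (by decide) t
  rw [show fdF4.wordP fxF4 [1, 2, 1, 2] 37 = 33 from by decide +kernel,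
    show fdF4.wordP fxF4 [1, 2, 1, 2] 32 = 24 from by decide +kernel] at h
  exact h

end F4

end Cfsg.Agent.Lib.H29.Chev
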