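import Mathlib
import Cfsg.Prelude.Def_ChevStructure
import Cfsg.Prelude.Def_LieTwisted
import Cfsg.Agent.Lib.H29.F4Inv3

/-!
# The large Ree groups: the normal form of the elements of `U¹`
-/

set_option autoImplicit false
set_option linter.unusedSectionVars false
set_option linter.unusedSimpArgs false
set_option linter.unusedVariables false

namespace Cfsg.Agent.Lib.H29.Chev

open Cfsg.Lie Matrix

section Gen

variable {D : ChevalleyDatum} {fd : FD} {fx : FX} {fc : FC} {fz : FZ} {F : Type*} [Field F]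
variable {C : Cert12 D fd fx fc fz} {σ : ↥(D.group F) →* ↥(D.group F)} {ρ : ℕ → ℕ} {ψ : ℕ → F →+* F}

/-- the fixed points of a chain of classes are products of fixed points of the classes -/
theorem RootTw.fix_chain_prod (R : RootTw C σ ρ ψ) : ∀ (L : List (List ℕ)), ChainOK fd ρ L →
    ∀ g ∈ fixGL σ ⊓ Vm D F (PL L) (fd.n / 2),
    ∃ xs : List (GL D.Idx F), List.Forall₂ (fun x c => x ∈ fixGL σ ⊓ Vm D F (· ∈ c) (fd.n / 2)) xs L ∧ g = xs.prod
  | [], _, g, hg => by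
    have : Vm D F (PL []) (fd.n / 2) = ⊥ := by
      rw [← Vm_false (D := D) (F := F) (fd.n / 2)]
      apply Vm_congr
      intro s
      constructor
      · rintro ⟨c, hc, _⟩; simp at hc
      · exact fun h => absurd h id
    rw [this, inf_bot_eq, Subgroup.mem_bot] at hg
    exact ⟨[], List.Forall₂.nil, by rw [hg, List.prod_nil]⟩
  | c :: L, hL, g, hg => by
    obtain ⟨hne, hc, hcc, hLc, hI, hdis, hL'⟩ := hL
    obtain ⟨x, hx, g', hg', rfl⟩ := R.fix_split (· ∈ c) (PL L) (PL (c :: L)) hI (by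
        rintro s ⟨c', hc', hs⟩
        rcases List.mem_cons.mp hc' with rfl | hc'
        · exact Or.inl hs
        · exact Or.inr ⟨c', hc', hs⟩) hcc hLc hdis (fun s _ _ hs => (hc s hs).2.2)
        (fun s _ _ h => ChainOK.rho_stable L hL' s h) g hg
    obtain ⟨xs, hxs, rfl⟩ := RootTw.fix_chain_prod R L hL' g' hg'
    exact ⟨x :: xs, List.Forall₂.cons hx hxs, by rw [List.prod_cons]⟩

end Gen

section F4

variable {K : Type*} [Field K] [Fintype K] [CharP K 2] (m : ℕ)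

theorem fN1_eq_wordN : fN1 K = cert12_F4.wordN K [0, 3] := rfl
theorem fN2_eq_wordN : fN2 K = cert12_F4.wordN K [1, 2, 1, 2] := rfl

/-- the fixed points of a class carried to the class `{24, 33}` by a word -/
theorem fix_pair_of_word (hK : Fintype.card K = 2 ^ (2 * m + 1)) (w : List ℕ) (hw : IsWd fdF4.l w)
    (hwf : cert12_F4.wordN K w ∈ fixGL (f4Sigma (K := K) m)) (c : List ℕ) (r rbar : ℕ)
    (hc : ∀ s ∈ c, 24 ≤ fdF4.wordP fxF4 w s ∧ fdF4.wordP fxF4 w s ∈ [24, 33])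
    (h1 : fdF4.wordP fxF4 w.reverse 33 = r) (h2 : fdF4.wordP fxF4 w.reverse 24 = rbar) (g : GL chevF4.Idx K)
    (hg : g ∈ fixGL (f4Sigma (K := K) m) ⊓ Vm chevF4 K (· ∈ c) (fdF4.n / 2)) : ∃ t : K, g = pairEl m r rbar t := by
  have h := fix_conj_mem m _ hwf _ (cert12_F4.perm_wordN w hw) c [24, 33] hc g hg
  obtain ⟨t, ht⟩ := fix_C1 m hK _ h
  refine ⟨t, ?_⟩
  have e : g = (cert12_F4.wordN K w)⁻¹ * (cert12_F4.wordN K w * g * (cert12_F4.wordN K w)⁻¹) * cert12_F4.wordN K w := by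
    group
  rw [e, ht, pairEl_wconj_inv m w hw 33 24 (by decide) (by decide), h1, h2]

/-- the fixed points of a class carried to the class `{25, 27, 28, 30}` by a word -/
theorem fix_cls_of_word (hK : Fintype.card K = 2 ^ (2 * m + 1)) (w : List ℕ) (hw : IsWd fdF4.l w)
    (hwf : cert12_F4.wordN K w ∈ fixGL (f4Sigma (K := K) m)) (cl : List ℕ) (a b c d : ℕ)
    (hc : ∀ s ∈ cl, 24 ≤ fdF4.wordP fxF4 w s ∧ fdF4.wordP fxF4 w s ∈ [25, 27, 28, 30])
    (h1 : fdF4.wordP fxF4 w.reverse 27 = a) (h2 : fdF4.wordP fxF4 w.reverse 25 = b)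
    (h3 : fdF4.wordP fxF4 w.reverse 28 = c) (h4 : fdF4.wordP fxF4 w.reverse 30 = d) (g : GL chevF4.Idx K)
    (hg : g ∈ fixGL (f4Sigma (K := K) m) ⊓ Vm chevF4 K (· ∈ cl) (fdF4.n / 2)) :
    ∃ t u : K, g = clsEl m a b c d t u := by
  have h := fix_conj_mem m _ hwf _ (cert12_F4.perm_wordN w hw) cl [25, 27, 28, 30] hc g hg
  obtain ⟨t, u, ht⟩ := fix_C2 m hK _ h
  refine ⟨t, u, ?_⟩
  have e : g = (cert12_F4.wordN K w)⁻¹ * (cert12_F4.wordN K w * g * (cert12_F4.wordN K w)⁻¹) * cert12_F4.wordN K w := by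
    group
  rw [e, ht, clsEl_wconj_inv m w hw 27 25 28 30 (by decide) (by decide) (by decide) (by decide), h1, h2, h3, h4]

theorem fN1_mem_fix (hK : Fintype.card K = 2 ^ (2 * m + 1)) : fN1 K ∈ fixGL (f4Sigma (K := K) m) :=
  twistedF4_le_fix m hK (fN1_mem_tw m)

theorem fN2_mem_fix (hK : Fintype.card K = 2 ^ (2 * m + 1)) : fN2 K ∈ fixGL (f4Sigma (K := K) m) :=
  twistedF4_le_fix m hK (fN2_mem_tw m)

theorem isWd_F4 (w : List ℕ) (h : ∀ i ∈ w, i < 4) : IsWd fdF4.l w := h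

set_option maxRecDepth 100000 in
/-- the normal form of the elements of `U¹` -/
theorem f4_normal (hK : Fintype.card K = 2 ^ (2 * m + 1)) (g : GL chevF4.Idx K)
    (hg : g ∈ fixGL (f4Sigma (K := K) m) ⊓ chevF4.posUnipotent K) :
    ∃ a1 a2 b2 a3 a4 b4 a5 a6 b6 a7 a8 b8 : K, g = f4E m a1 a2 b2 a3 a4 b4 a5 a6 b6 a7 a8 b8 := by
  rw [cert12_F4.posUnipotent_eq] at hg
  have e : Vm chevF4 K (fun _ => True) (fdF4.n / 2) = Vm chevF4 K (PL chainLF4) (fdF4.n / 2) :=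
    Vm_congr' cert12_F4 _ _ _ (fun s h1 h2 => ⟨fun _ => PL_chainLF4 s h1 h2, fun _ => trivial⟩)
  rw [e] at hg
  obtain ⟨xs, hxs, rfl⟩ := (f4RootTw (K := K) m).fix_chain_prod chainLF4 chainF4 g hg
  unfold chainLF4 at hxs
  have f1 := fN1_mem_fix m hK
  have f2 := fN2_mem_fix m hK
  rw [fN1_eq_wordN] at f1
  rw [fN2_eq_wordN] at f2
  cases hxs with
  | cons h1 hxs =>
  cases hxs with
  | cons h2 hxs =>
  cases hxs with
  | cons h3 hxs =>
  cases hxs with
  | cons h4 hxs =>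
  cases hxs with
  | cons h5 hxs =>
  cases hxs with
  | cons h6 hxs =>
  cases hxs with
  | cons h7 hxs =>
  cases hxs with
  | cons h8 hxs =>
  cases hxs
  obtain ⟨a1, rfl⟩ := fix_C1 m hK _ h1
  obtain ⟨a8, b8, rfl⟩ := fix_C2 m hK _ h8
  -- class 7: `n₈`
  obtain ⟨a7, rfl⟩ := fix_pair_of_word m hK [1, 2, 1, 2] isWd_w2 f2 [32, 37] 37 32 (by decide +kernel)
    (by decide +kernel) (by decide +kernel) _ h7
  -- class 2: `n₁`
  obtain ⟨a2, b2, rfl⟩ := fix_cls_of_word m hK [0, 3] isWd_w1 f1 [26, 34, 36, 42] 34 26 36 42 (by decide +kernel)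
    (by decide +kernel) (by decide +kernel) (by decide +kernel) (by decide +kernel) _ h2
  -- class 3: `n₈ n₁`
  have f21 : cert12_F4.wordN K ([1, 2, 1, 2] ++ [0, 3]) ∈ fixGL (f4Sigma (K := K) m) := by
    rw [cert12_F4.wordN_append]; exact mul_mem f2 f1
  obtain ⟨a3, rfl⟩ := fix_pair_of_word m hK ([1, 2, 1, 2] ++ [0, 3]) (isWd_F4 _ (by decide)) f21 [38, 43] 38 43
    (by decide +kernel) (by decide +kernel) (by decide +kernel) _ h3
  -- class 6: `n₁ n₈`
  have f12 : cert12_F4.wordN K ([0, 3] ++ [1, 2, 1, 2]) ∈ fixGL (f4Sigma (K := K) m) := by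
    rw [cert12_F4.wordN_append]; exact mul_mem f1 f2
  obtain ⟨a6, b6, rfl⟩ := fix_cls_of_word m hK ([0, 3] ++ [1, 2, 1, 2]) (isWd_F4 _ (by decide)) f12 [31, 35, 40, 46]
    35 31 40 46 (by decide +kernel) (by decide +kernel) (by decide +kernel) (by decide +kernel) (by decide +kernel)
    _ h6
  -- class 5: `n₈ n₁ n₈`
  have f212 : cert12_F4.wordN K ([1, 2, 1, 2] ++ ([0, 3] ++ [1, 2, 1, 2])) ∈ fixGL (f4Sigma (K := K) m) := by
    rw [cert12_F4.wordN_append]; exact mul_mem f2 f12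
  obtain ⟨a5, rfl⟩ := fix_pair_of_word m hK ([1, 2, 1, 2] ++ ([0, 3] ++ [1, 2, 1, 2])) (isWd_F4 _ (by decide)) f212
    [39, 45] 39 45 (by decide +kernel) (by decide +kernel) (by decide +kernel) _ h5
  -- class 4: `n₁ n₈ n₁`
  have f121 : cert12_F4.wordN K ([0, 3] ++ ([1, 2, 1, 2] ++ [0, 3])) ∈ fixGL (f4Sigma (K := K) m) := by
    rw [cert12_F4.wordN_append]; exact mul_mem f1 f21
  obtain ⟨a4, b4, rfl⟩ := fix_cls_of_word m hK ([0, 3] ++ ([1, 2, 1, 2] ++ [0, 3])) (isWd_F4 _ (by decide)) f121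
    [29, 41, 44, 47] 29 41 44 47 (by decide +kernel) (by decide +kernel) (by decide +kernel) (by decide +kernel)
    (by decide +kernel) _ h4
  refine ⟨a1, a2, b2, a3, a4, b4, a5, a6, b6, a7, a8, b8, ?_⟩
  unfold f4E
  simp only [List.prod_cons, List.prod_nil, mul_one]

end F4

end Cfsg.Agent.Lib.H29.Chev
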