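import Mathlib
import Cfsg.Prelude.Def_ChevStructure
import Cfsg.Prelude.Def_LieTwisted
import Cfsg.Agent.Lib.H29.F4Inv4
import Cfsg.Agent.Lib.H29.D4Inv9

/-!
# The large Ree groups: the elements of `U¹`, membership and uniqueness of the normal form
-/

set_option autoImplicit false
set_option linter.unusedSectionVars false
set_option linter.unusedSimpArgs false
set_option linter.unusedVariables false

namespace Cfsg.Agent.Lib.H29.Chev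

open Cfsg.Lie Matrix

section F4

variable {K : Type*} [Field K] [CharP K 2] (m : ℕ)

theorem f4x1_mem (t : K) : f4x1 m t ∈ twistedF4 K (2 ^ m) := pU_mem_tw m t
theorem f4y8_mem (t u : K) : f4y8 m t u ∈ twistedF4 K (2 ^ m) := cU_mem_tw m t u
theorem f4x7_mem (t : K) : f4x7 m t ∈ twistedF4 K (2 ^ m) := by
  rw [← f4_n8_x1]
  exact mul_mem (mul_mem (fN2_mem_tw m) (f4x1_mem m t)) (inv_mem (fN2_mem_tw m))
theorem f4y2_mem (t u : K) : f4y2 m t u ∈ twistedF4 K (2 ^ m) := by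
  rw [← f4_n1_y8]
  exact mul_mem (mul_mem (fN1_mem_tw m) (f4y8_mem m t u)) (inv_mem (fN1_mem_tw m))
theorem f4x3_mem (t : K) : f4x3 m t ∈ twistedF4 K (2 ^ m) := by
  rw [← f4_n1_x7]
  exact mul_mem (mul_mem (fN1_mem_tw m) (f4x7_mem m t)) (inv_mem (fN1_mem_tw m))
theorem f4y6_mem (t u : K) : f4y6 m t u ∈ twistedF4 K (2 ^ m) := by
  rw [← f4_n8_y2]
  exact mul_mem (mul_mem (fN2_mem_tw m) (f4y2_mem m t u)) (inv_mem (fN2_mem_tw m))
theorem f4x5_mem (t : K) : f4x5 m t ∈ twistedF4 K (2 ^ m) := by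
  rw [← f4_n8_x3]
  exact mul_mem (mul_mem (fN2_mem_tw m) (f4x3_mem m t)) (inv_mem (fN2_mem_tw m))
theorem f4y4_mem (t u : K) : f4y4 m t u ∈ twistedF4 K (2 ^ m) := by
  rw [← f4_n1_y6]
  exact mul_mem (mul_mem (fN1_mem_tw m) (f4y6_mem m t u)) (inv_mem (fN1_mem_tw m))

theorem f4E_mem_tw (a1 a2 b2 a3 a4 b4 a5 a6 b6 a7 a8 b8 : K) :
    f4E m a1 a2 b2 a3 a4 b4 a5 a6 b6 a7 a8 b8 ∈ twistedF4 K (2 ^ m) := by
  unfold f4E
  exact mul_mem (f4x1_mem m _) (mul_mem (f4y2_mem m _ _) (mul_mem (f4x3_mem m _) (mul_mem (f4y4_mem m _ _)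
    (mul_mem (f4x5_mem m _) (mul_mem (f4y6_mem m _ _) (mul_mem (f4x7_mem m _) (f4y8_mem m _ _)))))))

theorem fX_mem_pos (r : ℕ) (h1 : 24 ≤ r) (h2 : r < 48) (t : K) : fX r t ∈ chevF4.posUnipotent K := by
  show cert12_F4.c6.c2.xA r t ∈ _
  rw [cert12_F4.c6.c2.xA_of_lt r h2]
  exact cert12_F4.c6.c2.xG_mem_pos r h2 h1 t

theorem f4E_mem_pos (a1 a2 b2 a3 a4 b4 a5 a6 b6 a7 a8 b8 : K) :
    f4E m a1 a2 b2 a3 a4 b4 a5 a6 b6 a7 a8 b8 ∈ chevF4.posUnipotent K := by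
  rw [f4E_roots]
  have h := fun r (h1 : 24 ≤ r) (h2 : r < 48) (t : K) => fX_mem_pos r h1 h2 t
  exact mul_mem (h 33 (by norm_num) (by norm_num) _) (mul_mem (h 24 (by norm_num) (by norm_num) _)
    (mul_mem (h 34 (by norm_num) (by norm_num) _) (mul_mem (h 26 (by norm_num) (by norm_num) _)
    (mul_mem (h 36 (by norm_num) (by norm_num) _) (mul_mem (h 42 (by norm_num) (by norm_num) _)
    (mul_mem (h 38 (by norm_num) (by norm_num) _) (mul_mem (h 43 (by norm_num) (by norm_num) _)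
    (mul_mem (h 29 (by norm_num) (by norm_num) _) (mul_mem (h 41 (by norm_num) (by norm_num) _)
    (mul_mem (h 44 (by norm_num) (by norm_num) _) (mul_mem (h 47 (by norm_num) (by norm_num) _)
    (mul_mem (h 39 (by norm_num) (by norm_num) _) (mul_mem (h 45 (by norm_num) (by norm_num) _)
    (mul_mem (h 35 (by norm_num) (by norm_num) _) (mul_mem (h 31 (by norm_num) (by norm_num) _)
    (mul_mem (h 40 (by norm_num) (by norm_num) _) (mul_mem (h 46 (by norm_num) (by norm_num) _)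
    (mul_mem (h 37 (by norm_num) (by norm_num) _) (mul_mem (h 32 (by norm_num) (by norm_num) _)
    (mul_mem (h 27 (by norm_num) (by norm_num) _) (mul_mem (h 25 (by norm_num) (by norm_num) _)
    (mul_mem (h 28 (by norm_num) (by norm_num) _) (h 30 (by norm_num) (by norm_num) _)))))))))))))))))))))))

variable [Fintype K]

/-- uniqueness of the normal form -/
theorem f4E_inj (hK : Fintype.card K = 2 ^ (2 * m + 1))
    (a1 a2 b2 a3 a4 b4 a5 a6 b6 a7 a8 b8 a1' a2' b2' a3' a4' b4' a5' a6' b6' a7' a8' b8' : K)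
    (h : f4E m a1 a2 b2 a3 a4 b4 a5 a6 b6 a7 a8 b8 = f4E m a1' a2' b2' a3' a4' b4' a5' a6' b6' a7' a8' b8') :
    a1 = a1' ∧ a2 = a2' ∧ b2 = b2' ∧ a3 = a3' ∧ a4 = a4' ∧ b4 = b4' ∧ a5 = a5' ∧ a6 = a6' ∧ b6 = b6' ∧ a7 = a7' ∧
      a8 = a8' ∧ b8 = b8' := by
  let T := K × K × K × K × K × K × K × K × K × K × K × K
  let f : T → ↥(fixGL (f4Sigma (K := K) m) ⊓ chevF4.posUnipotent K) := fun p =>
    ⟨f4E m p.1 p.2.1 p.2.2.1 p.2.2.2.1 p.2.2.2.2.1 p.2.2.2.2.2.1 p.2.2.2.2.2.2.1 p.2.2.2.2.2.2.2.1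
      p.2.2.2.2.2.2.2.2.1 p.2.2.2.2.2.2.2.2.2.1 p.2.2.2.2.2.2.2.2.2.2.1 p.2.2.2.2.2.2.2.2.2.2.2,
      Subgroup.mem_inf.mpr ⟨twistedF4_le_fix m hK (f4E_mem_tw m _ _ _ _ _ _ _ _ _ _ _ _),
        f4E_mem_pos m _ _ _ _ _ _ _ _ _ _ _ _⟩⟩
  have hsurj : Function.Surjective f := by
    rintro ⟨g, hg⟩
    obtain ⟨a1, a2, b2, a3, a4, b4, a5, a6, b6, a7, a8, b8, rfl⟩ := f4_normal m hK g hg
    exact ⟨(a1, a2, b2, a3, a4, b4, a5, a6, b6, a7, a8, b8), rfl⟩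
  have hcard : Nat.card T ≤ Nat.card ↥(fixGL (f4Sigma (K := K) m) ⊓ chevF4.posUnipotent K) := by
    rw [card_f4_fixU m hK]
    simp only [T, Nat.card_eq_fintype_card, Fintype.card_prod, hK]
    apply le_of_eq
    ring
  have hinj := (hsurj.bijective_of_nat_card_le hcard).1
  have := hinj (a₁ := (a1, a2, b2, a3, a4, b4, a5, a6, b6, a7, a8, b8))
    (a₂ := (a1', a2', b2', a3', a4', b4', a5', a6', b6', a7', a8', b8')) (Subtype.ext h)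
  obtain ⟨h1, this⟩ := Prod.mk.inj this
  obtain ⟨h2, this⟩ := Prod.mk.inj this
  obtain ⟨h3, this⟩ := Prod.mk.inj this
  obtain ⟨h4, this⟩ := Prod.mk.inj this
  obtain ⟨h5, this⟩ := Prod.mk.inj this
  obtain ⟨h6, this⟩ := Prod.mk.inj this
  obtain ⟨h7, this⟩ := Prod.mk.inj this
  obtain ⟨h8, this⟩ := Prod.mk.inj this
  obtain ⟨h9, this⟩ := Prod.mk.inj this
  obtain ⟨h10, this⟩ := Prod.mk.inj this
  obtain ⟨h11, h12⟩ := Prod.mk.inj this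
  exact ⟨h1, h2, h3, h4, h5, h6, h7, h8, h9, h10, h11, h12⟩

theorem f4E_eq_one (hK : Fintype.card K = 2 ^ (2 * m + 1)) (a1 a2 b2 a3 a4 b4 a5 a6 b6 a7 a8 b8 : K)
    (h : f4E m a1 a2 b2 a3 a4 b4 a5 a6 b6 a7 a8 b8 = 1) :
    a1 = 0 ∧ a2 = 0 ∧ b2 = 0 ∧ a3 = 0 ∧ a4 = 0 ∧ b4 = 0 ∧ a5 = 0 ∧ a6 = 0 ∧ b6 = 0 ∧ a7 = 0 ∧ a8 = 0 ∧ b8 = 0 := by
  rw [← f4E_zero m] at h
  exact f4E_inj m hK _ _ _ _ _ _ _ _ _ _ _ _ _ _ _ _ _ _ _ _ _ _ _ _ h

end F4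

end Cfsg.Agent.Lib.H29.Chev
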