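import Mathlib
import Cfsg.Prelude.Def_ChevStructure
import Cfsg.Prelude.Def_LieTwisted
import Cfsg.Agent.Lib.H29.F4Inv5

/-!
# The unipotent subgroup of the large Ree groups: squares (generated file)
-/

set_option autoImplicit false
set_option linter.unusedSectionVars false
set_option linter.unusedSimpArgs false
set_option linter.unusedVariables false
set_option linter.unusedTactic false
set_option linter.unreachableTactic false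

namespace Cfsg.Agent.Lib.H29.Chev

open Cfsg.Lie Matrix

section F4

variable {K : Type*} [Field K] [CharP K 2] (m : ℕ)

local notation "θ" => f4Theta K m

theorem f4E_split (g : GL chevF4.Idx K) (a1 a2 b2 a3 a4 b4 a5 a6 b6 a7 a8 b8 : K) :
    g * f4E m a1 a2 b2 a3 a4 b4 a5 a6 b6 a7 a8 b8 = g * f4x1 m a1 * f4y2 m a2 b2 * f4x3 m a3 * f4y4 m a4 b4 * f4x5 m a5 * f4y6 m a6 b6 * f4x7 m a7 *
      f4y8 m a8 b8 := by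
  unfold f4E
  simp only [mul_assoc]

theorem f4E_s1 (t : K) : f4x1 m t = f4E m t 0 0 0 0 0 0 0 0 0 0 0 := by
  unfold f4E f4x1 f4y2 f4x3 f4y4 f4x5 f4y6 f4x7 f4y8
  simp only [pairEl_zero, clsEl_zero, mul_one, one_mul]

theorem f4E_s2 (t u : K) : f4y2 m t u = f4E m 0 t u 0 0 0 0 0 0 0 0 0 := by
  unfold f4E f4x1 f4y2 f4x3 f4y4 f4x5 f4y6 f4x7 f4y8
  simp only [pairEl_zero, clsEl_zero, mul_one, one_mul]

theorem f4E_s3 (t : K) : f4x3 m t = f4E m 0 0 0 t 0 0 0 0 0 0 0 0 := by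
  unfold f4E f4x1 f4y2 f4x3 f4y4 f4x5 f4y6 f4x7 f4y8
  simp only [pairEl_zero, clsEl_zero, mul_one, one_mul]

theorem f4E_s4 (t u : K) : f4y4 m t u = f4E m 0 0 0 0 t u 0 0 0 0 0 0 := by
  unfold f4E f4x1 f4y2 f4x3 f4y4 f4x5 f4y6 f4x7 f4y8
  simp only [pairEl_zero, clsEl_zero, mul_one, one_mul]

theorem f4E_s5 (t : K) : f4x5 m t = f4E m 0 0 0 0 0 0 t 0 0 0 0 0 := by
  unfold f4E f4x1 f4y2 f4x3 f4y4 f4x5 f4y6 f4x7 f4y8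
  simp only [pairEl_zero, clsEl_zero, mul_one, one_mul]

theorem f4E_s6 (t u : K) : f4y6 m t u = f4E m 0 0 0 0 0 0 0 t u 0 0 0 := by
  unfold f4E f4x1 f4y2 f4x3 f4y4 f4x5 f4y6 f4x7 f4y8
  simp only [pairEl_zero, clsEl_zero, mul_one, one_mul]

theorem f4E_s7 (t : K) : f4x7 m t = f4E m 0 0 0 0 0 0 0 0 0 t 0 0 := by
  unfold f4E f4x1 f4y2 f4x3 f4y4 f4x5 f4y6 f4x7 f4y8
  simp only [pairEl_zero, clsEl_zero, mul_one, one_mul]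

theorem f4E_s8 (t u : K) : f4y8 m t u = f4E m 0 0 0 0 0 0 0 0 0 0 t u := by
  unfold f4E f4x1 f4y2 f4x3 f4y4 f4x5 f4y6 f4x7 f4y8
  simp only [pairEl_zero, clsEl_zero, mul_one, one_mul]

variable (hθ : ∀ x : K, f4Theta K m (f4Theta K m x) ^ 2 = x)
include hθ

set_option maxHeartbeats 8000000 in
/-- the square of an element of `U¹`: the last coordinate -/
theorem f4sq_A (a1 a2 b2 a3 a4 b4 a5 a6 b6 a7 a8 b8 : K) :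
    ∃ a2' b2' a3' a4' b4' a5' a6' b6' a7' : K, f4E m a1 a2 b2 a3 a4 b4 a5 a6 b6 a7 a8 b8 * f4E m a1 a2 b2 a3 a4 b4 a5 a6 b6 a7 a8 b8 = f4E m
      0 a2' b2' a3' a4' b4' a5' a6' b6' a7' 0 (a8 * θ a8) := by
  refine ⟨?_, ?_, ?_, ?_, ?_, ?_, ?_, ?_, ?_, ?_⟩
  rotate_left 9
  rw [f4E_split m (f4E m a1 a2 b2 a3 a4 b4 a5 a6 b6 a7 a8 b8) a1 a2 b2 a3 a4 b4 a5 a6 b6 a7 a8 b8, f4E_mul_1 m hθ, f4E_mul_2 m hθ, f4E_mul_3 m hθ, f4E_mul_4 m hθ, f4E_mul_5 m hθ, f4E_mul_6 m hθ, f4E_mul_7 m hθ, f4E_mul_8 m hθ]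
  apply f4E_congr <;> (try simp only [map_add, map_mul, map_pow, map_zero, map_one, hθ, f4_th4 m hθ, f4_th6 m hθ, f4_th8 m hθ]) <;>
    first | rfl | ring1 | (ring_nf; (try simp only [hθ, f4_th4 m hθ, f4_th6 m hθ, f4_th8 m hθ]); (try ring_nf); (try simp only [c2_2, c2_3, c2_4, c2_5, c2_6, c2_7, c2_8, c2_9, c2_10, c2_11, c2_12, neg_eq_self_F, mul_zero, mul_one, add_zero, zero_add]); try ring1)

set_option maxHeartbeats 8000000 in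
/-- the square when `a₈ = 0` -/
theorem f4sq_B (a1 a2 b2 a3 a4 b4 a5 a6 b6 a7 b8 : K) :
    ∃ b2' a3' a4' b4' a5' b6' : K, f4E m a1 a2 b2 a3 a4 b4 a5 a6 b6 a7 0 b8 * f4E m a1 a2 b2 a3 a4 b4 a5 a6 b6 a7 0 b8 = f4E m
      0 0 b2' a3' a4' b4' a5' (a1 * θ b8 ^ 2) b6' (a1 * b8 ^ 2 + a2 * θ b8 ^ 2) 0 0 := by
  refine ⟨?_, ?_, ?_, ?_, ?_, ?_, ?_⟩
  rotate_left 6
  rw [f4E_split m (f4E m a1 a2 b2 a3 a4 b4 a5 a6 b6 a7 0 b8) a1 a2 b2 a3 a4 b4 a5 a6 b6 a7 0 b8, f4E_mul_1 m hθ, f4E_mul_2 m hθ, f4E_mul_3 m hθ, f4E_mul_4 m hθ, f4E_mul_5 m hθ, f4E_mul_6 m hθ, f4E_mul_7 m hθ, f4E_mul_8 m hθ]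
  apply f4E_congr <;> (try simp only [map_add, map_mul, map_pow, map_zero, map_one, hθ, f4_th4 m hθ, f4_th6 m hθ, f4_th8 m hθ]) <;>
    first | rfl | ring1 | (ring_nf; (try simp only [hθ, f4_th4 m hθ, f4_th6 m hθ, f4_th8 m hθ]); (try ring_nf); (try simp only [c2_2, c2_3, c2_4, c2_5, c2_6, c2_7, c2_8, c2_9, c2_10, c2_11, c2_12, neg_eq_self_F, mul_zero, mul_one, add_zero, zero_add]); try ring1)

set_option maxHeartbeats 8000000 in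
/-- the square in the first case -/
theorem f4sq_I (a1 b2 a3 a4 b4 a5 b6 a7 : K) :
    ∃ a5' b6' : K, f4E m a1 0 b2 a3 a4 b4 a5 0 b6 a7 0 0 * f4E m a1 0 b2 a3 a4 b4 a5 0 b6 a7 0 0 = f4E m
      0 0 (θ a1 * θ a4) (θ a1 ^ 2 * a7) 0 (θ a1 * b6 + a4 * θ a4 + θ a7 * b2) a5' 0 b6' 0 0 0 := by
  refine ⟨?_, ?_, ?_⟩
  rotate_left 2
  rw [f4E_split m (f4E m a1 0 b2 a3 a4 b4 a5 0 b6 a7 0 0) a1 0 b2 a3 a4 b4 a5 0 b6 a7 0 0, f4E_mul_1 m hθ, f4E_mul_2 m hθ, f4E_mul_3 m hθ, f4E_mul_4 m hθ, f4E_mul_5 m hθ, f4E_mul_6 m hθ, f4E_mul_7 m hθ, f4E_mul_8 m hθ]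
  apply f4E_congr <;> (try simp only [map_add, map_mul, map_pow, map_zero, map_one, hθ, f4_th4 m hθ, f4_th6 m hθ, f4_th8 m hθ]) <;>
    first | rfl | ring1 | (ring_nf; (try simp only [hθ, f4_th4 m hθ, f4_th6 m hθ, f4_th8 m hθ]); (try ring_nf); (try simp only [c2_2, c2_3, c2_4, c2_5, c2_6, c2_7, c2_8, c2_9, c2_10, c2_11, c2_12, neg_eq_self_F, mul_zero, mul_one, add_zero, zero_add]); try ring1)

set_option maxHeartbeats 8000000 in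
/-- the square of an element of `U₂ ⋯ U₇` -/
theorem f4sq_D (a2 b2 a3 a4 b4 a5 a6 b6 a7 : K) :
    ∃ a3' b4' a5' b6' : K, f4E m 0 a2 b2 a3 a4 b4 a5 a6 b6 a7 0 0 * f4E m 0 a2 b2 a3 a4 b4 a5 a6 b6 a7 0 0 = f4E m
      0 0 (a2 * θ a2) a3' 0 b4' a5' 0 b6' 0 0 0 := by
  refine ⟨?_, ?_, ?_, ?_, ?_⟩
  rotate_left 4
  rw [f4E_split m (f4E m 0 a2 b2 a3 a4 b4 a5 a6 b6 a7 0 0) 0 a2 b2 a3 a4 b4 a5 a6 b6 a7 0 0, f4E_mul_1 m hθ, f4E_mul_2 m hθ, f4E_mul_3 m hθ, f4E_mul_4 m hθ, f4E_mul_5 m hθ, f4E_mul_6 m hθ, f4E_mul_7 m hθ, f4E_mul_8 m hθ]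
  apply f4E_congr <;> (try simp only [map_add, map_mul, map_pow, map_zero, map_one, hθ, f4_th4 m hθ, f4_th6 m hθ, f4_th8 m hθ]) <;>
    first | rfl | ring1 | (ring_nf; (try simp only [hθ, f4_th4 m hθ, f4_th6 m hθ, f4_th8 m hθ]); (try ring_nf); (try simp only [c2_2, c2_3, c2_4, c2_5, c2_6, c2_7, c2_8, c2_9, c2_10, c2_11, c2_12, neg_eq_self_F, mul_zero, mul_one, add_zero, zero_add]); try ring1)

set_option maxHeartbeats 8000000 in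
/-- the square of an element of `U₂ ⋯ U₇` with `a₂ = 0` -/
theorem f4sq_D2 (b2 a3 a4 b4 a5 a6 b6 a7 : K) :
    f4E m 0 0 b2 a3 a4 b4 a5 a6 b6 a7 0 0 * f4E m 0 0 b2 a3 a4 b4 a5 a6 b6 a7 0 0 = f4E m
      0 0 0 0 0 (θ a3 * θ a6 + a4 * θ a4 + θ a7 * b2) (a4 * a6) 0 (θ a4 * θ a7 + a6 * θ a6) 0 0 0 := by
  rw [f4E_split m (f4E m 0 0 b2 a3 a4 b4 a5 a6 b6 a7 0 0) 0 0 b2 a3 a4 b4 a5 a6 b6 a7 0 0, f4E_mul_1 m hθ, f4E_mul_2 m hθ, f4E_mul_3 m hθ, f4E_mul_4 m hθ, f4E_mul_5 m hθ, f4E_mul_6 m hθ, f4E_mul_7 m hθ, f4E_mul_8 m hθ]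
  apply f4E_congr <;> (try simp only [map_add, map_mul, map_pow, map_zero, map_one, hθ, f4_th4 m hθ, f4_th6 m hθ, f4_th8 m hθ]) <;>
    first | rfl | ring1 | (ring_nf; (try simp only [hθ, f4_th4 m hθ, f4_th6 m hθ, f4_th8 m hθ]); (try ring_nf); (try simp only [c2_2, c2_3, c2_4, c2_5, c2_6, c2_7, c2_8, c2_9, c2_10, c2_11, c2_12, neg_eq_self_F, mul_zero, mul_one, add_zero, zero_add]); try ring1)

set_option maxHeartbeats 8000000 in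
/-- the square in the second case -/
theorem f4sq_II (b2 a3 a4 b4 b8 : K) :
    f4E m 0 0 b2 a3 a4 b4 0 0 0 0 0 b8 * f4E m 0 0 b2 a3 a4 b4 0 0 0 0 0 b8 = f4E m
      0 0 0 0 0 (a4 * θ a4 + θ b2 ^ 2 * b8) (θ b2 ^ 2 * θ b8 ^ 2) 0 (θ a3 * b8 + b2 * θ b8 ^ 2) 0 0 0 := by
  rw [f4E_split m (f4E m 0 0 b2 a3 a4 b4 0 0 0 0 0 b8) 0 0 b2 a3 a4 b4 0 0 0 0 0 b8, f4E_mul_1 m hθ, f4E_mul_2 m hθ, f4E_mul_3 m hθ, f4E_mul_4 m hθ, f4E_mul_5 m hθ, f4E_mul_6 m hθ, f4E_mul_7 m hθ, f4E_mul_8 m hθ]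
  apply f4E_congr <;> (try simp only [map_add, map_mul, map_pow, map_zero, map_one, hθ, f4_th4 m hθ, f4_th6 m hθ, f4_th8 m hθ]) <;>
    first | rfl | ring1 | (ring_nf; (try simp only [hθ, f4_th4 m hθ, f4_th6 m hθ, f4_th8 m hθ]); (try ring_nf); (try simp only [c2_2, c2_3, c2_4, c2_5, c2_6, c2_7, c2_8, c2_9, c2_10, c2_11, c2_12, neg_eq_self_F, mul_zero, mul_one, add_zero, zero_add]); try ring1)

end F4

end Cfsg.Agent.Lib.H29.Chev
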