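import Mathlib
import Cfsg.Prelude.Def_ChevStructure
import Cfsg.Prelude.Def_LieTwisted
import Cfsg.Agent.Lib.H29.F4Inv6

/-!
# The unipotent subgroup of the large Ree groups: conjugation, the first two cases (generated file)
-/

set_option autoImplicit false
set_option linter.unusedSectionVars false
set_option linter.unusedSimpArgs false
set_option linter.unusedVariables false
set_option linter.unusedTactic false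
set_option linter.unreachableTactic false

namespace Cfsg.Agent.Lib.H29.Chev

open Cfsg.Lie Matrix

section F4

variable {K : Type*} [Field K] [CharP K 2] (m : ℕ)

local notation "θ" => f4Theta K m

variable (hθ : ∀ x : K, f4Theta K m (f4Theta K m x) ^ 2 = x)
include hθ

set_option maxHeartbeats 8000000 in
theorem f4cj_1a (a1 a2 b2 a3 a4 b4 a5 a6 b6 a7 p : K) :
    ∃ b2' a3' a4' b4' a5' a6' b6' a7' : K, f4E m 0 0 0 0 0 0 0 0 0 0 p 0 * f4E m a1 a2 b2 a3 a4 b4 a5 a6 b6 a7 0 0 * (f4E m 0 0 0 0 0 0 0 0 0 0 p 0)⁻¹ = f4E m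
      a1 (a2 + a1 * p) b2' a3' a4' b4' a5' a6' b6' a7' 0 0 := by
  refine ⟨?_, ?_, ?_, ?_, ?_, ?_, ?_, ?_, ?_⟩
  rotate_left 8
  have e0 : (f4E m 0 0 0 0 0 0 0 0 0 0 p 0)⁻¹ = f4E m 0 0 0 0 0 0 0 0 0 0 p (p * θ p) := by
    apply inv_eq_of_mul_eq_one_right
    rw [f4E_split m (f4E m 0 0 0 0 0 0 0 0 0 0 p 0) 0 0 0 0 0 0 0 0 0 0 p (p * θ p), f4E_mul_1 m hθ, f4E_mul_2 m hθ, f4E_mul_3 m hθ, f4E_mul_4 m hθ, f4E_mul_5 m hθ, f4E_mul_6 m hθ, f4E_mul_7 m hθ, f4E_mul_8 m hθ, ← f4E_zero m]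
    apply f4E_congr <;> (try simp only [map_add, map_mul, map_pow, map_zero, map_one, hθ, f4_th4 m hθ, f4_th6 m hθ, f4_th8 m hθ]) <;>
      first | rfl | ring1 | (ring_nf; (try simp only [hθ, f4_th4 m hθ, f4_th6 m hθ, f4_th8 m hθ]); (try ring_nf); (try simp only [c2_2, c2_3, c2_4, c2_5, c2_6, c2_7, c2_8, c2_9, c2_10, c2_11, c2_12, neg_eq_self_F, mul_zero, mul_one, add_zero, zero_add]); try ring1)
  have e1 : f4E m 0 0 0 0 0 0 0 0 0 0 p 0 * f4E m a1 a2 b2 a3 a4 b4 a5 a6 b6 a7 0 0 = f4E m a1 (a2 + a1 * p) (b2 + θ a1 * a2 * θ p) (a3 + θ b2 ^ 2 * p + a2 * θ a2 ^ 2 * p + a1 * θ a1 ^ 2 * p ^ 2 * θ p ^ 2) (a4 + θ a2 ^ 2 * p) (b4 + a3 * θ p + a2 * a4 * θ p + θ a2 * θ a3 * p + θ a1 * θ a3 * p * θ p + θ a2 * b2 * p * θ p + a2 * θ a2 ^ 2 * p * θ p + a1 * θ a1 * θ a2 * p ^ 2 * θ p ^ 2 + a1 * θ a1 ^ 2 * p ^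 2 * θ p ^ 3) (a5 + a3 * θ p ^ 2 + a2 * a4 * θ p ^ 2 + a1 * a4 * p * θ p ^ 2 + θ b2 ^ 2 * p * θ p ^ 2 + a1 * θ a1 ^ 2 * p ^ 2 * θ p ^ 4) (a6 + a2 * θ p ^ 2 + a1 * p * θ p ^ 2) (b6 + θ a5 * θ p + θ a2 * a6 * p + θ a1 * a6 * p * θ p + b2 * p * θ p ^ 2 + θ a1 * θ a4 * p * θ p ^ 2 + a1 * θ a2 * p ^ 2 * θ p ^ 2 + a1 * θ a1 * p ^ 2 * θ p ^ 3) (a7 + a6 * p + a1 * p ^ 2 * θ p ^ 2) p 0 := by
    rw [f4E_split m (f4E m 0 0 0 0 0 0 0 0 0 0 p 0) a1 a2 b2 a3 a4 b4 a5 a6 b6 a7 0 0, f4E_mul_1 m hθ, f4E_mul_2 m hθ, f4E_mul_3 m hθ, f4E_mul_4 m hθ, f4E_mul_5 m hθ, f4E_mul_6 m hθ, f4E_mul_7 m hθ, f4E_mul_8 m hθ]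
    apply f4E_congr <;> (try simp only [map_add, map_mul, map_pow, map_zero, map_one, hθ, f4_th4 m hθ, f4_th6 m hθ, f4_th8 m hθ]) <;>
      first | rfl | ring1 | (ring_nf; (try simp only [hθ, f4_th4 m hθ, f4_th6 m hθ, f4_th8 m hθ]); (try ring_nf); (try simp only [c2_2, c2_3, c2_4, c2_5, c2_6, c2_7, c2_8, c2_9, c2_10, c2_11, c2_12, neg_eq_self_F, mul_zero, mul_one, add_zero, zero_add]); try ring1)
  rw [e0, e1, f4E_split m (f4E m a1 (a2 + a1 * p) (b2 + θ a1 * a2 * θ p) (a3 + θ b2 ^ 2 * p + a2 * θ a2 ^ 2 * p + a1 * θ a1 ^ 2 * p ^ 2 * θ p ^ 2) (a4 + θ a2 ^ 2 * p) (b4 + a3 * θ p + a2 * a4 * θ p + θ a2 * θ a3 * p + θ a1 * θ a3 * p * θ p + θ a2 * b2 * p * θ p + a2 * θ a2 ^ 2 * p * θ p + a1 * θ a1 * θ a2 * p ^ 2 * θ p ^ 2 + a1 * θ a1 ^ 2 * p ^ 2 * θ p ^ 3) (a5 + a3 * θ p ^ 2 + a2 * a4 * θ p ^ 2 + a1 *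 a4 * p * θ p ^ 2 + θ b2 ^ 2 * p * θ p ^ 2 + a1 * θ a1 ^ 2 * p ^ 2 * θ p ^ 4) (a6 + a2 * θ p ^ 2 + a1 * p * θ p ^ 2) (b6 + θ a5 * θ p + θ a2 * a6 * p + θ a1 * a6 * p * θ p + b2 * p * θ p ^ 2 + θ a1 * θ a4 * p * θ p ^ 2 + a1 * θ a2 * p ^ 2 * θ p ^ 2 + a1 * θ a1 * p ^ 2 * θ p ^ 3) (a7 + a6 * p + a1 * p ^ 2 * θ p ^ 2) p 0) 0 0 0 0 0 0 0 0 0 0 p (p * θ p), f4E_mul_1 m hθ, f4E_mul_2 m hθ, f4E_mul_3 m hθ, f4E_mul_4 m hθ, f4E_mul_5 m hθ, f4E_mul_6 m hθ, f4E_mul_7 m hθ, f4E_mul_8 m hθ]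
  apply f4E_congr <;> (try simp only [map_add, map_mul, map_pow, map_zero, map_one, hθ, f4_th4 m hθ, f4_th6 m hθ, f4_th8 m hθ]) <;>
    first | rfl | ring1 | (ring_nf; (try simp only [hθ, f4_th4 m hθ, f4_th6 m hθ, f4_th8 m hθ]); (try ring_nf); (try simp only [c2_2, c2_3, c2_4, c2_5, c2_6, c2_7, c2_8, c2_9, c2_10, c2_11, c2_12, neg_eq_self_F, mul_zero, mul_one, add_zero, zero_add]); try ring1)

set_option maxHeartbeats 8000000 in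
theorem f4cj_1b (a1 b2 a3 a4 b4 a5 a6 b6 a7 r : K) :
    ∃ b2' a3' a4' b4' a5' b6' a7' : K, f4E m 0 0 0 0 0 0 0 0 0 0 0 r * f4E m a1 0 b2 a3 a4 b4 a5 a6 b6 a7 0 0 * (f4E m 0 0 0 0 0 0 0 0 0 0 0 r)⁻¹ = f4E m
      a1 0 b2' a3' a4' b4' a5' (a6 + a1 * θ r ^ 2) b6' a7' 0 0 := by
  refine ⟨?_, ?_, ?_, ?_, ?_, ?_, ?_, ?_⟩
  rotate_left 7
  have e0 : (f4E m 0 0 0 0 0 0 0 0 0 0 0 r)⁻¹ = f4E m 0 0 0 0 0 0 0 0 0 0 0 r := by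
    apply inv_eq_of_mul_eq_one_right
    rw [f4E_split m (f4E m 0 0 0 0 0 0 0 0 0 0 0 r) 0 0 0 0 0 0 0 0 0 0 0 r, f4E_mul_1 m hθ, f4E_mul_2 m hθ, f4E_mul_3 m hθ, f4E_mul_4 m hθ, f4E_mul_5 m hθ, f4E_mul_6 m hθ, f4E_mul_7 m hθ, f4E_mul_8 m hθ, ← f4E_zero m]
    apply f4E_congr <;> (try simp only [map_add, map_mul, map_pow, map_zero, map_one, hθ, f4_th4 m hθ, f4_th6 m hθ, f4_th8 m hθ]) <;>
      first | rfl | ring1 | (ring_nf; (try simp only [hθ, f4_th4 m hθ, f4_th6 m hθ, f4_th8 m hθ]); (try ring_nf); (try simp only [c2_2, c2_3, c2_4, c2_5, c2_6, c2_7, c2_8, c2_9, c2_10, c2_11, c2_12, neg_eq_self_F, mul_zero, mul_one, add_zero, zero_add]); try ring1)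
  have e1 : f4E m 0 0 0 0 0 0 0 0 0 0 0 r * f4E m a1 0 b2 a3 a4 b4 a5 a6 b6 a7 0 0 = f4E m a1 0 (b2 + a1 * θ a1 * r) (a3 + a1 * θ a1 ^ 2 * r ^ 2) (a4 + θ a1 ^ 2 * θ r ^ 2) (b4 + a1 * a4 * r + θ a1 * θ a3 * r + θ b2 ^ 2 * r + θ a1 * b2 * θ r ^ 2 + a1 * θ a1 ^ 2 * r * θ r ^ 2) (a5 + a1 * a4 * θ r ^ 2 + θ b2 ^ 2 * θ r ^ 2 + a1 * θ a1 ^ 2 * θ r ^ 4) (a6 + a1 * θ r ^ 2) (b6 + θ a3 * r + θ a1 * a6 * r + b2 * θ r ^ 2 + θ a1 * θ a4 * θ r ^ 2) (a7 + a1 * r ^ 2) 0 r := by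
    rw [f4E_split m (f4E m 0 0 0 0 0 0 0 0 0 0 0 r) a1 0 b2 a3 a4 b4 a5 a6 b6 a7 0 0, f4E_mul_1 m hθ, f4E_mul_2 m hθ, f4E_mul_3 m hθ, f4E_mul_4 m hθ, f4E_mul_5 m hθ, f4E_mul_6 m hθ, f4E_mul_7 m hθ, f4E_mul_8 m hθ]
    apply f4E_congr <;> (try simp only [map_add, map_mul, map_pow, map_zero, map_one, hθ, f4_th4 m hθ, f4_th6 m hθ, f4_th8 m hθ]) <;>
      first | rfl | ring1 | (ring_nf; (try simp only [hθ, f4_th4 m hθ, f4_th6 m hθ, f4_th8 m hθ]); (try ring_nf); (try simp only [c2_2, c2_3, c2_4, c2_5, c2_6, c2_7, c2_8, c2_9, c2_10, c2_11, c2_12, neg_eq_self_F, mul_zero, mul_one, add_zero, zero_add]); try ring1)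
  rw [e0, e1, f4E_split m (f4E m a1 0 (b2 + a1 * θ a1 * r) (a3 + a1 * θ a1 ^ 2 * r ^ 2) (a4 + θ a1 ^ 2 * θ r ^ 2) (b4 + a1 * a4 * r + θ a1 * θ a3 * r + θ b2 ^ 2 * r + θ a1 * b2 * θ r ^ 2 + a1 * θ a1 ^ 2 * r * θ r ^ 2) (a5 + a1 * a4 * θ r ^ 2 + θ b2 ^ 2 * θ r ^ 2 + a1 * θ a1 ^ 2 * θ r ^ 4) (a6 + a1 * θ r ^ 2) (b6 + θ a3 * r + θ a1 * a6 * r + b2 * θ r ^ 2 + θ a1 * θ a4 * θ r ^ 2) (a7 + a1 * r ^ 2) 0 r) 0 0 0 0 0 0 0 0 0 0 0 r, f4E_mul_1 m hθ, f4E_mul_2 m hθ, f4E_mul_3 m hθ, f4E_mul_4 m hθ, f4E_mul_5 m hθ, f4E_mul_6 m hθ, f4E_mul_7 m hθ, f4E_mul_8 m hθ]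
  apply f4E_congr <;> (try simp only [map_add, map_mul, map_pow, map_zero, map_one, hθ, f4_th4 m hθ, f4_th6 m hθ, f4_th8 m hθ]) <;>
    first | rfl | ring1 | (ring_nf; (try simp only [hθ, f4_th4 m hθ, f4_th6 m hθ, f4_th8 m hθ]); (try ring_nf); (try simp only [c2_2, c2_3, c2_4, c2_5, c2_6, c2_7, c2_8, c2_9, c2_10, c2_11, c2_12, neg_eq_self_F, mul_zero, mul_one, add_zero, zero_add]); try ring1)

set_option maxHeartbeats 8000000 in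
theorem f4cj_1c (a1 b2 a3 b4 a5 s : K) :
    ∃ b2' a3' b4' : K, f4E m 0 0 0 0 0 0 0 0 0 s 0 0 * f4E m a1 0 b2 a3 0 b4 a5 0 0 0 0 0 * (f4E m 0 0 0 0 0 0 0 0 0 s 0 0)⁻¹ = f4E m
      a1 0 b2' a3' 0 b4' (a5 + a1 * θ s ^ 2) 0 0 0 0 0 := by
  refine ⟨?_, ?_, ?_, ?_⟩
  rotate_left 3
  have e0 : (f4E m 0 0 0 0 0 0 0 0 0 s 0 0)⁻¹ = f4E m 0 0 0 0 0 0 0 0 0 s 0 0 := by
    apply inv_eq_of_mul_eq_one_right
    rw [f4E_split m (f4E m 0 0 0 0 0 0 0 0 0 s 0 0) 0 0 0 0 0 0 0 0 0 s 0 0, f4E_mul_1 m hθ, f4E_mul_2 m hθ, f4E_mul_3 m hθ, f4E_mul_4 m hθ, f4E_mul_5 m hθ, f4E_mul_6 m hθ, f4E_mul_7 m hθ, f4E_mul_8 m hθ, ← f4E_zero m]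
    apply f4E_congr <;> (try simp only [map_add, map_mul, map_pow, map_zero, map_one, hθ, f4_th4 m hθ, f4_th6 m hθ, f4_th8 m hθ]) <;>
      first | rfl | ring1 | (ring_nf; (try simp only [hθ, f4_th4 m hθ, f4_th6 m hθ, f4_th8 m hθ]); (try ring_nf); (try simp only [c2_2, c2_3, c2_4, c2_5, c2_6, c2_7, c2_8, c2_9, c2_10, c2_11, c2_12, neg_eq_self_F, mul_zero, mul_one, add_zero, zero_add]); try ring1)
  have e1 : f4E m 0 0 0 0 0 0 0 0 0 s 0 0 * f4E m a1 0 b2 a3 0 b4 a5 0 0 0 0 0 = f4E m a1 0 b2 (a3 + θ a1 ^ 2 * s) 0 (b4 + b2 * θ s) (a5 + a1 * θ s ^ 2) 0 0 s 0 0 := by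
    rw [f4E_split m (f4E m 0 0 0 0 0 0 0 0 0 s 0 0) a1 0 b2 a3 0 b4 a5 0 0 0 0 0, f4E_mul_1 m hθ, f4E_mul_2 m hθ, f4E_mul_3 m hθ, f4E_mul_4 m hθ, f4E_mul_5 m hθ, f4E_mul_6 m hθ, f4E_mul_7 m hθ, f4E_mul_8 m hθ]
    apply f4E_congr <;> (try simp only [map_add, map_mul, map_pow, map_zero, map_one, hθ, f4_th4 m hθ, f4_th6 m hθ, f4_th8 m hθ]) <;>
      first | rfl | ring1 | (ring_nf; (try simp only [hθ, f4_th4 m hθ, f4_th6 m hθ, f4_th8 m hθ]); (try ring_nf); (try simp only [c2_2, c2_3, c2_4, c2_5, c2_6, c2_7, c2_8, c2_9, c2_10, c2_11, c2_12, neg_eq_self_F, mul_zero, mul_one, add_zero, zero_add]); try ring1)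
  rw [e0, e1, f4E_split m (f4E m a1 0 b2 (a3 + θ a1 ^ 2 * s) 0 (b4 + b2 * θ s) (a5 + a1 * θ s ^ 2) 0 0 s 0 0) 0 0 0 0 0 0 0 0 0 s 0 0, f4E_mul_1 m hθ, f4E_mul_2 m hθ, f4E_mul_3 m hθ, f4E_mul_4 m hθ, f4E_mul_5 m hθ, f4E_mul_6 m hθ, f4E_mul_7 m hθ, f4E_mul_8 m hθ]
  apply f4E_congr <;> (try simp only [map_add, map_mul, map_pow, map_zero, map_one, hθ, f4_th4 m hθ, f4_th6 m hθ, f4_th8 m hθ]) <;>
    first | rfl | ring1 | (ring_nf; (try simp only [hθ, f4_th4 m hθ, f4_th6 m hθ, f4_th8 m hθ]); (try ring_nf); (try simp only [c2_2, c2_3, c2_4, c2_5, c2_6, c2_7, c2_8, c2_9, c2_10, c2_11, c2_12, neg_eq_self_F, mul_zero, mul_one, add_zero, zero_add]); try ring1)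

set_option maxHeartbeats 8000000 in
theorem f4cj_1d (a1 b2 a3 b4 c : K) :
    ∃ b2' b4' : K, f4E m 0 0 0 0 0 0 0 c 0 0 0 0 * f4E m a1 0 b2 a3 0 b4 0 0 0 0 0 0 * (f4E m 0 0 0 0 0 0 0 c 0 0 0 0)⁻¹ = f4E m
      a1 0 b2' (a3 + a1 * θ c ^ 2) 0 b4' 0 0 0 0 0 0 := by
  refine ⟨?_, ?_, ?_⟩
  rotate_left 2
  have e0 : (f4E m 0 0 0 0 0 0 0 c 0 0 0 0)⁻¹ = f4E m 0 0 0 0 0 0 0 c (c * θ c) 0 0 0 := by
    apply inv_eq_of_mul_eq_one_right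
    rw [f4E_split m (f4E m 0 0 0 0 0 0 0 c 0 0 0 0) 0 0 0 0 0 0 0 c (c * θ c) 0 0 0, f4E_mul_1 m hθ, f4E_mul_2 m hθ, f4E_mul_3 m hθ, f4E_mul_4 m hθ, f4E_mul_5 m hθ, f4E_mul_6 m hθ, f4E_mul_7 m hθ, f4E_mul_8 m hθ, ← f4E_zero m]
    apply f4E_congr <;> (try simp only [map_add, map_mul, map_pow, map_zero, map_one, hθ, f4_th4 m hθ, f4_th6 m hθ, f4_th8 m hθ]) <;>
      first | rfl | ring1 | (ring_nf; (try simp only [hθ, f4_th4 m hθ, f4_th6 m hθ, f4_th8 m hθ]); (try ring_nf); (try simp only [c2_2, c2_3, c2_4, c2_5, c2_6, c2_7, c2_8, c2_9, c2_10, c2_11, c2_12, neg_eq_self_F, mul_zero, mul_one, add_zero, zero_add]); try ring1)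
  have e1 : f4E m 0 0 0 0 0 0 0 c 0 0 0 0 * f4E m a1 0 b2 a3 0 b4 0 0 0 0 0 0 = f4E m a1 0 (b2 + a1 * θ c) (a3 + a1 * θ c ^ 2) 0 (b4 + θ a3 * θ c) 0 c 0 0 0 0 := by
    rw [f4E_split m (f4E m 0 0 0 0 0 0 0 c 0 0 0 0) a1 0 b2 a3 0 b4 0 0 0 0 0 0, f4E_mul_1 m hθ, f4E_mul_2 m hθ, f4E_mul_3 m hθ, f4E_mul_4 m hθ, f4E_mul_5 m hθ, f4E_mul_6 m hθ, f4E_mul_7 m hθ, f4E_mul_8 m hθ]
    apply f4E_congr <;> (try simp only [map_add, map_mul, map_pow, map_zero, map_one, hθ, f4_th4 m hθ, f4_th6 m hθ, f4_th8 m hθ]) <;>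
      first | rfl | ring1 | (ring_nf; (try simp only [hθ, f4_th4 m hθ, f4_th6 m hθ, f4_th8 m hθ]); (try ring_nf); (try simp only [c2_2, c2_3, c2_4, c2_5, c2_6, c2_7, c2_8, c2_9, c2_10, c2_11, c2_12, neg_eq_self_F, mul_zero, mul_one, add_zero, zero_add]); try ring1)
  rw [e0, e1, f4E_split m (f4E m a1 0 (b2 + a1 * θ c) (a3 + a1 * θ c ^ 2) 0 (b4 + θ a3 * θ c) 0 c 0 0 0 0) 0 0 0 0 0 0 0 c (c * θ c) 0 0 0, f4E_mul_1 m hθ, f4E_mul_2 m hθ, f4E_mul_3 m hθ, f4E_mul_4 m hθ, f4E_mul_5 m hθ, f4E_mul_6 m hθ, f4E_mul_7 m hθ, f4E_mul_8 m hθ]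
  apply f4E_congr <;> (try simp only [map_add, map_mul, map_pow, map_zero, map_one, hθ, f4_th4 m hθ, f4_th6 m hθ, f4_th8 m hθ]) <;>
    first | rfl | ring1 | (ring_nf; (try simp only [hθ, f4_th4 m hθ, f4_th6 m hθ, f4_th8 m hθ]); (try ring_nf); (try simp only [c2_2, c2_3, c2_4, c2_5, c2_6, c2_7, c2_8, c2_9, c2_10, c2_11, c2_12, neg_eq_self_F, mul_zero, mul_one, add_zero, zero_add]); try ring1)

set_option maxHeartbeats 8000000 in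
theorem f4cj_1e (a1 b2 b4 e : K) :
    ∃ b4' : K, f4E m 0 0 0 0 e 0 0 0 0 0 0 0 * f4E m a1 0 b2 0 0 b4 0 0 0 0 0 0 * (f4E m 0 0 0 0 e 0 0 0 0 0 0 0)⁻¹ = f4E m
      a1 0 (b2 + θ a1 * θ e) 0 0 b4' 0 0 0 0 0 0 := by
  refine ⟨?_, ?_⟩
  rotate_left 1
  have e0 : (f4E m 0 0 0 0 e 0 0 0 0 0 0 0)⁻¹ = f4E m 0 0 0 0 e (e * θ e) 0 0 0 0 0 0 := by
    apply inv_eq_of_mul_eq_one_right
    rw [f4E_split m (f4E m 0 0 0 0 e 0 0 0 0 0 0 0) 0 0 0 0 e (e * θ e) 0 0 0 0 0 0, f4E_mul_1 m hθ, f4E_mul_2 m hθ, f4E_mul_3 m hθ, f4E_mul_4 m hθ, f4E_mul_5 m hθ, f4E_mul_6 m hθ, f4E_mul_7 m hθ, f4E_mul_8 m hθ, ← f4E_zero m]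
    apply f4E_congr <;> (try simp only [map_add, map_mul, map_pow, map_zero, map_one, hθ, f4_th4 m hθ, f4_th6 m hθ, f4_th8 m hθ]) <;>
      first | rfl | ring1 | (ring_nf; (try simp only [hθ, f4_th4 m hθ, f4_th6 m hθ, f4_th8 m hθ]); (try ring_nf); (try simp only [c2_2, c2_3, c2_4, c2_5, c2_6, c2_7, c2_8, c2_9, c2_10, c2_11, c2_12, neg_eq_self_F, mul_zero, mul_one, add_zero, zero_add]); try ring1)
  have e1 : f4E m 0 0 0 0 e 0 0 0 0 0 0 0 * f4E m a1 0 b2 0 0 b4 0 0 0 0 0 0 = f4E m a1 0 (b2 + θ a1 * θ e) 0 e b4 0 0 0 0 0 0 := by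
    rw [f4E_split m (f4E m 0 0 0 0 e 0 0 0 0 0 0 0) a1 0 b2 0 0 b4 0 0 0 0 0 0, f4E_mul_1 m hθ, f4E_mul_2 m hθ, f4E_mul_3 m hθ, f4E_mul_4 m hθ, f4E_mul_5 m hθ, f4E_mul_6 m hθ, f4E_mul_7 m hθ, f4E_mul_8 m hθ]
    apply f4E_congr <;> (try simp only [map_add, map_mul, map_pow, map_zero, map_one, hθ, f4_th4 m hθ, f4_th6 m hθ, f4_th8 m hθ]) <;>
      first | rfl | ring1 | (ring_nf; (try simp only [hθ, f4_th4 m hθ, f4_th6 m hθ, f4_th8 m hθ]); (try ring_nf); (try simp only [c2_2, c2_3, c2_4, c2_5, c2_6, c2_7, c2_8, c2_9, c2_10, c2_11, c2_12, neg_eq_self_F, mul_zero, mul_one, add_zero, zero_add]); try ring1)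
  rw [e0, e1, f4E_split m (f4E m a1 0 (b2 + θ a1 * θ e) 0 e b4 0 0 0 0 0 0) 0 0 0 0 e (e * θ e) 0 0 0 0 0 0, f4E_mul_1 m hθ, f4E_mul_2 m hθ, f4E_mul_3 m hθ, f4E_mul_4 m hθ, f4E_mul_5 m hθ, f4E_mul_6 m hθ, f4E_mul_7 m hθ, f4E_mul_8 m hθ]
  apply f4E_congr <;> (try simp only [map_add, map_mul, map_pow, map_zero, map_one, hθ, f4_th4 m hθ, f4_th6 m hθ, f4_th8 m hθ]) <;>
    first | rfl | ring1 | (ring_nf; (try simp only [hθ, f4_th4 m hθ, f4_th6 m hθ, f4_th8 m hθ]); (try ring_nf); (try simp only [c2_2, c2_3, c2_4, c2_5, c2_6, c2_7, c2_8, c2_9, c2_10, c2_11, c2_12, neg_eq_self_F, mul_zero, mul_one, add_zero, zero_add]); try ring1)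

set_option maxHeartbeats 8000000 in
theorem f4cj_1f (a1 b4 d : K) :
    f4E m 0 0 0 0 0 0 0 0 d 0 0 0 * f4E m a1 0 0 0 0 b4 0 0 0 0 0 0 * (f4E m 0 0 0 0 0 0 0 0 d 0 0 0)⁻¹ = f4E m
      a1 0 0 0 0 (b4 + θ a1 * d) 0 0 0 0 0 0 := by
  have e0 : (f4E m 0 0 0 0 0 0 0 0 d 0 0 0)⁻¹ = f4E m 0 0 0 0 0 0 0 0 d 0 0 0 := by
    apply inv_eq_of_mul_eq_one_right
    rw [f4E_split m (f4E m 0 0 0 0 0 0 0 0 d 0 0 0) 0 0 0 0 0 0 0 0 d 0 0 0, f4E_mul_1 m hθ, f4E_mul_2 m hθ, f4E_mul_3 m hθ, f4E_mul_4 m hθ, f4E_mul_5 m hθ, f4E_mul_6 m hθ, f4E_mul_7 m hθ, f4E_mul_8 m hθ, ← f4E_zero m]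
    apply f4E_congr <;> (try simp only [map_add, map_mul, map_pow, map_zero, map_one, hθ, f4_th4 m hθ, f4_th6 m hθ, f4_th8 m hθ]) <;>
      first | rfl | ring1 | (ring_nf; (try simp only [hθ, f4_th4 m hθ, f4_th6 m hθ, f4_th8 m hθ]); (try ring_nf); (try simp only [c2_2, c2_3, c2_4, c2_5, c2_6, c2_7, c2_8, c2_9, c2_10, c2_11, c2_12, neg_eq_self_F, mul_zero, mul_one, add_zero, zero_add]); try ring1)
  have e1 : f4E m 0 0 0 0 0 0 0 0 d 0 0 0 * f4E m a1 0 0 0 0 b4 0 0 0 0 0 0 = f4E m a1 0 0 0 0 (b4 + θ a1 * d) 0 0 d 0 0 0 := by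
    rw [f4E_split m (f4E m 0 0 0 0 0 0 0 0 d 0 0 0) a1 0 0 0 0 b4 0 0 0 0 0 0, f4E_mul_1 m hθ, f4E_mul_2 m hθ, f4E_mul_3 m hθ, f4E_mul_4 m hθ, f4E_mul_5 m hθ, f4E_mul_6 m hθ, f4E_mul_7 m hθ, f4E_mul_8 m hθ]
    apply f4E_congr <;> (try simp only [map_add, map_mul, map_pow, map_zero, map_one, hθ, f4_th4 m hθ, f4_th6 m hθ, f4_th8 m hθ]) <;>
      first | rfl | ring1 | (ring_nf; (try simp only [hθ, f4_th4 m hθ, f4_th6 m hθ, f4_th8 m hθ]); (try ring_nf); (try simp only [c2_2, c2_3, c2_4, c2_5, c2_6, c2_7, c2_8, c2_9, c2_10, c2_11, c2_12, neg_eq_self_F, mul_zero, mul_one, add_zero, zero_add]); try ring1)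
  rw [e0, e1, f4E_split m (f4E m a1 0 0 0 0 (b4 + θ a1 * d) 0 0 d 0 0 0) 0 0 0 0 0 0 0 0 d 0 0 0, f4E_mul_1 m hθ, f4E_mul_2 m hθ, f4E_mul_3 m hθ, f4E_mul_4 m hθ, f4E_mul_5 m hθ, f4E_mul_6 m hθ, f4E_mul_7 m hθ, f4E_mul_8 m hθ]
  apply f4E_congr <;> (try simp only [map_add, map_mul, map_pow, map_zero, map_one, hθ, f4_th4 m hθ, f4_th6 m hθ, f4_th8 m hθ]) <;>
    first | rfl | ring1 | (ring_nf; (try simp only [hθ, f4_th4 m hθ, f4_th6 m hθ, f4_th8 m hθ]); (try ring_nf); (try simp only [c2_2, c2_3, c2_4, c2_5, c2_6, c2_7, c2_8, c2_9, c2_10, c2_11, c2_12, neg_eq_self_F, mul_zero, mul_one, add_zero, zero_add]); try ring1)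

set_option maxHeartbeats 8000000 in
theorem f4cj_2a (b2 a3 a4 b4 a5 a6 b6 a7 b8 s : K) :
    ∃ b2' a3' a4' b4' a5' b6' a7' : K, f4E m s 0 0 0 0 0 0 0 0 0 0 0 * f4E m 0 0 b2 a3 a4 b4 a5 a6 b6 a7 0 b8 * (f4E m s 0 0 0 0 0 0 0 0 0 0 0)⁻¹ = f4E m
      0 0 b2' a3' a4' b4' a5' (a6 + θ b8 ^ 2 * s) b6' a7' 0 b8 := by
  refine ⟨?_, ?_, ?_, ?_, ?_, ?_, ?_, ?_⟩
  rotate_left 7
  have e0 : (f4E m s 0 0 0 0 0 0 0 0 0 0 0)⁻¹ = f4E m s 0 0 0 0 0 0 0 0 0 0 0 := by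
    apply inv_eq_of_mul_eq_one_right
    rw [f4E_split m (f4E m s 0 0 0 0 0 0 0 0 0 0 0) s 0 0 0 0 0 0 0 0 0 0 0, f4E_mul_1 m hθ, f4E_mul_2 m hθ, f4E_mul_3 m hθ, f4E_mul_4 m hθ, f4E_mul_5 m hθ, f4E_mul_6 m hθ, f4E_mul_7 m hθ, f4E_mul_8 m hθ, ← f4E_zero m]
    apply f4E_congr <;> (try simp only [map_add, map_mul, map_pow, map_zero, map_one, hθ, f4_th4 m hθ, f4_th6 m hθ, f4_th8 m hθ]) <;>
      first | rfl | ring1 | (ring_nf; (try simp only [hθ, f4_th4 m hθ, f4_th6 m hθ, f4_th8 m hθ]); (try ring_nf); (try simp only [c2_2, c2_3, c2_4, c2_5, c2_6, c2_7, c2_8, c2_9, c2_10, c2_11, c2_12, neg_eq_self_F, mul_zero, mul_one, add_zero, zero_add]); try ring1)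
  have e1 : f4E m s 0 0 0 0 0 0 0 0 0 0 0 * f4E m 0 0 b2 a3 a4 b4 a5 a6 b6 a7 0 b8 = f4E m s 0 b2 a3 a4 b4 a5 a6 b6 a7 0 b8 := by
    rw [f4E_split m (f4E m s 0 0 0 0 0 0 0 0 0 0 0) 0 0 b2 a3 a4 b4 a5 a6 b6 a7 0 b8, f4E_mul_1 m hθ, f4E_mul_2 m hθ, f4E_mul_3 m hθ, f4E_mul_4 m hθ, f4E_mul_5 m hθ, f4E_mul_6 m hθ, f4E_mul_7 m hθ, f4E_mul_8 m hθ]
    apply f4E_congr <;> (try simp only [map_add, map_mul, map_pow, map_zero, map_one, hθ, f4_th4 m hθ, f4_th6 m hθ, f4_th8 m hθ]) <;>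
      first | rfl | ring1 | (ring_nf; (try simp only [hθ, f4_th4 m hθ, f4_th6 m hθ, f4_th8 m hθ]); (try ring_nf); (try simp only [c2_2, c2_3, c2_4, c2_5, c2_6, c2_7, c2_8, c2_9, c2_10, c2_11, c2_12, neg_eq_self_F, mul_zero, mul_one, add_zero, zero_add]); try ring1)
  rw [e0, e1, f4E_split m (f4E m s 0 b2 a3 a4 b4 a5 a6 b6 a7 0 b8) s 0 0 0 0 0 0 0 0 0 0 0, f4E_mul_1 m hθ, f4E_mul_2 m hθ, f4E_mul_3 m hθ, f4E_mul_4 m hθ, f4E_mul_5 m hθ, f4E_mul_6 m hθ, f4E_mul_7 m hθ, f4E_mul_8 m hθ]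
  apply f4E_congr <;> (try simp only [map_add, map_mul, map_pow, map_zero, map_one, hθ, f4_th4 m hθ, f4_th6 m hθ, f4_th8 m hθ]) <;>
    first | rfl | ring1 | (ring_nf; (try simp only [hθ, f4_th4 m hθ, f4_th6 m hθ, f4_th8 m hθ]); (try ring_nf); (try simp only [c2_2, c2_3, c2_4, c2_5, c2_6, c2_7, c2_8, c2_9, c2_10, c2_11, c2_12, neg_eq_self_F, mul_zero, mul_one, add_zero, zero_add]); try ring1)

set_option maxHeartbeats 8000000 in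
theorem f4cj_2b (b2 a3 a4 b4 a5 b6 a7 b8 p : K) :
    ∃ b2' a3' a4' b4' a5' b6' : K, f4E m 0 p 0 0 0 0 0 0 0 0 0 0 * f4E m 0 0 b2 a3 a4 b4 a5 0 b6 a7 0 b8 * (f4E m 0 p 0 0 0 0 0 0 0 0 0 0)⁻¹ = f4E m
      0 0 b2' a3' a4' b4' a5' 0 b6' (a7 + θ b8 ^ 2 * p) 0 b8 := by
  refine ⟨?_, ?_, ?_, ?_, ?_, ?_, ?_⟩
  rotate_left 6
  have e0 : (f4E m 0 p 0 0 0 0 0 0 0 0 0 0)⁻¹ = f4E m 0 p (p * θ p) 0 0 0 0 0 0 0 0 0 := by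
    apply inv_eq_of_mul_eq_one_right
    rw [f4E_split m (f4E m 0 p 0 0 0 0 0 0 0 0 0 0) 0 p (p * θ p) 0 0 0 0 0 0 0 0 0, f4E_mul_1 m hθ, f4E_mul_2 m hθ, f4E_mul_3 m hθ, f4E_mul_4 m hθ, f4E_mul_5 m hθ, f4E_mul_6 m hθ, f4E_mul_7 m hθ, f4E_mul_8 m hθ, ← f4E_zero m]
    apply f4E_congr <;> (try simp only [map_add, map_mul, map_pow, map_zero, map_one, hθ, f4_th4 m hθ, f4_th6 m hθ, f4_th8 m hθ]) <;>
      first | rfl | ring1 | (ring_nf; (try simp only [hθ, f4_th4 m hθ, f4_th6 m hθ, f4_th8 m hθ]); (try ring_nf); (try simp only [c2_2, c2_3, c2_4, c2_5, c2_6, c2_7, c2_8, c2_9, c2_10, c2_11, c2_12, neg_eq_self_F, mul_zero, mul_one, add_zero, zero_add]); try ring1)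
  have e1 : f4E m 0 p 0 0 0 0 0 0 0 0 0 0 * f4E m 0 0 b2 a3 a4 b4 a5 0 b6 a7 0 b8 = f4E m 0 p b2 a3 a4 b4 a5 0 b6 a7 0 b8 := by
    rw [f4E_split m (f4E m 0 p 0 0 0 0 0 0 0 0 0 0) 0 0 b2 a3 a4 b4 a5 0 b6 a7 0 b8, f4E_mul_1 m hθ, f4E_mul_2 m hθ, f4E_mul_3 m hθ, f4E_mul_4 m hθ, f4E_mul_5 m hθ, f4E_mul_6 m hθ, f4E_mul_7 m hθ, f4E_mul_8 m hθ]
    apply f4E_congr <;> (try simp only [map_add, map_mul, map_pow, map_zero, map_one, hθ, f4_th4 m hθ, f4_th6 m hθ, f4_th8 m hθ]) <;>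
      first | rfl | ring1 | (ring_nf; (try simp only [hθ, f4_th4 m hθ, f4_th6 m hθ, f4_th8 m hθ]); (try ring_nf); (try simp only [c2_2, c2_3, c2_4, c2_5, c2_6, c2_7, c2_8, c2_9, c2_10, c2_11, c2_12, neg_eq_self_F, mul_zero, mul_one, add_zero, zero_add]); try ring1)
  rw [e0, e1, f4E_split m (f4E m 0 p b2 a3 a4 b4 a5 0 b6 a7 0 b8) 0 p (p * θ p) 0 0 0 0 0 0 0 0 0, f4E_mul_1 m hθ, f4E_mul_2 m hθ, f4E_mul_3 m hθ, f4E_mul_4 m hθ, f4E_mul_5 m hθ, f4E_mul_6 m hθ, f4E_mul_7 m hθ, f4E_mul_8 m hθ]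
  apply f4E_congr <;> (try simp only [map_add, map_mul, map_pow, map_zero, map_one, hθ, f4_th4 m hθ, f4_th6 m hθ, f4_th8 m hθ]) <;>
    first | rfl | ring1 | (ring_nf; (try simp only [hθ, f4_th4 m hθ, f4_th6 m hθ, f4_th8 m hθ]); (try ring_nf); (try simp only [c2_2, c2_3, c2_4, c2_5, c2_6, c2_7, c2_8, c2_9, c2_10, c2_11, c2_12, neg_eq_self_F, mul_zero, mul_one, add_zero, zero_add]); try ring1)

set_option maxHeartbeats 8000000 in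
theorem f4cj_2c (b2 a3 a4 b4 a5 b6 b8 r : K) :
    ∃ b2' a3' a4' b4' b6' : K, f4E m 0 0 r 0 0 0 0 0 0 0 0 0 * f4E m 0 0 b2 a3 a4 b4 a5 0 b6 0 0 b8 * (f4E m 0 0 r 0 0 0 0 0 0 0 0 0)⁻¹ = f4E m
      0 0 b2' a3' a4' b4' (a5 + θ b8 ^ 2 * θ r ^ 2) 0 b6' 0 0 b8 := by
  refine ⟨?_, ?_, ?_, ?_, ?_, ?_⟩
  rotate_left 5
  have e0 : (f4E m 0 0 r 0 0 0 0 0 0 0 0 0)⁻¹ = f4E m 0 0 r 0 0 0 0 0 0 0 0 0 := by
    apply inv_eq_of_mul_eq_one_right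
    rw [f4E_split m (f4E m 0 0 r 0 0 0 0 0 0 0 0 0) 0 0 r 0 0 0 0 0 0 0 0 0, f4E_mul_1 m hθ, f4E_mul_2 m hθ, f4E_mul_3 m hθ, f4E_mul_4 m hθ, f4E_mul_5 m hθ, f4E_mul_6 m hθ, f4E_mul_7 m hθ, f4E_mul_8 m hθ, ← f4E_zero m]
    apply f4E_congr <;> (try simp only [map_add, map_mul, map_pow, map_zero, map_one, hθ, f4_th4 m hθ, f4_th6 m hθ, f4_th8 m hθ]) <;>
      first | rfl | ring1 | (ring_nf; (try simp only [hθ, f4_th4 m hθ, f4_th6 m hθ, f4_th8 m hθ]); (try ring_nf); (try simp only [c2_2, c2_3, c2_4, c2_5, c2_6, c2_7, c2_8, c2_9, c2_10, c2_11, c2_12, neg_eq_self_F, mul_zero, mul_one, add_zero, zero_add]); try ring1)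
  have e1 : f4E m 0 0 r 0 0 0 0 0 0 0 0 0 * f4E m 0 0 b2 a3 a4 b4 a5 0 b6 0 0 b8 = f4E m 0 0 (b2 + r) a3 a4 b4 a5 0 b6 0 0 b8 := by
    rw [f4E_split m (f4E m 0 0 r 0 0 0 0 0 0 0 0 0) 0 0 b2 a3 a4 b4 a5 0 b6 0 0 b8, f4E_mul_1 m hθ, f4E_mul_2 m hθ, f4E_mul_3 m hθ, f4E_mul_4 m hθ, f4E_mul_5 m hθ, f4E_mul_6 m hθ, f4E_mul_7 m hθ, f4E_mul_8 m hθ]
    apply f4E_congr <;> (try simp only [map_add, map_mul, map_pow, map_zero, map_one, hθ, f4_th4 m hθ, f4_th6 m hθ, f4_th8 m hθ]) <;>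
      first | rfl | ring1 | (ring_nf; (try simp only [hθ, f4_th4 m hθ, f4_th6 m hθ, f4_th8 m hθ]); (try ring_nf); (try simp only [c2_2, c2_3, c2_4, c2_5, c2_6, c2_7, c2_8, c2_9, c2_10, c2_11, c2_12, neg_eq_self_F, mul_zero, mul_one, add_zero, zero_add]); try ring1)
  rw [e0, e1, f4E_split m (f4E m 0 0 (b2 + r) a3 a4 b4 a5 0 b6 0 0 b8) 0 0 r 0 0 0 0 0 0 0 0 0, f4E_mul_1 m hθ, f4E_mul_2 m hθ, f4E_mul_3 m hθ, f4E_mul_4 m hθ, f4E_mul_5 m hθ, f4E_mul_6 m hθ, f4E_mul_7 m hθ, f4E_mul_8 m hθ]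
  apply f4E_congr <;> (try simp only [map_add, map_mul, map_pow, map_zero, map_one, hθ, f4_th4 m hθ, f4_th6 m hθ, f4_th8 m hθ]) <;>
    first | rfl | ring1 | (ring_nf; (try simp only [hθ, f4_th4 m hθ, f4_th6 m hθ, f4_th8 m hθ]); (try ring_nf); (try simp only [c2_2, c2_3, c2_4, c2_5, c2_6, c2_7, c2_8, c2_9, c2_10, c2_11, c2_12, neg_eq_self_F, mul_zero, mul_one, add_zero, zero_add]); try ring1)

set_option maxHeartbeats 8000000 in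
theorem f4cj_2d (b2 a3 a4 b4 b6 b8 s : K) :
    ∃ b2' a3' a4' b4' : K, f4E m 0 0 0 s 0 0 0 0 0 0 0 0 * f4E m 0 0 b2 a3 a4 b4 0 0 b6 0 0 b8 * (f4E m 0 0 0 s 0 0 0 0 0 0 0 0)⁻¹ = f4E m
      0 0 b2' a3' a4' b4' 0 0 (b6 + b8 * θ s) 0 0 b8 := by
  refine ⟨?_, ?_, ?_, ?_, ?_⟩
  rotate_left 4
  have e0 : (f4E m 0 0 0 s 0 0 0 0 0 0 0 0)⁻¹ = f4E m 0 0 0 s 0 0 0 0 0 0 0 0 := by
    apply inv_eq_of_mul_eq_one_right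
    rw [f4E_split m (f4E m 0 0 0 s 0 0 0 0 0 0 0 0) 0 0 0 s 0 0 0 0 0 0 0 0, f4E_mul_1 m hθ, f4E_mul_2 m hθ, f4E_mul_3 m hθ, f4E_mul_4 m hθ, f4E_mul_5 m hθ, f4E_mul_6 m hθ, f4E_mul_7 m hθ, f4E_mul_8 m hθ, ← f4E_zero m]
    apply f4E_congr <;> (try simp only [map_add, map_mul, map_pow, map_zero, map_one, hθ, f4_th4 m hθ, f4_th6 m hθ, f4_th8 m hθ]) <;>
      first | rfl | ring1 | (ring_nf; (try simp only [hθ, f4_th4 m hθ, f4_th6 m hθ, f4_th8 m hθ]); (try ring_nf); (try simp only [c2_2, c2_3, c2_4, c2_5, c2_6, c2_7, c2_8, c2_9, c2_10, c2_11, c2_12, neg_eq_self_F, mul_zero, mul_one, add_zero, zero_add]); try ring1)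
  have e1 : f4E m 0 0 0 s 0 0 0 0 0 0 0 0 * f4E m 0 0 b2 a3 a4 b4 0 0 b6 0 0 b8 = f4E m 0 0 b2 (a3 + s) a4 b4 0 0 b6 0 0 b8 := by
    rw [f4E_split m (f4E m 0 0 0 s 0 0 0 0 0 0 0 0) 0 0 b2 a3 a4 b4 0 0 b6 0 0 b8, f4E_mul_1 m hθ, f4E_mul_2 m hθ, f4E_mul_3 m hθ, f4E_mul_4 m hθ, f4E_mul_5 m hθ, f4E_mul_6 m hθ, f4E_mul_7 m hθ, f4E_mul_8 m hθ]
    apply f4E_congr <;> (try simp only [map_add, map_mul, map_pow, map_zero, map_one, hθ, f4_th4 m hθ, f4_th6 m hθ, f4_th8 m hθ]) <;>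
      first | rfl | ring1 | (ring_nf; (try simp only [hθ, f4_th4 m hθ, f4_th6 m hθ, f4_th8 m hθ]); (try ring_nf); (try simp only [c2_2, c2_3, c2_4, c2_5, c2_6, c2_7, c2_8, c2_9, c2_10, c2_11, c2_12, neg_eq_self_F, mul_zero, mul_one, add_zero, zero_add]); try ring1)
  rw [e0, e1, f4E_split m (f4E m 0 0 b2 (a3 + s) a4 b4 0 0 b6 0 0 b8) 0 0 0 s 0 0 0 0 0 0 0 0, f4E_mul_1 m hθ, f4E_mul_2 m hθ, f4E_mul_3 m hθ, f4E_mul_4 m hθ, f4E_mul_5 m hθ, f4E_mul_6 m hθ, f4E_mul_7 m hθ, f4E_mul_8 m hθ]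
  apply f4E_congr <;> (try simp only [map_add, map_mul, map_pow, map_zero, map_one, hθ, f4_th4 m hθ, f4_th6 m hθ, f4_th8 m hθ]) <;>
    first | rfl | ring1 | (ring_nf; (try simp only [hθ, f4_th4 m hθ, f4_th6 m hθ, f4_th8 m hθ]); (try ring_nf); (try simp only [c2_2, c2_3, c2_4, c2_5, c2_6, c2_7, c2_8, c2_9, c2_10, c2_11, c2_12, neg_eq_self_F, mul_zero, mul_one, add_zero, zero_add]); try ring1)

end F4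

end Cfsg.Agent.Lib.H29.Chev
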