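import Mathlib
import Cfsg.Prelude.Def_ChevStructure
import Cfsg.Prelude.Def_LieTwisted
import Cfsg.Agent.Lib.H29.F4Inv8
import Cfsg.Agent.Lib.H29.OctF4c

/-!
# The large Ree groups: the involutions of `U¹`, the first case and the elementary abelian subgroup
-/

set_option autoImplicit false
set_option linter.unusedSectionVars false
set_option linter.unusedSimpArgs false
set_option linter.unusedVariables false
set_option linter.unusedTactic false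
set_option linter.unreachableTactic false

namespace Cfsg.Agent.Lib.H29.Chev

open Cfsg.Lie Matrix

section F4

variable {K : Type*} [Field K] [CharP K 2] (m : ℕ)

theorem f4_mul_th_eq_zero (x : K) (h : x * f4Theta K m x = 0) : x = 0 := by
  rcases mul_eq_zero.mp h with h | h
  · exact h
  · exact (map_eq_zero _).mp h

theorem f4_solve1 (c a : K) (ha : a ≠ 0) : ∃ p : K, c + a * p = 0 := by
  refine ⟨c / a, ?_⟩
  rw [mul_div_cancel₀ _ ha]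
  exact CharTwo.add_self_eq_zero c

theorem f4E_12 (a t u : K) : f4E m a t u 0 0 0 0 0 0 0 0 0 = f4x1 m a * f4y2 m t u := by
  unfold f4E f4x3 f4y4 f4x5 f4y6 f4x7 f4y8
  simp only [pairEl_zero, clsEl_zero, mul_one, one_mul]

theorem f4E_48 (b c : K) : f4E m 0 0 0 0 0 b 0 0 0 0 0 c = f4y4 m 0 b * f4y8 m 0 c := by
  unfold f4E f4x1 f4y2 f4x3 f4x5 f4y6 f4x7
  simp only [pairEl_zero, clsEl_zero, mul_one, one_mul]

theorem f4E_25 (b e : K) : f4E m 0 0 b 0 0 0 e 0 0 0 0 0 = f4y2 m 0 b * f4x5 m e := by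
  unfold f4E f4x1 f4x3 f4y4 f4y6 f4x7 f4y8
  simp only [pairEl_zero, clsEl_zero, mul_one, one_mul]

theorem f4E_34567 (a3 b4 a5 b6 a7 : K) : f4E m 0 0 0 a3 0 b4 a5 0 b6 a7 0 0 =
    f4x3 m a3 * f4y4 m 0 b4 * f4x5 m a5 * f4y6 m 0 b6 * f4x7 m a7 := by
  unfold f4E f4x1 f4y2 f4y8
  simp only [pairEl_zero, clsEl_zero, mul_one, one_mul, mul_assoc]

variable (hθ : ∀ x : K, f4Theta K m (f4Theta K m x) ^ 2 = x)
include hθ

theorem f4_solve2 (c a : K) (ha : a ≠ 0) : ∃ r : K, c + a * f4Theta K m r ^ 2 = 0 := by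
  refine ⟨f4Theta K m (c / a), ?_⟩
  rw [hθ, mul_div_cancel₀ _ ha]
  exact CharTwo.add_self_eq_zero c

theorem f4_solve3 (c a : K) (ha : a ≠ 0) : ∃ e : K, c + a * f4Theta K m e = 0 := by
  refine ⟨f4Theta K m (c / a) ^ 2, ?_⟩
  rw [map_pow, hθ, mul_div_cancel₀ _ ha]
  exact CharTwo.add_self_eq_zero c

/-- the second half of the first case -/
theorem f4_R1b (a1 b2 a3 b4 a5 : K) (h1 : a1 ≠ 0) :
    ConjS (twistedF4 K (2 ^ m)) (f4E m a1 0 b2 a3 0 b4 a5 0 0 0 0 0) (f4x1 m a1) := by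
  have hθ1 : f4Theta K m a1 ≠ 0 := (map_ne_zero _).mpr h1
  obtain ⟨s, hs⟩ := f4_solve2 m hθ a5 a1 h1
  obtain ⟨b2', a3', b4', e1⟩ := f4cj_1c m hθ a1 b2 a3 b4 a5 s
  rw [hs] at e1
  have s1 : ConjS (twistedF4 K (2 ^ m)) (f4E m a1 0 b2 a3 0 b4 a5 0 0 0 0 0) (f4E m a1 0 b2' a3' 0 b4' 0 0 0 0 0 0) :=
    ⟨_, f4E_mem_tw m _ _ _ _ _ _ _ _ _ _ _ _, e1⟩
  obtain ⟨c, hc⟩ := f4_solve2 m hθ a3' a1 h1
  obtain ⟨b2'', b4'', e2⟩ := f4cj_1d m hθ a1 b2' a3' b4' c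
  rw [hc] at e2
  have s2 : ConjS (twistedF4 K (2 ^ m)) (f4E m a1 0 b2' a3' 0 b4' 0 0 0 0 0 0) (f4E m a1 0 b2'' 0 0 b4'' 0 0 0 0 0 0) :=
    ⟨_, f4E_mem_tw m _ _ _ _ _ _ _ _ _ _ _ _, e2⟩
  obtain ⟨e, he⟩ := f4_solve3 m hθ (b2'' / f4Theta K m a1) 1 one_ne_zero
  obtain ⟨b4''', e3⟩ := f4cj_1e m hθ a1 b2'' b4'' e
  have he' : b2'' + f4Theta K m a1 * f4Theta K m e = 0 := by
    rw [one_mul] at he
    have : f4Theta K m a1 * (b2'' / f4Theta K m a1 + f4Theta K m e) = 0 := by rw [he, mul_zero]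
    rw [mul_add, mul_div_cancel₀ _ hθ1] at this
    exact this
  rw [he'] at e3
  have s3 : ConjS (twistedF4 K (2 ^ m)) (f4E m a1 0 b2'' 0 0 b4'' 0 0 0 0 0 0) (f4E m a1 0 0 0 0 b4''' 0 0 0 0 0 0) :=
    ⟨_, f4E_mem_tw m _ _ _ _ _ _ _ _ _ _ _ _, e3⟩
  obtain ⟨d, hd⟩ := f4_solve1 b4''' (f4Theta K m a1) hθ1
  have e4 := f4cj_1f m hθ a1 b4''' d
  rw [hd] at e4
  have s4 : ConjS (twistedF4 K (2 ^ m)) (f4E m a1 0 0 0 0 b4''' 0 0 0 0 0 0) (f4E m a1 0 0 0 0 0 0 0 0 0 0 0) :=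
    ⟨_, f4E_mem_tw m _ _ _ _ _ _ _ _ _ _ _ _, e4⟩
  rw [← f4E_s1] at s4
  exact s1.trans (s2.trans (s3.trans s4))

/-- the torus: the elements `x₁(a)` -/
theorem f4_torus_x1 [Fintype K] (hK : Fintype.card K = 2 ^ (2 * m + 1)) (a : K) (ha : a ≠ 0) :
    ConjS (twistedF4 K (2 ^ m)) (f4x1 m a) (f4x1 m 1) := by
  refine ⟨f4Tor m (Units.mk0 a⁻¹ (inv_ne_zero ha), 1), f4Tor_mem_tw m _, ?_⟩
  have h := f4Tor_conj_pU m hK (Units.mk0 a⁻¹ (inv_ne_zero ha), 1) a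
  rw [Units.val_mk0, inv_mul_cancel₀ ha] at h
  exact h

/-- the torus: the elements `z₈(b)` -/
theorem f4_torus_z8 [Fintype K] (hK : Fintype.card K = 2 ^ (2 * m + 1)) (b : K) (hb : b ≠ 0) :
    ConjS (twistedF4 K (2 ^ m)) (f4y8 m 0 b) (f4y8 m 0 1) := by
  have hθb : f4Theta K m b ≠ 0 := (map_ne_zero _).mpr hb
  have hB : f4Theta K m b ^ 2 / b ^ 2 ≠ 0 := div_ne_zero (pow_ne_zero _ hθb) (pow_ne_zero _ hb)
  refine ⟨f4Tor m (1, Units.mk0 _ hB), f4Tor_mem_tw m _, ?_⟩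
  have h := f4Tor_conj_cU m hK (1, Units.mk0 _ hB) 0 b
  rw [Units.val_mk0, mul_zero] at h
  rw [h]
  congr 1
  rw [map_div₀, map_pow, map_pow, hθ]
  field_simp

/-- the first case: the coordinate `a₁` is not zero -/
theorem f4_R1 [Fintype K] (hK : Fintype.card K = 2 ^ (2 * m + 1)) (a1 a2 b2 a3 a4 b4 a5 a6 b6 a7 : K) (h1 : a1 ≠ 0)
    (hsq : f4E m a1 a2 b2 a3 a4 b4 a5 a6 b6 a7 0 0 * f4E m a1 a2 b2 a3 a4 b4 a5 a6 b6 a7 0 0 = 1) :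
    ConjS (twistedF4 K (2 ^ m)) (f4E m a1 a2 b2 a3 a4 b4 a5 a6 b6 a7 0 0) (f4x1 m 1) := by
  have hθ1 : f4Theta K m a1 ≠ 0 := (map_ne_zero _).mpr h1
  obtain ⟨p, hp⟩ := f4_solve1 a2 a1 h1
  obtain ⟨b2', a3', a4', b4', a5', a6', b6', a7', e1⟩ := f4cj_1a m hθ a1 a2 b2 a3 a4 b4 a5 a6 b6 a7 p
  rw [hp] at e1
  have s1 : ConjS (twistedF4 K (2 ^ m)) (f4E m a1 a2 b2 a3 a4 b4 a5 a6 b6 a7 0 0)
      (f4E m a1 0 b2' a3' a4' b4' a5' a6' b6' a7' 0 0) := ⟨_, f4E_mem_tw m _ _ _ _ _ _ _ _ _ _ _ _, e1⟩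
  obtain ⟨r, hr⟩ := f4_solve2 m hθ a6' a1 h1
  obtain ⟨b2'', a3'', a4'', b4'', a5'', b6'', a7'', e2⟩ := f4cj_1b m hθ a1 b2' a3' a4' b4' a5' a6' b6' a7' r
  rw [hr] at e2
  have s2 : ConjS (twistedF4 K (2 ^ m)) (f4E m a1 0 b2' a3' a4' b4' a5' a6' b6' a7' 0 0)
      (f4E m a1 0 b2'' a3'' a4'' b4'' a5'' 0 b6'' a7'' 0 0) := ⟨_, f4E_mem_tw m _ _ _ _ _ _ _ _ _ _ _ _, e2⟩
  have s12 := s1.trans s2
  have hsq2 := s12.sq hsq
  obtain ⟨a5x, b6x, e3⟩ := f4sq_I m hθ a1 b2'' a3'' a4'' b4'' a5'' b6'' a7''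
  rw [hsq2] at e3
  obtain ⟨_, _, c3, c4, _, c6, _⟩ := f4E_eq_one m hK _ _ _ _ _ _ _ _ _ _ _ _ e3.symm
  have ha4 : a4'' = 0 := by
    rcases mul_eq_zero.mp c3 with h | h
    · exact absurd h hθ1
    · exact (map_eq_zero _).mp h
  have ha7 : a7'' = 0 := by
    rcases mul_eq_zero.mp c4 with h | h
    · exact absurd h (pow_ne_zero _ hθ1)
    · exact h
  subst ha4
  subst ha7
  have hb6 : b6'' = 0 := by
    rw [map_zero, mul_zero, zero_mul, add_zero, add_zero] at c6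
    rcases mul_eq_zero.mp c6 with h | h
    · exact absurd h hθ1
    · exact h
  subst hb6
  exact s12.trans ((f4_R1b m hθ a1 b2'' a3'' b4'' a5'' h1).trans (f4_torus_x1 m hθ hK a1 h1))

end F4

end Cfsg.Agent.Lib.H29.Chev
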