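import Mathlib
import Cfsg.Prelude.Def_ChevStructure
import Cfsg.Prelude.Def_LieTwisted
import Cfsg.Agent.Lib.H29.F4Inv9

/-!
# The large Ree groups: the involutions of the elementary abelian subgroup of `U¹`
-/

set_option autoImplicit false
set_option linter.unusedSectionVars false
set_option linter.unusedSimpArgs false
set_option linter.unusedVariables false
set_option linter.unusedTactic false
set_option linter.unreachableTactic false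

namespace Cfsg.Agent.Lib.H29.Chev

open Cfsg.Lie Matrix

section F4

variable {K : Type*} [Field K] [CharP K 2] (m : ℕ)

theorem f4_w_x7 (a : K) : ConjS (twistedF4 K (2 ^ m)) (f4x7 m a) (f4x1 m a) :=
  ⟨fN2 K, fN2_mem_tw m, f4_n8_x7 m a⟩

theorem f4_w_x3 (a : K) : ConjS (twistedF4 K (2 ^ m)) (f4x3 m a) (f4x1 m a) :=
  ConjS.trans ⟨fN1 K, fN1_mem_tw m, f4_n1_x3 m a⟩ (f4_w_x7 m a)

theorem f4_w_x5 (a : K) : ConjS (twistedF4 K (2 ^ m)) (f4x5 m a) (f4x1 m a) :=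
  ConjS.trans ⟨fN2 K, fN2_mem_tw m, f4_n8_x5 m a⟩ (f4_w_x3 m a)

theorem f4_w_y2 (t u : K) : ConjS (twistedF4 K (2 ^ m)) (f4y2 m t u) (f4y8 m t u) :=
  ⟨fN1 K, fN1_mem_tw m, f4_n1_y2 m t u⟩

theorem f4_w_y6 (t u : K) : ConjS (twistedF4 K (2 ^ m)) (f4y6 m t u) (f4y8 m t u) :=
  ConjS.trans ⟨fN2 K, fN2_mem_tw m, f4_n8_y6 m t u⟩ (f4_w_y2 m t u)

theorem f4_w_y4 (t u : K) : ConjS (twistedF4 K (2 ^ m)) (f4y4 m t u) (f4y8 m t u) :=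
  ConjS.trans ⟨fN1 K, fN1_mem_tw m, f4_n1_y4 m t u⟩ (f4_w_y6 m t u)

variable (hθ : ∀ x : K, f4Theta K m (f4Theta K m x) ^ 2 = x)
include hθ

variable [Fintype K] (hK : Fintype.card K = 2 ^ (2 * m + 1))
include hK

/-- the elementary abelian subgroup: `b₂ = 0`, `a₃ ≠ 0` -/
theorem f4_R4b (a3 b4 a5 b6 : K) (h3 : a3 ≠ 0) :
    ConjS (twistedF4 K (2 ^ m)) (f4E m 0 0 0 a3 0 b4 a5 0 b6 0 0 0) (f4x1 m 1) := by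
  have hθ3 : f4Theta K m a3 ≠ 0 := (map_ne_zero _).mpr h3
  obtain ⟨p, hp⟩ := f4_solve2 m hθ a5 a3 h3
  obtain ⟨b4', b6', e1⟩ := f4cj_4e m hθ a3 b4 a5 b6 p
  rw [hp] at e1
  have s1 : ConjS (twistedF4 K (2 ^ m)) (f4E m 0 0 0 a3 0 b4 a5 0 b6 0 0 0) (f4E m 0 0 0 a3 0 b4' 0 0 b6' 0 0 0) :=
    ⟨_, f4E_mem_tw m _ _ _ _ _ _ _ _ _ _ _ _, e1⟩
  obtain ⟨r, hr⟩ := f4_solve1 b6' (f4Theta K m a3) hθ3
  obtain ⟨b4'', e2⟩ := f4cj_4f m hθ a3 b4' b6' r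
  rw [hr] at e2
  have s2 : ConjS (twistedF4 K (2 ^ m)) (f4E m 0 0 0 a3 0 b4' 0 0 b6' 0 0 0) (f4E m 0 0 0 a3 0 b4'' 0 0 0 0 0 0) :=
    ⟨_, f4E_mem_tw m _ _ _ _ _ _ _ _ _ _ _ _, e2⟩
  obtain ⟨e, he⟩ := f4_solve3 m hθ b4'' (f4Theta K m a3) hθ3
  have e3 := f4cj_4g m hθ a3 b4'' e
  rw [he] at e3
  have s3 : ConjS (twistedF4 K (2 ^ m)) (f4E m 0 0 0 a3 0 b4'' 0 0 0 0 0 0) (f4E m 0 0 0 a3 0 0 0 0 0 0 0 0) :=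
    ⟨_, f4E_mem_tw m _ _ _ _ _ _ _ _ _ _ _ _, e3⟩
  rw [← f4E_s3] at s3
  exact s1.trans (s2.trans (s3.trans ((f4_w_x3 m a3).trans (f4_torus_x1 m hθ hK a3 h3))))

/-- the elementary abelian subgroup: `b₂ = a₃ = 0`, `a₅ ≠ 0` -/
theorem f4_R4c (b4 a5 b6 : K) (h5 : a5 ≠ 0) :
    ConjS (twistedF4 K (2 ^ m)) (f4E m 0 0 0 0 0 b4 a5 0 b6 0 0 0) (f4x1 m 1) := by
  have hθ5 : f4Theta K m a5 ≠ 0 := (map_ne_zero _).mpr h5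
  obtain ⟨p, hp⟩ := f4_solve3 m hθ b6 (f4Theta K m a5) hθ5
  obtain ⟨b4', e1⟩ := f4cj_4h m hθ b4 a5 b6 p
  rw [hp] at e1
  have s1 : ConjS (twistedF4 K (2 ^ m)) (f4E m 0 0 0 0 0 b4 a5 0 b6 0 0 0) (f4E m 0 0 0 0 0 b4' a5 0 0 0 0 0) :=
    ⟨_, f4E_mem_tw m _ _ _ _ _ _ _ _ _ _ _ _, e1⟩
  obtain ⟨e, he⟩ := f4_solve3 m hθ b4' (f4Theta K m a5) hθ5
  have e2 := f4cj_4i m hθ b4' a5 e
  rw [he] at e2
  have s2 : ConjS (twistedF4 K (2 ^ m)) (f4E m 0 0 0 0 0 b4' a5 0 0 0 0 0) (f4E m 0 0 0 0 0 0 a5 0 0 0 0 0) :=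
    ⟨_, f4E_mem_tw m _ _ _ _ _ _ _ _ _ _ _ _, e2⟩
  rw [← f4E_s5] at s2
  exact s1.trans (s2.trans ((f4_w_x5 m a5).trans (f4_torus_x1 m hθ hK a5 h5)))

/-- the elementary abelian subgroup: `b₂ = a₃ = a₅ = 0` -/
theorem f4_R4d (b4 b6 : K) (hne : b4 ≠ 0 ∨ b6 ≠ 0) :
    ConjS (twistedF4 K (2 ^ m)) (f4E m 0 0 0 0 0 b4 0 0 b6 0 0 0) (f4y8 m 0 1) := by
  by_cases h6 : b6 = 0
  · subst h6
    have h4 : b4 ≠ 0 := by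
      rcases hne with h | h
      · exact h
      · exact absurd rfl h
    rw [← f4E_s4]
    exact (f4_w_y4 m 0 b4).trans (f4_torus_z8 m hθ hK b4 h4)
  · obtain ⟨s, hs⟩ := f4_solve3 m hθ b4 b6 h6
    have e1 := f4cj_4j m hθ b4 b6 s
    rw [hs] at e1
    have s1 : ConjS (twistedF4 K (2 ^ m)) (f4E m 0 0 0 0 0 b4 0 0 b6 0 0 0) (f4E m 0 0 0 0 0 0 0 0 b6 0 0 0) :=
      ⟨_, f4E_mem_tw m _ _ _ _ _ _ _ _ _ _ _ _, e1⟩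
    rw [← f4E_s6] at s1
    exact s1.trans ((f4_w_y6 m 0 b6).trans (f4_torus_z8 m hθ hK b6 h6))

/-- the elementary abelian subgroup: `b₂ ≠ 0` -/
theorem f4_R4a (b2 a3 b4 a5 b6 : K) (h2 : b2 ≠ 0) :
    ConjS (twistedF4 K (2 ^ m)) (f4E m 0 0 b2 a3 0 b4 a5 0 b6 0 0 0) (f4x1 m 1) ∨
    ConjS (twistedF4 K (2 ^ m)) (f4E m 0 0 b2 a3 0 b4 a5 0 b6 0 0 0) (f4y8 m 0 1) := by
  have hθ2 : f4Theta K m b2 ≠ 0 := (map_ne_zero _).mpr h2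
  have hθ22 : f4Theta K m b2 ^ 2 ≠ 0 := pow_ne_zero _ hθ2
  obtain ⟨p, hp⟩ := f4_solve1 a3 (f4Theta K m b2 ^ 2) hθ22
  obtain ⟨b4', a5', b6', e1⟩ := f4cj_4a m hθ b2 a3 b4 a5 b6 p
  rw [hp] at e1
  have s1 : ConjS (twistedF4 K (2 ^ m)) (f4E m 0 0 b2 a3 0 b4 a5 0 b6 0 0 0) (f4E m 0 0 b2 0 0 b4' a5' 0 b6' 0 0 0) :=
    ⟨_, f4E_mem_tw m _ _ _ _ _ _ _ _ _ _ _ _, e1⟩
  obtain ⟨r, hr⟩ := f4_solve2 m hθ a5' (f4Theta K m b2 ^ 2) hθ22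
  obtain ⟨b4'', e2⟩ := f4cj_4b m hθ b2 b4' a5' b6' r
  rw [hr] at e2
  have s2 : ConjS (twistedF4 K (2 ^ m)) (f4E m 0 0 b2 0 0 b4' a5' 0 b6' 0 0 0)
      (f4E m 0 0 b2 0 0 b4'' 0 0 (b6' + b2 * f4Theta K m r ^ 2) 0 0 0) :=
    ⟨_, f4E_mem_tw m _ _ _ _ _ _ _ _ _ _ _ _, e2⟩
  obtain ⟨c, hc⟩ : ∃ c : K, c = b6' + b2 * f4Theta K m r ^ 2 := ⟨_, rfl⟩
  rw [← hc] at s2
  obtain ⟨s, hs⟩ := f4_solve3 m hθ b4'' b2 h2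
  have e3 := f4cj_4c m hθ b2 b4'' 0 c s
  rw [hs] at e3
  have s3 : ConjS (twistedF4 K (2 ^ m)) (f4E m 0 0 b2 0 0 b4'' 0 0 c 0 0 0) (f4E m 0 0 b2 0 0 0 0 0 c 0 0 0) :=
    ⟨_, f4E_mem_tw m _ _ _ _ _ _ _ _ _ _ _ _, e3⟩
  have s123 := s1.trans (s2.trans s3)
  by_cases hc0 : c = 0
  · subst hc0
    rw [← f4E_s2] at s123
    exact Or.inr (s123.trans ((f4_w_y2 m 0 b2).trans (f4_torus_z8 m hθ hK b2 h2)))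
  · left
    obtain ⟨r', hr'⟩ := f4_solve2 m hθ c b2 h2
    obtain ⟨b4x, e4⟩ := f4cj_4b m hθ b2 0 0 c r'
    rw [hr', zero_add] at e4
    have hr0 : f4Theta K m r' ^ 2 ≠ 0 := by
      intro h
      rw [h, mul_zero, add_zero] at hr'
      exact hc0 hr'
    have he0 : f4Theta K m b2 ^ 2 * f4Theta K m r' ^ 2 ≠ 0 := mul_ne_zero hθ22 hr0
    obtain ⟨e, he⟩ : ∃ e : K, e = f4Theta K m b2 ^ 2 * f4Theta K m r' ^ 2 := ⟨_, rfl⟩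
    rw [← he] at e4 he0
    have s4 : ConjS (twistedF4 K (2 ^ m)) (f4E m 0 0 b2 0 0 0 0 0 c 0 0 0) (f4E m 0 0 b2 0 0 b4x e 0 0 0 0 0) :=
      ⟨_, f4E_mem_tw m _ _ _ _ _ _ _ _ _ _ _ _, e4⟩
    obtain ⟨s', hs'⟩ := f4_solve3 m hθ b4x b2 h2
    have e5 := f4cj_4c m hθ b2 b4x e 0 s'
    rw [hs'] at e5
    have s5 : ConjS (twistedF4 K (2 ^ m)) (f4E m 0 0 b2 0 0 b4x e 0 0 0 0 0) (f4E m 0 0 b2 0 0 0 e 0 0 0 0 0) :=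
      ⟨_, f4E_mem_tw m _ _ _ _ _ _ _ _ _ _ _ _, e5⟩
    have s6 : ConjS (twistedF4 K (2 ^ m)) (f4E m 0 0 b2 0 0 0 e 0 0 0 0 0) (f4E m 0 0 0 e 0 0 0 0 b2 0 0 0) := by
      refine ⟨fN2 K, fN2_mem_tw m, ?_⟩
      rw [f4E_25, ← f4ch_W3 m hθ b2 e, ← f4E_s6, ← f4E_s3, ← f4_n8_y2 m 0 b2, ← f4_n8_x5 m e]
      group
    exact s123.trans (s4.trans (s5.trans (s6.trans (f4_R4b m hθ hK e 0 0 b2 he0))))

/-- the involutions of the elementary abelian subgroup -/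
theorem f4_R4 (b2 a3 b4 a5 b6 : K) (hne : f4E m 0 0 b2 a3 0 b4 a5 0 b6 0 0 0 ≠ 1) :
    ConjS (twistedF4 K (2 ^ m)) (f4E m 0 0 b2 a3 0 b4 a5 0 b6 0 0 0) (f4x1 m 1) ∨
    ConjS (twistedF4 K (2 ^ m)) (f4E m 0 0 b2 a3 0 b4 a5 0 b6 0 0 0) (f4y8 m 0 1) := by
  by_cases h2 : b2 = 0
  · subst h2
    by_cases h3 : a3 = 0
    · subst h3
      by_cases h5 : a5 = 0
      · subst h5
        right
        apply f4_R4d m hθ hK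
        by_contra h
        rw [not_or, not_not, not_not] at h
        apply hne
        rw [h.1, h.2]
        exact f4E_zero m
      · exact Or.inl (f4_R4c m hθ hK b4 a5 b6 h5)
    · exact Or.inl (f4_R4b m hθ hK a3 b4 a5 b6 h3)
  · exact f4_R4a m hθ hK b2 a3 b4 a5 b6 h2

end F4

end Cfsg.Agent.Lib.H29.Chev
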