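import Mathlib
import Cfsg.Prelude.Def_ChevStructure
import Cfsg.Prelude.Def_LieTwisted
import Cfsg.Agent.Lib.H29.F4Inv10

/-!
# The large Ree groups: every involution of `U¹` is conjugate to one of two elements
-/

set_option autoImplicit false
set_option linter.unusedSectionVars false
set_option linter.unusedSimpArgs false
set_option linter.unusedVariables false
set_option linter.unusedTactic false
set_option linter.unreachableTactic false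

namespace Cfsg.Agent.Lib.H29.Chev

open Cfsg.Lie Matrix

section F4

variable {K : Type*} [Field K] [CharP K 2] (m : ℕ)

variable (hθ : ∀ x : K, f4Theta K m (f4Theta K m x) ^ 2 = x)
include hθ

variable [Fintype K] (hK : Fintype.card K = 2 ^ (2 * m + 1))
include hK

/-- the second case: `a₁ = a₂ = a₈ = 0` and `b₈ ≠ 0` -/
theorem f4_R2 (b2 a3 a4 b4 a5 a6 b6 a7 b8 : K) (h8 : b8 ≠ 0)
    (hsq : f4E m 0 0 b2 a3 a4 b4 a5 a6 b6 a7 0 b8 * f4E m 0 0 b2 a3 a4 b4 a5 a6 b6 a7 0 b8 = 1) :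
    ConjS (twistedF4 K (2 ^ m)) (f4E m 0 0 b2 a3 a4 b4 a5 a6 b6 a7 0 b8) (f4x1 m 1) ∨
    ConjS (twistedF4 K (2 ^ m)) (f4E m 0 0 b2 a3 a4 b4 a5 a6 b6 a7 0 b8) (f4y8 m 0 1) := by
  have hθ8 : f4Theta K m b8 ≠ 0 := (map_ne_zero _).mpr h8
  have hθ82 : f4Theta K m b8 ^ 2 ≠ 0 := pow_ne_zero _ hθ8
  obtain ⟨s, hs⟩ := f4_solve1 a6 (f4Theta K m b8 ^ 2) hθ82
  obtain ⟨b2', a3', a4', b4', a5', b6', a7', e1⟩ := f4cj_2a m hθ b2 a3 a4 b4 a5 a6 b6 a7 b8 s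
  rw [hs] at e1
  have s1 : ConjS (twistedF4 K (2 ^ m)) (f4E m 0 0 b2 a3 a4 b4 a5 a6 b6 a7 0 b8)
      (f4E m 0 0 b2' a3' a4' b4' a5' 0 b6' a7' 0 b8) := ⟨_, f4E_mem_tw m _ _ _ _ _ _ _ _ _ _ _ _, e1⟩
  obtain ⟨p, hp⟩ := f4_solve1 a7' (f4Theta K m b8 ^ 2) hθ82
  obtain ⟨b2'', a3'', a4'', b4'', a5'', b6'', e2⟩ := f4cj_2b m hθ b2' a3' a4' b4' a5' b6' a7' b8 p
  rw [hp] at e2
  have s2 : ConjS (twistedF4 K (2 ^ m)) (f4E m 0 0 b2' a3' a4' b4' a5' 0 b6' a7' 0 b8)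
      (f4E m 0 0 b2'' a3'' a4'' b4'' a5'' 0 b6'' 0 0 b8) := ⟨_, f4E_mem_tw m _ _ _ _ _ _ _ _ _ _ _ _, e2⟩
  obtain ⟨r, hr⟩ := f4_solve2 m hθ a5'' (f4Theta K m b8 ^ 2) hθ82
  obtain ⟨b2x, a3x, a4x, b4x, b6x, e3⟩ := f4cj_2c m hθ b2'' a3'' a4'' b4'' a5'' b6'' b8 r
  rw [hr] at e3
  have s3 : ConjS (twistedF4 K (2 ^ m)) (f4E m 0 0 b2'' a3'' a4'' b4'' a5'' 0 b6'' 0 0 b8)
      (f4E m 0 0 b2x a3x a4x b4x 0 0 b6x 0 0 b8) := ⟨_, f4E_mem_tw m _ _ _ _ _ _ _ _ _ _ _ _, e3⟩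
  obtain ⟨s', hs'⟩ := f4_solve3 m hθ b6x b8 h8
  obtain ⟨b2y, a3y, a4y, b4y, e4⟩ := f4cj_2d m hθ b2x a3x a4x b4x b6x b8 s'
  rw [hs'] at e4
  have s4 : ConjS (twistedF4 K (2 ^ m)) (f4E m 0 0 b2x a3x a4x b4x 0 0 b6x 0 0 b8)
      (f4E m 0 0 b2y a3y a4y b4y 0 0 0 0 0 b8) := ⟨_, f4E_mem_tw m _ _ _ _ _ _ _ _ _ _ _ _, e4⟩
  have s1234 := s1.trans (s2.trans (s3.trans s4))
  have hsq2 := s1234.sq hsq
  have e5 := f4sq_II m hθ b2y a3y a4y b4y b8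
  rw [hsq2] at e5
  obtain ⟨_, _, _, _, _, c6, c7, _, c9, _⟩ := f4E_eq_one m hK _ _ _ _ _ _ _ _ _ _ _ _ e5.symm
  have hb2 : b2y = 0 := by
    rcases mul_eq_zero.mp c7 with h | h
    · exact (map_eq_zero _).mp ((pow_eq_zero_iff two_ne_zero).mp h)
    · exact absurd h hθ82
  subst hb2
  have ha3 : a3y = 0 := by
    rw [zero_mul, add_zero] at c9
    rcases mul_eq_zero.mp c9 with h | h
    · exact (map_eq_zero _).mp h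
    · exact absurd h h8
  subst ha3
  have ha4 : a4y = 0 := by
    rw [map_zero, zero_pow two_ne_zero, zero_mul, add_zero] at c6
    exact f4_mul_th_eq_zero m a4y c6
  subst ha4
  have s5 : ConjS (twistedF4 K (2 ^ m)) (f4E m 0 0 0 0 0 b4y 0 0 0 0 0 b8) (f4E m 0 0 b8 0 0 0 0 0 b4y 0 0 0) := by
    refine ⟨fN1 K, fN1_mem_tw m, ?_⟩
    rw [f4E_48, ← f4ch_W1 m hθ b8 b4y, ← f4E_s6, ← f4E_s2, ← f4_n1_y4 m 0 b4y, ← f4_n1_y8 m 0 b8]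
    group
  rcases f4_R4a m hθ hK b8 0 0 0 b4y h8 with h | h
  · exact Or.inl (s1234.trans (s5.trans h))
  · exact Or.inr (s1234.trans (s5.trans h))

/-- the third case: `a₁ = a₈ = b₈ = 0` -/
theorem f4_R3 (a2 b2 a3 a4 b4 a5 a6 b6 a7 : K)
    (hsq : f4E m 0 a2 b2 a3 a4 b4 a5 a6 b6 a7 0 0 * f4E m 0 a2 b2 a3 a4 b4 a5 a6 b6 a7 0 0 = 1)
    (hne : f4E m 0 a2 b2 a3 a4 b4 a5 a6 b6 a7 0 0 ≠ 1) :
    ConjS (twistedF4 K (2 ^ m)) (f4E m 0 a2 b2 a3 a4 b4 a5 a6 b6 a7 0 0) (f4x1 m 1) ∨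
    ConjS (twistedF4 K (2 ^ m)) (f4E m 0 a2 b2 a3 a4 b4 a5 a6 b6 a7 0 0) (f4y8 m 0 1) := by
  obtain ⟨a3x, b4x, a5x, b6x, e1⟩ := f4sq_D m hθ a2 b2 a3 a4 b4 a5 a6 b6 a7
  rw [hsq] at e1
  obtain ⟨_, _, c3, _⟩ := f4E_eq_one m hK _ _ _ _ _ _ _ _ _ _ _ _ e1.symm
  have ha2 : a2 = 0 := f4_mul_th_eq_zero m a2 c3
  subst ha2
  have e2 := f4sq_D2 m hθ b2 a3 a4 b4 a5 a6 b6 a7
  rw [hsq] at e2
  obtain ⟨_, _, _, _, _, c6, c7, _, c9, _⟩ := f4E_eq_one m hK _ _ _ _ _ _ _ _ _ _ _ _ e2.symm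
  have ha4 : a4 = 0 := by
    by_contra h4
    have ha6 : a6 = 0 := (mul_eq_zero.mp c7).resolve_left h4
    rw [ha6, zero_mul, add_zero] at c9
    have ha7 : a7 = 0 := by
      rcases mul_eq_zero.mp c9 with h | h
      · exact absurd ((map_eq_zero _).mp h) h4
      · exact (map_eq_zero _).mp h
    simp only [ha6, ha7, map_zero, mul_zero, zero_mul, zero_add, add_zero] at c6
    exact h4 (f4_mul_th_eq_zero m a4 c6)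
  subst ha4
  have ha6 : a6 = 0 := by
    rw [map_zero, zero_mul, zero_add] at c9
    exact f4_mul_th_eq_zero m a6 c9
  subst ha6
  rw [map_zero, mul_zero, zero_mul, zero_add, zero_add] at c6
  by_cases h7 : a7 = 0
  · subst h7
    exact f4_R4 m hθ hK b2 a3 b4 a5 b6 hne
  · have hb2 : b2 = 0 := by
      rcases mul_eq_zero.mp c6 with h | h
      · exact absurd ((map_eq_zero _).mp h) h7
      · exact h
    subst hb2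
    left
    have s1 : ConjS (twistedF4 K (2 ^ m)) (f4E m 0 0 0 a3 0 b4 a5 0 b6 a7 0 0) (f4E m a7 0 b6 a5 0 b4 a3 0 0 0 0 0) := by
      refine ⟨fN2 K, fN2_mem_tw m, ?_⟩
      rw [f4E_34567]
      have e : fN2 K * (f4x3 m a3 * f4y4 m 0 b4 * f4x5 m a5 * f4y6 m 0 b6 * f4x7 m a7) * (fN2 K)⁻¹ =
          (fN2 K * f4x3 m a3 * (fN2 K)⁻¹) * (fN2 K * f4y4 m 0 b4 * (fN2 K)⁻¹) * (fN2 K * f4x5 m a5 * (fN2 K)⁻¹) *
          (fN2 K * f4y6 m 0 b6 * (fN2 K)⁻¹) * (fN2 K * f4x7 m a7 * (fN2 K)⁻¹) := by group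
      rw [e, f4_n8_x3, f4_n8_y4, f4_n8_x5, f4_n8_y6, f4_n8_x7, f4E_s5, f4E_s4, f4E_s3, f4E_s2, f4E_s1,
        f4ch_W2 m hθ]
    exact s1.trans ((f4_R1b m hθ a7 b6 a5 b4 a3 h7).trans (f4_torus_x1 m hθ hK a7 h7))

/-- every involution of `U¹` is conjugate to one of two elements -/
theorem f4_inv_conj (a1 a2 b2 a3 a4 b4 a5 a6 b6 a7 a8 b8 : K)
    (hsq : f4E m a1 a2 b2 a3 a4 b4 a5 a6 b6 a7 a8 b8 * f4E m a1 a2 b2 a3 a4 b4 a5 a6 b6 a7 a8 b8 = 1)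
    (hne : f4E m a1 a2 b2 a3 a4 b4 a5 a6 b6 a7 a8 b8 ≠ 1) :
    ConjS (twistedF4 K (2 ^ m)) (f4E m a1 a2 b2 a3 a4 b4 a5 a6 b6 a7 a8 b8) (f4x1 m 1) ∨
    ConjS (twistedF4 K (2 ^ m)) (f4E m a1 a2 b2 a3 a4 b4 a5 a6 b6 a7 a8 b8) (f4y8 m 0 1) := by
  obtain ⟨_, _, _, _, _, _, _, _, _, e1⟩ := f4sq_A m hθ a1 a2 b2 a3 a4 b4 a5 a6 b6 a7 a8 b8
  rw [hsq] at e1
  obtain ⟨_, _, _, _, _, _, _, _, _, _, _, c12⟩ := f4E_eq_one m hK _ _ _ _ _ _ _ _ _ _ _ _ e1.symm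
  have ha8 : a8 = 0 := f4_mul_th_eq_zero m a8 c12
  subst ha8
  obtain ⟨_, _, _, _, _, _, e2⟩ := f4sq_B m hθ a1 a2 b2 a3 a4 b4 a5 a6 b6 a7 b8
  rw [hsq] at e2
  obtain ⟨_, _, _, _, _, _, _, c8, _, c10, _⟩ := f4E_eq_one m hK _ _ _ _ _ _ _ _ _ _ _ _ e2.symm
  by_cases h8 : b8 = 0
  · subst h8
    by_cases h1 : a1 = 0
    · subst h1
      exact f4_R3 m hθ hK a2 b2 a3 a4 b4 a5 a6 b6 a7 hsq hne
    · exact Or.inl (f4_R1 m hθ hK a1 a2 b2 a3 a4 b4 a5 a6 b6 a7 h1 hsq)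
  · have hθ8 : f4Theta K m b8 ≠ 0 := (map_ne_zero _).mpr h8
    have hθ82 : f4Theta K m b8 ^ 2 ≠ 0 := pow_ne_zero _ hθ8
    have h1 : a1 = 0 := (mul_eq_zero.mp c8).resolve_right hθ82
    subst h1
    rw [zero_mul, zero_add] at c10
    have h2 : a2 = 0 := (mul_eq_zero.mp c10).resolve_right hθ82
    subst h2
    exact f4_R2 m hθ hK b2 a3 a4 b4 a5 a6 b6 a7 b8 h8 hsq

end F4

end Cfsg.Agent.Lib.H29.Chev
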