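import Mathlib
import Cfsg.Prelude.Def_ChevStructure
import Cfsg.Prelude.Def_LieTwisted
import Cfsg.Agent.Lib.H29.F4Inv11

/-!
# The large Ree groups: every involution is conjugate to one of two elements
-/

set_option autoImplicit false
set_option linter.unusedSectionVars false
set_option linter.unusedSimpArgs false
set_option linter.unusedVariables false

namespace Cfsg.Agent.Lib.H29.Chev

open Cfsg.Lie Matrix

section F4

variable {K : Type*} [Field K] [Fintype K] [CharP K 2]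

theorem card_f4_Usub (m : ℕ) (hK : Fintype.card K = 2 ^ (2 * m + 1)) :
    Nat.card ↥((chevF4.posUnipotent K).subgroupOf (twistedF4 K (2 ^ m))) = (2 ^ (2 * m + 1)) ^ 12 := by
  rw [← Subgroup.inf_subgroupOf_right, Nat.card_congr (Subgroup.subgroupOfEquivOfLe inf_le_right).toEquiv]
  exact card_f4_U m hK

theorem f4_Usub_pgroup (m : ℕ) (hK : Fintype.card K = 2 ^ (2 * m + 1)) :
    IsPGroup 2 ↥((chevF4.posUnipotent K).subgroupOf (twistedF4 K (2 ^ m))) := by
  apply IsPGroup.of_card (n := (2 * m + 1) * 12)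
  rw [card_f4_Usub m hK, ← pow_mul]

theorem f4_Usub_index (m : ℕ) (hK : Fintype.card K = 2 ^ (2 * m + 1)) :
    ¬ 2 ∣ ((chevF4.posUnipotent K).subgroupOf (twistedF4 K (2 ^ m))).index := by
  have h1 := Subgroup.card_mul_index ((chevF4.posUnipotent K).subgroupOf (twistedF4 K (2 ^ m)))
  rw [card_f4_Usub m hK, card_f4 m hK] at h1
  have hq1 : 1 ≤ 2 ^ (2 * m + 1) := Nat.one_le_two_pow
  have hq2 : 2 ∣ 2 ^ (2 * m + 1) := dvd_pow_self 2 (by omega)
  generalize 2 ^ (2 * m + 1) = q at h1 hq1 hq2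
  have hpos : 0 < q ^ 12 := Nat.pos_of_ne_zero (pow_ne_zero _ (by omega))
  have h2 : ((chevF4.posUnipotent K).subgroupOf (twistedF4 K (2 ^ m))).index =
      (q - 1) * (q ^ 3 + 1) * (q ^ 4 - 1) * (q ^ 6 + 1) := by
    apply Nat.eq_of_mul_eq_mul_left hpos
    rw [h1]; ring
  rw [h2]
  have p2 := Nat.prime_two
  intro hd
  rcases (Nat.Prime.dvd_mul p2).mp hd with hd | hd
  · rcases (Nat.Prime.dvd_mul p2).mp hd with hd | hd
    · rcases (Nat.Prime.dvd_mul p2).mp hd with hd | hd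
      · have := not_dvd_pow_sub_one (le_refl 2) hq2 hq1 1 (le_refl 1)
        rw [pow_one] at this
        exact this hd
      · exact not_dvd_pow_add_one (le_refl 2) hq2 3 (by norm_num) hd
    · exact not_dvd_pow_sub_one (le_refl 2) hq2 hq1 4 (by norm_num) hd
  · exact not_dvd_pow_add_one (le_refl 2) hq2 6 (by norm_num) hd

/-- every involution of the large Ree group is conjugate to `x₁(1)` or to `z₈(1)` -/
theorem f4_involution_conj (m : ℕ) (hK : Fintype.card K = 2 ^ (2 * m + 1))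
    (g : GL chevF4.Idx K) (hg : g ∈ twistedF4 K (2 ^ m)) (hg2 : g * g = 1) (hg1 : g ≠ 1) :
    ConjS (twistedF4 K (2 ^ m)) g (pU m 1) ∨ ConjS (twistedF4 K (2 ^ m)) g (cU m 0 1) := by
  have hp : Fact (Nat.Prime 2) := ⟨Nat.prime_two⟩
  have hθ := f4_theta_theta_sq (K := K) m hK
  have hfin : Finite ↥(twistedF4 K (2 ^ m)) := inferInstance
  obtain ⟨x, hx⟩ := exists_conj_mem_of_sylow 2 ((chevF4.posUnipotent K).subgroupOf (twistedF4 K (2 ^ m)))
    (f4_Usub_pgroup m hK) (f4_Usub_index m hK) ⟨g, hg⟩ 1 (by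
      apply Subtype.ext
      rw [pow_one, sq]
      exact hg2)
  rw [Subgroup.mem_subgroupOf] at hx
  have hxU : x.1 * g * x.1⁻¹ ∈ chevF4.posUnipotent K := hx
  have hxG : x.1 * g * x.1⁻¹ ∈ twistedF4 K (2 ^ m) := mul_mem (mul_mem x.2 hg) (inv_mem x.2)
  obtain ⟨a1, a2, b2, a3, a4, b4, a5, a6, b6, a7, a8, b8, heq⟩ := f4_normal m hK _
    (Subgroup.mem_inf.mpr ⟨twistedF4_le_fix m hK hxG, hxU⟩)
  have s0 : ConjS (twistedF4 K (2 ^ m)) g (f4E m a1 a2 b2 a3 a4 b4 a5 a6 b6 a7 a8 b8) := ⟨x.1, x.2, heq⟩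
  have hsq := s0.sq hg2
  have hne : f4E m a1 a2 b2 a3 a4 b4 a5 a6 b6 a7 a8 b8 ≠ 1 := by
    rw [← heq]
    intro h
    apply hg1
    have : g = x.1⁻¹ * (x.1 * g * x.1⁻¹) * x.1 := by group
    rw [this, h]
    group
  rcases f4_inv_conj m hθ hK a1 a2 b2 a3 a4 b4 a5 a6 b6 a7 a8 b8 hsq hne with h | h
  · exact Or.inl (s0.trans h)
  · exact Or.inr (s0.trans h)

end F4

end Cfsg.Agent.Lib.H29.Chev
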