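import Mathlib
import Cfsg.Prelude.Def_ChevStructure
import Cfsg.Prelude.Def_LieTwisted
import Cfsg.Agent.Lib.H29.F4Inv12

/-!
# The large Ree groups: the two classes of involutions are different
-/

set_option autoImplicit false
set_option linter.unusedSectionVars false
set_option linter.unusedSimpArgs false
set_option linter.unusedVariables false

namespace Cfsg.Agent.Lib.H29.Chev

open Cfsg.Lie Matrix

theorem f4_ht33 : fdF4.ht fxF4 33 = 1 := by decide +kernel

theorem f4_ht_pos : ∀ s < 48, 24 ≤ s → 1 ≤ fdF4.ht fxF4 s := by decide +kernel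

theorem f4_commT_44 : ∀ s < 48, 30 ≤ s → s ≠ 44 → fdF4.commT s 44 = [] := by
  decide +kernel

theorem f4_commT_44b : fdF4.commT 24 44 = [] ∧ fdF4.commT 25 44 = [] ∧ fdF4.commT 26 44 = [] := by decide +kernel

theorem f4_commT_44a : fdF4.commT 27 44 = [(45, 2, 1, 1)] ∧ fdF4.commT 28 44 = [(46, 2, 1, 1)] ∧
    fdF4.commT 29 44 = [(47, 2, 1, 1)] := by decide +kernel

theorem f4_commT_47 : ∀ s < 48, 24 ≤ s → s ≠ 47 → fdF4.commT s 47 = [] := by decide +kernel

theorem tF4_ne33 : ∀ a < 16, tF4 a 44 ≠ 33 ∧ tF4 a 47 ≠ 33 := by decide +kernel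

section F4

variable {K : Type*} [Field K]

/-- the elements of `U` are of level `1` -/
theorem f4_pos_mem_GF (u : GL chevF4.Idx K) (hu : u ∈ chevF4.posUnipotent K) :
    ((u : GL chevF4.Idx K) : Matrix chevF4.Idx chevF4.Idx K) ∈ GF chevF4 K (fdF4.wtA fxF4 chevF4 hwt) 1 := by
  have hn : fdF4.n = 48 := rfl
  unfold ChevalleyDatum.posUnipotent at hu
  induction hu using Subgroup.closure_induction'' with
  | mem x hx =>
    obtain ⟨s, t, hs, hg⟩ := hx
    obtain ⟨hs1, hs2⟩ := (cert12_F4.c6.isPos_iff s).mp hs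
    have hgx : x = fX s t := gl_ext (by rw [hg, cert12_F4.c6.c2.xA_val])
    rw [hgx]
    rw [hn] at hs1 hs2
    exact cert12_F4.xA_mem_GF s (by rw [hn]; exact hs1) 1 one_pos (f4_ht_pos s hs1 (by omega)) t
  | inv_mem x hx =>
    obtain ⟨s, t, hs, hg⟩ := hx
    obtain ⟨hs1, hs2⟩ := (cert12_F4.c6.isPos_iff s).mp hs
    have hgx : x = fX s t := gl_ext (by rw [hg, cert12_F4.c6.c2.xA_val])
    rw [hgx, cert12_F4.c6.c2.xA_inv]
    rw [hn] at hs1 hs2
    exact cert12_F4.xA_mem_GF s (by rw [hn]; exact hs1) 1 one_pos (f4_ht_pos s hs1 (by omega)) _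
  | one =>
    rw [Units.val_one]
    exact GF_one _ _
  | mul x y _ _ hx hy =>
    rw [Units.val_mul]
    exact GF_mul _ 1 one_pos _ _ hx hy

/-- the coordinate at the short fundamental root `33` is invariant under conjugation by `U` -/
theorem f4_coord_conj (u y : GL chevF4.Idx K)
    (hu : u ∈ chevF4.posUnipotent K) (hy : y ∈ chevF4.posUnipotent K) :
    coordM chevF4 fdF4 fzF4 K 33 ((u⁻¹ * y * u : GL chevF4.Idx K) : Matrix chevF4.Idx chevF4.Idx K) =
      coordM chevF4 fdF4 fzF4 K 33 (y : Matrix chevF4.Idx chevF4.Idx K) := by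
  have hn : fdF4.n = 48 := rfl
  have h1 := f4_pos_mem_GF u hu
  have h2 := f4_pos_mem_GF y hy
  have h3 := f4_pos_mem_GF u⁻¹ (inv_mem hu)
  have h4 := GF_mul _ 1 one_pos _ _ h3 h2
  have e0 : coordM chevF4 fdF4 fzF4 K 33 (((u⁻¹ * u : GL chevF4.Idx K)) : Matrix chevF4.Idx chevF4.Idx K) = 0 := by
    rw [inv_mul_cancel, Units.val_one]
    exact coordM_one 33 (by rw [cert12_F4.c6.c2.nroots_eq, hn]; norm_num)
  rw [Units.val_mul, cert12_F4.coordM_mul 1 one_pos 33 (by rw [hn]; norm_num) f4_ht33 _ _ h3 h1] at e0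
  rw [Units.val_mul, Units.val_mul, cert12_F4.coordM_mul 1 one_pos 33 (by rw [hn]; norm_num) f4_ht33 _ _ h4 h1,
    cert12_F4.coordM_mul 1 one_pos 33 (by rw [hn]; norm_num) f4_ht33 _ _ h3 h2]
  linear_combination e0

variable [CharP K 2]

/-- the element `z₄(1)` is central in `U` -/
theorem f4_central (m : ℕ) (v : GL chevF4.Idx K) (hv : v ∈ chevF4.posUnipotent K) :
    v * f4y4 m 0 1 * v⁻¹ = f4y4 m 0 (1 : K) := by
  have hn : fdF4.n = 48 := rfl
  have e : f4y4 m 0 (1 : K) = fX 44 1 * fX 47 1 := by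
    unfold f4y4 clsEl
    rw [map_zero, map_one, mul_zero, zero_add, one_pow]
    show fX 29 0 * fX 41 0 * fX 44 1 * fX 47 1 = _
    unfold fX
    rw [cert12_F4.c6.c2.xA_zero, cert12_F4.c6.c2.xA_zero, one_mul, one_mul]
  have h1 : chevF4.posUnipotent K ≤ Subgroup.centralizer {f4y4 m 0 (1 : K)} := by
    unfold ChevalleyDatum.posUnipotent
    rw [Subgroup.closure_le]
    rintro g ⟨s, t', hs, hg⟩
    obtain ⟨hs1, hs2⟩ := (cert12_F4.c6.isPos_iff s).mp hs
    have hgx : g = fX s t' := gl_ext (by rw [hg, cert12_F4.c6.c2.xA_val])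
    rw [SetLike.mem_coe, Subgroup.mem_centralizer_iff]
    intro y hy
    rw [Set.mem_singleton_iff] at hy
    subst hy
    rw [hgx, e]
    rw [hn] at hs1 hs2
    have c44 : Commute (fX s t') (fX 44 (1 : K)) := by
      by_cases h44 : s = 44
      · subst h44
        show fX 44 t' * fX 44 1 = fX 44 1 * fX 44 t'
        rw [fX_mul, fX_mul, add_comm]
      · by_cases h27 : s = 27
        · subst h27
          exact fX_comm_two 27 44 45 2 (by norm_num) (by norm_num) (by norm_num) (by norm_num) (Or.inl rfl)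
            f4_commT_44a.1 t' 1
        · by_cases h28 : s = 28
          · subst h28
            exact fX_comm_two 28 44 46 2 (by norm_num) (by norm_num) (by norm_num) (by norm_num) (Or.inl rfl)
              f4_commT_44a.2.1 t' 1
          · by_cases h29 : s = 29
            · subst h29
              exact fX_comm_two 29 44 47 2 (by norm_num) (by norm_num) (by norm_num) (by norm_num) (Or.inl rfl)
                f4_commT_44a.2.2 t' 1
            · by_cases h30 : 30 ≤ s
              · exact fX_comm_nil s 44 hs1 (by norm_num) (Ne.symm h44) (by omega)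
                  (f4_commT_44 s hs1 h30 h44) t' 1
              · have h24 : 24 ≤ s := by omega
                have h26 : s ≤ 26 := by omega
                interval_cases s
                · exact fX_comm_nil 24 44 (by norm_num) (by norm_num) (by norm_num) (by norm_num) f4_commT_44b.1 t' 1
                · exact fX_comm_nil 25 44 (by norm_num) (by norm_num) (by norm_num) (by norm_num) f4_commT_44b.2.1 t' 1
                · exact fX_comm_nil 26 44 (by norm_num) (by norm_num) (by norm_num) (by norm_num) f4_commT_44b.2.2 t' 1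
    have c47 : Commute (fX s t') (fX 47 (1 : K)) := by
      by_cases h47 : s = 47
      · subst h47
        show fX 47 t' * fX 47 1 = fX 47 1 * fX 47 t'
        rw [fX_mul, fX_mul, add_comm]
      · exact fX_comm_nil s 47 hs1 (by norm_num) (Ne.symm h47) (by omega) (f4_commT_47 s hs1 (by omega) h47) t' 1
    exact ((c44.mul_right c47).eq).symm
  have h2 := Subgroup.mem_centralizer_iff.mp (h1 hv) _ (Set.mem_singleton _)
  rw [← h2]
  group

theorem fX_mem_neg (r : ℕ) (h1 : r < 24) (t : K) : fX r t ∈ chevF4.negUnipotent K := by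
  have hn : fdF4.n = 48 := rfl
  show cert12_F4.c6.c2.xA r t ∈ _
  rw [cert12_F4.c6.c2.xA_of_lt r (by rw [hn]; omega)]
  exact cert12_F4.c6.c2.xG_mem_neg r _ (by rw [hn]; omega) t

theorem f4y4_01 (m : ℕ) : f4y4 m 0 (1 : K) = fX 44 1 * fX 47 1 := by
  unfold f4y4 clsEl
  rw [map_zero, map_one, mul_zero, zero_add, one_pow]
  show fX 29 0 * fX 41 0 * fX 44 1 * fX 47 1 = _
  unfold fX
  rw [cert12_F4.c6.c2.xA_zero, cert12_F4.c6.c2.xA_zero, one_mul, one_mul]

variable [Fintype K]

/-- the central involution `z₄(1)` is not conjugate to `x₁(1)` -/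
theorem f4_not_conj (m : ℕ) (hK : Fintype.card K = 2 ^ (2 * m + 1)) :
    ¬ ConjS (twistedF4 K (2 ^ m)) (f4y4 m 0 (1 : K)) (f4x1 m 1) := by
  rintro ⟨x, hxT, hx⟩
  have hn : fdF4.n = 48 := rfl
  obtain ⟨u, hu, n, hn', u', hu', rfl⟩ := f4_fix_canon m x (twistedF4_le_fix m hK hxT)
  obtain ⟨huf, huU⟩ := Subgroup.mem_inf.mp hu
  obtain ⟨hnf, hnN⟩ := Subgroup.mem_inf.mp hn'
  obtain ⟨hu'f, hu'w⟩ := Subgroup.mem_inf.mp hu'
  have hu'U : u' ∈ chevF4.posUnipotent K := Uw_le_pos _ hu'w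
  obtain ⟨a, ha, hπ⟩ := f4_perm_exists m hK n hnN hnf
  obtain ⟨h44, _, c, hc⟩ := hπ 44 (by rw [hn]; norm_num)
  obtain ⟨h47, _, c', hc'⟩ := hπ 47 (by rw [hn]; norm_num)
  rw [hn] at h44 h47
  have hx1U : f4x1 m (1 : K) ∈ chevF4.posUnipotent K := by
    unfold f4x1 pairEl
    exact mul_mem (fX_mem_pos 33 (by norm_num) (by norm_num) _) (fX_mem_pos 24 (by norm_num) (by norm_num) _)
  have key : fX (tF4 a 44) (c * 1) * fX (tF4 a 47) (c' * 1) = u⁻¹ * f4x1 m 1 * u := by
    have hc1 : n * fX 44 1 * n⁻¹ = fX (tF4 a 44) (c * 1) := hc 1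
    have hc1' : n * fX 47 1 * n⁻¹ = fX (tF4 a 47) (c' * 1) := hc' 1
    rw [← hx, ← hc1, ← hc1']
    have e1 : u * n * u' * f4y4 m 0 1 * (u * n * u')⁻¹ = u * (n * (u' * f4y4 m 0 1 * u'⁻¹) * n⁻¹) * u⁻¹ := by group
    rw [e1, f4_central m u' hu'U, f4y4_01]
    group
  have hRU : u⁻¹ * f4x1 m 1 * u ∈ chevF4.posUnipotent K := mul_mem (mul_mem (inv_mem huU) hx1U) huU
  rcases tF4_union a ha [29, 41, 44, 47] (by decide) with hneg | hpos
  · have h1 := hneg 44 (by decide)
    have h2 := hneg 47 (by decide)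
    have hL : fX (tF4 a 44) (c * 1) * fX (tF4 a 47) (c' * 1) ∈ chevF4.negUnipotent K :=
      mul_mem (fX_mem_neg _ h1 _) (fX_mem_neg _ h2 _)
    rw [key] at hL
    have hUB : chevF4.posUnipotent K ≤ chevF4.borelSubgroup K := le_sup_left
    have hbot : u⁻¹ * f4x1 m 1 * u ∈ chevF4.borelSubgroup K ⊓ chevF4.negUnipotent K :=
      Subgroup.mem_inf.mpr ⟨hUB hRU, hL⟩
    rw [cert12_F4.c6.c2.borel_inf_neg, Subgroup.mem_bot] at hbot
    apply pU_one_ne (K := K) m
    have : f4x1 m (1 : K) = u * (u⁻¹ * f4x1 m 1 * u) * u⁻¹ := by group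
    rw [show pU m (1 : K) = f4x1 m 1 from rfl, this, hbot]
    group
  · have h1 := hpos 44 (by decide)
    have h2 := hpos 47 (by decide)
    have k := congrArg (fun g : GL chevF4.Idx K => coordM chevF4 fdF4 fzF4 K 33
      (g : Matrix chevF4.Idx chevF4.Idx K)) key
    beta_reduce at k
    have g1 := cert12_F4.xA_mem_GF (F := K) (tF4 a 44) (by rw [hn]; exact h44) 1 one_pos
      (f4_ht_pos _ h44 (by omega)) (c * 1)
    have g2 := cert12_F4.xA_mem_GF (F := K) (tF4 a 47) (by rw [hn]; exact h47) 1 one_pos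
      (f4_ht_pos _ h47 (by omega)) (c' * 1)
    have g3 := cert12_F4.xA_mem_GF (F := K) 33 (by rw [hn]; norm_num) 1 one_pos
      (f4_ht_pos _ (by norm_num) (by norm_num)) (f4Theta K m 1)
    have g4 := cert12_F4.xA_mem_GF (F := K) 24 (by rw [hn]; norm_num) 1 one_pos
      (f4_ht_pos _ (by norm_num) (by norm_num)) (1 : K)
    rw [Units.val_mul, cert12_F4.coordM_mul 1 one_pos 33 (by rw [hn]; norm_num) f4_ht33 _ _ g1 g2,
      cert12_F4.coordM_xA _ _ (by rw [hn]; exact h44) (by rw [hn]; norm_num),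
      cert12_F4.coordM_xA _ _ (by rw [hn]; exact h47) (by rw [hn]; norm_num),
      if_neg (tF4_ne33 a ha).1, if_neg (tF4_ne33 a ha).2, f4_coord_conj u _ huU hx1U] at k
    unfold f4x1 pairEl at k
    rw [Units.val_mul, cert12_F4.coordM_mul 1 one_pos 33 (by rw [hn]; norm_num) f4_ht33 _ _ g3 g4,
      cert12_F4.coordM_xA _ _ (by rw [hn]; norm_num) (by rw [hn]; norm_num),
      cert12_F4.coordM_xA _ _ (by rw [hn]; norm_num) (by rw [hn]; norm_num),
      if_pos rfl, if_neg (by norm_num), map_one, add_zero, add_zero] at k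
    exact zero_ne_one k

/-- the two representatives of the classes of involutions are not conjugate -/
theorem f4_classes_ne (m : ℕ) (hK : Fintype.card K = 2 ^ (2 * m + 1)) :
    ¬ ConjS (twistedF4 K (2 ^ m)) (pU m (1 : K)) (cU m 0 1) := by
  intro h
  exact f4_not_conj m hK ((f4_w_y4 m 0 1).trans h.symm)

end F4

end Cfsg.Agent.Lib.H29.Chev
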