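import Mathlib
import Cfsg.Prelude.Def_ChevStructure
import Cfsg.Prelude.Def_LieTwisted
import Cfsg.Agent.Lib.H29.F4Inv13

/-!
# The large Ree groups have two classes of involutions
-/

set_option autoImplicit false
set_option linter.unusedSectionVars false
set_option linter.unusedSimpArgs false
set_option linter.unusedVariables false

namespace Cfsg.Agent.Lib.H29.Chev

open Cfsg.Lie Matrix

section F4

variable {K : Type*} [Field K] [CharP K 2]

theorem pU_one_sq (m : ℕ) : pU m (1 : K) * pU m 1 = 1 := by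
  rw [pU_one]
  have h := (fX_33_24 (1 : K) 1).eq
  calc fX 33 1 * fX 24 1 * (fX 33 1 * fX 24 1) = fX 33 1 * (fX 24 1 * fX 33 1) * fX 24 (1 : K) := by group
    _ = fX 33 1 * (fX 33 1 * fX 24 1) * fX 24 (1 : K) := by rw [h]
    _ = (fX 33 1 * fX 33 1) * (fX 24 1 * fX 24 (1 : K)) := by group
    _ = 1 := by
      rw [fX_mul, fX_mul, CharTwo.add_self_eq_zero]
      unfold fX
      rw [cert12_F4.c6.c2.xA_zero, cert12_F4.c6.c2.xA_zero, one_mul]

theorem cU_zero_one_sq (m : ℕ) : cU m (0 : K) 1 * cU m 0 1 = 1 := by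
  rw [cU_zero_one]
  have h := (fX_28_30 (1 : K) 1).eq
  calc fX 28 1 * fX 30 1 * (fX 28 1 * fX 30 1) = fX 28 1 * (fX 30 1 * fX 28 1) * fX 30 (1 : K) := by group
    _ = fX 28 1 * (fX 28 1 * fX 30 1) * fX 30 (1 : K) := by rw [h]
    _ = (fX 28 1 * fX 28 1) * (fX 30 1 * fX 30 (1 : K)) := by group
    _ = 1 := by
      rw [fX_mul, fX_mul, CharTwo.add_self_eq_zero]
      unfold fX
      rw [cert12_F4.c6.c2.xA_zero, cert12_F4.c6.c2.xA_zero, one_mul]

variable [Fintype K]

theorem f4_two_classes (m : ℕ) (hK : Fintype.card K = 2 ^ (2 * m + 1)) :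
    (ConjClasses.mk '' {g : ↥(twistedF4 K (2 ^ m)) | orderOf g = 2}).ncard = 2 := by
  have hp : Fact (Nat.Prime 2) := ⟨Nat.prime_two⟩
  have mL : pU m (1 : K) ∈ twistedF4 K (2 ^ m) := pU_mem_tw m 1
  have mS : cU m (0 : K) 1 ∈ twistedF4 K (2 ^ m) := cU_mem_tw m 0 1
  have oL : orderOf (⟨pU m (1 : K), mL⟩ : ↥(twistedF4 K (2 ^ m))) = 2 := by
    apply orderOf_eq_prime
    · apply Subtype.ext
      rw [sq]
      exact pU_one_sq m
    · intro h
      exact pU_one_ne (K := K) m (congrArg Subtype.val h)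
  have oS : orderOf (⟨cU m (0 : K) 1, mS⟩ : ↥(twistedF4 K (2 ^ m))) = 2 := by
    apply orderOf_eq_prime
    · apply Subtype.ext
      rw [sq]
      exact cU_zero_one_sq m
    · intro h
      exact cU_zero_one_ne (K := K) m (congrArg Subtype.val h)
  have hne : ConjClasses.mk (⟨pU m (1 : K), mL⟩ : ↥(twistedF4 K (2 ^ m))) ≠
      ConjClasses.mk (⟨cU m (0 : K) 1, mS⟩ : ↥(twistedF4 K (2 ^ m))) := by
    intro h
    rw [ConjClasses.mk_eq_mk_iff_isConj, isConj_iff] at h
    obtain ⟨c, hc⟩ := h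
    apply f4_classes_ne (K := K) m hK
    refine ⟨c.1, c.2, ?_⟩
    have := congrArg Subtype.val hc
    simpa using this
  have key : ConjClasses.mk '' {g : ↥(twistedF4 K (2 ^ m)) | orderOf g = 2} =
      {ConjClasses.mk (⟨pU m (1 : K), mL⟩ : ↥(twistedF4 K (2 ^ m))),
        ConjClasses.mk (⟨cU m (0 : K) 1, mS⟩ : ↥(twistedF4 K (2 ^ m)))} := by
    apply Set.eq_of_subset_of_subset
    · rintro _ ⟨g, hg, rfl⟩
      have hg2 : g.1 * g.1 = 1 := by
        have : g ^ 2 = 1 := by
          have h := pow_orderOf_eq_one g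
          rw [show orderOf g = 2 from hg] at h
          exact h
        have h' := congrArg Subtype.val this
        rw [sq] at h'
        exact h'
      have hg1 : g.1 ≠ 1 := by
        intro h
        have : g = 1 := Subtype.ext h
        have hg' : orderOf g = 2 := hg
        rw [this, orderOf_one] at hg'
        norm_num at hg'
      rcases f4_involution_conj m hK g.1 g.2 hg2 hg1 with ⟨x, hx, hc⟩ | ⟨x, hx, hc⟩
      · left
        rw [ConjClasses.mk_eq_mk_iff_isConj, isConj_iff]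
        exact ⟨⟨x, hx⟩, Subtype.ext (by simpa using hc)⟩
      · right
        rw [Set.mem_singleton_iff, ConjClasses.mk_eq_mk_iff_isConj, isConj_iff]
        exact ⟨⟨x, hx⟩, Subtype.ext (by simpa using hc)⟩
    · rintro _ (rfl | rfl)
      · exact ⟨_, oL, rfl⟩
      · exact ⟨_, oS, rfl⟩
  rw [key, Set.ncard_pair hne]

end F4

end Cfsg.Agent.Lib.H29.Chev
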