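import Mathlib
import Cfsg.Prelude.Def_ChevStructure
import Cfsg.Prelude.Def_LieTwisted
import Cfsg.Agent.Lib.H29.F4Inv14

/-!
# The unipotent subgroup of the large Ree groups: two commuting classes (generated file)
-/

set_option autoImplicit false
set_option linter.unusedSectionVars false
set_option linter.unusedSimpArgs false
set_option linter.unusedVariables false
set_option linter.unusedTactic false
set_option linter.unreachableTactic false

namespace Cfsg.Agent.Lib.H29.Chev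

open Cfsg.Lie Matrix

section F4

variable {K : Type*} [Field K] [CharP K 2] (m : ℕ)

local notation "θ" => f4Theta K m

variable (hθ : ∀ x : K, f4Theta K m (f4Theta K m x) ^ 2 = x)
include hθ

set_option maxHeartbeats 8000000 in
theorem f4ch_C21 (a t u : K) :
    f4E m 0 t u 0 0 0 0 0 0 0 0 0 * f4E m a 0 0 0 0 0 0 0 0 0 0 0 = f4E m a t u 0 0 0 0 0 0 0 0 0 := by
  rw [f4E_split m (f4E m 0 t u 0 0 0 0 0 0 0 0 0) a 0 0 0 0 0 0 0 0 0 0 0, f4E_mul_1 m hθ, f4E_mul_2 m hθ, f4E_mul_3 m hθ, f4E_mul_4 m hθ, f4E_mul_5 m hθ, f4E_mul_6 m hθ, f4E_mul_7 m hθ, f4E_mul_8 m hθ]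
  rw [show f4E m _ _ _ _ _ _ _ _ _ _ _ _ = f4E m a t u 0 0 0 0 0 0 0 0 0 from by
    apply f4E_congr <;> (try simp only [map_add, map_mul, map_pow, map_zero, map_one, hθ, f4_th4 m hθ, f4_th6 m hθ, f4_th8 m hθ]) <;>
      first | rfl | ring1 | (ring_nf; (try simp only [hθ, f4_th4 m hθ, f4_th6 m hθ, f4_th8 m hθ]); (try ring_nf); (try simp only [c2_2, c2_3, c2_4, c2_5, c2_6, c2_7, c2_8, c2_9, c2_10, c2_11, c2_12, neg_eq_self_F, mul_zero, mul_one, add_zero, zero_add]); try ring1)]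

end F4

end Cfsg.Agent.Lib.H29.Chev
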