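import Mathlib
import Cfsg.Prelude.Def_ChevStructure
import Cfsg.Prelude.Def_LieTwisted
import Cfsg.Agent.Lib.H29.F4Inv15

/-!
# The large Ree groups: the involutions, as elements of the group
-/

set_option autoImplicit false
set_option linter.unusedSectionVars false
set_option linter.unusedSimpArgs false
set_option linter.unusedVariables false

namespace Cfsg.Agent.Lib.H29.Chev

open Cfsg.Lie Matrix

section F4

variable {K : Type*} [Field K] [CharP K 2]

/-- the elements of the first two classes of `U¹` commute -/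
theorem f4_y2_x1_comm (m : ℕ) (hθ : ∀ x : K, f4Theta K m (f4Theta K m x) ^ 2 = x) (a t u : K) :
    f4y2 m t u * f4x1 m a * (f4y2 m t u)⁻¹ = f4x1 m a := by
  have h : f4y2 m t u * f4x1 m a = f4x1 m a * f4y2 m t u := by
    rw [← f4E_12 m a t u, ← f4ch_C21 m hθ a t u, ← f4E_s2, ← f4E_s1]
  rw [h]
  group

variable [Fintype K]

theorem f4_orderOf_pU (m : ℕ) :
    orderOf (⟨pU m (1 : K), pU_mem_tw m 1⟩ : ↥(twistedF4 K (2 ^ m))) = 2 := by
  have hp : Fact (Nat.Prime 2) := ⟨Nat.prime_two⟩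
  apply orderOf_eq_prime
  · apply Subtype.ext
    rw [sq]
    exact pU_one_sq m
  · intro h
    exact pU_one_ne (K := K) m (congrArg Subtype.val h)

theorem f4_orderOf_cU (m : ℕ) :
    orderOf (⟨cU m (0 : K) 1, cU_mem_tw m 0 1⟩ : ↥(twistedF4 K (2 ^ m))) = 2 := by
  have hp : Fact (Nat.Prime 2) := ⟨Nat.prime_two⟩
  apply orderOf_eq_prime
  · apply Subtype.ext
    rw [sq]
    exact cU_zero_one_sq m
  · intro h
    exact cU_zero_one_ne (K := K) m (congrArg Subtype.val h)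

theorem f4_involution_conj_sub (m : ℕ) (hK : Fintype.card K = 2 ^ (2 * m + 1)) (g : ↥(twistedF4 K (2 ^ m)))
    (hg : orderOf g = 2) :
    (∃ x : ↥(twistedF4 K (2 ^ m)), x * g * x⁻¹ = ⟨cU m (0 : K) 1, cU_mem_tw m 0 1⟩) ∨
    (∃ x : ↥(twistedF4 K (2 ^ m)), x * g * x⁻¹ = ⟨pU m (1 : K), pU_mem_tw m 1⟩) := by
  have hg2 : g.1 * g.1 = 1 := by
    have : g ^ 2 = 1 := by
      have h := pow_orderOf_eq_one g
      rw [hg] at h
      exact h
    have h' := congrArg Subtype.val this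
    rw [sq] at h'
    exact h'
  have hg1 : g.1 ≠ 1 := by
    intro h
    have : g = 1 := Subtype.ext h
    rw [this, orderOf_one] at hg
    norm_num at hg
  rcases f4_involution_conj m hK g.1 g.2 hg2 hg1 with ⟨x, hx, hc⟩ | ⟨x, hx, hc⟩
  · right
    exact ⟨⟨x, hx⟩, Subtype.ext (by simpa using hc)⟩
  · left
    exact ⟨⟨x, hx⟩, Subtype.ext (by simpa using hc)⟩

theorem f4_classes_ne_sub (m : ℕ) (hK : Fintype.card K = 2 ^ (2 * m + 1)) :
    ¬ ∃ x : ↥(twistedF4 K (2 ^ m)), x * ⟨cU m (0 : K) 1, cU_mem_tw m 0 1⟩ * x⁻¹ = ⟨pU m (1 : K), pU_mem_tw m 1⟩ := by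
  rintro ⟨x, hx⟩
  apply f4_classes_ne (K := K) m hK
  have h : ConjS (twistedF4 K (2 ^ m)) (cU m (0 : K) 1) (pU m 1) := by
    refine ⟨x.1, x.2, ?_⟩
    have := congrArg Subtype.val hx
    simpa using this
  exact h.symm

end F4

end Cfsg.Agent.Lib.H29.Chev
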