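import Mathlib
import Cfsg.Prelude.Def_LieChev
import Cfsg.Agent.Lib.H29.ChevCert13
import Cfsg.Agent.Lib.H29.ChevSmithData

/-!
# The orders of the diagonal subgroups of the seven Chevalley data
-/

set_option autoImplicit false

namespace Cfsg.Agent.Lib.H29.Chev

open Cfsg.Lie

variable {F : Type*} [Field F] [Finite F]

theorem card_diag_G2 : Nat.card (chevG2.diagonalSubgroup F) = (Nat.card F - 1) ^ 2 := by
  have h := cert12_G2.card_diag_smith (F := F) fsG2 fdG2_ChkSmith
  have hl : fdG2.l = 2 := rfl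
  rw [hl] at h
  simpa [Finset.prod_range_succ, fsG2] using h

theorem card_diag_F4 : Nat.card (chevF4.diagonalSubgroup F) = (Nat.card F - 1) ^ 4 := by
  have h := cert12_F4.card_diag_smith (F := F) fsF4 fdF4_ChkSmith
  have hl : fdF4.l = 4 := rfl
  rw [hl] at h
  simpa [Finset.prod_range_succ, fsF4] using h

theorem card_diag_E8 : Nat.card (chevE8.diagonalSubgroup F) = (Nat.card F - 1) ^ 8 := by
  have h := cert12_E8.card_diag_smith (F := F) fsE8 fdE8_ChkSmith
  have hl : fdE8.l = 8 := rfl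
  rw [hl] at h
  simpa [Finset.prod_range_succ, fsE8] using h

theorem card_diag_E6 : Nat.gcd 3 (Nat.card F - 1) * Nat.card (chevE6.diagonalSubgroup F) = (Nat.card F - 1) ^ 6 := by
  have h := cert12_E6.card_diag_smith (F := F) fsE6 fdE6_ChkSmith
  have hl : fdE6.l = 6 := rfl
  rw [hl] at h
  rw [Nat.gcd_comm]
  simpa [Finset.prod_range_succ, fsE6] using h

theorem card_diag_E7 : Nat.gcd 2 (Nat.card F - 1) * Nat.card (chevE7.diagonalSubgroup F) = (Nat.card F - 1) ^ 7 := by
  have h := cert12_E7.card_diag_smith (F := F) fsE7 fdE7_ChkSmith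
  have hl : fdE7.l = 7 := rfl
  rw [hl] at h
  rw [Nat.gcd_comm]
  simpa [Finset.prod_range_succ, fsE7] using h

theorem card_diag_B2 : Nat.gcd 2 (Nat.card F - 1) * Nat.card (chevB2.diagonalSubgroup F) = (Nat.card F - 1) ^ 2 := by
  have h := cert12_B2.card_diag_smith (F := F) fsB2 fdB2_ChkSmith
  have hl : fdB2.l = 2 := rfl
  rw [hl] at h
  rw [Nat.gcd_comm]
  simpa [Finset.prod_range_succ, fsB2] using h

theorem card_diag_D4 :
    Nat.gcd 2 (Nat.card F - 1) ^ 2 * Nat.card (chevD4.diagonalSubgroup F) = (Nat.card F - 1) ^ 4 := by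
  have h := cert12_D4.card_diag_smith (F := F) fsD4 fdD4_ChkSmith
  have hl : fdD4.l = 4 := rfl
  rw [hl] at h
  rw [Nat.gcd_comm, sq]
  simpa [Finset.prod_range_succ, fsD4] using h

end Cfsg.Agent.Lib.H29.Chev
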