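import Mathlib

/-!
# WEIL-W9 (helper29, for helper20's S2347 farm-out)

A non-trivial complex representation of a finite group all of whose proper sub- and quotient
representations of smaller dimension are trivial is irreducible.
-/

set_option autoImplicit false

namespace Cfsg.Agent.Lib.H29.Weil

open Module

theorem isIrreducible_of_min {G : Type*} [Group G] [Finite G] {V : Type*} [AddCommGroup V] [Module ℂ V]
    [FiniteDimensional ℂ V] (ρ : Representation ℂ G V) (hne : ∃ g, ρ g ≠ 1)
    (hmin : ∀ (U : Submodule ℂ V) (σ : G →* Module.End ℂ U), (∃ g, σ g ≠ 1) →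
      Module.finrank ℂ V ≤ Module.finrank ℂ U)
    (hminq : ∀ (U : Submodule ℂ V) (σ : G →* Module.End ℂ (V ⧸ U)), (∃ g, σ g ≠ 1) →
      Module.finrank ℂ V ≤ Module.finrank ℂ (V ⧸ U)) :
    ρ.IsIrreducible := by
  classical
  obtain ⟨g0, hg0⟩ := hne
  have hV : Nontrivial V := by
    by_contra h
    rw [not_nontrivial_iff_subsingleton] at h
    exact hg0 (LinearMap.ext fun v => Subsingleton.elim _ _)
  have key : ∀ W : Subrepresentation ρ, W.toSubmodule = ⊥ ∨ W.toSubmodule = ⊤ := by
    intro W
    by_contra hcon
    obtain ⟨hb, ht⟩ := not_or.1 hcon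
    have hlt : finrank ℂ W.toSubmodule < finrank ℂ V := Submodule.finrank_lt ht
    have hpos : 0 < finrank ℂ W.toSubmodule := by
      rw [Nat.pos_iff_ne_zero]
      intro h0
      exact hb (Submodule.finrank_eq_zero.1 h0)
    have hq : finrank ℂ (V ⧸ W.toSubmodule) < finrank ℂ V := by
      have := Submodule.finrank_quotient_add_finrank W.toSubmodule
      omega
    -- `G` acts trivially on `U`
    have hU : ∀ g, ∀ u ∈ W.toSubmodule, ρ g u = u := by
      intro g u hu
      by_contra hne
      have h3 := hmin W.toSubmodule W.toRepresentation ⟨g, fun h1 => hne ?_⟩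
      · omega
      · have h2 := congrArg (fun T : Module.End ℂ W.toSubmodule => ((T ⟨u, hu⟩ : W.toSubmodule) : V)) h1
        exact h2
    -- `G` acts trivially on `V ⧸ U`
    have hle : ∀ g, W.toSubmodule ≤ W.toSubmodule.comap (ρ g) :=
      fun g u hu => W.apply_mem_toSubmodule g hu
    have hQ : ∀ g v, ρ g v - v ∈ W.toSubmodule := by
      intro g v
      by_contra hne
      have h3 := hminq W.toSubmodule (ρ.quotient W.toSubmodule hle) ⟨g, fun h1 => hne ?_⟩
      · omega
      · have h2 := congrArg (fun T : Module.End ℂ (V ⧸ W.toSubmodule) =>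
          T (Submodule.Quotient.mk v)) h1
        simp only [Representation.quotient_apply, Submodule.mapQ_apply, Module.End.one_apply] at h2
        exact (Submodule.Quotient.eq W.toSubmodule).1 h2
    have hpow : ∀ k : ℕ, ∀ v, ρ (g0 ^ k) v = v + k • (ρ g0 v - v) := by
      intro k
      induction k with
      | zero => intro v; simp
      | succ k ih =>
        intro v
        rw [pow_succ, map_mul, Module.End.mul_apply, ih]
        have h1 : ρ g0 (ρ g0 v) - ρ g0 v = ρ g0 v - v := by
          rw [← map_sub]
          exact hU g0 _ (hQ g0 v)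
        rw [h1, succ_nsmul]
        abel
    have hfin : ρ g0 = 1 := by
      have hk := orderOf_pos g0
      apply LinearMap.ext
      intro v
      have h1 := hpow (orderOf g0) v
      rw [pow_orderOf_eq_one, map_one, Module.End.one_apply] at h1
      have h2 : (orderOf g0 : ℕ) • (ρ g0 v - v) = 0 := add_eq_left.1 h1.symm
      rw [← Nat.cast_smul_eq_nsmul ℂ, smul_eq_zero] at h2
      rcases h2 with h2 | h2
      · exact absurd (by exact_mod_cast h2) hk.ne'
      · rw [Module.End.one_apply]
        exact sub_eq_zero.1 h2
    exact hg0 hfin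
  have : Nontrivial (Subrepresentation ρ) := by
    refine ⟨⟨⊥, ⊤, fun h => ?_⟩⟩
    have h1 : (⊥ : Subrepresentation ρ).toSubmodule = (⊤ : Subrepresentation ρ).toSubmodule := by
      rw [h]
    exact bot_ne_top (α := Submodule ℂ V) h1
  refine ⟨fun W => ?_⟩
  rcases key W with h | h
  · left
    exact Subrepresentation.toSubmodule_injective h
  · right
    exact Subrepresentation.toSubmodule_injective h

end Cfsg.Agent.Lib.H29.Weil
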