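import Mathlib
import Cfsg.Prelude.Def_ChevStructure
import Cfsg.Agent.Lib.H29.ChevInvG2c

/-!
# The classes of involutions of the group of type `G₂` in characteristic two
-/

set_option autoImplicit false
set_option linter.unusedSectionVars false
set_option linter.unusedSimpArgs false
set_option linter.unusedVariables false

namespace Cfsg.Agent.Lib.H29.Chev

open Cfsg.Lie Matrix

section G2

variable {F : Type*} [Field F]

local notation "xg" => cert12_G2.c6.c2.xA

/-- the coefficient of a conjugate of a root element by a monomial element does not vanish -/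
theorem g2_perm_coef (n : GL chevG2.Idx F) (π : ℕ → ℕ) (hπ : cert12_G2.c6.c2.Perm n π) (s : ℕ) (hs : s < 12) :
    ∃ c : F, c ≠ 0 ∧ ∀ t, n * xg s t * n⁻¹ = xg (π s) (c * t) := by
  have hn := g2_n
  obtain ⟨_, _, c, hc⟩ := hπ s (by omega)
  refine ⟨c, ?_, hc⟩
  intro h0
  have := hc 1
  rw [h0, zero_mul, cert12_G2.c6.c2.xA_zero] at this
  have e : xg s (1 : F) = 1 := by
    have e2 : xg s (1 : F) = n⁻¹ * (n * xg s 1 * n⁻¹) * n := by group
    rw [e2, this]
    group
  exact one_ne_zero (cert12_G2.c6.xA_eq_one s (by omega) _ e)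

set_option maxRecDepth 100000 in
theorem g2_word_data : fdG2.wordP fxG2 [0] 6 = 10 ∧ fdG2.wordP fxG2 [0] 9 = 8 ∧
    fdG2.wordP fxG2 [1, 0] 6 = 11 ∧ fdG2.wordP fxG2 [1] 10 = 11 ∧ fdG2.wordP fxG2 [0, 1] 7 = 9 ∧
    fdG2.wordP fxG2 [0] 8 = 9 ∧
    (∀ i < fdG2.l, fdG2.carZ i 11 = if i = 1 then 1 else 0) ∧ (∀ i < fdG2.l, fdG2.carZ i 9 = if i = 0 then 1 else 0) := by
  decide +kernel

/-- conjugating a root element by the element of `N` of a word -/
theorem g2_conj_word (w : List ℕ) (hw : IsWd fdG2.l w) (s : ℕ) (hs : s < 12) (t : F) (ht : t ≠ 0) :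
    ∃ c : F, c ≠ 0 ∧ ConjG chevG2 F (xg s t) (xg (fdG2.wordP fxG2 w s) c) := by
  obtain ⟨c, hc, h⟩ := g2_perm_coef (cert12_G2.wordN F w) _ (cert12_G2.perm_wordN w hw) s hs
  exact ⟨c * t, mul_ne_zero hc ht, cert12_G2.wordN F w,
    cert12_G2.c6.c2.monomial_le_group (cert12_G2.wordN_mem w), h t⟩

/-- scaling a root element by a diagonal element -/
theorem g2_conj_diag (r i₀ : ℕ) (hr : r < 12) (hi₀ : i₀ < fdG2.l)
    (hcar : ∀ i < fdG2.l, fdG2.carZ i r = if i = i₀ then 1 else 0) (t : F) (ht : t ≠ 0) :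
    ConjG chevG2 F (xg r t) (xg r 1) := by
  classical
  have hn := g2_n
  let u : Fˣ := (Units.mk0 t ht)⁻¹
  let x : Fin fdG2.l → Fˣ := Pi.mulSingle ⟨i₀, hi₀⟩ u
  have hmem : chiHom chevG2 fdG2 F x ∈ chevG2.diagonalSubgroup F := by
    rw [cert12_G2.diag_eq_range]
    exact ⟨x, rfl⟩
  refine ⟨chiHom chevG2 fdG2 F x, cert12_G2.c6.c2.diag_le_group hmem, ?_⟩
  rw [cert12_G2.diag_conj_xA _ hmem r (by omega), cert12_G2.dE_chiHom x r (by omega)]
  congr 1
  rw [Finset.prod_eq_single ⟨i₀, hi₀⟩]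
  · rw [hcar i₀ hi₀, if_pos rfl, zpow_one]
    simp only [x, Pi.mulSingle_eq_same, u]
    rw [Units.val_inv_eq_inv_val, Units.val_mk0, inv_mul_cancel₀ ht]
  · intro j _ hj
    have : j.val ≠ i₀ := fun e => hj (Fin.ext e)
    rw [hcar j.val j.isLt, if_neg this, zpow_zero]
  · intro h; exact absurd (Finset.mem_univ _) h

/-- the root elements are conjugate to `x_11(1)` or to `x_9(1)` -/
theorem g2_root_conj (r : ℕ) (hr1 : 6 ≤ r) (hr2 : r < 12) (t : F) (ht : t ≠ 0) :
    ConjG chevG2 F (xg r t) (xg 11 1) ∨ ConjG chevG2 F (xg r t) (xg 9 1) := by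
  have hl := g2_l
  obtain ⟨w1, w2, w3, w4, w5, w6, c11, c9⟩ := g2_word_data
  have key : ∀ (w : List ℕ) (hw : IsWd fdG2.l w) (tgt i₀ : ℕ), tgt < 12 → i₀ < fdG2.l →
      (∀ i < fdG2.l, fdG2.carZ i tgt = if i = i₀ then 1 else 0) → fdG2.wordP fxG2 w r = tgt →
      ConjG chevG2 F (xg r t) (xg tgt 1) := by
    intro w hw tgt i₀ htgt hi₀ hcar he
    obtain ⟨c, hc, h1⟩ := g2_conj_word w hw r hr2 t ht
    rw [he] at h1
    exact h1.trans (g2_conj_diag tgt i₀ htgt hi₀ hcar c hc)
  interval_cases r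
  · exact Or.inl (key [1, 0] (by intro i hi; simp at hi; omega) 11 1 (by omega) (by omega) c11 w3)
  · exact Or.inr (key [0, 1] (by intro i hi; simp at hi; omega) 9 0 (by omega) (by omega) c9 w5)
  · exact Or.inr (key [0] (by intro i hi; simp at hi; omega) 9 0 (by omega) (by omega) c9 w6)
  · exact Or.inr (key [] (by intro i hi; simp at hi) 9 0 (by omega) (by omega) c9 rfl)
  · exact Or.inl (key [1] (by intro i hi; simp at hi; omega) 11 1 (by omega) (by omega) c11 w4)
  · exact Or.inl (key [] (by intro i hi; simp at hi) 11 1 (by omega) (by omega) c11 rfl)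

variable [CharP F 2]

/-- the involutions with a component at the root `b` -/
theorem g2_case6 [Finite F] (a c d e f : F) (ha : a ≠ 0) (h3 : c * d + a * e = 0) :
    ∃ r, 6 ≤ r ∧ r < 12 ∧ ∃ t : F, t ≠ 0 ∧ ConjG chevG2 F (g2E a 0 c d e f) (xg r t) := by
  obtain ⟨z, hz⟩ : ∃ z, a * z = c := ⟨c / a, by field_simp⟩
  have h5 : z * d + e = 0 := by
    apply mul_left_cancel₀ ha
    linear_combination h3 + d * hz
  have s1 : ConjG chevG2 F (g2E a 0 c d e f)
      (g2E a 0 0 (a * z ^ 2 + d) 0 (z * (a * z + c) ^ 2 + c * a * z ^ 2 + f)) := by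
    apply conjG_xg 7 z
    rw [g2_cj7]
    apply g2E_eq
    · rfl
    · rfl
    · have := add_self_F c
      linear_combination hz + this
    · rfl
    · have := add_self_F c
      linear_combination h5 + z ^ 2 * this + z ^ 2 * hz
    · ring
  generalize a * z ^ 2 + d = d' at s1
  generalize z * (a * z + c) ^ 2 + c * a * z ^ 2 + f = f' at s1
  obtain ⟨w, hw⟩ : ∃ w, a * w = f' := ⟨f' / a, by field_simp⟩
  have s2 : ConjG chevG2 F (g2E a 0 0 d' 0 f') (g2E a 0 0 d' 0 0) := by
    apply conjG_xg 10 w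
    rw [g2_cj10]
    apply g2E_eq
    · rfl
    · rfl
    · rfl
    · rfl
    · rfl
    · have := add_self_F f'
      linear_combination hw + this
  by_cases hd' : d' = 0
  · subst hd'
    refine ⟨6, by omega, by omega, a, ha, ?_⟩
    rw [← g2E_root6]
    exact s1.trans s2
  · -- conjugate by the reflection in `a`
    obtain ⟨w1, w2, _⟩ := g2_word_data
    have hwd : IsWd fdG2.l [0] := by intro i hi; simp at hi; rw [g2_l]; omega
    have hπ := cert12_G2.perm_wordN (F := F) [0] hwd
    obtain ⟨c1, hc1, k1⟩ := g2_perm_coef (cert12_G2.wordN F [0]) _ hπ 6 (by omega)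
    obtain ⟨c2, hc2, k2⟩ := g2_perm_coef (cert12_G2.wordN F [0]) _ hπ 9 (by omega)
    have k1' : ∀ t : F, cert12_G2.wordN F [0] * xg 6 t * (cert12_G2.wordN F [0])⁻¹ = xg 10 (c1 * t) :=
      fun t => (k1 t).trans (congrArg (fun s => xg s (c1 * t)) w1)
    have k2' : ∀ t : F, cert12_G2.wordN F [0] * xg 9 t * (cert12_G2.wordN F [0])⁻¹ = xg 8 (c2 * t) :=
      fun t => (k2 t).trans (congrArg (fun s => xg s (c2 * t)) w2)
    have s3 : ConjG chevG2 F (g2E a 0 0 d' 0 0) (g2E 0 0 (c2 * d') 0 (c1 * a) 0) := by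
      refine ⟨cert12_G2.wordN F [0], cert12_G2.c6.c2.monomial_le_group (cert12_G2.wordN_mem [0]), ?_⟩
      have e : g2E a 0 0 d' 0 0 = xg 6 a * xg 9 d' := by simp [g2E, cert12_G2.c6.c2.xA_zero]
      have e' : g2E 0 0 (c2 * d') 0 (c1 * a) 0 = xg 8 (c2 * d') * xg 10 (c1 * a) := by
        simp [g2E, cert12_G2.c6.c2.xA_zero]
      rw [e, e', ← sc8_10, ← k1', ← k2']
      group
    have s4 := g2_case8 (c2 * d') (c1 * a) 0 (mul_ne_zero hc2 hd')
    exact ⟨8, by omega, by omega, c2 * d', mul_ne_zero hc2 hd', ((s1.trans s2).trans s3).trans s4⟩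

/-- every involution of `U` is conjugate to a root element -/
theorem g2_inv_conj_root [Finite F] (a b c d e f : F) (hsq : g2E a b c d e f * g2E a b c d e f = 1)
    (hne : g2E a b c d e f ≠ 1) :
    ∃ r, 6 ≤ r ∧ r < 12 ∧ ∃ t : F, t ≠ 0 ∧ ConjG chevG2 F (g2E a b c d e f) (xg r t) := by
  obtain ⟨h1, h2, h3⟩ := g2E_sq_eq_one a b c d e f hsq
  by_cases hb : b = 0
  · subst hb
    by_cases ha : a = 0
    · subst ha
      by_cases hc : c = 0
      · subst hc
        by_cases hd : d = 0
        · subst hd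
          by_cases he : e = 0
          · subst he
            have hf : f ≠ 0 := by
              intro hf
              apply hne
              rw [hf, g2E_zero]
            exact ⟨11, by omega, by omega, f, hf, by rw [g2E_root11]; exact ConjG.refl _ _ _⟩
          · exact ⟨10, by omega, by omega, e, he, g2_case10 e f he⟩
        · exact ⟨9, by omega, by omega, d, hd, g2_case9 d e f hd⟩
      · have hd : d = 0 := by
          have : c * d = 0 := by linear_combination h3
          rcases mul_eq_zero.mp this with h | h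
          · exact absurd h hc
          · exact h
        subst hd
        exact ⟨8, by omega, by omega, c, hc, g2_case8 c e f hc⟩
    · exact g2_case6 a c d e f ha (by linear_combination h3)
  · have ha : a = 0 := by
      rcases mul_eq_zero.mp h1 with h | h
      · exact h
      · exact absurd h hb
    subst ha
    have hd : d = b * c := by
      rcases mul_eq_zero.mp h2 with h | h
      · exact absurd h hb
      · have := add_self_F (b * c)
        linear_combination h - this
    subst hd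
    exact ⟨7, by omega, by omega, b, hb, g2_case7 b c e f hb⟩

end G2

end Cfsg.Agent.Lib.H29.Chev
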