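import Mathlib
import Cfsg.Prelude.Def_ChevStructure
import Cfsg.Agent.Lib.H29.ChevInvG2d

/-!
# The two classes of involutions of the group of type `G₂` in characteristic two
-/

set_option autoImplicit false
set_option linter.unusedSectionVars false
set_option linter.unusedSimpArgs false
set_option linter.unusedVariables false

namespace Cfsg.Agent.Lib.H29.Chev

open Cfsg.Lie Matrix

section G2

variable {F : Type*} [Field F]

local notation "xg" => cert12_G2.c6.c2.xA

/-- the long roots of `G₂` -/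
def longG2' (s : ℕ) : Bool := s == 0 || s == 1 || s == 5 || s == 6 || s == 10 || s == 11

set_option maxRecDepth 100000 in
theorem g2_long_sw : ∀ i < fdG2.l, ∀ s < fdG2.n, longG2' s = true → longG2' (fdG2.sw fxG2 i s) = true := by
  decide +kernel

/-- a long root element is not conjugate to a short root element -/
theorem g2_not_conj : ¬ ConjG chevG2 F (xg 11 (1 : F)) (xg 9 1) := by
  rintro ⟨x, hxG, hx⟩
  have hn := g2_n
  obtain ⟨ht9, ht10, ht11⟩ := g2_ht
  obtain ⟨b, hb, n, hn', u, hu, rfl⟩ := cert12_G2.c6.canonical_form.1 x hxG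
  obtain ⟨u₀, hu₀, h, hh, rfl⟩ := cert12_G2.c6.c2.borel_mem b hb
  have huU := _root_.Cfsg.Agent.Lib.H29.Chev.Uw_le_pos n hu
  have hHN : chevG2.diagonalSubgroup F ≤ chevG2.monomialSubgroup F := le_sup_left
  have hm : h * n ∈ chevG2.monomialSubgroup F := mul_mem (hHN hh) hn'
  -- `u` commutes with `x_11(1)`
  have hUc : ∀ v ∈ chevG2.posUnipotent F, v * xg 11 (1 : F) * v⁻¹ = xg 11 1 := by
    intro v hv
    have h1 : v ∈ chevG2.group F ⊓ Subgroup.centralizer {xg 11 (1 : F)} := by
      rw [cent_G2l (xg 11 1) (cert12_G2.c6.c2.xA_val 11 1)]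
      exact (le_sup_left : chevG2.posUnipotent F ≤ _) hv
    have h2 := Subgroup.mem_centralizer_iff.mp (Subgroup.mem_inf.mp h1).2 _ (Set.mem_singleton _)
    rw [← h2]
    group
  obtain ⟨w, hw, hπw⟩ := (cert12_G2.perm_word (h * n) hm).1
  obtain ⟨c, hc, hcc⟩ := g2_perm_coef (h * n) _ hπw 11 (by omega)
  obtain ⟨mu, nu, hy⟩ := g2_conjQ u₀ hu₀ 1 0 0
  simp only [cert12_G2.c6.c2.xA_zero, mul_one] at hy
  have key : xg (fdG2.wordP fxG2 w 11) (c * 1) = xg 9 1 * xg 10 mu * xg 11 nu := by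
    rw [← hy, ← hx, ← hcc 1]
    have e : u₀ * h * n * u * xg 11 1 * (u₀ * h * n * u)⁻¹ =
        u₀ * (h * n * (u * xg 11 1 * u⁻¹) * (h * n)⁻¹) * u₀⁻¹ := by group
    rw [e, hUc u huU]
    group
  have hlong : longG2' (fdG2.wordP fxG2 w 11) = true :=
    cert12_G2.cls_wordP (fun s => longG2' s = true) g2_long_sw w hw 11 (by omega) (by decide)
  have hne : fdG2.wordP fxG2 w 11 ≠ 9 := by
    intro e
    rw [e] at hlong
    exact absurd hlong (by decide)
  have hlt := cert12_G2.wordP_lt w hw 11 (by omega)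
  have h1 := cert12_G2.coordM_xA (F := F) (fdG2.wordP fxG2 w 11) 9 hlt (by omega) (c * 1)
  rw [if_neg hne, key] at h1
  have h2 := (cert12_G2.coord_list_prod (F := F) 3 (by norm_num) 9 (by omega) ht9 [xg 9 1, xg 10 mu, xg 11 nu] (by
    intro y hy
    simp only [List.mem_cons, List.mem_nil_iff, or_false] at hy
    rcases hy with rfl | rfl | rfl
    · exact cert12_G2.xA_mem_GF 9 (by omega) 3 (by norm_num) (by rw [ht9]) _
    · exact cert12_G2.xA_mem_GF 10 (by omega) 3 (by norm_num) (by rw [ht10]; norm_num) _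
    · exact cert12_G2.xA_mem_GF 11 (by omega) 3 (by norm_num) (by rw [ht11]; norm_num) _)).2
  simp only [List.prod_cons, List.prod_nil, mul_one, List.map_cons, List.map_nil, List.sum_cons, List.sum_nil,
    add_zero] at h2
  rw [← mul_assoc, h1, cert12_G2.coordM_xA 9 9 (by omega) (by omega), cert12_G2.coordM_xA 10 9 (by omega) (by omega),
    cert12_G2.coordM_xA 11 9 (by omega) (by omega)] at h2
  simp at h2

variable [CharP F 2]

/-- every involution is conjugate to `x_11(1)` or to `x_9(1)` -/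
theorem g2_involution_conj [Finite F] (g : GL chevG2.Idx F) (hg : g ∈ chevG2.group F) (hg2 : g * g = 1)
    (hg1 : g ≠ 1) : ConjG chevG2 F g (xg 11 1) ∨ ConjG chevG2 F g (xg 9 1) := by
  have : Fact (Nat.Prime 2) := ⟨Nat.prime_two⟩
  obtain ⟨x, hx, hxU⟩ := g2_exists_conj_mem_pos 2 g hg 1 (by rw [pow_one, sq]; exact hg2)
  obtain ⟨a, b, c, d, e, f, hE⟩ := exists_g2E _ hxU
  have h0 : ConjG chevG2 F g (g2E a b c d e f) := ⟨x, hx, hE⟩
  have hsq : g2E a b c d e f * g2E a b c d e f = 1 := by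
    rw [← hE]
    have : x * g * x⁻¹ * (x * g * x⁻¹) = x * (g * g) * x⁻¹ := by group
    rw [this, hg2]
    group
  have hne : g2E a b c d e f ≠ 1 := by
    rw [← hE]
    intro h
    apply hg1
    have : g = x⁻¹ * (x * g * x⁻¹) * x := by group
    rw [this, h]
    group
  obtain ⟨r, hr1, hr2, t, ht, h1⟩ := g2_inv_conj_root a b c d e f hsq hne
  rcases g2_root_conj r hr1 hr2 t ht with h2 | h2
  · exact Or.inl ((h0.trans h1).trans h2)
  · exact Or.inr ((h0.trans h1).trans h2)

theorem g2_root_order (r : ℕ) (hr : r < 12) : orderOf (xg r (1 : F)) = 2 := by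
  have : Fact (Nat.Prime 2) := ⟨Nat.prime_two⟩
  apply orderOf_eq_prime
  · rw [sq, xg_sq]
  · intro h
    exact one_ne_zero (cert12_G2.c6.xA_eq_one r (by rw [g2_n]; exact hr) _ h)

end G2

end Cfsg.Agent.Lib.H29.Chev
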