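import Mathlib
import Cfsg.Prelude.Def_ChevStructure
import Cfsg.Agent.Lib.H29.ChevInvG2e
import Cfsg.Agent.Lib.H29.ChevCent2

/-!
# `G₂(F)`, characteristic not two: the involution `z = h_a(-1)` and its centraliser (Bruhat form)

`z` acts on the root vector `e_r` by `(-1)^{A_{a,r}}`; it centralises exactly the root subgroups of the roots
`±a = ±7` and `±(3a+2b) = ±11`.  An element of `G` commuting with `z` has the canonical form `u₁ m u₂` with
`u₁, u₂ ∈ X_7 X_11` and `m ∈ N` commuting with `z`.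
-/

set_option autoImplicit false
set_option linter.unusedSectionVars false
set_option linter.unusedSimpArgs false
set_option linter.unusedVariables false

namespace Cfsg.Agent.Lib.H29.G2Inv

open Cfsg.Lie Matrix Cfsg.Agent.Lib.H29.Chev

variable {F : Type*} [Field F]

local notation "xg" => cert12_G2.c6.c2.xA

/-- the parameters of `h_a(x) h_b(y)` -/
def tor (x y : Fˣ) : Fin fdG2.l → Fˣ := fun i => if i.val = 0 then x else y

/-- the torus element `h_a(x) h_b(y)` -/
noncomputable def hG (x y : Fˣ) : GL chevG2.Idx F := chiHom chevG2 fdG2 F (tor x y)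

theorem hG_mem_diag (x y : Fˣ) : hG x y ∈ chevG2.diagonalSubgroup F := by
  rw [cert12_G2.diag_eq_range]
  exact ⟨_, rfl⟩

theorem exists_hG (h : GL chevG2.Idx F) (hh : h ∈ chevG2.diagonalSubgroup F) : ∃ x y : Fˣ, h = hG x y := by
  rw [cert12_G2.diag_eq_range] at hh
  obtain ⟨f, rfl⟩ := hh
  have hl := g2_l
  refine ⟨f ⟨0, by omega⟩, f ⟨1, by omega⟩, ?_⟩
  unfold hG
  congr 1
  funext i
  rcases i with ⟨i, hi⟩
  have : i = 0 ∨ i = 1 := by omega
  rcases this with rfl | rfl <;> simp [tor]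

theorem hG_mul (x y x' y' : Fˣ) : hG x y * hG x' y' = (hG (x * x') (y * y') : GL chevG2.Idx F) := by
  unfold hG
  rw [← map_mul]
  congr 1
  funext i
  simp only [Pi.mul_apply, tor]
  split_ifs <;> rfl

theorem hG_one : (hG 1 1 : GL chevG2.Idx F) = 1 := by
  unfold hG
  have : tor (1 : Fˣ) 1 = 1 := by
    funext i
    simp only [tor, Pi.one_apply]
    split_ifs <;> rfl
  rw [this, map_one]

theorem hG_inv (x y : Fˣ) : (hG x y)⁻¹ = (hG x⁻¹ y⁻¹ : GL chevG2.Idx F) := by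
  apply inv_eq_of_mul_eq_one_right
  rw [hG_mul, mul_inv_cancel, mul_inv_cancel, hG_one]

theorem g2_carZ0 : ∀ r < 12, fdG2.carZ 0 r = [0, -3, -1, 1, -2, 3, -3, 2, -1, 1, 3, 0].getD r 0 := by
  decide +kernel

theorem g2_carZ1 : ∀ r < 12, fdG2.carZ 1 r = [-1, 1, 0, -1, 1, -2, 2, -1, 1, 0, -1, 1].getD r 0 := by
  decide +kernel

/-- the character values of a torus element `h_a(x) h_b(y)` -/
theorem dE_hG (x y : Fˣ) (r : ℕ) (hr : r < 12) :
    dE chevG2 (hG x y : GL chevG2.Idx F) r =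
      ((x ^ ([0, -3, -1, 1, -2, 3, -3, 2, -1, 1, 3, 0].getD r 0 : ℤ) *
        y ^ ([-1, 1, 0, -1, 1, -2, 2, -1, 1, 0, -1, 1].getD r 0 : ℤ) : Fˣ) : F) := by
  unfold hG
  rw [cert12_G2.dE_chiHom _ r (by rw [g2_n]; exact hr), ← g2_carZ0 r hr, ← g2_carZ1 r hr]
  congr 1
  have hl := g2_l
  have : (Finset.univ : Finset (Fin fdG2.l)) = {⟨0, by omega⟩, ⟨1, by omega⟩} := by
    ext i
    simp only [Finset.mem_univ, Finset.mem_insert, Finset.mem_singleton, true_iff]
    rcases i with ⟨i, hi⟩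
    have : i = 0 ∨ i = 1 := by omega
    rcases this with rfl | rfl
    · left; rfl
    · right; rfl
  rw [this, Finset.prod_insert, Finset.prod_singleton]
  · simp [tor]
  · simp only [Finset.mem_singleton]
    intro h
    have := congrArg Fin.val h
    simp at this

theorem hG_conj (x y : Fˣ) (r : ℕ) (hr : r < 12) (t : F) :
    hG x y * xg r t * (hG x y)⁻¹ = xg r (((x ^ ([0, -3, -1, 1, -2, 3, -3, 2, -1, 1, 3, 0].getD r 0 : ℤ) *
        y ^ ([-1, 1, 0, -1, 1, -2, 2, -1, 1, 0, -1, 1].getD r 0 : ℤ) : Fˣ) : F) * t) := by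
  rw [cert12_G2.diag_conj_xA _ (hG_mem_diag x y) r (by rw [g2_n]; exact hr), dE_hG x y r hr]

/-- the involution `h_a(-1)` -/
noncomputable def zG (F : Type*) [Field F] : GL chevG2.Idx F := hG (-1) 1

theorem zG_mem_diag : zG F ∈ chevG2.diagonalSubgroup F := hG_mem_diag _ _

theorem dE_zG (r : ℕ) (hr : r < 12) :
    dE chevG2 (zG F) r = if r = 0 ∨ r = 4 ∨ r = 7 ∨ r = 11 then 1 else -1 := by
  unfold zG
  rw [dE_hG _ _ r hr]
  interval_cases r <;> simp [_root_.zpow_neg, zpow_ofNat] <;> norm_num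

theorem zG_conj (r : ℕ) (hr : r < 12) (t : F) :
    zG F * xg r t * (zG F)⁻¹ = xg r ((if r = 0 ∨ r = 4 ∨ r = 7 ∨ r = 11 then 1 else -1) * t) := by
  rw [cert12_G2.diag_conj_xA _ zG_mem_diag r (by rw [g2_n]; exact hr), dE_zG r hr]

theorem zG_sq : zG F * zG F = 1 := by
  unfold zG
  rw [hG_mul]
  simp [hG_one]

theorem zG_inv : (zG F)⁻¹ = zG F := inv_eq_of_mul_eq_one_right zG_sq

theorem zG_comm (r : ℕ) (hr : r = 0 ∨ r = 4 ∨ r = 7 ∨ r = 11) (t : F) :
    zG F * xg r t = xg r t * zG F := by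
  have h12 : r < 12 := by rcases hr with rfl | rfl | rfl | rfl <;> norm_num
  have := zG_conj r h12 t
  rw [if_pos hr, one_mul] at this
  calc zG F * xg r t = zG F * xg r t * (zG F)⁻¹ * zG F := by group
    _ = xg r t * zG F := by rw [this]

end Cfsg.Agent.Lib.H29.G2Inv
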