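import Mathlib
import Cfsg.Prelude.Def_ChevStructure
import Cfsg.Agent.Lib.H29.G2InvA

/-!
# `G₂(F)`, characteristic not two: the Bruhat form of the elements commuting with `z = h_a(-1)`
-/

set_option autoImplicit false
set_option linter.unusedSectionVars false
set_option linter.unusedSimpArgs false
set_option linter.unusedVariables false

namespace Cfsg.Agent.Lib.H29.G2Inv

open Cfsg.Lie Matrix Cfsg.Agent.Lib.H29.Chev

variable {F : Type*} [Field F]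

local notation "xg" => cert12_G2.c6.c2.xA

theorem conj_mul' {G : Type*} [Group G] (z x y : G) : z * (x * y) * z⁻¹ = (z * x * z⁻¹) * (z * y * z⁻¹) := by
  group

theorem zG_conj_g2E (a b c d e f : F) :
    zG F * g2E a b c d e f * (zG F)⁻¹ = g2E (-a) b (-c) (-d) (-e) f := by
  unfold g2E
  rw [conj_mul', conj_mul', conj_mul', conj_mul', conj_mul', zG_conj 6 (by norm_num), zG_conj 7 (by norm_num),
    zG_conj 8 (by norm_num), zG_conj 9 (by norm_num), zG_conj 10 (by norm_num), zG_conj 11 (by norm_num)]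
  simp

/-- the elements of `U` commuting with `z` -/
theorem cent_zG_pos (h2 : (2 : F) ≠ 0) (u : GL chevG2.Idx F) (hu : u ∈ chevG2.posUnipotent F)
    (hc : zG F * u * (zG F)⁻¹ = u) : ∃ s t : F, u = xg 7 s * xg 11 t := by
  obtain ⟨a, b, c, d, e, f, rfl⟩ := exists_g2E u hu
  rw [zG_conj_g2E] at hc
  obtain ⟨ha, _, hc', hd, he, _⟩ := g2E_inj _ _ _ _ _ _ _ _ _ _ _ _ hc
  have z0 : ∀ x : F, -x = x → x = 0 := by
    intro x hx
    have : (2 : F) * x = 0 := by linear_combination -hx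
    rcases mul_eq_zero.mp this with h | h
    · exact absurd h h2
    · exact h
  rw [z0 a ha, z0 c hc', z0 d hd, z0 e he]
  refine ⟨b, f, ?_⟩
  simp [g2E, cert12_G2.c6.c2.xA_zero]

/-- `H` normalises `U_n⁻` -/
theorem diag_conj_Uw (k n u : GL chevG2.Idx F) (hk : k ∈ chevG2.diagonalSubgroup F) (hu : u ∈ Uw chevG2 F n) :
    k * u * k⁻¹ ∈ Uw chevG2 F n := by
  unfold Uw at hu
  induction hu using Subgroup.closure_induction with
  | mem x hx =>
    obtain ⟨r, t, hr, rfl⟩ := cert12_G2.c6.eq_xA_of_UwSet n x hx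
    rw [cert12_G2.diag_conj_xA k hk r hr.1]
    exact cert12_G2.c6.xA_mem_Uw n r hr _
  | one => simp
  | mul x y _ _ hx hy => rw [conj_mul']; exact mul_mem hx hy
  | inv x _ hx =>
    have : k * x⁻¹ * k⁻¹ = (k * x * k⁻¹)⁻¹ := by group
    rw [this]; exact inv_mem hx

/-- the Bruhat form of an element commuting with `z` -/
theorem cent_zG_form (h2 : (2 : F) ≠ 0) (g : GL chevG2.Idx F) (hg : g ∈ chevG2.group F)
    (hc : zG F * g = g * zG F) :
    ∃ s t s' t' : F, ∃ m ∈ chevG2.monomialSubgroup F, zG F * m = m * zG F ∧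
      g = xg 7 s * xg 11 t * m * (xg 7 s' * xg 11 t') := by
  have hzd := zG_mem_diag (F := F)
  obtain ⟨b, hb, n, hn, u, hu, rfl⟩ := cert12_G2.c6.canonical_form.1 g hg
  have hHN : chevG2.diagonalSubgroup F ≤ chevG2.monomialSubgroup F := le_sup_left
  -- `z n z⁻¹ = n k'`
  have hk' : n⁻¹ * (zG F * n * (zG F)⁻¹) ∈ chevG2.diagonalSubgroup F := by
    have h1 : n⁻¹ * zG F * n ∈ chevG2.diagonalSubgroup F := by
      have := (Subgroup.mem_normalizer_iff.mp (cert12_G2.c6.c2.monomial_le_normalizer_diag (inv_mem hn)) (zG F)).mp hzd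
      rwa [inv_inv] at this
    have : n⁻¹ * (zG F * n * (zG F)⁻¹) = n⁻¹ * zG F * n * (zG F)⁻¹ := by group
    rw [this]
    exact mul_mem h1 (inv_mem hzd)
  set k' := n⁻¹ * (zG F * n * (zG F)⁻¹) with hk'def
  have hk2 : n * k' * n⁻¹ ∈ chevG2.diagonalSubgroup F :=
    (Subgroup.mem_normalizer_iff.mp (cert12_G2.c6.c2.monomial_le_normalizer_diag hn) k').mp hk'
  have hzb : zG F * b * (zG F)⁻¹ ∈ chevG2.borelSubgroup F :=
    mul_mem (mul_mem (cert12_G2.c6.diag_le_borel hzd) hb) (inv_mem (cert12_G2.c6.diag_le_borel hzd))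
  set b' := zG F * b * (zG F)⁻¹ * (n * k' * n⁻¹) with hb'def
  have hb' : b' ∈ chevG2.borelSubgroup F := mul_mem hzb (cert12_G2.c6.diag_le_borel hk2)
  have hu' : zG F * u * (zG F)⁻¹ ∈ Uw chevG2 F n := diag_conj_Uw _ n u hzd hu
  have e1 : b' * n * (zG F * u * (zG F)⁻¹) = b * n * u := by
    have : b' * n * (zG F * u * (zG F)⁻¹) = zG F * (b * n * u) * (zG F)⁻¹ := by
      rw [hb'def, hk'def]; group
    rw [this, hc]; group
  obtain ⟨-, hun⟩ := cert12_G2.c6.canonical_form.2 b' b n n _ u hb' hb hn hn hu' hu e1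
  obtain ⟨e2, e3⟩ := hun rfl
  obtain ⟨u₁, hu₁, h₁, hh₁, rfl⟩ := cert12_G2.c6.c2.borel_mem b hb
  -- split
  have e4 : u₁⁻¹ * (zG F * u₁ * (zG F)⁻¹) = h₁ * (n * k' * n⁻¹)⁻¹ * h₁⁻¹ := by
    have e5 : zG F * h₁ * (zG F)⁻¹ = h₁ := by
      have := cert12_G2.c6.c2.diag_comm _ _ hzd hh₁
      rw [this]; group
    have e6 : zG F * (u₁ * h₁) * (zG F)⁻¹ = (zG F * u₁ * (zG F)⁻¹) * h₁ := by
      rw [conj_mul', e5]
    rw [hb'def, e6] at e2
    have : zG F * u₁ * (zG F)⁻¹ = u₁ * h₁ * (n * k' * n⁻¹)⁻¹ * h₁⁻¹ := by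
      rw [← e2]; group
    rw [this]; group
  have hzu₁ : zG F * u₁ * (zG F)⁻¹ ∈ chevG2.posUnipotent F :=
    (Subgroup.mem_normalizer_iff.mp (cert12_G2.c6.c2.diag_le_normalizer_pos hzd) u₁).mp hu₁
  have h5 : u₁⁻¹ * (zG F * u₁ * (zG F)⁻¹) ∈ chevG2.posUnipotent F ⊓ chevG2.diagonalSubgroup F :=
    Subgroup.mem_inf.mpr ⟨mul_mem (inv_mem hu₁) hzu₁, by
      rw [e4]; exact mul_mem (mul_mem hh₁ (inv_mem hk2)) (inv_mem hh₁)⟩
  rw [cert12_G2.c6.c2.pos_inf_diag, Subgroup.mem_bot] at h5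
  have e7 : zG F * u₁ * (zG F)⁻¹ = u₁ := by
    have : zG F * u₁ * (zG F)⁻¹ = u₁ * (u₁⁻¹ * (zG F * u₁ * (zG F)⁻¹)) := by group
    rw [this, h5, mul_one]
  have e8 : k' = 1 := by
    rw [h5] at e4
    have : (n * k' * n⁻¹)⁻¹ = 1 := by
      have : (n * k' * n⁻¹)⁻¹ = h₁⁻¹ * (h₁ * (n * k' * n⁻¹)⁻¹ * h₁⁻¹) * h₁ := by group
      rw [this, ← e4]; group
    have h9 : n * k' * n⁻¹ = 1 := inv_eq_one.mp this
    have : k' = n⁻¹ * (n * k' * n⁻¹) * n := by group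
    rw [this, h9]; group
  obtain ⟨s, t, rfl⟩ := cent_zG_pos h2 u₁ hu₁ e7
  obtain ⟨s', t', rfl⟩ := cent_zG_pos h2 u (Chev.Uw_le_pos n hu) e3
  refine ⟨s, t, s', t', h₁ * n, mul_mem (hHN hh₁) hn, ?_, by group⟩
  have e10 : zG F * n * (zG F)⁻¹ = n := by
    have : zG F * n * (zG F)⁻¹ = n * k' := by rw [hk'def]; group
    rw [this, e8, mul_one]
  have e11 : zG F * h₁ = h₁ * zG F := cert12_G2.c6.c2.diag_comm _ _ hzd hh₁
  calc zG F * (h₁ * n) = h₁ * (zG F * n * (zG F)⁻¹) * zG F := by rw [← mul_assoc, e11]; group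
    _ = h₁ * n * zG F := by rw [e10]

end Cfsg.Agent.Lib.H29.G2Inv
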