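import Mathlib
import Cfsg.Prelude.Def_ChevStructure
import Cfsg.Agent.Lib.H29.G2InvB
import Cfsg.Agent.Lib.H12.ChevSL2Hom

/-!
# `G₂(F)`: the rank one subgroups `⟨X_r, X_{-r}⟩` as images of `SL₂(F)`, and the torus elements `h_r(t)`
-/

set_option autoImplicit false
set_option linter.unusedSectionVars false
set_option linter.unusedSimpArgs false
set_option linter.unusedVariables false

namespace Cfsg.Agent.Lib.H29.G2Inv

open Cfsg.Lie Matrix Cfsg.Agent.Lib.H29.Chev Cfsg.Agent.Lib.H12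

variable {F : Type*} [Field F]

local notation "xg" => cert12_G2.c6.c2.xA
local notation "SL2" => Matrix.SpecialLinearGroup (Fin 2) F

theorem exists_phi (r : ℕ) (hr : r < 12) : ∃ φ : SL2 →* GL chevG2.Idx F,
    (∀ t, φ (StPresG.upM t) = xg r t) ∧ (∀ t, φ (StPresG.loM t) = xg (11 - r) t) := by
  have hn := g2_n
  have hr' : r < fdG2.n := by omega
  obtain ⟨φ, h1, h2⟩ := StPresG.exists_hom_of_relations (K := F)
    (fun t => xg r t) (fun t => xg (fdG2.n - 1 - r) t)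
    (fun t u => cert12_G2.c6.c2.xA_mul r t u) (fun t u => cert12_G2.c6.c2.xA_mul _ t u)
    (fun t u ht => ChevSL2.wG_conj_x cert12_G2.c6.c2 r hr' t u ht)
    (fun t u ht hu => ChevSL2.hG_mul cert12_G2.c6.c2 r hr' t u ht hu)
  refine ⟨φ, h1, fun t => ?_⟩
  rw [h2]
  have : fdG2.n - 1 - r = 11 - r := by omega
  simp only [this]

/-- the homomorphism `SL₂(F) → ⟨X_r, X_{-r}⟩` -/
noncomputable def phi (r : ℕ) : SL2 →* GL chevG2.Idx F :=
  if hr : r < 12 then Classical.choose (exists_phi (F := F) r hr) else 1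

theorem phi_up (r : ℕ) (hr : r < 12) (t : F) : phi r (StPresG.upM t) = xg r t := by
  unfold phi
  rw [dif_pos hr]
  exact (Classical.choose_spec (exists_phi (F := F) r hr)).1 t

theorem phi_lo (r : ℕ) (hr : r < 12) (t : F) : phi r (StPresG.loM t) = xg (11 - r) t := by
  unfold phi
  rw [dif_pos hr]
  exact (Classical.choose_spec (exists_phi (F := F) r hr)).2 t

theorem phi_mem_group (r : ℕ) (hr : r < 12) (X : SL2) : phi r X ∈ chevG2.group F := by
  have hX : X ∈ Subgroup.closure (Set.range (StPresG.upM (K := F)) ∪ Set.range (StPresG.loM (K := F))) := by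
    rw [StPresG.closure_up_lo]; trivial
  induction hX using Subgroup.closure_induction with
  | mem x hx =>
    rcases hx with ⟨t, rfl⟩ | ⟨t, rfl⟩
    · rw [phi_up r hr]; exact cert12_G2.c6.c2.xA_mem_group _ _
    · rw [phi_lo r hr]; exact cert12_G2.c6.c2.xA_mem_group _ _
  | one => rw [map_one]; exact one_mem _
  | mul x y _ _ hx hy => rw [map_mul]; exact mul_mem hx hy
  | inv x _ hx => rw [map_inv]; exact inv_mem hx

/-- two homomorphisms from `SL₂(F)` agreeing on the elementary matrices are equal -/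
theorem sl2_hom_ext {Γ : Type*} [Group Γ] (f g : SL2 →* Γ) (h1 : ∀ t, f (StPresG.upM t) = g (StPresG.upM t))
    (h2 : ∀ t, f (StPresG.loM t) = g (StPresG.loM t)) : f = g := by
  apply MonoidHom.eq_of_eqOn_dense (StPresG.closure_up_lo (K := F))
  rintro x (⟨t, rfl⟩ | ⟨t, rfl⟩)
  · exact h1 t
  · exact h2 t

theorem wM_eq (t : F) (ht : t ≠ 0) :
    StPresG.wM t ht = StPresG.upM t * StPresG.loM (-t⁻¹) * StPresG.upM t := by
  apply StPresG.sl2_ext <;>
    simp [Matrix.SpecialLinearGroup.coe_mul, Matrix.mul_apply, Fin.sum_univ_two, ht]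

theorem dgM_eq (t : F) (ht : t ≠ 0) :
    StPresG.dgM t ht = StPresG.wM t ht * StPresG.wM (-1) (neg_ne_zero.mpr one_ne_zero) := by
  apply StPresG.sl2_ext <;>
    simp [Matrix.SpecialLinearGroup.coe_mul, Matrix.mul_apply, Fin.sum_univ_two, ht]

theorem phi_wM (r : ℕ) (hr : r < 12) (t : F) (ht : t ≠ 0) :
    phi r (StPresG.wM t ht) = ChevSL2.wG cert12_G2.c6.c2 r t := by
  have hn := g2_n
  rw [wM_eq, map_mul, map_mul, phi_up r hr, phi_lo r hr]
  unfold ChevSL2.wG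
  have : fdG2.n - 1 - r = 11 - r := by omega
  rw [this]

theorem phi_dgM (r : ℕ) (hr : r < 12) (t : F) (ht : t ≠ 0) :
    phi r (StPresG.dgM t ht) = TdG (hExp chevG2 fdG2 fxG2 r) t ht := by
  have hn := g2_n
  rw [dgM_eq, map_mul, phi_wM r hr, phi_wM r hr,
    ChevSL2.wG_mul_wG_neg_one cert12_G2.c6.c2 r (by omega) t ht]

theorem phi_dgM_mem (r : ℕ) (hr : r < 12) (t : F) (ht : t ≠ 0) :
    phi r (StPresG.dgM t ht) ∈ chevG2.diagonalSubgroup F := by
  have hn := g2_n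
  rw [phi_dgM r hr]
  exact cert12_G2.c6.c2.TdG_mem r (by omega) t ht

theorem dE_phi_dgM (r s : ℕ) (hr : r < 12) (hs : s < 12) (t : F) (ht : t ≠ 0) :
    dE chevG2 (phi r (StPresG.dgM t ht)) s = t ^ (fdG2.pr s r) := by
  have hn := g2_n
  have h1 := cert12_G2.diag_conj_xA _ (phi_dgM_mem r hr t ht) s (by omega) 1
  rw [phi_dgM r hr, ChevSL2.TdG_conj_x cert12_G2.c6.c2 r s (by omega) (by omega) t ht] at h1
  have := cert12_G2.xA_param_inj' s (by omega) _ _ h1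
  rw [mul_one, mul_one] at this
  rw [phi_dgM r hr]
  exact this.symm

/-- the element `J = w(1)` of `SL₂` -/
noncomputable def Jm (F : Type*) [Field F] : Matrix.SpecialLinearGroup (Fin 2) F := StPresG.wM 1 one_ne_zero

theorem phi_Jm (r : ℕ) (hr : r < 12) : phi r (Jm F) = cert12_G2.c6.c2.nG r (by rw [g2_n]; exact hr) := by
  have hn := g2_n
  unfold Jm
  rw [phi_wM r hr, cert12_G2.c6.c2.nG_eq_xA' r (by omega)]
  unfold ChevSL2.wG
  simp

/-- an element of `H` is determined by its values at the two fundamental roots -/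
theorem eq_hG_of_dE (h : GL chevG2.Idx F) (hh : h ∈ chevG2.diagonalSubgroup F) (x y : Fˣ)
    (h7 : dE chevG2 h 7 = (x : F) ^ 2 * (y : F)⁻¹) (h6 : dE chevG2 h 6 = ((x : F) ^ 3)⁻¹ * (y : F) ^ 2) :
    h = hG x y := by
  obtain ⟨x', y', rfl⟩ := exists_hG h hh
  rw [dE_hG _ _ 7 (by norm_num)] at h7
  rw [dE_hG _ _ 6 (by norm_num)] at h6
  simp only [List.getD_cons_succ, List.getD_cons_zero, Units.val_mul, Units.val_zpow_eq_zpow_val] at h7 h6
  have hx0 : (x : F) ≠ 0 := x.ne_zero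
  have hy0 : (y : F) ≠ 0 := y.ne_zero
  have hx0' : (x' : F) ≠ 0 := x'.ne_zero
  have hy0' : (y' : F) ≠ 0 := y'.ne_zero
  have e7 : (x' : F) ^ 2 * (y' : F)⁻¹ = (x : F) ^ 2 * (y : F)⁻¹ := by
    rw [← h7]
    norm_num [zpow_ofNat, _root_.zpow_neg]
  have e6 : ((x' : F) ^ 3)⁻¹ * (y' : F) ^ 2 = ((x : F) ^ 3)⁻¹ * (y : F) ^ 2 := by
    rw [← h6]
    norm_num [zpow_ofNat, _root_.zpow_neg]
  have ex : (x' : F) = x := by
    have k1 : (x' : F) = ((x' : F) ^ 2 * (y' : F)⁻¹) ^ 2 * (((x' : F) ^ 3)⁻¹ * (y' : F) ^ 2) := by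
      field_simp
    have k2 : (x : F) = ((x : F) ^ 2 * (y : F)⁻¹) ^ 2 * (((x : F) ^ 3)⁻¹ * (y : F) ^ 2) := by
      field_simp
    rw [k1, k2, e7, e6]
  have ey : (y' : F) = y := by
    rw [ex] at e7
    have h2 : (x : F) ^ 2 ≠ 0 := pow_ne_zero _ hx0
    exact inv_injective (mul_left_cancel₀ h2 e7)
  rw [Units.ext ex, Units.ext ey]

theorem hG_inj (x y x' y' : Fˣ) (h : (hG x y : GL chevG2.Idx F) = hG x' y') : x = x' ∧ y = y' := by
  have h7 := dE_hG x y 7 (by norm_num)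
  have h6 := dE_hG x y 6 (by norm_num)
  rw [h, dE_hG _ _ 7 (by norm_num)] at h7
  rw [h, dE_hG _ _ 6 (by norm_num)] at h6
  simp only [List.getD_cons_succ, List.getD_cons_zero, Units.val_mul, Units.val_zpow_eq_zpow_val] at h7 h6
  have hx0 : (x : F) ≠ 0 := x.ne_zero
  have hy0 : (y : F) ≠ 0 := y.ne_zero
  have hx0' : (x' : F) ≠ 0 := x'.ne_zero
  have hy0' : (y' : F) ≠ 0 := y'.ne_zero
  have e7 : (x' : F) ^ 2 * (y' : F)⁻¹ = (x : F) ^ 2 * (y : F)⁻¹ := by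
    norm_num [zpow_ofNat, _root_.zpow_neg] at h7
    exact h7
  have e6 : ((x' : F) ^ 3)⁻¹ * (y' : F) ^ 2 = ((x : F) ^ 3)⁻¹ * (y : F) ^ 2 := by
    norm_num [zpow_ofNat, _root_.zpow_neg] at h6
    exact h6
  have ex : (x' : F) = x := by
    have k1 : (x' : F) = ((x' : F) ^ 2 * (y' : F)⁻¹) ^ 2 * (((x' : F) ^ 3)⁻¹ * (y' : F) ^ 2) := by
      field_simp
    have k2 : (x : F) = ((x : F) ^ 2 * (y : F)⁻¹) ^ 2 * (((x : F) ^ 3)⁻¹ * (y : F) ^ 2) := by
      field_simp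
    rw [k1, k2, e7, e6]
  have ey : (y' : F) = y := by
    rw [ex] at e7
    have h2 : (x : F) ^ 2 ≠ 0 := pow_ne_zero _ hx0
    exact inv_injective (mul_left_cancel₀ h2 e7)
  exact ⟨(Units.ext ex).symm, (Units.ext ey).symm⟩

theorem g2_pr_vals : fdG2.pr 7 7 = 2 ∧ fdG2.pr 6 7 = -3 ∧ fdG2.pr 7 11 = 0 ∧ fdG2.pr 6 11 = 1 ∧
    fdG2.pr 7 6 = -1 ∧ fdG2.pr 6 6 = 2 := by decide +kernel

/-- `h_a(t)` -/
theorem phi7_dgM (t : Fˣ) : phi 7 (StPresG.dgM (t : F) t.ne_zero) = hG t 1 := by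
  obtain ⟨p1, p2, p3, p4, p5, p6⟩ := g2_pr_vals
  apply eq_hG_of_dE _ (phi_dgM_mem 7 (by norm_num) _ _)
  · rw [dE_phi_dgM 7 7 (by norm_num) (by norm_num), p1]
    simp [zpow_ofNat]
  · rw [dE_phi_dgM 7 6 (by norm_num) (by norm_num), p2]
    have : (t : F) ≠ 0 := t.ne_zero
    rw [show (-3 : ℤ) = -(3 : ℤ) from rfl, _root_.zpow_neg, zpow_ofNat]
    simp

/-- `h_{3a+2b}(t)` -/
theorem phi11_dgM (t : Fˣ) : phi 11 (StPresG.dgM (t : F) t.ne_zero) = hG t (t ^ 2) := by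
  obtain ⟨p1, p2, p3, p4, p5, p6⟩ := g2_pr_vals
  apply eq_hG_of_dE _ (phi_dgM_mem 11 (by norm_num) _ _)
  · rw [dE_phi_dgM 11 7 (by norm_num) (by norm_num), p3]
    have : (t : F) ≠ 0 := t.ne_zero
    simp
  · rw [dE_phi_dgM 11 6 (by norm_num) (by norm_num), p4]
    have : (t : F) ≠ 0 := t.ne_zero
    simp
    field_simp

/-- `h_b(t)` -/
theorem phi6_dgM (t : Fˣ) : phi 6 (StPresG.dgM (t : F) t.ne_zero) = hG 1 t := by
  obtain ⟨p1, p2, p3, p4, p5, p6⟩ := g2_pr_vals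
  apply eq_hG_of_dE _ (phi_dgM_mem 6 (by norm_num) _ _)
  · rw [dE_phi_dgM 6 7 (by norm_num) (by norm_num), p5]
    simp
  · rw [dE_phi_dgM 6 6 (by norm_num) (by norm_num), p6]
    simp [zpow_ofNat]

end Cfsg.Agent.Lib.H29.G2Inv
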