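import Mathlib
import Cfsg.Prelude.Def_ChevStructure
import Cfsg.Agent.Lib.H29.G2InvC

/-!
# `G₂(F)`: the action of the torus on the rank one subgroups, their commutation and faithfulness
-/

set_option autoImplicit false
set_option linter.unusedSectionVars false
set_option linter.unusedSimpArgs false
set_option linter.unusedVariables false

namespace Cfsg.Agent.Lib.H29.G2Inv

open Cfsg.Lie Matrix Cfsg.Agent.Lib.H29.Chev Cfsg.Agent.Lib.H12

variable {F : Type*} [Field F]

local notation "xg" => cert12_G2.c6.c2.xA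
local notation "SL2" => Matrix.SpecialLinearGroup (Fin 2) F

/-- the matrix `!![p, q; r, s]` of determinant one -/
def mk2 (p q r s : F) (h : p * s - q * r = 1) : SL2 := ⟨!![p, q; r, s], by rw [Matrix.det_fin_two_of]; exact h⟩

@[simp] theorem mk2_val (p q r s : F) (h : p * s - q * r = 1) :
    ((mk2 p q r s h : SL2) : Matrix (Fin 2) (Fin 2) F) = !![p, q; r, s] := rfl

theorem sl2_det (X : SL2) : X.1 0 0 * X.1 1 1 - X.1 0 1 * X.1 1 0 = 1 := by
  have := X.2
  rwa [Matrix.det_fin_two] at this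

theorem eq_mk2 (X : SL2) : X = mk2 (X.1 0 0) (X.1 0 1) (X.1 1 0) (X.1 1 1) (sl2_det X) := by
  apply StPresG.sl2_ext <;> simp

/-- conjugation by `diag(d, 1)` on `SL₂` -/
def dcj (d : Fˣ) : SL2 →* SL2 where
  toFun X := mk2 (X.1 0 0) ((d : F) * X.1 0 1) ((d : F)⁻¹ * X.1 1 0) (X.1 1 1) (by
    have := sl2_det X
    have hd : (d : F) ≠ 0 := d.ne_zero
    field_simp
    linear_combination this)
  map_one' := by
    apply StPresG.sl2_ext <;> simp
  map_mul' X Y := by
    have hd : (d : F) ≠ 0 := d.ne_zero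
    apply StPresG.sl2_ext <;>
      simp [Matrix.SpecialLinearGroup.coe_mul, Matrix.mul_apply, Fin.sum_univ_two] <;> field_simp

@[simp] theorem dcj_val (d : Fˣ) (X : SL2) :
    ((dcj d X : SL2) : Matrix (Fin 2) (Fin 2) F) = !![X.1 0 0, (d : F) * X.1 0 1; (d : F)⁻¹ * X.1 1 0, X.1 1 1] := rfl

theorem dcj_upM (d : Fˣ) (t : F) : dcj d (StPresG.upM t) = StPresG.upM ((d : F) * t) := by
  apply StPresG.sl2_ext <;> simp

theorem dcj_loM (d : Fˣ) (t : F) : dcj d (StPresG.loM t) = StPresG.loM ((d : F)⁻¹ * t) := by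
  apply StPresG.sl2_ext <;> simp

/-- the character `χ_r` of `h_a(x) h_b(y)` -/
def chiU (x y : Fˣ) (r : ℕ) : Fˣ :=
  x ^ ([0, -3, -1, 1, -2, 3, -3, 2, -1, 1, 3, 0].getD r 0 : ℤ) *
    y ^ ([-1, 1, 0, -1, 1, -2, 2, -1, 1, 0, -1, 1].getD r 0 : ℤ)

theorem chiU_neg (x y : Fˣ) (r : ℕ) (hr : r < 12) : chiU x y (11 - r) = (chiU x y r)⁻¹ := by
  unfold chiU
  interval_cases r <;> simp [mul_comm]

theorem hG_conj' (x y : Fˣ) (r : ℕ) (hr : r < 12) (t : F) :
    hG x y * xg r t * (hG x y)⁻¹ = xg r ((chiU x y r : F) * t) := hG_conj x y r hr t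

/-- the torus acts on the rank one subgroups by diagonal automorphisms -/
theorem hG_conj_phi (x y : Fˣ) (r : ℕ) (hr : r < 12) (X : SL2) :
    hG x y * phi r X * (hG x y)⁻¹ = phi r (dcj (chiU x y r) X) := by
  have key : (MulAut.conj (hG x y : GL chevG2.Idx F)).toMonoidHom.comp (phi r) = (phi r).comp (dcj (chiU x y r)) := by
    apply sl2_hom_ext
    · intro t
      simp only [MonoidHom.comp_apply, MulEquiv.coe_toMonoidHom, MulAut.conj_apply]
      rw [dcj_upM, phi_up r hr, phi_up r hr, hG_conj' x y r hr]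
    · intro t
      simp only [MonoidHom.comp_apply, MulEquiv.coe_toMonoidHom, MulAut.conj_apply]
      rw [dcj_loM, phi_lo r hr, phi_lo r hr, hG_conj' x y (11 - r) (by omega), chiU_neg x y r hr]
      simp
  have := congrArg (fun f => f X) key
  simpa using this

theorem hG_mul_phi (x y : Fˣ) (r : ℕ) (hr : r < 12) (X : SL2) :
    hG x y * phi r X = phi r (dcj (chiU x y r) X) * hG x y := by
  rw [← hG_conj_phi x y r hr]; group

theorem dcj_dcj_inv (d : Fˣ) (X : SL2) : dcj d (dcj d⁻¹ X) = X := by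
  have hd : (d : F) ≠ 0 := d.ne_zero
  apply StPresG.sl2_ext <;> simp

theorem dcj_inv_dcj (d : Fˣ) (X : SL2) : dcj d⁻¹ (dcj d X) = X := by
  have hd : (d : F) ≠ 0 := d.ne_zero
  apply StPresG.sl2_ext <;> simp

theorem phi_mul_hG (x y : Fˣ) (r : ℕ) (hr : r < 12) (X : SL2) :
    phi r X * hG x y = hG x y * phi r (dcj (chiU x y r)⁻¹ X) := by
  rw [hG_mul_phi x y r hr, dcj_dcj_inv]

/-- two homomorphisms from `SL₂` whose values on the elementary matrices commute have commuting values -/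
theorem commute_of_gens {Γ : Type*} [Group Γ] (f g : SL2 →* Γ)
    (h1 : ∀ s t, Commute (f (StPresG.upM s)) (g (StPresG.upM t)))
    (h2 : ∀ s t, Commute (f (StPresG.upM s)) (g (StPresG.loM t)))
    (h3 : ∀ s t, Commute (f (StPresG.loM s)) (g (StPresG.upM t)))
    (h4 : ∀ s t, Commute (f (StPresG.loM s)) (g (StPresG.loM t))) (X Y : SL2) : Commute (f X) (g Y) := by
  have hY : ∀ Y : SL2, (∀ s, Commute (f (StPresG.upM s)) (g Y)) ∧ (∀ s, Commute (f (StPresG.loM s)) (g Y)) := by
    intro Y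
    have hYc : Y ∈ Subgroup.closure (Set.range (StPresG.upM (K := F)) ∪ Set.range (StPresG.loM (K := F))) := by
      rw [StPresG.closure_up_lo]; trivial
    induction hYc using Subgroup.closure_induction with
    | mem x hx =>
      rcases hx with ⟨t, rfl⟩ | ⟨t, rfl⟩
      · exact ⟨fun s => h1 s t, fun s => h3 s t⟩
      · exact ⟨fun s => h2 s t, fun s => h4 s t⟩
    | one => rw [map_one]; exact ⟨fun s => Commute.one_right _, fun s => Commute.one_right _⟩
    | mul x y _ _ hx hy =>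
      rw [map_mul]
      exact ⟨fun s => (hx.1 s).mul_right (hy.1 s), fun s => (hx.2 s).mul_right (hy.2 s)⟩
    | inv x _ hx =>
      rw [map_inv]
      exact ⟨fun s => (hx.1 s).inv_right, fun s => (hx.2 s).inv_right⟩
  have hXc : X ∈ Subgroup.closure (Set.range (StPresG.upM (K := F)) ∪ Set.range (StPresG.loM (K := F))) := by
    rw [StPresG.closure_up_lo]; trivial
  induction hXc using Subgroup.closure_induction with
  | mem x hx =>
    rcases hx with ⟨t, rfl⟩ | ⟨t, rfl⟩
    · exact (hY Y).1 t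
    · exact (hY Y).2 t
  | one => rw [map_one]; exact Commute.one_left _
  | mul x y _ _ hx hy => rw [map_mul]; exact hx.mul_left hy
  | inv x _ hx => rw [map_inv]; exact hx.inv_left

theorem g2_commT_nil' : fdG2.commT 7 11 = [] ∧ fdG2.commT 7 0 = [] ∧ fdG2.commT 4 11 = [] ∧ fdG2.commT 4 0 = [] := by
  decide +kernel

/-- the two rank one subgroups of the orthogonal roots `a`, `3a+2b` commute -/
theorem phi7_comm_phi11 (X Y : SL2) : Commute (phi 7 X : GL chevG2.Idx F) (phi 11 Y) := by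
  obtain ⟨n1, n2, n3, n4⟩ := g2_commT_nil'
  apply commute_of_gens
  · intro s t
    rw [phi_up 7 (by norm_num), phi_up 11 (by norm_num)]
    exact g2_comm_nil 7 11 (by omega) (by omega) (by omega) (by omega) n1 _ _
  · intro s t
    rw [phi_up 7 (by norm_num), phi_lo 11 (by norm_num)]
    exact g2_comm_nil 7 0 (by omega) (by omega) (by omega) (by omega) n2 _ _
  · intro s t
    rw [phi_lo 7 (by norm_num), phi_up 11 (by norm_num)]
    exact g2_comm_nil 4 11 (by omega) (by omega) (by omega) (by omega) n3 _ _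
  · intro s t
    rw [phi_lo 7 (by norm_num), phi_lo 11 (by norm_num)]
    exact g2_comm_nil 4 0 (by omega) (by omega) (by omega) (by omega) n4 _ _

theorem dE_one (s : ℕ) : dE chevG2 (1 : GL chevG2.Idx F) s = 1 := by
  unfold dE
  split_ifs <;> simp

/-- the decomposition of a matrix of `SL₂` with non-zero lower left entry -/
theorem sl2_big_cell (X : SL2) (hr : X.1 1 0 ≠ 0) :
    X = StPresG.upM ((X.1 0 0 - 1) / X.1 1 0) * StPresG.loM (X.1 1 0) * StPresG.upM ((X.1 1 1 - 1) / X.1 1 0) := by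
  have hd := sl2_det X
  apply StPresG.sl2_ext
  · simp [Matrix.SpecialLinearGroup.coe_mul, Matrix.mul_apply, Fin.sum_univ_two]
    field_simp
    ring
  · simp [Matrix.SpecialLinearGroup.coe_mul, Matrix.mul_apply, Fin.sum_univ_two]
    field_simp
    linear_combination (-1 : F) * hd
  · simp [Matrix.SpecialLinearGroup.coe_mul, Matrix.mul_apply, Fin.sum_univ_two]
  · simp [Matrix.SpecialLinearGroup.coe_mul, Matrix.mul_apply, Fin.sum_univ_two]
    field_simp
    ring

/-- the decomposition of an upper triangular matrix of `SL₂` -/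
theorem sl2_borel (X : SL2) (hr : X.1 1 0 = 0) : ∃ (h0 : X.1 0 0 ≠ 0),
    X = StPresG.dgM (X.1 0 0) h0 * StPresG.upM (X.1 0 1 / X.1 0 0) := by
  have hd := sl2_det X
  rw [hr, mul_zero, sub_zero] at hd
  have h0 : X.1 0 0 ≠ 0 := left_ne_zero_of_mul_eq_one hd
  refine ⟨h0, ?_⟩
  apply StPresG.sl2_ext <;>
    simp [Matrix.SpecialLinearGroup.coe_mul, Matrix.mul_apply, Fin.sum_univ_two, hr] <;> field_simp
  · exact (eq_inv_of_mul_eq_one_right hd) ▸ by field_simp

/-- a positive root `r` such that `h_r(p) = 1` only for `p = 1` gives a faithful `SL₂` -/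
theorem phi_inj_of (r : ℕ) (hr6 : 6 ≤ r) (hr : r < 12)
    (hp : ∀ p : F, p ≠ 0 → (∀ s < 12, p ^ (fdG2.pr s r) = 1) → p = 1) :
    Function.Injective (phi r : SL2 → GL chevG2.Idx F) := by
  have hn := g2_n
  rw [injective_iff_map_eq_one]
  intro X hX
  by_cases h10 : X.1 1 0 = 0
  · obtain ⟨h0, e⟩ := sl2_borel X h10
    rw [e, map_mul, phi_up r hr] at hX
    have hmem : xg r (X.1 0 1 / X.1 0 0) ∈ chevG2.posUnipotent F ⊓ chevG2.diagonalSubgroup F := by
      refine Subgroup.mem_inf.mpr ⟨cert12_G2.xA_mem_posU r (by omega) (by omega) _, ?_⟩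
      have : xg r (X.1 0 1 / X.1 0 0) = (phi r (StPresG.dgM (X.1 0 0) h0))⁻¹ := eq_inv_of_mul_eq_one_right hX
      rw [this]
      exact inv_mem (phi_dgM_mem r hr _ _)
    rw [cert12_G2.c6.c2.pos_inf_diag, Subgroup.mem_bot] at hmem
    have ht := cert12_G2.c6.xA_eq_one r (by omega) _ hmem
    rw [hmem, mul_one] at hX
    have hp1 : X.1 0 0 = 1 := by
      apply hp _ h0
      intro s hs
      rw [← dE_phi_dgM r s hr hs _ h0, hX, dE_one]
    rw [e, ht]
    apply StPresG.sl2_ext <;>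
      simp [Matrix.SpecialLinearGroup.coe_mul, Matrix.mul_apply, Fin.sum_univ_two, hp1]
  · exfalso
    have e := sl2_big_cell X h10
    rw [e, map_mul, map_mul, phi_up r hr, phi_lo r hr, phi_up r hr] at hX
    have e2 : xg (11 - r) (X.1 1 0) = xg r (-((X.1 0 0 - 1) / X.1 1 0) + -((X.1 1 1 - 1) / X.1 1 0)) := by
      rw [← cert12_G2.c6.c2.xA_mul, ← cert12_G2.c6.c2.xA_inv, ← cert12_G2.c6.c2.xA_inv]
      have : xg (11 - r) (X.1 1 0) = (xg r ((X.1 0 0 - 1) / X.1 1 0))⁻¹ *
          (xg r ((X.1 0 0 - 1) / X.1 1 0) * xg (11 - r) (X.1 1 0) * xg r ((X.1 1 1 - 1) / X.1 1 0)) *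
          (xg r ((X.1 1 1 - 1) / X.1 1 0))⁻¹ := by group
      rw [this, hX]; group
    have := cert12_G2.xA_inj (11 - r) r (by omega) (by omega) _ _ h10 e2
    omega

theorem phi7_inj : Function.Injective (phi 7 : SL2 → GL chevG2.Idx F) := by
  obtain ⟨p1, p2, p3, p4, p5, p6⟩ := g2_pr_vals
  apply phi_inj_of 7 (by norm_num) (by norm_num)
  intro p hp0 h
  have h7 := h 7 (by norm_num)
  have h6 := h 6 (by norm_num)
  rw [p1, zpow_ofNat] at h7
  rw [p2, show (-3 : ℤ) = -(3 : ℤ) from rfl, _root_.zpow_neg, zpow_ofNat, inv_eq_one] at h6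
  have : p ^ 3 = p ^ 2 * p := by ring
  rw [this, h7, one_mul] at h6
  exact h6

theorem phi11_inj : Function.Injective (phi 11 : SL2 → GL chevG2.Idx F) := by
  obtain ⟨p1, p2, p3, p4, p5, p6⟩ := g2_pr_vals
  apply phi_inj_of 11 (by norm_num) (by norm_num)
  intro p hp0 h
  have h6 := h 6 (by norm_num)
  rw [p4, zpow_one] at h6
  exact h6

end Cfsg.Agent.Lib.H29.G2Inv
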