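import Mathlib
import Cfsg.Prelude.Def_ChevStructure
import Cfsg.Agent.Lib.H29.G2InvD
import Cfsg.Agent.Lib.H29.ChevFld1
import Cfsg.Agent.Lib.H12.ChevSL2Hom

/-!
# The homomorphism `SL₂(F) → ⟨X_r, X_{-r}⟩` for a root of a certified Chevalley datum (generic)
-/

set_option autoImplicit false
set_option linter.unusedSectionVars false
set_option linter.unusedSimpArgs false
set_option linter.unusedVariables false

namespace Cfsg.Agent.Lib.H29.Chev

open Cfsg.Lie Matrix Cfsg.Agent.Lib.H12 Cfsg.Agent.Lib.H29.G2Inv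

variable {D : ChevalleyDatum} {fd : FD} {fx : FX} {fc : FC} {fz : FZ} {F : Type*} [Field F]
  {K : Type*} [Field K]

namespace Cert12

variable (C : Cert12 D fd fx fc fz)

theorem exists_phiR (F : Type*) [Field F] (r : ℕ) (hr : r < fd.n) :
    ∃ φ : Matrix.SpecialLinearGroup (Fin 2) F →* GL D.Idx F,
      (∀ t, φ (StPresG.upM t) = C.c6.c2.xA r t) ∧ (∀ t, φ (StPresG.loM t) = C.c6.c2.xA (fd.n - 1 - r) t) :=
  StPresG.exists_hom_of_relations (K := F)
    (fun t => C.c6.c2.xA r t) (fun t => C.c6.c2.xA (fd.n - 1 - r) t)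
    (fun t u => C.c6.c2.xA_mul r t u) (fun t u => C.c6.c2.xA_mul _ t u)
    (fun t u ht => ChevSL2.wG_conj_x C.c6.c2 r hr t u ht)
    (fun t u ht hu => ChevSL2.hG_mul C.c6.c2 r hr t u ht hu)

/-- the homomorphism `SL₂(F) → ⟨X_r, X_{-r}⟩` -/
noncomputable def phiR (F : Type*) [Field F] (r : ℕ) : Matrix.SpecialLinearGroup (Fin 2) F →* GL D.Idx F :=
  if hr : r < fd.n then Classical.choose (C.exists_phiR F r hr) else 1

theorem phiR_up (r : ℕ) (hr : r < fd.n) (t : F) : C.phiR F r (StPresG.upM t) = C.c6.c2.xA r t := by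
  unfold phiR
  rw [dif_pos hr]
  exact (Classical.choose_spec (C.exists_phiR F r hr)).1 t

theorem phiR_lo (r : ℕ) (hr : r < fd.n) (t : F) :
    C.phiR F r (StPresG.loM t) = C.c6.c2.xA (fd.n - 1 - r) t := by
  unfold phiR
  rw [dif_pos hr]
  exact (Classical.choose_spec (C.exists_phiR F r hr)).2 t

theorem phiR_mem_group (r : ℕ) (hr : r < fd.n) (X : Matrix.SpecialLinearGroup (Fin 2) F) :
    C.phiR F r X ∈ D.group F := by
  have hX : X ∈ Subgroup.closure (Set.range (StPresG.upM (K := F)) ∪ Set.range (StPresG.loM (K := F))) := by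
    rw [StPresG.closure_up_lo]; trivial
  induction hX using Subgroup.closure_induction with
  | mem x hx =>
    rcases hx with ⟨t, rfl⟩ | ⟨t, rfl⟩
    · rw [C.phiR_up r hr]; exact C.c6.c2.xA_mem_group _ _
    · rw [C.phiR_lo r hr]; exact C.c6.c2.xA_mem_group _ _
  | one => rw [map_one]; exact one_mem _
  | mul x y _ _ hx hy => rw [map_mul]; exact mul_mem hx hy
  | inv x _ hx => rw [map_inv]; exact inv_mem hx

theorem phiR_wM (r : ℕ) (hr : r < fd.n) (t : F) (ht : t ≠ 0) :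
    C.phiR F r (StPresG.wM t ht) = ChevSL2.wG C.c6.c2 r t := by
  rw [wM_eq, map_mul, map_mul, C.phiR_up r hr, C.phiR_lo r hr]
  rfl

theorem phiR_dgM (r : ℕ) (hr : r < fd.n) (t : F) (ht : t ≠ 0) :
    C.phiR F r (StPresG.dgM t ht) = TdG (hExp D fd fx r) t ht := by
  rw [dgM_eq, map_mul, C.phiR_wM r hr, C.phiR_wM r hr, ChevSL2.wG_mul_wG_neg_one C.c6.c2 r hr t ht]

theorem phiR_dgM_mem (r : ℕ) (hr : r < fd.n) (t : F) (ht : t ≠ 0) :
    C.phiR F r (StPresG.dgM t ht) ∈ D.diagonalSubgroup F := by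
  rw [C.phiR_dgM r hr]
  exact C.c6.c2.TdG_mem r hr t ht

theorem dE_phiR_dgM (r s : ℕ) (hr : r < fd.n) (hs : s < fd.n) (t : F) (ht : t ≠ 0) :
    dE D (C.phiR F r (StPresG.dgM t ht)) s = t ^ (fd.pr s r) := by
  have h1 := C.diag_conj_xA _ (C.phiR_dgM_mem r hr t ht) s hs 1
  rw [C.phiR_dgM r hr, ChevSL2.TdG_conj_x C.c6.c2 r s hr hs t ht] at h1
  have := C.xA_param_inj' s hs _ _ h1
  rw [mul_one, mul_one] at this
  rw [C.phiR_dgM r hr]
  exact this.symm

/-- the permutation of `φ_r(w(t))` for a fundamental root `r` -/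
theorem perm_phiR_wM (i : ℕ) (hi : i < fd.l) (t : F) (ht : t ≠ 0) :
    C.c6.c2.Perm (C.phiR F (fd.simples.getD i 0) (StPresG.wM t ht)) (fd.sw fx i) := by
  have hp := C.c6.c2.simple_lt i hi
  rw [C.phiR_wM _ hp, ChevSL2.wG_eq C.c6.c2 _ hp t ht]
  have := C.c6.perm_mul (C.c6.perm_diag _ (C.c6.c2.TdG_mem _ hp t ht)) (C.c6.perm_nG (F := F) i hi).1
  exact this

theorem phiR_wM_mem_monomial (i : ℕ) (hi : i < fd.l) (t : F) (ht : t ≠ 0) :
    C.phiR F (fd.simples.getD i 0) (StPresG.wM t ht) ∈ D.monomialSubgroup F := by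
  have hp := C.c6.c2.simple_lt i hi
  rw [C.phiR_wM _ hp, ChevSL2.wG_eq C.c6.c2 _ hp t ht]
  exact mul_mem (le_sup_left (a := D.diagonalSubgroup F) (C.c6.c2.TdG_mem _ hp t ht))
    (C.c6.c2.nG_mem_monomial _ _)

/-- the torus acts on the rank one subgroups by diagonal automorphisms -/
theorem diag_conj_phiR (h : GL D.Idx F) (hh : h ∈ D.diagonalSubgroup F) (r : ℕ) (hr : r < fd.n) (d : Fˣ)
    (hd : (d : F) = dE D h r) (X : Matrix.SpecialLinearGroup (Fin 2) F) :
    h * C.phiR F r X * h⁻¹ = C.phiR F r (dcj d X) := by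
  have key : (MulAut.conj h).toMonoidHom.comp (C.phiR F r) = (C.phiR F r).comp (dcj d) := by
    apply sl2_hom_ext
    · intro t
      simp only [MonoidHom.comp_apply, MulEquiv.coe_toMonoidHom, MulAut.conj_apply]
      rw [dcj_upM, C.phiR_up r hr, C.phiR_up r hr, C.diag_conj_xA h hh r hr, hd]
    · intro t
      simp only [MonoidHom.comp_apply, MulEquiv.coe_toMonoidHom, MulAut.conj_apply]
      rw [dcj_loM, C.phiR_lo r hr, C.phiR_lo r hr, C.diag_conj_xA h hh _ (by omega), C.dE_neg h hh r hr, hd]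
  have := congrArg (fun f => f X) key
  simpa using this

theorem phiR_conj_diag (h : GL D.Idx F) (hh : h ∈ D.diagonalSubgroup F) (r : ℕ) (hr : r < fd.n) (d : Fˣ)
    (hd : (d : F) = dE D h r) (X : Matrix.SpecialLinearGroup (Fin 2) F) :
    h * C.phiR F r X = C.phiR F r (dcj d X) * h := by
  rw [← C.diag_conj_phiR h hh r hr d hd]; group

theorem map_upM (ι : K →+* F) (t : K) :
    Matrix.SpecialLinearGroup.map ι (StPresG.upM t) = StPresG.upM (ι t) := by
  apply StPresG.sl2_ext <;> simp [Matrix.SpecialLinearGroup.map_apply_coe]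

theorem map_loM (ι : K →+* F) (t : K) :
    Matrix.SpecialLinearGroup.map ι (StPresG.loM t) = StPresG.loM (ι t) := by
  apply StPresG.sl2_ext <;> simp [Matrix.SpecialLinearGroup.map_apply_coe]

/-- base change -/
theorem bc_phiR (ι : K →+* F) (r : ℕ) (hr : r < fd.n) (X : Matrix.SpecialLinearGroup (Fin 2) K) :
    bc D ι (C.phiR K r X) = C.phiR F r (Matrix.SpecialLinearGroup.map ι X) := by
  have key : (bc D ι).comp (C.phiR K r) = (C.phiR F r).comp (Matrix.SpecialLinearGroup.map ι) := by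
    apply sl2_hom_ext
    · intro t
      simp only [MonoidHom.comp_apply]
      rw [Cert12.map_upM, C.phiR_up r hr, C.phiR_up r hr, C.c6.c2.bc_xA]
    · intro t
      simp only [MonoidHom.comp_apply]
      rw [Cert12.map_loM, C.phiR_lo r hr, C.phiR_lo r hr, C.c6.c2.bc_xA]
  exact congrArg (fun f => f X) key

/-- compatibility with `σ` at a root fixed by the graph automorphism -/
theorem sigma_phiR {ga : GA} (hgi : fd.ChkGInv ga) (hg : fd.ChkGraph ga) (φ : F →+* F) (r : ℕ) (hr : r < fd.n)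
    (h1 : fd.gRoot ga r = r) (h2 : fd.gEps ga r = 1) (h3 : fd.gRoot ga (fd.n - 1 - r) = fd.n - 1 - r)
    (h4 : fd.gEps ga (fd.n - 1 - r) = 1) (X : Matrix.SpecialLinearGroup (Fin 2) F) :
    C.c6.c2.sigma hgi φ (C.phiR F r X) = C.phiR F r (Matrix.SpecialLinearGroup.map φ X) := by
  have key : (C.c6.c2.sigma hgi φ).comp (C.phiR F r) = (C.phiR F r).comp (Matrix.SpecialLinearGroup.map φ) := by
    apply sl2_hom_ext
    · intro t
      simp only [MonoidHom.comp_apply]
      rw [Cert12.map_upM, C.phiR_up r hr, C.phiR_up r hr, C.c6.c2.sigma_xA hgi hg φ r hr, h1, h2]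
      simp
    · intro t
      simp only [MonoidHom.comp_apply]
      rw [Cert12.map_loM, C.phiR_lo r hr, C.phiR_lo r hr, C.c6.c2.sigma_xA hgi hg φ _ (by omega), h3, h4]
      simp
  exact congrArg (fun f => f X) key

end Cert12

end Cfsg.Agent.Lib.H29.Chev
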