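import Mathlib
import Cfsg.Prelude.Def_ChevStructure
import Cfsg.Agent.Lib.H29.ChevFld1
import Cfsg.Agent.Lib.H29.ChevTw14
import Cfsg.Agent.Lib.H29.ChevCent2

/-!
# Base change and the endomorphism `σ`; the values of a torus element on the roots (generic)
-/

set_option autoImplicit false
set_option linter.unusedSectionVars false
set_option linter.unusedSimpArgs false
set_option linter.unusedVariables false

namespace Cfsg.Agent.Lib.H29.Chev

open Cfsg.Lie Matrix

variable {D : ChevalleyDatum} {fd : FD} {fx : FX} {fc : FC} {fz : FZ} {F : Type*} [Field F]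
  {K : Type*} [Field K]

theorem prod_zpow_sum' {G ι : Type*} [CommGroup G] (a : G) (s : Finset ι) (e : ι → ℤ) :
    ∏ j ∈ s, a ^ e j = a ^ ∑ j ∈ s, e j := by
  classical
  induction s using Finset.induction_on with
  | empty => simp
  | insert j s hj ih => rw [Finset.prod_insert hj, Finset.sum_insert hj, ih, _root_.zpow_add]

namespace Cert2

variable (C : Cert2 D fd fx)
include C

theorem bc_PG (ι : K →+* F) {ga : GA} (hgi : fd.ChkGInv ga) :
    bc D ι (PG (F := K) C.agrees hgi) = PG (F := F) C.agrees hgi := by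
  apply gl_ext
  rw [bc_val]
  show ((PZ D fd ga).map (Int.castRingHom K)).map ι = (PZ D fd ga).map (Int.castRingHom F)
  ext a b
  simp [Matrix.map_apply]

/-- `σ` commutes with base change -/
theorem bc_sigma (ι : K →+* F) (φ : K →+* K) (φ' : F →+* F) (h : ∀ x, ι (φ x) = φ' (ι x)) {ga : GA}
    (hgi : fd.ChkGInv ga) (g : GL D.Idx K) :
    bc D ι (C.sigma hgi φ g) = C.sigma hgi φ' (bc D ι g) := by
  rw [C.sigma_apply, C.sigma_apply, map_mul, map_mul, map_inv, C.bc_PG]
  congr 2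
  apply gl_ext
  ext a b
  show ι (φ ((g : Matrix D.Idx D.Idx K) a b)) = φ' (ι ((g : Matrix D.Idx D.Idx K) a b))
  exact h _

end Cert2

namespace Cert12

variable (C : Cert12 D fd fx fc fz)
include C

/-- the root values of `σ h` for `h ∈ H` -/
theorem dE_sigma {ga : GA} {k : ℕ} (T : TwSpec fd fx ga k) (T2 : TwSpec2 fd fx ga k) (φ : F →+* F) (hk : 1 ≤ k)
    (h : GL D.Idx F) (hh : h ∈ D.diagonalSubgroup F) (r : ℕ) (hr : r < fd.n) :
    dE D (C.c6.c2.sigma T.ginv φ h) (fd.gRoot ga r) = φ (dE D h r) := by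
  have hσh := C.sigma_diag T T2 φ hk h hh
  have hgr := T.gRoot_lt r hr
  have e1 := C.diag_conj_xA h hh r hr 1
  have e2 := congrArg (C.c6.c2.sigma T.ginv φ) e1
  rw [map_mul, map_mul, map_inv, C.c6.c2.sigma_xA T.ginv T.graph φ r hr, C.c6.c2.sigma_xA T.ginv T.graph φ r hr,
    C.diag_conj_xA _ hσh _ hgr] at e2
  have e3 := C.xA_param_inj' _ hgr _ _ e2
  rw [mul_one, map_one, mul_one] at e3
  have hε : ((fd.gEps ga r : ℤ) : F) * ((fd.gEps ga r : ℤ) : F) = 1 := by
    rw [← Int.cast_mul, fd.gEps_sq, Int.cast_one]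
  calc dE D (C.c6.c2.sigma T.ginv φ h) (fd.gRoot ga r)
      = dE D (C.c6.c2.sigma T.ginv φ h) (fd.gRoot ga r) * (((fd.gEps ga r : ℤ) : F) * ((fd.gEps ga r : ℤ) : F)) := by
        rw [hε, mul_one]
    _ = ((fd.gEps ga r : ℤ) : F) * φ (dE D h r) * ((fd.gEps ga r : ℤ) : F) := by rw [← mul_assoc, e3]
    _ = φ (dE D h r) := by rw [mul_comm, ← mul_assoc, hε, one_mul]

/-- the value of a torus element at a root is the product of its values at the fundamental roots -/
theorem dE_rc (h : GL D.Idx F) (hh : h ∈ D.diagonalSubgroup F) (a : Fin fd.l → Fˣ)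
    (ha : ∀ j : Fin fd.l, ((a j : Fˣ) : F) = dE D h (fd.simples.getD j.val 0)) (r : ℕ) (hr : r < fd.n) :
    dE D h r = ((∏ j : Fin fd.l, a j ^ fd.rcZ fx r j.val : Fˣ) : F) := by
  rw [C.diag_eq_range] at hh
  obtain ⟨x, rfl⟩ := hh
  have ha' : ∀ j : Fin fd.l, a j = ∏ i : Fin fd.l, x i ^ fd.carZ i.val (fd.simples.getD j.val 0) := by
    intro j
    apply Units.ext
    rw [ha j, C.dE_chiHom x _ (C.c6.c2.simple_lt j.val j.isLt)]
  rw [C.dE_chiHom x r hr]
  congr 1
  have e1 : ∀ j : Fin fd.l, a j ^ fd.rcZ fx r j.val =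
      ∏ i : Fin fd.l, x i ^ (fd.rcZ fx r j.val * fd.carZ i.val (fd.simples.getD j.val 0)) := by
    intro j
    rw [ha' j, ← Finset.prod_zpow]
    apply Finset.prod_congr rfl
    intro i _
    rw [← _root_.zpow_mul, mul_comm]
  rw [Finset.prod_congr rfl (fun j _ => e1 j), Finset.prod_comm]
  apply Finset.prod_congr rfl
  intro i _
  rw [prod_zpow_sum']
  congr 1
  rw [(fd.lin_spec C.c6.c2.chk.lin r hr).1 i.val i.isLt, listsum_eq, Finset.sum_range]

end Cert12

end Cfsg.Agent.Lib.H29.Chev
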