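import Mathlib
import Cfsg.Prelude.Def_ChevStructure
import Cfsg.Agent.Lib.H29.G2InvD

/-!
# The Bruhat form of the centraliser of a torus element (generic), and regular elements of `G₂`
-/

set_option autoImplicit false
set_option linter.unusedSectionVars false
set_option linter.unusedSimpArgs false
set_option linter.unusedVariables false

namespace Cfsg.Agent.Lib.H29.Chev

open Cfsg.Lie Matrix

variable {D : ChevalleyDatum} {fd : FD} {fx : FX} {fc : FC} {fz : FZ} {F : Type*} [Field F]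

namespace Cert12

variable (C : Cert12 D fd fx fc fz)
include C

theorem conj_mul3 {G : Type*} [Group G] (z x y : G) : z * (x * y) * z⁻¹ = (z * x * z⁻¹) * (z * y * z⁻¹) := by
  group

/-- `H` normalises `U_n⁻` -/
theorem diag_conj_Uw' (k n u : GL D.Idx F) (hk : k ∈ D.diagonalSubgroup F) (hu : u ∈ Uw D F n) :
    k * u * k⁻¹ ∈ Uw D F n := by
  unfold Uw at hu
  induction hu using Subgroup.closure_induction with
  | mem x hx =>
    obtain ⟨r, t, hr, rfl⟩ := C.c6.eq_xA_of_UwSet n x hx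
    rw [C.diag_conj_xA k hk r hr.1]
    exact C.c6.xA_mem_Uw n r hr _
  | one => simp
  | mul x y _ _ hx hy => rw [C.conj_mul3]; exact mul_mem hx hy
  | inv x _ hx =>
    have : k * x⁻¹ * k⁻¹ = (k * x * k⁻¹)⁻¹ := by group
    rw [this]; exact inv_mem hx

/-- the Bruhat form of an element commuting with a torus element `z` -/
theorem cent_diag_form (z : GL D.Idx F) (hzd : z ∈ D.diagonalSubgroup F) (g : GL D.Idx F) (hg : g ∈ D.group F)
    (hc : z * g = g * z) :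
    ∃ u₁ ∈ D.posUnipotent F, ∃ m ∈ D.monomialSubgroup F, ∃ u₂ ∈ D.posUnipotent F,
      z * u₁ * z⁻¹ = u₁ ∧ z * m = m * z ∧ z * u₂ * z⁻¹ = u₂ ∧ g = u₁ * m * u₂ := by
  obtain ⟨b, hb, n, hn, u, hu, rfl⟩ := C.c6.canonical_form.1 g hg
  have hHN : D.diagonalSubgroup F ≤ D.monomialSubgroup F := le_sup_left
  have hk' : n⁻¹ * (z * n * z⁻¹) ∈ D.diagonalSubgroup F := by
    have h1 : n⁻¹ * z * n ∈ D.diagonalSubgroup F := by
      have := (Subgroup.mem_normalizer_iff.mp (C.c6.c2.monomial_le_normalizer_diag (inv_mem hn)) z).mp hzd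
      rwa [inv_inv] at this
    have : n⁻¹ * (z * n * z⁻¹) = n⁻¹ * z * n * z⁻¹ := by group
    rw [this]
    exact mul_mem h1 (inv_mem hzd)
  set k' := n⁻¹ * (z * n * z⁻¹) with hk'def
  have hk2 : n * k' * n⁻¹ ∈ D.diagonalSubgroup F :=
    (Subgroup.mem_normalizer_iff.mp (C.c6.c2.monomial_le_normalizer_diag hn) k').mp hk'
  have hzb : z * b * z⁻¹ ∈ D.borelSubgroup F :=
    mul_mem (mul_mem (C.c6.diag_le_borel hzd) hb) (inv_mem (C.c6.diag_le_borel hzd))
  set b' := z * b * z⁻¹ * (n * k' * n⁻¹) with hb'def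
  have hb' : b' ∈ D.borelSubgroup F := mul_mem hzb (C.c6.diag_le_borel hk2)
  have hu' : z * u * z⁻¹ ∈ Uw D F n := C.diag_conj_Uw' _ n u hzd hu
  have e1 : b' * n * (z * u * z⁻¹) = b * n * u := by
    have : b' * n * (z * u * z⁻¹) = z * (b * n * u) * z⁻¹ := by
      rw [hb'def, hk'def]; group
    rw [this, hc]; group
  obtain ⟨-, hun⟩ := C.c6.canonical_form.2 b' b n n _ u hb' hb hn hn hu' hu e1
  obtain ⟨e2, e3⟩ := hun rfl
  obtain ⟨u₁, hu₁, h₁, hh₁, rfl⟩ := C.c6.c2.borel_mem b hb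
  have e4 : u₁⁻¹ * (z * u₁ * z⁻¹) = h₁ * (n * k' * n⁻¹)⁻¹ * h₁⁻¹ := by
    have e5 : z * h₁ * z⁻¹ = h₁ := by
      have := C.c6.c2.diag_comm _ _ hzd hh₁
      rw [this]; group
    have e6 : z * (u₁ * h₁) * z⁻¹ = (z * u₁ * z⁻¹) * h₁ := by
      rw [C.conj_mul3, e5]
    rw [hb'def, e6] at e2
    have : z * u₁ * z⁻¹ = u₁ * h₁ * (n * k' * n⁻¹)⁻¹ * h₁⁻¹ := by
      rw [← e2]; group
    rw [this]; group
  have hzu₁ : z * u₁ * z⁻¹ ∈ D.posUnipotent F :=
    (Subgroup.mem_normalizer_iff.mp (C.c6.c2.diag_le_normalizer_pos hzd) u₁).mp hu₁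
  have h5 : u₁⁻¹ * (z * u₁ * z⁻¹) ∈ D.posUnipotent F ⊓ D.diagonalSubgroup F :=
    Subgroup.mem_inf.mpr ⟨mul_mem (inv_mem hu₁) hzu₁, by
      rw [e4]; exact mul_mem (mul_mem hh₁ (inv_mem hk2)) (inv_mem hh₁)⟩
  rw [C.c6.c2.pos_inf_diag, Subgroup.mem_bot] at h5
  have e7 : z * u₁ * z⁻¹ = u₁ := by
    have : z * u₁ * z⁻¹ = u₁ * (u₁⁻¹ * (z * u₁ * z⁻¹)) := by group
    rw [this, h5, mul_one]
  have e8 : k' = 1 := by
    rw [h5] at e4
    have : (n * k' * n⁻¹)⁻¹ = 1 := by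
      have : (n * k' * n⁻¹)⁻¹ = h₁⁻¹ * (h₁ * (n * k' * n⁻¹)⁻¹ * h₁⁻¹) * h₁ := by group
      rw [this, ← e4]; group
    have h9 : n * k' * n⁻¹ = 1 := inv_eq_one.mp this
    have : k' = n⁻¹ * (n * k' * n⁻¹) * n := by group
    rw [this, h9]; group
  refine ⟨u₁, hu₁, h₁ * n, mul_mem (hHN hh₁) hn, u, Chev.Uw_le_pos n hu, e7, ?_, e3, by group⟩
  have e10 : z * n * z⁻¹ = n := by
    have : z * n * z⁻¹ = n * k' := by rw [hk'def]; group
    rw [this, e8, mul_one]
  have e11 : z * h₁ = h₁ * z := C.c6.c2.diag_comm _ _ hzd hh₁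
  calc z * (h₁ * n) = h₁ * (z * n * z⁻¹) * z := by rw [← mul_assoc, e11]; group
    _ = h₁ * n * z := by rw [e10]

end Cert12

end Cfsg.Agent.Lib.H29.Chev

namespace Cfsg.Agent.Lib.H29.G2Sing

open Cfsg.Lie Matrix Cfsg.Agent.Lib.H29.Chev Cfsg.Agent.Lib.H29.G2Inv

variable {F : Type*} [Field F]

local notation "xg" => cert12_G2.c6.c2.xA

theorem hG_conj_g2E (x y : Fˣ) (a b c d e f : F) :
    hG x y * g2E a b c d e f * (hG x y)⁻¹ =
      g2E ((chiU x y 6 : F) * a) ((chiU x y 7 : F) * b) ((chiU x y 8 : F) * c) ((chiU x y 9 : F) * d)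
        ((chiU x y 10 : F) * e) ((chiU x y 11 : F) * f) := by
  unfold g2E
  rw [conj_mul', conj_mul', conj_mul', conj_mul', conj_mul', hG_conj' x y 6 (by norm_num), hG_conj' x y 7 (by norm_num),
    hG_conj' x y 8 (by norm_num), hG_conj' x y 9 (by norm_num), hG_conj' x y 10 (by norm_num),
    hG_conj' x y 11 (by norm_num)]

/-- a torus element on which no positive root vanishes centralises no element of `U` -/
theorem cent_pos_regular (x y : Fˣ) (hreg : ∀ r, 6 ≤ r → r < 12 → chiU x y r ≠ 1)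
    (u : GL chevG2.Idx F) (hu : u ∈ chevG2.posUnipotent F) (hc : hG x y * u * (hG x y)⁻¹ = u) : u = 1 := by
  obtain ⟨a, b, c, d, e, f, rfl⟩ := exists_g2E u hu
  rw [hG_conj_g2E] at hc
  obtain ⟨ha, hb, hc', hd, he, hf⟩ := g2E_inj _ _ _ _ _ _ _ _ _ _ _ _ hc
  have z0 : ∀ (r : ℕ), 6 ≤ r → r < 12 → ∀ t : F, (chiU x y r : F) * t = t → t = 0 := by
    intro r h6 h12 t ht
    by_contra hne
    have h1 : (chiU x y r : F) = 1 := by
      have : ((chiU x y r : F) - 1) * t = 0 := by linear_combination ht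
      rcases mul_eq_zero.mp this with h | h
      · linear_combination h
      · exact absurd h hne
    exact hreg r h6 h12 (Units.ext h1)
  rw [z0 6 (by norm_num) (by norm_num) a ha, z0 7 (by norm_num) (by norm_num) b hb,
    z0 8 (by norm_num) (by norm_num) c hc', z0 9 (by norm_num) (by norm_num) d hd,
    z0 10 (by norm_num) (by norm_num) e he, z0 11 (by norm_num) (by norm_num) f hf]
  exact g2E_zero

end Cfsg.Agent.Lib.H29.G2Sing
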