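import Mathlib
import Cfsg.Prelude.Def_ChevStructure
import Cfsg.Agent.Lib.H29.G2SingE
import Cfsg.Agent.Lib.H29.ChevF4l
import Cfsg.Agent.Lib.H29.ChevGen39

/-!
# The centraliser of a regular element of the torus of a Chevalley group (generic)

If `z ∈ H` takes a value different from `1` on every positive root and, for some element `m₀` of `N` with
permutation `π₀`, the values of `z` at the roots `π₀ p` (`p` fundamental) are not taken at the roots `π₀ s`
(`s` negative), then the centraliser of `z` in the Chevalley group is contained in `H`.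
-/

set_option autoImplicit false
set_option linter.unusedSectionVars false
set_option linter.unusedSimpArgs false
set_option linter.unusedVariables false

namespace Cfsg.Agent.Lib.H29.Chev

open Cfsg.Lie Matrix

variable {D : ChevalleyDatum} {fd : FD} {fx : FX} {fc : FC} {fz : FZ} {F : Type*} [Field F]

namespace Cert12

variable (C : Cert12 D fd fx fc fz)
include C

/-- conjugation of an ordered product by an element of `H` -/
theorem diag_conj_oprod (z : GL D.Idx F) (hz : z ∈ D.diagonalSubgroup F) (t : ℕ → F) (k : ℕ) :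
    ∀ m, m + k ≤ fd.n → z * C.oprod t m k * z⁻¹ = C.oprod (fun r => dE D z r * t r) m k := by
  induction k with
  | zero =>
    intro m _
    rw [C.oprod_zero, C.oprod_zero]
    group
  | succ k ih =>
    intro m hm
    rw [C.oprod_succ, C.oprod_succ, C.conj_mul3, C.diag_conj_xA z hz m (by omega), ih (m + 1) (by omega)]

theorem oprod_zero_fun (k : ℕ) : ∀ m, C.oprod (fun _ => (0 : F)) m k = 1 := by
  induction k with
  | zero => intro m; exact C.oprod_zero _ m
  | succ k ih =>
    intro m
    rw [C.oprod_succ, ih, C.c6.c2.xA_zero, mul_one]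

/-- a torus element on which no positive root vanishes centralises no element of `U` -/
theorem cent_pos_regular' (z : GL D.Idx F) (hz : z ∈ D.diagonalSubgroup F)
    (hreg : ∀ r, fd.n / 2 ≤ r → r < fd.n → dE D z r ≠ 1)
    (u : GL D.Idx F) (hu : u ∈ D.posUnipotent F) (hc : z * u * z⁻¹ = u) : u = 1 := by
  rw [C.posUnipotent_eq] at hu
  have hn2 : fd.n / 2 + (fd.n - fd.n / 2) = fd.n := by omega
  obtain ⟨t, ht, rfl⟩ := C.Vm_oprod (fun _ => True) C.closed_true (fd.n - fd.n / 2) (fd.n / 2) hn2 le_rfl u hu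
  rw [C.diag_conj_oprod z hz t _ _ (by omega)] at hc
  have hun := C.oprod_unique (fd.n - fd.n / 2) (fd.n / 2) hn2 le_rfl _ _ hc
  have ht0 : ∀ r, fd.n / 2 ≤ r → r < fd.n → t r = 0 := by
    intro r h1 h2
    have h3 : dE D z r * t r = t r := hun r h1 h2
    by_contra hne
    apply hreg r h1 h2
    have : (dE D z r - 1) * t r = 0 := by linear_combination h3
    rcases mul_eq_zero.mp this with h | h
    · linear_combination h
    · exact absurd h hne
  rw [C.oprod_congr t (fun _ => 0) _ _ (fun r h1 h2 => ht0 r h1 (by omega))]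
  exact C.oprod_zero_fun _ _

/-- a monomial element commuting with `z ∈ H` permutes the roots preserving the root values of `z` -/
theorem perm_dE_of_comm (z : GL D.Idx F) (hz : z ∈ D.diagonalSubgroup F) (m : GL D.Idx F)
    (hm : m ∈ D.monomialSubgroup F) (hc : z * m = m * z) (π : ℕ → ℕ) (hπ : C.c6.c2.Perm m π)
    (r : ℕ) (hr : r < fd.n) : dE D z (π r) = dE D z r := by
  have h1 := C.dE_conj m z hm hz π hπ r hr
  have e : m * z * m⁻¹ = z := by rw [← hc]; group
  rw [e] at h1
  exact h1

/-- an element of `N` commuting with a torus element whose values at the fundamental roots of the chamber of `m₀`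
are not taken at the negative roots of that chamber lies in `H` -/
theorem cent_monomial_regular' (z : GL D.Idx F) (hz : z ∈ D.diagonalSubgroup F)
    (m₀ : GL D.Idx F) (hm₀ : m₀ ∈ D.monomialSubgroup F) (π₀ : ℕ → ℕ) (hπ₀ : C.c6.c2.Perm m₀ π₀)
    (hsep : ∀ i < fd.l, ∀ s < fd.n / 2, dE D z (π₀ s) ≠ dE D z (π₀ (fd.simples.getD i 0)))
    (m : GL D.Idx F) (hm : m ∈ D.monomialSubgroup F) (hc : z * m = m * z) :
    m ∈ D.diagonalSubgroup F := by
  -- conjugate everything by `m₀`
  set z' := m₀⁻¹ * z * m₀ with hz'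
  set m' := m₀⁻¹ * m * m₀ with hm'
  have hz'd : z' ∈ D.diagonalSubgroup F := by
    have := (Subgroup.mem_normalizer_iff.mp (C.c6.c2.monomial_le_normalizer_diag (inv_mem hm₀)) z).mp hz
    rwa [inv_inv] at this
  have hm'N : m' ∈ D.monomialSubgroup F := mul_mem (mul_mem (inv_mem hm₀) hm) hm₀
  have hc' : z' * m' = m' * z' := by
    have e1 : z' * m' = m₀⁻¹ * (z * m) * m₀ := by rw [hz', hm']; group
    have e2 : m' * z' = m₀⁻¹ * (m * z) * m₀ := by rw [hz', hm']; group
    rw [e1, e2, hc]
  -- the root values of `z'`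
  have hval : ∀ r < fd.n, dE D z' r = dE D z (π₀ r) := by
    intro r hr
    have h1 := C.dE_conj m₀ z' hm₀ hz'd π₀ hπ₀ r hr
    have e : m₀ * z' * m₀⁻¹ = z := by rw [hz']; group
    rw [e] at h1
    exact h1.symm
  obtain ⟨⟨π, hπ⟩, _⟩ := C.c6.perm_of_mem m' hm'N
  have hd' : m' ∈ D.diagonalSubgroup F := by
    apply C.mem_diag_of_pos m' hm'N π hπ
    intro i hi
    have hp := C.c6.c2.simple_lt i hi
    by_contra hlt
    have hlt' : π (fd.simples.getD i 0) < fd.n / 2 := by omega
    have hπlt := (hπ _ hp).1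
    have h2 := C.perm_dE_of_comm z' hz'd m' hm'N hc' π hπ _ hp
    rw [hval _ hπlt, hval _ hp] at h2
    exact hsep i hi _ hlt' h2
  have e : m = m₀ * m' * m₀⁻¹ := by rw [hm']; group
  rw [e]
  exact (Subgroup.mem_normalizer_iff.mp (C.c6.c2.monomial_le_normalizer_diag hm₀) m').mp hd'

/-- **the centraliser of a regular torus element is contained in the torus** -/
theorem cent_regular' (z : GL D.Idx F) (hz : z ∈ D.diagonalSubgroup F)
    (hreg : ∀ r, fd.n / 2 ≤ r → r < fd.n → dE D z r ≠ 1)
    (m₀ : GL D.Idx F) (hm₀ : m₀ ∈ D.monomialSubgroup F) (π₀ : ℕ → ℕ) (hπ₀ : C.c6.c2.Perm m₀ π₀)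
    (hsep : ∀ i < fd.l, ∀ s < fd.n / 2, dE D z (π₀ s) ≠ dE D z (π₀ (fd.simples.getD i 0)))
    (g : GL D.Idx F) (hg : g ∈ D.group F) (hc : z * g = g * z) : g ∈ D.diagonalSubgroup F := by
  obtain ⟨u₁, hu₁, m, hm, u₂, hu₂, h1, h2, h3, rfl⟩ := C.cent_diag_form z hz g hg hc
  rw [C.cent_pos_regular' z hz hreg u₁ hu₁ h1, C.cent_pos_regular' z hz hreg u₂ hu₂ h3, one_mul, mul_one]
  exact C.cent_monomial_regular' z hz m₀ hm₀ π₀ hπ₀ hsep m hm h2

end Cert12

end Cfsg.Agent.Lib.H29.Chev
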