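import Mathlib
import Cfsg.Prelude.Def_ChevStructure
import Cfsg.Agent.Lib.H29.RegCent
import Cfsg.Agent.Lib.H29.ChevGen44

/-!
# The order of the centraliser of an element of the torus of a Chevalley group (generic)

For `z ∈ H` the centraliser of `z` in the Chevalley group has order
`|H| q^{N_z} ∑_{w ∈ W, w z = z} q^{ℓ_z(w)}` where `N_z` is the number of positive roots on which `z` is trivial and
`ℓ_z(w)` is the number of those which `w` makes negative.
-/

set_option autoImplicit false
set_option linter.unusedSectionVars false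
set_option linter.unusedSimpArgs false
set_option linter.unusedVariables false

namespace Cfsg.Agent.Lib.H29.Chev

open Cfsg.Lie Matrix

variable {D : ChevalleyDatum} {fd : FD} {fx : FX} {fc : FC} {fz : FZ} {F : Type*} [Field F]

/-- the map `σ` on the roots preserves the root values of `z` -/
def FixZ (D : ChevalleyDatum) (fd : FD) (z : GL D.Idx F) (σ : Fin fd.n → Fin fd.n) : Prop :=
  ∀ r < fd.n, dE D z (extF fd σ r) = dE D z r

/-- the number of positive roots on which `z` is trivial -/
noncomputable def NzN (D : ChevalleyDatum) (fd : FD) (z : GL D.Idx F) : ℕ :=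
  Nat.card {r : ℕ // r < fd.n ∧ fd.n / 2 ≤ r ∧ dE D z r = 1}

/-- the number of positive roots on which `z` is trivial and which `σ` makes negative -/
noncomputable def lzN (D : ChevalleyDatum) (fd : FD) (z : GL D.Idx F) (σ : Fin fd.n → Fin fd.n) : ℕ :=
  Nat.card {r : ℕ // r < fd.n ∧ fd.n / 2 ≤ r ∧ extF fd σ r < fd.n / 2 ∧ dE D z r = 1}

namespace Cert12

variable (C : Cert12 D fd fx fc fz)
include C

open Classical in
/-- extension by zero from the roots of `Ψ` on which `z` is trivial -/
noncomputable def extZ (fd : FD) (Ψ : ℕ → Prop) (z : GL D.Idx F)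
    (f : {r : ℕ // PosIn fd Ψ r ∧ dE D z r = 1} → F) (r : ℕ) : F :=
  if h : PosIn fd Ψ r ∧ dE D z r = 1 then f ⟨r, h⟩ else 0

/-- the centraliser of `z ∈ H` in `U_Ψ` is parametrised by the roots of `Ψ` on which `z` is trivial -/
theorem card_cent_Vm (z : GL D.Idx F) (hz : z ∈ D.diagonalSubgroup F) (Ψ : ℕ → Prop) (hΨ : fd.Closed Ψ) :
    Nat.card {u : Vm D F Ψ (fd.n / 2) // z * u.val = u.val * z} =
      Nat.card F ^ Nat.card {r : ℕ // PosIn fd Ψ r ∧ dE D z r = 1} := by
  have hev := C.c6.c2.heven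
  have hk : fd.n / 2 + (fd.n - fd.n / 2) = fd.n := by omega
  have hfin : Finite {r : ℕ // PosIn fd Ψ r ∧ dE D z r = 1} := by
    apply Finite.of_injective (fun r : {r : ℕ // PosIn fd Ψ r ∧ dE D z r = 1} => (⟨r.val, r.property.1.2.2⟩ : Fin fd.n))
    intro a b h
    exact Subtype.ext (Fin.mk.inj h)
  rw [← Nat.card_fun]
  symm
  apply Nat.card_congr
  have hsupp : ∀ (f : {r : ℕ // PosIn fd Ψ r ∧ dE D z r = 1} → F) (r : ℕ), extZ fd Ψ z f r ≠ 0 →
      PosIn fd Ψ r ∧ dE D z r = 1 := by
    intro f r h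
    by_contra hn
    apply h
    unfold extZ
    rw [dif_neg hn]
  refine Equiv.ofBijective (fun f : {r : ℕ // PosIn fd Ψ r ∧ dE D z r = 1} → F =>
    (⟨⟨C.oprod (extZ fd Ψ z f) (fd.n / 2) (fd.n - fd.n / 2),
        C.oprod_mem Ψ _ _ _ hk (le_refl _) (by
          intro r h1 h2 h3
          by_contra h4
          exact h3 (hsupp f r h4).1.1)⟩, by
      simp only
      have h1 := C.diag_conj_oprod z hz (extZ fd Ψ z f) (fd.n - fd.n / 2) (fd.n / 2) (by omega)
      have h2 : C.oprod (fun r => dE D z r * extZ fd Ψ z f r) (fd.n / 2) (fd.n - fd.n / 2) =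
          C.oprod (extZ fd Ψ z f) (fd.n / 2) (fd.n - fd.n / 2) := by
        apply C.oprod_congr
        intro r _ _
        by_cases h0 : extZ fd Ψ z f r = 0
        · rw [h0, mul_zero]
        · rw [(hsupp f r h0).2, one_mul]
      rw [h2] at h1
      calc z * C.oprod (extZ fd Ψ z f) (fd.n / 2) (fd.n - fd.n / 2)
          = (z * C.oprod (extZ fd Ψ z f) (fd.n / 2) (fd.n - fd.n / 2) * z⁻¹) * z := by group
        _ = C.oprod (extZ fd Ψ z f) (fd.n / 2) (fd.n - fd.n / 2) * z := by rw [h1]⟩ :
      {u : Vm D F Ψ (fd.n / 2) // z * u.val = u.val * z})) ⟨?_, ?_⟩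
  · intro f f' h
    have h' := congrArg (fun u : {u : Vm D F Ψ (fd.n / 2) // z * u.val = u.val * z} => u.val.val) h
    simp only at h'
    have := C.oprod_unique _ _ hk (le_refl _) _ _ h'
    funext ⟨r, hr⟩
    have := this r hr.1.2.1 hr.1.2.2
    unfold extZ at this
    rwa [dif_pos hr, dif_pos hr] at this
  · rintro ⟨⟨g, hg⟩, hc⟩
    simp only at hc
    obtain ⟨t, ht, rfl⟩ := C.Vm_oprod Ψ hΨ _ _ hk (le_refl _) g hg
    have hc' : z * C.oprod t (fd.n / 2) (fd.n - fd.n / 2) * z⁻¹ = C.oprod t (fd.n / 2) (fd.n - fd.n / 2) := by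
      rw [hc]; group
    rw [C.diag_conj_oprod z hz t _ _ (by omega)] at hc'
    have hun := C.oprod_unique _ _ hk (le_refl _) _ _ hc'
    refine ⟨fun r => t r.val, ?_⟩
    apply Subtype.ext
    apply Subtype.ext
    simp only
    apply C.oprod_congr
    intro r h1 h2
    unfold extZ
    by_cases h : PosIn fd Ψ r ∧ dE D z r = 1
    · rw [dif_pos h]
    · rw [dif_neg h]
      by_cases hΨr : Ψ r
      · have h3 : dE D z r ≠ 1 := fun h4 => h ⟨⟨hΨr, h1, by omega⟩, h4⟩
        have h5 : dE D z r * t r = t r := hun r h1 (by omega)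
        have : (dE D z r - 1) * t r = 0 := by linear_combination h5
        rcases mul_eq_zero.mp this with h6 | h6
        · exact absurd (by linear_combination h6) h3
        · exact h6.symm
      · exact (ht r (fun h4 => hΨr h4.1)).symm

end Cert12

end Cfsg.Agent.Lib.H29.Chev
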