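import Mathlib
import Cfsg.Prelude.Def_ChevStructure
import Cfsg.Agent.Lib.H29.CentDiag
import Cfsg.Agent.Lib.H29.ChevGen38

/-!
# The order of the centraliser of an element of the torus of a Chevalley group (generic), II
-/

set_option autoImplicit false
set_option linter.unusedSectionVars false
set_option linter.unusedSimpArgs false
set_option linter.unusedVariables false

namespace Cfsg.Agent.Lib.H29.Chev

open Cfsg.Lie Matrix

variable {D : ChevalleyDatum} {fd : FD} {fx : FX} {fc : FC} {fz : FZ} {F : Type*} [Field F]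

theorem card_sub_congr {G : Type*} [Group G] (A B : Subgroup G) (h : A = B) (P : G → Prop) :
    Nat.card {u : A // P u.val} = Nat.card {u : B // P u.val} := by
  subst h; rfl

namespace Cert12

variable (C : Cert12 D fd fx fc fz)
include C

/-- the centraliser of `z ∈ H` in `U` -/
theorem card_cent_pos (z : GL D.Idx F) (hz : z ∈ D.diagonalSubgroup F) :
    Nat.card {u : D.posUnipotent F // z * u.val = u.val * z} = Nat.card F ^ NzN D fd z := by
  rw [card_sub_congr _ _ C.posUnipotent_eq (fun u => z * u = u * z), C.card_cent_Vm z hz _ C.closed_true]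
  congr 1
  unfold NzN
  apply Nat.card_congr
  apply Equiv.subtypeEquivRight
  intro r
  unfold PosIn
  constructor
  · rintro ⟨⟨_, h2, h3⟩, h4⟩
    exact ⟨h3, h2, h4⟩
  · rintro ⟨h1, h2, h3⟩
    exact ⟨⟨trivial, h2, h1⟩, h3⟩

/-- the centraliser of `z ∈ H` in `U_m⁻` -/
theorem card_cent_Uw (z : GL D.Idx F) (hz : z ∈ D.diagonalSubgroup F) (m : GL D.Idx F)
    (hm : m ∈ D.monomialSubgroup F) (π : ℕ → ℕ) (hπ : C.c6.c2.Perm m π) :
    Nat.card {u : Uw D F m // z * u.val = u.val * z} =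
      Nat.card F ^ Nat.card {r : ℕ // r < fd.n ∧ fd.n / 2 ≤ r ∧ π r < fd.n / 2 ∧ dE D z r = 1} := by
  obtain ⟨⟨π', hπ', hl'⟩, _⟩ := C.perm_lin m hm
  have he := C.perm_unique m π π' hπ hπ'
  rw [card_sub_congr _ _ (Uw_eq_Vm (fd := fd) m (fun s hs => ((C.c6.isPos_iff s).mp hs).2)) (fun u => z * u = u * z),
    C.card_cent_Vm z hz]
  · congr 1
    apply Nat.card_congr
    apply Equiv.subtypeEquivRight
    intro r
    unfold PosIn
    constructor
    · rintro ⟨⟨h1, h2, h3⟩, h4⟩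
      exact ⟨h3, h2, (C.psiN_iff m π hπ r h3 h2).mp h1, h4⟩
    · rintro ⟨h1, h2, h3, h4⟩
      exact ⟨⟨(C.psiN_iff m π hπ r h1 h2).mpr h3, h2, h1⟩, h4⟩
  · apply C.closed_of_perm π' hl' (fun s hs => (hπ' s hs).1)
    intro r hr hpos
    rw [C.psiN_iff m π hπ r hr hpos, he r hr]

/-- the centraliser of `z ∈ H` in `B` -/
theorem card_cent_borel (z : GL D.Idx F) (hz : z ∈ D.diagonalSubgroup F) :
    Nat.card {b : D.borelSubgroup F // z * b.val = b.val * z} =
      Nat.card F ^ NzN D fd z * Nat.card (D.diagonalSubgroup F) := by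
  rw [← C.card_cent_pos z hz, ← Nat.card_prod]
  symm
  have hUB : D.posUnipotent F ≤ D.borelSubgroup F := le_sup_left
  have hHB : D.diagonalSubgroup F ≤ D.borelSubgroup F := le_sup_right
  apply Nat.card_congr
  refine Equiv.ofBijective
    (fun x : {u : D.posUnipotent F // z * u.val = u.val * z} × (D.diagonalSubgroup F) =>
      (⟨⟨x.1.val.val * x.2.val, mul_mem (hUB x.1.val.property) (hHB x.2.property)⟩, by
        simp only
        have h1 := x.1.property
        have h2 := C.c6.c2.diag_comm _ _ hz x.2.property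
        rw [← mul_assoc, h1, mul_assoc, h2, mul_assoc]⟩ :
        {b : D.borelSubgroup F // z * b.val = b.val * z})) ⟨?_, ?_⟩
  · rintro ⟨⟨⟨u, hu⟩, hcu⟩, ⟨h, hh⟩⟩ ⟨⟨⟨u', hu'⟩, hcu'⟩, ⟨h', hh'⟩⟩ e
    have e' : u * h = u' * h' :=
      congrArg (fun b : {b : D.borelSubgroup F // z * b.val = b.val * z} => b.val.val) e
    have h1 : u'⁻¹ * u ∈ D.posUnipotent F ⊓ D.diagonalSubgroup F := by
      refine Subgroup.mem_inf.mpr ⟨mul_mem (inv_mem hu') hu, ?_⟩
      have : u'⁻¹ * u = h' * h⁻¹ := by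
        have : u'⁻¹ * u = u'⁻¹ * (u * h) * h⁻¹ := by group
        rw [this, e']; group
      rw [this]
      exact mul_mem hh' (inv_mem hh)
    rw [C.c6.c2.pos_inf_diag, Subgroup.mem_bot] at h1
    have hu_eq : u = u' := by
      have : u = u' * (u'⁻¹ * u) := by group
      rw [this, h1, mul_one]
    subst hu_eq
    have hh_eq : h = h' := mul_left_cancel e'
    subst hh_eq
    rfl
  · rintro ⟨⟨b, hb⟩, hcb⟩
    simp only at hcb
    obtain ⟨u, hu, h, hh, rfl⟩ := C.c6.c2.borel_mem b hb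
    have h2 := C.c6.c2.diag_comm _ _ hz hh
    have hcu : z * u = u * z := by
      have e1 : z * u * h = u * z * h := by
        calc z * u * h = z * (u * h) := by group
          _ = u * h * z := hcb
          _ = u * (h * z) := by group
          _ = u * (z * h) := by rw [h2]
          _ = u * z * h := by group
      exact mul_right_cancel e1
    exact ⟨⟨⟨⟨u, hu⟩, hcu⟩, ⟨h, hh⟩⟩, rfl⟩

/-- the components of the canonical form of an element centralising `z ∈ H` centralise `z` -/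
theorem cent_diag_parts (z : GL D.Idx F) (hzd : z ∈ D.diagonalSubgroup F) (b n u : GL D.Idx F)
    (hb : b ∈ D.borelSubgroup F) (hn : n ∈ D.monomialSubgroup F) (hu : u ∈ Uw D F n)
    (hc : z * (b * n * u) = b * n * u * z) : z * b = b * z ∧ z * n = n * z ∧ z * u = u * z := by
  have hk' : n⁻¹ * (z * n * z⁻¹) ∈ D.diagonalSubgroup F := by
    have h1 : n⁻¹ * z * n ∈ D.diagonalSubgroup F := by
      have := (Subgroup.mem_normalizer_iff.mp (C.c6.c2.monomial_le_normalizer_diag (inv_mem hn)) z).mp hzd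
      rwa [inv_inv] at this
    have : n⁻¹ * (z * n * z⁻¹) = n⁻¹ * z * n * z⁻¹ := by group
    rw [this]
    exact mul_mem h1 (inv_mem hzd)
  set k' := n⁻¹ * (z * n * z⁻¹) with hk'def
  have hk2 : n * k' * n⁻¹ ∈ D.diagonalSubgroup F :=
    (Subgroup.mem_normalizer_iff.mp (C.c6.c2.monomial_le_normalizer_diag hn) k').mp hk'
  have hzb : z * b * z⁻¹ ∈ D.borelSubgroup F :=
    mul_mem (mul_mem (C.c6.diag_le_borel hzd) hb) (inv_mem (C.c6.diag_le_borel hzd))
  set b' := z * b * z⁻¹ * (n * k' * n⁻¹) with hb'def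
  have hb' : b' ∈ D.borelSubgroup F := mul_mem hzb (C.c6.diag_le_borel hk2)
  have hu' : z * u * z⁻¹ ∈ Uw D F n := C.diag_conj_Uw' _ n u hzd hu
  have e1 : b' * n * (z * u * z⁻¹) = b * n * u := by
    have : b' * n * (z * u * z⁻¹) = z * (b * n * u) * z⁻¹ := by
      rw [hb'def, hk'def]; group
    rw [this, hc]; group
  obtain ⟨-, hun⟩ := C.c6.canonical_form.2 b' b n n _ u hb' hb hn hn hu' hu e1
  obtain ⟨e2, e3⟩ := hun rfl
  obtain ⟨u₁, hu₁, h₁, hh₁, rfl⟩ := C.c6.c2.borel_mem b hb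
  have e5 : z * h₁ * z⁻¹ = h₁ := by
    have := C.c6.c2.diag_comm _ _ hzd hh₁
    rw [this]; group
  have e4 : u₁⁻¹ * (z * u₁ * z⁻¹) = h₁ * (n * k' * n⁻¹)⁻¹ * h₁⁻¹ := by
    have e6 : z * (u₁ * h₁) * z⁻¹ = (z * u₁ * z⁻¹) * h₁ := by
      rw [C.conj_mul3, e5]
    rw [hb'def, e6] at e2
    have : z * u₁ * z⁻¹ = u₁ * h₁ * (n * k' * n⁻¹)⁻¹ * h₁⁻¹ := by
      rw [← e2]; group
    rw [this]; group
  have hzu₁ : z * u₁ * z⁻¹ ∈ D.posUnipotent F :=
    (Subgroup.mem_normalizer_iff.mp (C.c6.c2.diag_le_normalizer_pos hzd) u₁).mp hu₁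
  have h5 : u₁⁻¹ * (z * u₁ * z⁻¹) ∈ D.posUnipotent F ⊓ D.diagonalSubgroup F :=
    Subgroup.mem_inf.mpr ⟨mul_mem (inv_mem hu₁) hzu₁, by
      rw [e4]; exact mul_mem (mul_mem hh₁ (inv_mem hk2)) (inv_mem hh₁)⟩
  rw [C.c6.c2.pos_inf_diag, Subgroup.mem_bot] at h5
  have e7 : z * u₁ * z⁻¹ = u₁ := by
    have : z * u₁ * z⁻¹ = u₁ * (u₁⁻¹ * (z * u₁ * z⁻¹)) := by group
    rw [this, h5, mul_one]
  have e8 : k' = 1 := by
    rw [h5] at e4
    have : (n * k' * n⁻¹)⁻¹ = 1 := by
      have : (n * k' * n⁻¹)⁻¹ = h₁⁻¹ * (h₁ * (n * k' * n⁻¹)⁻¹ * h₁⁻¹) * h₁ := by group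
      rw [this, ← e4]; group
    have h9 : n * k' * n⁻¹ = 1 := inv_eq_one.mp this
    have : k' = n⁻¹ * (n * k' * n⁻¹) * n := by group
    rw [this, h9]; group
  have e10 : z * n * z⁻¹ = n := by
    have : z * n * z⁻¹ = n * k' := by rw [hk'def]; group
    rw [this, e8, mul_one]
  refine ⟨?_, ?_, ?_⟩
  · have : z * (u₁ * h₁) * z⁻¹ = u₁ * h₁ := by rw [C.conj_mul3, e7, e5]
    calc z * (u₁ * h₁) = (z * (u₁ * h₁) * z⁻¹) * z := by group
      _ = u₁ * h₁ * z := by rw [this]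
  · calc z * n = (z * n * z⁻¹) * z := by group
      _ = n * z := by rw [e10]
  · calc z * u = (z * u * z⁻¹) * z := by group
      _ = u * z := by rw [e3]

/-- an element of `N` commutes with `z ∈ H` iff its permutation preserves the root values of `z` -/
theorem comm_iff_perm (z : GL D.Idx F) (hz : z ∈ D.diagonalSubgroup F) (m : GL D.Idx F)
    (hm : m ∈ D.monomialSubgroup F) (π : ℕ → ℕ) (hπ : C.c6.c2.Perm m π) :
    z * m = m * z ↔ ∀ r < fd.n, dE D z (π r) = dE D z r := by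
  constructor
  · intro hc r hr
    exact C.perm_dE_of_comm z hz m hm hc π hπ r hr
  · intro h
    have hk : m * z * m⁻¹ ∈ D.diagonalSubgroup F :=
      (Subgroup.mem_normalizer_iff.mp (C.c6.c2.monomial_le_normalizer_diag hm) z).mp hz
    obtain ⟨_, ⟨ρ, hρ⟩⟩ := C.c6.perm_of_mem m hm
    have hinv := C.perm_inv m π ρ hπ hρ
    have e : m * z * m⁻¹ = z := by
      apply C.diag_ext _ _ hk hz
      intro i hi
      have hs := C.c6.c2.simple_lt i hi
      have h1 := (hρ _ hs).1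
      have h2 := C.dE_conj m z hm hz π hπ (ρ (fd.simples.getD i 0)) h1
      rw [hinv.2 _ hs] at h2
      rw [h2, ← h _ h1, hinv.2 _ hs]
    calc z * m = (m * z * m⁻¹) * m := by rw [e]
      _ = m * z := by group

theorem comm_rep_iff (z : GL D.Idx F) (hz : z ∈ D.diagonalSubgroup F) (σ : RealW C F) :
    z * C.rep σ = C.rep σ * z ↔ FixZ D fd z σ.val :=
  C.comm_iff_perm z hz _ (C.rep_mem σ) _ (C.rep_perm σ)

end Cert12

end Cfsg.Agent.Lib.H29.Chev
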