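import Mathlib
import Cfsg.Prelude.Def_ChevStructure
import Cfsg.Agent.Lib.H29.CentDiag2

/-!
# The order of the centraliser of an element of the torus of a Chevalley group (generic), III
-/

set_option autoImplicit false
set_option linter.unusedSectionVars false
set_option linter.unusedSimpArgs false
set_option linter.unusedVariables false

namespace Cfsg.Agent.Lib.H29.Chev

open Cfsg.Lie Matrix

variable {D : ChevalleyDatum} {fd : FD} {fx : FX} {fc : FC} {fz : FZ} {F : Type*} [Field F]

namespace Cert12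

variable (C : Cert12 D fd fx fc fz)
include C

/-- the element `z ∈ H` as an element of the Chevalley group -/
def zGrp (z : GL D.Idx F) (hz : z ∈ D.diagonalSubgroup F) : D.group F := ⟨z, C.c6.c2.diag_le_group hz⟩

theorem mem_cent_iff (z : GL D.Idx F) (hz : z ∈ D.diagonalSubgroup F) (g : D.group F) :
    g ∈ Subgroup.centralizer ({C.zGrp z hz} : Set (D.group F)) ↔ z * g.val = g.val * z := by
  rw [Subgroup.mem_centralizer_iff]
  constructor
  · intro h
    have := h (C.zGrp z hz) rfl
    exact congrArg Subtype.val this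
  · intro h k hk
    rw [Set.mem_singleton_iff] at hk
    subst hk
    exact Subtype.ext h

/-- the map `(σ, b, u) ↦ b n_σ u` on the triples centralising `z` -/
noncomputable def cmapZ (z : GL D.Idx F) (hz : z ∈ D.diagonalSubgroup F)
    (x : Σ σ : {σ : RealW C F // z * C.rep σ = C.rep σ * z},
      {b : D.borelSubgroup F // z * b.val = b.val * z} ×
        {u : Uw D F (C.rep σ.val) // z * u.val = u.val * z}) :
    Subgroup.centralizer ({C.zGrp z hz} : Set (D.group F)) :=
  ⟨C.cmap ⟨x.1.val, x.2.1.val, x.2.2.val⟩, by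
    rw [C.mem_cent_iff]
    simp only [cmap]
    have h1 := x.1.property
    have h2 := x.2.1.property
    have h3 := x.2.2.property
    calc z * (x.2.1.val.val * C.rep x.1.val * x.2.2.val.val)
        = (z * x.2.1.val.val) * C.rep x.1.val * x.2.2.val.val := by group
      _ = x.2.1.val.val * (z * C.rep x.1.val) * x.2.2.val.val := by rw [h2]; group
      _ = x.2.1.val.val * C.rep x.1.val * (z * x.2.2.val.val) := by rw [h1]; group
      _ = x.2.1.val.val * C.rep x.1.val * x.2.2.val.val * z := by rw [h3]; group⟩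

theorem cmapZ_bijective (z : GL D.Idx F) (hz : z ∈ D.diagonalSubgroup F) :
    Function.Bijective (C.cmapZ z hz) := by
  constructor
  · rintro ⟨⟨σ, hσ⟩, ⟨b, hb⟩, ⟨u, hu⟩⟩ ⟨⟨σ', hσ'⟩, ⟨b', hb'⟩, ⟨u', hu'⟩⟩ h
    have h1 : C.cmap ⟨σ, b, u⟩ = C.cmap ⟨σ', b', u'⟩ := congrArg Subtype.val h
    have h2 := C.cmap_bijective.1 h1
    obtain ⟨e1, e2⟩ := Sigma.mk.inj_iff.mp h2
    subst e1
    have e3 := eq_of_heq e2
    obtain ⟨e4, e5⟩ := Prod.mk.inj e3
    subst e4
    subst e5
    rfl
  · rintro ⟨g, hg⟩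
    obtain ⟨⟨σ, b, u⟩, rfl⟩ := C.cmap_bijective.2 g
    rw [C.mem_cent_iff] at hg
    simp only [cmap] at hg
    obtain ⟨k1, k2, k3⟩ := C.cent_diag_parts z hz b.val (C.rep σ) u.val b.property (C.rep_mem σ) u.property hg
    exact ⟨⟨⟨σ, k2⟩, ⟨b, k1⟩, ⟨u, k3⟩⟩, rfl⟩

/-- **the order of the centraliser of an element of the torus** -/
theorem card_centralizer_diag [Finite F] (z : GL D.Idx F) (hz : z ∈ D.diagonalSubgroup F) :
    Nat.card (Subgroup.centralizer ({(⟨z, C.c6.c2.diag_le_group hz⟩ : D.group F)} : Set (D.group F))) =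
      Nat.card (D.diagonalSubgroup F) * Nat.card F ^ NzN D fd z *
        ∑ᶠ σ : {σ : RealW C F // FixZ D fd z σ.val}, Nat.card F ^ lzN D fd z σ.val.val := by
  classical
  have i0 : Fintype (RealW C F) := Fintype.ofFinite _
  have i1 : Fintype {σ : RealW C F // z * C.rep σ = C.rep σ * z} := Fintype.ofFinite _
  have i2 : Fintype {σ : RealW C F // FixZ D fd z σ.val} := Fintype.ofFinite _
  change Nat.card (Subgroup.centralizer ({C.zGrp z hz} : Set (D.group F))) = _
  rw [← Nat.card_congr (Equiv.ofBijective _ (C.cmapZ_bijective z hz)), Nat.card_sigma,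
    finsum_eq_sum_of_fintype, Finset.mul_sum]
  refine Fintype.sum_equiv (Equiv.subtypeEquivRight (fun σ => C.comm_rep_iff z hz σ)) _ _ ?_
  intro σ
  rw [Nat.card_prod, C.card_cent_borel z hz, C.card_cent_Uw z hz _ (C.rep_mem σ.val) _ (C.rep_perm σ.val)]
  simp only [Equiv.subtypeEquivRight_apply_coe]
  unfold lzN
  ring

end Cert12

end Cfsg.Agent.Lib.H29.Chev
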