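import Mathlib
import Cfsg.Prelude.Def_ChevStructure
import Cfsg.Prelude.Def_LieTwisted
import Cfsg.Prelude.Def_LieExceptional
import Cfsg.Agent.Lib.H29.ChevRee20
import Cfsg.Agent.S0319

/-!
# The Ree groups `²G₂(3^(2m+1))`, `m ≥ 1`, are simple
-/

set_option autoImplicit false
set_option linter.unusedSectionVars false
set_option linter.unusedSimpArgs false
set_option linter.unusedVariables false

namespace Cfsg.Agent.Lib.H29.Chev

open Cfsg.Lie Matrix

section Ree

variable {K : Type*} [Field K] [CharP K 3] [Fintype K]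

theorem tw_simple_G2 (m : ℕ) (hK : Fintype.card K = 3 ^ (2 * m + 1)) (hm : 1 ≤ m) :
    IsSimpleGroup ↥(twistedG2 K (3 ^ m)) ∧ ¬ IsMulCommutative ↥(twistedG2 K (3 ^ m)) := by
  have hperf := tw_perfect_G2 m hK hm
  have hcore := tw_borel_core_G2 m hK
  have hirr : (reeBN m hK).Irreducible := by
    intro J hJ hJne hJc
    exfalso
    obtain ⟨s, hs⟩ := hJne
    obtain ⟨s', hs', hs'J⟩ := hJc
    have h1 : s = reeN0 K m := hJ hs
    have h2 : s' = reeN0 K m := hs'
    apply hs'J
    rw [h2, ← h1]; exact hs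
  have : Nontrivial ↥(twistedG2 K (3 ^ m)) := by
    refine ⟨⟨⟨uR m 1 0 0, uR_mem_tw m _ _ _⟩, 1, ?_⟩⟩
    intro h
    have := congrArg Subtype.val h
    simp only [OneMemClass.coe_one] at this
    exact one_ne_zero (uR_eq_one m _ _ _ this).1
  have hsolv : Group.IsSolvable ↥((reeBN m hK).B) := by
    have := cert12_G2.c6.c2.borel_solvable (F := K)
    show Group.IsSolvable ↥((chevG2.borelSubgroup K ⊓ twistedG2 K (3 ^ m)).subgroupOf (twistedG2 K (3 ^ m)))
    have hle : chevG2.borelSubgroup K ⊓ twistedG2 K (3 ^ m) ≤ twistedG2 K (3 ^ m) := inf_le_right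
    have hle2 : chevG2.borelSubgroup K ⊓ twistedG2 K (3 ^ m) ≤ chevG2.borelSubgroup K := inf_le_left
    exact Group.isSolvable_of_isSolvable_injective
      (f := (Subgroup.inclusion hle2).comp (Subgroup.subgroupOfEquivOfLe hle).toMonoidHom)
      ((Subgroup.inclusion_injective hle2).comp (Subgroup.subgroupOfEquivOfLe hle).injective)
  refine ⟨Cfsg.Agent.S0319.result (reeBN m hK) hirr hsolv hperf hcore, ?_⟩
  intro hc
  have : commutator ↥(twistedG2 K (3 ^ m)) = ⊥ := by
    rw [commutator_def, Subgroup.commutator_eq_bot_iff_le_centralizer]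
    intro g _ h _
    exact hc.is_comm.comm h g
  rw [this] at hperf
  exact bot_ne_top hperf

end Ree

end Cfsg.Agent.Lib.H29.Chev
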