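import Mathlib
import Cfsg.Prelude.Def_ChevStructure
import Cfsg.Prelude.Def_LieTwisted
import Cfsg.Prelude.Def_LieExceptional
import Cfsg.Agent.Lib.H29.ChevRee20

/-!
# Elements of order three in the unipotent subgroup of the Ree group
-/

set_option autoImplicit false
set_option linter.unusedSectionVars false
set_option linter.unusedSimpArgs false
set_option linter.unusedVariables false

namespace Cfsg.Agent.Lib.H29.Chev

open Cfsg.Lie Matrix

section Ree

variable {K : Type*} [Field K] [CharP K 3] [Fintype K]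

theorem uR_cube (m : ℕ) (hK : Fintype.card K = 3 ^ (2 * m + 1)) (t u v : K) :
    uR m t u v ^ 3 = uR m 0 0 (-(reeTheta K m t ^ 3 * t ^ 2)) := by
  have h3 : (3 : K) = 0 := by
    have := CharP.cast_eq_zero K 3
    exact_mod_cast this
  rw [pow_succ, pow_two, uR_mul m hK, uR_mul m hK]
  have e1 : t + t + t = 0 := by
    have : t + t + t = 3 * t := by ring
    rw [this, h3, zero_mul]
  have e2 : u + u - reeTheta K m t ^ 3 * t + u - reeTheta K m t ^ 3 * (t + t) = 0 := by
    have : u + u - reeTheta K m t ^ 3 * t + u - reeTheta K m t ^ 3 * (t + t) = 3 * (u - reeTheta K m t ^ 3 * t) := by ring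
    rw [this, h3, zero_mul]
  have e3 : v + v - t * u - reeTheta K m t ^ 3 * t ^ 2 + reeTheta K m t ^ 3 * t * t + v - t * (u + u - reeTheta K m t ^ 3 * t) -
      reeTheta K m t ^ 3 * (t + t) ^ 2 + reeTheta K m t ^ 3 * (t + t) * t = -(reeTheta K m t ^ 3 * t ^ 2) := by
    have : v + v - t * u - reeTheta K m t ^ 3 * t ^ 2 + reeTheta K m t ^ 3 * t * t + v - t * (u + u - reeTheta K m t ^ 3 * t) -
      reeTheta K m t ^ 3 * (t + t) ^ 2 + reeTheta K m t ^ 3 * (t + t) * t - -(reeTheta K m t ^ 3 * t ^ 2) =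
        3 * (v - t * u) := by ring
    rw [h3, zero_mul, sub_eq_zero] at this
    exact this
  rw [e1, e2, e3]

theorem uR_cube_eq_one_iff (m : ℕ) (hK : Fintype.card K = 3 ^ (2 * m + 1)) (t u v : K) :
    uR m t u v ^ 3 = 1 ↔ t = 0 := by
  rw [uR_cube m hK]
  constructor
  · intro h
    have := (uR_eq_one m _ _ _ h).2.2
    rw [neg_eq_zero, mul_eq_zero] at this
    rcases this with h' | h'
    · have h'' := pow_eq_zero_iff (three_ne_zero) |>.mp h'
      rw [reeTheta_apply] at h''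
      exact pow_eq_zero_iff (by positivity) |>.mp h''
    · exact pow_eq_zero_iff (two_ne_zero) |>.mp h'
  · intro h
    rw [h, map_zero]
    simp only [ne_eq, OfNat.ofNat_ne_zero, not_false_eq_true, zero_pow, mul_zero, neg_zero]
    exact uR_zero m

/-- the number of elements of order three of `U¹` -/
theorem card_order_three (m : ℕ) (hK : Fintype.card K = 3 ^ (2 * m + 1)) :
    Nat.card {u : ↥(chevG2.posUnipotent K ⊓ twistedG2 K (3 ^ m)) // orderOf u = 3} = (3 ^ (2 * m + 1)) ^ 2 - 1 := by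
  classical
  have hmem : ∀ a b : K, uR m 0 a b ∈ chevG2.posUnipotent K ⊓ twistedG2 K (3 ^ m) :=
    fun a b => (mem_pos_inf_tw m hK _).mpr ⟨_, _, _, rfl⟩
  have hord : ∀ (g : ↥(chevG2.posUnipotent K ⊓ twistedG2 K (3 ^ m))), orderOf g = 3 ↔ (g : GL chevG2.Idx K) ^ 3 = 1 ∧ (g : GL chevG2.Idx K) ≠ 1 := by
    intro g
    rw [orderOf_eq_prime_iff]
    constructor
    · rintro ⟨h1, h2⟩
      refine ⟨?_, fun h => h2 (Subtype.ext h)⟩
      have := congrArg Subtype.val h1
      simpa using this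
    · rintro ⟨h1, h2⟩
      refine ⟨Subtype.ext (by simpa using h1), fun h => h2 ?_⟩
      rw [h]; rfl
  have hbij : Function.Bijective (fun x : {p : K × K // p ≠ 0} =>
      (⟨⟨uR m 0 x.1.1 x.1.2, hmem _ _⟩, by
        rw [hord]
        refine ⟨(uR_cube_eq_one_iff m hK _ _ _).mpr rfl, fun h => x.2 ?_⟩
        obtain ⟨_, h1, h2⟩ := uR_eq_one m _ _ _ h
        exact Prod.ext h1 h2⟩ :
        {u : ↥(chevG2.posUnipotent K ⊓ twistedG2 K (3 ^ m)) // orderOf u = 3})) := by
    constructor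
    · rintro ⟨⟨a, b⟩, hab⟩ ⟨⟨a', b'⟩, hab'⟩ h
      have h' : uR m 0 a b = uR m 0 a' b' := congrArg Subtype.val (congrArg Subtype.val h)
      obtain ⟨_, rfl, rfl⟩ := uR_inj m _ _ _ _ _ _ h'
      rfl
    · rintro ⟨⟨g, hg⟩, hgo⟩
      obtain ⟨t, u, v, rfl⟩ := (mem_pos_inf_tw m hK g).mp hg
      rw [hord] at hgo
      have ht : t = 0 := (uR_cube_eq_one_iff m hK _ _ _).mp hgo.1
      subst ht
      refine ⟨⟨(u, v), ?_⟩, rfl⟩
      intro h
      apply hgo.2
      have h1 : u = 0 := congrArg Prod.fst h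
      have h2 : v = 0 := congrArg Prod.snd h
      show uR m 0 u v = 1
      rw [h1, h2, uR_zero]
  rw [← Nat.card_congr (Equiv.ofBijective _ hbij), Nat.card_eq_fintype_card, Fintype.card_subtype_compl,
    Fintype.card_subtype_eq, Fintype.card_prod, hK]
  ring_nf

end Ree

end Cfsg.Agent.Lib.H29.Chev
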