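import Mathlib
import Cfsg.Prelude.Def_ChevStructure
import Cfsg.Prelude.Def_LieTwisted
import Cfsg.Prelude.Def_LieExceptional
import Cfsg.Agent.Lib.H29.ChevRee22

/-!
# The action of the torus of the Ree group on its unipotent subgroup
-/

set_option autoImplicit false
set_option linter.unusedSectionVars false
set_option linter.unusedSimpArgs false
set_option linter.unusedVariables false

namespace Cfsg.Agent.Lib.H29.Chev

open Cfsg.Lie Matrix

section Ree

variable {K : Type*} [Field K] [CharP K 3] [Fintype K]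

/-- `φ(φ(z)) = z³` for `φ(z) = θ(z)³` -/
theorem phi_phi (m : ℕ) (hK : Fintype.card K = 3 ^ (2 * m + 1)) (z : K) :
    reeTheta K m (reeTheta K m z ^ 3) ^ 3 = z ^ 3 := by
  rw [map_pow, ← pow_mul, mul_comm, pow_mul, theta_theta_cube m hK]

/-- the second character of the torus is trivial only on `±1` -/
theorem chi2_eq_one (m : ℕ) (hK : Fintype.card K = 3 ^ (2 * m + 1)) (z : K) (hz : z ≠ 0)
    (h : reeTheta K m z ^ 3 * z = 1) : z ^ 2 = 1 := by
  have h' := congrArg (fun x => reeTheta K m x ^ 3) h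
  simp only [map_mul, mul_pow, map_one, one_pow] at h'
  rw [phi_phi m hK] at h'
  -- `z³ w = 1` and `w z = 1`
  set w := reeTheta K m z ^ 3 with hw
  have hw0 : w ≠ 0 := by
    intro h0; rw [h0, zero_mul] at h; exact zero_ne_one h
  have e : w * z * z ^ 2 = w * z * 1 := by
    have : w * z * z ^ 2 = z ^ 3 * w := by ring
    rw [this, h', h, mul_one]
  exact mul_left_cancel₀ (mul_ne_zero hw0 hz) e

/-- the third character of the torus is faithful -/
theorem chi3_eq_one (m : ℕ) (hK : Fintype.card K = 3 ^ (2 * m + 1)) (z : K) (hz : z ≠ 0)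
    (h : reeTheta K m z ^ 3 * z ^ 2 = 1) : z = 1 := by
  have h' := congrArg (fun x => reeTheta K m x ^ 3) h
  simp only [map_mul, mul_pow, map_one, one_pow, map_pow] at h'
  have hpp := phi_phi m hK z
  rw [map_pow] at hpp
  set w := reeTheta K m z ^ 3 with hw
  -- `h : w z² = 1`, `h' : (θ w)³ (θ z ^2)^3 = 1`
  have h'' : z ^ 3 * w ^ 2 = 1 := by
    rw [← h', ← hpp, hw]; ring
  have e : z * z = z * 1 := by
    have : z * z = z ^ 3 * w ^ 2 * z ^ 2 := by rw [h'', one_mul, pow_two]
    rw [this]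
    have : z ^ 3 * w ^ 2 * z ^ 2 = z * (w * z ^ 2) ^ 2 := by ring
    rw [this, h, one_pow]
  exact mul_left_cancel₀ hz e

/-- an element of the torus commuting with `u(t,u,v)` -/
theorem hR_comm_uR (m : ℕ) (hK : Fintype.card K = 3 ^ (2 * m + 1)) (z : Kˣ) (t u v : K)
    (h : hR K m z * uR m t u v = uR m t u v * hR K m z) :
    (z : K) * t = t ∧ reeTheta K m (z : K) ^ 3 * z * u = u ∧ reeTheta K m (z : K) ^ 3 * (z : K) ^ 2 * v = v := by
  have := hR_conj_uR m hK z t u v
  rw [h, mul_inv_cancel_right] at this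
  obtain ⟨h1, h2, h3⟩ := uR_inj m _ _ _ _ _ _ this
  exact ⟨h1.symm, h2.symm, h3.symm⟩

/-- the centralizer in the torus of a non-trivial element of `U¹` -/
theorem hR_comm_uR_cases (m : ℕ) (hK : Fintype.card K = 3 ^ (2 * m + 1)) (z : Kˣ) (t u v : K)
    (h : hR K m z * uR m t u v = uR m t u v * hR K m z) (hne : uR m t u v ≠ 1) : (z : K) ^ 2 = 1 := by
  obtain ⟨h1, h2, h3⟩ := hR_comm_uR m hK z t u v h
  by_cases ht : t = 0
  · by_cases hv : v = 0
    · have hu : u ≠ 0 := by
        intro hu
        apply hne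
        rw [ht, hu, hv, uR_zero]
      apply chi2_eq_one m hK _ z.ne_zero
      have : (reeTheta K m (z : K) ^ 3 * z - 1) * u = 0 := by rw [sub_mul, h2, one_mul, sub_self]
      rcases mul_eq_zero.mp this with h' | h'
      · exact sub_eq_zero.mp h'
      · exact absurd h' hu
    · have : (reeTheta K m (z : K) ^ 3 * (z : K) ^ 2 - 1) * v = 0 := by rw [sub_mul, h3, one_mul, sub_self]
      rcases mul_eq_zero.mp this with h' | h'
      · rw [chi3_eq_one m hK _ z.ne_zero (sub_eq_zero.mp h'), one_pow]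
      · exact absurd h' hv
  · have : ((z : K) - 1) * t = 0 := by rw [sub_mul, h1, one_mul, sub_self]
    rcases mul_eq_zero.mp this with h' | h'
    · rw [sub_eq_zero.mp h', one_pow]
    · exact absurd h' ht

/-- elements of odd order of the torus act without fixed points on `U¹` -/
theorem odd_torus_fixed_point_free (m : ℕ) (hK : Fintype.card K = 3 ^ (2 * m + 1)) (h : GL chevG2.Idx K)
    (hh : h ∈ chevG2.diagonalSubgroup K ⊓ twistedG2 K (3 ^ m)) (h1 : h ≠ 1) (hodd : Odd (orderOf h)) :
    (chevG2.posUnipotent K ⊓ twistedG2 K (3 ^ m)) ⊓ Subgroup.centralizer {h} = ⊥ := by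
  obtain ⟨z, rfl⟩ := (mem_diag_inf_tw m hK h).mp hh
  rw [orderOf_injective (hR K m) (hR_injective m) z] at hodd
  rw [eq_bot_iff]
  intro g hg
  obtain ⟨hgU, hgC⟩ := Subgroup.mem_inf.mp hg
  obtain ⟨t, u, v, rfl⟩ := (mem_pos_inf_tw m hK g).mp hgU
  rw [Subgroup.mem_bot]
  by_contra hne
  rw [Subgroup.mem_centralizer_iff] at hgC
  have hc := hgC _ (Set.mem_singleton _)
  have hz2 := hR_comm_uR_cases m hK z t u v hc hne
  have hz2' : z ^ 2 = 1 := by
    apply Units.ext
    rw [Units.val_pow_eq_pow_val, hz2]; rfl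
  have hd := orderOf_dvd_of_pow_eq_one hz2'
  have h1' : orderOf z = 1 := by
    rcases (Nat.dvd_prime Nat.prime_two).mp hd with h' | h'
    · exact h'
    · rw [h'] at hodd
      exact absurd hodd (by decide)
  rw [orderOf_eq_one_iff] at h1'
  apply h1
  rw [h1', map_one]

/-- half of the units of the field have odd order -/
theorem card_odd_units (m : ℕ) (hK : Fintype.card K = 3 ^ (2 * m + 1)) :
    2 * Nat.card {z : Kˣ // Odd (orderOf z)} = 3 ^ (2 * m + 1) - 1 := by
  classical
  have hq4 := card_mod_four m hK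
  have hcard : Fintype.card Kˣ = Fintype.card K - 1 := Fintype.card_units K
  obtain ⟨k, hk⟩ : ∃ k, Fintype.card K = 4 * k + 3 := ⟨Fintype.card K / 4, by omega⟩
  have hcard' : Fintype.card Kˣ = 2 * (2 * k + 1) := by rw [hcard, hk]; omega
  have hm1 : (-1 : Kˣ) ≠ 1 := by
    intro h
    have h' : (-1 : K) = 1 := by
      have := congrArg Units.val h
      simpa using this
    have h3 : (3 : K) = 0 := by
      have := CharP.cast_eq_zero K 3
      exact_mod_cast this
    have : (1 : K) = 0 := by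
      have e : (1 : K) = 3 - 1 + (-1) := by ring
      rw [e, h3, h']; ring
    exact one_ne_zero this
  have hpow : ∀ x : Kˣ, x ^ (2 * (2 * k + 1)) = 1 := by
    intro x
    rw [← hcard']
    exact pow_card_eq_one
  have hkey : ∀ x : Kˣ, Odd (orderOf x) ↔ ¬ Odd (orderOf (-x)) := by
    intro x
    constructor
    · intro ho ho'
      have e1 : (-x) ^ (orderOf x * orderOf (-x)) = 1 := by
        rw [mul_comm, pow_mul, pow_orderOf_eq_one, one_pow]
      have e2 : (-x) ^ (orderOf x * orderOf (-x)) = -1 := by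
        rw [neg_pow, pow_mul x, pow_orderOf_eq_one, one_pow, mul_one]
        exact (ho.mul ho').neg_one_pow
      exact hm1 (e2.symm.trans e1)
    · intro hno
      by_contra hne
      apply hno
      have hx := hpow x
      rw [pow_mul'] at hx
      -- `(x^(2k+1))² = 1`
      have hsq : ((x ^ (2 * k + 1) : Kˣ) : K) ^ 2 = 1 := by
        have := congrArg Units.val hx
        simpa using this
      have hcases : x ^ (2 * k + 1) = 1 ∨ x ^ (2 * k + 1) = -1 := by
        have : (((x ^ (2 * k + 1) : Kˣ) : K) - 1) * (((x ^ (2 * k + 1) : Kˣ) : K) + 1) = 0 := by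
          have : (((x ^ (2 * k + 1) : Kˣ) : K) - 1) * (((x ^ (2 * k + 1) : Kˣ) : K) + 1) =
            ((x ^ (2 * k + 1) : Kˣ) : K) ^ 2 - 1 := by ring
          rw [this, hsq, sub_self]
        rcases mul_eq_zero.mp this with h' | h'
        · left; apply Units.ext; rw [sub_eq_zero.mp h']; rfl
        · right; apply Units.ext; rw [eq_neg_of_add_eq_zero_left h']; rfl
      rcases hcases with h' | h'
      · exfalso
        apply hne
        have hd := orderOf_dvd_of_pow_eq_one h'
        exact Odd.of_dvd_nat ⟨k, rfl⟩ hd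
      · have : (-x) ^ (2 * k + 1) = 1 := by
          rw [neg_pow, h', Odd.neg_one_pow ⟨k, rfl⟩]
          simp
        have hd := orderOf_dvd_of_pow_eq_one this
        exact Odd.of_dvd_nat ⟨k, rfl⟩ hd
  have e : {z : Kˣ // Odd (orderOf z)} ≃ {z : Kˣ // ¬ Odd (orderOf z)} :=
    Equiv.subtypeEquiv (Equiv.neg Kˣ) (fun a => hkey a)
  have h1 := Fintype.card_congr e
  rw [Fintype.card_subtype_compl] at h1
  have h2 : Fintype.card {z : Kˣ // Odd (orderOf z)} ≤ Fintype.card Kˣ := Fintype.card_subtype_le _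
  rw [Nat.card_eq_fintype_card, ← hK, ← hcard]
  omega

/-- half of the elements of the torus `H¹` have odd order -/
theorem card_odd_torus (m : ℕ) (hK : Fintype.card K = 3 ^ (2 * m + 1)) :
    2 * Nat.card {h : ↥(chevG2.diagonalSubgroup K ⊓ twistedG2 K (3 ^ m)) // Odd (orderOf h)} = 3 ^ (2 * m + 1) - 1 := by
  rw [← card_odd_units m hK]
  congr 1
  apply Nat.card_congr
  exact (Equiv.subtypeEquiv (diagInfTwEquiv m hK).toEquiv (fun a => by
    rw [MulEquiv.toEquiv_eq_coe, MulEquiv.coe_toEquiv, MulEquiv.orderOf_eq])).symm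

end Ree

end Cfsg.Agent.Lib.H29.Chev
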