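import Mathlib
import Cfsg.Prelude.Def_ChevStructure
import Cfsg.Prelude.Def_LieTwisted
import Cfsg.Prelude.Def_LieExceptional
import Cfsg.Agent.Lib.H29.ChevRee23

/-!
# The Sylow 3-subgroups of the Ree group
-/

set_option autoImplicit false
set_option linter.unusedSectionVars false
set_option linter.unusedSimpArgs false
set_option linter.unusedVariables false

namespace Cfsg.Agent.Lib.H29.Chev

open Cfsg.Lie Matrix

section Ree

variable {K : Type*} [Field K] [CharP K 3] [Fintype K]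

/-- `B` normalizes `U` -/
theorem borel_conj_pos (k u : GL chevG2.Idx K) (hk : k ∈ chevG2.borelSubgroup K) (hu : u ∈ chevG2.posUnipotent K) :
    k * u * k⁻¹ ∈ chevG2.posUnipotent K := by
  have hle : chevG2.borelSubgroup K ≤ Subgroup.normalizer (chevG2.posUnipotent K : Set (GL chevG2.Idx K)) :=
    sup_le Subgroup.le_normalizer cert12_G2.c6.c2.diag_le_normalizer_pos
  have := hle hk
  rw [Subgroup.mem_normalizer_iff] at this
  exact (this u).mp hu

/-- a conjugate of `U¹` by an element outside `B` meets `U¹` trivially -/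
theorem pos_inf_conj_trivial (m : ℕ) (hK : Fintype.card K = 3 ^ (2 * m + 1)) (k a b : GL chevG2.Idx K)
    (hk : k ∈ twistedG2 K (3 ^ m)) (hkB : k ∉ chevG2.borelSubgroup K)
    (ha : a ∈ chevG2.posUnipotent K) (hb : b ∈ chevG2.posUnipotent K) (hab : a = k * b * k⁻¹) : a = 1 := by
  have hUB : chevG2.posUnipotent K ≤ chevG2.borelSubgroup K := le_sup_left
  have hHB : chevG2.diagonalSubgroup K ≤ chevG2.borelSubgroup K := le_sup_right
  rcases fix_decomp m hK k (twistedG2_le_fix m hK hk) with ⟨t, u, v, z, rfl⟩ | ⟨t, u, v, z, t', u', v', rfl⟩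
  · exact absurd (mul_mem (hUB (uR_mem_pos m _ _ _)) (hHB (hR_mem_diag m z))) hkB
  · have h1 : (uR m t u v)⁻¹ * a * uR m t u v ∈ chevG2.posUnipotent K :=
      mul_mem (mul_mem (inv_mem (uR_mem_pos m _ _ _)) ha) (uR_mem_pos m _ _ _)
    have h2 : (uR m t u v)⁻¹ * a * uR m t u v =
        (n0R K * hR K m z) * (uR m t' u' v' * b * (uR m t' u' v')⁻¹) * (n0R K * hR K m z)⁻¹ := by
      rw [hab]; group
    have h3 : (uR m t u v)⁻¹ * a * uR m t u v ∈ chevG2.negUnipotent K := by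
      rw [h2]
      apply cert12_G2.conj_pos_mem_neg _ _ (perm_n0R_hR m z) _ _
        (mul_mem (mul_mem (uR_mem_pos m _ _ _) hb) (inv_mem (uR_mem_pos m _ _ _)))
      intro s hs hpos
      have hs' : s < 12 := hs
      have hpos' : 6 ≤ s := hpos
      show 12 - 1 - s < 6
      omega
    have h4 : (uR m t u v)⁻¹ * a * uR m t u v ∈ chevG2.borelSubgroup K ⊓ chevG2.negUnipotent K :=
      ⟨hUB h1, h3⟩
    rw [cert12_G2.c6.c2.borel_inf_neg, Subgroup.mem_bot] at h4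
    have : a = uR m t u v * ((uR m t u v)⁻¹ * a * uR m t u v) * (uR m t u v)⁻¹ := by group
    rw [this, h4]; group

/-- the unipotent subgroup `U¹` of the Ree group, as a subgroup of it -/
abbrev reeU (K : Type*) [Field K] (m : ℕ) : Subgroup ↥(twistedG2 K (3 ^ m)) :=
  (chevG2.posUnipotent K ⊓ twistedG2 K (3 ^ m)).subgroupOf (twistedG2 K (3 ^ m))

theorem mem_reeU (m : ℕ) (g : ↥(twistedG2 K (3 ^ m))) :
    g ∈ reeU K m ↔ (g : GL chevG2.Idx K) ∈ chevG2.posUnipotent K := by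
  rw [Subgroup.mem_subgroupOf, Subgroup.mem_inf]
  exact ⟨fun h => h.1, fun h => ⟨h, g.2⟩⟩

theorem card_reeU (m : ℕ) (hK : Fintype.card K = 3 ^ (2 * m + 1)) :
    Nat.card (reeU K m) = (3 ^ (2 * m + 1)) ^ 3 := by
  rw [← card_pos_inf_tw m hK]
  exact Nat.card_congr (Subgroup.subgroupOfEquivOfLe inf_le_right).toEquiv

instance finite_twistedG2 (m : ℕ) : Finite ↥(twistedG2 K (3 ^ m)) := by
  have : Finite (GL chevG2.Idx K) := inferInstance
  exact Subtype.finite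

/-- `U¹` as a Sylow 3-subgroup -/
noncomputable def reeSylow (m : ℕ) (hK : Fintype.card K = 3 ^ (2 * m + 1)) : Sylow 3 ↥(twistedG2 K (3 ^ m)) :=
  (IsPGroup.of_card (n := 3 * (2 * m + 1)) (by rw [card_reeU m hK, ← pow_mul, mul_comm])).toSylow (P := reeU K m) (by
    have h1 := Subgroup.card_mul_index (reeU K m)
    rw [card_reeU m hK, card_twistedG2 m hK, mul_assoc] at h1
    have hpos : 0 < (3 ^ (2 * m + 1)) ^ 3 := by positivity
    have h2 := Nat.eq_of_mul_eq_mul_left hpos h1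
    rw [h2]
    obtain ⟨j, hj⟩ : ∃ j, 3 ^ (2 * m + 1) = 3 * j := ⟨3 ^ (2 * m), by rw [pow_succ]; ring⟩
    have hj0 : 0 < j := by
      rcases Nat.eq_zero_or_pos j with h | h
      · rw [h, mul_zero] at hj
        exact absurd hj (by positivity)
      · exact h
    intro hd
    rcases (Nat.Prime.dvd_mul Nat.prime_three).mp hd with h | h
    · rw [hj] at h; omega
    · rw [hj] at h
      have : (3 * j) ^ 3 = 3 * (9 * j ^ 3) := by ring
      rw [this] at h
      omega)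

theorem coe_reeSylow (m : ℕ) (hK : Fintype.card K = 3 ^ (2 * m + 1)) :
    ((reeSylow m hK : Sylow 3 ↥(twistedG2 K (3 ^ m))) : Subgroup ↥(twistedG2 K (3 ^ m))) = reeU K m := rfl

/-- every Sylow 3-subgroup is a conjugate of `U¹` -/
theorem sylow_three_char (m : ℕ) (hK : Fintype.card K = 3 ^ (2 * m + 1)) (P : Sylow 3 ↥(twistedG2 K (3 ^ m))) :
    ∃ g : ↥(twistedG2 K (3 ^ m)), ∀ x : ↥(twistedG2 K (3 ^ m)),
      x ∈ (P : Subgroup ↥(twistedG2 K (3 ^ m))) ↔ g⁻¹ * x * g ∈ reeU K m := by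
  obtain ⟨g, hg⟩ := MulAction.exists_smul_eq ↥(twistedG2 K (3 ^ m)) (reeSylow m hK) P
  refine ⟨g, fun x => ?_⟩
  rw [← hg, Sylow.coe_subgroup_smul, Subgroup.mem_pointwise_smul_iff_inv_smul_mem, coe_reeSylow,
    MulAut.smul_def, ← map_inv, MulAut.conj_apply, inv_inv]

/-- distinct Sylow 3-subgroups of the Ree group meet trivially -/
theorem sylow_three_TI (m : ℕ) (hK : Fintype.card K = 3 ^ (2 * m + 1))
    (P Q : Sylow 3 ↥(twistedG2 K (3 ^ m))) (hPQ : P ≠ Q) :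
    (P : Subgroup ↥(twistedG2 K (3 ^ m))) ⊓ (Q : Subgroup ↥(twistedG2 K (3 ^ m))) = ⊥ := by
  obtain ⟨g₁, h₁⟩ := sylow_three_char m hK P
  obtain ⟨g₂, h₂⟩ := sylow_three_char m hK Q
  by_cases hk : ((g₁⁻¹ * g₂ : ↥(twistedG2 K (3 ^ m))) : GL chevG2.Idx K) ∈ chevG2.borelSubgroup K
  · exfalso
    apply hPQ
    apply Sylow.ext
    ext y
    rw [h₁, h₂, mem_reeU, mem_reeU]
    have e1 : ((g₂⁻¹ * y * g₂ : ↥(twistedG2 K (3 ^ m))) : GL chevG2.Idx K) =
        ((g₁⁻¹ * g₂ : ↥(twistedG2 K (3 ^ m))) : GL chevG2.Idx K)⁻¹ *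
          ((g₁⁻¹ * y * g₁ : ↥(twistedG2 K (3 ^ m))) : GL chevG2.Idx K) *
          ((g₁⁻¹ * g₂ : ↥(twistedG2 K (3 ^ m))) : GL chevG2.Idx K)⁻¹⁻¹ := by
      simp only [Subgroup.coe_mul, Subgroup.coe_inv]; group
    have e2 : ((g₁⁻¹ * y * g₁ : ↥(twistedG2 K (3 ^ m))) : GL chevG2.Idx K) =
        ((g₁⁻¹ * g₂ : ↥(twistedG2 K (3 ^ m))) : GL chevG2.Idx K) *
          ((g₂⁻¹ * y * g₂ : ↥(twistedG2 K (3 ^ m))) : GL chevG2.Idx K) *
          ((g₁⁻¹ * g₂ : ↥(twistedG2 K (3 ^ m))) : GL chevG2.Idx K)⁻¹ := by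
      simp only [Subgroup.coe_mul, Subgroup.coe_inv]; group
    constructor
    · intro h
      rw [e1]
      exact borel_conj_pos _ _ (inv_mem hk) h
    · intro h
      rw [e2]
      exact borel_conj_pos _ _ hk h
  · rw [eq_bot_iff]
    intro x hx
    obtain ⟨hxP, hxQ⟩ := Subgroup.mem_inf.mp hx
    rw [h₁, mem_reeU] at hxP
    rw [h₂, mem_reeU] at hxQ
    rw [Subgroup.mem_bot]
    have key := pos_inf_conj_trivial m hK _ _ _ (g₁⁻¹ * g₂).2 hk hxP hxQ (by
      simp only [Subgroup.coe_mul, Subgroup.coe_inv]; group)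
    have h1 : g₁⁻¹ * x * g₁ = 1 := Subtype.ext key
    have : x = g₁ * (g₁⁻¹ * x * g₁) * g₁⁻¹ := by group
    rw [this, h1]; group

end Ree

end Cfsg.Agent.Lib.H29.Chev
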