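import Mathlib
import Cfsg.Prelude.Def_ChevStructure
import Cfsg.Prelude.Def_LieTwisted
import Cfsg.Prelude.Def_LieExceptional
import Cfsg.Agent.Lib.H29.ChevRee24

/-!
# The three-point stabilizers of the Ree group acting on the cosets of its Borel subgroup
-/

set_option autoImplicit false
set_option linter.unusedSectionVars false
set_option linter.unusedSimpArgs false
set_option linter.unusedVariables false

namespace Cfsg.Agent.Lib.H29.Chev

open Cfsg.Lie Matrix

section Ree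

variable {K : Type*} [Field K] [CharP K 3] [Fintype K]

theorem n0R_inv_mem_monomial : (n0R K)⁻¹ ∈ chevG2.monomialSubgroup K := inv_mem n0R_mem_monomial

/-- `n₀⁻¹` normalizes `H` -/
theorem n0R_inv_conj_diag (h : GL chevG2.Idx K) (hh : h ∈ chevG2.diagonalSubgroup K) :
    (n0R K)⁻¹ * h * n0R K ∈ chevG2.diagonalSubgroup K := by
  have := cert12_G2.c6.c2.monomial_le_normalizer_diag (n0R_inv_mem_monomial (K := K))
  rw [Subgroup.mem_normalizer_iff] at this
  have h2 := (this h).mp hh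
  rwa [inv_inv] at h2

theorem n0R_inv_conj_uR_not_mem (m : ℕ) (t u v : K)
    (h : (n0R K)⁻¹ * uR m t u v * n0R K ∈ chevG2.borelSubgroup K) : t = 0 ∧ u = 0 ∧ v = 0 := by
  apply n0R_conj_uR_not_mem m
  have hd := cert12_G2.c6.diag_le_borel (n0R_sq_mem_diag (K := K))
  have e : n0R K * uR m t u v * (n0R K)⁻¹ =
      (n0R K * n0R K) * ((n0R K)⁻¹ * uR m t u v * n0R K) * (n0R K * n0R K)⁻¹ := by group
  rw [e]
  exact mul_mem (mul_mem hd h) (inv_mem hd)

/-- the two-point stabilizer is the torus -/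
theorem two_point_stab (m : ℕ) (hK : Fintype.card K = 3 ^ (2 * m + 1)) (g : GL chevG2.Idx K)
    (hg : g ∈ chevG2.borelSubgroup K ⊓ twistedG2 K (3 ^ m))
    (hg2 : (n0R K)⁻¹ * g * n0R K ∈ chevG2.borelSubgroup K) : ∃ z : Kˣ, g = hR K m z := by
  obtain ⟨t, u, v, z, rfl⟩ := (mem_borel_inf_tw m hK g).mp hg
  have hd := cert12_G2.c6.diag_le_borel (n0R_inv_conj_diag _ (hR_mem_diag (K := K) m z))
  have e : (n0R K)⁻¹ * uR m t u v * n0R K =
      ((n0R K)⁻¹ * (uR m t u v * hR K m z) * n0R K) * ((n0R K)⁻¹ * hR K m z * n0R K)⁻¹ := by group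
  have h1 : (n0R K)⁻¹ * uR m t u v * n0R K ∈ chevG2.borelSubgroup K := by
    rw [e]; exact mul_mem hg2 (inv_mem hd)
  obtain ⟨rfl, rfl, rfl⟩ := n0R_inv_conj_uR_not_mem m _ _ _ h1
  exact ⟨z, by rw [uR_zero, one_mul]⟩

/-- the three-point stabilizer has at most two elements -/
theorem three_point_stab (m : ℕ) (hK : Fintype.card K = 3 ^ (2 * m + 1)) (z : Kˣ) (t u v : K)
    (hne : uR m t u v ≠ 1)
    (h : (uR m t u v * n0R K)⁻¹ * hR K m z * (uR m t u v * n0R K) ∈ chevG2.borelSubgroup K) : (z : K) ^ 2 = 1 := by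
  have hd := cert12_G2.c6.diag_le_borel (n0R_inv_conj_diag _ (hR_mem_diag (K := K) m z))
  have hc := hR_conj_uR m hK z t u v
  -- `c = ũ⁻¹ (h ũ h⁻¹)`
  have hcU : (uR m t u v)⁻¹ * (hR K m z * uR m t u v * (hR K m z)⁻¹) ∈ chevG2.posUnipotent K ⊓ twistedG2 K (3 ^ m) := by
    rw [hc]
    exact mul_mem (inv_mem ((mem_pos_inf_tw m hK _).mpr ⟨_, _, _, rfl⟩)) ((mem_pos_inf_tw m hK _).mpr ⟨_, _, _, rfl⟩)
  obtain ⟨t', u', v', hc'⟩ := (mem_pos_inf_tw m hK _).mp hcU
  have e : (n0R K)⁻¹ * uR m t' u' v' * n0R K =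
      ((uR m t u v * n0R K)⁻¹ * hR K m z * (uR m t u v * n0R K)) * ((n0R K)⁻¹ * hR K m z * n0R K)⁻¹ := by
    rw [← hc']; group
  have h1 : (n0R K)⁻¹ * uR m t' u' v' * n0R K ∈ chevG2.borelSubgroup K := by
    rw [e]; exact mul_mem h (inv_mem hd)
  obtain ⟨rfl, rfl, rfl⟩ := n0R_inv_conj_uR_not_mem m _ _ _ h1
  rw [uR_zero] at hc'
  have hcomm : hR K m z * uR m t u v = uR m t u v * hR K m z := by
    have : hR K m z * uR m t u v * (hR K m z)⁻¹ = uR m t u v := by
      have := congrArg (fun x => uR m t u v * x) hc'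
      simpa using this
    calc hR K m z * uR m t u v = (hR K m z * uR m t u v * (hR K m z)⁻¹) * hR K m z := by group
      _ = uR m t u v * hR K m z := by rw [this]
  exact hR_comm_uR_cases m hK z t u v hcomm hne

theorem unit_sq_eq_one (z : Kˣ) (h : (z : K) ^ 2 = 1) : z = 1 ∨ z = -1 := by
  have : ((z : K) - 1) * ((z : K) + 1) = 0 := by
    have : ((z : K) - 1) * ((z : K) + 1) = (z : K) ^ 2 - 1 := by ring
    rw [this, h, sub_self]
  rcases mul_eq_zero.mp this with h' | h'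
  · left; apply Units.ext; rw [sub_eq_zero.mp h']; rfl
  · right; apply Units.ext; rw [eq_neg_of_add_eq_zero_left h']; rfl

/-- `h(-1)` commutes with `u(0,1,0)` -/
theorem hR_neg_one_comm (m : ℕ) (hK : Fintype.card K = 3 ^ (2 * m + 1)) :
    hR K m (-1) * uR m 0 1 0 = uR m 0 1 0 * hR K m (-1) := by
  have := hR_conj_uR m hK (-1) 0 1 0
  have e : uR m (((-1 : Kˣ) : K) * 0) (reeTheta K m ((-1 : Kˣ) : K) ^ 3 * ((-1 : Kˣ) : K) * 1)
      (reeTheta K m ((-1 : Kˣ) : K) ^ 3 * ((-1 : Kˣ) : K) ^ 2 * 0) = uR m 0 1 0 := by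
    congr 1
    · ring
    · rw [Units.val_neg, Units.val_one, theta_neg_one]; ring
    · ring
  rw [e] at this
  calc hR K m (-1) * uR m 0 1 0 = (hR K m (-1) * uR m 0 1 0 * (hR K m (-1))⁻¹) * hR K m (-1) := by group
    _ = uR m 0 1 0 * hR K m (-1) := by rw [this]

theorem neg_one_ne_one_units : (-1 : Kˣ) ≠ 1 := by
  intro h
  have h' : (-1 : K) = 1 := by
    have := congrArg Units.val h
    simpa using this
  have h3 : (3 : K) = 0 := by
    have := CharP.cast_eq_zero K 3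
    exact_mod_cast this
  have : (1 : K) = 0 := by
    have e : (1 : K) = 3 - 1 + (-1) := by ring
    rw [e, h3, h']; ring
  exact one_ne_zero this

end Ree

end Cfsg.Agent.Lib.H29.Chev
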