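import Mathlib
import Cfsg.Prelude.Def_ChevStructure
import Cfsg.Prelude.Def_LieTwisted
import Cfsg.Prelude.Def_LieExceptional
import Cfsg.Agent.Lib.H29.ChevRee25

/-!
# The three-point stabilizers of the Ree group acting on the cosets of its Borel subgroup, II
-/

set_option autoImplicit false
set_option linter.unusedSectionVars false
set_option linter.unusedSimpArgs false
set_option linter.unusedVariables false

namespace Cfsg.Agent.Lib.H29.Chev

open Cfsg.Lie Matrix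

section Gen

variable {G : Type*} [Group G] {α : Type*} [MulAction G α]

/-- the joint stabilizer of three points -/
abbrev stab3 (G : Type*) [Group G] {α : Type*} [MulAction G α] (x y z : α) : Subgroup G :=
  MulAction.stabilizer G x ⊓ MulAction.stabilizer G y ⊓ MulAction.stabilizer G z

theorem card_stab3_smul (g : G) (x y z : α) :
    Nat.card ↥(stab3 G (g • x) (g • y) (g • z)) = Nat.card ↥(stab3 G x y z) := by
  have hinj : Function.Injective (MulAut.conj g).toMonoidHom := (MulAut.conj g).injective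
  unfold stab3
  rw [MulAction.stabilizer_smul_eq_stabilizer_map_conj, MulAction.stabilizer_smul_eq_stabilizer_map_conj,
    MulAction.stabilizer_smul_eq_stabilizer_map_conj, ← Subgroup.map_inf_eq _ _ _ hinj,
    ← Subgroup.map_inf_eq _ _ _ hinj, Subgroup.card_map_of_injective hinj]

end Gen

section Ree

variable {K : Type*} [Field K] [CharP K 3] [Fintype K]

theorem mk_eq_iff (m : ℕ) (a b : ↥(twistedG2 K (3 ^ m))) :
    (QuotientGroup.mk a : ↥(twistedG2 K (3 ^ m)) ⧸ reeB K m) = QuotientGroup.mk b ↔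
      (a : GL chevG2.Idx K)⁻¹ * (b : GL chevG2.Idx K) ∈ chevG2.borelSubgroup K := by
  rw [QuotientGroup.eq, mem_reeB]
  rfl

theorem mem_stab_mk (m : ℕ) (g a : ↥(twistedG2 K (3 ^ m))) :
    g ∈ MulAction.stabilizer ↥(twistedG2 K (3 ^ m)) (QuotientGroup.mk a : ↥(twistedG2 K (3 ^ m)) ⧸ reeB K m) ↔
      (a : GL chevG2.Idx K)⁻¹ * (g : GL chevG2.Idx K) * (a : GL chevG2.Idx K) ∈ chevG2.borelSubgroup K := by
  rw [MulAction.mem_stabilizer_iff, MulAction.Quotient.smul_mk, smul_eq_mul, mk_eq_iff]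
  have e : ((g * a : ↥(twistedG2 K (3 ^ m))) : GL chevG2.Idx K)⁻¹ * (a : GL chevG2.Idx K) =
      ((a : GL chevG2.Idx K)⁻¹ * (g : GL chevG2.Idx K) * (a : GL chevG2.Idx K))⁻¹ := by
    rw [Subgroup.coe_mul]; group
  rw [e, inv_mem_iff]

/-- the element `u(t,u,v)` of the Ree group -/
noncomputable def reeUel (m : ℕ) (t u v : K) : ↥(twistedG2 K (3 ^ m)) := ⟨uR m t u v, uR_mem_tw m t u v⟩

/-- the element `h(z)` of the Ree group -/
noncomputable def reeHel (m : ℕ) (hK : Fintype.card K = 3 ^ (2 * m + 1)) (z : Kˣ) : ↥(twistedG2 K (3 ^ m)) :=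
  ⟨hR K m z, hR_mem_tw m hK z⟩

/-- elements of the joint stabilizer of the canonical triple -/
theorem canon_triple_mem (m : ℕ) (hK : Fintype.card K = 3 ^ (2 * m + 1)) (t u v : K) (hne : uR m t u v ≠ 1)
    (g : ↥(twistedG2 K (3 ^ m)))
    (hg : g ∈ stab3 ↥(twistedG2 K (3 ^ m)) (QuotientGroup.mk 1 : ↥(twistedG2 K (3 ^ m)) ⧸ reeB K m)
      (QuotientGroup.mk (reeN0 K m)) (QuotientGroup.mk (reeUel m t u v * reeN0 K m))) :
    g = 1 ∨ g = reeHel m hK (-1) := by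
  obtain ⟨h12, h3⟩ := Subgroup.mem_inf.mp hg
  obtain ⟨h1, h2⟩ := Subgroup.mem_inf.mp h12
  rw [mem_stab_mk] at h1 h2 h3
  have h1' : (g : GL chevG2.Idx K) ∈ chevG2.borelSubgroup K := by
    simpa using h1
  obtain ⟨z, hz⟩ := two_point_stab m hK _ ⟨h1', g.2⟩ h2
  have h3' : (uR m t u v * n0R K)⁻¹ * hR K m z * (uR m t u v * n0R K) ∈ chevG2.borelSubgroup K := by
    rw [← hz]; exact h3
  rcases unit_sq_eq_one z (three_point_stab m hK z t u v hne h3') with rfl | rfl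
  · left
    apply Subtype.ext
    rw [hz, map_one]; rfl
  · right
    exact Subtype.ext hz

theorem card_canon_triple_le (m : ℕ) (hK : Fintype.card K = 3 ^ (2 * m + 1)) (t u v : K) (hne : uR m t u v ≠ 1) :
    Nat.card ↥(stab3 ↥(twistedG2 K (3 ^ m)) (QuotientGroup.mk 1 : ↥(twistedG2 K (3 ^ m)) ⧸ reeB K m)
      (QuotientGroup.mk (reeN0 K m)) (QuotientGroup.mk (reeUel m t u v * reeN0 K m))) ≤ 2 := by
  have hsub : ((stab3 ↥(twistedG2 K (3 ^ m)) (QuotientGroup.mk 1 : ↥(twistedG2 K (3 ^ m)) ⧸ reeB K m)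
      (QuotientGroup.mk (reeN0 K m)) (QuotientGroup.mk (reeUel m t u v * reeN0 K m)) : Subgroup _) : Set _) ⊆
      {1, reeHel m hK (-1)} := by
    intro g hg
    rcases canon_triple_mem m hK t u v hne g hg with h | h
    · left; exact h
    · right; exact h
  calc Nat.card _ = Set.ncard _ := (Nat.card_coe_set_eq _)
    _ ≤ Set.ncard ({1, reeHel m hK (-1)} : Set ↥(twistedG2 K (3 ^ m))) := Set.ncard_le_ncard hsub (Set.toFinite _)
    _ ≤ 2 := by
      refine (Set.ncard_insert_le _ _).trans ?_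
      rw [Set.ncard_singleton]

/-- every triple of distinct cosets is conjugate to a canonical triple -/
theorem triple_reduce (m : ℕ) (hK : Fintype.card K = 3 ^ (2 * m + 1))
    (x y z : ↥(twistedG2 K (3 ^ m)) ⧸ reeB K m) (hxy : x ≠ y) (hxz : x ≠ z) (hyz : y ≠ z) :
    ∃ (g : ↥(twistedG2 K (3 ^ m))) (t u v : K), uR m t u v ≠ 1 ∧ g • x = QuotientGroup.mk 1 ∧
      g • y = QuotientGroup.mk (reeN0 K m) ∧ g • z = QuotientGroup.mk (reeUel m t u v * reeN0 K m) := by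
  have hUB : chevG2.posUnipotent K ≤ chevG2.borelSubgroup K := le_sup_left
  have hHB : chevG2.diagonalSubgroup K ≤ chevG2.borelSubgroup K := le_sup_right
  obtain ⟨g₁, rfl⟩ := QuotientGroup.mk_surjective x
  obtain ⟨g₂, hg₂⟩ := QuotientGroup.mk_surjective (g₁⁻¹ • y)
  have hg₂B : g₂ ∉ reeB K m := by
    intro h
    apply hxy
    have e : (QuotientGroup.mk g₂ : ↥(twistedG2 K (3 ^ m)) ⧸ reeB K m) = QuotientGroup.mk 1 := by
      rw [QuotientGroup.eq, mul_one]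
      exact inv_mem h
    have e2 : g₁⁻¹ • (QuotientGroup.mk g₁ : ↥(twistedG2 K (3 ^ m)) ⧸ reeB K m) = QuotientGroup.mk 1 := by
      rw [MulAction.Quotient.smul_mk, smul_eq_mul, inv_mul_cancel]
    exact smul_left_cancel g₁⁻¹ (e2.trans (e.symm.trans hg₂))
  rcases ree_cover m hK g₂ with h | h
  · exact absurd h hg₂B
  rw [DoubleCoset.mem_doubleCoset] at h
  obtain ⟨a, ha, b, hb, hab⟩ := h
  have ha' : a ∈ reeB K m := ha
  have hb' : b ∈ reeB K m := hb
  -- the element `g = a⁻¹ g₁⁻¹`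
  have hx1 : (a⁻¹ * g₁⁻¹) • (QuotientGroup.mk g₁ : ↥(twistedG2 K (3 ^ m)) ⧸ reeB K m) = QuotientGroup.mk 1 := by
    rw [MulAction.Quotient.smul_mk, smul_eq_mul, inv_mul_cancel_right, QuotientGroup.eq, inv_inv, mul_one]
    exact ha'
  have hy1 : (a⁻¹ * g₁⁻¹) • y = QuotientGroup.mk (reeN0 K m) := by
    rw [mul_smul, ← hg₂, hab, MulAction.Quotient.smul_mk, smul_eq_mul, QuotientGroup.eq]
    have : (a⁻¹ * (a * reeN0 K m * b))⁻¹ * reeN0 K m = b⁻¹ := by group
    rw [this]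
    exact inv_mem hb'
  obtain ⟨g₃, hg₃⟩ := QuotientGroup.mk_surjective ((a⁻¹ * g₁⁻¹) • z)
  have hg₃B : g₃ ∉ reeB K m := by
    intro h
    apply hxz
    have e : (QuotientGroup.mk g₃ : ↥(twistedG2 K (3 ^ m)) ⧸ reeB K m) = QuotientGroup.mk 1 := by
      rw [QuotientGroup.eq, mul_one]
      exact inv_mem h
    exact smul_left_cancel (a⁻¹ * g₁⁻¹) (hx1.trans (e.symm.trans hg₃))
  rcases ree_cover m hK g₃ with h | h
  · exact absurd h hg₃B
  rw [DoubleCoset.mem_doubleCoset] at h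
  obtain ⟨a', ha', b', hb', hab'⟩ := h
  have ha'' : (a' : GL chevG2.Idx K) ∈ chevG2.borelSubgroup K ⊓ twistedG2 K (3 ^ m) :=
    ⟨(mem_reeB m a').mp ha', a'.2⟩
  obtain ⟨t, u, v, w, haw⟩ := (mem_borel_inf_tw m hK _).mp ha''
  have hz1 : (a⁻¹ * g₁⁻¹) • z = QuotientGroup.mk (reeUel m t u v * reeN0 K m) := by
    rw [← hg₃, hab', mk_eq_iff]
    have e : ((a' * reeN0 K m * b' : ↥(twistedG2 K (3 ^ m))) : GL chevG2.Idx K)⁻¹ *
        ((reeUel m t u v * reeN0 K m : ↥(twistedG2 K (3 ^ m))) : GL chevG2.Idx K) =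
        (b' : GL chevG2.Idx K)⁻¹ * ((n0R K)⁻¹ * (hR K m w)⁻¹ * n0R K) := by
      simp only [Subgroup.coe_mul]
      rw [haw]
      show (uR m t u v * hR K m w * n0R K * (b' : GL chevG2.Idx K))⁻¹ * (uR m t u v * n0R K) = _
      group
    rw [e]
    exact mul_mem (inv_mem ((mem_reeB m b').mp hb'))
      (hHB (n0R_inv_conj_diag _ (inv_mem (hR_mem_diag m w))))
  refine ⟨a⁻¹ * g₁⁻¹, t, u, v, ?_, hx1, hy1, hz1⟩
  intro h1
  apply hyz
  apply smul_left_cancel (a⁻¹ * g₁⁻¹)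
  rw [hy1, hz1]
  congr 1
  apply Subtype.ext
  show n0R K = uR m t u v * n0R K
  rw [h1, one_mul]

theorem n0R_not_mem_borel (m : ℕ) : n0R K ∉ chevG2.borelSubgroup K := by
  have := big_cell_not_mem_borel (K := K) m 0 0 0 0 0 0 1
  rwa [uR_zero, map_one, mul_one, one_mul, mul_one] at this

theorem uR_n0R_not_mem_borel (m : ℕ) (t u v : K) : uR m t u v * n0R K ∉ chevG2.borelSubgroup K := by
  have := big_cell_not_mem_borel (K := K) m t u v 0 0 0 1
  rwa [uR_zero, map_one, mul_one, mul_one] at this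

theorem canon_triple_distinct (m : ℕ) (t u v : K) (hne : uR m t u v ≠ 1) :
    (QuotientGroup.mk 1 : ↥(twistedG2 K (3 ^ m)) ⧸ reeB K m) ≠ QuotientGroup.mk (reeN0 K m) ∧
    (QuotientGroup.mk 1 : ↥(twistedG2 K (3 ^ m)) ⧸ reeB K m) ≠ QuotientGroup.mk (reeUel m t u v * reeN0 K m) ∧
    (QuotientGroup.mk (reeN0 K m) : ↥(twistedG2 K (3 ^ m)) ⧸ reeB K m) ≠
      QuotientGroup.mk (reeUel m t u v * reeN0 K m) := by
  refine ⟨?_, ?_, ?_⟩
  · rw [Ne, mk_eq_iff]
    intro h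
    apply n0R_not_mem_borel (K := K) m
    have e : ((1 : ↥(twistedG2 K (3 ^ m))) : GL chevG2.Idx K)⁻¹ * ((reeN0 K m : ↥(twistedG2 K (3 ^ m))) : GL chevG2.Idx K) =
        n0R K := by
      show (1 : GL chevG2.Idx K)⁻¹ * n0R K = n0R K
      group
    rwa [e] at h
  · rw [Ne, mk_eq_iff]
    intro h
    apply uR_n0R_not_mem_borel (K := K) m t u v
    have e : ((1 : ↥(twistedG2 K (3 ^ m))) : GL chevG2.Idx K)⁻¹ *
        ((reeUel m t u v * reeN0 K m : ↥(twistedG2 K (3 ^ m))) : GL chevG2.Idx K) = uR m t u v * n0R K := by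
      show (1 : GL chevG2.Idx K)⁻¹ * (uR m t u v * n0R K) = uR m t u v * n0R K
      group
    rwa [e] at h
  · rw [Ne, mk_eq_iff]
    intro h
    apply hne
    have e : ((reeN0 K m : ↥(twistedG2 K (3 ^ m))) : GL chevG2.Idx K)⁻¹ *
        ((reeUel m t u v * reeN0 K m : ↥(twistedG2 K (3 ^ m))) : GL chevG2.Idx K) =
        (n0R K)⁻¹ * uR m t u v * n0R K := by
      show (n0R K)⁻¹ * (uR m t u v * n0R K) = (n0R K)⁻¹ * uR m t u v * n0R K
      group
    rw [e] at h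
    obtain ⟨rfl, rfl, rfl⟩ := n0R_inv_conj_uR_not_mem m _ _ _ h
    exact uR_zero m

theorem uR_010_ne_one (m : ℕ) : uR m (0 : K) 1 0 ≠ 1 := by
  intro h
  exact one_ne_zero (uR_eq_one m _ _ _ h).2.1

theorem card_canon_triple_eq (m : ℕ) (hK : Fintype.card K = 3 ^ (2 * m + 1)) :
    Nat.card ↥(stab3 ↥(twistedG2 K (3 ^ m)) (QuotientGroup.mk 1 : ↥(twistedG2 K (3 ^ m)) ⧸ reeB K m)
      (QuotientGroup.mk (reeN0 K m)) (QuotientGroup.mk (reeUel m 0 1 0 * reeN0 K m))) = 2 := by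
  apply le_antisymm (card_canon_triple_le m hK 0 1 0 (uR_010_ne_one m))
  have hHB : chevG2.diagonalSubgroup K ≤ chevG2.borelSubgroup K := le_sup_right
  have hmem : reeHel m hK (-1) ∈ stab3 ↥(twistedG2 K (3 ^ m)) (QuotientGroup.mk 1 : ↥(twistedG2 K (3 ^ m)) ⧸ reeB K m)
      (QuotientGroup.mk (reeN0 K m)) (QuotientGroup.mk (reeUel m 0 1 0 * reeN0 K m)) := by
    refine Subgroup.mem_inf.mpr ⟨Subgroup.mem_inf.mpr ⟨?_, ?_⟩, ?_⟩
    · rw [mem_stab_mk]
      show (1 : GL chevG2.Idx K)⁻¹ * hR K m (-1) * 1 ∈ _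
      rw [inv_one, one_mul, mul_one]
      exact hHB (hR_mem_diag m _)
    · rw [mem_stab_mk]
      exact hHB (n0R_inv_conj_diag _ (hR_mem_diag m _))
    · rw [mem_stab_mk]
      show (uR m 0 1 0 * n0R K)⁻¹ * hR K m (-1) * (uR m 0 1 0 * n0R K) ∈ _
      have e : (uR m (0 : K) 1 0 * n0R K)⁻¹ * hR K m (-1) * (uR m 0 1 0 * n0R K) =
          (n0R K)⁻¹ * hR K m (-1) * n0R K := by
        have hc := hR_neg_one_comm (K := K) m hK
        calc (uR m (0 : K) 1 0 * n0R K)⁻¹ * hR K m (-1) * (uR m 0 1 0 * n0R K)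
            = (n0R K)⁻¹ * (uR m (0 : K) 1 0)⁻¹ * (hR K m (-1) * uR m 0 1 0) * n0R K := by group
          _ = (n0R K)⁻¹ * hR K m (-1) * n0R K := by rw [hc]; group
      rw [e]
      exact hHB (n0R_inv_conj_diag _ (hR_mem_diag m _))
  have hne : (1 : ↥(twistedG2 K (3 ^ m))) ≠ reeHel m hK (-1) := by
    intro h
    have h' : (1 : GL chevG2.Idx K) = hR K m (-1) := congrArg Subtype.val h
    rw [← map_one (hR K m)] at h'
    exact neg_one_ne_one_units (K := K) (hR_injective m h').symm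
  have hsub : ({1, reeHel m hK (-1)} : Set ↥(twistedG2 K (3 ^ m))) ⊆
      ((stab3 ↥(twistedG2 K (3 ^ m)) (QuotientGroup.mk 1 : ↥(twistedG2 K (3 ^ m)) ⧸ reeB K m)
      (QuotientGroup.mk (reeN0 K m)) (QuotientGroup.mk (reeUel m 0 1 0 * reeN0 K m)) : Subgroup _) : Set _) := by
    intro g hg
    rcases hg with rfl | rfl
    · exact one_mem _
    · exact hmem
  calc 2 = Set.ncard ({1, reeHel m hK (-1)} : Set ↥(twistedG2 K (3 ^ m))) := (Set.ncard_pair hne).symm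
    _ ≤ Set.ncard _ := Set.ncard_le_ncard hsub (Set.toFinite _)
    _ = Nat.card _ := (Nat.card_coe_set_eq _).symm

/-- the three-point stabilizers of the Ree group on the cosets of `B¹` -/
theorem three_point_main (m : ℕ) (hK : Fintype.card K = 3 ^ (2 * m + 1)) :
    (∀ x y z : ↥(twistedG2 K (3 ^ m)) ⧸ reeB K m, x ≠ y → x ≠ z → y ≠ z →
        Nat.card ↥(stab3 ↥(twistedG2 K (3 ^ m)) x y z) ≤ 2) ∧
      ∃ x y z : ↥(twistedG2 K (3 ^ m)) ⧸ reeB K m, x ≠ y ∧ x ≠ z ∧ y ≠ z ∧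
        Nat.card ↥(stab3 ↥(twistedG2 K (3 ^ m)) x y z) = 2 := by
  constructor
  · intro x y z hxy hxz hyz
    obtain ⟨g, t, u, v, hne, hx, hy, hz⟩ := triple_reduce m hK x y z hxy hxz hyz
    rw [← card_stab3_smul g x y z, hx, hy, hz]
    exact card_canon_triple_le m hK t u v hne
  · obtain ⟨h1, h2, h3⟩ := canon_triple_distinct (K := K) m 0 1 0 (uR_010_ne_one m)
    exact ⟨_, _, _, h1, h2, h3, card_canon_triple_eq m hK⟩

end Ree

end Cfsg.Agent.Lib.H29.Chev
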