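import Mathlib
import Cfsg.Prelude.Def_KGroupFacts
import Cfsg.Agent.Lib.H29.TwAutA
import Cfsg.Agent.Lib.H29.ChevOut1

/-!
# Automorphisms of the Ree groups, part 1: an abstract description of a Ree group, its subgroups `U`, `B`, `V`
-/

set_option autoImplicit false
set_option linter.unusedSectionVars false
set_option linter.unusedSimpArgs false
set_option linter.unusedVariables false

namespace Cfsg.Agent.Lib.H29.Chev

/-- an abstract description of a Ree group by its unipotent elements `x(t,u,v)`, its torus elements `h(z)`,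
its Weyl element `n`, its Bruhat decomposition and its field automorphisms -/
structure ReeSys (G K : Type*) [Group G] [Field K] where
  x : K → K → K → G
  h : Kˣ →* G
  n : G
  σ : K →+* K
  fld : (K ≃+* K) → (G ≃* G)
  three : (3 : K) = 0
  sig_ne : ∃ t, σ t ≠ t
  x_inj : ∀ t u v t' u' v', x t u v = x t' u' v' → t = t' ∧ u = u' ∧ v = v'
  h_inj : Function.Injective h
  x_mul : ∀ t u v t' u' v', x t u v * x t' u' v' =
    x (t + t') (u + u' - σ t' * t) (v + v' - t' * u - σ t' * t ^ 2 + σ t' * t * t')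
  h_conj : ∀ (z : Kˣ) t u v, h z * x t u v * (h z)⁻¹ = x (z * t) (σ z * z * u) (σ z * (z : K) ^ 2 * v)
  bruhat : ∀ g : G, (∃ t u v z, g = x t u v * h z) ∨
    (∃ t u v z t' u' v', g = x t u v * (n * h z) * x t' u' v')
  n_conj : ∀ t u v, (∃ t' u' v' z, n * x t u v * n⁻¹ = x t' u' v' * h z) → t = 0 ∧ u = 0 ∧ v = 0
  n_inv_conj : ∀ t u v, (∃ t' u' v' z, n⁻¹ * x t u v * n = x t' u' v' * h z) → t = 0 ∧ u = 0 ∧ v = 0
  n_h : ∀ z, ∃ z', n⁻¹ * h z * n = h z'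
  core : ∀ k : G, (∀ g : G, ∃ t u v z, g * k * g⁻¹ = x t u v * h z) → k = 1
  fld_x : ∀ ψ t u v, fld ψ (x t u v) = x (ψ t) (ψ u) (ψ v)
  fld_n : ∀ ψ, fld ψ n = n

namespace ReeSys

variable {G K : Type*} [Group G] [Field K] (R : ReeSys G K)

theorem x_congr {t u v t' u' v' : K} (h1 : t = t') (h2 : u = u') (h3 : v = v') :
    R.x t u v = R.x t' u' v' := by rw [h1, h2, h3]

theorem x_zero : R.x 0 0 0 = 1 := by
  have h := R.x_mul 0 0 0 0 0 0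
  have e : R.x (0 + 0) (0 + 0 - R.σ 0 * 0) (0 + 0 - 0 * 0 - R.σ 0 * 0 ^ 2 + R.σ 0 * 0 * 0) = R.x 0 0 0 :=
    R.x_congr (by ring) (by ring) (by ring)
  rw [e] at h
  exact mul_eq_left.mp h

theorem x_mul_zero (t u v u' v' : K) : R.x t u v * R.x 0 u' v' = R.x t (u + u') (v + v') := by
  rw [R.x_mul]
  apply R.x_congr <;> simp

include R in
theorem two_mul_two : (2 : K) * 2 = 1 := by
  have := R.three
  linear_combination this

theorem x_inv (t u v : K) :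
    (R.x t u v)⁻¹ = R.x (-t) (-u - R.σ t * t) (-v - t * u + R.σ t * t ^ 2) := by
  apply inv_eq_of_mul_eq_one_right
  rw [R.x_mul, ← R.x_zero]
  apply R.x_congr
  · ring
  · rw [map_neg]; ring
  · rw [map_neg]
    linear_combination (R.σ t * t ^ 2) * R.three

theorem x_cube (t u v : K) : R.x t u v ^ 3 = R.x 0 0 (-(R.σ t * t ^ 2)) := by
  rw [pow_succ, pow_two, R.x_mul, R.x_mul]
  apply R.x_congr
  · linear_combination t * R.three
  · linear_combination (u - R.σ t * t) * R.three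
  · linear_combination (v - t * u) * R.three

theorem x_cube_eq_one_iff (t u v : K) : R.x t u v ^ 3 = 1 ↔ t = 0 := by
  rw [R.x_cube, ← R.x_zero]
  constructor
  · intro h
    have := (R.x_inj _ _ _ _ _ _ h).2.2
    rw [neg_eq_zero, mul_eq_zero] at this
    rcases this with h' | h'
    · exact (map_eq_zero R.σ).mp h'
    · exact pow_eq_zero_iff (two_ne_zero) |>.mp h'
  · intro h
    rw [h, map_zero]
    apply R.x_congr rfl rfl
    ring

/-- the unipotent subgroup -/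
def U : Subgroup G where
  carrier := {g | ∃ t u v, g = R.x t u v}
  mul_mem' := by
    rintro _ _ ⟨t, u, v, rfl⟩ ⟨t', u', v', rfl⟩
    exact ⟨_, _, _, R.x_mul t u v t' u' v'⟩
  one_mem' := ⟨0, 0, 0, R.x_zero.symm⟩
  inv_mem' := by
    rintro _ ⟨t, u, v, rfl⟩
    exact ⟨_, _, _, R.x_inv t u v⟩

theorem mem_U (g : G) : g ∈ R.U ↔ ∃ t u v, g = R.x t u v := Iff.rfl

theorem x_mem_U (t u v : K) : R.x t u v ∈ R.U := ⟨t, u, v, rfl⟩

theorem h_mul_x (z : Kˣ) (t u v : K) :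
    R.h z * R.x t u v = R.x (z * t) (R.σ z * z * u) (R.σ z * (z : K) ^ 2 * v) * R.h z := by
  rw [← R.h_conj]; group

theorem h_conj_mem_U (z : Kˣ) (y : G) (hy : y ∈ R.U) : R.h z * y * (R.h z)⁻¹ ∈ R.U := by
  obtain ⟨t, u, v, rfl⟩ := hy
  rw [R.h_conj]
  exact R.x_mem_U _ _ _

theorem B_mul_aux (t u v : K) (z : Kˣ) (t' u' v' : K) (z' : Kˣ) :
    ∃ a b c, R.x t u v * R.h z * (R.x t' u' v' * R.h z') = R.x a b c * R.h (z * z') := by
  exact ⟨_, _, _, by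
    rw [mul_assoc, ← mul_assoc (R.h z), R.h_mul_x, mul_assoc, ← map_mul, ← mul_assoc, R.x_mul]⟩

theorem B_inv_aux (t u v : K) (z : Kˣ) :
    ∃ a b c, (R.x t u v * R.h z)⁻¹ = R.x a b c * R.h z⁻¹ := by
  exact ⟨_, _, _, by
    rw [_root_.mul_inv_rev, ← map_inv, R.x_inv, R.h_mul_x]⟩

/-- the Borel subgroup -/
def B : Subgroup G where
  carrier := {g | ∃ t u v z, g = R.x t u v * R.h z}
  mul_mem' := by
    rintro _ _ ⟨t, u, v, z, rfl⟩ ⟨t', u', v', z', rfl⟩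
    obtain ⟨a, b, c, e⟩ := R.B_mul_aux t u v z t' u' v' z'
    exact ⟨a, b, c, z * z', e⟩
  one_mem' := ⟨0, 0, 0, 1, by rw [R.x_zero, map_one, one_mul]⟩
  inv_mem' := by
    rintro _ ⟨t, u, v, z, rfl⟩
    obtain ⟨a, b, c, e⟩ := R.B_inv_aux t u v z
    exact ⟨a, b, c, z⁻¹, e⟩

theorem mem_B (g : G) : g ∈ R.B ↔ ∃ t u v z, g = R.x t u v * R.h z := Iff.rfl

theorem U_le_B : R.U ≤ R.B := by
  rintro _ ⟨t, u, v, rfl⟩
  exact ⟨t, u, v, 1, by rw [map_one, mul_one]⟩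

theorem h_mem_B (z : Kˣ) : R.h z ∈ R.B := ⟨0, 0, 0, z, by rw [R.x_zero, one_mul]⟩

/-- the opposite unipotent subgroup -/
def V : Subgroup G := R.U.map (MulAut.conj R.n).toMonoidHom

theorem mem_V (g : G) : g ∈ R.V ↔ ∃ y ∈ R.U, R.n * y * R.n⁻¹ = g := by
  unfold V
  rw [Subgroup.mem_map]
  rfl

theorem h_conj_mem_V (z : Kˣ) (y : G) (hy : y ∈ R.V) : R.h z * y * (R.h z)⁻¹ ∈ R.V := by
  obtain ⟨u, hu, rfl⟩ := (R.mem_V y).mp hy
  obtain ⟨z', hz'⟩ := R.n_h z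
  rw [R.mem_V]
  refine ⟨R.h z' * u * (R.h z')⁻¹, R.h_conj_mem_U z' u hu, ?_⟩
  rw [← hz']
  group

theorem U_inf_V (g : G) (hU : g ∈ R.U) (hV : g ∈ R.V) : g = 1 := by
  obtain ⟨y, ⟨t, u, v, rfl⟩, rfl⟩ := (R.mem_V g).mp hV
  obtain ⟨t', u', v', z, e⟩ := R.U_le_B hU
  obtain ⟨rfl, rfl, rfl⟩ := R.n_conj t u v ⟨t', u', v', z, e⟩
  rw [R.x_zero]; group

theorem x_one_ne : R.x 1 0 0 ≠ 1 := by
  intro h
  rw [← R.x_zero] at h
  exact one_ne_zero (R.x_inj _ _ _ _ _ _ h).1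

/-- the normalizer of `U` is contained in `B` -/
theorem normalizer_U_le (g : G) (hg : ∀ y ∈ R.U, g * y * g⁻¹ ∈ R.U) : g ∈ R.B := by
  rcases R.bruhat g with ⟨t, u, v, z, rfl⟩ | ⟨t, u, v, z, t', u', v', rfl⟩
  · exact ⟨t, u, v, z, rfl⟩
  · exfalso
    set x₁ := R.x t u v with hx₁
    set x₂ := R.x t' u' v' with hx₂
    have hx₁U : x₁ ∈ R.U := R.x_mem_U _ _ _
    have hx₂U : x₂ ∈ R.U := R.x_mem_U _ _ _
    have hyU : x₂⁻¹ * ((R.h z)⁻¹ * R.x 1 0 0 * (R.h z)⁻¹⁻¹) * x₂ ∈ R.U := by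
      apply mul_mem (mul_mem (inv_mem hx₂U) _) hx₂U
      rw [← map_inv]
      exact R.h_conj_mem_U _ _ (R.x_mem_U _ _ _)
    have h1 := hg _ hyU
    have e : x₁ * (R.n * R.h z) * x₂ * (x₂⁻¹ * ((R.h z)⁻¹ * R.x 1 0 0 * (R.h z)⁻¹⁻¹) * x₂) *
        (x₁ * (R.n * R.h z) * x₂)⁻¹ = x₁ * (R.n * R.x 1 0 0 * R.n⁻¹) * x₁⁻¹ := by group
    rw [e] at h1
    have h2 : R.n * R.x 1 0 0 * R.n⁻¹ ∈ R.U := by
      have := mul_mem (mul_mem (inv_mem hx₁U) h1) hx₁U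
      have e2 : x₁⁻¹ * (x₁ * (R.n * R.x 1 0 0 * R.n⁻¹) * x₁⁻¹) * x₁ = R.n * R.x 1 0 0 * R.n⁻¹ := by group
      rwa [e2] at this
    obtain ⟨a, b, c, w, e3⟩ := R.U_le_B h2
    exact one_ne_zero (R.n_conj 1 0 0 ⟨a, b, c, w, e3⟩).1

/-- an element normalizing `U` and `V` lies in `H` -/
theorem normalizer_UV (g : G) (hU : ∀ y ∈ R.U, g * y * g⁻¹ ∈ R.U) (hV : ∀ y ∈ R.V, g * y * g⁻¹ ∈ R.V) :
    ∃ z, g = R.h z := by
  obtain ⟨t, u, v, z, rfl⟩ := R.normalizer_U_le g hU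
  have h2 : R.n⁻¹ * (R.x t u v * R.h z) * R.n ∈ R.B := by
    apply R.normalizer_U_le
    intro y hy
    have hy' : R.n * y * R.n⁻¹ ∈ R.V := (R.mem_V _).mpr ⟨y, hy, rfl⟩
    obtain ⟨y', hy'U, e⟩ := (R.mem_V _).mp (hV _ hy')
    have : R.n⁻¹ * (R.x t u v * R.h z) * R.n * y * (R.n⁻¹ * (R.x t u v * R.h z) * R.n)⁻¹ = y' := by
      have e' : y' = R.n⁻¹ * (R.n * y' * R.n⁻¹) * R.n := by group
      rw [e', e]; group
    rw [this]
    exact hy'U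
  obtain ⟨z', hz'⟩ := R.n_h z
  have h3 : R.n⁻¹ * R.x t u v * R.n ∈ R.B := by
    have := mul_mem h2 (inv_mem (R.h_mem_B z'))
    rw [← hz'] at this
    have e : R.n⁻¹ * (R.x t u v * R.h z) * R.n * (R.n⁻¹ * R.h z * R.n)⁻¹ = R.n⁻¹ * R.x t u v * R.n := by group
    rwa [e] at this
  obtain ⟨a, b, c, w, e3⟩ := h3
  obtain ⟨rfl, rfl, rfl⟩ := R.n_inv_conj t u v ⟨a, b, c, w, e3⟩
  exact ⟨z, by rw [R.x_zero, one_mul]⟩

end ReeSys

end Cfsg.Agent.Lib.H29.Chev
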