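import Mathlib
import Cfsg.Prelude.Def_KGroupFacts
import Cfsg.Agent.Lib.H29.ReeAut1

/-!
# Automorphisms of the Ree groups, part 2: the automorphisms preserving `U` and `V`
-/

set_option autoImplicit false
set_option linter.unusedSectionVars false
set_option linter.unusedSimpArgs false
set_option linter.unusedVariables false

namespace Cfsg.Agent.Lib.H29.Chev

namespace ReeSys

variable {G K : Type*} [Group G] [Field K] (R : ReeSys G K)

/-- the automorphisms preserving `U` and `V` -/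
def Std : Subgroup (MulAut G) where
  carrier := {θ | (∀ g, g ∈ R.U ↔ θ g ∈ R.U) ∧ (∀ g, g ∈ R.V ↔ θ g ∈ R.V)}
  mul_mem' := by
    intro a b ha hb
    refine ⟨fun g => ?_, fun g => ?_⟩
    · rw [MulAut.mul_apply, ← ha.1, ← hb.1]
    · rw [MulAut.mul_apply, ← ha.2, ← hb.2]
  one_mem' := ⟨fun g => Iff.rfl, fun g => Iff.rfl⟩
  inv_mem' := by
    intro a ha
    refine ⟨fun g => ?_, fun g => ?_⟩
    · rw [ha.1 (a⁻¹ g), MulAut.apply_inv_self]
    · rw [ha.2 (a⁻¹ g), MulAut.apply_inv_self]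

theorem mem_Std (θ : MulAut G) :
    θ ∈ R.Std ↔ (∀ g, g ∈ R.U ↔ θ g ∈ R.U) ∧ (∀ g, g ∈ R.V ↔ θ g ∈ R.V) := Iff.rfl

variable (θ : MulAut G) (hθ : θ ∈ R.Std)
include hθ

theorem std_x (t u v : K) : ∃ a b c, θ (R.x t u v) = R.x a b c := (hθ.1 _).mp (R.x_mem_U t u v)

/-- a standard automorphism preserves the torus -/
theorem std_H (z : Kˣ) : ∃ z', θ (R.h z) = R.h z' := by
  apply R.normalizer_UV
  · intro y hy
    have hy' : θ⁻¹ y ∈ R.U := by rw [hθ.1, MulAut.apply_inv_self]; exact hy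
    have := (hθ.1 _).mp (R.h_conj_mem_U z _ hy')
    rwa [map_mul, map_mul, map_inv, MulAut.apply_inv_self] at this
  · intro y hy
    have hy' : θ⁻¹ y ∈ R.V := by rw [hθ.2, MulAut.apply_inv_self]; exact hy
    have := (hθ.2 _).mp (R.h_conj_mem_V z _ hy')
    rwa [map_mul, map_mul, map_inv, MulAut.apply_inv_self] at this

/-- a standard automorphism preserves the elements of order three of `U` -/
theorem std_U' (u v : K) : ∃ b c, θ (R.x 0 u v) = R.x 0 b c := by
  obtain ⟨a, b, c, e⟩ := R.std_x θ hθ 0 u v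
  have h1 : (θ (R.x 0 u v)) ^ 3 = 1 := by
    rw [← map_pow, (R.x_cube_eq_one_iff 0 u v).mpr rfl, map_one]
  rw [e, R.x_cube_eq_one_iff] at h1
  exact ⟨b, c, by rw [e, h1]⟩

theorem std_U'_iff (t u v b c : K) (h : θ (R.x t u v) = R.x 0 b c) : t = 0 := by
  have h1 : θ (R.x t u v ^ 3) = 1 := by
    rw [map_pow, h, (R.x_cube_eq_one_iff 0 b c).mpr rfl]
  have h2 : R.x t u v ^ 3 = 1 := by
    apply θ.injective
    rw [h1, map_one]
  exact (R.x_cube_eq_one_iff t u v).mp h2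

omit hθ in
theorem Z_central (v t' u' v' : K) : R.x 0 0 v * R.x t' u' v' = R.x t' u' v' * R.x 0 0 v := by
  rw [R.x_mul, R.x_mul_zero]
  apply R.x_congr
  · ring
  · rw [mul_zero]; ring
  · ring

omit hθ in
theorem central_coords (a b c : K) (h1 : R.x a b c * R.x 0 1 0 = R.x 0 1 0 * R.x a b c)
    (h2 : R.x a b c * R.x 1 0 0 = R.x 1 0 0 * R.x a b c) : a = 0 ∧ b = 0 := by
  rw [R.x_mul_zero, R.x_mul] at h1
  have e1 := (R.x_inj _ _ _ _ _ _ h1).2.2
  have ha : a = 0 := by linear_combination e1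
  subst ha
  rw [R.x_mul, R.x_mul_zero] at h2
  have e2 := (R.x_inj _ _ _ _ _ _ h2).2.2
  refine ⟨rfl, ?_⟩
  simp only [map_one, map_zero] at e2
  linear_combination -e2

/-- a standard automorphism preserves the centre of `U` -/
theorem std_Z (v : K) : ∃ c, θ (R.x 0 0 v) = R.x 0 0 c := by
  obtain ⟨a, b, c, e⟩ := R.std_x θ hθ 0 0 v
  have hcomm : ∀ y ∈ R.U, R.x a b c * y = y * R.x a b c := by
    intro y hy
    have hy' : θ⁻¹ y ∈ R.U := by rw [hθ.1, MulAut.apply_inv_self]; exact hy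
    obtain ⟨t', u', v', e'⟩ := hy'
    have := congrArg θ (R.Z_central v t' u' v')
    rw [map_mul, map_mul, ← e', MulAut.apply_inv_self, e] at this
    exact this
  obtain ⟨rfl, rfl⟩ := R.central_coords a b c (hcomm _ (R.x_mem_U _ _ _)) (hcomm _ (R.x_mem_U _ _ _))
  exact ⟨c, e⟩

end ReeSys

end Cfsg.Agent.Lib.H29.Chev
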