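import Mathlib
import Cfsg.Prelude.Def_KGroupFacts
import Cfsg.Agent.Lib.H29.ReeAut2

/-!
# Automorphisms of the Ree groups, part 3: a standard automorphism is semilinear on `U / U'`
-/

set_option autoImplicit false
set_option linter.unusedSectionVars false
set_option linter.unusedSimpArgs false
set_option linter.unusedVariables false

namespace Cfsg.Agent.Lib.H29.Chev

namespace ReeSys

variable {G K : Type*} [Group G] [Field K] (R : ReeSys G K)

variable (θ : MulAut G) (hθ : θ ∈ R.Std)
include hθ

/-- a standard automorphism acts on `U / U'` by `t ↦ c ψ(t)` with `ψ` a field automorphism -/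
theorem std_semilinear [Finite K] :
    ∃ (c : Kˣ) (ψ : K ≃+* K), ∀ t, ∃ a b, θ (R.x t 0 0) = R.x (c * ψ t) a b := by
  have hex : ∀ t, ∃ a b c, θ (R.x t 0 0) = R.x a b c := fun t => R.std_x θ hθ t 0 0
  choose f α γ hf using hex
  choose lam hlam using R.std_H θ hθ
  -- additivity
  have hadd : ∀ t t', f (t + t') = f t + f t' := by
    intro t t'
    have rel : R.x t 0 0 * R.x t' 0 0 =
        R.x (t + t') 0 0 * R.x 0 (-(R.σ t' * t)) (-(R.σ t' * t ^ 2) + R.σ t' * t * t') := by
      rw [R.x_mul, R.x_mul_zero]; apply R.x_congr <;> ring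
    obtain ⟨b, c, h0⟩ := R.std_U' θ hθ (-(R.σ t' * t)) (-(R.σ t' * t ^ 2) + R.σ t' * t * t')
    have := congrArg θ rel
    rw [map_mul, map_mul, hf, hf, hf, h0, R.x_mul, R.x_mul_zero] at this
    exact ((R.x_inj _ _ _ _ _ _ this).1).symm
  have hzero : f 0 = 0 := by
    have := hadd 0 0
    rw [add_zero] at this
    linear_combination -this
  -- semilinearity
  have hsemi : ∀ (z : Kˣ) t, f (z * t) = lam z * f t := by
    intro z t
    have := congrArg θ (R.h_conj z t 0 0)
    rw [map_mul, map_mul, map_inv, hlam, hf, R.h_conj, mul_zero, mul_zero, hf] at this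
    exact ((R.x_inj _ _ _ _ _ _ this).1).symm
  have hinj : ∀ t, f t = 0 → t = 0 := by
    intro t ht
    have := hf t
    rw [ht] at this
    exact R.std_U'_iff θ hθ t 0 0 _ _ this
  have hc : f 1 ≠ 0 := fun h => one_ne_zero (hinj 1 h)
  have hlamf : ∀ z : Kˣ, (lam z : K) = f z / f 1 := by
    intro z
    have := hsemi z 1
    rw [mul_one] at this
    rw [this, mul_div_assoc, div_self hc, mul_one]
  let ψ₀ : K →+* K :=
    { toFun := fun t => f t / f 1
      map_one' := div_self hc
      map_mul' := by
        intro a b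
        by_cases ha : a = 0
        · rw [ha, zero_mul, hzero, zero_div, zero_mul]
        · have := hsemi (Units.mk0 a ha) b
          rw [Units.val_mk0, hlamf, Units.val_mk0] at this
          rw [this]; ring
      map_zero' := by rw [hzero, zero_div]
      map_add' := by
        intro a b
        rw [hadd, add_div] }
  have hψ₀ : ∀ t, ψ₀ t = f t / f 1 := fun t => rfl
  have hbij : Function.Bijective ψ₀ := by
    have hi : Function.Injective ψ₀ := ψ₀.injective
    exact ⟨hi, Finite.injective_iff_surjective.mp hi⟩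
  refine ⟨Units.mk0 (f 1) hc, RingEquiv.ofBijective ψ₀ hbij, fun t => ⟨α t, γ t, ?_⟩⟩
  rw [hf]
  apply R.x_congr _ rfl rfl
  rw [Units.val_mk0, RingEquiv.ofBijective_apply, hψ₀, mul_div_cancel₀ _ hc]

end ReeSys

end Cfsg.Agent.Lib.H29.Chev
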