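import Mathlib
import Cfsg.Prelude.Def_KGroupFacts
import Cfsg.Agent.Lib.H29.ReeAut2

/-!
# Automorphisms of the Ree groups, part 4: a standard automorphism trivial on `U / U'` is trivial
-/

set_option autoImplicit false
set_option linter.unusedSectionVars false
set_option linter.unusedSimpArgs false
set_option linter.unusedVariables false

namespace Cfsg.Agent.Lib.H29.Chev

namespace ReeSys

variable {G K : Type*} [Group G] [Field K] (R : ReeSys G K)

variable (θ : MulAut G) (hθ : θ ∈ R.Std)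
include hθ

/-- a standard automorphism trivial on `U / U'` is trivial on `U` -/
theorem std_trivial_U (h1 : ∀ t, ∃ a b, θ (R.x t 0 0) = R.x t a b) (t u v : K) :
    θ (R.x t u v) = R.x t u v := by
  have h3 := R.three
  choose α γ hαγ using h1
  -- the torus is fixed
  have hH : ∀ z, θ (R.h z) = R.h z := by
    intro z
    obtain ⟨z', hz'⟩ := R.std_H θ hθ z
    have := congrArg θ (R.h_conj z 1 0 0)
    rw [map_mul, map_mul, map_inv, hz', hαγ, R.h_conj, mul_zero, mul_zero, mul_one, mul_one, hαγ] at this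
    have e := (R.x_inj _ _ _ _ _ _ this).1
    rw [hz']
    congr 1
    exact Units.ext e
  choose f₂ β hf₂ using (fun u => R.std_U' θ hθ u 0)
  choose f₃ hf₃ using R.std_Z θ hθ
  -- equivariance
  have heq : ∀ (z : Kˣ) t, α (z * t) = R.σ z * z * α t ∧ γ (z * t) = R.σ z * (z : K) ^ 2 * γ t := by
    intro z t
    have := congrArg θ (R.h_conj z t 0 0)
    rw [map_mul, map_mul, map_inv, hH, hαγ, R.h_conj, mul_zero, mul_zero, hαγ] at this
    obtain ⟨_, e2, e3⟩ := R.x_inj _ _ _ _ _ _ this
    exact ⟨e2.symm, e3.symm⟩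
  -- the commutator relation
  have hstar : ∀ t u, f₃ (t * u) = t * f₂ u := by
    intro t u
    have rel : R.x t 0 0 * R.x 0 u 0 = R.x 0 u 0 * R.x t 0 0 * R.x 0 0 (t * u) := by
      rw [R.x_mul_zero, R.x_mul, R.x_mul_zero]
      apply R.x_congr
      · ring
      · rw [mul_zero]; ring
      · ring
    have := congrArg θ rel
    rw [map_mul, map_mul, map_mul, hαγ, hf₂, hf₃, R.x_mul_zero, R.x_mul, R.x_mul_zero] at this
    have e := (R.x_inj _ _ _ _ _ _ this).2.2
    linear_combination -e
  -- the cube relation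
  have hcube : f₃ (-1) = -1 := by
    have := congrArg θ (R.x_cube 1 0 0)
    rw [map_pow, hαγ, R.x_cube, map_one, one_pow, mul_one, hf₃] at this
    exact ((R.x_inj _ _ _ _ _ _ this).2.2).symm
  have hf₂1 : f₂ 1 = 1 := by
    have := hstar (-1) 1
    rw [mul_one, hcube] at this
    linear_combination this
  have hf₃id : ∀ t, f₃ t = t := by
    intro t
    have := hstar t 1
    rwa [mul_one, hf₂1, mul_one] at this
  have hf₂id : ∀ u, f₂ u = u := by
    intro u
    have := hstar 1 u
    rw [one_mul, one_mul, hf₃id] at this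
    exact this.symm
  -- the product relation
  have hprod : ∀ t t', α (t + t') = α t + α t' ∧
      γ t + γ t' - t' * α t = γ (t + t') + β (-(R.σ t' * t)) := by
    intro t t'
    have rel : R.x t 0 0 * R.x t' 0 0 =
        R.x (t + t') 0 0 * R.x 0 (-(R.σ t' * t)) 0 * R.x 0 0 (-(R.σ t' * t ^ 2) + R.σ t' * t * t') := by
      rw [R.x_mul, R.x_mul_zero, R.x_mul_zero]; apply R.x_congr <;> ring
    have := congrArg θ rel
    rw [map_mul, map_mul, map_mul, hαγ, hαγ, hαγ, hf₂, hf₃, hf₂id, hf₃id, R.x_mul, R.x_mul_zero, R.x_mul_zero] at this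
    obtain ⟨_, e2, e3⟩ := R.x_inj _ _ _ _ _ _ this
    constructor
    · linear_combination -e2
    · linear_combination e3
  have h00 : α 0 = 0 ∧ γ 0 = 0 := by
    have := hαγ 0
    rw [R.x_zero, map_one, ← R.x_zero] at this
    obtain ⟨_, e2, e3⟩ := R.x_inj _ _ _ _ _ _ this
    exact ⟨e2.symm, e3.symm⟩
  -- `α = 0`
  have hα : ∀ t, α t = 0 := by
    intro t
    have e1 := (heq (-1) t).1
    rw [Units.val_neg, Units.val_one, map_neg, map_one, neg_mul, one_mul] at e1
    have e2 := (hprod t (-t)).1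
    rw [add_neg_cancel, h00.1, e1] at e2
    have : (2 : K) * α t = 0 := by linear_combination -e2
    have h22 := R.two_mul_two
    linear_combination (2 : K) * this - α t * h22
  -- `β` is additive
  have hβadd : ∀ u u', β (u + u') = β u + β u' := by
    intro u u'
    have rel : R.x 0 u 0 * R.x 0 u' 0 = R.x 0 (u + u') 0 := by
      rw [R.x_mul_zero, add_zero]
    have := congrArg θ rel
    rw [map_mul, hf₂, hf₂, hf₂, R.x_mul_zero] at this
    exact ((R.x_inj _ _ _ _ _ _ this).2.2).symm
  -- the formula for `γ`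
  have hγ : ∀ z, γ z = R.σ z * z ^ 2 * γ 1 := by
    intro z
    by_cases hz : z = 0
    · rw [hz, h00.2, map_zero, zero_mul, zero_mul]
    · have := (heq (Units.mk0 z hz) 1).2
      rwa [Units.val_mk0, mul_one] at this
  have hβ1 : ∀ t, β (-t) = γ t + γ 1 - γ (t + 1) := by
    intro t
    have := (hprod t 1).2
    rw [hα, mul_zero, sub_zero, map_one, one_mul] at this
    linear_combination -this
  -- `γ 1 = 0`
  have hc₀ : γ 1 = 0 := by
    obtain ⟨t₀, ht₀⟩ := R.sig_ne
    have e1 : β (-1) = 0 := by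
      rw [hβ1, hγ (1 + 1), map_add, map_one]
      linear_combination (-2 * γ 1) * h3
    have e2 : β (-(t₀ + 1)) = β (-t₀) := by
      have : -(t₀ + 1) = -t₀ + -1 := by ring
      rw [this, hβadd, e1, add_zero]
    rw [hβ1, hβ1, hγ (t₀ + 1 + 1), hγ (t₀ + 1), hγ t₀] at e2
    simp only [map_add, map_one] at e2
    have : (R.σ t₀ - t₀) * γ 1 = 0 := by
      linear_combination e2 + (γ 1 * (R.σ t₀ + t₀ + 2)) * h3
    rcases mul_eq_zero.mp this with h | h
    · exact absurd (sub_eq_zero.mp h) ht₀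
    · exact h
  have hγ0 : ∀ t, γ t = 0 := by
    intro t
    rw [hγ, hc₀, mul_zero]
  have hβ0 : ∀ u, β u = 0 := by
    intro u
    have := hβ1 (-u)
    rwa [neg_neg, hγ0, hγ0, hγ0, add_zero, sub_zero] at this
  have e : R.x t u v = R.x t 0 0 * R.x 0 u 0 * R.x 0 0 v := by
    rw [R.x_mul_zero, R.x_mul_zero]
    apply R.x_congr <;> ring
  rw [e, map_mul, map_mul, hαγ, hf₂, hf₃, hα, hγ0, hf₂id, hβ0, hf₃id]

end ReeSys

end Cfsg.Agent.Lib.H29.Chev
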