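import Mathlib
import Cfsg.Prelude.Def_KGroupFacts
import Cfsg.Agent.Lib.H29.ReeAut3
import Cfsg.Agent.Lib.H29.ReeAut4

/-!
# Automorphisms of the Ree groups, part 5: a standard automorphism trivial on `U / U'` is trivial;
the order of the outer automorphism group
-/

set_option autoImplicit false
set_option linter.unusedSectionVars false
set_option linter.unusedSimpArgs false
set_option linter.unusedVariables false

namespace Cfsg.Agent.Lib.H29.Chev

namespace ReeSys

variable {G K : Type*} [Group G] [Field K] (R : ReeSys G K)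

section

variable (θ : MulAut G) (hθ : θ ∈ R.Std)
include hθ

/-- a standard automorphism trivial on `U / U'` is trivial on `H` -/
theorem std_trivial_H (h1 : ∀ t, ∃ a b, θ (R.x t 0 0) = R.x t a b) (z : Kˣ) : θ (R.h z) = R.h z := by
  obtain ⟨z', hz'⟩ := R.std_H θ hθ z
  have := congrArg θ (R.h_conj z 1 0 0)
  obtain ⟨a, b, e1⟩ := h1 1
  obtain ⟨a', b', e2⟩ := h1 (z * 1)
  rw [map_mul, map_mul, map_inv, hz', e1, R.h_conj, mul_zero, mul_zero, e2, mul_one, mul_one] at this
  have e := (R.x_inj _ _ _ _ _ _ this).1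
  rw [hz']
  congr 1
  exact Units.ext e

/-- a standard automorphism trivial on `U / U'` is trivial -/
theorem std_trivial (h1 : ∀ t, ∃ a b, θ (R.x t 0 0) = R.x t a b) : θ = 1 := by
  have hU := R.std_trivial_U θ hθ h1
  have hH := R.std_trivial_H θ hθ h1
  have hB : ∀ b ∈ R.B, θ b = b := by
    rintro _ ⟨t, u, v, z, rfl⟩
    rw [map_mul, hU, hH]
  have hn : R.n⁻¹ * θ R.n ∈ R.B := by
    apply R.normalizer_U_le
    intro y hy
    have hyV : R.n * y * R.n⁻¹ ∈ R.V := (R.mem_V _).mpr ⟨y, hy, rfl⟩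
    have := (hθ.2 _).mp hyV
    rw [map_mul, map_mul, map_inv, hB y (R.U_le_B hy)] at this
    obtain ⟨y', hy'U, e⟩ := (R.mem_V _).mp this
    have e2 : R.n⁻¹ * θ R.n * y * (R.n⁻¹ * θ R.n)⁻¹ = y' := by
      have : y' = R.n⁻¹ * (R.n * y' * R.n⁻¹) * R.n := by group
      rw [this, e]; group
    rw [e2]; exact hy'U
  have hk : ∀ g, g⁻¹ * θ g ∈ R.B := by
    intro g
    rcases R.bruhat g with ⟨t, u, v, z, rfl⟩ | ⟨t, u, v, z, t', u', v', rfl⟩
    · rw [hB _ ⟨t, u, v, z, rfl⟩, inv_mul_cancel]; exact one_mem _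
    · rw [map_mul, map_mul, map_mul, hU, hU, hH]
      have hb : R.h z * R.x t' u' v' ∈ R.B := mul_mem (R.h_mem_B z) (R.U_le_B (R.x_mem_U _ _ _))
      have : (R.x t u v * (R.n * R.h z) * R.x t' u' v')⁻¹ * (R.x t u v * (θ R.n * R.h z) * R.x t' u' v') =
          (R.h z * R.x t' u' v')⁻¹ * (R.n⁻¹ * θ R.n) * (R.h z * R.x t' u' v') := by group
      rw [this]
      exact mul_mem (mul_mem (inv_mem hb) hn) hb
  apply MulEquiv.ext
  intro g
  have : g⁻¹ * θ g = 1 := by
    apply R.core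
    intro y
    have h1 := hk (g * y⁻¹)
    have h2 := hk y⁻¹
    have := mul_mem h1 (inv_mem h2)
    rw [map_mul, map_inv] at this
    have e : (g * y⁻¹)⁻¹ * (θ g * (θ y)⁻¹) * (y⁻¹⁻¹ * (θ y)⁻¹)⁻¹ = y * (g⁻¹ * θ g) * y⁻¹ := by group
    rw [e] at this
    exact this
  rw [MulAut.one_apply]
  exact (inv_mul_eq_one.mp this).symm

end

/-- the field automorphisms are standard -/
theorem fld_mem_Std (ψ : K ≃+* K) : R.fld ψ ∈ R.Std := by
  have hUsurj : ∀ y ∈ R.U, ∃ y' ∈ R.U, R.fld ψ y' = y := by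
    rintro _ ⟨a, b, c, rfl⟩
    refine ⟨R.x (ψ.symm a) (ψ.symm b) (ψ.symm c), R.x_mem_U _ _ _, ?_⟩
    rw [R.fld_x, RingEquiv.apply_symm_apply, RingEquiv.apply_symm_apply, RingEquiv.apply_symm_apply]
  have hU : ∀ g, g ∈ R.U ↔ R.fld ψ g ∈ R.U := by
    intro g
    constructor
    · rintro ⟨t, u, v, rfl⟩
      rw [R.fld_x]
      exact R.x_mem_U _ _ _
    · intro hg
      obtain ⟨y', hy', e⟩ := hUsurj _ hg
      rw [← (R.fld ψ).injective e]
      exact hy'
  refine ⟨hU, fun g => ?_⟩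
  constructor
  · intro hg
    obtain ⟨y, hy, rfl⟩ := (R.mem_V g).mp hg
    rw [map_mul, map_mul, map_inv, R.fld_n]
    exact (R.mem_V _).mpr ⟨_, (hU y).mp hy, rfl⟩
  · intro hg
    obtain ⟨y, hy, e⟩ := (R.mem_V _).mp hg
    obtain ⟨y', hy', e'⟩ := hUsurj y hy
    have : R.fld ψ (R.n * y' * R.n⁻¹) = R.fld ψ g := by
      rw [map_mul, map_mul, map_inv, R.fld_n, e', e]
    rw [← (R.fld ψ).injective this]
    exact (R.mem_V _).mpr ⟨y', hy', rfl⟩

/-- the conjugations by the elements of the torus are standard -/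
theorem conj_h_mem_Std (z : Kˣ) : MulAut.conj (R.h z) ∈ R.Std := by
  refine ⟨fun g => ?_, fun g => ?_⟩
  · rw [MulAut.conj_apply]
    refine ⟨R.h_conj_mem_U z g, fun hg => ?_⟩
    have := R.h_conj_mem_U z⁻¹ _ hg
    rw [map_inv] at this
    have e : (R.h z)⁻¹ * (R.h z * g * (R.h z)⁻¹) * (R.h z)⁻¹⁻¹ = g := by group
    rwa [e] at this
  · rw [MulAut.conj_apply]
    refine ⟨R.h_conj_mem_V z g, fun hg => ?_⟩
    have := R.h_conj_mem_V z⁻¹ _ hg
    rw [map_inv] at this
    have e : (R.h z)⁻¹ * (R.h z * g * (R.h z)⁻¹) * (R.h z)⁻¹⁻¹ = g := by group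
    rwa [e] at this

/-- an inner automorphism is standard exactly when it is the conjugation by an element of the torus -/
theorem conj_mem_Std_iff (g : G) : MulAut.conj g ∈ R.Std ↔ g ∈ R.h.range := by
  constructor
  · intro hg
    obtain ⟨z, hz⟩ := R.normalizer_UV g
      (fun y hy => by have := (hg.1 y).mp hy; rwa [MulAut.conj_apply] at this)
      (fun y hy => by have := (hg.2 y).mp hy; rwa [MulAut.conj_apply] at this)
    exact ⟨z, hz.symm⟩
  · rintro ⟨z, rfl⟩
    exact R.conj_h_mem_Std z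

/-- the standard automorphism attached to a unit and a field automorphism -/
def stdAut (c : Kˣ) (ψ : K ≃+* K) : MulAut G := MulAut.conj (R.h c) * R.fld ψ

theorem stdAut_mem (c : Kˣ) (ψ : K ≃+* K) : R.stdAut c ψ ∈ R.Std :=
  Subgroup.mul_mem _ (R.conj_h_mem_Std c) (R.fld_mem_Std ψ)

theorem stdAut_x (c : Kˣ) (ψ : K ≃+* K) (t u v : K) :
    R.stdAut c ψ (R.x t u v) = R.x (c * ψ t) (R.σ c * c * ψ u) (R.σ c * (c : K) ^ 2 * ψ v) := by
  unfold stdAut
  rw [MulAut.mul_apply, R.fld_x, MulAut.conj_apply, R.h_conj]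

/-- the number of standard automorphisms -/
theorem card_Std [Finite K] : Nat.card R.Std = Nat.card Kˣ * Nat.card (K ≃+* K) := by
  let Ψ : Kˣ × (K ≃+* K) → R.Std := fun p => ⟨R.stdAut p.1 p.2, R.stdAut_mem p.1 p.2⟩
  have hbij : Function.Bijective Ψ := by
    constructor
    · rintro ⟨c, ψ⟩ ⟨c', ψ'⟩ hpp
      have hpp' : ∀ y, R.stdAut c ψ y = R.stdAut c' ψ' y := by
        intro y
        have := congrArg (fun θ : R.Std => (θ : MulAut G) y) hpp
        exact this
      have hval : ∀ t, (c : K) * ψ t = c' * ψ' t := by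
        intro t
        have := hpp' (R.x t 0 0)
        rw [R.stdAut_x, R.stdAut_x] at this
        exact (R.x_inj _ _ _ _ _ _ this).1
      have hc : c = c' := by
        apply Units.ext
        have := hval 1
        rwa [map_one, map_one, mul_one, mul_one] at this
      subst hc
      have hψ : ψ = ψ' := by
        apply RingEquiv.ext
        intro t
        exact mul_left_cancel₀ c.ne_zero (hval t)
      subst hψ
      rfl
    · rintro ⟨θ, hθ⟩
      obtain ⟨c, ψ, h⟩ := R.std_semilinear θ hθ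
      refine ⟨(c, ψ), ?_⟩
      apply Subtype.ext
      show R.stdAut c ψ = θ
      have hθ' : (R.stdAut c ψ)⁻¹ * θ ∈ R.Std := Subgroup.mul_mem _ (Subgroup.inv_mem _ (R.stdAut_mem c ψ)) hθ
      have h1 : (R.stdAut c ψ)⁻¹ * θ = 1 := by
        apply R.std_trivial _ hθ'
        intro t
        obtain ⟨a, b, e⟩ := h t
        have hne : R.σ c * (c : K) ≠ 0 := mul_ne_zero ((map_ne_zero R.σ).mpr c.ne_zero) c.ne_zero
        have hne2 : R.σ c * (c : K) ^ 2 ≠ 0 :=
          mul_ne_zero ((map_ne_zero R.σ).mpr c.ne_zero) (pow_ne_zero _ c.ne_zero)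
        refine ⟨ψ.symm (a / (R.σ c * c)), ψ.symm (b / (R.σ c * (c : K) ^ 2)), ?_⟩
        rw [MulAut.mul_apply, e, MulAut.inv_apply, MulEquiv.symm_apply_eq, R.stdAut_x,
          RingEquiv.apply_symm_apply, RingEquiv.apply_symm_apply, mul_div_cancel₀ _ hne, mul_div_cancel₀ _ hne2]
      exact (inv_mul_eq_one.mp h1)
  rw [← Nat.card_congr (Equiv.ofBijective Ψ hbij), Nat.card_prod]

/-- the order of the outer automorphism group of a Ree group -/
theorem card_out [Finite G] [Finite K] (hUp : IsPGroup 3 R.U) (hidx : ¬ 3 ∣ R.U.index)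
    (hZ : Subgroup.center G = ⊥) : Nat.card (Cfsg.Out G) = Nat.card (K ≃+* K) := by
  have hmain : Nat.card (Cfsg.Out G) * Nat.card R.h.range = Nat.card R.Std := by
    apply card_out_mul R.Std R.h.range
    · intro θ
      obtain ⟨x, hx⟩ := exists_std_abs 3 R.U R.V hUp hidx R.U_inf_V
        (Subgroup.card_map_of_injective (MulAut.conj R.n).injective) (by
          intro g
          rcases R.bruhat g with ⟨t, u, v, z, rfl⟩ | ⟨t, u, v, z, t', u', v', rfl⟩
          · refine ⟨R.x t u v, R.x_mem_U _ _ _, R.h z, 1, one_mem _, by rw [mul_one], fun hp => ?_⟩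
            exfalso
            exact R.x_one_ne (hp _ (R.x_mem_U 1 0 0) (R.h_conj_mem_U z _ (R.x_mem_U 1 0 0)))
          · refine ⟨R.x t u v, R.x_mem_U _ _ _, R.n * R.h z, R.x t' u' v', R.x_mem_U _ _ _, rfl, fun _ y hy => ?_⟩
            rw [R.mem_V]
            refine ⟨R.h z * y * (R.h z)⁻¹, R.h_conj_mem_U z y hy, ?_⟩
            group) θ
      refine ⟨x, ?_⟩
      refine ⟨fun g => ?_, fun g => ?_⟩
      · rw [MulAut.mul_apply, MulAut.conj_apply]; exact hx.1 g
      · rw [MulAut.mul_apply, MulAut.conj_apply]; exact hx.2 g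
    · exact R.conj_mem_Std_iff
    · intro h _ hc
      have : h ∈ Subgroup.center G := by
        rw [Subgroup.mem_center_iff]
        intro g
        have := congrArg (fun θ : MulAut G => θ g) hc
        simp only [MulAut.conj_apply, MulAut.one_apply] at this
        rw [mul_inv_eq_iff_eq_mul] at this
        exact this.symm
      rw [hZ, Subgroup.mem_bot] at this
      exact this
  have hcardH : Nat.card R.h.range = Nat.card Kˣ :=
    (Nat.card_congr (MonoidHom.ofInjective R.h_inj).toEquiv).symm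
  rw [R.card_Std, hcardH, mul_comm] at hmain
  have hpos : 0 < Nat.card Kˣ := Nat.card_pos
  exact Nat.eq_of_mul_eq_mul_left hpos hmain

end ReeSys

end Cfsg.Agent.Lib.H29.Chev
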