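import Mathlib
import Cfsg.Prelude.Def_KGroupFacts
import Cfsg.Prelude.Def_ChevStructure
import Cfsg.Prelude.Def_LieTwisted
import Cfsg.Agent.Lib.H29.ReeAut5
import Cfsg.Agent.Lib.H29.ChevRee21
import Cfsg.Agent.Lib.H29.ChevRee26
import Cfsg.Agent.Lib.H29.TwAut16
import Cfsg.Agent.Lib.H29.TwAutD4
import Cfsg.Agent.Lib.H2.SzAutCard

/-!
# Automorphisms of the Ree groups, part 6: the Ree groups `²G₂(q)` satisfy the abstract description;
the order of their outer automorphism groups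
-/

set_option autoImplicit false
set_option linter.unusedSectionVars false
set_option linter.unusedSimpArgs false
set_option linter.unusedVariables false

namespace Cfsg.Agent.Lib.H29.Chev

open Cfsg.Lie Matrix

section Ree

variable {K : Type*} [Field K] [CharP K 3]

/-- the endomorphism `t ↦ θ(t)³` -/
noncomputable def reeSig (K : Type*) [Field K] [CharP K 3] (m : ℕ) : K →+* K :=
  (frobenius K 3).comp (reeTheta K m)

theorem reeSig_apply (m : ℕ) (t : K) : reeSig K m t = reeTheta K m t ^ 3 := rfl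

theorem theta_field (ψ : K ≃+* K) (m : ℕ) (t : K) : reeTheta K m (ψ t) = ψ (reeTheta K m t) := by
  rw [reeTheta_apply, reeTheta_apply, map_pow]

theorem bc_uR (ψ : K ≃+* K) (m : ℕ) (t u v : K) :
    bc chevG2 (ψ : K →+* K) (uR m t u v) = uR m (ψ t) (ψ u) (ψ v) := by
  rw [uR_eq, uR_eq]
  unfold gZ
  simp only [map_mul, cert12_G2.c6.c2.bc_xA, RingHom.coe_coe, theta_field, map_add, map_pow]

theorem bc_vR (ψ : K ≃+* K) (m : ℕ) (t u v : K) :
    bc chevG2 (ψ : K →+* K) (vR m t u v) = vR m (ψ t) (ψ u) (ψ v) := by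
  rw [vR_eq, vR_eq]
  unfold gZn
  simp only [map_mul, cert12_G2.c6.c2.bc_xA, RingHom.coe_coe, theta_field, map_add, map_pow, map_neg]

theorem bc_n0R (ψ : K ≃+* K) : bc chevG2 (ψ : K →+* K) (n0R K) = n0R K := by
  unfold n0R
  rw [map_mul, cert12_G2.c6.c2.bc_nG, cert12_G2.c6.c2.bc_nG]

theorem bc_mem_tw (ψ : K ≃+* K) (m : ℕ) (g : GL chevG2.Idx K) (hg : g ∈ twistedG2 K (3 ^ m)) :
    bcEquiv chevG2 ψ g ∈ twistedG2 K (3 ^ m) := by
  rw [bcEquiv_apply]
  unfold twistedG2 ChevalleyDatum.genSubgroup at hg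
  induction hg using Subgroup.closure_induction with
  | mem x hx =>
    obtain ⟨w, ⟨t, u, v, rfl | rfl⟩, hx⟩ := hx
    · have : x = uR m t u v := gl_ext (by rw [hx, uR_val])
      rw [this, bc_uR]
      exact uR_mem_tw m _ _ _
    · have : x = vR m t u v := gl_ext (by rw [hx, vR_val])
      rw [this, bc_vR]
      exact vR_mem_tw m _ _ _
  | one => rw [map_one]; exact one_mem _
  | mul a b _ _ iha ihb => rw [map_mul]; exact mul_mem iha ihb
  | inv a _ iha => rw [map_inv]; exact inv_mem iha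

variable [Fintype K]

/-- the field automorphisms of the Ree group -/
noncomputable def reeFld (m : ℕ) (ψ : K ≃+* K) : ↥(twistedG2 K (3 ^ m)) ≃* ↥(twistedG2 K (3 ^ m)) :=
  restrictEquivFin (twistedG2 K (3 ^ m)) (bcEquiv chevG2 ψ) (bc_mem_tw ψ m)

theorem reeFld_val (m : ℕ) (ψ : K ≃+* K) (g : ↥(twistedG2 K (3 ^ m))) :
    ((reeFld m ψ g : ↥(twistedG2 K (3 ^ m))) : GL chevG2.Idx K) = bc chevG2 (ψ : K →+* K) (g : GL chevG2.Idx K) := rfl

/-- the torus of the Ree group -/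
noncomputable def reeHhom (m : ℕ) (hK : Fintype.card K = 3 ^ (2 * m + 1)) : Kˣ →* ↥(twistedG2 K (3 ^ m)) :=
  (hR K m).codRestrict (twistedG2 K (3 ^ m)) (hR_mem_tw m hK)

theorem reeHhom_val (m : ℕ) (hK : Fintype.card K = 3 ^ (2 * m + 1)) (z : Kˣ) :
    ((reeHhom m hK z : ↥(twistedG2 K (3 ^ m))) : GL chevG2.Idx K) = hR K m z := rfl

theorem reeUel_val (m : ℕ) (t u v : K) :
    ((reeUel m t u v : ↥(twistedG2 K (3 ^ m))) : GL chevG2.Idx K) = uR m t u v := rfl

theorem reeN0_val (m : ℕ) : ((reeN0 K m : ↥(twistedG2 K (3 ^ m))) : GL chevG2.Idx K) = n0R K := rfl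

theorem reeSig_ne (m : ℕ) (hK : Fintype.card K = 3 ^ (2 * m + 1)) (hm : 1 ≤ m) : ∃ t : K, reeSig K m t ≠ t := by
  obtain ⟨z, hz⟩ := IsCyclic.exists_generator (α := Kˣ)
  have hord : orderOf z = 3 ^ (2 * m + 1) - 1 := by
    rw [orderOf_eq_card_of_forall_mem_zpowers hz, Nat.card_units, Nat.card_eq_fintype_card, hK]
  refine ⟨(z : K), fun h => ?_⟩
  rw [reeSig_apply, reeTheta_apply, ← pow_mul] at h
  have h9 : 3 ^ 1 ≤ 3 ^ m := Nat.pow_le_pow_right (by norm_num) hm
  have hk0 : 0 < 3 ^ m * 3 - 1 := by omega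
  have e : (z : K) ^ (3 ^ m * 3 - 1) * z = 1 * z := by
    rw [← pow_succ, Nat.sub_add_cancel (by omega), h, one_mul]
  have h1 : (z : K) ^ (3 ^ m * 3 - 1) = 1 := mul_right_cancel₀ z.ne_zero e
  have h' : z ^ (3 ^ m * 3 - 1) = 1 := by
    apply Units.ext
    rw [Units.val_pow_eq_pow_val, h1]; rfl
  have hdvd := orderOf_dvd_of_pow_eq_one h'
  rw [hord] at hdvd
  have hle := Nat.le_of_dvd hk0 hdvd
  have hpow : 3 ^ (m + 1) * 3 ≤ 3 ^ (2 * m + 1) := by
    rw [← pow_succ]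
    apply Nat.pow_le_pow_right (by norm_num)
    omega
  have : 3 ^ m * 3 = 3 ^ (m + 1) := (pow_succ 3 m).symm
  omega

/-- the Ree groups satisfy the abstract description -/
noncomputable def reeSys (m : ℕ) (hK : Fintype.card K = 3 ^ (2 * m + 1)) (hm : 1 ≤ m) :
    ReeSys ↥(twistedG2 K (3 ^ m)) K where
  x := reeUel m
  h := reeHhom m hK
  n := reeN0 K m
  σ := reeSig K m
  fld := reeFld m
  three := by
    have := CharP.cast_eq_zero K 3
    exact_mod_cast this
  sig_ne := reeSig_ne m hK hm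
  x_inj := by
    intro t u v t' u' v' h
    exact uR_inj m _ _ _ _ _ _ (congrArg Subtype.val h)
  h_inj := by
    intro z z' h
    exact hR_injective m (congrArg Subtype.val h)
  x_mul := by
    intro t u v t' u' v'
    apply Subtype.ext
    rw [Subgroup.coe_mul, reeUel_val, reeUel_val, reeUel_val, uR_mul m hK]
    rfl
  h_conj := by
    intro z t u v
    apply Subtype.ext
    rw [Subgroup.coe_mul, Subgroup.coe_mul, Subgroup.coe_inv, reeUel_val, reeUel_val, reeHhom_val, hR_conj_uR m hK]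
    rfl
  bruhat := by
    intro g
    rcases fix_decomp m hK g (twistedG2_le_fix m hK g.2) with ⟨t, u, v, z, hg⟩ | ⟨t, u, v, z, t', u', v', hg⟩
    · left
      exact ⟨t, u, v, z, Subtype.ext hg⟩
    · right
      exact ⟨t, u, v, z, t', u', v', Subtype.ext hg⟩
  n_conj := by
    rintro t u v ⟨t', u', v', z, e⟩
    apply n0R_conj_uR_not_mem m t u v
    have e' := congrArg Subtype.val e
    rw [Subgroup.coe_mul, Subgroup.coe_mul, Subgroup.coe_inv, Subgroup.coe_mul, reeUel_val, reeUel_val, reeHhom_val,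
      reeN0_val] at e'
    rw [e']
    exact ((mem_borel_inf_tw m hK _).mpr ⟨t', u', v', z, rfl⟩).1
  n_inv_conj := by
    rintro t u v ⟨t', u', v', z, e⟩
    apply n0R_inv_conj_uR_not_mem m t u v
    have e' := congrArg Subtype.val e
    rw [Subgroup.coe_mul, Subgroup.coe_mul, Subgroup.coe_inv, Subgroup.coe_mul, reeUel_val, reeUel_val, reeHhom_val,
      reeN0_val] at e'
    rw [e']
    exact ((mem_borel_inf_tw m hK _).mpr ⟨t', u', v', z, rfl⟩).1
  n_h := by
    intro z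
    have h1 : (n0R K)⁻¹ * hR K m z * n0R K ∈ chevG2.diagonalSubgroup K ⊓ twistedG2 K (3 ^ m) :=
      Subgroup.mem_inf.mpr ⟨n0R_inv_conj_diag _ (hR_mem_diag m z),
        mul_mem (mul_mem (inv_mem (n0R_mem_tw m)) (hR_mem_tw m hK z)) (n0R_mem_tw m)⟩
    obtain ⟨z', hz'⟩ := (mem_diag_inf_tw m hK _).mp h1
    exact ⟨z', Subtype.ext hz'⟩
  core := by
    intro k hk
    apply Subtype.ext
    apply tw_core_trivial_G2 m hK
    intro g hg
    obtain ⟨t, u, v, z, e⟩ := hk ⟨g, hg⟩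
    have e' := congrArg Subtype.val e
    rw [Subgroup.coe_mul, Subgroup.coe_mul, Subgroup.coe_inv, Subgroup.coe_mul, reeUel_val, reeHhom_val] at e'
    show g * (k : GL chevG2.Idx K) * g⁻¹ ∈ _
    rw [e']
    exact (mem_borel_inf_tw m hK _).mpr ⟨t, u, v, z, rfl⟩
  fld_x := by
    intro ψ t u v
    apply Subtype.ext
    rw [reeFld_val, reeUel_val, reeUel_val, bc_uR]
  fld_n := by
    intro ψ
    apply Subtype.ext
    rw [reeFld_val, reeN0_val, bc_n0R]

theorem reeSys_U (m : ℕ) (hK : Fintype.card K = 3 ^ (2 * m + 1)) (hm : 1 ≤ m) :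
    (reeSys m hK hm).U = reeU K m := by
  ext g
  rw [mem_reeU, ReeSys.mem_U]
  constructor
  · rintro ⟨t, u, v, rfl⟩
    exact uR_mem_pos m t u v
  · intro hg
    obtain ⟨t, u, v, e⟩ := (mem_pos_inf_tw m hK _).mp ⟨hg, g.2⟩
    exact ⟨t, u, v, Subtype.ext e⟩

/-- the order of the outer automorphism group of the Ree group `²G₂(q)` -/
theorem card_out_twistedG2 (m : ℕ) (hK : Fintype.card K = 3 ^ (2 * m + 1)) (hm : 1 ≤ m) :
    Nat.card (Cfsg.Out ↥(twistedG2 K (3 ^ m))) = 2 * m + 1 := by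
  have hs := tw_simple_G2 m hK hm
  have hZ := center_eq_bot_of_simple hs.1 hs.2
  have hUp : IsPGroup 3 ↥(reeSys m hK hm).U := by
    rw [reeSys_U]
    exact (reeSylow m hK).isPGroup'
  have hidx : ¬ 3 ∣ (reeSys m hK hm).U.index := by
    rw [reeSys_U]
    exact (reeSylow m hK).not_dvd_index
  rw [(reeSys m hK hm).card_out hUp hidx hZ]
  exact Cfsg.Agent.Lib.H2.SzAut.card_ringAut hK

end Ree

end Cfsg.Agent.Lib.H29.Chev
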