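import Mathlib

/-!
# Counting the elements conjugate into a subgroup which is TI relative to its normaliser
-/

set_option autoImplicit false

namespace Cfsg.Agent.Lib.H29.Ree

/-- the conjugate of a non-trivial element of `A`, as an element of the set of the elements conjugate into `A` -/
def conjCov {Γ : Type*} [Group Γ] (A : Subgroup Γ) (g : Γ) (y : {y : Γ // y ∈ A ∧ y ≠ 1}) :
    {y : Γ // y ≠ 1 ∧ ∃ g : Γ, g⁻¹ * y * g ∈ A} :=
  ⟨g * y.1 * g⁻¹, by
    intro h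
    apply y.2.2
    have : y.1 = g⁻¹ * (g * y.1 * g⁻¹) * g := by group
    rw [this, h]
    group, g, by
    have : g⁻¹ * (g * y.1 * g⁻¹) * g = y.1 := by group
    rw [this]
    exact y.2.1⟩

theorem conjCov_val {Γ : Type*} [Group Γ] (A : Subgroup Γ) (g : Γ) (y : {y : Γ // y ∈ A ∧ y ≠ 1}) :
    (conjCov A g y).1 = g * y.1 * g⁻¹ := rfl

/-- **REE-B2** the non-trivial elements conjugate into a subgroup `A` that is "TI relative to its normaliser" -/
theorem card_conj_cover {Γ : Type*} [Group Γ] [Finite Γ] (A : Subgroup Γ)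
    (hTI : ∀ g : Γ, ∀ y ∈ A, y ≠ 1 → g * y * g⁻¹ ∈ A → g ∈ Subgroup.normalizer (A : Set Γ)) :
    Nat.card {y : Γ // y ≠ 1 ∧ ∃ g : Γ, g⁻¹ * y * g ∈ A} * Nat.card (Subgroup.normalizer (A : Set Γ)) =
      Nat.card Γ * (Nat.card A - 1) := by
  classical
  -- the non-trivial elements of `A`
  have hA' : Nat.card {y : Γ // y ∈ A ∧ y ≠ 1} = Nat.card A - 1 := by
    have e : {y : Γ // y ∈ A ∧ y ≠ 1} ≃ {y : A // y ≠ 1} :=
      { toFun := fun y => ⟨⟨y.1, y.2.1⟩, fun h => y.2.2 (congrArg Subtype.val h)⟩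
        invFun := fun y => ⟨y.1.1, y.1.2, fun h => y.2 (Subtype.ext h)⟩
        left_inv := fun y => rfl
        right_inv := fun y => rfl }
    rw [Nat.card_congr e]
    have := Fintype.ofFinite A
    rw [Nat.card_eq_fintype_card, Nat.card_eq_fintype_card, Fintype.card_subtype_compl, Fintype.card_subtype_eq]
  rw [← hA', ← Nat.card_prod, ← Nat.card_prod]
  -- a conjugating element for each element of the set
  have hch : ∀ s : {y : Γ // y ≠ 1 ∧ ∃ g : Γ, g⁻¹ * y * g ∈ A}, ∃ g : Γ, g⁻¹ * s.1 * g ∈ A := fun s => s.2.2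
  choose c hc using hch
  have hne : ∀ s : {y : Γ // y ≠ 1 ∧ ∃ g : Γ, g⁻¹ * y * g ∈ A}, (c s)⁻¹ * s.1 * c s ≠ 1 := by
    intro s h
    apply s.2.1
    have : s.1 = c s * ((c s)⁻¹ * s.1 * c s) * (c s)⁻¹ := by group
    rw [this, h]
    group
  -- `g⁻¹ g_s` normalises `A`
  have hnorm : ∀ (g : Γ) (y : {y : Γ // y ∈ A ∧ y ≠ 1}),
      g⁻¹ * c (conjCov A g y) ∈ Subgroup.normalizer (A : Set Γ) := by
    intro g y
    apply hTI _ _ (hc (conjCov A g y)) (hne (conjCov A g y))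
    have : g⁻¹ * c (conjCov A g y) * ((c (conjCov A g y))⁻¹ * (conjCov A g y).1 * c (conjCov A g y)) *
        (g⁻¹ * c (conjCov A g y))⁻¹ = y.1 := by
      rw [conjCov_val]
      group
    rw [this]
    exact y.2.1
  apply Nat.card_congr
  refine
    { toFun := fun p => (c p.1 * (p.2.1)⁻¹, ⟨p.2.1 * ((c p.1)⁻¹ * p.1.1 * c p.1) * (p.2.1)⁻¹,
        (Subgroup.mem_normalizer_iff.mp p.2.2 _).mp (hc p.1), ?_⟩)
      invFun := fun p => (conjCov A p.1 p.2, ⟨p.1⁻¹ * c (conjCov A p.1 p.2), hnorm p.1 p.2⟩)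
      left_inv := ?_
      right_inv := ?_ }
  · intro h
    apply hne p.1
    have : (c p.1)⁻¹ * p.1.1 * c p.1 = (p.2.1)⁻¹ * (p.2.1 * ((c p.1)⁻¹ * p.1.1 * c p.1) * (p.2.1)⁻¹) * p.2.1 := by
      group
    rw [this, h]
    group
  · rintro ⟨s, n⟩
    have e1 : ∀ (h1 : n.1 * ((c s)⁻¹ * s.1 * c s) * n.1⁻¹ ∈ A ∧ n.1 * ((c s)⁻¹ * s.1 * c s) * n.1⁻¹ ≠ 1),
        conjCov A (c s * n.1⁻¹) ⟨n.1 * ((c s)⁻¹ * s.1 * c s) * n.1⁻¹, h1⟩ = s := by
      intro h1
      apply Subtype.ext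
      rw [conjCov_val]
      group
    apply Prod.ext
    · exact e1 _
    · apply Subtype.ext
      show (c s * n.1⁻¹)⁻¹ * c (conjCov A (c s * n.1⁻¹) ⟨n.1 * ((c s)⁻¹ * s.1 * c s) * n.1⁻¹, _⟩) = n.1
      rw [e1]
      group
  · rintro ⟨g, y⟩
    apply Prod.ext
    · show c (conjCov A g y) * (g⁻¹ * c (conjCov A g y))⁻¹ = g
      group
    · apply Subtype.ext
      show g⁻¹ * c (conjCov A g y) * ((c (conjCov A g y))⁻¹ * (conjCov A g y).1 * c (conjCov A g y)) *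
        (g⁻¹ * c (conjCov A g y))⁻¹ = y.1
      rw [conjCov_val]
      group

end Cfsg.Agent.Lib.H29.Ree
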