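import Mathlib

/-!
# Counting the elements of even order in a group with one class of involutions and no elements of order four
-/

set_option autoImplicit false

namespace Cfsg.Agent.Lib.H29.Ree

/-- the involution and the odd part determine each other -/
theorem even_decomp_unique {Γ : Type*} [Group Γ] (v w : Γ) (hv1 : v ≠ 1) (hv2 : v * v = 1) (hc : Commute v w)
    (hw : Odd (orderOf w)) :
    Even (orderOf (v * w)) ∧ (v * w) ^ (orderOf (v * w) / 2) = v := by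
  have : Fact (Nat.Prime 2) := ⟨Nat.prime_two⟩
  have ov : orderOf v = 2 := orderOf_eq_prime (by rw [sq]; exact hv2) hv1
  have hcop : (orderOf v).Coprime (orderOf w) := by
    rw [ov]
    exact Nat.coprime_two_left.mpr hw
  have ho : orderOf (v * w) = 2 * orderOf w := by
    rw [hc.orderOf_mul_eq_mul_orderOf_of_coprime hcop, ov]
  refine ⟨by rw [ho]; exact even_two_mul _, ?_⟩
  rw [ho, Nat.mul_div_cancel_left _ (by norm_num : 0 < 2), hc.mul_pow, pow_orderOf_eq_one, mul_one]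
  obtain ⟨k, hk⟩ := hw
  rw [hk, pow_succ, pow_mul, sq, hv2, one_pow, one_mul]

/-- the decomposition of an element of even order, when there are no elements of order four -/
theorem even_decomp_exists {Γ : Type*} [Group Γ] [Finite Γ] (h4 : ∀ x : Γ, x ^ 4 = 1 → x * x = 1) (y : Γ)
    (hy : Even (orderOf y)) :
    y ^ (orderOf y / 2) ≠ 1 ∧ y ^ (orderOf y / 2) * y ^ (orderOf y / 2) = 1 ∧
      Odd (orderOf (y ^ (orderOf y / 2) * y)) := by
  have hpos : 0 < orderOf y := orderOf_pos y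
  have h2 : orderOf y = 2 * (orderOf y / 2) := (Nat.two_mul_div_two_of_even hy).symm
  set o' := orderOf y / 2 with ho'
  have ho'pos : 0 < o' := by omega
  have hodd : Odd o' := by
    by_contra hne
    rw [Nat.not_odd_iff_even] at hne
    obtain ⟨k, hk⟩ := hne
    have hx : (y ^ k) ^ 4 = 1 := by
      rw [← pow_mul, show k * 4 = orderOf y by omega, pow_orderOf_eq_one]
    have := h4 _ hx
    rw [← pow_add] at this
    have hd := orderOf_dvd_of_pow_eq_one this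
    have := Nat.le_of_dvd (by omega) hd
    omega
  refine ⟨?_, ?_, ?_⟩
  · intro h
    have hd := orderOf_dvd_of_pow_eq_one h
    have := Nat.le_of_dvd ho'pos hd
    omega
  · rw [← pow_add, show o' + o' = orderOf y by omega, pow_orderOf_eq_one]
  · have e : (y ^ o' * y) ^ o' = 1 := by
      rw [← pow_succ, ← pow_mul]
      obtain ⟨j, hj⟩ := hodd
      have : (o' + 1) * o' = orderOf y * (j + 1) := by
        rw [h2, hj]
        ring
      rw [this, pow_mul, pow_orderOf_eq_one, one_pow]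
    exact Odd.of_dvd_nat hodd (orderOf_dvd_of_pow_eq_one e)

/-- **REE-B1** elements of even order, when all involutions are conjugate and there is no element of order 4 -/
theorem card_even_order {Γ : Type*} [Group Γ] [Finite Γ] (a : Γ) (ha1 : a ≠ 1) (ha2 : a * a = 1)
    (hconj : ∀ v : Γ, v ≠ 1 → v * v = 1 → ∃ g : Γ, g * a * g⁻¹ = v)
    (h4 : ∀ x : Γ, x ^ 4 = 1 → x * x = 1) :
    Nat.card {y : Γ // Even (orderOf y)} * Nat.card (Subgroup.centralizer ({a} : Set Γ)) =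
      Nat.card Γ * Nat.card {w : Γ // w * a = a * w ∧ Odd (orderOf w)} := by
  classical
  rw [← Nat.card_prod, ← Nat.card_prod]
  -- a conjugating element for each element of even order
  have hch : ∀ y : {y : Γ // Even (orderOf y)}, ∃ g : Γ, g * a * g⁻¹ = y.1 ^ (orderOf y.1 / 2) := by
    intro y
    obtain ⟨h1, h2, _⟩ := even_decomp_exists h4 y.1 y.2
    exact hconj _ h1 h2
  choose c hc using hch
  -- the element of even order attached to a pair
  have hE : ∀ (g : Γ) (w : {w : Γ // w * a = a * w ∧ Odd (orderOf w)}),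
      Even (orderOf (g * (a * w.1) * g⁻¹)) ∧
        (g * (a * w.1) * g⁻¹) ^ (orderOf (g * (a * w.1) * g⁻¹) / 2) = g * a * g⁻¹ := by
    intro g w
    have e : g * (a * w.1) * g⁻¹ = (g * a * g⁻¹) * (g * w.1 * g⁻¹) := by group
    rw [e]
    apply even_decomp_unique
    · intro h
      apply ha1
      have : a = g⁻¹ * (g * a * g⁻¹) * g := by group
      rw [this, h]
      group
    · have : g * a * g⁻¹ * (g * a * g⁻¹) = g * (a * a) * g⁻¹ := by group
      rw [this, ha2]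
      group
    · show g * a * g⁻¹ * (g * w.1 * g⁻¹) = g * w.1 * g⁻¹ * (g * a * g⁻¹)
      have : g * a * g⁻¹ * (g * w.1 * g⁻¹) = g * (a * w.1) * g⁻¹ := by group
      rw [this, ← w.2.1]
      group
    · have : g * w.1 * g⁻¹ = MulAut.conj g w.1 := rfl
      rw [this, MulEquiv.orderOf_eq]
      exact w.2.2
  apply Nat.card_congr
  refine
    { toFun := fun p => (c p.1 * p.2.1, ⟨(c p.1 * p.2.1)⁻¹ * (p.1.1 ^ (orderOf p.1.1 / 2) * p.1.1) * (c p.1 * p.2.1), ?_, ?_⟩)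
      invFun := fun p => (⟨p.1 * (a * p.2.1) * p.1⁻¹, (hE p.1 p.2).1⟩,
        ⟨(c ⟨p.1 * (a * p.2.1) * p.1⁻¹, (hE p.1 p.2).1⟩)⁻¹ * p.1, ?_⟩)
      left_inv := ?_
      right_inv := ?_ }
  · -- the odd part commutes with `a`
    have hca : p.2.1 * a = a * p.2.1 := by
      have := Subgroup.mem_centralizer_iff.mp p.2.2 a (Set.mem_singleton a)
      exact this.symm
    have hv := hc p.1
    -- `a = g⁻¹ v g` with `g = c y * n`
    have e1 : a = (c p.1 * p.2.1)⁻¹ * (p.1.1 ^ (orderOf p.1.1 / 2)) * (c p.1 * p.2.1) := by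
      rw [← hv]
      have : (c p.1 * p.2.1)⁻¹ * (c p.1 * a * (c p.1)⁻¹) * (c p.1 * p.2.1) = (p.2.1)⁻¹ * (a * p.2.1) := by group
      rw [this, ← hca]
      group
    have hpc : (p.1.1 ^ (orderOf p.1.1 / 2) * p.1.1) * p.1.1 ^ (orderOf p.1.1 / 2) =
        p.1.1 ^ (orderOf p.1.1 / 2) * (p.1.1 ^ (orderOf p.1.1 / 2) * p.1.1) := by
      rw [← pow_succ, ← pow_add, ← pow_add]
      congr 1
      omega
    calc (c p.1 * p.2.1)⁻¹ * (p.1.1 ^ (orderOf p.1.1 / 2) * p.1.1) * (c p.1 * p.2.1) * a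
        = (c p.1 * p.2.1)⁻¹ * (p.1.1 ^ (orderOf p.1.1 / 2) * p.1.1) * (c p.1 * p.2.1) *
          ((c p.1 * p.2.1)⁻¹ * (p.1.1 ^ (orderOf p.1.1 / 2)) * (c p.1 * p.2.1)) := by rw [← e1]
      _ = (c p.1 * p.2.1)⁻¹ * ((p.1.1 ^ (orderOf p.1.1 / 2) * p.1.1) * p.1.1 ^ (orderOf p.1.1 / 2)) *
          (c p.1 * p.2.1) := by group
      _ = (c p.1 * p.2.1)⁻¹ * (p.1.1 ^ (orderOf p.1.1 / 2) * (p.1.1 ^ (orderOf p.1.1 / 2) * p.1.1)) *
          (c p.1 * p.2.1) := by rw [hpc]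
      _ = ((c p.1 * p.2.1)⁻¹ * (p.1.1 ^ (orderOf p.1.1 / 2)) * (c p.1 * p.2.1)) *
          ((c p.1 * p.2.1)⁻¹ * (p.1.1 ^ (orderOf p.1.1 / 2) * p.1.1) * (c p.1 * p.2.1)) := by group
      _ = a * ((c p.1 * p.2.1)⁻¹ * (p.1.1 ^ (orderOf p.1.1 / 2) * p.1.1) * (c p.1 * p.2.1)) := by rw [← e1]
  · have : (c p.1 * p.2.1)⁻¹ * (p.1.1 ^ (orderOf p.1.1 / 2) * p.1.1) * (c p.1 * p.2.1) =
        MulAut.conj (c p.1 * p.2.1)⁻¹ (p.1.1 ^ (orderOf p.1.1 / 2) * p.1.1) := by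
      rw [MulAut.conj_apply, inv_inv]
    rw [this, MulEquiv.orderOf_eq]
    exact (even_decomp_exists h4 p.1.1 p.1.2).2.2
  · -- `g_y⁻¹ g` centralises `a`
    rw [Subgroup.mem_centralizer_iff]
    intro x hx
    rw [Set.mem_singleton_iff] at hx
    subst hx
    have h1 := hc ⟨p.1 * (x * p.2.1) * p.1⁻¹, (hE p.1 p.2).1⟩
    have h2 := (hE p.1 p.2).2
    have h3 : c ⟨p.1 * (x * p.2.1) * p.1⁻¹, (hE p.1 p.2).1⟩ * x * (c ⟨p.1 * (x * p.2.1) * p.1⁻¹, (hE p.1 p.2).1⟩)⁻¹ =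
        p.1 * x * p.1⁻¹ := h1.trans h2
    generalize c ⟨p.1 * (x * p.2.1) * p.1⁻¹, (hE p.1 p.2).1⟩ = d at h3
    have : x = d⁻¹ * (p.1 * x * p.1⁻¹) * d := by
      rw [← h3]
      group
    calc x * (d⁻¹ * p.1) = d⁻¹ * (p.1 * x * p.1⁻¹) * d * (d⁻¹ * p.1) := by rw [← this]
      _ = d⁻¹ * p.1 * x := by group
  · rintro ⟨y, n⟩
    obtain ⟨h1, h2, h3⟩ := even_decomp_exists h4 y.1 y.2
    have hca : n.1 * a = a * n.1 := by
      have := Subgroup.mem_centralizer_iff.mp n.2 a (Set.mem_singleton a)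
      exact this.symm
    have hv := hc y
    have hy : y.1 ^ (orderOf y.1 / 2) * (y.1 ^ (orderOf y.1 / 2) * y.1) = y.1 := by
      rw [← mul_assoc, h2, one_mul]
    have e0 : c y * n.1 * (a * ((c y * n.1)⁻¹ * (y.1 ^ (orderOf y.1 / 2) * y.1) * (c y * n.1))) * (c y * n.1)⁻¹ = y.1 := by
      have e2 : c y * n.1 * (a * ((c y * n.1)⁻¹ * (y.1 ^ (orderOf y.1 / 2) * y.1) * (c y * n.1))) * (c y * n.1)⁻¹ =
          (c y * (n.1 * a * n.1⁻¹) * (c y)⁻¹) * (y.1 ^ (orderOf y.1 / 2) * y.1) := by group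
      rw [e2, hca]
      have e3 : c y * (a * n.1 * n.1⁻¹) * (c y)⁻¹ = c y * a * (c y)⁻¹ := by group
      rw [e3, hv, hy]
    have e1 : ∀ (h : Even (orderOf (c y * n.1 * (a * ((c y * n.1)⁻¹ * (y.1 ^ (orderOf y.1 / 2) * y.1) * (c y * n.1))) *
        (c y * n.1)⁻¹))),
        (⟨c y * n.1 * (a * ((c y * n.1)⁻¹ * (y.1 ^ (orderOf y.1 / 2) * y.1) * (c y * n.1))) * (c y * n.1)⁻¹, h⟩ :
          {y : Γ // Even (orderOf y)}) = y := fun h => Subtype.ext e0
    apply Prod.ext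
    · exact e1 _
    · apply Subtype.ext
      show (c ⟨c y * n.1 * (a * ((c y * n.1)⁻¹ * (y.1 ^ (orderOf y.1 / 2) * y.1) * (c y * n.1))) * (c y * n.1)⁻¹, _⟩)⁻¹ *
        (c y * n.1) = n.1
      rw [e1]
      group
  · rintro ⟨g, w⟩
    have h2 := (hE g w).2
    apply Prod.ext
    · show c ⟨g * (a * w.1) * g⁻¹, (hE g w).1⟩ * ((c ⟨g * (a * w.1) * g⁻¹, (hE g w).1⟩)⁻¹ * g) = g
      group
    · apply Subtype.ext
      show (c ⟨g * (a * w.1) * g⁻¹, (hE g w).1⟩ * ((c ⟨g * (a * w.1) * g⁻¹, (hE g w).1⟩)⁻¹ * g))⁻¹ *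
        ((g * (a * w.1) * g⁻¹) ^ (orderOf (g * (a * w.1) * g⁻¹) / 2) * (g * (a * w.1) * g⁻¹)) *
        (c ⟨g * (a * w.1) * g⁻¹, (hE g w).1⟩ * ((c ⟨g * (a * w.1) * g⁻¹, (hE g w).1⟩)⁻¹ * g)) = w.1
      generalize c ⟨g * (a * w.1) * g⁻¹, (hE g w).1⟩ = d
      rw [h2]
      have : (d * (d⁻¹ * g))⁻¹ * (g * a * g⁻¹ * (g * (a * w.1) * g⁻¹)) * (d * (d⁻¹ * g)) = (a * a) * w.1 := by group
      rw [this, ha2, one_mul]

end Cfsg.Agent.Lib.H29.Ree
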