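import Cfsg.Agent.Lib.H12.ReeC1
import Cfsg.Agent.Lib.H12.ReeT2

/-!
# The normaliser of the split torus of an abstract Ree system
-/

set_option autoImplicit false
set_option linter.unusedSectionVars false
set_option linter.unusedVariables false

namespace Cfsg.Agent.Lib.H29.Ree

open Cfsg.Agent.Lib.H12.ReeC Cfsg.Agent.Lib.H12.ReeC.RSys

variable {G K : Type*} [Group G] [Field K] (R : RSys G K)

/-- an element of `U` commuting with an element of the torus whose square is not `1` is trivial -/
theorem U_comm_h_eq_one (hF : R.TorusFacts) (z : Kˣ) (hz : z * z ≠ 1) (y : G) (hy : y ∈ R.U)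
    (hc : R.h z * y * (R.h z)⁻¹ = y) : y = 1 := by
  have h1 : y ∈ Subgroup.centralizer {R.h z} := by
    rw [Subgroup.mem_centralizer_singleton_iff]
    calc y * R.h z = (R.h z * y * (R.h z)⁻¹) * R.h z := by rw [hc]
      _ = R.h z * y := by group
  rw [R.centralizer_h hF z hz] at h1
  obtain ⟨w, hw⟩ := h1
  exact R.U_inf_H y hy w hw.symm

/-- the elements of the normaliser of the split torus -/
theorem mem_normalizer_Hs_cases (hF : R.TorusFacts) (z : Kˣ) (hz : z * z ≠ 1) (g : G)
    (hg : g ∈ Subgroup.normalizer (R.Hs : Set G)) : (∃ w, g = R.h w) ∨ ∃ w, g = R.n * R.h w := by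
  have hmem : g * R.h z * g⁻¹ ∈ R.Hs := (Subgroup.mem_normalizer_iff.mp hg _).mp (R.h_mem_Hs z)
  obtain ⟨z', hz'⟩ := hmem
  have hz'2 : z' * z' ≠ 1 := by
    intro h
    apply hz
    apply R.h_inj
    have : R.h (z * z) = g⁻¹ * (R.h (z' * z')) * g := by
      rw [map_mul, map_mul, hz']
      group
    rw [this, h, map_one]
    group
  have hcomm : ∀ a b : Kˣ, R.h a * R.h b = R.h b * R.h a := fun a b => by
    rw [← map_mul, ← map_mul, mul_comm]
  have key : g * R.h z = R.h z' * g := by
    rw [hz']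
    group
  rcases R.bruhat g with ⟨t, u, v, w, rfl⟩ | ⟨t, u, v, w, t', u', v', rfl⟩
  · left
    -- `x (h w) (h z) = (h z') x (h w)`
    have e1 : R.x t u v * R.h w * R.h z = R.x t u v * R.h (w * z) := by rw [map_mul]; group
    have e2 : R.h z' * (R.x t u v * R.h w) = (R.h z' * R.x t u v * (R.h z')⁻¹) * R.h (z' * w) := by
      rw [map_mul]; group
    rw [e1, e2] at key
    obtain ⟨h1, h2⟩ := R.cellB_inj _ _ (R.x_mem_U _ _ _) (R.h_conj_mem_U z' _ (R.x_mem_U _ _ _)) _ _ key
    have h3 := U_comm_h_eq_one R hF z' hz'2 _ (R.x_mem_U t u v) h1.symm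
    exact ⟨w, by rw [h3, one_mul]⟩
  · right
    have e1 : R.x t u v * (R.n * R.h w) * R.x t' u' v' * R.h z =
        R.x t u v * (R.n * R.h (w * z)) * ((R.h z)⁻¹ * R.x t' u' v' * R.h z) := by
      rw [map_mul]; group
    have e2 : R.h z' * (R.x t u v * (R.n * R.h w) * R.x t' u' v') =
        (R.h z' * R.x t u v * (R.h z')⁻¹) * (R.n * R.h (z'⁻¹ * w)) * R.x t' u' v' := by
      have : R.h z' * R.n = R.n * (R.h z')⁻¹ := R.h_mul_n z'
      calc R.h z' * (R.x t u v * (R.n * R.h w) * R.x t' u' v')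
          = (R.h z' * R.x t u v * (R.h z')⁻¹) * ((R.h z' * R.n) * R.h w) * R.x t' u' v' := by group
        _ = _ := by rw [this, map_mul, map_inv]; group
    rw [e1, e2] at key
    have hU2 : (R.h z)⁻¹ * R.x t' u' v' * R.h z ∈ R.U := by
      have := R.h_conj_mem_U z⁻¹ _ (R.x_mem_U t' u' v')
      rw [map_inv, inv_inv] at this
      exact this
    obtain ⟨h1, h2, h3⟩ := R.cellW_inj _ _ _ _ (R.x_mem_U _ _ _) hU2
      (R.h_conj_mem_U z' _ (R.x_mem_U _ _ _)) (R.x_mem_U _ _ _) _ _ key
    have k1 := U_comm_h_eq_one R hF z' hz'2 _ (R.x_mem_U t u v) h1.symm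
    have k2 : R.x t' u' v' = 1 := by
      apply U_comm_h_eq_one R hF z hz _ (R.x_mem_U t' u' v')
      calc R.h z * R.x t' u' v' * (R.h z)⁻¹
          = R.h z * ((R.h z)⁻¹ * R.x t' u' v' * R.h z) * (R.h z)⁻¹ := by rw [h3]
        _ = R.x t' u' v' := by group
    exact ⟨w, by rw [k1, k2, one_mul, mul_one]⟩

theorem h_mem_normalizer_Hs (w : Kˣ) : R.h w ∈ Subgroup.normalizer (R.Hs : Set G) :=
  Subgroup.le_normalizer (R.h_mem_Hs w)

theorem n_mem_normalizer_Hs : R.n ∈ Subgroup.normalizer (R.Hs : Set G) := by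
  rw [Subgroup.mem_normalizer_iff]
  intro y
  constructor
  · rintro ⟨w, rfl⟩
    rw [R.n_h, ← map_inv]
    exact R.h_mem_Hs _
  · rintro ⟨w, hw⟩
    have : y = R.n⁻¹ * (R.n * y * R.n⁻¹) * R.n := by group
    rw [this, ← hw, R.n_inv]
    have e : R.n * R.h w * R.n = R.n * R.h w * R.n⁻¹ := by rw [R.n_inv]
    rw [e, R.n_h, ← map_inv]
    exact R.h_mem_Hs _

variable [Fintype K] [Finite G]

/-- **REE-D2** `N(H) = H ∪ n H` for the split torus -/
theorem card_normalizer_Hs (hF : R.TorusFacts) (hq5 : 5 ≤ Fintype.card K) :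
    Nat.card (Subgroup.normalizer (R.Hs : Set G)) = 2 * (Fintype.card K - 1) := by
  classical
  -- an element of the torus whose square is not `1`
  obtain ⟨z, hz⟩ : ∃ z : Kˣ, z * z ≠ 1 := by
    by_contra hall
    push Not at hall
    have h1 : ∀ z : Kˣ, z = 1 ∨ z = -1 := by
      intro z
      have h := hall z
      have h' : (z : K) * z = 1 := by
        have := congrArg Units.val h
        simpa using this
      have h2 : ((z : K) - 1) * ((z : K) + 1) = 0 := by linear_combination h'
      rcases mul_eq_zero.mp h2 with h3 | h3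
      · left
        apply Units.ext
        rw [Units.val_one]
        linear_combination h3
      · right
        apply Units.ext
        rw [Units.val_neg, Units.val_one]
        linear_combination h3
    have h2 : Fintype.card Kˣ ≤ 2 := by
      have : (Finset.univ : Finset Kˣ) ⊆ {1, -1} := by
        intro z _
        rcases h1 z with h | h
        · rw [h]; exact Finset.mem_insert_self _ _
        · rw [h]; exact Finset.mem_insert_of_mem (Finset.mem_singleton_self _)
      calc Fintype.card Kˣ = (Finset.univ : Finset Kˣ).card := rfl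
        _ ≤ ({1, -1} : Finset Kˣ).card := Finset.card_le_card this
        _ ≤ 2 := Finset.card_le_two
    rw [Fintype.card_units] at h2
    omega
  have hset : ((Subgroup.normalizer (R.Hs : Set G) : Subgroup G) : Set G) =
      (R.Hs : Set G) ∪ (fun y => R.n * y) '' (R.Hs : Set G) := by
    ext g
    constructor
    · intro hg
      rcases mem_normalizer_Hs_cases R hF z hz g hg with ⟨w, rfl⟩ | ⟨w, rfl⟩
      · exact Or.inl (R.h_mem_Hs w)
      · exact Or.inr ⟨R.h w, R.h_mem_Hs w, rfl⟩
    · rintro (hg | ⟨y, hy, rfl⟩)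
      · exact Subgroup.le_normalizer hg
      · exact mul_mem (n_mem_normalizer_Hs R) (Subgroup.le_normalizer hy)
  have hdisj : Disjoint (R.Hs : Set G) ((fun y => R.n * y) '' (R.Hs : Set G)) := by
    rw [Set.disjoint_left]
    rintro g ⟨w, rfl⟩ ⟨y, ⟨w', rfl⟩, hy⟩
    apply R.n_not_mem_B
    have : R.n = R.h w * (R.h w')⁻¹ := by
      have hy' : R.n * R.h w' = R.h w := hy
      rw [← hy']
      group
    rw [this]
    exact mul_mem (R.h_mem_B _) (inv_mem (R.h_mem_B _))
  have hc : Nat.card (Subgroup.normalizer (R.Hs : Set G)) =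
      Set.ncard ((Subgroup.normalizer (R.Hs : Set G) : Subgroup G) : Set G) := by
    rw [← _root_.Nat.card_coe_set_eq]
    rfl
  rw [hc, hset, Set.ncard_union_eq hdisj (Set.toFinite _) (Set.toFinite _),
    Set.ncard_image_of_injective _ (mul_right_injective R.n)]
  have hH : Set.ncard (R.Hs : Set G) = Fintype.card K - 1 := by
    rw [← R.card_Hs, ← _root_.Nat.card_coe_set_eq]
    rfl
  rw [hH]
  ring

end Cfsg.Agent.Lib.H29.Ree
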