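import Mathlib

/-!
# Central extensions: commutators of lifts
-/

set_option autoImplicit false
set_option linter.unusedSectionVars false
set_option linter.unusedSimpArgs false
set_option linter.unusedVariables false

namespace Cfsg.Agent.Lib.H29.Chev

namespace CE

open scoped commutatorElement

variable {E M : Type*} [Group E] [Group M]

theorem comm_mul_central_left {z a b : E} (hz : ∀ g : E, g * z = z * g) : ⁅a * z, b⁆ = ⁅a, b⁆ := by
  rw [commutatorElement_def, commutatorElement_def, mul_inv_rev]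
  calc a * z * b * (z⁻¹ * a⁻¹) * b⁻¹ = a * (z * b) * z⁻¹ * a⁻¹ * b⁻¹ := by group
    _ = a * (b * z) * z⁻¹ * a⁻¹ * b⁻¹ := by rw [hz b]
    _ = a * b * a⁻¹ * b⁻¹ := by group

theorem comm_mul_central_right {z a b : E} (hz : ∀ g : E, g * z = z * g) : ⁅a, b * z⁆ = ⁅a, b⁆ := by
  rw [commutatorElement_def, commutatorElement_def, mul_inv_rev]
  calc a * (b * z) * a⁻¹ * (z⁻¹ * b⁻¹) = a * b * (z * a⁻¹) * z⁻¹ * b⁻¹ := by group
    _ = a * b * (a⁻¹ * z) * z⁻¹ * b⁻¹ := by rw [hz a⁻¹]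
    _ = a * b * a⁻¹ * b⁻¹ := by group

variable (p : E →* M) (hc : p.ker ≤ Subgroup.center E)
include hc

theorem central_of_ker {z : E} (hz : p z = 1) : ∀ g : E, g * z = z * g := by
  have := hc (MonoidHom.mem_ker.mpr hz)
  exact Subgroup.mem_center_iff.mp this

/-- the commutator of two lifts does not depend on the lifts -/
theorem comm_indep {a a' b b' : E} (ha : p a = p a') (hb : p b = p b') : ⁅a, b⁆ = ⁅a', b'⁆ := by
  have h1 : ∀ g : E, g * (a⁻¹ * a') = (a⁻¹ * a') * g := central_of_ker p hc (by rw [map_mul, map_inv, ha, inv_mul_cancel])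
  have h2 : ∀ g : E, g * (b⁻¹ * b') = (b⁻¹ * b') * g := central_of_ker p hc (by rw [map_mul, map_inv, hb, inv_mul_cancel])
  have e1 : a' = a * (a⁻¹ * a') := by group
  have e2 : b' = b * (b⁻¹ * b') := by group
  rw [e1, e2, comm_mul_central_left h1, comm_mul_central_right h2]

/-- the commutator of lifts of commuting elements is central -/
theorem comm_central {a b : E} (h : Commute (p a) (p b)) : ∀ g : E, g * ⁅a, b⁆ = ⁅a, b⁆ * g := by
  apply central_of_ker p hc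
  rw [map_commutatorElement]
  exact commutatorElement_eq_one_iff_commute.mpr h

/-- an element that commutes with `a` and `b` modulo the centre commutes with `[a, b]` -/
theorem commute_comm {x a b : E} (h1 : ∀ g : E, g * ⁅x, a⁆ = ⁅x, a⁆ * g) (h2 : ∀ g : E, g * ⁅x, b⁆ = ⁅x, b⁆ * g) :
    Commute x ⁅a, b⁆ := by
  have e : x * ⁅a, b⁆ * x⁻¹ = ⁅x * a * x⁻¹, x * b * x⁻¹⁆ := by
    simp only [commutatorElement_def]; group
  have ea : x * a * x⁻¹ = a * ⁅a⁻¹, x⁆ := by simp only [commutatorElement_def]; group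
  have eb : x * b * x⁻¹ = b * ⁅b⁻¹, x⁆ := by simp only [commutatorElement_def]; group
  have ca : ∀ g : E, g * ⁅a⁻¹, x⁆ = ⁅a⁻¹, x⁆ * g := by
    have h3 : ⁅a⁻¹, x⁆ = a⁻¹ * ⁅x, a⁆ * a := by simp only [commutatorElement_def]; group
    have h4 : ⁅a⁻¹, x⁆ = ⁅x, a⁆ := by rw [h3, h1 a⁻¹]; group
    rw [h4]; exact h1
  have cb : ∀ g : E, g * ⁅b⁻¹, x⁆ = ⁅b⁻¹, x⁆ * g := by
    have h3 : ⁅b⁻¹, x⁆ = b⁻¹ * ⁅x, b⁆ * b := by simp only [commutatorElement_def]; group
    have h4 : ⁅b⁻¹, x⁆ = ⁅x, b⁆ := by rw [h3, h2 b⁻¹]; group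
    rw [h4]; exact h2
  rw [ea, eb, comm_mul_central_left ca, comm_mul_central_right cb] at e
  show x * ⁅a, b⁆ = ⁅a, b⁆ * x
  calc x * ⁅a, b⁆ = (x * ⁅a, b⁆ * x⁻¹) * x := by group
    _ = ⁅a, b⁆ * x := by rw [e]

omit hc in
/-- `[[A, B], C] = [A, [B, C]]` when `[A, C]` is central, `[[A, B], C]` commutes with `[B, C]` and `[A, B]` with
`[B, C]` -/
theorem triple {A B C : E} (hζ : ∀ g : E, g * ⁅A, C⁆ = ⁅A, C⁆ * g)
    (h1 : Commute ⁅⁅A, B⁆, C⁆ ⁅B, C⁆) (h2 : Commute ⁅A, B⁆ ⁅B, C⁆) : ⁅⁅A, B⁆, C⁆ = ⁅A, ⁅B, C⁆⁆ := by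
  set P := ⁅A, B⁆ with hP
  set Q := ⁅B, C⁆ with hQ
  set ζ := ⁅A, C⁆ with hζd
  set w₁ := ⁅P, C⁆ with hw₁
  set w₂ := ⁅A, Q⁆ with hw₂
  have eP : A * B = P * B * A := by rw [hP]; simp only [commutatorElement_def]; group
  have eQ : B * C = Q * C * B := by rw [hQ]; simp only [commutatorElement_def]; group
  have eζ : A * C = ζ * C * A := by rw [hζd]; simp only [commutatorElement_def]; group
  have e1 : P * C = w₁ * C * P := by rw [hw₁]; simp only [commutatorElement_def]; group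
  have e2 : A * Q = w₂ * Q * A := by rw [hw₂]; simp only [commutatorElement_def]; group
  have c1 : w₁ * Q = Q * w₁ := h1
  have c2 : P * Q = Q * P := h2
  -- first way
  have f1 : A * B * C = ζ * (P * Q * C * B * A) := by
    calc A * B * C = P * B * (A * C) := by rw [eP]; group
      _ = P * B * (ζ * C * A) := by rw [eζ]
      _ = (P * B * ζ) * C * A := by group
      _ = (ζ * (P * B)) * C * A := by rw [hζ (P * B)]
      _ = ζ * (P * (B * C) * A) := by group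
      _ = ζ * (P * (Q * C * B) * A) := by rw [eQ]
      _ = ζ * (P * Q * C * B * A) := by group
  -- second way
  have e1' : C * P = w₁⁻¹ * P * C := by
    calc C * P = w₁⁻¹ * (w₁ * C * P) := by group
      _ = w₁⁻¹ * (P * C) := by rw [e1]
      _ = w₁⁻¹ * P * C := by group
  have f2 : A * B * C = ζ * (w₂ * Q * w₁⁻¹ * P * C * B * A) := by
    calc A * B * C = A * (B * C) := by group
      _ = A * (Q * C * B) := by rw [eQ]
      _ = (A * Q) * C * B := by group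
      _ = (w₂ * Q * A) * C * B := by rw [e2]
      _ = w₂ * Q * (A * C) * B := by group
      _ = w₂ * Q * (ζ * C * A) * B := by rw [eζ]
      _ = (w₂ * Q * ζ) * C * (A * B) := by group
      _ = (ζ * (w₂ * Q)) * C * (P * B * A) := by rw [hζ (w₂ * Q), eP]
      _ = ζ * (w₂ * Q * (C * P) * B * A) := by group
      _ = ζ * (w₂ * Q * (w₁⁻¹ * P * C) * B * A) := by rw [e1']
      _ = ζ * (w₂ * Q * w₁⁻¹ * P * C * B * A) := by group
  have f3 : P * Q = w₂ * Q * w₁⁻¹ * P := by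
    have := f1.symm.trans f2
    have h3 := mul_left_cancel this
    have h4 : P * Q * (C * B * A) = w₂ * Q * w₁⁻¹ * P * (C * B * A) := by
      rw [← mul_assoc, ← mul_assoc, ← mul_assoc, ← mul_assoc]; exact h3
    exact mul_right_cancel h4
  have c1' : Q * w₁⁻¹ = w₁⁻¹ * Q := by
    calc Q * w₁⁻¹ = w₁⁻¹ * (w₁ * Q) * w₁⁻¹ := by group
      _ = w₁⁻¹ * (Q * w₁) * w₁⁻¹ := by rw [c1]
      _ = w₁⁻¹ * Q := by group
  have f4 : P * Q = w₂ * w₁⁻¹ * (P * Q) := by
    calc P * Q = w₂ * (Q * w₁⁻¹) * P := by rw [f3]; group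
      _ = w₂ * (w₁⁻¹ * Q) * P := by rw [c1']
      _ = w₂ * w₁⁻¹ * (Q * P) := by group
      _ = w₂ * w₁⁻¹ * (P * Q) := by rw [c2]
  have f5 : w₂ * w₁⁻¹ = 1 := by
    have : 1 * (P * Q) = w₂ * w₁⁻¹ * (P * Q) := by rw [one_mul]; exact f4
    exact (mul_right_cancel this).symm
  exact (mul_inv_eq_one.mp f5).symm

omit hc in
theorem comm_mul_left (a₁ a₂ b : E) : ⁅a₁ * a₂, b⁆ = a₁ * ⁅a₂, b⁆ * a₁⁻¹ * ⁅a₁, b⁆ := by
  simp only [commutatorElement_def]; group

end CE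

end Cfsg.Agent.Lib.H29.Chev
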