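import Mathlib
import Cfsg.Prelude.Def_ChevStructure
import Cfsg.Agent.Lib.H29.ChevCE1
import Cfsg.Agent.Lib.H29.ChevStB

/-!
# Central extensions of groups with Steinberg's relations: lifting the relations (simply laced types)

`p : E → M` is a central extension of a group `M` with Steinberg's relations. When the commutator formulas have single
terms and the root system has enough room (types `E₆`, `E₇`, `E₈`), the root elements of `M` have lifts to `E` that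
satisfy Steinberg's relations again: the lift of `x_k(v)` is a commutator of lifts, for a fixed decomposition
`k = ρ + σ`.
-/

set_option autoImplicit false
set_option linter.unusedSectionVars false
set_option linter.unusedSimpArgs false
set_option linter.unusedVariables false

namespace Cfsg.Agent.Lib.H29.Chev

open Cfsg.Lie Matrix

open scoped commutatorElement

variable {D : ChevalleyDatum} {fd : FD} {fx : FX} {fc : FC} {fz : FZ}

namespace StG

variable {C : Cert12 D fd fx fc fz} {F : Type*} [Field F] {M : Type*} [Group M] (S : StG C F M)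
variable {E : Type*} [Group E] (p : E →* M)

/-- the root elements of `r` and `s` commute -/
def MCom (r s : ℕ) : Prop := ∀ t u : F, Commute (S.y r t) (S.y s u)

/-- the commutator of root elements of `r` and `s` is a root element of `k` -/
def MS (r s k : ℕ) (c : F) : Prop := ∀ t u : F, ⁅S.y r t, S.y s u⁆ = S.y k (c * t * u)

/-- all lifts of root elements of `r` and `s` commute -/
def ECom (r s : ℕ) : Prop := ∀ X Y : E, (∃ t, p X = S.y r t) → (∃ u, p Y = S.y s u) → Commute X Y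

theorem MCom.symm {r s : ℕ} (h : S.MCom r s) : S.MCom s r := fun t u => (h u t).symm

theorem ECom.symm {r s : ℕ} (h : S.ECom p r s) : S.ECom p s r := fun X Y hX hY => (h Y X hY hX).symm

theorem MS.symm {r s k : ℕ} {c : F} (hk : k < fd.n) (h : S.MS r s k c) : S.MS s r k (-c) := by
  intro t u
  rw [← commutatorElement_inv, h u t, S.y_inv k hk]
  congr 1
  ring

/-- the hypotheses of the identity `[[A, B], C] = [A, [B, C]]` -/
def TripleHyp (a b c ab bc k : ℕ) : Prop :=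
  ∃ c₁ c₂ c₃ : F, c₁ ≠ 0 ∧ c₂ ≠ 0 ∧ c₃ ≠ 0 ∧ S.MS a b ab c₁ ∧ S.MS b c bc c₂ ∧ S.MS ab c k c₃ ∧ S.MCom a c ∧
    S.ECom p k bc ∧ S.ECom p ab bc

variable (hsurj : Function.Surjective p) (hc : p.ker ≤ Subgroup.center E)
include hsurj hc

/-- lifts of root elements of `r` and `s` commute when `r = a + b` with `s` commuting with `a` and `b` -/
theorem ecom_of_dec (r s a b : ℕ) (c : F) (hc0 : c ≠ 0) (h1 : S.MS a b r c) (h2 : S.MCom a s) (h3 : S.MCom b s) :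
    S.ECom p r s := by
  rintro X Y ⟨t, hX⟩ ⟨u, hY⟩
  obtain ⟨A, hA⟩ := hsurj (S.y a (c⁻¹ * t))
  obtain ⟨B, hB⟩ := hsurj (S.y b 1)
  have hAB : p ⁅A, B⁆ = S.y r t := by
    rw [map_commutatorElement, hA, hB, h1]
    congr 1
    field_simp
  have c1 : ∀ g : E, g * ⁅Y, A⁆ = ⁅Y, A⁆ * g := CE.comm_central p hc (by rw [hY, hA]; exact (h2 _ _).symm)
  have c2 : ∀ g : E, g * ⁅Y, B⁆ = ⁅Y, B⁆ * g := CE.comm_central p hc (by rw [hY, hB]; exact (h3 _ _).symm)
  have c3 : Commute Y ⁅A, B⁆ := CE.commute_comm p hc c1 c2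
  have c4 : ∀ g : E, g * (⁅A, B⁆⁻¹ * X) = (⁅A, B⁆⁻¹ * X) * g :=
    CE.central_of_ker p hc (by rw [map_mul, map_inv, hAB, hX, inv_mul_cancel])
  have e : X = ⁅A, B⁆ * (⁅A, B⁆⁻¹ * X) := by group
  show X * Y = Y * X
  rw [e, mul_assoc, ← c4 Y, ← mul_assoc, ← c3.eq, mul_assoc]

/-- the identity `[[A, B], C] = [A, [B, C]]` for lifts of root elements -/
theorem triple_lift {a b c ab bc k : ℕ} (h : S.TripleHyp p a b c ab bc k) (A B C' : E) (α β γ : F)
    (hA : p A = S.y a α) (hB : p B = S.y b β) (hC : p C' = S.y c γ) : ⁅⁅A, B⁆, C'⁆ = ⁅A, ⁅B, C'⁆⁆ := by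
  obtain ⟨c₁, c₂, c₃, _, _, _, m1, m2, m3, m4, e1, e2⟩ := h
  have hP : p ⁅A, B⁆ = S.y ab (c₁ * α * β) := by rw [map_commutatorElement, hA, hB, m1]
  have hQ : p ⁅B, C'⁆ = S.y bc (c₂ * β * γ) := by rw [map_commutatorElement, hB, hC, m2]
  have hw : p ⁅⁅A, B⁆, C'⁆ = S.y k (c₃ * (c₁ * α * β) * γ) := by rw [map_commutatorElement, hP, hC, m3]
  apply CE.triple
  · exact CE.comm_central p hc (by rw [hA, hC]; exact m4 _ _)
  · exact e1 _ _ ⟨_, hw⟩ ⟨_, hQ⟩
  · exact e2 _ _ ⟨_, hP⟩ ⟨_, hQ⟩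

/-- the decomposition data of the root `k` -/
structure DecSpec (k ρ σ : ℕ) (c : F) : Prop where
  hk : k < fd.n
  hσ : σ < fd.n
  c0 : c ≠ 0
  ms : S.MS σ ρ k c
  ekσ : S.ECom p k σ
  ekk : S.ECom p k k
  tri : ∃ a b τ, S.TripleHyp p a b ρ σ τ k

/-- the commutator of lifts of `x_σ(u)` and `x_ρ(t)` depends on `u t` only -/
theorem DecSpec.bal {k ρ σ : ℕ} {c : F} (h : S.DecSpec p k ρ σ c) (X Y X' Y' : E) (u t : F)
    (hX : p X = S.y σ u) (hY : p Y = S.y ρ t) (hX' : p X' = S.y σ (u * t)) (hY' : p Y' = S.y ρ 1) :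
    ⁅X, Y⁆ = ⁅X', Y'⁆ := by
  obtain ⟨a, b, τ, htri⟩ := h.tri
  obtain ⟨c₁, c₂, c₃, h1, h2, h3, m1, m2, m3, m4, e1, e2⟩ := id htri
  obtain ⟨A, hA⟩ := hsurj (S.y a (c₁⁻¹ * u))
  obtain ⟨B, hB⟩ := hsurj (S.y b 1)
  obtain ⟨B', hB'⟩ := hsurj (S.y b t)
  have hAB : p ⁅A, B⁆ = S.y σ u := by
    rw [map_commutatorElement, hA, hB, m1]
    congr 1
    field_simp
  have hAB' : p ⁅A, B'⁆ = S.y σ (u * t) := by
    rw [map_commutatorElement, hA, hB', m1]
    congr 1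
    field_simp
  have hBY : p ⁅B, Y⁆ = S.y τ (c₂ * t) := by
    rw [map_commutatorElement, hB, hY, m2]
    congr 1
    ring
  have hBY' : p ⁅B', Y'⁆ = S.y τ (c₂ * t) := by
    rw [map_commutatorElement, hB', hY', m2]
    congr 1
    ring
  calc ⁅X, Y⁆ = ⁅⁅A, B⁆, Y⁆ := CE.comm_indep p hc (hX.trans hAB.symm) rfl
    _ = ⁅A, ⁅B, Y⁆⁆ := S.triple_lift p hsurj hc htri A B Y _ _ _ hA hB hY
    _ = ⁅A, ⁅B', Y'⁆⁆ := CE.comm_indep p hc rfl (hBY.trans hBY'.symm)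
    _ = ⁅⁅A, B'⁆, Y'⁆ := (S.triple_lift p hsurj hc htri A B' Y' _ _ _ hA hB' hY').symm
    _ = ⁅X', Y'⁆ := CE.comm_indep p hc (hAB'.trans hX'.symm) rfl

/-- the lift of `x_k(v)` -/
noncomputable def zOf (ρ σ : ℕ) (c : F) (v : F) : E :=
  ⁅Function.surjInv hsurj (S.y σ (c⁻¹ * v)), Function.surjInv hsurj (S.y ρ 1)⁆

theorem p_zOf {k ρ σ : ℕ} {c : F} (h : S.DecSpec p k ρ σ c) (v : F) : p (S.zOf p hsurj ρ σ c v) = S.y k v := by
  unfold zOf
  rw [map_commutatorElement, Function.surjInv_eq hsurj, Function.surjInv_eq hsurj, h.ms]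
  congr 1
  have := h.c0
  field_simp

/-- a commutator of lifts of `x_σ(u)` and `x_ρ(t)` is the chosen lift -/
theorem DecSpec.comm_eq {k ρ σ : ℕ} {c : F} (h : S.DecSpec p k ρ σ c) (X Y : E) (u t : F)
    (hX : p X = S.y σ u) (hY : p Y = S.y ρ t) : ⁅X, Y⁆ = S.zOf p hsurj ρ σ c (c * u * t) := by
  unfold zOf
  apply h.bal S p hsurj hc X Y _ _ u t hX hY
  · rw [Function.surjInv_eq hsurj]
    congr 1
    have := h.c0
    field_simp
  · rw [Function.surjInv_eq hsurj]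

theorem zOf_add {k ρ σ : ℕ} {c : F} (h : S.DecSpec p k ρ σ c) (v v' : F) :
    S.zOf p hsurj ρ σ c v * S.zOf p hsurj ρ σ c v' = S.zOf p hsurj ρ σ c (v + v') := by
  set A₁ := Function.surjInv hsurj (S.y σ (c⁻¹ * v)) with hA₁
  set A₂ := Function.surjInv hsurj (S.y σ (c⁻¹ * v')) with hA₂
  set B := Function.surjInv hsurj (S.y ρ 1) with hB
  have pA₁ : p A₁ = S.y σ (c⁻¹ * v) := Function.surjInv_eq hsurj _
  have pA₂ : p A₂ = S.y σ (c⁻¹ * v') := Function.surjInv_eq hsurj _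
  have e1 : S.zOf p hsurj ρ σ c v = ⁅A₁, B⁆ := rfl
  have e2 : S.zOf p hsurj ρ σ c v' = ⁅A₂, B⁆ := rfl
  have e3 : ⁅A₁ * A₂, B⁆ = A₁ * ⁅A₂, B⁆ * A₁⁻¹ * ⁅A₁, B⁆ := CE.comm_mul_left A₁ A₂ B
  have hcomm : Commute ⁅A₂, B⁆ A₁ := by
    apply h.ekσ
    · exact ⟨v', by rw [← e2]; exact S.p_zOf p hsurj hc h v'⟩
    · exact ⟨_, pA₁⟩
  have e4 : A₁ * ⁅A₂, B⁆ * A₁⁻¹ = ⁅A₂, B⁆ := by
    rw [← hcomm.eq]; group
  have hcomm2 : Commute ⁅A₂, B⁆ ⁅A₁, B⁆ := by
    apply h.ekk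
    · exact ⟨v', by rw [← e2]; exact S.p_zOf p hsurj hc h v'⟩
    · exact ⟨v, by rw [← e1]; exact S.p_zOf p hsurj hc h v⟩
  rw [e4, hcomm2.eq] at e3
  rw [e1, e2, ← e3]
  unfold zOf
  apply CE.comm_indep p hc _ rfl
  rw [map_mul, pA₁, pA₂, S.y_add σ h.hσ, Function.surjInv_eq hsurj, mul_add]

theorem zOf_zero {k ρ σ : ℕ} {c : F} (h : S.DecSpec p k ρ σ c) : S.zOf p hsurj ρ σ c 0 = 1 := by
  have := S.zOf_add p hsurj hc h 0 0
  rw [add_zero] at this
  exact mul_eq_left.mp this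

theorem zOf_inv {k ρ σ : ℕ} {c : F} (h : S.DecSpec p k ρ σ c) (v : F) :
    (S.zOf p hsurj ρ σ c v)⁻¹ = S.zOf p hsurj ρ σ c (-v) := by
  apply inv_eq_of_mul_eq_one_right
  rw [S.zOf_add p hsurj hc h, add_neg_cancel, S.zOf_zero p hsurj hc h]

/-- an element of the form `zOf v` is determined by its image -/
theorem zOf_unique {k ρ σ : ℕ} {c : F} (h : S.DecSpec p k ρ σ c) (e : E) (v w : F)
    (he : e = S.zOf p hsurj ρ σ c v) (hp : p e = S.y k w) : e = S.zOf p hsurj ρ σ c w := by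
  have h1 : S.y k v = S.y k w := by rw [← hp, he, S.p_zOf p hsurj hc h]
  have h2 := congrArg S.θ h1
  rw [S.θ_y k h.hk, S.θ_y k h.hk] at h2
  rw [he, C.xA_param_inj' k h.hk v w h2]

/-- the decomposition `k = r + s` is linked to the chosen decomposition `k = ρ + σ` -/
def Linked (r s k ρ σ : ℕ) : Prop :=
  (s = σ ∧ r = ρ) ∨ (s = ρ ∧ r = σ) ∨ (∃ d, S.TripleHyp p σ d r s ρ k) ∨ (∃ d, S.TripleHyp p σ d s r ρ k)

/-- the commutator of lifts of `x_s(u)`, `x_r(t)` is a chosen lift when `(r, s)` is linked to `(ρ, σ)` -/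
theorem comm_mem_of_linked {k ρ σ : ℕ} {c : F} (h : S.DecSpec p k ρ σ c) (r s : ℕ)
    (hl : S.Linked p r s k ρ σ) (X Y : E) (u t : F) (hX : p X = S.y s u) (hY : p Y = S.y r t) :
    ∃ v, ⁅X, Y⁆ = S.zOf p hsurj ρ σ c v := by
  -- the case of a triple
  have key : ∀ (r s : ℕ), (∃ d, S.TripleHyp p σ d r s ρ k) → ∀ (X Y : E) (u t : F), p X = S.y s u → p Y = S.y r t →
      ∃ v, ⁅X, Y⁆ = S.zOf p hsurj ρ σ c v := by
    rintro r s ⟨d, htri⟩ X Y u t hX hY
    obtain ⟨c₁, c₂, c₃, h1, h2, h3, m1, m2, m3, m4, e1, e2⟩ := id htri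
    obtain ⟨A, hA⟩ := hsurj (S.y σ (c₁⁻¹ * u))
    obtain ⟨B, hB⟩ := hsurj (S.y d 1)
    have hAB : p ⁅A, B⁆ = S.y s u := by
      rw [map_commutatorElement, hA, hB, m1]
      congr 1
      field_simp
    have hBY : p ⁅B, Y⁆ = S.y ρ (c₂ * 1 * t) := by
      rw [map_commutatorElement, hB, hY, m2]
    refine ⟨c * (c₁⁻¹ * u) * (c₂ * 1 * t), ?_⟩
    calc ⁅X, Y⁆ = ⁅⁅A, B⁆, Y⁆ := CE.comm_indep p hc (hX.trans hAB.symm) rfl
      _ = ⁅A, ⁅B, Y⁆⁆ := S.triple_lift p hsurj hc htri A B Y _ _ _ hA hB hY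
      _ = _ := h.comm_eq S p hsurj hc A ⁅B, Y⁆ _ _ hA hBY
  rcases hl with ⟨rfl, rfl⟩ | ⟨rfl, rfl⟩ | hd | hd
  · exact ⟨_, h.comm_eq S p hsurj hc X Y u t hX hY⟩
  · refine ⟨-(c * t * u), ?_⟩
    rw [← commutatorElement_inv, h.comm_eq S p hsurj hc Y X t u hY hX, S.zOf_inv p hsurj hc h]
  · exact key r s hd X Y u t hX hY
  · obtain ⟨v, hv⟩ := key s r hd Y X t u hY hX
    refine ⟨-v, ?_⟩
    rw [← commutatorElement_inv, hv, S.zOf_inv p hsurj hc h]

omit hc in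
/-- lifts that commute have commuting images -/
theorem ECom.mcom {r s : ℕ} (h : S.ECom p r s) : S.MCom r s := by
  intro t u
  obtain ⟨X, hX⟩ := hsurj (S.y r t)
  obtain ⟨Y, hY⟩ := hsurj (S.y s u)
  have := h X Y ⟨t, hX⟩ ⟨u, hY⟩
  have e := congrArg p this.eq
  rw [map_mul, map_mul, hX, hY] at e
  exact e

/-- the hypotheses on the root system, in terms of `M` and `E` -/
structure CEHyp (ρf σf : ℕ → ℕ) (cf : ℕ → F) : Prop where
  ecom : ∀ r s, r < fd.n → s < fd.n → s ≠ r → s ≠ fd.n - 1 - r → fd.commT r s = [] → S.ECom p r s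
  sum : ∀ r s, r < fd.n → s < fd.n → s ≠ r → s ≠ fd.n - 1 - r → fd.commT r s ≠ [] →
    ∃ k ε, k < fd.n ∧ fd.commT r s = [(k, ε, 1, 1)] ∧ S.ECom p k r ∧ S.ECom p k s ∧
      S.Linked p r s k (ρf k) (σf k)
  dec : ∀ k, k < fd.n → S.DecSpec p k (ρf k) (σf k) (cf k)

/-- the root elements of `M` have lifts that satisfy Steinberg's relations -/
theorem exists_lift (ρf σf : ℕ → ℕ) (cf : ℕ → F) (H : S.CEHyp p ρf σf cf) :
    ∃ z : ℕ → F → E, (∀ r, r < fd.n → ∀ t, p (z r t) = S.y r t) ∧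
      (∀ r, r < fd.n → ∀ t u, z r t * z r u = z r (t + u)) ∧
      (∀ r s, r < fd.n → s < fd.n → s ≠ r → s ≠ fd.n - 1 - r → ∀ t u,
        z s u * z r t = z r t * z s u *
          ((fd.commT r s).map fun c => z c.1 (((c.2.1 : ℤ) : F) * (-t) ^ c.2.2.1 * u ^ c.2.2.2)).prod) := by
  refine ⟨fun k v => S.zOf p hsurj (ρf k) (σf k) (cf k) v, ?_, ?_, ?_⟩
  · intro r hr t
    exact S.p_zOf p hsurj hc (H.dec r hr) t
  · intro r hr t u
    exact S.zOf_add p hsurj hc (H.dec r hr) t u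
  · intro r s hr hs h1 h2 t u
    have pr := S.p_zOf p hsurj hc (H.dec r hr) t
    have ps := S.p_zOf p hsurj hc (H.dec s hs) u
    by_cases hemp : fd.commT r s = []
    · rw [hemp, List.map_nil, List.prod_nil, mul_one]
      exact ((H.ecom r s hr hs h1 h2 hemp) _ _ ⟨t, pr⟩ ⟨u, ps⟩).eq.symm
    · obtain ⟨k, ε, hk, hct, ekr, eks, hl⟩ := H.sum r s hr hs h1 h2 hemp
      rw [hct, List.map_cons, List.map_nil, List.prod_cons, List.prod_nil, mul_one]
      simp only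
      set w : F := ((ε : ℤ) : F) * (-t) ^ 1 * u ^ 1 with hw
      set X := S.zOf p hsurj (ρf s) (σf s) (cf s) u with hX
      set Y := S.zOf p hsurj (ρf r) (σf r) (cf r) t with hY
      -- the image of the commutator
      have hrel := S.y_comm r s hr hs h1 h2 t u
      rw [hct, List.map_cons, List.map_nil, List.prod_cons, List.prod_nil, mul_one] at hrel
      simp only at hrel
      rw [← hw] at hrel
      have mkr := (ECom.mcom S p hsurj ekr) w t
      have mks := (ECom.mcom S p hsurj eks) w u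
      have hpc : p ⁅X, Y⁆ = S.y k w := by
        rw [map_commutatorElement, ps, pr, commutatorElement_def, hrel]
        calc S.y r t * S.y s u * S.y k w * (S.y s u)⁻¹ * (S.y r t)⁻¹
            = S.y r t * (S.y s u * S.y k w) * (S.y s u)⁻¹ * (S.y r t)⁻¹ := by group
          _ = S.y r t * (S.y k w * S.y s u) * (S.y s u)⁻¹ * (S.y r t)⁻¹ := by rw [mks.eq]
          _ = (S.y r t * S.y k w) * (S.y r t)⁻¹ := by group
          _ = (S.y k w * S.y r t) * (S.y r t)⁻¹ := by rw [mkr.eq]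
          _ = S.y k w := by group
      obtain ⟨v, hv⟩ := S.comm_mem_of_linked p hsurj hc (H.dec k hk) r s hl X Y u t ps pr
      have hz := S.zOf_unique p hsurj hc (H.dec k hk) _ v w hv hpc
      have pz := S.p_zOf p hsurj hc (H.dec k hk) w
      have c1 := ekr _ _ ⟨w, pz⟩ ⟨t, pr⟩
      have c2 := eks _ _ ⟨w, pz⟩ ⟨u, ps⟩
      have e : X * Y = ⁅X, Y⁆ * Y * X := by rw [commutatorElement_def]; group
      rw [e, hz]
      set Z := S.zOf p hsurj (ρf k) (σf k) (cf k) w with hZ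
      calc Z * Y * X = Y * Z * X := by rw [c1.eq]
        _ = Y * (Z * X) := by group
        _ = Y * (X * Z) := by rw [c2.eq]
        _ = Y * X * Z := by group

end StG

end Cfsg.Agent.Lib.H29.Chev
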