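import Mathlib
import Cfsg.Prelude.Def_ChevStructure
import Cfsg.Agent.Lib.H29.ChevFast6

/-!
# Central extensions of Steinberg groups, simply laced types: the checks on the tables

`sum1 r s = some k` says that the commutator formula of `(r, s)` is `x_k(± t u)`; `com r s` that `s ≠ -r` and the root
elements of `r` and `s` commute.
-/

set_option autoImplicit false
set_option linter.unusedSectionVars false
set_option linter.unusedSimpArgs false

namespace Cfsg.Agent.Lib.H29.Chev

open Cfsg.Lie Matrix

namespace FD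

variable (fd : FD)

/-- the root `r + s` when the commutator formula of `(r, s)` has the single term `x_{r+s}(± t u)` -/
def sum1 (r s : ℕ) : Option ℕ :=
  match fd.commT r s with
  | [c] => if Nat.beq c.2.2.1 1 && Nat.beq c.2.2.2 1 && (intBeq c.2.1 1 || intBeq c.2.1 (-1)) && Nat.blt c.1 fd.n
      then some c.1 else none
  | _ => none

/-- `s ≠ -r`, and `s = r` or the commutator formula of `(r, s)` is empty -/
def com (r s : ℕ) : Bool := !(Nat.beq s (fd.n - 1 - r)) && (Nat.beq s r || (fd.commT r s).isEmpty)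

/-- equality of an optional root with a root -/
def isSum (o : Option ℕ) (k : ℕ) : Bool :=
  match o with
  | some j => Nat.beq j k
  | none => false

/-- the type is simply laced, as far as the commutator formula shows -/
def chkSL (r s : ℕ) : Bool :=
  Nat.beq s r || Nat.beq s (fd.n - 1 - r) || (fd.commT r s).isEmpty ||
    (match fd.sum1 r s with
     | some k => fd.com k r && fd.com k s
     | none => false)

/-- the test on a decomposition `r = a + b` for the pair `(r, s)` -/
def s1OK (r s a b : ℕ) : Bool :=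
  Nat.blt a fd.n && Nat.blt b fd.n && !(Nat.beq b a) && !(Nat.beq b (fd.n - 1 - a)) && FD.isSum (fd.sum1 a b) r &&
    fd.com a s && fd.com b s

/-- commuting pairs: there is a decomposition `r = a + b` with `s` commuting with `a` and `b` -/
def chkS1 (r s : ℕ) : Bool :=
  !(fd.com r s) || (List.range fd.n).any fun a =>
    match fd.sum1 (fd.n - 1 - a) r with
    | some b => fd.s1OK r s a b
    | none => false

/-- the test for the identity `[[A, B], C] = [A, [B, C]]`, for roots `a`, `b`, `c` with `a + b = ab`, `b + c = bc`,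
`ab + c = k` -/
def tripleOK (a b c ab bc k : ℕ) : Bool :=
  Nat.blt a fd.n && Nat.blt b fd.n && Nat.blt c fd.n && Nat.blt ab fd.n && Nat.blt bc fd.n && Nat.blt k fd.n &&
  !(Nat.beq b a) && !(Nat.beq b (fd.n - 1 - a)) && !(Nat.beq c b) && !(Nat.beq c (fd.n - 1 - b)) &&
  !(Nat.beq c ab) && !(Nat.beq c (fd.n - 1 - ab)) &&
  FD.isSum (fd.sum1 a b) ab && FD.isSum (fd.sum1 b c) bc && FD.isSum (fd.sum1 ab c) k &&
  fd.com a c && fd.com k bc && fd.com ab bc

/-- the test on the chosen decomposition `k = ρ + σ` and on the decomposition `σ = a + b` -/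
def decOK (k ρ σ a b : ℕ) : Bool :=
  Nat.blt ρ fd.n && Nat.blt σ fd.n && !(Nat.beq σ ρ) && !(Nat.beq σ (fd.n - 1 - ρ)) &&
  FD.isSum (fd.sum1 ρ σ) k && fd.com k σ && fd.com k ρ &&
  (match fd.sum1 b ρ with
   | some τ => fd.tripleOK a b ρ σ τ k
   | none => false)

/-- search for `(ρ, σ, a, b)` -/
def findDec (k : ℕ) : Option (ℕ × ℕ × ℕ × ℕ) :=
  (List.range fd.n).findSome? fun ρ =>
    match fd.sum1 (fd.n - 1 - ρ) k with
    | some σ => (List.range fd.n).findSome? fun a =>
        match fd.sum1 (fd.n - 1 - a) σ with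
        | some b => if fd.decOK k ρ σ a b then some (ρ, σ, a, b) else none
        | none => none
    | none => none

/-- the check of the table of decompositions -/
def chkDec (dec : List (ℕ × ℕ × ℕ × ℕ)) (k : ℕ) : Bool :=
  fd.decOK k (dec.getD k (0, 0, 0, 0)).1 (dec.getD k (0, 0, 0, 0)).2.1 (dec.getD k (0, 0, 0, 0)).2.2.1
    (dec.getD k (0, 0, 0, 0)).2.2.2

/-- the identity through the root `d = ab - σ`: `σ + d = ab`, `d + c = ρ` -/
def viaOK (σ ρ k c ab : ℕ) : Bool :=
  match fd.sum1 (fd.n - 1 - σ) ab with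
  | some d => fd.tripleOK σ d c ab ρ k
  | none => false

/-- every decomposition `k = r + s` is linked to the chosen one -/
def chkS3 (dec : List (ℕ × ℕ × ℕ × ℕ)) (r s : ℕ) : Bool :=
  Nat.beq s r || Nat.beq s (fd.n - 1 - r) ||
  match fd.sum1 r s with
  | none => true
  | some k =>
    (Nat.beq s (dec.getD k (0, 0, 0, 0)).2.1 && Nat.beq r (dec.getD k (0, 0, 0, 0)).1) ||
    (Nat.beq s (dec.getD k (0, 0, 0, 0)).1 && Nat.beq r (dec.getD k (0, 0, 0, 0)).2.1) ||
    fd.viaOK (dec.getD k (0, 0, 0, 0)).2.1 (dec.getD k (0, 0, 0, 0)).1 k r s ||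
    fd.viaOK (dec.getD k (0, 0, 0, 0)).2.1 (dec.getD k (0, 0, 0, 0)).1 k s r

/-- the check for the pair number `q = r * n + s` -/
def chkCE (dec : List (ℕ × ℕ × ℕ × ℕ)) (r : ℕ) : Bool :=
  fd.chkDec dec r && (List.range fd.n).all fun s => fd.chkSL r s && fd.chkS1 r s && fd.chkS3 dec r s

end FD

end Cfsg.Agent.Lib.H29.Chev
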