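import Mathlib
import Cfsg.Prelude.Def_ChevStructure
import Cfsg.Agent.Lib.H29.ChevCE2
import Cfsg.Agent.Lib.H29.ChevCE3

/-!
# Central extensions of groups with Steinberg's relations: from the checks on the tables to the hypotheses
-/

set_option autoImplicit false
set_option linter.unusedSectionVars false
set_option linter.unusedSimpArgs false
set_option linter.unusedVariables false

namespace Cfsg.Agent.Lib.H29.Chev

open Cfsg.Lie Matrix

open scoped commutatorElement

theorem nbeq_iff (a b : ℕ) : (!(Nat.beq a b)) = true ↔ a ≠ b := by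
  rw [Bool.not_eq_true', ← Bool.not_eq_true, natBeq_iff]

namespace FD

variable (fd : FD)

theorem sum1_spec {r s k : ℕ} (h : fd.sum1 r s = some k) :
    ∃ ε : ℤ, (ε = 1 ∨ ε = -1) ∧ k < fd.n ∧ fd.commT r s = [(k, ε, 1, 1)] := by
  unfold sum1 at h
  split at h
  · rename_i c hc
    split_ifs at h with hif
    simp only [Bool.and_eq_true, Bool.or_eq_true, natBeq_iff, intBeq_iff, natBlt_iff] at hif
    obtain ⟨⟨⟨h1, h2⟩, h3⟩, h4⟩ := hif
    have hk : c.1 = k := Option.some.inj h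
    refine ⟨c.2.1, h3, by rw [← hk]; exact h4, ?_⟩
    rw [hc, ← hk]
    have : c = (c.1, c.2.1, c.2.2.1, c.2.2.2) := rfl
    rw [this, h1, h2]
  · exact absurd h (by simp)

theorem isSum_spec {o : Option ℕ} {k : ℕ} (h : FD.isSum o k = true) : o = some k := by
  unfold isSum at h
  split at h
  · rw [natBeq_iff] at h; rw [h]
  · exact absurd h (by simp)

theorem com_spec {r s : ℕ} (h : fd.com r s = true) : s ≠ fd.n - 1 - r ∧ (s = r ∨ fd.commT r s = []) := by
  unfold com at h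
  simp only [Bool.and_eq_true, Bool.or_eq_true, nbeq_iff, natBeq_iff, List.isEmpty_iff] at h
  exact h

end FD

variable {D : ChevalleyDatum} {fd : FD} {fx : FX} {fc : FC} {fz : FZ}

namespace StG

variable {C : Cert12 D fd fx fc fz} {F : Type*} [Field F] {M : Type*} [Group M] (S : StG C F M)
variable {E : Type*} [Group E] (p : E →* M)

theorem mcom_of_com {r s : ℕ} (hr : r < fd.n) (hs : s < fd.n) (h : fd.com r s = true) : S.MCom r s := by
  obtain ⟨h1, h2⟩ := fd.com_spec h
  intro t u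
  rcases h2 with rfl | h2
  · show S.y s t * S.y s u = S.y s u * S.y s t
    rw [S.y_add s hs, S.y_add s hs, add_comm]
  · by_cases hsr : s = r
    · subst hsr
      show S.y s t * S.y s u = S.y s u * S.y s t
      rw [S.y_add s hs, S.y_add s hs, add_comm]
    · have := S.y_comm r s hr hs hsr h1 t u
      rw [h2, List.map_nil, List.prod_nil, mul_one] at this
      exact this.symm

/-- the commutator formula with a single term -/
theorem ms_of_sum {r s k : ℕ} (hr : r < fd.n) (hs : s < fd.n) (h1 : s ≠ r) (h2 : s ≠ fd.n - 1 - r)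
    (hsum : fd.sum1 r s = some k) (hkr : S.MCom k r) (hks : S.MCom k s) : ∃ c : F, c ≠ 0 ∧ S.MS r s k c := by
  obtain ⟨ε, hε, hk, hct⟩ := fd.sum1_spec hsum
  refine ⟨((ε : ℤ) : F), ?_, ?_⟩
  · rcases hε with rfl | rfl <;> norm_num
  · intro t u
    have hrel := S.y_comm r s hr hs h1 h2 t u
    rw [hct, List.map_cons, List.map_nil, List.prod_cons, List.prod_nil, mul_one] at hrel
    simp only at hrel
    set w : F := ((ε : ℤ) : F) * (-t) ^ 1 * u ^ 1 with hw
    have e : ⁅S.y r t, S.y s u⁆ = (S.y k w)⁻¹ := by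
      rw [commutatorElement_def]
      have c1 := (hkr w t).eq
      have c2 := (hks w u).eq
      have : S.y r t * S.y s u = S.y s u * S.y r t * (S.y k w)⁻¹ := by rw [hrel]; group
      rw [this]
      calc S.y s u * S.y r t * (S.y k w)⁻¹ * (S.y r t)⁻¹ * (S.y s u)⁻¹
          = S.y s u * (S.y r t * (S.y k w)⁻¹) * (S.y r t)⁻¹ * (S.y s u)⁻¹ := by group
        _ = S.y s u * ((S.y k w)⁻¹ * S.y r t) * (S.y r t)⁻¹ * (S.y s u)⁻¹ := by
            have : S.y r t * (S.y k w)⁻¹ = (S.y k w)⁻¹ * S.y r t := by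
              calc S.y r t * (S.y k w)⁻¹ = (S.y k w)⁻¹ * (S.y k w * S.y r t) * (S.y k w)⁻¹ := by group
                _ = (S.y k w)⁻¹ * (S.y r t * S.y k w) * (S.y k w)⁻¹ := by rw [c1]
                _ = (S.y k w)⁻¹ * S.y r t := by group
            rw [this]
        _ = (S.y s u * (S.y k w)⁻¹) * (S.y s u)⁻¹ := by group
        _ = ((S.y k w)⁻¹ * S.y s u) * (S.y s u)⁻¹ := by
            have : S.y s u * (S.y k w)⁻¹ = (S.y k w)⁻¹ * S.y s u := by
              calc S.y s u * (S.y k w)⁻¹ = (S.y k w)⁻¹ * (S.y k w * S.y s u) * (S.y k w)⁻¹ := by group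
                _ = (S.y k w)⁻¹ * (S.y s u * S.y k w) * (S.y k w)⁻¹ := by rw [c2]
                _ = (S.y k w)⁻¹ * S.y s u := by group
            rw [this]
        _ = (S.y k w)⁻¹ := by group
    rw [e, S.y_inv k hk]
    congr 1
    rw [hw]
    ring

variable {dec : List (ℕ × ℕ × ℕ × ℕ)} (hce : ∀ r < fd.n, fd.chkCE dec r = true)
include hce

omit S p in
theorem chk_parts (r s : ℕ) (hr : r < fd.n) (hs : s < fd.n) :
    fd.chkDec dec r = true ∧ fd.chkSL r s = true ∧ fd.chkS1 r s = true ∧ fd.chkS3 dec r s = true := by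
  have := hce r hr
  unfold FD.chkCE at this
  rw [Bool.and_eq_true, List.all_eq_true] at this
  have h2 := this.2 s (List.mem_range.mpr hs)
  simp only [Bool.and_eq_true] at h2
  exact ⟨this.1, h2.1.1, h2.1.2, h2.2⟩

/-- the commutator formula with a single term, from the tables -/
theorem ms_of_chk {a b k : ℕ} (ha : a < fd.n) (hb : b < fd.n) (h1 : b ≠ a) (h2 : b ≠ fd.n - 1 - a)
    (hsum : fd.sum1 a b = some k) : ∃ c : F, c ≠ 0 ∧ S.MS a b k c := by
  obtain ⟨_, hsl, _, _⟩ := chk_parts hce a b ha hb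
  obtain ⟨ε, hε, hk, hct⟩ := fd.sum1_spec hsum
  unfold FD.chkSL at hsl
  rw [hsum] at hsl
  simp only [Bool.or_eq_true, natBeq_iff, List.isEmpty_iff, Bool.and_eq_true] at hsl
  rcases hsl with ((hsl | hsl) | hsl) | hsl
  · exact absurd hsl h1
  · exact absurd hsl h2
  · rw [hct] at hsl; exact absurd hsl (by simp)
  · exact S.ms_of_sum ha hb h1 h2 hsum (S.mcom_of_com hk ha hsl.1) (S.mcom_of_com hk hb hsl.2)

variable (hsurj : Function.Surjective p) (hc : p.ker ≤ Subgroup.center E)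
include hsurj hc

/-- lifts of commuting root elements commute -/
theorem ecom_of_chk {r s : ℕ} (hr : r < fd.n) (hs : s < fd.n) (h : fd.com r s = true) : S.ECom p r s := by
  obtain ⟨_, _, h1, _⟩ := chk_parts hce r s hr hs
  unfold FD.chkS1 at h1
  rw [h] at h1
  simp only [Bool.not_true, Bool.false_or, List.any_eq_true, List.mem_range] at h1
  obtain ⟨a, ha, h2⟩ := h1
  split at h2
  · rename_i b hb
    unfold FD.s1OK at h2
    simp only [Bool.and_eq_true, natBlt_iff, nbeq_iff] at h2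
    obtain ⟨⟨⟨⟨⟨⟨ha', hb'⟩, hne1⟩, hne2⟩, hsum⟩, hcas⟩, hcbs⟩ := h2
    obtain ⟨c, hc0, hms⟩ := S.ms_of_chk hce ha' hb' hne1 hne2 (FD.isSum_spec hsum)
    exact S.ecom_of_dec p hsurj hc r s a b c hc0 hms (S.mcom_of_com ha' hs hcas) (S.mcom_of_com hb' hs hcbs)
  · exact absurd h2 (by simp)

/-- the hypotheses of the identity `[[A, B], C] = [A, [B, C]]`, from the tables -/
theorem triple_of_ok {a b c ab bc k : ℕ} (h : fd.tripleOK a b c ab bc k = true) : S.TripleHyp p a b c ab bc k := by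
  unfold FD.tripleOK at h
  simp only [Bool.and_eq_true, natBlt_iff, nbeq_iff] at h
  obtain ⟨⟨⟨⟨⟨⟨⟨⟨⟨⟨⟨⟨⟨⟨⟨⟨⟨ha, hb⟩, hc'⟩, hab⟩, hbc⟩, hk⟩, n1⟩, n2⟩, n3⟩, n4⟩, n5⟩, n6⟩, s1⟩, s2⟩, s3⟩, c1⟩, c2⟩, c3⟩ := h
  obtain ⟨c₁, h1, m1⟩ := S.ms_of_chk hce ha hb n1 n2 (FD.isSum_spec s1)
  obtain ⟨c₂, h2, m2⟩ := S.ms_of_chk hce hb hc' n3 n4 (FD.isSum_spec s2)
  obtain ⟨c₃, h3, m3⟩ := S.ms_of_chk hce hab hc' n5 n6 (FD.isSum_spec s3)
  exact ⟨c₁, c₂, c₃, h1, h2, h3, m1, m2, m3, S.mcom_of_com ha hc' c1, S.ecom_of_chk p hce hsurj hc hk hbc c2,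
    S.ecom_of_chk p hce hsurj hc hab hbc c3⟩

/-- the hypotheses of the lifting theorem, from the tables -/
theorem cehyp_of_chk : ∃ cf : ℕ → F, S.CEHyp p (fun k => (dec.getD k (0, 0, 0, 0)).1)
    (fun k => (dec.getD k (0, 0, 0, 0)).2.1) cf := by
  have hev := C.c6.c2.heven
  have hdec : ∀ k, ∃ c : F, k < fd.n →
      S.DecSpec p k (dec.getD k (0, 0, 0, 0)).1 (dec.getD k (0, 0, 0, 0)).2.1 c := by
    intro k
    by_cases hk : k < fd.n
    · obtain ⟨h1, _, _, _⟩ := chk_parts hce k k hk hk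
      unfold FD.chkDec FD.decOK at h1
      set ρ := (dec.getD k (0, 0, 0, 0)).1
      set σ := (dec.getD k (0, 0, 0, 0)).2.1
      set a := (dec.getD k (0, 0, 0, 0)).2.2.1
      set b := (dec.getD k (0, 0, 0, 0)).2.2.2
      simp only [Bool.and_eq_true, natBlt_iff, nbeq_iff] at h1
      obtain ⟨⟨⟨⟨⟨⟨⟨hρ, hσ⟩, n1⟩, n2⟩, s1⟩, c1⟩, c2⟩, h2⟩ := h1
      obtain ⟨c₀, hc0, m0⟩ := S.ms_of_chk hce hρ hσ n1 n2 (FD.isSum_spec s1)
      have hkk : fd.com k k = true := by
        unfold FD.com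
        simp only [Bool.and_eq_true, Bool.or_eq_true, nbeq_iff, natBeq_iff]
        exact ⟨by omega, Or.inl trivial⟩
      split at h2
      · rename_i τ hτ
        refine ⟨-c₀, fun _ => ⟨hk, hσ, neg_ne_zero.mpr hc0, MS.symm S hk m0, S.ecom_of_chk p hce hsurj hc hk hσ c1,
          S.ecom_of_chk p hce hsurj hc hk hk hkk, a, b, τ, S.triple_of_ok p hce hsurj hc h2⟩⟩
      · exact absurd h2 (by simp)
    · exact ⟨0, fun h => absurd h hk⟩
  choose cf hcf using hdec
  refine ⟨cf, ?_, ?_, fun k hk => hcf k hk⟩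
  · intro r s hr hs h1 h2 hemp
    apply S.ecom_of_chk p hce hsurj hc hr hs
    unfold FD.com
    simp only [Bool.and_eq_true, Bool.or_eq_true, nbeq_iff, natBeq_iff, List.isEmpty_iff]
    exact ⟨h2, Or.inr hemp⟩
  · intro r s hr hs h1 h2 hemp
    obtain ⟨_, hsl, _, h3⟩ := chk_parts hce r s hr hs
    unfold FD.chkSL at hsl
    simp only [Bool.or_eq_true, natBeq_iff, List.isEmpty_iff] at hsl
    rcases hsl with ((hsl | hsl) | hsl) | hsl
    · exact absurd hsl h1
    · exact absurd hsl h2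
    · exact absurd hsl hemp
    · split at hsl
      · rename_i k hsum
        rw [Bool.and_eq_true] at hsl
        obtain ⟨ε, hε, hk, hct⟩ := fd.sum1_spec hsum
        refine ⟨k, ε, hk, hct, S.ecom_of_chk p hce hsurj hc hk hr hsl.1, S.ecom_of_chk p hce hsurj hc hk hs hsl.2, ?_⟩
        unfold FD.chkS3 at h3
        rw [hsum] at h3
        simp only [Bool.or_eq_true, Bool.and_eq_true, natBeq_iff] at h3
        rcases h3 with (h3 | h3) | h3
        · exact absurd h3 h1
        · exact absurd h3 h2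
        · rcases h3 with ((h3 | h3) | h3) | h3
          · exact Or.inl h3
          · exact Or.inr (Or.inl h3)
          · unfold FD.viaOK at h3
            split at h3
            · rename_i d hd
              exact Or.inr (Or.inr (Or.inl ⟨d, S.triple_of_ok p hce hsurj hc h3⟩))
            · exact absurd h3 (by simp)
          · unfold FD.viaOK at h3
            split at h3
            · rename_i d hd
              exact Or.inr (Or.inr (Or.inr ⟨d, S.triple_of_ok p hce hsurj hc h3⟩))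
            · exact absurd h3 (by simp)
      · exact absurd hsl (by simp)

/-- the lifting theorem, from the tables -/
theorem exists_lift_of_chk :
    ∃ z : ℕ → F → E, (∀ r, r < fd.n → ∀ t, p (z r t) = S.y r t) ∧
      (∀ r, r < fd.n → ∀ t u, z r t * z r u = z r (t + u)) ∧
      (∀ r s, r < fd.n → s < fd.n → s ≠ r → s ≠ fd.n - 1 - r → ∀ t u,
        z s u * z r t = z r t * z s u *
          ((fd.commT r s).map fun c => z c.1 (((c.2.1 : ℤ) : F) * (-t) ^ c.2.2.1 * u ^ c.2.2.2)).prod) := by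
  obtain ⟨cf, H⟩ := S.cehyp_of_chk p hce hsurj hc
  exact S.exists_lift p hsurj hc _ _ cf H

end StG

end Cfsg.Agent.Lib.H29.Chev
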