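import Mathlib
import Cfsg.Prelude.Def_ChevStructure
import Cfsg.Prelude.Def_Steinberg
import Cfsg.Prelude.Def_SteinbergCover
import Cfsg.Agent.Lib.H29.ChevStF

/-!
# Steinberg's presentation: the presented groups
-/

set_option autoImplicit false
set_option linter.unusedSectionVars false
set_option linter.unusedSimpArgs false
set_option linter.unusedVariables false

namespace Cfsg.Agent.Lib.H29.Chev

open Cfsg.Lie Matrix

variable {D : ChevalleyDatum} {fd : FD} {fx : FX} {fc : FC} {fz : FZ}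

namespace Cert12

variable (C : Cert12 D fd fx fc fz) (K : Type*) [Field K]
include C

/-- the map from the symbols to the Chevalley group -/
noncomputable def stMap : Fin D.nroots × K → ↥(D.group K) :=
  fun p => ⟨C.c6.c2.xA p.1.val p.2, C.c6.c2.xA_mem_group _ _⟩

theorem lift_stX (r : ℕ) (t : K) :
    ((FreeGroup.lift (C.stMap K) (D.stX r t) : ↥(D.group K)) : GL D.Idx K) = C.c6.c2.xA r t := by
  unfold ChevalleyDatum.stX
  by_cases h : r < D.nroots
  · rw [dif_pos h, FreeGroup.lift_apply_of]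
    rfl
  · rw [dif_neg h, map_one]
    unfold Cert2.xA
    rw [dif_neg (by rw [← C.c6.c2.nroots_eq]; exact h)]
    rfl

theorem lift_stWord (w : List (ℕ × K)) :
    ((FreeGroup.lift (C.stMap K) (D.stWord w) : ↥(D.group K)) : GL D.Idx K) =
      (w.map fun p => C.c6.c2.xA p.1 p.2).prod := by
  unfold ChevalleyDatum.stWord
  induction w with
  | nil => simp
  | cons p w ih =>
    rw [List.map_cons, List.prod_cons, map_mul, Subgroup.coe_mul, ih, C.lift_stX, List.map_cons, List.prod_cons]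

theorem lift_stWord_val (w : List (ℕ × K)) :
    (((FreeGroup.lift (C.stMap K) (D.stWord w) : ↥(D.group K)) : GL D.Idx K) : Matrix D.Idx D.Idx K) =
      D.wordMat K w := by
  rw [C.lift_stWord, ← C.c6.c2.wordG_val]
  rfl

/-- the words of the commutator formula -/
theorem commWord_eq (r s : ℕ) (hr : r < fd.n) (hs : s < fd.n) (h1 : s ≠ r) (h2 : s ≠ fd.n - 1 - r) (t u : K) :
    D.commWord K r s t u = (fd.commT r s).map fun c => (c.1, ((c.2.1 : ℤ) : K) * (-t) ^ c.2.2.1 * u ^ c.2.2.2) := by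
  obtain ⟨hb1, hb2, _⟩ := Cert3.cf_unpack C.c6.c5.cf r s hr hs h1 h2
  unfold ChevalleyDatum.commWord
  rw [C.c6.c2.agrees.commTerms_eq r s hr hs hb1 hb2]

/-- the relators (R1), (R2) hold in the Chevalley group -/
theorem rels_AB (g : FreeGroup (Fin D.nroots × K)) (hg : g ∈ D.steinbergRelsAB K) :
    FreeGroup.lift (C.stMap K) g = 1 := by
  apply Subtype.ext
  rcases hg with ⟨r, t₁, t₂, hr, rfl⟩ | ⟨r, s, t, u, hr, hs, h1, h2, rfl⟩
  · rw [map_mul, map_mul, map_inv, Subgroup.coe_mul, Subgroup.coe_mul, Subgroup.coe_inv, C.lift_stX, C.lift_stX,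
      C.lift_stX, C.c6.c2.xA_mul, mul_inv_cancel]
    rfl
  · have hr' : r < fd.n := by rw [← C.c6.c2.nroots_eq]; exact hr
    have hs' : s < fd.n := by rw [← C.c6.c2.nroots_eq]; exact hs
    have h2' : s ≠ fd.n - 1 - r := by rw [← C.c6.c2.agrees.neg_eq' r hr']; exact h2
    rw [map_mul, map_mul, map_mul, map_mul, map_inv, map_inv, map_inv, Subgroup.coe_mul, Subgroup.coe_mul,
      Subgroup.coe_mul, Subgroup.coe_mul, Subgroup.coe_inv, Subgroup.coe_inv, Subgroup.coe_inv, C.lift_stX,
      C.lift_stX, C.lift_stWord, C.commWord_eq K r s hr' hs' h1 h2', List.map_map]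
    have := C.c6.cfg (F := K) r s hr' hs' h1 h2' t u
    unfold Cert2.ctG at this
    have e : (fun p : ℕ × K => C.c6.c2.xA p.1 p.2) ∘
        (fun c : ℕ × ℤ × ℕ × ℕ => (c.1, ((c.2.1 : ℤ) : K) * (-t) ^ c.2.2.1 * u ^ c.2.2.2)) =
        fun c => C.c6.c2.xA c.1 (((c.2.1 : ℤ) : K) * (-t) ^ c.2.2.1 * u ^ c.2.2.2) := rfl
    rw [e]
    show _ = (1 : GL D.Idx K)
    have e2 : (C.c6.c2.xA s u)⁻¹ * (C.c6.c2.xA r t)⁻¹ * C.c6.c2.xA s u * C.c6.c2.xA r t =
        (C.c6.c2.xA s u)⁻¹ * (C.c6.c2.xA r t)⁻¹ * (C.c6.c2.xA s u * C.c6.c2.xA r t) := by group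
    rw [e2, this]
    group

/-- the relators (R1), (R2), (R3) hold in the Chevalley group -/
theorem rels_all (g : FreeGroup (Fin D.nroots × K)) (hg : g ∈ D.steinbergRels K) :
    FreeGroup.lift (C.stMap K) g = 1 := by
  rcases hg with hg | ⟨r, t₁, t₂, hr, ht₁, ht₂, rfl⟩
  · exact C.rels_AB K g hg
  · have hr' : r < fd.n := by rw [← C.c6.c2.nroots_eq]; exact hr
    apply Subtype.ext
    apply gl_ext
    rw [map_mul, map_mul, map_inv, Subgroup.coe_mul, Subgroup.coe_mul, Subgroup.coe_inv]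
    have e : ∀ c : K, c ≠ 0 → (((FreeGroup.lift (C.stMap K) (D.stH r c) : ↥(D.group K)) : GL D.Idx K) :
        Matrix D.Idx D.Idx K) = Td (hExp D fd fx r) c := by
      intro c hc
      unfold ChevalleyDatum.stH
      rw [C.lift_stWord_val, ← C.c6.c2.hMat_eq r hr' c hc]
      rfl
    have e3 : ((FreeGroup.lift (C.stMap K) (D.stH r t₁) : ↥(D.group K)) : GL D.Idx K) *
        ((FreeGroup.lift (C.stMap K) (D.stH r t₂) : ↥(D.group K)) : GL D.Idx K) =
        ((FreeGroup.lift (C.stMap K) (D.stH r (t₁ * t₂)) : ↥(D.group K)) : GL D.Idx K) := by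
      apply gl_ext
      rw [Units.val_mul, e t₁ ht₁, e t₂ ht₂, e _ (mul_ne_zero ht₁ ht₂), Td_mul_param]
    rw [e3, mul_inv_cancel]
    rfl

/-- the group presented by a set of relators that contains (R1), (R2), with a homomorphism to the Chevalley group
that maps the generators to the root elements -/
noncomputable def stStG' (R : Set (FreeGroup (Fin D.nroots × K))) (hAB : D.steinbergRelsAB K ⊆ R)
    (θ : PresentedGroup R →* ↥(D.group K))
    (hθ : ∀ r, r < fd.n → ∀ t, ((θ (PresentedGroup.mk R (D.stX r t)) : ↥(D.group K)) : GL D.Idx K) = C.c6.c2.xA r t) :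
    StG C K (PresentedGroup R) where
  y r t := PresentedGroup.mk R (D.stX r t)
  θ := (D.group K).subtype.comp θ
  y_add := by
    intro r hr t u
    have hr' : r < D.nroots := by rw [C.c6.c2.nroots_eq]; exact hr
    have := PresentedGroup.one_of_mem (hAB (Or.inl ⟨r, t, u, hr', rfl⟩))
    rw [map_mul, map_mul, map_inv] at this
    exact mul_inv_eq_one.mp this
  y_comm := by
    intro r s hr hs h1 h2 t u
    have hr' : r < D.nroots := by rw [C.c6.c2.nroots_eq]; exact hr
    have hs' : s < D.nroots := by rw [C.c6.c2.nroots_eq]; exact hs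
    have h2' : s ≠ D.neg r := by rw [C.c6.c2.agrees.neg_eq' r hr]; exact h2
    have := PresentedGroup.one_of_mem (hAB (Or.inr ⟨r, s, t, u, hr', hs', h1, h2', rfl⟩))
    rw [map_mul, map_mul, map_mul, map_mul, map_inv, map_inv, map_inv] at this
    have e := mul_inv_eq_one.mp this
    have e2 : PresentedGroup.mk R (D.stWord (D.commWord K r s t u)) =
        ((fd.commT r s).map fun c =>
          PresentedGroup.mk R (D.stX c.1 (((c.2.1 : ℤ) : K) * (-t) ^ c.2.2.1 * u ^ c.2.2.2))).prod := by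
      rw [C.commWord_eq K r s hr hs h1 h2]
      unfold ChevalleyDatum.stWord
      rw [map_list_prod, List.map_map, List.map_map]
      rfl
    rw [← e2, ← e]
    group
  θ_y := by
    intro r hr t
    exact hθ r hr t
  gen := by
    rw [eq_top_iff, ← PresentedGroup.closure_range_of R]
    apply Subgroup.closure_mono
    rintro g ⟨⟨r, t⟩, rfl⟩
    refine ⟨r.val, t, by rw [← C.c6.c2.nroots_eq]; exact r.isLt, ?_⟩
    unfold ChevalleyDatum.stX
    rw [dif_pos r.isLt]
    rfl

theorem stStG'_y (R : Set (FreeGroup (Fin D.nroots × K))) (hAB : D.steinbergRelsAB K ⊆ R)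
    (θ : PresentedGroup R →* ↥(D.group K))
    (hθ : ∀ r, r < fd.n → ∀ t, ((θ (PresentedGroup.mk R (D.stX r t)) : ↥(D.group K)) : GL D.Idx K) = C.c6.c2.xA r t)
    (r : ℕ) (t : K) :
    (C.stStG' K R hAB θ hθ).y r t = PresentedGroup.mk R (D.stX r t) := rfl

theorem stStG'_θ (R : Set (FreeGroup (Fin D.nroots × K))) (hAB : D.steinbergRelsAB K ⊆ R)
    (θ : PresentedGroup R →* ↥(D.group K))
    (hθ : ∀ r, r < fd.n → ∀ t, ((θ (PresentedGroup.mk R (D.stX r t)) : ↥(D.group K)) : GL D.Idx K) = C.c6.c2.xA r t)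
    (g : PresentedGroup R) :
    (C.stStG' K R hAB θ hθ).θ g = ((θ g : ↥(D.group K)) : GL D.Idx K) := rfl

theorem toGroup_mk (R : Set (FreeGroup (Fin D.nroots × K)))
    (hRG : ∀ g ∈ R, FreeGroup.lift (C.stMap K) g = 1) (r : ℕ) (t : K) :
    ((PresentedGroup.toGroup hRG (PresentedGroup.mk R (D.stX r t)) : ↥(D.group K)) : GL D.Idx K) =
      C.c6.c2.xA r t := by
  rw [← C.lift_stX K r t]
  rfl

/-- the homomorphism onto the Chevalley group is surjective -/
theorem toGroup_surjective (R : Set (FreeGroup (Fin D.nroots × K)))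
    (hRG : ∀ g ∈ R, FreeGroup.lift (C.stMap K) g = 1) :
    Function.Surjective (PresentedGroup.toGroup hRG : PresentedGroup R →* ↥(D.group K)) := by
  rw [← MonoidHom.range_eq_top, eq_top_iff]
  rintro ⟨g, hg⟩ -
  unfold ChevalleyDatum.group at hg
  induction hg using Subgroup.closure_induction with
  | mem x hx =>
    obtain ⟨r, t, hx⟩ := hx
    have hgx : x = C.c6.c2.xA r.val t := by
      apply gl_ext
      rw [hx, C.c6.c2.xA_val]
      unfold ChevalleyDatum.x
      rw [dif_pos r.isLt]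
    refine ⟨PresentedGroup.of (r, t), ?_⟩
    rw [PresentedGroup.toGroup.of]
    apply Subtype.ext
    show C.c6.c2.xA r.val t = x
    exact hgx.symm
  | one => exact one_mem _
  | mul x y hx hy ihx ihy =>
    have : (⟨x * y, mul_mem hx hy⟩ : ↥(Subgroup.closure _)) = ⟨x, hx⟩ * ⟨y, hy⟩ := rfl
    exact mul_mem ihx ihy
  | inv x hx ihx => exact inv_mem ihx

variable {wit : List (ℕ × ℕ)}

/-- a homomorphism that maps the generators to the root elements has central kernel -/
theorem ker_le_center (hst : fd.ChkSt fx wit) (R : Set (FreeGroup (Fin D.nroots × K)))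
    (hAB : D.steinbergRelsAB K ⊆ R) (θ : PresentedGroup R →* ↥(D.group K))
    (hθ : ∀ r, r < fd.n → ∀ t, ((θ (PresentedGroup.mk R (D.stX r t)) : ↥(D.group K)) : GL D.Idx K) = C.c6.c2.xA r t) :
    θ.ker ≤ Subgroup.center (PresentedGroup R) := by
  intro g hg
  rw [MonoidHom.mem_ker] at hg
  have h1 : (C.stStG' K R hAB θ hθ).θ g = 1 := by
    rw [C.stStG'_θ, hg]
    rfl
  obtain ⟨_, hcen⟩ := (C.stStG' K R hAB θ hθ).ker_spec hst g h1
  rw [Subgroup.mem_center_iff]
  intro h
  exact (hcen h).symm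

/-- the main theorem for the group presented by (R1), (R2) -/
theorem cover_main (hst : fd.ChkSt fx wit) :
    ∃ θ : D.SteinbergCover K →* ↥(D.group K), Function.Surjective θ ∧
      θ.ker ≤ Subgroup.center (D.SteinbergCover K) ∧
      ∀ (r : ℕ) (t : K), r < D.nroots →
        ((θ (D.scGen K r t) : GL D.Idx K) : Matrix D.Idx D.Idx K) = D.x K r t := by
  refine ⟨PresentedGroup.toGroup (C.rels_AB K), C.toGroup_surjective K _ _, ?_, ?_⟩
  · exact C.ker_le_center K hst _ (le_refl _) _ (fun r _ t => C.toGroup_mk K _ _ r t)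
  · intro r t _
    unfold ChevalleyDatum.scGen
    rw [C.toGroup_mk, C.c6.c2.xA_val]

/-- the main theorem for the group presented by (R1), (R2), (R3) -/
theorem steinberg_main (hst : fd.ChkSt fx wit) :
    ∃ θ : D.SteinbergGroup K →* ↥(D.group K), Function.Surjective θ ∧
      θ.ker = Subgroup.center (D.SteinbergGroup K) ∧
      ∀ (r : ℕ) (t : K), r < D.nroots →
        ((θ (D.stGen K r t) : GL D.Idx K) : Matrix D.Idx D.Idx K) = D.x K r t := by
  have hAB : D.steinbergRelsAB K ⊆ D.steinbergRels K := by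
    intro g hg
    exact Or.inl hg
  have hsurj := C.toGroup_surjective K _ (C.rels_all K)
  refine ⟨PresentedGroup.toGroup (C.rels_all K), hsurj, le_antisymm ?_ ?_, ?_⟩
  · exact C.ker_le_center K hst _ hAB _ (fun r _ t => C.toGroup_mk K _ _ r t)
  · intro z hz
    rw [Subgroup.mem_center_iff] at hz
    rw [MonoidHom.mem_ker]
    apply Subtype.ext
    apply C.eq_one_of_comm _ (Subtype.property _)
    intro r hr
    have h1 := hz (PresentedGroup.mk _ (D.stX r (1 : K)))
    have h2 := congrArg (fun g => ((PresentedGroup.toGroup (C.rels_all K) g : ↥(D.group K)) : GL D.Idx K)) h1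
    simp only [map_mul, Subgroup.coe_mul] at h2
    rw [C.toGroup_mk] at h2
    exact h2.symm
  · intro r t _
    unfold ChevalleyDatum.stGen
    rw [C.toGroup_mk, C.c6.c2.xA_val]

end Cert12

end Cfsg.Agent.Lib.H29.Chev
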