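import Mathlib
import Cfsg.Prelude.Def_ChevStructure
import Cfsg.Prelude.Def_Steinberg
import Cfsg.Agent.Lib.H29.ChevStI
import Cfsg.Agent.Lib.H29.ChevStK

/-!
# Steinberg's presentation: the kernel of a homomorphism `x̄_r(t) ↦ x_r(t)` lies in `H̄`
-/

set_option autoImplicit false
set_option linter.unusedSectionVars false
set_option linter.unusedSimpArgs false
set_option linter.unusedVariables false

namespace Cfsg.Agent.Lib.H29.Chev

open Cfsg.Lie Matrix

variable {D : ChevalleyDatum} {fd : FD} {fx : FX} {fc : FC} {fz : FZ}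

namespace Cert12

variable (C : Cert12 D fd fx fc fz) (K : Type*) [Field K]
include C

variable {wit : List (ℕ × ℕ)}

/-- the element `h̄_r(t)` of a presented group -/
theorem mk_stH (R : Set (FreeGroup (Fin D.nroots × K))) (hAB : D.steinbergRelsAB K ⊆ R)
    (θ : PresentedGroup R →* ↥(D.group K))
    (hθ : ∀ r, r < fd.n → ∀ t, ((θ (PresentedGroup.mk R (D.stX r t)) : ↥(D.group K)) : GL D.Idx K) = C.c6.c2.xA r t)
    (r : ℕ) (hr : r < fd.n) (t : K) :
    PresentedGroup.mk R (D.stH r t) = (C.stStG' K R hAB θ hθ).hb r t := by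
  unfold StG.hb StG.nb
  simp only [C.stStG'_y]
  unfold ChevalleyDatum.stH ChevalleyDatum.stWord ChevalleyDatum.hWord ChevalleyDatum.nWord
  rw [C.c6.c2.agrees.neg_eq' r hr]
  simp only [List.cons_append, List.nil_append, List.map_cons, List.map_nil, List.prod_cons, List.prod_nil, map_mul,
    mul_one, mul_assoc]

theorem steinberg_ker (hst : fd.ChkSt fx wit) (θ : D.SteinbergGroup K →* ↥(D.group K))
    (hθ : ∀ (r : ℕ) (t : K), r < D.nroots →
      ((θ (D.stGen K r t) : GL D.Idx K) : Matrix D.Idx D.Idx K) = D.x K r t) :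
    θ.ker ≤ Subgroup.closure {h | ∃ (i : ℕ) (t : K), i < D.rank ∧ t ≠ 0 ∧
      h = PresentedGroup.mk (D.steinbergRels K) (D.stH (D.simple i) t)} := by
  have hAB : D.steinbergRelsAB K ⊆ D.steinbergRels K := fun g hg => Or.inl hg
  have hθ' : ∀ r, r < fd.n → ∀ t, ((θ (PresentedGroup.mk (D.steinbergRels K) (D.stX r t)) : ↥(D.group K)) :
      GL D.Idx K) = C.c6.c2.xA r t := by
    intro r hr t
    apply gl_ext
    rw [C.c6.c2.xA_val]
    exact hθ r t (by rw [C.c6.c2.nroots_eq]; exact hr)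
  intro g hg
  rw [MonoidHom.mem_ker] at hg
  have h1 : (C.stStG' K _ hAB θ hθ').θ g = 1 := by
    rw [C.stStG'_θ, hg]
    rfl
  have h2 := (C.stStG' K _ hAB θ hθ').ker_le_Hbar hst g h1
  revert h2
  apply Subgroup.closure_mono
  rintro x ⟨i, t, hi, ht, rfl⟩
  refine ⟨i, t, by rw [C.c6.c2.rank_eq]; exact hi, ht, ?_⟩
  rw [C.c6.c2.agrees.simple_eq, C.mk_stH K _ hAB θ hθ' _ (C.c6.c2.simple_lt i hi)]

end Cert12

end Cfsg.Agent.Lib.H29.Chev
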