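import Mathlib
import Cfsg.Prelude.Def_ChevStructure
import Cfsg.Prelude.Def_Steinberg
import Cfsg.Prelude.Def_SteinbergCover
import Cfsg.Agent.Lib.H29.ChevStR3
import Cfsg.Agent.Lib.H29.ChevStL

/-!
# Steinberg's presentation: over a finite field the group presented by (R1), (R2) is the one presented by (R1)-(R3)
-/

set_option autoImplicit false
set_option linter.unusedSectionVars false
set_option linter.unusedSimpArgs false
set_option linter.unusedVariables false

namespace Cfsg.Agent.Lib.H29.Chev

open Cfsg.Lie Matrix

variable {D : ChevalleyDatum} {fd : FD} {fx : FX} {fc : FC} {fz : FZ}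

/-- the homomorphism between presented groups on the same generators induced by an inclusion of the relators in the
normal closure -/
theorem presented_map_rel {α : Type*} (R R' : Set (FreeGroup α)) (g : FreeGroup α) :
    FreeGroup.lift (fun a => (PresentedGroup.of a : PresentedGroup R')) g = PresentedGroup.mk R' g := by
  have : FreeGroup.lift (fun a => (PresentedGroup.of a : PresentedGroup R')) = PresentedGroup.mk R' := by
    ext a
    simp [PresentedGroup.of]
  rw [this]

namespace Cert12

variable (C : Cert12 D fd fx fc fz) (K : Type*) [Field K]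
include C

variable {wit : List (ℕ × ℕ)}

/-- the group presented by (R1), (R2) as a group with Steinberg's relations -/
noncomputable def coverStG : StG C K (D.SteinbergCover K) :=
  C.stStG' K (D.steinbergRelsAB K) (le_refl _) (PresentedGroup.toGroup (C.rels_AB K))
    (fun r _ t => C.toGroup_mk K _ (C.rels_AB K) r t)

/-- over a finite field the relators (R3) are trivial in the group presented by (R1), (R2) -/
theorem cover_rels [Finite K] (hst : fd.ChkSt fx wit) (g : FreeGroup (Fin D.nroots × K)) (hg : g ∈ D.steinbergRels K) :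
    PresentedGroup.mk (D.steinbergRelsAB K) g = 1 := by
  rcases hg with hg | ⟨r, t₁, t₂, hr, ht₁, ht₂, rfl⟩
  · exact PresentedGroup.one_of_mem hg
  · have hr' : r < fd.n := by rw [← C.c6.c2.nroots_eq]; exact hr
    have h3 := (C.coverStG K).R3_of_finite hst r hr' t₁ t₂ ht₁ ht₂
    rw [map_mul, map_mul, map_inv]
    unfold coverStG at h3
    rw [C.mk_stH K _ (le_refl _) _ (fun r _ t => C.toGroup_mk K _ (C.rels_AB K) r t) r hr',
      C.mk_stH K _ (le_refl _) _ (fun r _ t => C.toGroup_mk K _ (C.rels_AB K) r t) r hr',
      C.mk_stH K _ (le_refl _) _ (fun r _ t => C.toGroup_mk K _ (C.rels_AB K) r t) r hr', h3, mul_inv_cancel]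

/-- over a finite field the two presented groups are isomorphic -/
theorem cover_equiv [Finite K] (hst : fd.ChkSt fx wit) :
    ∃ e : D.SteinbergCover K ≃* D.SteinbergGroup K, ∀ (r : ℕ) (t : K), e (D.scGen K r t) = D.stGen K r t := by
  have hAB : D.steinbergRelsAB K ⊆ D.steinbergRels K := fun g hg => Or.inl hg
  have h1 : ∀ g ∈ D.steinbergRelsAB K,
      FreeGroup.lift (fun a => (PresentedGroup.of a : D.SteinbergGroup K)) g = 1 := by
    intro g hg
    rw [presented_map_rel (D.steinbergRelsAB K)]
    exact PresentedGroup.one_of_mem (hAB hg)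
  have h2 : ∀ g ∈ D.steinbergRels K,
      FreeGroup.lift (fun a => (PresentedGroup.of a : D.SteinbergCover K)) g = 1 := by
    intro g hg
    rw [presented_map_rel (D.steinbergRels K)]
    exact C.cover_rels K hst g hg
  set φ : D.SteinbergCover K →* D.SteinbergGroup K := PresentedGroup.toGroup h1 with hφ
  set ψ : D.SteinbergGroup K →* D.SteinbergCover K := PresentedGroup.toGroup h2 with hψ
  have e1 : ∀ w : FreeGroup (Fin D.nroots × K), φ (PresentedGroup.mk _ w) = PresentedGroup.mk _ w := by
    intro w
    rw [← presented_map_rel (D.steinbergRelsAB K) (D.steinbergRels K) w]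
    rfl
  have e2 : ∀ w : FreeGroup (Fin D.nroots × K), ψ (PresentedGroup.mk _ w) = PresentedGroup.mk _ w := by
    intro w
    rw [← presented_map_rel (D.steinbergRels K) (D.steinbergRelsAB K) w]
    rfl
  have c1 : ψ.comp φ = MonoidHom.id _ := by
    apply PresentedGroup.ext
    intro a
    show ψ (φ (PresentedGroup.mk _ (FreeGroup.of a))) = PresentedGroup.mk _ (FreeGroup.of a)
    rw [e1, e2]
  have c2 : φ.comp ψ = MonoidHom.id _ := by
    apply PresentedGroup.ext
    intro a
    show φ (ψ (PresentedGroup.mk _ (FreeGroup.of a))) = PresentedGroup.mk _ (FreeGroup.of a)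
    rw [e2, e1]
  refine ⟨MonoidHom.toMulEquiv φ ψ c1 c2, ?_⟩
  intro r t
  show φ (D.scGen K r t) = D.stGen K r t
  unfold ChevalleyDatum.scGen ChevalleyDatum.stGen
  rw [e1]

end Cert12

end Cfsg.Agent.Lib.H29.Chev
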