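import Mathlib
import Cfsg.Prelude.Def_ChevStructure
import Cfsg.Prelude.Def_Steinberg
import Cfsg.Prelude.Def_SteinbergCover
import Cfsg.Prelude.Def_KGroupFacts
import Cfsg.Agent.Lib.H29.ChevCE5
import Cfsg.Agent.Lib.H29.ChevStR3b

/-!
# Central extensions of groups with Steinberg's relations: stem extensions of Chevalley groups over finite fields
-/

set_option autoImplicit false
set_option linter.unusedSectionVars false
set_option linter.unusedSimpArgs false
set_option linter.unusedVariables false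

namespace Cfsg.Agent.Lib.H29.Chev

open Cfsg.Lie Matrix

open scoped commutatorElement

variable {D : ChevalleyDatum} {fd : FD} {fx : FX} {fc : FC} {fz : FZ}

namespace Cert12

variable (C : Cert12 D fd fx fc fz) (K : Type*) [Field K]
include C

/-- elements of a group that satisfy Steinberg's relations (R1), (R2) define a homomorphism from the presented group -/
theorem cover_hom {E : Type*} [Group E] (z : ℕ → K → E)
    (hadd : ∀ r, r < fd.n → ∀ t u, z r t * z r u = z r (t + u))
    (hcomm : ∀ r s, r < fd.n → s < fd.n → s ≠ r → s ≠ fd.n - 1 - r → ∀ t u,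
      z s u * z r t = z r t * z s u *
        ((fd.commT r s).map fun c => z c.1 (((c.2.1 : ℤ) : K) * (-t) ^ c.2.2.1 * u ^ c.2.2.2)).prod) :
    ∃ τ : D.SteinbergCover K →* E, ∀ r, r < fd.n → ∀ t, τ (PresentedGroup.mk _ (D.stX r t)) = z r t := by
  set f : Fin D.nroots × K → E := fun q => z q.1.val q.2 with hf
  have hX : ∀ r, r < fd.n → ∀ t, FreeGroup.lift f (D.stX r t) = z r t := by
    intro r hr t
    unfold ChevalleyDatum.stX
    rw [dif_pos (by rw [C.c6.c2.nroots_eq]; exact hr), FreeGroup.lift_apply_of]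
  have hW : ∀ w : List (ℕ × K), (∀ q ∈ w, q.1 < fd.n) →
      FreeGroup.lift f (D.stWord w) = (w.map fun q => z q.1 q.2).prod := by
    intro w hw
    unfold ChevalleyDatum.stWord
    induction w with
    | nil => simp
    | cons q w ih =>
      rw [List.map_cons, List.prod_cons, map_mul, ih (fun q' hq' => hw q' (List.mem_cons_of_mem _ hq')),
        hX q.1 (hw q List.mem_cons_self), List.map_cons, List.prod_cons]
  have hrel : ∀ g ∈ D.steinbergRelsAB K, FreeGroup.lift f g = 1 := by
    intro g hg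
    rcases hg with ⟨r, t₁, t₂, hr, rfl⟩ | ⟨r, s, t, u, hr, hs, h1, h2, rfl⟩
    · have hr' : r < fd.n := by rw [← C.c6.c2.nroots_eq]; exact hr
      rw [map_mul, map_mul, map_inv, hX r hr', hX r hr', hX r hr', hadd r hr', mul_inv_cancel]
    · have hr' : r < fd.n := by rw [← C.c6.c2.nroots_eq]; exact hr
      have hs' : s < fd.n := by rw [← C.c6.c2.nroots_eq]; exact hs
      have h2' : s ≠ fd.n - 1 - r := by rw [← C.c6.c2.agrees.neg_eq' r hr']; exact h2
      rw [map_mul, map_mul, map_mul, map_mul, map_inv, map_inv, map_inv, hX r hr', hX s hs',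
        C.commWord_eq K r s hr' hs' h1 h2', hW, List.map_map]
      · have := hcomm r s hr' hs' h1 h2' t u
        have e2 : (z s u)⁻¹ * (z r t)⁻¹ * z s u * z r t = (z s u)⁻¹ * (z r t)⁻¹ * (z s u * z r t) := by group
        rw [e2, this]
        have e3 : ((fun q : ℕ × K => z q.1 q.2) ∘
            fun c : ℕ × ℤ × ℕ × ℕ => (c.1, ((c.2.1 : ℤ) : K) * (-t) ^ c.2.2.1 * u ^ c.2.2.2)) =
            fun c => z c.1 (((c.2.1 : ℤ) : K) * (-t) ^ c.2.2.1 * u ^ c.2.2.2) := rfl
        rw [e3]
        group
      · intro q hq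
        obtain ⟨c, hc, rfl⟩ := List.mem_map.mp hq
        exact (fd.linc_spec C.linc r s hr' hs' c hc).1
  refine ⟨PresentedGroup.toGroup hrel, ?_⟩
  intro r hr t
  rw [← hX r hr t]
  rfl

variable {wit : List (ℕ × ℕ)} {dec : List (ℕ × ℕ × ℕ × ℕ)}

/-- every central extension of the group presented by (R1), (R2) splits (types `E₆`, `E₇`, `E₈`) -/
theorem cover_splits (hce : ∀ r < fd.n, fd.chkCE dec r = true) {E : Type*} [Group E]
    (p : E →* D.SteinbergCover K) (hsurj : Function.Surjective p) (hc : p.ker ≤ Subgroup.center E) :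
    ∃ τ : D.SteinbergCover K →* E, p.comp τ = MonoidHom.id _ := by
  obtain ⟨z, hz1, hz2, hz3⟩ := (C.coverStG K).exists_lift_of_chk p hce hsurj hc
  obtain ⟨τ, hτ⟩ := C.cover_hom K z hz2 hz3
  refine ⟨τ, ?_⟩
  apply PresentedGroup.ext
  intro a
  have ha : a.1.val < fd.n := by rw [← C.c6.c2.nroots_eq]; exact a.1.isLt
  have e : (PresentedGroup.of a : D.SteinbergCover K) = PresentedGroup.mk _ (D.stX a.1.val a.2) := by
    unfold ChevalleyDatum.stX
    rw [dif_pos a.1.isLt]
    rfl
  rw [MonoidHom.comp_apply, e, hτ _ ha, hz1 _ ha]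
  rfl

/-- the homomorphism from the group presented by (R1), (R2) onto the Chevalley group is injective when the field is
finite and the Cartan matrix unimodular -/
theorem cover_injective [Finite K] (hst : fd.ChkSt fx wit) (B : List (List ℤ)) (hB : fd.ChkUni B) :
    Function.Injective (PresentedGroup.toGroup (C.rels_AB K) : D.SteinbergCover K →* ↥(D.group K)) := by
  rw [injective_iff_map_eq_one]
  intro g hg
  have h1 : (C.coverStG K).θ g = 1 := by
    unfold coverStG
    rw [C.stStG'_θ, hg]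
    rfl
  exact (C.coverStG K).ker_Hbar hst ((C.coverStG K).R3_of_finite hst) B hB g ((C.coverStG K).ker_le_Hbar hst g h1) h1

/-- a stem extension of the Chevalley group is an isomorphism (finite field, unimodular Cartan matrix, types `E₈`) -/
theorem stem_ker_bot [Finite K] (hst : fd.ChkSt fx wit) (B : List (List ℤ)) (hB : fd.ChkUni B)
    (hce : ∀ r < fd.n, fd.chkCE dec r = true) {Γ : Type*} [Group Γ] (σ : Γ →* ↥(D.group K))
    (hσ : Cfsg.IsStemExtension σ) : σ.ker = ⊥ := by
  obtain ⟨hσ1, hσ2, hσ3⟩ := hσ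
  set θ : D.SteinbergCover K →* ↥(D.group K) := PresentedGroup.toGroup (C.rels_AB K) with hθ
  have hθs : Function.Surjective θ := C.toGroup_surjective K _ _
  have hθi : Function.Injective θ := C.cover_injective K hst B hB
  -- the pull-back
  set P : Subgroup (Γ × D.SteinbergCover K) :=
    (σ.comp (MonoidHom.fst Γ (D.SteinbergCover K))).eqLocus (θ.comp (MonoidHom.snd Γ (D.SteinbergCover K))) with hP
  set p : ↥P →* D.SteinbergCover K := (MonoidHom.snd Γ (D.SteinbergCover K)).comp P.subtype with hp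
  have hmemP : ∀ x : Γ × D.SteinbergCover K, x ∈ P ↔ σ x.1 = θ x.2 := fun x => Iff.rfl
  have hsurj : Function.Surjective p := by
    intro m
    obtain ⟨γ, hγ⟩ := hσ1 (θ m)
    exact ⟨⟨(γ, m), (hmemP _).mpr hγ⟩, rfl⟩
  have hc : p.ker ≤ Subgroup.center ↥P := by
    rintro ⟨⟨γ, m⟩, hx⟩ hker
    rw [MonoidHom.mem_ker] at hker
    have hm : m = 1 := hker
    subst hm
    have hγ : γ ∈ σ.ker := by
      rw [MonoidHom.mem_ker]
      have := (hmemP _).mp hx
      simpa using this
    have hγc := Subgroup.mem_center_iff.mp (hσ2 hγ)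
    rw [Subgroup.mem_center_iff]
    rintro ⟨⟨γ', m'⟩, hx'⟩
    apply Subtype.ext
    show (γ' * γ, m' * 1) = (γ * γ', 1 * m')
    rw [hγc γ', mul_one, one_mul]
  obtain ⟨τ', hτ'⟩ := C.cover_splits K hce p hsurj hc
  set τ : D.SteinbergCover K →* Γ := ((MonoidHom.fst Γ (D.SteinbergCover K)).comp P.subtype).comp τ' with hτ
  have hστ : ∀ m, σ (τ m) = θ m := by
    intro m
    have h1 : p (τ' m) = m := by
      have := congrArg (fun f : D.SteinbergCover K →* D.SteinbergCover K => f m) hτ'
      exact this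
    have h2 := (hmemP _).mp (τ' m).2
    have h3 : ((τ' m : ↥P) : Γ × D.SteinbergCover K).2 = m := h1
    rw [h3] at h2
    exact h2
  -- every element is a product of an element of the image of `τ` and one of the kernel
  have hdec : ∀ a : Γ, ∃ m, ∃ z ∈ σ.ker, a = τ m * z := by
    intro a
    obtain ⟨m, hm⟩ := hθs (σ a)
    refine ⟨m, (τ m)⁻¹ * a, ?_, by group⟩
    rw [MonoidHom.mem_ker, map_mul, map_inv, hστ, hm, inv_mul_cancel]
  have hcomm : commutator Γ ≤ τ.range := by
    rw [commutator_eq_closure, Subgroup.closure_le]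
    rintro g ⟨a, b, rfl⟩
    obtain ⟨ma, za, hza, rfl⟩ := hdec a
    obtain ⟨mb, zb, hzb, rfl⟩ := hdec b
    have cza : ∀ g : Γ, g * za = za * g := Subgroup.mem_center_iff.mp (hσ2 hza)
    have czb : ∀ g : Γ, g * zb = zb * g := Subgroup.mem_center_iff.mp (hσ2 hzb)
    rw [SetLike.mem_coe, CE.comm_mul_central_left cza, CE.comm_mul_central_right czb, ← map_commutatorElement]
    exact ⟨_, rfl⟩
  rw [eq_bot_iff]
  intro x hx
  obtain ⟨m, rfl⟩ := hcomm (hσ3 hx)
  rw [MonoidHom.mem_ker, hστ] at hx
  have hm : m = 1 := hθi (by rw [hx, map_one])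
  rw [Subgroup.mem_bot, hm, map_one]

/-- the Schur multiplier of the Chevalley group is trivial -/
theorem schur_trivial [Finite K] (hst : fd.ChkSt fx wit) (B : List (List ℤ)) (hB : fd.ChkUni B)
    (hce : ∀ r < fd.n, fd.chkCE dec r = true) : Cfsg.HasCyclicSchurMultiplier ↥(D.group K) 1 := by
  constructor
  · have hfin : Finite ↥(D.group K) := by
      have := Fintype.ofFinite K
      infer_instance
    refine ⟨↥(D.group K), inferInstance, hfin, MonoidHom.id _, ⟨Function.surjective_id, ?_, ?_⟩, ?_⟩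
    · rw [MonoidHom.ker_id]; exact bot_le
    · rw [MonoidHom.ker_id]; exact bot_le
    · rw [MonoidHom.ker_id]
      exact ⟨MulEquiv.ofUnique⟩
  · intro Γ _ _ σ hσ
    have hk := C.stem_ker_bot K hst B hB hce σ hσ
    refine ⟨1, ?_⟩
    intro x
    have hx : x = 1 := by
      apply Subtype.ext
      have h1 : (x : Γ) ∈ σ.ker := x.2
      have h2 : (x : Γ) ∈ (⊥ : Subgroup Γ) := hk ▸ h1
      exact Subgroup.mem_bot.mp h2
    exact ⟨1, by rw [hx]; rfl⟩

end Cert12

end Cfsg.Agent.Lib.H29.Chev
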