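import Mathlib
import Cfsg.Prelude.Def_ChevStructure
import Cfsg.Prelude.Def_Steinberg
import Cfsg.Prelude.Def_SteinbergCover
import Cfsg.Prelude.Def_KGroupFacts
import Cfsg.Agent.Lib.H29.ChevCE6
import Cfsg.Agent.Lib.H29.ChevGen26

/-!
# Stem extensions of Chevalley groups over finite fields: the Schur multiplier from the centre of the group presented
by Steinberg's relations
-/

set_option autoImplicit false
set_option linter.unusedSectionVars false
set_option linter.unusedSimpArgs false
set_option linter.unusedVariables false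

namespace Cfsg.Agent.Lib.H29.Chev

open Cfsg.Lie Matrix

open scoped commutatorElement

variable {D : ChevalleyDatum} {fd : FD} {fx : FX} {fc : FC} {fz : FZ}

namespace StG

variable {C : Cert12 D fd fx fc fz} {F : Type*} [Field F] {M : Type*} [Group M] (S : StG C F M)
variable {wit : List (ℕ × ℕ)} {fw : FW}
include S

/-- a group with Steinberg's relations is perfect when every root is a sum of two roots with a single term in the
commutator formula -/
theorem commutator_eq_top (hw : fd.ChkPerf fw) (hk : fd.allK1 fw = true) : commutator M = ⊤ := by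
  rw [eq_top_iff, ← S.gen, Subgroup.closure_le]
  rintro g ⟨r, t, hr, rfl⟩
  rw [SetLike.mem_coe]
  obtain ⟨ha, hcase⟩ := fd.perf_spec hw r hr
  rcases hcase with ⟨_, hb, hba, hbn, hct⟩ | ⟨hk', _⟩
  · have cf := S.y_comm _ _ ha hb hba hbn
    have key : ∀ (ε : ℤ), (ε = 1 ∨ ε = -1) → fd.commT (FD.pwA fw r) (FD.pwB fw r) = [(r, ε, 1, 1)] →
        S.y r t ∈ commutator M := by
      intro ε hε hct
      have := cf 1 (-(ε : F) * t)
      rw [hct] at this
      simp only [List.map_cons, List.map_nil, List.prod_cons, List.prod_nil, mul_one, pow_one] at this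
      have e : ((ε : ℤ) : F) * -1 * (-(ε : F) * t) = t := by
        rcases hε with rfl | rfl <;> push_cast <;> ring
      rw [e] at this
      generalize S.y (FD.pwB fw r) (-(ε : F) * t) = x at this
      generalize S.y (FD.pwA fw r) (1 : F) = y at this
      have e2 : S.y r t = x⁻¹ * y⁻¹ * x⁻¹⁻¹ * y⁻¹⁻¹ := by
        rw [inv_inv, inv_inv, mul_assoc (x⁻¹ * y⁻¹), this]
        group
      rw [e2, ← commutatorElement_def]
      exact Subgroup.commutator_mem_commutator (Subgroup.mem_top _) (Subgroup.mem_top _)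
    rcases hct with h | h
    · exact key 1 (Or.inl rfl) h
    · exact key (-1) (Or.inr rfl) h
  · exact absurd (fd.allK1_spec hk r hr) hk'

end StG

namespace Cert12

variable (C : Cert12 D fd fx fc fz) (K : Type*) [Field K]
include C

variable {wit : List (ℕ × ℕ)} {dec : List (ℕ × ℕ × ℕ × ℕ)} {fw : FW}

/-- the kernel of the homomorphism onto the Chevalley group is the centre -/
theorem cover_ker_eq_center (hst : fd.ChkSt fx wit) :
    (PresentedGroup.toGroup (C.rels_AB K) : D.SteinbergCover K →* ↥(D.group K)).ker =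
      Subgroup.center (D.SteinbergCover K) := by
  have hθ : ∀ g, (C.coverStG K).θ g =
      (((PresentedGroup.toGroup (C.rels_AB K) : D.SteinbergCover K →* ↥(D.group K)) g : ↥(D.group K)) :
        GL D.Idx K) := by
    intro g
    unfold coverStG
    rw [C.stStG'_θ]
  apply le_antisymm
  · intro g hg
    rw [MonoidHom.mem_ker] at hg
    have h1 : (C.coverStG K).θ g = 1 := by rw [hθ, hg]; rfl
    rw [Subgroup.mem_center_iff]
    intro x
    exact (((C.coverStG K).ker_spec hst g h1).2 x).symm
  · intro z hz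
    rw [Subgroup.mem_center_iff] at hz
    rw [MonoidHom.mem_ker]
    apply Subtype.ext
    rw [← hθ]
    apply C.eq_one_of_comm _ (by rw [hθ]; exact Subtype.property _)
    intro r hr
    have h1 := hz ((C.coverStG K).y r (1 : K))
    have h2 := congrArg (C.coverStG K).θ h1
    rw [map_mul, map_mul, (C.coverStG K).θ_y r hr] at h2
    exact h2.symm

/-- a stem extension of the Chevalley group is a quotient of the group presented by (R1), (R2), compatibly with
the homomorphisms onto the Chevalley group -/
theorem stem_lift (hce : ∀ r < fd.n, fd.chkCE dec r = true) {Γ : Type*} [Group Γ] (σ : Γ →* ↥(D.group K))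
    (hσ : Cfsg.IsStemExtension σ) :
    ∃ τ : D.SteinbergCover K →* Γ,
      (∀ m, σ (τ m) = (PresentedGroup.toGroup (C.rels_AB K) : D.SteinbergCover K →* ↥(D.group K)) m) ∧
      ∀ x ∈ σ.ker, ∃ m ∈ (PresentedGroup.toGroup (C.rels_AB K) : D.SteinbergCover K →* ↥(D.group K)).ker,
        τ m = x := by
  obtain ⟨hσ1, hσ2, hσ3⟩ := hσ
  set θ : D.SteinbergCover K →* ↥(D.group K) := PresentedGroup.toGroup (C.rels_AB K) with hθ
  have hθs : Function.Surjective θ := C.toGroup_surjective K _ _
  -- the pull-back
  set P : Subgroup (Γ × D.SteinbergCover K) :=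
    (σ.comp (MonoidHom.fst Γ (D.SteinbergCover K))).eqLocus (θ.comp (MonoidHom.snd Γ (D.SteinbergCover K))) with hP
  set p : ↥P →* D.SteinbergCover K := (MonoidHom.snd Γ (D.SteinbergCover K)).comp P.subtype with hp
  have hmemP : ∀ x : Γ × D.SteinbergCover K, x ∈ P ↔ σ x.1 = θ x.2 := fun x => Iff.rfl
  have hsurj : Function.Surjective p := by
    intro m
    obtain ⟨γ, hγ⟩ := hσ1 (θ m)
    exact ⟨⟨(γ, m), (hmemP _).mpr hγ⟩, rfl⟩
  have hc : p.ker ≤ Subgroup.center ↥P := by
    rintro ⟨⟨γ, m⟩, hx⟩ hker
    rw [MonoidHom.mem_ker] at hker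
    have hm : m = 1 := hker
    subst hm
    have hγ : γ ∈ σ.ker := by
      rw [MonoidHom.mem_ker]
      have := (hmemP _).mp hx
      simpa using this
    have hγc := Subgroup.mem_center_iff.mp (hσ2 hγ)
    rw [Subgroup.mem_center_iff]
    rintro ⟨⟨γ', m'⟩, hx'⟩
    apply Subtype.ext
    show (γ' * γ, m' * 1) = (γ * γ', 1 * m')
    rw [hγc γ', mul_one, one_mul]
  obtain ⟨τ', hτ'⟩ := C.cover_splits K hce p hsurj hc
  set τ : D.SteinbergCover K →* Γ := ((MonoidHom.fst Γ (D.SteinbergCover K)).comp P.subtype).comp τ' with hτ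
  have hστ : ∀ m, σ (τ m) = θ m := by
    intro m
    have h1 : p (τ' m) = m := by
      have := congrArg (fun f : D.SteinbergCover K →* D.SteinbergCover K => f m) hτ'
      exact this
    have h2 := (hmemP _).mp (τ' m).2
    have h3 : ((τ' m : ↥P) : Γ × D.SteinbergCover K).2 = m := h1
    rw [h3] at h2
    exact h2
  -- every element is a product of an element of the image of `τ` and one of the kernel
  have hdec : ∀ a : Γ, ∃ m, ∃ z ∈ σ.ker, a = τ m * z := by
    intro a
    obtain ⟨m, hm⟩ := hθs (σ a)
    refine ⟨m, (τ m)⁻¹ * a, ?_, by group⟩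
    rw [MonoidHom.mem_ker, map_mul, map_inv, hστ, hm, inv_mul_cancel]
  have hcomm : commutator Γ ≤ τ.range := by
    rw [commutator_eq_closure, Subgroup.closure_le]
    rintro g ⟨a, b, rfl⟩
    obtain ⟨ma, za, hza, rfl⟩ := hdec a
    obtain ⟨mb, zb, hzb, rfl⟩ := hdec b
    have cza : ∀ g : Γ, g * za = za * g := Subgroup.mem_center_iff.mp (hσ2 hza)
    have czb : ∀ g : Γ, g * zb = zb * g := Subgroup.mem_center_iff.mp (hσ2 hzb)
    rw [SetLike.mem_coe, CE.comm_mul_central_left cza, CE.comm_mul_central_right czb, ← map_commutatorElement]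
    exact ⟨_, rfl⟩
  refine ⟨τ, hστ, ?_⟩
  intro x hx
  obtain ⟨m, rfl⟩ := hcomm (hσ3 hx)
  rw [MonoidHom.mem_ker, hστ] at hx
  exact ⟨m, hx, rfl⟩

/-- the Schur multiplier of the Chevalley group is the centre of the group presented by (R1), (R2), when this has
prime order or is trivial -/
theorem schur_cyclic [Finite K] (hst : fd.ChkSt fx wit) (hce : ∀ r < fd.n, fd.chkCE dec r = true)
    (hw : fd.ChkPerf fw) (hk : fd.allK1 fw = true) (n : ℕ) (hn : n.Prime ∨ n = 1)
    (hcard : Nat.card (Subgroup.center (D.SteinbergCover K)) = n) :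
    Cfsg.HasCyclicSchurMultiplier ↥(D.group K) n := by
  set θ : D.SteinbergCover K →* ↥(D.group K) := PresentedGroup.toGroup (C.rels_AB K) with hθ
  have hθs : Function.Surjective θ := C.toGroup_surjective K _ _
  have hker : θ.ker = Subgroup.center (D.SteinbergCover K) := C.cover_ker_eq_center K hst
  have hcardk : Nat.card θ.ker = n := by rw [hker]; exact hcard
  have hn0 : n ≠ 0 := by
    rcases hn with h | h
    · exact h.ne_zero
    · omega
  have hfinG : Finite ↥(D.group K) := by
    have := Fintype.ofFinite K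
    infer_instance
  have hcyc : IsCyclic θ.ker := by
    rcases hn with h | h
    · have : Fact n.Prime := ⟨h⟩
      exact isCyclic_of_prime_card hcardk
    · have : Subsingleton θ.ker := (Nat.card_eq_one_iff_unique.mp (by rw [hcardk, h])).1
      exact isCyclic_of_subsingleton
  have eZ : Multiplicative (ZMod n) ≃* θ.ker := by
    have := zmodCyclicMulEquiv hcyc
    rw [hcardk] at this
    exact this
  constructor
  · have hfin : Finite (D.SteinbergCover K) := by
      apply Nat.finite_of_card_ne_zero
      rw [← Subgroup.card_mul_index θ.ker, hcardk, Subgroup.index_ker]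
      apply mul_ne_zero hn0
      have : Finite ↥θ.range := inferInstance
      exact Nat.card_pos.ne'
    refine ⟨D.SteinbergCover K, inferInstance, hfin, θ, ⟨hθs, ?_, ?_⟩, ⟨eZ.symm⟩⟩
    · rw [hker]
    · rw [(C.coverStG K).commutator_eq_top hw hk]
      exact le_top
  · intro Γ _ _ σ hσ
    obtain ⟨τ, hτ1, hτ2⟩ := C.stem_lift K hce σ hσ
    have hmap : ∀ m : θ.ker, τ m.val ∈ σ.ker := by
      intro m
      rw [MonoidHom.mem_ker, hτ1]
      exact m.property
    set π : θ.ker →* σ.ker := (τ.comp θ.ker.subtype).codRestrict σ.ker hmap with hπ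
    refine ⟨π.comp eZ.toMonoidHom, ?_⟩
    intro x
    obtain ⟨m, hm, hmx⟩ := hτ2 x.val x.property
    obtain ⟨a, ha⟩ := eZ.surjective ⟨m, hm⟩
    refine ⟨a, ?_⟩
    apply Subtype.ext
    rw [MonoidHom.comp_apply]
    show τ ((eZ a : θ.ker) : D.SteinbergCover K) = x.val
    rw [ha, hmx]

end Cert12

end Cfsg.Agent.Lib.H29.Chev
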