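import Mathlib

/-!
# Central extensions whose kernel has no `p`-torsion: finiteness of commutator subgroups, and lifts of `p`-subgroups
-/

set_option autoImplicit false
set_option linter.unusedSectionVars false
set_option linter.unusedVariables false

namespace Cfsg.Agent.Lib.H29.Chev

open scoped commutatorElement

/-- commutators do not change when the entries are multiplied by central elements -/
theorem commutatorElement_mul_central {X : Type*} [Group X] (a b z z' : X) (hz : z ∈ Subgroup.center X)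
    (hz' : z' ∈ Subgroup.center X) : ⁅a * z, b * z'⁆ = ⁅a, b⁆ := by
  have h1 : ∀ g, g * z = z * g := Subgroup.mem_center_iff.mp hz
  have h2 : ∀ g, g * z' = z' * g := Subgroup.mem_center_iff.mp hz'
  rw [commutatorElement_def, commutatorElement_def]
  calc a * z * (b * z') * (a * z)⁻¹ * (b * z')⁻¹
      = a * (z * (b * z')) * (z⁻¹ * a⁻¹) * (z'⁻¹ * b⁻¹) := by simp only [mul_inv_rev, mul_assoc]
    _ = a * ((b * z') * z) * (z⁻¹ * a⁻¹) * (z'⁻¹ * b⁻¹) := by rw [← h1 (b * z')]
    _ = a * b * z' * a⁻¹ * (z'⁻¹ * b⁻¹) := by group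
    _ = a * b * (z' * a⁻¹) * (z'⁻¹ * b⁻¹) := by simp only [mul_assoc]
    _ = a * b * (a⁻¹ * z') * (z'⁻¹ * b⁻¹) := by rw [← h2 a⁻¹]
    _ = a * b * a⁻¹ * b⁻¹ := by group

/-- a group with a central homomorphism to a finite group has finitely many commutators -/
theorem finite_commutatorSet_of_central {X Q : Type*} [Group X] [Group Q] [Finite Q] (f : X →* Q)
    (hf : f.ker ≤ Subgroup.center X) : Finite (commutatorSet X) := by
  classical
  set s : Q → X := fun q => if h : ∃ x, f x = q then h.choose else 1 with hs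
  have hsf : ∀ x, f (s (f x)) = f x := by
    intro x
    have h : ∃ y, f y = f x := ⟨x, rfl⟩
    simp only [hs, dif_pos h]
    exact h.choose_spec
  have hsub : commutatorSet X ⊆ Set.range (fun q : Q × Q => ⁅s q.1, s q.2⁆) := by
    rintro g ⟨a, b, rfl⟩
    refine ⟨(f a, f b), ?_⟩
    have ha : (s (f a))⁻¹ * a ∈ Subgroup.center X := by
      apply hf
      rw [MonoidHom.mem_ker, map_mul, map_inv, hsf, inv_mul_cancel]
    have hb : (s (f b))⁻¹ * b ∈ Subgroup.center X := by
      apply hf
      rw [MonoidHom.mem_ker, map_mul, map_inv, hsf, inv_mul_cancel]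
    have := commutatorElement_mul_central (s (f a)) (s (f b)) _ _ ha hb
    rw [mul_inv_cancel_left, mul_inv_cancel_left] at this
    exact this.symm
  exact Set.Finite.subset (Set.finite_range _) hsub

/-- a group with a central homomorphism to a finite group has a finite commutator subgroup -/
theorem finite_commutator_of_central {X Q : Type*} [Group X] [Group Q] [Finite Q] (f : X →* Q)
    (hf : f.ker ≤ Subgroup.center X) : Finite ↥(commutator X) := by
  have := finite_commutatorSet_of_central f hf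
  infer_instance

/-- a perfect group with a central homomorphism to a finite group is finite -/
theorem finite_of_central_of_perfect {X Q : Type*} [Group X] [Group Q] [Finite Q] (f : X →* Q)
    (hf : f.ker ≤ Subgroup.center X) (hperf : commutator X = ⊤) : Finite X := by
  have h := finite_commutator_of_central f hf
  rw [hperf] at h
  exact Finite.of_equiv _ Subgroup.topEquiv.toEquiv

section PLift

variable {Γ G : Type*} [Group Γ] [Group G] (σ : Γ →* G) (p : ℕ)

/-- no `p`-torsion in the kernel gives no `p ^ k`-torsion in the kernel -/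
theorem ker_eq_one_of_pow_prime_pow (hnt : ∀ x ∈ σ.ker, x ^ p = 1 → x = 1) (k : ℕ) :
    ∀ x ∈ σ.ker, x ^ (p ^ k) = 1 → x = 1 := by
  induction k with
  | zero =>
    intro x _ hx
    simpa using hx
  | succ k ih =>
    intro x hx hxp
    apply ih x hx
    apply hnt _ (σ.ker.pow_mem hx _)
    rw [← pow_mul, ← pow_succ]
    exact hxp

/-- two elements of `p`-power order with the same image coincide -/
theorem plift_unique (hcen : σ.ker ≤ Subgroup.center Γ) (hnt : ∀ x ∈ σ.ker, x ^ p = 1 → x = 1) (x y : Γ)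
    (hxy : σ x = σ y) (kx ky : ℕ) (hx : x ^ (p ^ kx) = 1) (hy : y ^ (p ^ ky) = 1) : x = y := by
  set c := x⁻¹ * y with hc
  have hck : c ∈ σ.ker := by
    rw [MonoidHom.mem_ker, hc, map_mul, map_inv, hxy, inv_mul_cancel]
  have hcc : ∀ g, g * c = c * g := Subgroup.mem_center_iff.mp (hcen hck)
  have hy' : y = x * c := by rw [hc, mul_inv_cancel_left]
  have hcomm : Commute x c := hcc x
  have h1 : c ^ (p ^ (kx + ky)) = 1 := by
    have e1 : y ^ (p ^ (kx + ky)) = 1 := by
      rw [pow_add, mul_comm, pow_mul, hy, one_pow]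
    have e2 : x ^ (p ^ (kx + ky)) = 1 := by
      rw [pow_add, pow_mul, hx, one_pow]
    rw [hy', hcomm.mul_pow, e2, one_mul] at e1
    exact e1
  have h2 := ker_eq_one_of_pow_prime_pow σ p hnt _ c hck h1
  rw [hy', h2, mul_one]

variable [Fact p.Prime]

/-- a `p`-subgroup lifts to a central extension whose kernel has no `p`-torsion -/
theorem exists_plift_hom [Finite Γ] (hsurj : Function.Surjective σ) (hnt : ∀ x ∈ σ.ker, x ^ p = 1 → x = 1)
    (P : Subgroup G) (hP : IsPGroup p ↥P) :
    ∃ φ : ↥P →* Γ, (∀ g, σ (φ g) = g) ∧ ∀ g, ∃ k, (φ g) ^ (p ^ k) = 1 := by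
  have hGfin : Finite G := Finite.of_surjective σ hsurj
  set ΓP : Subgroup Γ := P.comap σ with hΓP
  set σP : ↥ΓP →* ↥P := σ.subgroupComap P with hσP
  have hσPs : Function.Surjective σP := MonoidHom.subgroupComap_surjective_of_surjective σ P hsurj
  set N : Subgroup ↥ΓP := σP.ker with hN
  have hidx : N.index = Nat.card ↥P := by
    rw [hN, Subgroup.index_ker, MonoidHom.range_eq_top.mpr hσPs]
    exact Nat.card_congr Subgroup.topEquiv.toEquiv
  obtain ⟨n, hn⟩ := IsPGroup.iff_card.mp hP
  have hcop : Nat.Coprime (Nat.card ↥N) N.index := by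
    rw [hidx, hn]
    apply Nat.Coprime.pow_right
    rw [Nat.coprime_comm, Nat.Prime.coprime_iff_not_dvd Fact.out]
    intro hdvd
    obtain ⟨x, hx⟩ := exists_prime_orderOf_dvd_card' p hdvd
    have hx1 : x ^ p = 1 := by rw [← hx]; exact pow_orderOf_eq_one x
    have hxk : (x : ↥ΓP).val ∈ σ.ker := by
      have h0 : σP (x : ↥ΓP) = 1 := x.2
      have h2 := congrArg Subtype.val h0
      rw [MonoidHom.mem_ker]
      exact h2
    have hx2 : (x : ↥ΓP).val ^ p = 1 := by
      have := congrArg (fun y : ↥N => (y : ↥ΓP).val) hx1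
      simpa using this
    have hx3 := hnt _ hxk hx2
    have hx4 : x = 1 := by
      apply Subtype.ext
      apply Subtype.ext
      exact hx3
    rw [hx4, orderOf_one] at hx
    exact (Fact.out : p.Prime).one_lt.ne' hx.symm
  obtain ⟨H, hH⟩ := Subgroup.exists_right_complement'_of_coprime hcop
  -- `σP` restricted to `H` is bijective
  set f : ↥H →* ↥P := σP.comp H.subtype with hf
  have hfi : Function.Injective f := by
    rw [← MonoidHom.ker_eq_bot_iff, eq_bot_iff]
    intro h hh
    rw [Subgroup.mem_bot]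
    have h1 : (h : ↥ΓP) ∈ N := hh
    have h2 : (h : ↥ΓP) ∈ N ⊓ H := ⟨h1, h.2⟩
    rw [hH.isCompl.inf_eq_bot, Subgroup.mem_bot] at h2
    exact Subtype.ext h2
  have hfs : Function.Surjective f := by
    intro g
    obtain ⟨x, rfl⟩ := hσPs g
    obtain ⟨⟨a, b⟩, hab⟩ := hH.2 x
    simp only at hab
    refine ⟨b, ?_⟩
    rw [← hab, map_mul]
    have : σP a = 1 := a.2
    rw [this, one_mul]
    rfl
  set e : ↥H ≃* ↥P := MulEquiv.ofBijective f ⟨hfi, hfs⟩ with he
  refine ⟨(ΓP.subtype.comp H.subtype).comp e.symm.toMonoidHom, ?_, ?_⟩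
  · intro g
    have h1 : f (e.symm g) = g := e.apply_symm_apply g
    have h2 : ((f (e.symm g) : ↥P) : G) = σ ((e.symm g : ↥H) : ↥ΓP).val := rfl
    show σ ((e.symm g : ↥H) : ↥ΓP).val = g
    rw [← h2, h1]
  · intro g
    obtain ⟨k, hk⟩ := hP g
    refine ⟨k, ?_⟩
    rw [← map_pow, hk, map_one]

/-- an element of `p`-power order lifts to an element of `p`-power order -/
theorem exists_plift [Finite Γ] (hsurj : Function.Surjective σ) (hnt : ∀ x ∈ σ.ker, x ^ p = 1 → x = 1)
    (g : G) (k : ℕ) (hg : g ^ (p ^ k) = 1) : ∃ x : Γ, σ x = g ∧ ∃ k', x ^ (p ^ k') = 1 := by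
  have hP : IsPGroup p ↥(Subgroup.zpowers g) := by
    rintro ⟨h, hh⟩
    obtain ⟨m, rfl⟩ := Subgroup.mem_zpowers_iff.mp hh
    refine ⟨k, ?_⟩
    apply Subtype.ext
    rw [Subgroup.coe_pow, Subgroup.coe_one]
    show (g ^ m) ^ (p ^ k) = 1
    rw [← zpow_natCast, ← zpow_mul, mul_comm, zpow_mul, zpow_natCast, hg, one_zpow]
  obtain ⟨φ, h1, h2⟩ := exists_plift_hom σ p hsurj hnt _ hP
  exact ⟨φ ⟨g, Subgroup.mem_zpowers g⟩, h1 _, h2 _⟩

end PLift

end Cfsg.Agent.Lib.H29.Chev
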