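import Mathlib
import Cfsg.Prelude.Def_ChevStructure
import Cfsg.Agent.Lib.H29.ChevStR3

/-!
# Steinberg's presentation: the elements `n̄_r(t)`, `h̄_r(t)` for arbitrary roots, the Chevalley group as a group
with Steinberg's relations, and uniqueness of products of root elements transported by the Weyl group
-/

set_option autoImplicit false
set_option linter.unusedSectionVars false
set_option linter.unusedSimpArgs false
set_option linter.unusedVariables false

namespace Cfsg.Agent.Lib.H29.Chev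

open Cfsg.Lie Matrix

variable {D : ChevalleyDatum} {fd : FD} {fx : FX} {fc : FC} {fz : FZ}

namespace StG

variable {C : Cert12 D fd fx fc fz} {F : Type*} [Field F] {M : Type*} [Group M] (S : StG C F M)
variable {wit : List (ℕ × ℕ)}

/-- the elements `n̄_r(t)` belong to `N̄`, for every root `r` -/
theorem nb_mem_Nbar_all (hst : fd.ChkSt fx wit) (r : ℕ) (hr : r < fd.n) (t : F) (ht : t ≠ 0) :
    S.nb r t ∈ S.Nbar := by
  have hev := C.c6.c2.heven
  -- transfer along a fundamental reflection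
  have step : ∀ j, j < fd.l → ∀ s, s < fd.n → (∀ t : F, t ≠ 0 → S.nb s t ∈ S.Nbar) →
      ∀ t : F, t ≠ 0 → S.nb (fd.sw fx j s) t ∈ S.Nbar := by
    intro j hj s hs h3 t ht
    have hp := C.c6.c2.simple_lt j hj
    obtain ⟨h1, _, c₀, hc₀⟩ := C.perm_nE j hj (1 : F) one_ne_zero s hs
    have hL := S.lift_nb hst j hj (1 : F) one_ne_zero
    have hM : S.θ (S.nb (fd.simples.getD j 0) (1 : F)) ∈ D.monomialSubgroup F := by
      rw [S.θ_nb _ hp]
      exact C.nE_mem_monomial _ hp 1 one_ne_zero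
    have hc' : ∀ u, S.θ (S.nb (fd.simples.getD j 0) (1 : F)) * C.c6.c2.xA s u *
        (S.θ (S.nb (fd.simples.getD j 0) (1 : F)))⁻¹ = C.c6.c2.xA (fd.sw fx j s) (c₀ * u) := by
      rw [S.θ_nb _ hp]; exact hc₀
    have hc0 := C.conj_const_ne _ s _ hs c₀ hc'
    have e := S.conj_nb_of_lift _ hL hM s _ hs h1 c₀ hc' (c₀⁻¹ * t)
    rw [← mul_assoc, mul_inv_cancel₀ hc0, one_mul] at e
    rw [← e]
    have hm := S.nb_mem_Nbar j hj (1 : F) one_ne_zero
    exact mul_mem (mul_mem hm (h3 _ (mul_ne_zero (inv_ne_zero hc0) ht))) (inv_mem hm)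
  have main : ∀ m : ℕ, ∀ r, ∀ hr : r < fd.n, fd.n / 2 ≤ r → (fd.coH r).toNat = m →
      (∀ t : F, t ≠ 0 → S.nb r t ∈ S.Nbar) ∧ (∀ t : F, t ≠ 0 → S.nb (fd.n - 1 - r) t ∈ S.Nbar) := by
    intro m
    induction m using Nat.strong_induction_on with
    | _ m ih =>
      intro r hr hpos hm
      obtain ⟨_, hdesc⟩ := fd.desc_spec C.c6.desc r hr
      rcases hdesc hpos with ⟨j, hj, hjr⟩ | ⟨j, hj, hc, hpr, hpos'⟩
      · have hp := C.c6.c2.simple_lt j hj
        have e : fd.sw fx j r = fd.n - 1 - r := by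
          rw [← hjr]
          exact (fd.neg_spec C.c6.c2.neg _ hp).1
        have h3 : ∀ t : F, t ≠ 0 → S.nb r t ∈ S.Nbar := by
          rw [← hjr]
          exact fun t ht => S.nb_mem_Nbar j hj t ht
        refine ⟨h3, ?_⟩
        rw [← e]
        exact step j hj r hr h3
      · have hp := C.c6.c2.simple_lt j hj
        have hw : fd.sw fx j r < fd.n := C.sw_lt j r hj hr
        have hH := C.c6.coH_nw j r hj hr
        have hH0 := C.c6.coH_nonneg _ hw hpos'
        have hlt : (fd.coH (fd.sw fx j r)).toNat < m := by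
          rw [← hm]
          apply (Int.toNat_lt_toNat (by unfold FD.sw at hH0; linarith)).mpr
          unfold FD.sw
          linarith
        obtain ⟨IH1, IH2⟩ := ih _ hlt (fd.sw fx j r) hw hpos' rfl
        constructor
        · have := step j hj _ hw IH1
          rwa [C.sw_sw j r hj hr] at this
        · have e : fd.sw fx j (fd.n - 1 - fd.sw fx j r) = fd.n - 1 - r := by
            rw [C.sw_neg j _ hj hw, C.sw_sw j r hj hr]
          have := step j hj _ (by omega) IH2
          rwa [e] at this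
  by_cases hpos : fd.n / 2 ≤ r
  · exact (main _ r hr hpos rfl).1 t ht
  · have := (main _ (fd.n - 1 - r) (by omega) (by omega) rfl).2 t ht
    rwa [show fd.n - 1 - (fd.n - 1 - r) = r by omega] at this

/-- `h̄_γ(v) ȳ_s(u) h̄_γ(v)⁻¹ = ȳ_s(v^{⟨s, γ⟩} u)`, for all roots `γ`, `s` -/
theorem hb_conj (hst : fd.ChkSt fx wit) (γ s : ℕ) (hγ : γ < fd.n) (hs : s < fd.n) (v : F) (hv : v ≠ 0) (u : F) :
    S.hb γ v * S.y s u * (S.hb γ v)⁻¹ = S.y s (v ^ (fd.pr s γ) * u) := by
  have h1 : S.hb γ v ∈ S.Nbar := by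
    unfold hb
    exact mul_mem (S.nb_mem_Nbar_all hst γ hγ v hv) (S.nb_mem_Nbar_all hst γ hγ (-1) (by norm_num))
  obtain ⟨hL, _⟩ := S.Nbar_spec hst _ h1
  apply hL s s hs hs
  intro u'
  rw [S.θ_hb γ hγ]
  exact C.hE_conj γ s hγ hs v hv u'

end StG

namespace Cert12

variable (C : Cert12 D fd fx fc fz) (F : Type*) [Field F]
include C

/-- the Chevalley group itself, as a group with Steinberg's relations -/
noncomputable def grpStG : StG C F ↥(D.group F) where
  y r t := ⟨C.c6.c2.xA r t, C.c6.c2.xA_mem_group r t⟩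
  θ := (D.group F).subtype
  y_add := by
    intro r hr t u
    apply Subtype.ext
    exact C.c6.c2.xA_mul r t u
  y_comm := by
    intro r s hr hs h1 h2 t u
    apply Subtype.ext
    have := C.c6.cfg (F := F) r s hr hs h1 h2 t u
    rw [Subgroup.coe_mul, Subgroup.coe_mul, Subgroup.coe_mul]
    show C.c6.c2.xA s u * C.c6.c2.xA r t = C.c6.c2.xA r t * C.c6.c2.xA s u * _
    rw [this]
    congr 1
    unfold Cert2.ctG
    rw [← (D.group F).subtype_apply, map_list_prod, List.map_map]
    rfl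
  θ_y := by
    intro r hr t
    rfl
  gen := by
    rw [eq_top_iff]
    rintro ⟨g, hg⟩ -
    unfold ChevalleyDatum.group at hg
    induction hg using Subgroup.closure_induction with
    | mem x hx =>
      obtain ⟨r, t, hx⟩ := hx
      have hgx : x = C.c6.c2.xA r.val t := by
        apply gl_ext
        rw [hx, C.c6.c2.xA_val]
        unfold ChevalleyDatum.x
        rw [dif_pos r.isLt]
      apply Subgroup.subset_closure
      refine ⟨r.val, t, by rw [← C.c6.c2.nroots_eq]; exact r.isLt, ?_⟩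
      apply Subtype.ext
      exact hgx
    | one => exact one_mem _
    | mul x y hx hy ihx ihy =>
      have : (⟨x * y, mul_mem hx hy⟩ : ↥(Subgroup.closure _)) = ⟨x, hx⟩ * ⟨y, hy⟩ := rfl
      exact mul_mem ihx ihy
    | inv x hx ihx => exact inv_mem ihx

theorem grpStG_θ_injective : Function.Injective (C.grpStG F).θ := Subtype.val_injective

omit F in
/-- the elements `h_γ(v)` of the Chevalley group commute -/
theorem hE_commute {F : Type*} [Field F] (γ r : ℕ) (hγ : γ < fd.n) (hr : r < fd.n) (v a : F) (hv : v ≠ 0) (ha : a ≠ 0) :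
    Commute (C.nE γ v * C.nE γ (-1)) (C.nE r a * C.nE r (-1)) := by
  apply gl_ext
  rw [Units.val_mul, Units.val_mul (C.nE r a * C.nE r (-1)), C.hE_val γ hγ v, C.hE_val r hr a,
    C.c6.c2.hMat_eq γ hγ v hv, C.c6.c2.hMat_eq r hr a ha]
  unfold Td
  rw [Matrix.diagonal_mul_diagonal, Matrix.diagonal_mul_diagonal]
  congr 1
  funext i
  exact mul_comm _ _

omit F in
/-- a product of root elements of distinct roots that a Weyl word maps to positive roots is trivial only if all its
factors are -/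
theorem list_prod_eq_one_word {F : Type*} [Field F] (w : List ℕ) (hw : ∀ i ∈ w, i < fd.l) (L : List (ℕ × F))
    (hL : ∀ q ∈ L, q.1 < fd.n ∧ fd.n / 2 ≤ fd.wact fx w q.1)
    (hnd : (L.map fun q => fd.wact fx w q.1).Nodup)
    (h1 : (L.map fun q => C.c6.c2.xA q.1 q.2).prod = (1 : GL D.Idx F)) :
    ∀ q ∈ L, q.2 = 0 := by
  have key : ∀ k : ℕ, k < fd.n → ∃ (ε : ℤ), ε * ε = 1 ∧ ∀ u : F,
      C.c6.c5.c3.nW w * C.c6.c2.xA k u * (C.c6.c5.c3.nW w)⁻¹ = C.c6.c2.xA (fd.wact fx w k) ((ε : F) * u) := by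
    intro k hk
    obtain ⟨_, ε, hε, h2⟩ := C.c6.c5.c3.nW_conj (F := F) w hw k hk
    exact ⟨ε, hε, h2⟩
  choose! εf hεf using key
  set n₀ := C.c6.c5.c3.nW (F := F) w with hn₀
  set L' : List (ℕ × F) := L.map fun q => (fd.wact fx w q.1, ((εf q.1 : ℤ) : F) * q.2) with hL'
  have e1 : n₀ * (L.map fun q => C.c6.c2.xA q.1 q.2).prod * n₀⁻¹ =
      (L'.map fun q => C.c6.c2.xA q.1 q.2).prod := by
    rw [conj_list_prod, hL', List.map_map, List.map_map]
    congr 1
    apply List.map_congr_left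
    intro q hq
    simp only [Function.comp]
    exact (hεf q.1 (hL q hq).1).2 q.2
  have e2 : (L'.map fun q => C.c6.c2.xA q.1 q.2).prod = (1 : GL D.Idx F) := by
    rw [← e1, h1]; group
  have hL'1 : ∀ q ∈ L', q.1 < fd.n ∧ fd.n / 2 ≤ q.1 := by
    intro q hq
    rw [hL', List.mem_map] at hq
    obtain ⟨q', hq', rfl⟩ := hq
    exact ⟨(C.c6.c5.c3.nW_conj (F := F) w hw q'.1 (hL q' hq').1).1, (hL q' hq').2⟩
  have hL'2 : (L'.map Prod.fst).Nodup := by
    rw [hL', List.map_map]
    exact hnd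
  intro q hq
  have hq' : (fd.wact fx w q.1, ((εf q.1 : ℤ) : F) * q.2) ∈ L' := by
    rw [hL', List.mem_map]
    exact ⟨q, hq, rfl⟩
  have h0 := C.list_prod_eq_one L' hL'1 hL'2 e2 _ hq'
  simp only at h0
  have hε := (hεf q.1 (hL q hq).1).1
  have : ((εf q.1 : ℤ) : F) * (((εf q.1 : ℤ) : F) * q.2) = q.2 := by
    rw [← mul_assoc, ← Int.cast_mul, hε, Int.cast_one, one_mul]
  rw [← this, h0, mul_zero]

end Cert12

end Cfsg.Agent.Lib.H29.Chev
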