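import Mathlib
import Cfsg.Prelude.Def_ChevStructure
import Cfsg.Agent.Lib.H29.ChevTL1
import Cfsg.Agent.Lib.H29.ChevCE2

/-!
# Central extensions of groups with Steinberg's relations: lifts defined by means of the torus
-/

set_option autoImplicit false
set_option linter.unusedSectionVars false
set_option linter.unusedSimpArgs false
set_option linter.unusedVariables false

namespace Cfsg.Agent.Lib.H29.Chev

open Cfsg.Lie Matrix

open scoped commutatorElement

/-- a function of two variables, additive in each, invariant under simultaneous scaling, is trivial -/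
theorem biadd_inv_kill {F : Type*} [Field F] {E : Type*} [Group E] (φ : F → F → E)
    (h1 : ∀ t t' u, φ (t + t') u = φ t u * φ t' u) (h2 : ∀ t u u', φ t (u + u') = φ t u * φ t u')
    (h3 : ∀ c : F, c ≠ 0 → ∀ t u, φ (c * t) (c * u) = φ t u)
    (c : F) (hc0 : c ≠ 0) (hc1 : c + 1 ≠ 0) (hc2 : c ^ 2 + c + 1 ≠ 0) : ∀ t u, φ t u = 1 := by
  have e1 : ∀ d : F, d ≠ 0 → ∀ t u, φ (d * t) u = φ t (d⁻¹ * u) := by
    intro d hd t u
    have := h3 d hd t (d⁻¹ * u)
    rwa [← mul_assoc, mul_inv_cancel₀ hd, one_mul] at this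
  have e2 : ∀ t u, φ t (c⁻¹ * u + u) = φ t ((c + 1)⁻¹ * u) := by
    intro t u
    rw [← e1 (c + 1) hc1, add_mul, one_mul, h1, e1 c hc0, h2]
  set κ : F := c⁻¹ + 1 - (c + 1)⁻¹ with hκ
  have hκ0 : κ ≠ 0 := by
    have : κ = (c ^ 2 + c + 1) / (c * (c + 1)) := by
      rw [hκ]; field_simp; ring
    rw [this]
    exact div_ne_zero hc2 (mul_ne_zero hc0 hc1)
  have e3 : ∀ t u, φ t (κ * u) = 1 := by
    intro t u
    have h := e2 t u
    have : c⁻¹ * u + u = κ * u + (c + 1)⁻¹ * u := by rw [hκ]; ring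
    rw [this, h2] at h
    exact mul_eq_right.mp h
  intro t u
  have := e3 t (κ⁻¹ * u)
  rwa [← mul_assoc, mul_inv_cancel₀ hκ0, one_mul] at this

variable {D : ChevalleyDatum} {fd : FD} {fx : FX} {fc : FC} {fz : FZ}

namespace StG

variable {C : Cert12 D fd fx fc fz} {F : Type*} [Field F] {M : Type*} [Group M] (S : StG C F M)
variable {E : Type*} [Group E] (p : E →* M)

/-- a central extension of a group with Steinberg's relations in which the elements `h̄_γ(v)` act on the root elements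
as in the Chevalley group and commute with each other -/
structure TL : Prop where
  surj : Function.Surjective p
  cen : p.ker ≤ Subgroup.center E
  hconj : ∀ γ s, γ < fd.n → s < fd.n → ∀ v : F, v ≠ 0 → ∀ u,
    S.hb γ v * S.y s u * (S.hb γ v)⁻¹ = S.y s (v ^ (fd.pr s γ) * u)
  hcomm : ∀ γ r, γ < fd.n → r < fd.n → ∀ v a : F, v ≠ 0 → a ≠ 0 → Commute (S.hb γ v) (S.hb r a)

/-- the lift of `ȳ_r(t)` defined by means of `h̄_r(a)` -/
noncomputable def zt (hsurj : Function.Surjective p) (a : F) (r : ℕ) (t : F) : E :=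
  ⁅Function.surjInv hsurj (S.hb r a), Function.surjInv hsurj (S.y r (t / (a ^ 2 - 1)))⁆

variable {S p}

namespace TL

variable (H : S.TL p)
include H

theorem conj_lift (γ s : ℕ) (hγ : γ < fd.n) (hs : s < fd.n) (v : F) (hv : v ≠ 0) (u : F) (T X : E)
    (hT : p T = S.hb γ v) (hX : p X = S.y s u) : p (T * X * T⁻¹) = S.y s (v ^ (fd.pr s γ) * u) := by
  rw [map_mul, map_mul, map_inv, hT, hX, H.hconj γ s hγ hs v hv u]

theorem zt_eq (a : F) (r : ℕ) (t : F) (T X : E) (hT : p T = S.hb r a) (hX : p X = S.y r (t / (a ^ 2 - 1))) :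
    S.zt p H.surj a r t = ⁅T, X⁆ := by
  unfold zt
  apply CE.comm_indep p H.cen
  · rw [Function.surjInv_eq H.surj, hT]
  · rw [Function.surjInv_eq H.surj, hX]

theorem p_zt (a : F) (ha : a ≠ 0) (ha2 : a ^ 2 ≠ 1) (r : ℕ) (hr : r < fd.n) (t : F) :
    p (S.zt p H.surj a r t) = S.y r t := by
  unfold zt
  rw [map_commutatorElement, Function.surjInv_eq H.surj, Function.surjInv_eq H.surj, commutatorElement_def,
    H.hconj r r hr hr a ha, S.y_inv r hr, S.y_add r hr, C.c6.c2.pr_self r hr]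
  congr 1
  have : a ^ 2 - 1 ≠ 0 := sub_ne_zero.mpr ha2
  rw [zpow_ofNat]
  field_simp
  ring

/-- the lifts of the elements of a root subgroup commute, when some `h̄_γ(v)` acts on it by `v^{±1}` -/
theorem ecom_self (r γ : ℕ) (hr : r < fd.n) (hγ : γ < fd.n) (hpr : fd.pr r γ = 1 ∨ fd.pr r γ = -1)
    (c : F) (hc0 : c ≠ 0) (hc1 : c + 1 ≠ 0) (hc2 : c ^ 2 + c + 1 ≠ 0) : S.ECom p r r := by
  set L : M → E := Function.surjInv H.surj with hL
  have hpL : ∀ x, p (L x) = x := Function.surjInv_eq H.surj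
  set φ : F → F → E := fun t u => ⁅L (S.y r t), L (S.y r u)⁆ with hφ
  have hφe : ∀ (X Y : E) (t u : F), p X = S.y r t → p Y = S.y r u → ⁅X, Y⁆ = φ t u := by
    intro X Y t u hX hY
    apply CE.comm_indep p H.cen
    · rw [hpL, hX]
    · rw [hpL, hY]
  have hcen : ∀ t u, ∀ g : E, g * φ t u = φ t u * g := by
    intro t u
    apply CE.comm_central p H.cen
    rw [hpL, hpL]
    show S.y r t * S.y r u = S.y r u * S.y r t
    rw [S.y_add r hr, S.y_add r hr, add_comm]
  have h1 : ∀ t t' u, φ (t + t') u = φ t u * φ t' u := by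
    intro t t' u
    have e : ⁅L (S.y r t) * L (S.y r t'), L (S.y r u)⁆ = φ (t + t') u := by
      apply hφe
      · rw [map_mul, hpL, hpL, S.y_add r hr]
      · rw [hpL]
    rw [← e]
    have : ⁅L (S.y r t) * L (S.y r t'), L (S.y r u)⁆ =
        L (S.y r t) * φ t' u * (L (S.y r t))⁻¹ * φ t u := by
      simp only [hφ, commutatorElement_def]; group
    rw [this, hcen t' u (L (S.y r t)), mul_inv_cancel_right, ← hcen]
  have h2 : ∀ t u u', φ t (u + u') = φ t u * φ t u' := by
    intro t u u'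
    have e : ⁅L (S.y r t), L (S.y r u) * L (S.y r u')⁆ = φ t (u + u') := by
      apply hφe
      · rw [hpL]
      · rw [map_mul, hpL, hpL, S.y_add r hr]
    rw [← e]
    have : ⁅L (S.y r t), L (S.y r u) * L (S.y r u')⁆ =
        φ t u * (L (S.y r u) * φ t u' * (L (S.y r u))⁻¹) := by
      simp only [hφ, commutatorElement_def]; group
    rw [this, hcen t u' (L (S.y r u)), mul_inv_cancel_right]
  have h3 : ∀ d : F, d ≠ 0 → ∀ t u, φ (d * t) (d * u) = φ t u := by
    intro d hd t u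
    -- a torus element that acts by `d`
    obtain ⟨v, hv, hvd⟩ : ∃ v : F, v ≠ 0 ∧ v ^ (fd.pr r γ) = d := by
      rcases hpr with h | h
      · exact ⟨d, hd, by rw [h, zpow_one]⟩
      · exact ⟨d⁻¹, inv_ne_zero hd, by rw [h, _root_.zpow_neg, zpow_one, inv_inv]⟩
    set T := L (S.hb γ v) with hT
    have e1 : T * φ t u * T⁻¹ = φ t u := by rw [hcen t u T, mul_inv_cancel_right]
    have e2 : T * φ t u * T⁻¹ = ⁅T * L (S.y r t) * T⁻¹, T * L (S.y r u) * T⁻¹⁆ := by
      simp only [hφ, commutatorElement_def]; group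
    rw [← e1, e2]
    symm
    apply hφe
    · rw [H.conj_lift γ r hγ hr v hv t T _ (hpL _) (hpL _), hvd]
    · rw [H.conj_lift γ r hγ hr v hv u T _ (hpL _) (hpL _), hvd]
  have key := biadd_inv_kill φ h1 h2 h3 c hc0 hc1 hc2
  rintro X Y ⟨t, hX⟩ ⟨u, hY⟩
  have := hφe X Y t u hX hY
  rw [key] at this
  exact commutatorElement_eq_one_iff_commute.mp this

/-- the lifts are additive -/
theorem zt_add (a : F) (ha : a ≠ 0) (ha2 : a ^ 2 ≠ 1) (r : ℕ) (hr : r < fd.n) (hE : S.ECom p r r) (t u : F) :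
    S.zt p H.surj a r t * S.zt p H.surj a r u = S.zt p H.surj a r (t + u) := by
  set L : M → E := Function.surjInv H.surj with hL
  have hpL : ∀ x, p (L x) = x := Function.surjInv_eq H.surj
  set T := L (S.hb r a) with hT
  set X := L (S.y r (t / (a ^ 2 - 1))) with hX
  set X' := L (S.y r (u / (a ^ 2 - 1))) with hX'
  have e1 : S.zt p H.surj a r (t + u) = ⁅T, X * X'⁆ := by
    apply H.zt_eq a r (t + u) T (X * X') (hpL _)
    rw [map_mul, hpL, hpL, S.y_add r hr, add_div]
  have e2 : ⁅T, X * X'⁆ = ⁅T, X⁆ * (X * ⁅T, X'⁆ * X⁻¹) := by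
    simp only [commutatorElement_def]; group
  have e3 : Commute X ⁅T, X'⁆ := by
    apply hE
    · exact ⟨_, hpL _⟩
    · refine ⟨u, ?_⟩
      have := H.p_zt a ha ha2 r hr u
      rwa [H.zt_eq a r u T X' (hpL _) (hpL _)] at this
  rw [e1, e2, e3.eq, mul_inv_cancel_right]
  rfl

theorem zt_zero (a : F) (ha : a ≠ 0) (ha2 : a ^ 2 ≠ 1) (r : ℕ) (hr : r < fd.n) (hE : S.ECom p r r) :
    S.zt p H.surj a r 0 = 1 := by
  have := H.zt_add a ha ha2 r hr hE 0 0
  rw [add_zero] at this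
  exact mul_eq_left.mp this

theorem zt_inv (a : F) (ha : a ≠ 0) (ha2 : a ^ 2 ≠ 1) (r : ℕ) (hr : r < fd.n) (hE : S.ECom p r r) (t : F) :
    (S.zt p H.surj a r t)⁻¹ = S.zt p H.surj a r (-t) := by
  apply inv_eq_of_mul_eq_one_right
  rw [H.zt_add a ha ha2 r hr hE, add_neg_cancel, H.zt_zero a ha ha2 r hr hE]

/-- the lifts are compatible with the action of the torus -/
theorem zt_conj (a : F) (ha : a ≠ 0) (r γ : ℕ) (hr : r < fd.n) (hγ : γ < fd.n) (v : F) (hv : v ≠ 0) (T : E)
    (hT : p T = S.hb γ v) (t : F) :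
    T * S.zt p H.surj a r t * T⁻¹ = S.zt p H.surj a r (v ^ (fd.pr r γ) * t) := by
  set L : M → E := Function.surjInv H.surj with hL
  have hpL : ∀ x, p (L x) = x := Function.surjInv_eq H.surj
  have e1 : T * S.zt p H.surj a r t * T⁻¹ =
      ⁅T * L (S.hb r a) * T⁻¹, T * L (S.y r (t / (a ^ 2 - 1))) * T⁻¹⁆ := by
    have : S.zt p H.surj a r t = ⁅L (S.hb r a), L (S.y r (t / (a ^ 2 - 1)))⁆ := rfl
    rw [this]
    generalize L (S.hb r a) = A
    generalize L (S.y r (t / (a ^ 2 - 1))) = B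
    simp only [commutatorElement_def]; group
  rw [e1]
  symm
  apply H.zt_eq
  · rw [map_mul, map_mul, map_inv, hT, hpL, (H.hcomm γ r hγ hr v a hv ha).eq, mul_inv_cancel_right]
  · rw [H.conj_lift γ r hγ hr v hv _ T _ hT (hpL _), mul_div_assoc]

end TL

end StG

end Cfsg.Agent.Lib.H29.Chev
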