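import Mathlib
import Cfsg.Prelude.Def_ChevStructure
import Cfsg.Agent.Lib.H29.ChevTL2

/-!
# Central extensions of groups with Steinberg's relations: the relations (R2) for the lifts defined by the torus
-/

set_option autoImplicit false
set_option linter.unusedSectionVars false
set_option linter.unusedSimpArgs false
set_option linter.unusedVariables false

namespace Cfsg.Agent.Lib.H29.Chev

open Cfsg.Lie Matrix

open scoped commutatorElement

variable {D : ChevalleyDatum} {fd : FD} {fx : FX} {fc : FC} {fz : FZ}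

theorem map_getD_range' (Ls : List ℕ) : (List.range' 0 Ls.length).map (fun k => Ls.getD k 0) = Ls := by
  apply List.ext_getElem
  · simp
  · intro i h1 h2
    simp only [List.getElem_map, List.getElem_range', zero_add, one_mul]
    rw [List.getD_eq_getElem _ _ h2]

namespace StG

variable {C : Cert12 D fd fx fc fz} {F : Type*} [Field F] {M : Type*} [Group M] (S : StG C F M)
variable {E : Type*} [Group E] (p : E →* M)

/-- lifts of the root elements: additive, compatible with the action of the torus -/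
structure ZL (z : ℕ → F → E) : Prop where
  pz : ∀ r, r < fd.n → ∀ t, p (z r t) = S.y r t
  add : ∀ r, r < fd.n → ∀ t u, z r t * z r u = z r (t + u)
  conj : ∀ r γ, r < fd.n → γ < fd.n → ∀ v : F, v ≠ 0 → ∀ T : E, p T = S.hb γ v → ∀ t,
    T * z r t * T⁻¹ = z r (v ^ (fd.pr r γ) * t)

/-- the product of the terms of a commutator formula, for the lifts -/
def zc (z : ℕ → F → E) (L : List (ℕ × ℤ × ℕ × ℕ)) (t u : F) : E :=
  (L.map fun c => z c.1 (((c.2.1 : ℤ) : F) * (-t) ^ c.2.2.1 * u ^ c.2.2.2)).prod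

/-- the relation (R2) for the lifts of the pair `(r, s)` -/
def ZS (fd : FD) (z : ℕ → F → E) (r s : ℕ) : Prop :=
  ∀ t u : F, z s u * z r t = z r t * z s u * zc z (fd.commT r s) t u

variable {S p}

namespace ZL

variable {z : ℕ → F → E} (Z : S.ZL p z)
include Z

theorem zero (r : ℕ) (hr : r < fd.n) : z r 0 = 1 := by
  have := Z.add r hr 0 0
  rw [add_zero] at this
  exact mul_eq_left.mp this

theorem inv (r : ℕ) (hr : r < fd.n) (t : F) : (z r t)⁻¹ = z r (-t) := by
  apply inv_eq_of_mul_eq_one_right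
  rw [Z.add r hr, add_neg_cancel, Z.zero r hr]

theorem p_zc (L : List (ℕ × ℤ × ℕ × ℕ)) (hL : ∀ c ∈ L, c.1 < fd.n) (t u : F) :
    p (zc z L t u) = S.cty L t u := by
  unfold zc cty
  rw [map_list_prod, List.map_map]
  congr 1
  apply List.map_congr_left
  intro c hc
  simp only [Function.comp]
  rw [Z.pz _ (hL c hc)]

theorem zc_mem (L : List (ℕ × ℤ × ℕ × ℕ)) (U : Subgroup E) (hL : ∀ c ∈ L, ∀ v, z c.1 v ∈ U) (t u : F) :
    zc z L t u ∈ U := by
  unfold zc
  apply Subgroup.list_prod_mem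
  intro x hx
  obtain ⟨c, hc, rfl⟩ := List.mem_map.mp hx
  exact hL c hc _

/-- the step of the induction: the relation (R2) for the pair `(r, s)` follows from the relations for the pairs of
roots that occur in its commutator formula -/
theorem step (hcen : p.ker ≤ Subgroup.center E) (r s : ℕ) (hr : r < fd.n) (hs : s < fd.n) (h1 : s ≠ r)
    (h2 : s ≠ fd.n - 1 - r) (γ : ℕ) (hγ : γ < fd.n) (a : F) (hγs : a ^ (fd.pr s γ) = 1) (ha : a ≠ 0)
    (hc1 : a ^ (fd.pr r γ) ≠ 1) (T : E) (hT : p T = S.hb γ a)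
    (Ls : List ℕ) (hLs : Ls = (fd.commT r s).map Prod.fst)
    (hcol : ∀ j j', j < j' → j' < Ls.length →
      Ls.getD j' 0 ≠ Ls.getD j 0 ∧ Ls.getD j' 0 ≠ fd.n - 1 - Ls.getD j 0 ∧
      ZS fd z (Ls.getD j 0) (Ls.getD j' 0) ∧
      ∀ c ∈ fd.commT (Ls.getD j 0) (Ls.getD j' 0), ∃ k, j < k ∧ k < Ls.length ∧ Ls.getD k 0 = c.1)
    (hnorm : ∀ k ∈ Ls, k ≠ r ∧ k ≠ fd.n - 1 - r ∧ ZS fd z r k ∧ ∀ c ∈ fd.commT r k, c.1 ∈ Ls)
    (w : List ℕ) (hw : ∀ i ∈ w, i < fd.l) (hpos : ∀ k ∈ Ls, fd.n / 2 ≤ fd.wact fx w k)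
    (hnd : (Ls.map (fd.wact fx w)).Nodup) : ZS fd z r s := by
  have hLn : ∀ k ∈ Ls, k < fd.n := by
    intro k hk
    rw [hLs] at hk
    obtain ⟨c, hc, rfl⟩ := List.mem_map.mp hk
    exact (fd.linc_spec C.linc r s hr hs c hc).1
  have hget : ∀ j, j < Ls.length → Ls.getD j 0 ∈ Ls := by
    intro j hj
    rw [List.getD_eq_getElem _ _ hj]
    exact List.getElem_mem hj
  set N := Ls.length with hN
  set z' : ℕ → F → E := fun j v => z (Ls.getD j 0) v with hz'
  -- the subgroup generated by the lifts of the roots of the formula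
  set US : Subgroup E := Subgroup.closure {g | ∃ k v, 0 ≤ k ∧ k < N ∧ g = z' k v} with hUS
  have hmemUS : ∀ k ∈ Ls, ∀ v, z k v ∈ US := by
    intro k hk v
    obtain ⟨j, hj, rfl⟩ := List.getElem_of_mem hk
    apply Subgroup.subset_closure
    refine ⟨j, v, Nat.zero_le _, hj, ?_⟩
    simp only [hz']
    rw [List.getD_eq_getElem _ _ hj]
  -- collection
  have hcollect := collect_gen z' 0 N
    (fun k _ hk t u => Z.add _ (hLn _ (hget k hk)) t u)
    (by
      intro m s' _ hms hs' t u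
      obtain ⟨e1, e2, e3, e4⟩ := hcol m s' hms hs'
      refine ⟨z' s' u * zc z (fd.commT (Ls.getD m 0) (Ls.getD s' 0)) t u, ?_, ?_⟩
      · apply mul_mem
        · exact Subgroup.subset_closure ⟨s', u, hms, hs', rfl⟩
        · apply Z.zc_mem
          intro c hc v
          obtain ⟨k, hk1, hk2, hk3⟩ := e4 c hc
          apply Subgroup.subset_closure
          refine ⟨k, v, hk1, hk2, ?_⟩
          simp only [hz']
          rw [hk3]
      · have := e3 t u
        simp only [hz']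
        rw [this, mul_assoc])
  -- the homomorphism is injective on the subgroup
  have hinj : ∀ g ∈ US, p g = 1 → g = 1 := by
    intro g hg hpg
    obtain ⟨tf, rfl⟩ := hcollect N 0 (by omega) (le_refl _) g hg
    have e1 : S.θ (p ((List.range' 0 N).map fun k => z' k (tf k)).prod) =
        (((List.range' 0 N).map fun k => (Ls.getD k 0, tf k)).map fun q => C.c6.c2.xA q.1 q.2).prod := by
      rw [map_list_prod, map_list_prod, List.map_map, List.map_map, List.map_map]
      congr 1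
      apply List.map_congr_left
      intro k hk
      have hk' : k < N := by
        have := List.mem_range'.mp hk
        omega
      simp only [Function.comp, hz']
      rw [Z.pz _ (hLn _ (hget k hk')), S.θ_y _ (hLn _ (hget k hk'))]
    rw [hpg, map_one] at e1
    have key := C.list_prod_eq_one_word w hw ((List.range' 0 N).map fun k => (Ls.getD k 0, tf k))
      (by
        intro q hq
        obtain ⟨k, hk, rfl⟩ := List.mem_map.mp hq
        have hk' : k < N := by
          have := List.mem_range'.mp hk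
          omega
        exact ⟨hLn _ (hget k hk'), hpos _ (hget k hk')⟩)
      (by
        rw [List.map_map]
        have : ((fun q : ℕ × F => fd.wact fx w q.1) ∘ fun k => (Ls.getD k 0, tf k)) =
            (fd.wact fx w) ∘ fun k => Ls.getD k 0 := rfl
        rw [this, ← List.map_map, map_getD_range']
        exact hnd)
      e1.symm
    apply List.prod_eq_one
    intro x hx
    obtain ⟨k, hk, rfl⟩ := List.mem_map.mp hx
    have hk' : k < N := by
      have := List.mem_range'.mp hk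
      omega
    have h0 := key (Ls.getD k 0, tf k) (List.mem_map.mpr ⟨k, hk, rfl⟩)
    simp only at h0
    simp only [hz']
    rw [h0, Z.zero _ (hLn _ (hget k hk'))]
  -- conjugation by a lift of an element of the torus
  have hTc : ∀ g ∈ US, T * g * T⁻¹ ∈ US := by
    apply conj_mem_closure
    rintro x ⟨k, v, _, hk, rfl⟩
    simp only [hz']
    rw [Z.conj _ γ (hLn _ (hget k hk)) hγ a ha T hT]
    exact hmemUS _ (hget k hk) _
  -- conjugation by the inverse of `z r t`
  have hZc : ∀ t, ∀ g ∈ US, (z r t)⁻¹ * g * (z r t)⁻¹⁻¹ ∈ US := by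
    intro t
    apply conj_mem_closure
    rintro x ⟨k, v, _, hk, rfl⟩
    simp only [hz']
    obtain ⟨_, _, e3, e4⟩ := hnorm _ (hget k hk)
    have := e3 t v
    have e : (z r t)⁻¹ * z (Ls.getD k 0) v * (z r t)⁻¹⁻¹ =
        z (Ls.getD k 0) v * zc z (fd.commT r (Ls.getD k 0)) t v := by
      rw [inv_inv, mul_assoc, this]
      group
    rw [e]
    apply mul_mem (hmemUS _ (hget k hk) _)
    apply Z.zc_mem
    intro c hc v'
    exact hmemUS _ (e4 c hc) _
  have hLc : ∀ c ∈ fd.commT r s, c.1 ∈ Ls := by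
    intro c hc
    rw [hLs]
    exact List.mem_map.mpr ⟨c, hc, rfl⟩
  -- the main computation
  intro t u
  set c := a ^ (fd.pr r γ) with hc
  have hc0 : c - 1 ≠ 0 := sub_ne_zero.mpr hc1
  set v := t / (c - 1) with hv
  set X := z r v with hX
  set X' := z r (c * v) with hX'
  set A := z s u with hA
  have eX' : T * X * T⁻¹ = X' := Z.conj r γ hr hγ a ha T hT v
  have eA : T * A * T⁻¹ = A := by
    have := Z.conj s γ hs hγ a ha T hT u
    rw [hγs, one_mul] at this
    exact this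
  have eZ : z r t = X⁻¹ * X' := by
    rw [hX, hX', Z.inv r hr, Z.add r hr]
    congr 1
    rw [hv]
    field_simp
    ring
  set W := zc z (fd.commT r s) v u with hW
  set κ := A⁻¹ * X⁻¹ * A * X with hκ
  have hWmem : W ∈ US := Z.zc_mem _ US (fun c hc v => hmemUS _ (hLc c hc) v) v u
  -- the defect is central
  have hpκ : p κ = p W := by
    rw [hκ, hW, Z.p_zc _ (fun c hc => (fd.linc_spec C.linc r s hr hs c hc).1), map_mul, map_mul, map_mul, map_inv,
      map_inv, hA, hX, Z.pz r hr, Z.pz s hs]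
    have := S.y_comm r s hr hs h1 h2 v u
    unfold cty
    rw [mul_assoc, mul_assoc, this]
    group
  set ζ := W⁻¹ * κ with hζ
  have hζc : ∀ g : E, g * ζ = ζ * g := by
    apply CE.central_of_ker p hcen
    rw [hζ, map_mul, map_inv, hpκ, inv_mul_cancel]
  have eκ : κ = W * ζ := by rw [hζ]; group
  have main : A⁻¹ * (z r t)⁻¹ * A * z r t = (T * W * T⁻¹) * ((z r t)⁻¹ * W⁻¹ * (z r t)⁻¹⁻¹) := by
    have e1 : A⁻¹ * (X⁻¹ * X')⁻¹ * A * (X⁻¹ * X') =
        (T * κ * T⁻¹) * ((X⁻¹ * X')⁻¹ * κ⁻¹ * (X⁻¹ * X')) := by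
      have h3 : A⁻¹ * X'⁻¹ * A * X' = T * κ * T⁻¹ := by
        rw [hκ, ← eX']
        nth_rewrite 1 [← eA]
        nth_rewrite 2 [← eA]
        group
      have h4 : A⁻¹ * (X⁻¹ * X')⁻¹ * A * (X⁻¹ * X') =
          (A⁻¹ * X'⁻¹ * A * X') * ((X⁻¹ * X')⁻¹ * κ⁻¹ * (X⁻¹ * X')) := by
        rw [hκ]; group
      rw [h4, h3]
    rw [eZ, e1, eκ]
    have e2 : T * (W * ζ) * T⁻¹ = (T * W * T⁻¹) * ζ := by
      calc T * (W * ζ) * T⁻¹ = T * W * (ζ * T⁻¹) := by group
        _ = T * W * (T⁻¹ * ζ) := by rw [hζc T⁻¹]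
        _ = (T * W * T⁻¹) * ζ := by group
    have e3 : (X⁻¹ * X')⁻¹ * (W * ζ)⁻¹ * (X⁻¹ * X') = ζ⁻¹ * ((X⁻¹ * X')⁻¹ * W⁻¹ * (X⁻¹ * X')) := by
      calc (X⁻¹ * X')⁻¹ * (W * ζ)⁻¹ * (X⁻¹ * X') = ((X⁻¹ * X')⁻¹ * ζ⁻¹) * W⁻¹ * (X⁻¹ * X') := by group
        _ = (ζ⁻¹ * (X⁻¹ * X')⁻¹) * W⁻¹ * (X⁻¹ * X') := by
          have : (X⁻¹ * X')⁻¹ * ζ⁻¹ = ζ⁻¹ * (X⁻¹ * X')⁻¹ := by
            have h5 := hζc ((X⁻¹ * X'))
            calc (X⁻¹ * X')⁻¹ * ζ⁻¹ = ((ζ * (X⁻¹ * X')))⁻¹ := by group
              _ = ((X⁻¹ * X') * ζ)⁻¹ := by rw [h5]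
              _ = ζ⁻¹ * (X⁻¹ * X')⁻¹ := by group
          rw [this]
        _ = ζ⁻¹ * ((X⁻¹ * X')⁻¹ * W⁻¹ * (X⁻¹ * X')) := by group
    rw [e2, e3, inv_inv]
    group
  -- both sides are in the subgroup and have the same image
  set g₁ := (T * W * T⁻¹) * ((z r t)⁻¹ * W⁻¹ * (z r t)⁻¹⁻¹) with hg₁
  set g₂ := zc z (fd.commT r s) t u with hg₂
  have hg₁m : g₁ ∈ US := mul_mem (hTc W hWmem) (hZc t _ (inv_mem hWmem))
  have hg₂m : g₂ ∈ US := Z.zc_mem _ US (fun c hc v => hmemUS _ (hLc c hc) v) t u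
  have hpg : p (g₁ * g₂⁻¹) = 1 := by
    rw [map_mul, map_inv, ← main, hg₂, Z.p_zc _ (fun c hc => (fd.linc_spec C.linc r s hr hs c hc).1), map_mul,
      map_mul, map_mul, map_inv, map_inv, hA, Z.pz r hr, Z.pz s hs]
    have := S.y_comm r s hr hs h1 h2 t u
    unfold cty
    generalize (List.map (fun c : ℕ × ℤ × ℕ × ℕ => S.y c.1 (((c.2.1 : ℤ) : F) * (-t) ^ c.2.2.1 * u ^ c.2.2.2))
      (fd.commT r s)).prod = P at this ⊢
    have hP : P = (S.y r t * S.y s u)⁻¹ * (S.y s u * S.y r t) := by rw [this]; group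
    rw [hP]
    group
  have hfin := hinj _ (mul_mem hg₁m (inv_mem hg₂m)) hpg
  have : g₁ = g₂ := mul_inv_eq_one.mp hfin
  rw [← this, ← main]
  group

end ZL

end StG

end Cfsg.Agent.Lib.H29.Chev
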