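import Mathlib
import Cfsg.Prelude.Def_ChevStructure
import Cfsg.Prelude.Def_Steinberg
import Cfsg.Prelude.Def_SteinbergCover
import Cfsg.Prelude.Def_KGroupFacts
import Cfsg.Agent.Lib.H29.ChevTL3
import Cfsg.Agent.Lib.H29.ChevCE6

/-!
# Central extensions of Chevalley groups: lifting Steinberg's relations by means of the torus (fields with a
unit `a` such that `a² ≠ 1`, `a³ ≠ 1`), from a table of auxiliary roots and Weyl words
-/

set_option autoImplicit false
set_option linter.unusedSectionVars false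
set_option linter.unusedSimpArgs false
set_option linter.unusedVariables false

namespace Cfsg.Agent.Lib.H29.Chev

open Cfsg.Lie Matrix

open scoped commutatorElement

/-- auxiliary data: for a pair `(r, s)` a root `γ` orthogonal to `s` and not to `r`, and a Weyl word that makes the roots
of the commutator formula positive; for a root `r` a root `γ` with `⟨r, γ⟩ = ±1` -/
structure ZT where
  gam : List (List ℕ)
  wd : List (List (List ℕ))
  gs : List ℕ

def ZT.gamOf (zt : ZT) (r s : ℕ) : ℕ := (zt.gam.getD r []).getD s 0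
def ZT.wdOf (zt : ZT) (r s : ℕ) : List ℕ := (zt.wd.getD r []).getD s []

/-- the roots of the commutator formula of the pair `(r, s)` -/
def FD.zsL (fd : FD) (r s : ℕ) : List ℕ := (fd.commT r s).map Prod.fst

/-- the table check for the pair `(r, s)` -/
def FD.ChkZS (fd : FD) (fx : FX) (zt : ZT) (r s : ℕ) : Prop :=
  zt.gamOf r s < fd.n ∧ fd.pr s (zt.gamOf r s) = 0 ∧
  (fd.pr r (zt.gamOf r s) ≠ 0 ∧ -3 ≤ fd.pr r (zt.gamOf r s) ∧ fd.pr r (zt.gamOf r s) ≤ 3) ∧
  (∀ i ∈ zt.wdOf r s, i < fd.l) ∧ (∀ k ∈ fd.zsL r s, fd.n / 2 ≤ fd.wact fx (zt.wdOf r s) k) ∧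
  ((fd.zsL r s).map (fd.wact fx (zt.wdOf r s))).Nodup ∧
  (∀ j' < (fd.zsL r s).length, ∀ j < j',
    (fd.zsL r s).getD j' 0 ≠ (fd.zsL r s).getD j 0 ∧ (fd.zsL r s).getD j' 0 ≠ fd.n - 1 - (fd.zsL r s).getD j 0 ∧
    (fd.commT ((fd.zsL r s).getD j 0) ((fd.zsL r s).getD j' 0)).length < (fd.commT r s).length ∧
    ∀ c ∈ fd.commT ((fd.zsL r s).getD j 0) ((fd.zsL r s).getD j' 0),
      ∃ k < (fd.zsL r s).length, j < k ∧ (fd.zsL r s).getD k 0 = c.1) ∧
  (∀ k ∈ fd.zsL r s, k ≠ r ∧ k ≠ fd.n - 1 - r ∧ (fd.commT r k).length < (fd.commT r s).length ∧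
    ∀ c ∈ fd.commT r k, c.1 ∈ fd.zsL r s)

instance (fd : FD) (fx : FX) (zt : ZT) (r s : ℕ) : Decidable (fd.ChkZS fx zt r s) := by
  unfold FD.ChkZS
  infer_instance

/-- the table check for the root `r` -/
def FD.ChkGS (fd : FD) (zt : ZT) (r : ℕ) : Prop :=
  zt.gs.getD r 0 < fd.n ∧ (fd.pr r (zt.gs.getD r 0) = 1 ∨ fd.pr r (zt.gs.getD r 0) = -1)

instance (fd : FD) (zt : ZT) (r : ℕ) : Decidable (fd.ChkGS zt r) := by
  unfold FD.ChkGS
  infer_instance

theorem zpow_ne_one_of_small {F : Type*} [Field F] (a : F) (ha : a ≠ 0) (ha2 : a ^ 2 ≠ 1) (ha3 : a ^ 3 ≠ 1) (m : ℤ)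
    (hm0 : m ≠ 0) (h1 : -3 ≤ m) (h2 : m ≤ 3) : a ^ m ≠ 1 := by
  have ha1 : a ≠ 1 := by
    intro h; rw [h] at ha2; simp at ha2
  have e1 : a ^ (1 : ℤ) ≠ 1 := by rw [zpow_one]; exact ha1
  have e2 : a ^ (2 : ℤ) ≠ 1 := by rw [zpow_ofNat]; exact ha2
  have e3 : a ^ (3 : ℤ) ≠ 1 := by rw [zpow_ofNat]; exact ha3
  have neg : ∀ k : ℤ, a ^ k ≠ 1 → a ^ (-k) ≠ 1 := by
    intro k hk h
    rw [_root_.zpow_neg, inv_eq_one] at h
    exact hk h
  interval_cases m
  · exact neg 3 e3
  · exact neg 2 e2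
  · exact neg 1 e1
  · exact absurd rfl hm0
  · exact e1
  · exact e2
  · exact e3

variable {D : ChevalleyDatum} {fd : FD} {fx : FX} {fc : FC} {fz : FZ}

namespace StG

variable {C : Cert12 D fd fx fc fz} {F : Type*} [Field F] {M : Type*} [Group M] {S : StG C F M}
variable {E : Type*} [Group E] {p : E →* M}

/-- the relations (R2) for the lifts, for all the pairs of roots -/
theorem ZL.all_zs {z : ℕ → F → E} (Z : S.ZL p z) (hsurj : Function.Surjective p) (hcen : p.ker ≤ Subgroup.center E)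
    (zt : ZT) (hchk : ∀ r < fd.n, ∀ s < fd.n, s ≠ r → s ≠ fd.n - 1 - r → fd.ChkZS fx zt r s)
    (a : F) (ha : a ≠ 0) (ha2 : a ^ 2 ≠ 1) (ha3 : a ^ 3 ≠ 1) :
    ∀ m r s, r < fd.n → s < fd.n → s ≠ r → s ≠ fd.n - 1 - r → (fd.commT r s).length = m → ZS fd z r s := by
  intro m
  induction m using Nat.strong_induction_on with
  | _ m ih =>
    intro r s hr hs h1 h2 hm
    obtain ⟨c1, c2, ⟨c3, c4, c5⟩, c6, c7, c8, c9, c10⟩ := hchk r hr s hs h1 h2
    have hLn : ∀ k ∈ fd.zsL r s, k < fd.n := by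
      intro k hk
      obtain ⟨c, hc, rfl⟩ := List.mem_map.mp hk
      exact (fd.linc_spec C.linc r s hr hs c hc).1
    have hget : ∀ j, j < (fd.zsL r s).length → (fd.zsL r s).getD j 0 ∈ fd.zsL r s := by
      intro j hj
      rw [List.getD_eq_getElem _ _ hj]
      exact List.getElem_mem hj
    apply Z.step hcen r s hr hs h1 h2 (zt.gamOf r s) c1 a (by rw [c2, zpow_zero]) ha
      (zpow_ne_one_of_small a ha ha2 ha3 _ c3 c4 c5) (Function.surjInv hsurj (S.hb (zt.gamOf r s) a))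
      (Function.surjInv_eq hsurj _) (fd.zsL r s) rfl ?_ ?_ (zt.wdOf r s) c6 c7 c8
    · intro j j' hjj' hj'
      obtain ⟨e1, e2, e3, e4⟩ := c9 j' hj' j hjj'
      refine ⟨e1, e2, ?_, ?_⟩
      · exact ih _ (by rw [← hm]; exact e3) _ _ (hLn _ (hget j (by omega))) (hLn _ (hget j' hj')) e1 e2 rfl
      · intro c hc
        obtain ⟨k, hk1, hk2, hk3⟩ := e4 c hc
        exact ⟨k, hk2, hk1, hk3⟩
    · intro k hk
      obtain ⟨e1, e2, e3, e4⟩ := c10 k hk
      exact ⟨e1, e2, ih _ (by rw [← hm]; exact e3) _ _ hr (hLn k hk) e1 e2 rfl, e4⟩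

end StG

namespace Cert12

variable (C : Cert12 D fd fx fc fz) (K : Type*) [Field K]
include C

variable {wit : List (ℕ × ℕ)}

/-- every central extension of the Chevalley group receives a homomorphism from the group presented by (R1), (R2),
compatible with the homomorphisms onto the Chevalley group -/
theorem torus_lift (hst : fd.ChkSt fx wit) (zt : ZT)
    (hchk : ∀ r < fd.n, ∀ s < fd.n, s ≠ r → s ≠ fd.n - 1 - r → fd.ChkZS fx zt r s)
    (hgs : ∀ r < fd.n, fd.ChkGS zt r)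
    (a : K) (ha : a ≠ 0) (ha2 : a ^ 2 ≠ 1) (ha3 : a ^ 3 ≠ 1)
    {Γ : Type*} [Group Γ] (σ : Γ →* ↥(D.group K)) (hsurj : Function.Surjective σ)
    (hcen : σ.ker ≤ Subgroup.center Γ) :
    ∃ τ : D.SteinbergCover K →* Γ,
      ∀ m, σ (τ m) = (PresentedGroup.toGroup (C.rels_AB K) : D.SteinbergCover K →* ↥(D.group K)) m := by
  set S := C.grpStG K with hS
  have H : S.TL σ := by
    refine ⟨hsurj, hcen, fun γ s hγ hs v hv u => S.hb_conj hst γ s hγ hs v hv u, ?_⟩
    intro γ r hγ hr v b hv hb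
    apply C.grpStG_θ_injective K
    rw [map_mul, map_mul, S.θ_hb γ hγ, S.θ_hb r hr]
    exact C.hE_commute γ r hγ hr v b hv hb
  have ha1 : a + 1 ≠ 0 := by
    intro h
    apply ha2
    have : a = -1 := eq_neg_of_add_eq_zero_left h
    rw [this]; ring
  have ha4 : a ^ 2 + a + 1 ≠ 0 := by
    intro h
    apply ha3
    have : a ^ 3 - 1 = (a - 1) * (a ^ 2 + a + 1) := by ring
    rw [h, mul_zero] at this
    exact sub_eq_zero.mp this
  have hE : ∀ r, r < fd.n → S.ECom σ r r := by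
    intro r hr
    obtain ⟨h1, h2⟩ := hgs r hr
    exact H.ecom_self r _ hr h1 h2 a ha ha1 ha4
  set z : ℕ → K → Γ := fun r t => S.zt σ H.surj a r t with hz
  have Z : S.ZL σ z := by
    refine ⟨fun r hr t => H.p_zt a ha ha2 r hr t, fun r hr t u => H.zt_add a ha ha2 r hr (hE r hr) t u, ?_⟩
    intro r γ hr hγ v hv T hT t
    exact H.zt_conj a ha r γ hr hγ v hv T hT t
  have hall := Z.all_zs hsurj hcen zt hchk a ha ha2 ha3
  obtain ⟨τ, hτ⟩ := C.cover_hom K z Z.add
    (fun r s hr hs h1 h2 t u => hall _ r s hr hs h1 h2 rfl t u)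
  refine ⟨τ, ?_⟩
  have : σ.comp τ = (PresentedGroup.toGroup (C.rels_AB K) : D.SteinbergCover K →* ↥(D.group K)) := by
    apply PresentedGroup.ext
    intro q
    have hq : q.1.val < fd.n := by rw [← C.c6.c2.nroots_eq]; exact q.1.isLt
    have e : (PresentedGroup.of q : D.SteinbergCover K) = PresentedGroup.mk _ (D.stX q.1.val q.2) := by
      unfold ChevalleyDatum.stX
      rw [dif_pos q.1.isLt]
      rfl
    rw [MonoidHom.comp_apply, e, hτ _ hq, Z.pz _ hq]
    apply Subtype.ext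
    rw [C.toGroup_mk]
    rfl
  intro m
  rw [← this]
  rfl

end Cert12

universe u

namespace Cert12

variable (C : Cert12 D fd fx fc fz) (K : Type u) [Field K]
include C

variable {wit : List (ℕ × ℕ)}

/-- the Schur multiplier of the Chevalley group is trivial, when every central extension receives a homomorphism from
the group presented by (R1), (R2) and this group is the Chevalley group -/
theorem schur_trivial_of_lift [Finite K] (hst : fd.ChkSt fx wit) (B : List (List ℤ)) (hB : fd.ChkUni B)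
    (hlift : ∀ {Γ : Type u} [Group Γ] (σ : Γ →* ↥(D.group K)), Function.Surjective σ →
      σ.ker ≤ Subgroup.center Γ → ∃ τ : D.SteinbergCover K →* Γ,
        ∀ m, σ (τ m) = (PresentedGroup.toGroup (C.rels_AB K) : D.SteinbergCover K →* ↥(D.group K)) m) :
    Cfsg.HasCyclicSchurMultiplier ↥(D.group K) 1 := by
  set θ : D.SteinbergCover K →* ↥(D.group K) := PresentedGroup.toGroup (C.rels_AB K) with hθ
  have hθs : Function.Surjective θ := C.toGroup_surjective K _ _
  have hθi : Function.Injective θ := C.cover_injective K hst B hB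
  constructor
  · have hfin : Finite ↥(D.group K) := by
      have := Fintype.ofFinite K
      infer_instance
    refine ⟨↥(D.group K), inferInstance, hfin, MonoidHom.id _, ⟨Function.surjective_id, ?_, ?_⟩, ?_⟩
    · rw [MonoidHom.ker_id]; exact bot_le
    · rw [MonoidHom.ker_id]; exact bot_le
    · rw [MonoidHom.ker_id]
      exact ⟨MulEquiv.ofUnique⟩
  · intro Γ _ _ σ hσ
    obtain ⟨hσ1, hσ2, hσ3⟩ := hσ
    obtain ⟨τ, hστ⟩ := hlift σ hσ1 hσ2
    have hdec : ∀ a : Γ, ∃ m, ∃ z ∈ σ.ker, a = τ m * z := by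
      intro a
      obtain ⟨m, hm⟩ := hθs (σ a)
      refine ⟨m, (τ m)⁻¹ * a, ?_, by group⟩
      rw [MonoidHom.mem_ker, map_mul, map_inv, hστ, hm, inv_mul_cancel]
    have hcomm : commutator Γ ≤ τ.range := by
      rw [commutator_eq_closure, Subgroup.closure_le]
      rintro g ⟨a, b, rfl⟩
      obtain ⟨ma, za, hza, rfl⟩ := hdec a
      obtain ⟨mb, zb, hzb, rfl⟩ := hdec b
      have cza : ∀ g : Γ, g * za = za * g := Subgroup.mem_center_iff.mp (hσ2 hza)
      have czb : ∀ g : Γ, g * zb = zb * g := Subgroup.mem_center_iff.mp (hσ2 hzb)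
      rw [SetLike.mem_coe, CE.comm_mul_central_left cza, CE.comm_mul_central_right czb, ← map_commutatorElement]
      exact ⟨_, rfl⟩
    refine ⟨1, ?_⟩
    intro x
    have hx : x = 1 := by
      apply Subtype.ext
      obtain ⟨m, hm⟩ := hcomm (hσ3 x.property)
      have h1 : σ (τ m) = 1 := by rw [hm]; exact x.property
      rw [hστ] at h1
      have hm1 : m = 1 := hθi (by rw [h1, map_one])
      rw [← hm, hm1, map_one]
      rfl
    exact ⟨1, by rw [hx]; rfl⟩

end Cert12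

end Cfsg.Agent.Lib.H29.Chev
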