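import Mathlib
import Cfsg.Prelude.Def_ChevStructure
import Cfsg.Agent.Lib.H29.ChevTL4

/-!
# Lifting Steinberg's relations by the torus: root subgroups on which the torus acts by squares only
-/

set_option autoImplicit false
set_option linter.unusedSectionVars false
set_option linter.unusedSimpArgs false
set_option linter.unusedVariables false

namespace Cfsg.Agent.Lib.H29.Chev

open Cfsg.Lie Matrix

open scoped commutatorElement

variable {D : ChevalleyDatum} {fd : FD} {fx : FX} {fc : FC} {fz : FZ}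

namespace StG

variable {C : Cert12 D fd fx fc fz} {F : Type*} [Field F] {M : Type*} [Group M] (S : StG C F M)
variable {E : Type*} [Group E] (p : E →* M)

/-- root elements commute when the commutator formula is empty -/
theorem mcom_of_nil (r s : ℕ) (hr : r < fd.n) (hs : s < fd.n) (h1 : s ≠ r) (h2 : s ≠ fd.n - 1 - r)
    (h : fd.commT r s = []) : S.MCom r s := by
  intro t u
  have := S.y_comm r s hr hs h1 h2 t u
  rw [h] at this
  simp only [List.map_nil, List.prod_nil, mul_one] at this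
  exact this.symm

variable (hsurj : Function.Surjective p) (hc : p.ker ≤ Subgroup.center E)
include hsurj hc

/-- lifts of root elements of `r` and `s` commute when a commutator of root elements of `b` and `a`, that commute with
those of `s`, is a product of root elements of `e` and of `r`, and the lifts of root elements of `e` and `s` commute -/
theorem ecom_of_dec2 (r s a b e : ℕ) (c₁ c₂ : F) (hc2 : c₂ ≠ 0) (b0 : F)
    (h1 : ∀ t, ⁅S.y b b0, S.y a t⁆ = S.y e (c₁ * t) * S.y r (c₂ * t)) (h2 : S.MCom a s) (h3 : S.MCom b s)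
    (h4 : S.ECom p e s) : S.ECom p r s := by
  rintro X Y ⟨t, hX⟩ ⟨u, hY⟩
  obtain ⟨A, hA⟩ := hsurj (S.y a (c₂⁻¹ * t))
  obtain ⟨B, hB⟩ := hsurj (S.y b b0)
  obtain ⟨E', hE'⟩ := hsurj (S.y e (c₁ * (c₂⁻¹ * t)))
  have hBA : p ⁅B, A⁆ = S.y e (c₁ * (c₂⁻¹ * t)) * S.y r t := by
    rw [map_commutatorElement, hA, hB, h1]
    congr 2
    field_simp
  have c1 : ∀ g : E, g * ⁅Y, A⁆ = ⁅Y, A⁆ * g := CE.comm_central p hc (by rw [hY, hA]; exact (h2 _ _).symm)
  have c2 : ∀ g : E, g * ⁅Y, B⁆ = ⁅Y, B⁆ * g := CE.comm_central p hc (by rw [hY, hB]; exact (h3 _ _).symm)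
  have c3 : Commute Y ⁅B, A⁆ := CE.commute_comm p hc c2 c1
  have c5 : Commute Y E' := (h4 E' Y ⟨_, hE'⟩ ⟨_, hY⟩).symm
  have c4 : ∀ g : E, g * ((E'⁻¹ * ⁅B, A⁆)⁻¹ * X) = ((E'⁻¹ * ⁅B, A⁆)⁻¹ * X) * g :=
    CE.central_of_ker p hc (by
      rw [map_mul, map_inv, map_mul, map_inv, hBA, hE', hX]; group)
  have c6 : Commute Y (E'⁻¹ * ⁅B, A⁆) := (c5.inv_right).mul_right c3
  have e : X = (E'⁻¹ * ⁅B, A⁆) * ((E'⁻¹ * ⁅B, A⁆)⁻¹ * X) := by group
  show X * Y = Y * X
  rw [e, mul_assoc, ← c4 Y, ← mul_assoc, ← c6.eq, mul_assoc]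

end StG

namespace StG

variable {C : Cert12 D fd fx fc fz} {F : Type*} [Field F] {M : Type*} [Group M] {S : StG C F M}
variable {E : Type*} [Group E] {p : E →* M}

namespace TL

variable (H : S.TL p)
include H

/-- lifts of commuting root elements commute, when an element of the torus centralises the root elements of `s` and
acts without fixed points on those of `r` -/
theorem ecom_of_torus (r s γ : ℕ) (hr : r < fd.n) (hs : s < fd.n) (hγ : γ < fd.n) (hm : S.MCom r s)
    (h0 : fd.pr s γ = 0) (a : F) (ha : a ≠ 0) (ha1 : a ^ (fd.pr r γ) ≠ 1) : S.ECom p r s := by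
  set L : M → E := Function.surjInv H.surj with hL
  have hpL : ∀ x, p (L x) = x := Function.surjInv_eq H.surj
  set φ : F → F → E := fun t u => ⁅L (S.y r t), L (S.y s u)⁆ with hφ
  have hφe : ∀ (X Y : E) (t u : F), p X = S.y r t → p Y = S.y s u → ⁅X, Y⁆ = φ t u := by
    intro X Y t u hX hY
    apply CE.comm_indep p H.cen
    · rw [hpL, hX]
    · rw [hpL, hY]
  have hcen : ∀ t u, ∀ g : E, g * φ t u = φ t u * g := by
    intro t u
    apply CE.comm_central p H.cen
    rw [hpL, hpL]
    exact hm t u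
  have h1 : ∀ t t' u, φ (t + t') u = φ t u * φ t' u := by
    intro t t' u
    have e : ⁅L (S.y r t) * L (S.y r t'), L (S.y s u)⁆ = φ (t + t') u := by
      apply hφe
      · rw [map_mul, hpL, hpL, S.y_add r hr]
      · rw [hpL]
    rw [← e]
    have : ⁅L (S.y r t) * L (S.y r t'), L (S.y s u)⁆ =
        L (S.y r t) * φ t' u * (L (S.y r t))⁻¹ * φ t u := by
      simp only [hφ, commutatorElement_def]; group
    rw [this, hcen t' u (L (S.y r t)), mul_inv_cancel_right, ← hcen]
  have h0' : ∀ u, φ 0 u = 1 := by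
    intro u
    have := h1 0 0 u
    rw [add_zero] at this
    exact mul_eq_left.mp this.symm
  have h3 : ∀ t u, φ (a ^ (fd.pr r γ) * t) u = φ t u := by
    intro t u
    set T := L (S.hb γ a) with hT
    have e1 : T * φ t u * T⁻¹ = φ t u := by rw [hcen t u T, mul_inv_cancel_right]
    have e2 : T * φ t u * T⁻¹ = ⁅T * L (S.y r t) * T⁻¹, T * L (S.y s u) * T⁻¹⁆ := by
      simp only [hφ, commutatorElement_def]; group
    rw [← e1, e2]
    symm
    apply hφe
    · rw [H.conj_lift γ r hγ hr a ha t T _ (hpL _) (hpL _)]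
    · rw [H.conj_lift γ s hγ hs a ha u T _ (hpL _) (hpL _), h0, zpow_zero, one_mul]
  have key : ∀ t u, φ t u = 1 := by
    intro t u
    have hne : a ^ (fd.pr r γ) - 1 ≠ 0 := sub_ne_zero.mpr ha1
    set t' := t / (a ^ (fd.pr r γ) - 1) with ht'
    have e : t = a ^ (fd.pr r γ) * t' + (-t') := by
      rw [ht']; field_simp; ring
    rw [e, h1, h3, ← h1, add_neg_cancel, h0']
  rintro X Y ⟨t, hX⟩ ⟨u, hY⟩
  have := hφe X Y t u hX hY
  rw [key] at this
  exact commutatorElement_eq_one_iff_commute.mp this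

end TL

end StG

namespace Cert12

variable (C : Cert12 D fd fx fc fz) (K : Type*) [Field K]
include C

variable {wit : List (ℕ × ℕ)}

/-- the structure of a central extension of the Chevalley group, for the lifts defined by the torus -/
theorem grp_TL (hst : fd.ChkSt fx wit) {Γ : Type*} [Group Γ] (σ : Γ →* ↥(D.group K))
    (hsurj : Function.Surjective σ) (hcen : σ.ker ≤ Subgroup.center Γ) : (C.grpStG K).TL σ := by
  refine ⟨hsurj, hcen, fun γ s hγ hs v hv u => (C.grpStG K).hb_conj hst γ s hγ hs v hv u, ?_⟩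
  intro γ r hγ hr v b hv hb
  apply C.grpStG_θ_injective K
  rw [map_mul, map_mul, (C.grpStG K).θ_hb γ hγ, (C.grpStG K).θ_hb r hr]
  exact C.hE_commute γ r hγ hr v b hv hb

/-- every central extension of the Chevalley group receives a homomorphism from the group presented by (R1), (R2),
compatible with the homomorphisms onto the Chevalley group, when the lifts of the elements of each root subgroup
commute -/
theorem torus_lift' (hst : fd.ChkSt fx wit) (zt : ZT)
    (hchk : ∀ r < fd.n, ∀ s < fd.n, s ≠ r → s ≠ fd.n - 1 - r → fd.ChkZS fx zt r s)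
    (a : K) (ha : a ≠ 0) (ha2 : a ^ 2 ≠ 1) (ha3 : a ^ 3 ≠ 1)
    {Γ : Type*} [Group Γ] (σ : Γ →* ↥(D.group K)) (hsurj : Function.Surjective σ)
    (hcen : σ.ker ≤ Subgroup.center Γ) (hE : ∀ r, r < fd.n → (C.grpStG K).ECom σ r r) :
    ∃ τ : D.SteinbergCover K →* Γ,
      ∀ m, σ (τ m) = (PresentedGroup.toGroup (C.rels_AB K) : D.SteinbergCover K →* ↥(D.group K)) m := by
  set S := C.grpStG K with hS
  have H : S.TL σ := C.grp_TL K hst σ hsurj hcen
  set z : ℕ → K → Γ := fun r t => S.zt σ H.surj a r t with hz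
  have Z : S.ZL σ z := by
    refine ⟨fun r hr t => H.p_zt a ha ha2 r hr t, fun r hr t u => H.zt_add a ha ha2 r hr (hE r hr) t u, ?_⟩
    intro r γ hr hγ v hv T hT t
    exact H.zt_conj a ha r γ hr hγ v hv T hT t
  have hall := Z.all_zs hsurj hcen zt hchk a ha ha2 ha3
  obtain ⟨τ, hτ⟩ := C.cover_hom K z Z.add
    (fun r s hr hs h1 h2 t u => hall _ r s hr hs h1 h2 rfl t u)
  refine ⟨τ, ?_⟩
  have : σ.comp τ = (PresentedGroup.toGroup (C.rels_AB K) : D.SteinbergCover K →* ↥(D.group K)) := by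
    apply PresentedGroup.ext
    intro q
    have hq : q.1.val < fd.n := by rw [← C.c6.c2.nroots_eq]; exact q.1.isLt
    have e : (PresentedGroup.of q : D.SteinbergCover K) = PresentedGroup.mk _ (D.stX q.1.val q.2) := by
      unfold ChevalleyDatum.stX
      rw [dif_pos q.1.isLt]
      rfl
    rw [MonoidHom.comp_apply, e, hτ _ hq, Z.pz _ hq]
    apply Subtype.ext
    rw [C.toGroup_mk]
    rfl
  intro m
  rw [← this]
  rfl

/-- the lifts of the elements of a root subgroup commute, when an element of the torus acts on it by `v ↦ v^{±1}` -/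
theorem ecom_of_gs (hst : fd.ChkSt fx wit) (zt : ZT) (a : K) (ha : a ≠ 0) (ha2 : a ^ 2 ≠ 1) (ha3 : a ^ 3 ≠ 1)
    {Γ : Type*} [Group Γ] (σ : Γ →* ↥(D.group K)) (hsurj : Function.Surjective σ)
    (hcen : σ.ker ≤ Subgroup.center Γ) (r : ℕ) (hr : r < fd.n) (hgs : fd.ChkGS zt r) :
    (C.grpStG K).ECom σ r r := by
  have H := C.grp_TL K hst σ hsurj hcen
  have ha1 : a + 1 ≠ 0 := by
    intro h
    apply ha2
    have : a = -1 := eq_neg_of_add_eq_zero_left h
    rw [this]; ring
  have ha4 : a ^ 2 + a + 1 ≠ 0 := by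
    intro h
    apply ha3
    have : a ^ 3 - 1 = (a - 1) * (a ^ 2 + a + 1) := by ring
    rw [h, mul_zero] at this
    exact sub_eq_zero.mp this
  obtain ⟨h1, h2⟩ := hgs
  exact H.ecom_self r _ hr h1 h2 a ha ha1 ha4

end Cert12

end Cfsg.Agent.Lib.H29.Chev
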