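import Mathlib
import Cfsg.Prelude.Def_ChevStructure
import Cfsg.Agent.Lib.H29.ChevTL5

/-!
# Lifting Steinberg's relations by the torus: the long roots of type `B₂`
-/

set_option autoImplicit false
set_option linter.unusedSectionVars false
set_option linter.unusedSimpArgs false
set_option linter.unusedVariables false

namespace Cfsg.Agent.Lib.H29.Chev

open Cfsg.Lie Matrix

open scoped commutatorElement

/-- the data for a root `r` on which the torus acts by squares: roots `a`, `b`, `e` with `[x_b, x_a] = x_e x_r`,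
and a root `γ` orthogonal to `r` and not to `e` -/
def FD.ChkLR (fd : FD) (r a b e γ : ℕ) : Prop :=
  a < fd.n ∧ b < fd.n ∧ e < fd.n ∧ γ < fd.n ∧ b ≠ a ∧ b ≠ fd.n - 1 - a ∧
  r ≠ a ∧ r ≠ fd.n - 1 - a ∧ r ≠ b ∧ r ≠ fd.n - 1 - b ∧ r ≠ e ∧ r ≠ fd.n - 1 - e ∧
  (fd.commT a b = [(e, ((fd.commT a b).getD 0 (0, 0, 0, 0)).2.1, 1, 1),
      (r, ((fd.commT a b).getD 1 (0, 0, 0, 0)).2.1, 1, 2)] ∧
    (((fd.commT a b).getD 1 (0, 0, 0, 0)).2.1 = 1 ∨ ((fd.commT a b).getD 1 (0, 0, 0, 0)).2.1 = -1)) ∧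
  fd.commT a r = [] ∧ fd.commT b r = [] ∧ fd.commT e r = [] ∧
  fd.pr r γ = 0 ∧ (fd.pr e γ ≠ 0 ∧ -3 ≤ fd.pr e γ ∧ fd.pr e γ ≤ 3)

instance (fd : FD) (r a b e γ : ℕ) : Decidable (fd.ChkLR r a b e γ) := by
  unfold FD.ChkLR; infer_instance

variable {D : ChevalleyDatum} {fd : FD} {fx : FX} {fc : FC} {fz : FZ}

namespace StG

variable {C : Cert12 D fd fx fc fz} {F : Type*} [Field F] {M : Type*} [Group M] {S : StG C F M}
variable {E : Type*} [Group E] {p : E →* M}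

namespace TL

variable (H : S.TL p)
include H

/-- the lifts of the elements of a root subgroup `X_r` commute, when `[x_b, x_a] = x_e x_r` for roots `a`, `b`, `e`
whose root elements commute with those of `r` -/
theorem ecom_of_LR (r a b e γ : ℕ) (hr : r < fd.n) (h : fd.ChkLR r a b e γ) (v : F) (hv : v ≠ 0) (hv2 : v ^ 2 ≠ 1)
    (hv3 : v ^ 3 ≠ 1) : S.ECom p r r := by
  obtain ⟨ha, hb, he, hγ, hba, hbna, hra, hrna, hrb, hrnb, hre, hrne, ⟨hct, hε⟩, har, hbr, her, hpr, hpe⟩ := h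
  have m1 : S.MCom a r := S.mcom_of_nil a r ha hr hra hrna har
  have m2 : S.MCom b r := S.mcom_of_nil b r hb hr hrb hrnb hbr
  have m3 : S.MCom e r := S.mcom_of_nil e r he hr hre hrne her
  have e1 : S.ECom p e r :=
    H.ecom_of_torus e r γ he hr hγ m3 hpr v hv (zpow_ne_one_of_small v hv hv2 hv3 _ hpe.1 hpe.2.1 hpe.2.2)
  set ε₁ : ℤ := ((fd.commT a b).getD 0 (0, 0, 0, 0)).2.1 with hε₁
  set ε₂ : ℤ := ((fd.commT a b).getD 1 (0, 0, 0, 0)).2.1 with hε₂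
  have hε0 : ((ε₂ : ℤ) : F) ≠ 0 := by
    rcases hε with h1 | h1 <;> rw [h1] <;> simp
  have key : ∀ t, ⁅S.y b 1, S.y a t⁆ = S.y e (-((ε₁ : ℤ) : F) * t) * S.y r (((ε₂ : ℤ) : F) * t) := by
    intro t
    have := S.y_comm a b ha hb hba hbna (-t) (-1)
    rw [hct] at this
    simp only [List.map_cons, List.map_nil, List.prod_cons, List.prod_nil, mul_one, pow_one, neg_neg] at this
    have e2 : ⁅S.y b 1, S.y a t⁆ = (S.y b (-1))⁻¹ * (S.y a (-t))⁻¹ * S.y b (-1) * S.y a (-t) := by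
      rw [S.y_inv b hb, S.y_inv a ha, neg_neg, neg_neg, commutatorElement_def, S.y_inv b hb, S.y_inv a ha]
    have e3 : ((ε₁ : ℤ) : F) * t * -1 = -((ε₁ : ℤ) : F) * t := by ring
    have e4 : ((ε₂ : ℤ) : F) * t * (-1) ^ 2 = ((ε₂ : ℤ) : F) * t := by ring
    rw [e3, e4] at this
    rw [e2, mul_assoc, this]
    group
  exact S.ecom_of_dec2 p H.surj H.cen r r a b e _ _ hε0 1 key m1 m2 e1

end TL

end StG

namespace Cert12

variable (C : Cert12 D fd fx fc fz) (K : Type*) [Field K]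
include C

variable {wit : List (ℕ × ℕ)}

theorem ecom_of_LR (hst : fd.ChkSt fx wit) (a : K) (ha : a ≠ 0) (ha2 : a ^ 2 ≠ 1) (ha3 : a ^ 3 ≠ 1)
    {Γ : Type*} [Group Γ] (σ : Γ →* ↥(D.group K)) (hsurj : Function.Surjective σ)
    (hcen : σ.ker ≤ Subgroup.center Γ) (r a' b e γ : ℕ) (hr : r < fd.n) (h : fd.ChkLR r a' b e γ) :
    (C.grpStG K).ECom σ r r :=
  (C.grp_TL K hst σ hsurj hcen).ecom_of_LR r a' b e γ hr h a ha ha2 ha3

end Cert12

end Cfsg.Agent.Lib.H29.Chev
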