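import Mathlib
import Cfsg.Prelude.Def_ChevStructure
import Cfsg.Agent.Lib.H29.ChevTL5

/-!
# Central extensions of groups with Steinberg's relations: lifts defined by means of an arbitrary element of the torus
-/

set_option autoImplicit false
set_option linter.unusedSectionVars false
set_option linter.unusedSimpArgs false
set_option linter.unusedVariables false

namespace Cfsg.Agent.Lib.H29.Chev

open Cfsg.Lie Matrix

open scoped commutatorElement

variable {D : ChevalleyDatum} {fd : FD} {fx : FX} {fc : FC} {fz : FZ}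

namespace StG

variable {C : Cert12 D fd fx fc fz} {F : Type*} [Field F] {M : Type*} [Group M] (S : StG C F M)
variable {E : Type*} [Group E] (p : E →* M)

/-- the lift of `ȳ_r(t)` defined by means of `h̄_γ(a)` -/
noncomputable def ztg (hsurj : Function.Surjective p) (a : F) (γ r : ℕ) (t : F) : E :=
  ⁅Function.surjInv hsurj (S.hb γ a), Function.surjInv hsurj (S.y r (t / (a ^ (fd.pr r γ) - 1)))⁆

variable {S p}

namespace TL

variable (H : S.TL p)
include H

theorem ztg_eq (a : F) (γ r : ℕ) (t : F) (T X : E) (hT : p T = S.hb γ a)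
    (hX : p X = S.y r (t / (a ^ (fd.pr r γ) - 1))) : S.ztg p H.surj a γ r t = ⁅T, X⁆ := by
  unfold ztg
  apply CE.comm_indep p H.cen
  · rw [Function.surjInv_eq H.surj, hT]
  · rw [Function.surjInv_eq H.surj, hX]

theorem p_ztg (a : F) (ha : a ≠ 0) (γ r : ℕ) (hγ : γ < fd.n) (hr : r < fd.n) (ha1 : a ^ (fd.pr r γ) ≠ 1) (t : F) :
    p (S.ztg p H.surj a γ r t) = S.y r t := by
  unfold ztg
  rw [map_commutatorElement, Function.surjInv_eq H.surj, Function.surjInv_eq H.surj, commutatorElement_def,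
    H.hconj γ r hγ hr a ha, S.y_inv r hr, S.y_add r hr]
  congr 1
  have : a ^ (fd.pr r γ) - 1 ≠ 0 := sub_ne_zero.mpr ha1
  field_simp
  ring

/-- the lifts are additive -/
theorem ztg_add (a : F) (ha : a ≠ 0) (γ r : ℕ) (hγ : γ < fd.n) (hr : r < fd.n) (ha1 : a ^ (fd.pr r γ) ≠ 1)
    (hE : S.ECom p r r) (t u : F) :
    S.ztg p H.surj a γ r t * S.ztg p H.surj a γ r u = S.ztg p H.surj a γ r (t + u) := by
  set L : M → E := Function.surjInv H.surj with hL
  have hpL : ∀ x, p (L x) = x := Function.surjInv_eq H.surj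
  set T := L (S.hb γ a) with hT
  set X := L (S.y r (t / (a ^ (fd.pr r γ) - 1))) with hX
  set X' := L (S.y r (u / (a ^ (fd.pr r γ) - 1))) with hX'
  have e1 : S.ztg p H.surj a γ r (t + u) = ⁅T, X * X'⁆ := by
    apply H.ztg_eq a γ r (t + u) T (X * X') (hpL _)
    rw [map_mul, hpL, hpL, S.y_add r hr, add_div]
  have e2 : ⁅T, X * X'⁆ = ⁅T, X⁆ * (X * ⁅T, X'⁆ * X⁻¹) := by
    simp only [commutatorElement_def]; group
  have e3 : Commute X ⁅T, X'⁆ := by
    apply hE
    · exact ⟨_, hpL _⟩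
    · refine ⟨u, ?_⟩
      have := H.p_ztg a ha γ r hγ hr ha1 u
      rwa [H.ztg_eq a γ r u T X' (hpL _) (hpL _)] at this
  rw [e1, e2, e3.eq, mul_inv_cancel_right]
  rfl

/-- the lifts are compatible with the action of the torus -/
theorem ztg_conj (a : F) (ha : a ≠ 0) (γ r γ' : ℕ) (hγ : γ < fd.n) (hr : r < fd.n) (hγ' : γ' < fd.n) (v : F)
    (hv : v ≠ 0) (T : E) (hT : p T = S.hb γ' v) (t : F) :
    T * S.ztg p H.surj a γ r t * T⁻¹ = S.ztg p H.surj a γ r (v ^ (fd.pr r γ') * t) := by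
  set L : M → E := Function.surjInv H.surj with hL
  have hpL : ∀ x, p (L x) = x := Function.surjInv_eq H.surj
  have e1 : T * S.ztg p H.surj a γ r t * T⁻¹ =
      ⁅T * L (S.hb γ a) * T⁻¹, T * L (S.y r (t / (a ^ (fd.pr r γ) - 1))) * T⁻¹⁆ := by
    have : S.ztg p H.surj a γ r t = ⁅L (S.hb γ a), L (S.y r (t / (a ^ (fd.pr r γ) - 1)))⁆ := rfl
    rw [this]
    generalize L (S.hb γ a) = A
    generalize L (S.y r (t / (a ^ (fd.pr r γ) - 1))) = B
    simp only [commutatorElement_def]; group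
  rw [e1]
  symm
  apply H.ztg_eq
  · rw [map_mul, map_mul, map_inv, hT, hpL, (H.hcomm γ' γ hγ' hγ v a hv ha).eq, mul_inv_cancel_right]
  · rw [H.conj_lift γ' r hγ' hr v hv _ T _ hT (hpL _), mul_div_assoc]

end TL

end StG

end Cfsg.Agent.Lib.H29.Chev
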