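import Mathlib
import Cfsg.Prelude.Def_ChevStructure
import Cfsg.Agent.Lib.H29.ChevTL8

/-!
# Lifting Steinberg's relations by means of an element of the torus of finite order, and of decompositions of roots
-/

set_option autoImplicit false
set_option linter.unusedSectionVars false
set_option linter.unusedSimpArgs false
set_option linter.unusedVariables false

namespace Cfsg.Agent.Lib.H29.Chev

open Cfsg.Lie Matrix

open scoped commutatorElement

/-- the table check for the pair `(r, s)`, for an element of the torus of order `d` -/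
def FD.ChkZSd (fd : FD) (fx : FX) (zt : ZT) (d : ℤ) (r s : ℕ) : Prop :=
  zt.gamOf r s < fd.n ∧ fd.pr s (zt.gamOf r s) % d = 0 ∧ fd.pr r (zt.gamOf r s) % d ≠ 0 ∧
  (∀ i ∈ zt.wdOf r s, i < fd.l) ∧ (∀ k ∈ fd.zsL r s, fd.n / 2 ≤ fd.wact fx (zt.wdOf r s) k) ∧
  ((fd.zsL r s).map (fd.wact fx (zt.wdOf r s))).Nodup ∧
  (∀ j' < (fd.zsL r s).length, ∀ j < j',
    (fd.zsL r s).getD j' 0 ≠ (fd.zsL r s).getD j 0 ∧ (fd.zsL r s).getD j' 0 ≠ fd.n - 1 - (fd.zsL r s).getD j 0 ∧
    (fd.commT ((fd.zsL r s).getD j 0) ((fd.zsL r s).getD j' 0)).length < (fd.commT r s).length ∧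
    ∀ c ∈ fd.commT ((fd.zsL r s).getD j 0) ((fd.zsL r s).getD j' 0),
      ∃ k < (fd.zsL r s).length, j < k ∧ (fd.zsL r s).getD k 0 = c.1) ∧
  (∀ k ∈ fd.zsL r s, k ≠ r ∧ k ≠ fd.n - 1 - r ∧ (fd.commT r k).length < (fd.commT r s).length ∧
    ∀ c ∈ fd.commT r k, c.1 ∈ fd.zsL r s)

instance (fd : FD) (fx : FX) (zt : ZT) (d : ℤ) (r s : ℕ) : Decidable (fd.ChkZSd fx zt d r s) := by
  unfold FD.ChkZSd
  infer_instance

theorem FD.chkZSd_of_chkZS {fd : FD} {fx : FX} {zt : ZT} {r s : ℕ} (d : ℤ) (h : fd.ChkZS fx zt r s)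
    (hd : fd.pr r (zt.gamOf r s) % d ≠ 0) : fd.ChkZSd fx zt d r s := by
  obtain ⟨c1, c2, c3, c6, c7, c8, c9, c10⟩ := h
  exact ⟨c1, by rw [c2]; simp, hd, c6, c7, c8, c9, c10⟩

/-- the constant of a commutator formula with a single term -/
def FD.decC (fd : FD) (a b : ℕ) : ℤ := ((fd.commT a b).getD 0 (0, 0, 0, 0)).2.1

/-- `r = a + b` with a commutator formula with a single term and an invertible constant, and the root elements of `s`
commute with those of `a` and `b` -/
def FD.ChkDecP (fd : FD) (two : Bool) (r s a b : ℕ) : Prop :=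
  a < fd.n ∧ b < fd.n ∧ b ≠ a ∧ b ≠ fd.n - 1 - a ∧ s ≠ a ∧ s ≠ fd.n - 1 - a ∧ s ≠ b ∧ s ≠ fd.n - 1 - b ∧
  fd.commT a b = [(r, fd.decC a b, 1, 1)] ∧
  (fd.decC a b = 1 ∨ fd.decC a b = -1 ∨ (two = true ∧ (fd.decC a b = 2 ∨ fd.decC a b = -2))) ∧
  fd.commT a s = [] ∧ fd.commT b s = []

instance (fd : FD) (two : Bool) (r s a b : ℕ) : Decidable (fd.ChkDecP two r s a b) := by
  unfold FD.ChkDecP
  infer_instance

/-- the table of decompositions -/
structure ZDec where
  dp : List (List (ℕ × ℕ × Bool))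
  de : List (ℕ × ℕ)

def ZDec.dpOf (zd : ZDec) (r s : ℕ) : ℕ × ℕ × Bool := (zd.dp.getD r []).getD s (0, 0, false)

/-- the check for the pair `(r, s)`: either the torus separates the roots, or the root elements commute and one of
the roots decomposes -/
def FD.ChkPair (fd : FD) (fx : FX) (zt : ZT) (zd : ZDec) (d : ℤ) (two : Bool) (r s : ℕ) : Prop :=
  fd.ChkZSd fx zt d r s ∨
    (fd.commT r s = [] ∧
      ((zd.dpOf r s).2.2 = false ∧ fd.ChkDecP two r s (zd.dpOf r s).1 (zd.dpOf r s).2.1 ∨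
       (zd.dpOf r s).2.2 = true ∧ fd.ChkDecP two s r (zd.dpOf r s).1 (zd.dpOf r s).2.1))

instance (fd : FD) (fx : FX) (zt : ZT) (zd : ZDec) (d : ℤ) (two : Bool) (r s : ℕ) :
    Decidable (fd.ChkPair fx zt zd d two r s) := by
  unfold FD.ChkPair
  infer_instance

variable {D : ChevalleyDatum} {fd : FD} {fx : FX} {fc : FC} {fz : FZ}

namespace StG

variable {C : Cert12 D fd fx fc fz} {F : Type*} [Field F] {M : Type*} [Group M] (S : StG C F M)
variable {E : Type*} [Group E] (p : E →* M)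

/-- the commutator of root elements of `b` and `a`, for a commutator formula with a single term -/
theorem ms_of_single (r a b : ℕ) (ha : a < fd.n) (hb : b < fd.n) (hba : b ≠ a) (hbna : b ≠ fd.n - 1 - a)
    (h : fd.commT a b = [(r, fd.decC a b, 1, 1)]) : S.MS b a r (-((fd.decC a b : ℤ) : F)) := by
  intro t u
  have := S.y_comm a b ha hb hba hbna (-u) (-t)
  rw [h] at this
  simp only [List.map_cons, List.map_nil, List.prod_cons, List.prod_nil, mul_one, pow_one, neg_neg] at this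
  have e2 : ⁅S.y b t, S.y a u⁆ = (S.y b (-t))⁻¹ * (S.y a (-u))⁻¹ * S.y b (-t) * S.y a (-u) := by
    rw [S.y_inv b hb, S.y_inv a ha, neg_neg, neg_neg, commutatorElement_def, S.y_inv b hb, S.y_inv a ha]
  rw [e2, mul_assoc, this]
  have e3 : ((fd.decC a b : ℤ) : F) * u * -t = -((fd.decC a b : ℤ) : F) * t * u := by ring
  rw [e3]
  group

variable (hsurj : Function.Surjective p) (hc : p.ker ≤ Subgroup.center E)
include hsurj hc

/-- lifts of root elements commute, by a decomposition -/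
theorem ecom_of_chkDecP (two : Bool) (h2 : two = true → (2 : F) ≠ 0) (r s a b : ℕ) (hr : r < fd.n) (hs : s < fd.n)
    (h : fd.ChkDecP two r s a b) : S.ECom p r s := by
  obtain ⟨ha, hb, hba, hbna, hsa, hsna, hsb, hsnb, hct, hcc, has, hbs⟩ := h
  have hc0 : -((fd.decC a b : ℤ) : F) ≠ 0 := by
    rw [neg_ne_zero]
    rcases hcc with h1 | h1 | ⟨ht, h1 | h1⟩
    · rw [h1]; simp
    · rw [h1]; simp
    · rw [h1]; simpa using h2 ht
    · rw [h1]; simpa using h2 ht
  exact S.ecom_of_dec p hsurj hc r s b a _ hc0 (S.ms_of_single r a b ha hb hba hbna hct)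
    (S.mcom_of_nil b s hb hs hsb hsnb hbs) (S.mcom_of_nil a s ha hs hsa hsna has)

end StG

namespace StG

variable {C : Cert12 D fd fx fc fz} {F : Type*} [Field F] {M : Type*} [Group M] {S : StG C F M}
variable {E : Type*} [Group E] {p : E →* M}

/-- the relations (R2) for the lifts, for all the pairs of roots -/
theorem ZL.all_zs_d {z : ℕ → F → E} (Z : S.ZL p z) (hsurj : Function.Surjective p) (hcen : p.ker ≤ Subgroup.center E)
    (zt : ZT) (zd : ZDec) (d : ℤ) (two : Bool) (h2 : two = true → (2 : F) ≠ 0)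
    (hchk : ∀ r < fd.n, ∀ s < fd.n, s ≠ r → s ≠ fd.n - 1 - r → fd.ChkPair fx zt zd d two r s)
    (a : F) (ha : a ≠ 0) (hord : ∀ m : ℤ, a ^ m = 1 ↔ m % d = 0) :
    ∀ m r s, r < fd.n → s < fd.n → s ≠ r → s ≠ fd.n - 1 - r → (fd.commT r s).length = m → ZS fd z r s := by
  intro m
  induction m using Nat.strong_induction_on with
  | _ m ih =>
    intro r s hr hs h1 h2' hm
    rcases hchk r hr s hs h1 h2' with hzs | ⟨hnil, hdec⟩
    · obtain ⟨c1, c2, c3, c6, c7, c8, c9, c10⟩ := hzs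
      have hLn : ∀ k ∈ fd.zsL r s, k < fd.n := by
        intro k hk
        obtain ⟨c, hc, rfl⟩ := List.mem_map.mp hk
        exact (fd.linc_spec C.linc r s hr hs c hc).1
      have hget : ∀ j, j < (fd.zsL r s).length → (fd.zsL r s).getD j 0 ∈ fd.zsL r s := by
        intro j hj
        rw [List.getD_eq_getElem _ _ hj]
        exact List.getElem_mem hj
      apply Z.step hcen r s hr hs h1 h2' (zt.gamOf r s) c1 a ((hord _).mpr c2) ha
        (fun h => c3 ((hord _).mp h)) (Function.surjInv hsurj (S.hb (zt.gamOf r s) a))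
        (Function.surjInv_eq hsurj _) (fd.zsL r s) rfl ?_ ?_ (zt.wdOf r s) c6 c7 c8
      · intro j j' hjj' hj'
        obtain ⟨e1, e2, e3, e4⟩ := c9 j' hj' j hjj'
        refine ⟨e1, e2, ?_, ?_⟩
        · exact ih _ (by rw [← hm]; exact e3) _ _ (hLn _ (hget j (by omega))) (hLn _ (hget j' hj')) e1 e2 rfl
        · intro c hc
          obtain ⟨k, hk1, hk2, hk3⟩ := e4 c hc
          exact ⟨k, hk2, hk1, hk3⟩
      · intro k hk
        obtain ⟨e1, e2, e3, e4⟩ := c10 k hk
        exact ⟨e1, e2, ih _ (by rw [← hm]; exact e3) _ _ hr (hLn k hk) e1 e2 rfl, e4⟩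
    · have hE : S.ECom p r s := by
        rcases hdec with ⟨_, hd⟩ | ⟨_, hd⟩
        · exact S.ecom_of_chkDecP p hsurj hcen two h2 r s _ _ hr hs hd
        · exact (S.ecom_of_chkDecP p hsurj hcen two h2 s r _ _ hs hr hd).symm
      intro t u
      unfold zc
      rw [hnil]
      simp only [List.map_nil, List.prod_nil, mul_one]
      exact ((hE (z r t) (z s u) ⟨t, Z.pz r hr t⟩ ⟨u, Z.pz s hs u⟩).eq).symm

end StG

namespace Cert12

variable (C : Cert12 D fd fx fc fz) (K : Type*) [Field K]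
include C

variable {wit : List (ℕ × ℕ)}

/-- every central extension of the Chevalley group receives a homomorphism from the group presented by (R1), (R2),
compatible with the homomorphisms onto the Chevalley group: version for an element of the torus of finite order -/
theorem torus_lift_d (hst : fd.ChkSt fx wit) (zt : ZT) (zd : ZDec) (d : ℤ) (two : Bool) (h2 : two = true → (2 : K) ≠ 0)
    (hchk : ∀ r < fd.n, ∀ s < fd.n, s ≠ r → s ≠ fd.n - 1 - r → fd.ChkPair fx zt zd d two r s)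
    (hgs : ∀ r < fd.n, zt.gs.getD r 0 < fd.n ∧ fd.pr r (zt.gs.getD r 0) % d ≠ 0)
    (hde : ∀ r < fd.n, fd.ChkDecP two r r (zd.de.getD r (0, 0)).1 (zd.de.getD r (0, 0)).2)
    (a : K) (ha : a ≠ 0) (hord : ∀ m : ℤ, a ^ m = 1 ↔ m % d = 0)
    {Γ : Type*} [Group Γ] (σ : Γ →* ↥(D.group K)) (hsurj : Function.Surjective σ)
    (hcen : σ.ker ≤ Subgroup.center Γ) :
    ∃ τ : D.SteinbergCover K →* Γ,
      ∀ m, σ (τ m) = (PresentedGroup.toGroup (C.rels_AB K) : D.SteinbergCover K →* ↥(D.group K)) m := by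
  set S := C.grpStG K with hS
  have H : S.TL σ := C.grp_TL K hst σ hsurj hcen
  have hE : ∀ r, r < fd.n → S.ECom σ r r :=
    fun r hr => S.ecom_of_chkDecP σ hsurj hcen two h2 r r _ _ hr hr (hde r hr)
  have hg1 : ∀ r, r < fd.n → a ^ (fd.pr r (zt.gs.getD r 0)) ≠ 1 :=
    fun r hr h => (hgs r hr).2 ((hord _).mp h)
  set z : ℕ → K → Γ := fun r t => S.ztg σ H.surj a (zt.gs.getD r 0) r t with hz
  have Z : S.ZL σ z := by
    refine ⟨fun r hr t => H.p_ztg a ha _ r (hgs r hr).1 hr (hg1 r hr) t,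
      fun r hr t u => H.ztg_add a ha _ r (hgs r hr).1 hr (hg1 r hr) (hE r hr) t u, ?_⟩
    intro r γ hr hγ v hv T hT t
    exact H.ztg_conj a ha _ r γ (hgs r hr).1 hr hγ v hv T hT t
  have hall := Z.all_zs_d hsurj hcen zt zd d two h2 hchk a ha hord
  obtain ⟨τ, hτ⟩ := C.cover_hom K z Z.add
    (fun r s hr hs h1 h2 t u => hall _ r s hr hs h1 h2 rfl t u)
  refine ⟨τ, ?_⟩
  have : σ.comp τ = (PresentedGroup.toGroup (C.rels_AB K) : D.SteinbergCover K →* ↥(D.group K)) := by
    apply PresentedGroup.ext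
    intro q
    have hq : q.1.val < fd.n := by rw [← C.c6.c2.nroots_eq]; exact q.1.isLt
    have e : (PresentedGroup.of q : D.SteinbergCover K) = PresentedGroup.mk _ (D.stX q.1.val q.2) := by
      unfold ChevalleyDatum.stX
      rw [dif_pos q.1.isLt]
      rfl
    rw [MonoidHom.comp_apply, e, hτ _ hq, Z.pz _ hq]
    apply Subtype.ext
    rw [C.toGroup_mk]
    rfl
  intro m
  rw [← this]
  rfl

end Cert12

end Cfsg.Agent.Lib.H29.Chev
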