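import Mathlib
import Cfsg.Agent.Lib.H29.ChevStChk
import Cfsg.Agent.Lib.H29.ChevGen1
import Cfsg.Agent.Lib.H29.ChevDataG2
import Cfsg.Agent.Lib.H29.ChevDataXG2
import Cfsg.Agent.Lib.H29.ChevDataB2
import Cfsg.Agent.Lib.H29.ChevDataXB2
import Cfsg.Agent.Lib.H29.ChevDataD4
import Cfsg.Agent.Lib.H29.ChevDataXD4
import Cfsg.Agent.Lib.H29.ChevDataF4
import Cfsg.Agent.Lib.H29.ChevDataXF4
import Cfsg.Agent.Lib.H29.ChevDataE6
import Cfsg.Agent.Lib.H29.ChevDataXE6
import Cfsg.Agent.Lib.H29.ChevDataE7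
import Cfsg.Agent.Lib.H29.ChevDataXE7
import Cfsg.Agent.Lib.H29.ChevDataE8
import Cfsg.Agent.Lib.H29.ChevDataXE8

/-!
# Steinberg's presentation: the checks on the tables, for the seven types
-/

set_option autoImplicit false

namespace Cfsg.Agent.Lib.H29.Chev

def witG2 : List (ℕ × ℕ) := [(5, 8), (1, 11)]
def witB2 : List (ℕ × ℕ) := [(3, 6), (7, 2)]
def witD4 : List (ℕ × ℕ) := [(6, 22), (1, 23), (3, 22), (2, 22)]
def witF4 : List (ℕ × ℕ) := [(7, 44), (4, 44), (2, 46), (1, 47)]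
def witE6 : List (ℕ × ℕ) := [(16, 66), (1, 71), (5, 69), (2, 70), (3, 69), (4, 68)]
def witE7 : List (ℕ × ℕ) := [(1, 125), (7, 122), (2, 124), (3, 123), (4, 122), (5, 121), (6, 120)]
def witE8 : List (ℕ × ℕ) := [(14, 233), (7, 234), (6, 234), (5, 235), (4, 236), (3, 237), (2, 238), (1, 239)]

set_option maxRecDepth 1000000 in
set_option maxHeartbeats 0 in
theorem fdG2_St_c : allR 0 2 (fdG2.chkSt fxG2 witG2) = true := by decide +kernel

theorem fdG2_ChkSt : fdG2.ChkSt fxG2 witG2 := by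
  intro r hr
  have hr' : r < 2 := hr
  exact allR_spec fdG2_St_c r (by omega) hr'

set_option maxRecDepth 1000000 in
set_option maxHeartbeats 0 in
theorem fdB2_St_c : allR 0 2 (fdB2.chkSt fxB2 witB2) = true := by decide +kernel

theorem fdB2_ChkSt : fdB2.ChkSt fxB2 witB2 := by
  intro r hr
  have hr' : r < 2 := hr
  exact allR_spec fdB2_St_c r (by omega) hr'

set_option maxRecDepth 1000000 in
set_option maxHeartbeats 0 in
theorem fdD4_St_c : allR 0 4 (fdD4.chkSt fxD4 witD4) = true := by decide +kernel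

theorem fdD4_ChkSt : fdD4.ChkSt fxD4 witD4 := by
  intro r hr
  have hr' : r < 4 := hr
  exact allR_spec fdD4_St_c r (by omega) hr'

set_option maxRecDepth 1000000 in
set_option maxHeartbeats 0 in
theorem fdF4_St_c : allR 0 4 (fdF4.chkSt fxF4 witF4) = true := by decide +kernel

theorem fdF4_ChkSt : fdF4.ChkSt fxF4 witF4 := by
  intro r hr
  have hr' : r < 4 := hr
  exact allR_spec fdF4_St_c r (by omega) hr'

set_option maxRecDepth 1000000 in
set_option maxHeartbeats 0 in
theorem fdE6_St_c : allR 0 6 (fdE6.chkSt fxE6 witE6) = true := by decide +kernel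

theorem fdE6_ChkSt : fdE6.ChkSt fxE6 witE6 := by
  intro r hr
  have hr' : r < 6 := hr
  exact allR_spec fdE6_St_c r (by omega) hr'

set_option maxRecDepth 1000000 in
set_option maxHeartbeats 0 in
theorem fdE7_St_c : allR 0 7 (fdE7.chkSt fxE7 witE7) = true := by decide +kernel

theorem fdE7_ChkSt : fdE7.ChkSt fxE7 witE7 := by
  intro r hr
  have hr' : r < 7 := hr
  exact allR_spec fdE7_St_c r (by omega) hr'

set_option maxRecDepth 1000000 in
set_option maxHeartbeats 0 in
theorem fdE8_St_c : allR 0 8 (fdE8.chkSt fxE8 witE8) = true := by decide +kernel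

theorem fdE8_ChkSt : fdE8.ChkSt fxE8 witE8 := by
  intro r hr
  have hr' : r < 8 := hr
  exact allR_spec fdE8_St_c r (by omega) hr'

end Cfsg.Agent.Lib.H29.Chev
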