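import Mathlib
import Cfsg.Agent.Lib.H29.ChevTL4
import Cfsg.Agent.Lib.H29.ChevDataD4
import Cfsg.Agent.Lib.H29.ChevDataXD4

/-! Auxiliary roots and Weyl words for the lifting of Steinberg's relations by the torus, type D4 (generated) -/

set_option autoImplicit false

namespace Cfsg.Agent.Lib.H29.Chev

def ztD4 : ZT where
  gam := [[0, 4, 3, 2, 1, 0, 2, 1, 1, 2, 0, 0, 0, 0, 2, 1, 1, 2, 0, 1, 2, 3, 4, 0], [5, 0, 3, 2, 1, 0, 2, 1, 1, 2, 0, 0, 0, 0, 2, 1, 1, 2, 0, 1, 2, 3, 0, 5], [5, 4, 0, 2, 1, 0, 2, 1, 1, 2, 0, 0, 0, 0, 2, 1, 1, 2, 0, 1, 2, 0, 4, 5], [5, 4, 3, 0, 1, 0, 3, 1, 1, 3, 0, 0, 0, 0, 3, 1, 1, 3, 0, 1, 0, 3, 4, 5], [5, 4, 3, 2, 0, 0, 2, 4, 4, 2, 0, 0, 0, 0, 2, 4, 4, 2, 0, 0, 2, 3, 4, 5], [5, 4, 3, 2, 1, 0, 2, 1, 1, 2, 5, 5, 5, 5, 2, 1, 1, 2, 0, 1, 2, 3, 4, 5], [5, 4, 6, 6, 1, 0, 0, 1, 1, 6, 0, 0, 0, 0, 6, 1, 1, 0, 0,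 1, 6, 6, 4, 5], [5, 7, 3, 2, 7, 0, 2, 0, 7, 2, 0, 0, 0, 0, 2, 7, 0, 2, 0, 7, 2, 3, 7, 5], [5, 8, 3, 2, 8, 0, 2, 8, 0, 2, 0, 0, 0, 0, 2, 0, 8, 2, 0, 8, 2, 3, 8, 5], [5, 4, 9, 9, 1, 0, 9, 1, 1, 0, 0, 0, 0, 0, 0, 1, 1, 9, 0, 1, 9, 9, 4, 5], [10, 4, 3, 2, 1, 10, 2, 1, 1, 2, 0, 10, 10, 0, 2, 1, 1, 2, 10, 1, 2, 3, 4, 10], [11, 4, 3, 2, 1, 11, 2, 1, 1, 2, 11, 0, 0, 11, 2, 1, 1, 2, 11, 1, 2, 3, 4, 11], [11, 4, 3, 2, 1, 11, 2, 1, 1, 2, 11, 0, 0, 11, 2, 1, 1, 2, 11, 1, 2, 3, 4, 11], [10, 4, 3, 2, 1, 10, 2, 1, 1, 2, 0, 10, 10, 0, 2, 1, 1, 2, 10, 1, 2, 3, 4, 10], [5, 4, 9, 9, 1, 0, 9, 1, 1, 0, 0, 0, 0, 0, 0, 1, 1, 9, 0, 1, 9, 9, 4, 5], [5, 8, 3, 2, 8, 0, 2, 8, 0, 2, 0, 0, 0, 0, 2, 0, 8, 2, 0, 8, 2, 3, 8, 5], [5, 7, 3, 2, 7, 0, 2, 0, 7, 2, 0, 0, 0, 0, 2, 7, 0, 2, 0, 7, 2, 3, 7, 5], [5, 4, 6, 6, 1, 0, 0, 1, 1, 6, 0, 0, 0, 0, 6, 1, 1, 0,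 0, 1, 6, 6, 4, 5], [5, 4, 3, 2, 1, 0, 2, 1, 1, 2, 5, 5, 5, 5, 2, 1, 1, 2, 0, 1, 2, 3, 4, 5], [5, 4, 3, 2, 0, 0, 2, 4, 4, 2, 0, 0, 0, 0, 2, 4, 4, 2, 0, 0, 2, 3, 4, 5], [5, 4, 3, 0, 1, 0, 3, 1, 1, 3, 0, 0, 0, 0, 3, 1, 1, 3, 0, 1, 0, 3, 4, 5], [5, 4, 0, 2, 1, 0, 2, 1, 1, 2, 0, 0, 0, 0, 2, 1, 1, 2, 0, 1, 2, 0, 4, 5], [5, 0, 3, 2, 1, 0, 2, 1, 1, 2, 0, 0, 0, 0, 2, 1, 1, 2, 0, 1, 2, 3, 0, 5], [0, 4, 3, 2, 1, 0, 2, 1, 1, 2, 0, 0, 0, 0, 2, 1, 1, 2, 0, 1, 2, 3, 4, 0]]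
  wd := [[[], [], [], [], [], [], [], [], [], [], [], [], [], [], [3, 1, 2, 0], [2, 1, 0], [3, 1, 0], [1, 0], [], [3, 1, 2], [2, 1], [3, 1], [1], []], [[], [], [], [], [], [], [], [], [], [3, 1, 2, 0, 1], [], [], [2, 1, 0], [3, 1, 0], [], [], [], [0], [3, 1, 2], [], [2], [3], [], []], [[], [], [], [], [], [], [], [], [3, 1, 2, 0, 1], [], [], [3, 1, 2, 0], [], [1, 0], [], [], [0], [], [2, 1], [2], [], [], [], []], [[], [], [], [], [], [], [], [3, 1, 2, 0, 1], [], [], [3, 1, 2, 0], [], [1, 0], [], [], [0], [], [], [3, 1], [3], [], [], [], []], [[], [], [], [], [], [], [3, 1, 2, 0, 1], [], [], [], [2, 1, 0], [3, 1, 0], [], [], [0], [], [], [], [1], [], [], [], [], []], [[], [], [], [], [], [], [3, 1, 2, 0], [2, 1, 0], [3, 1, 0], [1, 0], [], [], [], [], [], [], [], [], [], [], [], [], [], []], [[], [], [], [], [3, 1, 2, 0, 1],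 [3, 1, 2, 0], [], [], [], [], [], [], [2, 1], [3, 1], [], [2], [3], [], [], [], [], [], [], []], [[], [], [], [3, 1, 2, 0, 1], [], [2, 1, 0], [], [], [], [], [], [3, 1, 2], [], [1], [2], [], [], [], [], [], [], [], [], []], [[], [], [3, 1, 2, 0, 1], [], [], [3, 1, 0], [], [], [], [], [3, 1, 2], [], [1], [], [3], [], [], [], [], [], [], [], [], []], [[], [3, 1, 2, 0, 1], [], [], [], [1, 0], [], [], [], [], [2, 1], [3, 1], [], [], [], [], [], [], [], [], [], [], [], []], [[], [], [], [3, 1, 2, 0], [2, 1, 0], [], [], [], [3, 1, 2], [2, 1], [], [], [], [], [], [], [], [], [], [], [], [], [], []], [[], [], [3, 1, 2, 0], [], [3, 1, 0], [], [], [3, 1, 2], [], [3, 1], [], [], [], [], [], [], [], [], [], [], [], [], [], []], [[], [2, 1, 0], [], [1, 0], [], [], [2, 1], [], [1], [], [], [], [], [], [], [], [], [], [], [], [], [], [],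 []], [[], [3, 1, 0], [1, 0], [], [], [], [3, 1], [1], [], [], [], [], [], [], [], [], [], [], [], [], [], [], [], []], [[3, 1, 2, 0], [], [], [], [0], [], [], [2], [3], [], [], [], [], [], [], [], [], [], [], [], [], [], [], []], [[2, 1, 0], [], [], [0], [], [], [2], [], [], [], [], [], [], [], [], [], [], [], [], [], [], [], [], []], [[3, 1, 0], [], [0], [], [], [], [3], [], [], [], [], [], [], [], [], [], [], [], [], [], [], [], [], []], [[1, 0], [0], [], [], [], [], [], [], [], [], [], [], [], [], [], [], [], [], [], [], [], [], [], []], [[], [3, 1, 2], [2, 1], [3, 1], [1], [], [], [], [], [], [], [], [], [], [], [], [], [], [], [], [], [], [], []], [[3, 1, 2], [], [2], [3], [], [], [], [], [], [], [], [], [], [], [], [], [], [], [], [], [], [], [], []], [[2, 1], [2], [], [], [], [], [], [], [], [], [], [], [], [], [],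 [], [], [], [], [], [], [], [], []], [[3, 1], [3], [], [], [], [], [], [], [], [], [], [], [], [], [], [], [], [], [], [], [], [], [], []], [[1], [], [], [], [], [], [], [], [], [], [], [], [], [], [], [], [], [], [], [], [], [], [], []], [[], [], [], [], [], [], [], [], [], [], [], [], [], [], [], [], [], [], [], [], [], [], [], []]]
  gs := [1, 0, 0, 0, 0, 1, 0, 0, 0, 0, 1, 1, 1, 1, 0, 0, 0, 0, 1, 0, 0, 0, 0, 1]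

set_option maxRecDepth 1000000 in
set_option maxHeartbeats 0 in
theorem fdD4_ChkZS : ∀ r < fdD4.n, ∀ s < fdD4.n, s ≠ r → s ≠ fdD4.n - 1 - r → fdD4.ChkZS fxD4 ztD4 r s := by
  decide +kernel

set_option maxRecDepth 1000000 in
theorem fdD4_ChkGS : ∀ r < fdD4.n, fdD4.ChkGS ztD4 r := by decide +kernel

end Cfsg.Agent.Lib.H29.Chev
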