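import Mathlib
import Cfsg.Agent.Lib.H29.ChevTL6
import Cfsg.Agent.Lib.H29.ChevDataB2
import Cfsg.Agent.Lib.H29.ChevDataXB2

/-! Auxiliary roots and Weyl words for the lifting of Steinberg's relations by the torus, type B2 (generated) -/

set_option autoImplicit false

namespace Cfsg.Agent.Lib.H29.Chev

def ztB2 : ZT where
  gam := [[0, 2, 1, 0, 0, 1, 2, 0], [3, 0, 1, 0, 0, 1, 0, 3], [3, 2, 0, 0, 0, 0, 2, 3], [3, 2, 1, 0, 0, 1, 2, 3], [3, 2, 1, 0, 0, 1, 2, 3], [3, 2, 0, 0, 0, 0, 2, 3], [3, 0, 1, 0, 0, 1, 0, 3], [0, 2, 1, 0, 0, 1, 2, 0]]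
  wd := [[[], [], [], [], [], [0, 1], [0], []], [[], [], [1, 0], [], [1, 0], [1], [], [1]], [[], [1, 0], [], [0, 1, 0], [], [], [], []], [[], [], [0, 1, 0], [], [], [], [], []], [[], [1, 0], [], [], [], [], [], []], [[0, 1], [1], [], [], [], [], [], []], [[0], [], [], [], [], [], [], []], [[], [1], [], [], [], [], [], []]]
  gs := [0, 0, 0, 0, 0, 0, 0, 0]

set_option maxRecDepth 1000000 in
set_option maxHeartbeats 0 in
theorem fdB2_ChkZS : ∀ r < fdB2.n, ∀ s < fdB2.n, s ≠ r → s ≠ fdB2.n - 1 - r → fdB2.ChkZS fxB2 ztB2 r s := by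
  decide +kernel

set_option maxRecDepth 1000000 in
theorem fdB2_ChkGS_short : ∀ r ∈ [1, 2, 5, 6], fdB2.ChkGS ztB2 r := by decide +kernel

set_option maxRecDepth 1000000 in
theorem fdB2_ChkLR : fdB2.ChkLR 0 3 2 1 3 ∧ fdB2.ChkLR 3 0 5 1 0 ∧ fdB2.ChkLR 4 0 6 2 0 ∧ fdB2.ChkLR 7 3 6 5 3 := by
  decide +kernel

end Cfsg.Agent.Lib.H29.Chev
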