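import Cfsg.Agent.Lib.H29.OrthFrame
import Cfsg.Agent.Lib.H29.Tensor

/-!
# Symmetric bilinear forms (as functions) over `F₃`: frames and similitudes (helper29)
-/

set_option autoImplicit false

namespace Cfsg.Agent.Lib.H29.SymmF3

open Cfsg.Geo Matrix QuadraticMap Module Cfsg.Agent.Lib.H29.Orth Cfsg.Agent.Lib.H29.Tensor

variable {κ : Type} [Fintype κ] [DecidableEq κ] {F : Type*} [Field F]

/-- the quadratic form `x ↦ f x x` of a symmetric bilinear form -/
noncomputable def qfOfSymm (f : (κ → F) → (κ → F) → F) (hf : IsSymmetricForm f) :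
    QuadraticForm F (κ → F) :=
  QuadraticMap.ofPolar (fun x => f x x)
    (fun a x => by
      rw [hf.bilinear.smul_left, hf.bilinear.smul_right, smul_eq_mul, mul_assoc])
    (fun x x' y => by
      unfold polar
      simp only [hf.bilinear.add_left, hf.bilinear.add_right]
      ring)
    (fun a x y => by
      unfold polar
      simp only [hf.bilinear.add_left, hf.bilinear.add_right, hf.bilinear.smul_left,
        hf.bilinear.smul_right, smul_eq_mul]
      ring)

theorem qfOfSymm_apply (f : (κ → F) → (κ → F) → F) (hf : IsSymmetricForm f) (x : κ → F) :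
    qfOfSymm f hf x = f x x := rfl

theorem polar_qfOfSymm (f : (κ → F) → (κ → F) → F) (hf : IsSymmetricForm f) (x y : κ → F) :
    polar (qfOfSymm f hf) x y = 2 * f x y := by
  unfold polar
  simp only [qfOfSymm_apply, hf.bilinear.add_left, hf.bilinear.add_right]
  rw [hf.symm y x]
  ring

/-- an orthogonal basis of non-singular vectors -/
theorem exists_orth_basis_symm (h2 : (2 : F) ≠ 0) (f : (κ → F) → (κ → F) → F)
    (hf : IsSymmetricForm f) {k : ℕ} (hk : Fintype.card κ = k) :
    ∃ b : Fin k → (κ → F), (∀ j j', j ≠ j' → f (b j) (b j') = 0) ∧ (∀ j, f (b j) (b j) ≠ 0) ∧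
      ∀ x, ∃ c : Fin k → F, x = ∑ j, c j • b j := by
  have hfr : finrank F (⊤ : Submodule F (κ → F)) = k := by
    rw [finrank_top, Module.finrank_fintype_fun_eq_card, hk]
  have hnd : Cfsg.Geo.IsNondegenerateOn (polar (⇑(qfOfSymm f hf))) (⊤ : Submodule F (κ → F)) := by
    intro w _ hw
    obtain ⟨⟨x, hx⟩, ⟨y, hy⟩⟩ := hf.nondegenerate w hw
    refine ⟨⟨x, trivial, ?_⟩, ⟨y, trivial, ?_⟩⟩
    · rw [polar_qfOfSymm]; exact mul_ne_zero h2 hx
    · rw [polar_qfOfSymm]; exact mul_ne_zero h2 hy
  obtain ⟨b, hbD, hbo, hbQ⟩ := exists_orth_basis (qfOfSymm f hf) h2 ⊤ hfr hnd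
  have hsp := span_of_orth (qfOfSymm f hf) h2 ⊤ hfr b hbD hbo hbQ
  refine ⟨b, ?_, ?_, fun x => hsp x trivial⟩
  · intro j j' hne
    have := hbo j j' hne
    rw [polar_qfOfSymm] at this
    rcases mul_eq_zero.mp this with h | h
    · exact absurd h h2
    · exact h
  · intro j
    exact hbQ j

section F3

variable [Fintype F]

/-- if `∑ c_j² = 1` over `F₃` with at most three terms, exactly one `c_j` is non-zero -/
theorem sum_sq_eq_one (hq : Fintype.card F = 3) {k : ℕ} (hk3 : k ≤ 3) (c : Fin k → F)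
    (h : ∑ j, c j * c j = 1) : ∃ a, (c a = 1 ∨ c a = -1) ∧ ∀ j, j ≠ a → c j = 0 := by
  classical
  have h3 := f3_three (F := F) hq
  have hcount : (∑ j, c j * c j) = ((Finset.univ.filter fun j => c j ≠ 0).card : F) := by
    rw [← Finset.sum_boole]
    refine Finset.sum_congr rfl fun j _ => ?_
    rw [f3_mul_self hq]
    by_cases h : c j = 0 <;> simp [h]
  rw [hcount] at h
  have hle : (Finset.univ.filter fun j => c j ≠ 0).card ≤ 3 := by
    calc _ ≤ (Finset.univ : Finset (Fin k)).card := Finset.card_filter_le _ _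
      _ = k := by simp
      _ ≤ 3 := hk3
  have hone : (Finset.univ.filter fun j => c j ≠ 0).card = 1 := by
    generalize (Finset.univ.filter fun j => c j ≠ 0).card = N at h hle
    interval_cases N
    · exfalso
      simp at h
    · rfl
    · exfalso
      have : (1 : F) = 0 := by
        have h' := h
        push_cast at h'
        linear_combination h'
      exact one_ne_zero this
    · exfalso
      have : (1 : F) = 0 := by
        have h' := h
        push_cast at h'
        linear_combination h3 - h'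
      exact one_ne_zero this
  obtain ⟨a, ha⟩ := Finset.card_eq_one.mp hone
  have hca : c a ≠ 0 := by
    have : a ∈ Finset.univ.filter fun j => c j ≠ 0 := by rw [ha]; exact Finset.mem_singleton_self a
    exact (Finset.mem_filter.mp this).2
  refine ⟨a, ?_, ?_⟩
  · rcases f3_cases hq (c a) with h | h | h
    · exact absurd h hca
    · exact Or.inl h
    · exact Or.inr h
  · intro j hj
    by_contra h0
    have : j ∈ Finset.univ.filter fun j => c j ≠ 0 := Finset.mem_filter.mpr ⟨Finset.mem_univ j, h0⟩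
    rw [ha] at this
    exact hj (Finset.mem_singleton.mp this)

/-- a three-dimensional symmetric form over `F₃` has an orthogonal basis of equal norm `d`, and
the vectors of norm `d` are exactly the basis vectors and their negatives -/
theorem exists_frame_three (hq : Fintype.card F = 3) (f : (Fin 3 → F) → (Fin 3 → F) → F)
    (hf : IsSymmetricForm f) :
    ∃ (b : Fin 3 → (Fin 3 → F)) (d : F), d ≠ 0 ∧ (∀ j j', j ≠ j' → f (b j) (b j') = 0) ∧
      (∀ j, f (b j) (b j) = d) ∧ ∀ x, f x x = d → ∃ a, x = b a ∨ x = -b a := by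
  have h2 := f3_two_ne (F := F) hq
  have hfr : finrank F (⊤ : Submodule F (Fin 3 → F)) = 3 := by
    rw [finrank_top, Module.finrank_fintype_fun_eq_card, Fintype.card_fin]
  have hnd : Cfsg.Geo.IsNondegenerateOn (polar (⇑(qfOfSymm f hf)))
      (⊤ : Submodule F (Fin 3 → F)) := by
    intro w _ hw
    obtain ⟨⟨x, hx⟩, ⟨y, hy⟩⟩ := hf.nondegenerate w hw
    refine ⟨⟨x, trivial, ?_⟩, ⟨y, trivial, ?_⟩⟩
    · rw [polar_qfOfSymm]; exact mul_ne_zero h2 hx
    · rw [polar_qfOfSymm]; exact mul_ne_zero h2 hy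
  obtain ⟨b₀, hb₀D, hb₀o, hb₀Q⟩ := exists_orth_basis (qfOfSymm f hf) h2 ⊤ hfr hnd
  obtain ⟨b, d, hd, hbD, hbo, hbQ⟩ := equalize_three hq (qfOfSymm f hf) ⊤ b₀ hb₀D hb₀o hb₀Q
  have hsp := span_of_orth (qfOfSymm f hf) h2 ⊤ hfr b hbD hbo (fun j => by rw [hbQ]; exact hd)
  refine ⟨b, d, hd, ?_, hbQ, ?_⟩
  · intro j j' hne
    have := hbo j j' hne
    rw [polar_qfOfSymm] at this
    rcases mul_eq_zero.mp this with h | h
    · exact absurd h h2
    · exact h
  · intro x hx
    obtain ⟨c, rfl⟩ := hsp x trivial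
    have hx' : qfOfSymm f hf (∑ j, c j • b j) = d := hx
    rw [Q_sum_orth (qfOfSymm f hf) b hbo c] at hx'
    have hx'' : (∑ j, c j * c j) * d = 1 * d := by
      rw [Finset.sum_mul, one_mul]
      have : ∑ j, c j * c j * d = ∑ j, c j * c j * qfOfSymm f hf (b j) :=
        Finset.sum_congr rfl fun j _ => by rw [hbQ]
      rw [this, hx']
    obtain ⟨a, ha, hj⟩ := sum_sq_eq_one hq le_rfl c (mul_right_cancel₀ hd hx'')
    have hsum : ∑ j, c j • b j = c a • b a := by
      apply Finset.sum_eq_single a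
      · intro j _ hja
        rw [hj j hja, zero_smul]
      · intro h
        exact absurd (Finset.mem_univ a) h
    refine ⟨a, ?_⟩
    rw [hsum]
    rcases ha with h | h
    · left; rw [h, one_smul]
    · right; rw [h, neg_smul, one_smul]

/-- three pairwise orthogonal non-singular vectors, the first two of equal norm -/
theorem exists_three_vectors (hq : Fintype.card F = 3) {n : ℕ} (hn : 3 ≤ n)
    (f : (Fin n → F) → (Fin n → F) → F) (hf : IsSymmetricForm f) :
    ∃ (z₁ z₂ z₃ : Fin n → F) (δ δ₃ : F), δ ≠ 0 ∧ δ₃ ≠ 0 ∧ f z₁ z₁ = δ ∧ f z₂ z₂ = δ ∧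
      f z₃ z₃ = δ₃ ∧ f z₁ z₂ = 0 ∧ f z₁ z₃ = 0 ∧ f z₂ z₃ = 0 := by
  have h2 := f3_two_ne (F := F) hq
  obtain ⟨b, hbo, hbQ, -⟩ := exists_orth_basis_symm h2 f hf (Fintype.card_fin n)
  let j0 : Fin n := ⟨0, by omega⟩
  let j1 : Fin n := ⟨1, by omega⟩
  let j2 : Fin n := ⟨2, by omega⟩
  have n01 : j0 ≠ j1 := by simp [j0, j1, Fin.ext_iff]
  have n02 : j0 ≠ j2 := by simp [j0, j2, Fin.ext_iff]
  have n12 : j1 ≠ j2 := by simp [j1, j2, Fin.ext_iff]
  have pm : ∀ j, f (b j) (b j) = 1 ∨ f (b j) (b j) = -1 := by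
    intro j
    rcases f3_cases hq (f (b j) (b j)) with h | h | h
    · exact absurd h (hbQ j)
    · exact Or.inl h
    · exact Or.inr h
  by_cases h01 : f (b j0) (b j0) = f (b j1) (b j1)
  · exact ⟨b j0, b j1, b j2, _, _, hbQ j0, hbQ j2, rfl, h01.symm, rfl, hbo _ _ n01, hbo _ _ n02,
      hbo _ _ n12⟩
  · by_cases h02 : f (b j0) (b j0) = f (b j2) (b j2)
    · exact ⟨b j0, b j2, b j1, _, _, hbQ j0, hbQ j1, rfl, h02.symm, rfl, hbo _ _ n02,
        hbo _ _ n01, hbo _ _ n12.symm⟩
    · have h12 : f (b j2) (b j2) = f (b j1) (b j1) := by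
        rcases pm j0 with h | h <;> rcases pm j1 with h' | h' <;> rcases pm j2 with h'' | h'' <;>
          rw [h, h'] at h01 <;> rw [h, h''] at h02 <;> rw [h', h''] <;> simp at h01 h02
      exact ⟨b j1, b j2, b j0, _, _, hbQ j1, hbQ j0, rfl, h12, rfl, hbo _ _ n12, hbo _ _ n01.symm,
        hbo _ _ n02.symm⟩

/-- a similitude of a three-dimensional symmetric form over `F₃` is an isometry -/
theorem similitude_three (hq : Fintype.card F = 3) (f : (Fin 3 → F) → (Fin 3 → F) → F)
    (hf : IsSymmetricForm f) (A : GL (Fin 3) F) (lam : F)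
    (h : ∀ u u', f ((A : Matrix (Fin 3) (Fin 3) F) *ᵥ u) ((A : Matrix (Fin 3) (Fin 3) F) *ᵥ u')
      = lam * f u u') : lam = 1 := by
  have hG : (A : Matrix (Fin 3) (Fin 3) F)ᵀ * gramMatrix f * (A : Matrix (Fin 3) (Fin 3) F)
      = lam • gramMatrix f := by
    ext a b
    have := h (Pi.single a 1) (Pi.single b 1)
    rw [form_eq_gram hf.bilinear] at this
    rw [Matrix.smul_apply, smul_eq_mul]
    conv_rhs => rw [gramMatrix]
    rw [← this]
    unfold formOfGram
    simp only [Matrix.mulVec_single_one, Matrix.col_apply, id, Matrix.mul_apply,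
      Matrix.transpose_apply, Finset.sum_mul]
    rw [Finset.sum_comm]
  have hdet := congrArg Matrix.det hG
  rw [Matrix.det_mul, Matrix.det_mul, Matrix.det_transpose, Matrix.det_smul, Fintype.card_fin]
    at hdet
  have hGdet : (gramMatrix f).det ≠ 0 := by
    intro h0
    obtain ⟨v, hv0, hv⟩ := Matrix.exists_mulVec_eq_zero_iff.mpr h0
    obtain ⟨⟨x, hx⟩, -⟩ := hf.nondegenerate v hv0
    apply hx
    rw [form_eq_gram hf.bilinear]
    unfold formOfGram
    have : ∀ a, ∑ b, x a * gramMatrix f a b * id (v b) = x a * (gramMatrix f *ᵥ v) a := by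
      intro a
      simp only [Matrix.mulVec, dotProduct, Finset.mul_sum, id, mul_assoc]
    simp only [this, hv, Pi.zero_apply, mul_zero, Finset.sum_const_zero]
  have hA : (A : Matrix (Fin 3) (Fin 3) F).det ≠ 0 := by
    have := A.isUnit
    exact ((Matrix.isUnit_iff_isUnit_det _).mp this).ne_zero
  have hAA : (A : Matrix (Fin 3) (Fin 3) F).det * (A : Matrix (Fin 3) (Fin 3) F).det = 1 := by
    rcases f3_cases hq (A : Matrix (Fin 3) (Fin 3) F).det with h | h | h
    · exact absurd h hA
    · rw [h, one_mul]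
    · rw [h]; ring
  have hlam : lam ^ 3 = lam := by
    have := FiniteField.pow_card lam
    rwa [hq] at this
  have : lam * (gramMatrix f).det = 1 * (gramMatrix f).det := by
    rw [one_mul]
    calc lam * (gramMatrix f).det = lam ^ 3 * (gramMatrix f).det := by rw [hlam]
      _ = (A : Matrix (Fin 3) (Fin 3) F).det * (gramMatrix f).det
            * (A : Matrix (Fin 3) (Fin 3) F).det := hdet.symm
      _ = ((A : Matrix (Fin 3) (Fin 3) F).det * (A : Matrix (Fin 3) (Fin 3) F).det)
            * (gramMatrix f).det := by ring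
      _ = (gramMatrix f).det := by rw [hAA, one_mul]
  exact mul_right_cancel₀ hGdet this

end F3

end Cfsg.Agent.Lib.H29.SymmF3
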