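import Mathlib
import Cfsg.Agent.Lib.H14.FumDefs

/-!
# S4330-P2 (helper14 farm-out; helper29): coprime action on a finite abelian group, `V = C_V(B) × [V,B]`.

`σ(v) = ∏_{b ∈ B} b v` is an endomorphism with values in `C_V(B)`, killing `[V,B]`, equal to `v ↦ v^|B|` on `C_V(B)`.
-/

set_option autoImplicit false

namespace Cfsg.Agent.Lib.H29.Fum

open Cfsg.Agent.Lib.H14.Fum

universe u

section

variable {V : Type u} [CommGroup V]

/-- The trace map `σ(v) = ∏_{b ∈ B} b v`. -/
noncomputable def tr (B : Subgroup (MulAut V)) [Fintype ↥B] (v : V) : V :=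
  ∏ b : ↥B, (b : MulAut V) v

variable (B : Subgroup (MulAut V)) [Fintype ↥B]

theorem tr_mul (x y : V) : tr B (x * y) = tr B x * tr B y := by
  unfold tr
  simp only [map_mul]
  exact Finset.prod_mul_distrib

theorem tr_one : tr B (1 : V) = 1 := by
  unfold tr
  simp

theorem tr_inv (x : V) : tr B x⁻¹ = (tr B x)⁻¹ := by
  apply eq_inv_of_mul_eq_one_left
  rw [← tr_mul, inv_mul_cancel, tr_one]

theorem tr_mem_fixedPts (v : V) : tr B v ∈ fixedPts B := by
  intro c hc
  unfold tr
  rw [map_prod]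
  exact Fintype.prod_equiv (Equiv.mulLeft (⟨c, hc⟩ : ↥B)) _ _ (fun b => rfl)

theorem tr_of_mem_fixedPts {v : V} (hv : v ∈ fixedPts B) : tr B v = v ^ Fintype.card ↥B := by
  unfold tr
  have h : ∀ b : ↥B, (b : MulAut V) v = v := fun b => hv b.1 b.2
  rw [Finset.prod_congr rfl (fun b _ => h b), Finset.prod_const, Finset.card_univ]

theorem tr_apply {c : MulAut V} (hc : c ∈ B) (v : V) : tr B (c v) = tr B v := by
  unfold tr
  exact Fintype.prod_equiv (Equiv.mulRight (⟨c, hc⟩ : ↥B)) _ _ (fun b => rfl)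

theorem tr_eq_one_of_mem_commPts {v : V} (hv : v ∈ commPts B) : tr B v = 1 := by
  unfold commPts at hv
  induction hv using Subgroup.closure_induction with
  | mem x hx =>
    obtain ⟨b, hb, w, rfl⟩ := hx
    rw [tr_mul, tr_inv, tr_apply B hb, mul_inv_cancel]
  | one => exact tr_one B
  | mul x y _ _ hx hy => rw [tr_mul, hx, hy, one_mul]
  | inv x _ hx => rw [tr_inv, hx, inv_one]

/-- `v ^ |B| = σ(v) · ∏_b (v · (b v)⁻¹)`. -/
theorem pow_card_eq_tr_mul (v : V) :
    v ^ Fintype.card ↥B = tr B v * ∏ b : ↥B, (v * ((b : MulAut V) v)⁻¹) := by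
  unfold tr
  rw [← Finset.prod_mul_distrib]
  have h : ∀ b : ↥B, (b : MulAut V) v * (v * ((b : MulAut V) v)⁻¹) = v := fun b => by
    rw [mul_comm v, mul_inv_cancel_left]
  rw [Finset.prod_congr rfl (fun b _ => h b), Finset.prod_const, Finset.card_univ]

theorem prod_mem_commPts (v : V) : ∏ b : ↥B, (v * ((b : MulAut V) v)⁻¹) ∈ commPts B := by
  apply Subgroup.prod_mem
  intro b _
  have h : (b : MulAut V) v * v⁻¹ ∈ commPts B :=
    Subgroup.subset_closure ⟨b, b.2, v, rfl⟩
  have := (commPts B).inv_mem h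
  rwa [mul_inv_rev, inv_inv] at this

end

section

variable {V : Type u} [CommGroup V] [Finite V] {p : ℕ} [Fact p.Prime]

theorem coprime_card_FumP2 (hcop : (Nat.card V).Coprime p) (B : Subgroup (MulAut V))
    (hB : IsPGroup p B) [Fintype ↥B] : (Nat.card V).Coprime (Fintype.card ↥B) := by
  obtain ⟨k, hk⟩ := IsPGroup.iff_card.mp hB
  rw [← Nat.card_eq_fintype_card, hk]
  exact Nat.Coprime.pow_right k hcop

/-- **S4330-P2a**. -/
theorem fixedPts_inf_commPts (hcop : (Nat.card V).Coprime p) (B : Subgroup (MulAut V))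
    (hB : IsPGroup p B) : fixedPts B ⊓ commPts B = ⊥ := by
  have hfin : Fintype ↥B := Fintype.ofFinite ↥B
  have hc := coprime_card_FumP2 hcop B hB
  rw [eq_bot_iff]
  intro v hv
  rw [Subgroup.mem_inf] at hv
  rw [Subgroup.mem_bot]
  have h1 := tr_of_mem_fixedPts B hv.1
  have h2 := tr_eq_one_of_mem_commPts B hv.2
  rw [h2] at h1
  have := (powCoprime hc).injective (a₁ := v) (a₂ := 1)
  apply this
  simp only [powCoprime_apply, one_pow]
  exact h1.symm

/-- **S4330-P2b**. -/
theorem fixedPts_sup_commPts (hcop : (Nat.card V).Coprime p) (B : Subgroup (MulAut V))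
    (hB : IsPGroup p B) : fixedPts B ⊔ commPts B = ⊤ := by
  have hfin : Fintype ↥B := Fintype.ofFinite ↥B
  have hc := coprime_card_FumP2 hcop B hB
  rw [eq_top_iff]
  intro w _
  obtain ⟨v, hv⟩ := (powCoprime hc).surjective w
  rw [powCoprime_apply] at hv
  rw [← hv, pow_card_eq_tr_mul B v]
  exact Subgroup.mul_mem_sup (tr_mem_fixedPts B v) (prod_mem_commPts B v)

end

end Cfsg.Agent.Lib.H29.Fum
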