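import Mathlib
import Cfsg.Prelude.Def_LieTwisted
import Cfsg.Agent.Lib.H29.ChevTwE6a
import Cfsg.Agent.Lib.H29.ChevTw24
import Cfsg.Agent.Lib.H29.ChevTw8

/-!
# The twisted group of type `E₆`: the `σ`-fixed elements of the torus
-/

set_option autoImplicit false
set_option linter.unusedSectionVars false
set_option linter.unusedSimpArgs false
set_option linter.unusedVariables false

namespace Cfsg.Agent.Lib.H29.Chev

open Cfsg.Lie Matrix

variable {K : Type*} [Field K] (φ : K →+* K)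

/-- the `σ`-fixed element of the torus with the given coordinates -/
def vecE6 (s1 s3 t0 t2 : Kˣ) : Fin fdE6.l → Kˣ := fun i =>
  if i.val = 0 then t0 else if i.val = 1 then s1 else if i.val = 2 then t2 else if i.val = 3 then s3
  else if i.val = 4 then Units.map φ.toMonoidHom t2 else Units.map φ.toMonoidHom t0

theorem vecE6_fix (hφk : ∀ x : K, φ^[2] x = x) (s1 s3 t0 t2 : Kˣ) (hs1 : Units.map φ.toMonoidHom s1 = s1)
    (hs3 : Units.map φ.toMonoidHom s3 = s3) :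
    sigT fdE6 gaE6a 2 φ (vecE6 φ s1 s3 t0 t2) = vecE6 φ s1 s3 t0 t2 := by
  funext ⟨i, hi⟩
  have hi' : i < 6 := hi
  show (if h : rhIt gaE6a (2 - 1) i < fdE6.l then
    Units.map φ.toMonoidHom (vecE6 φ s1 s3 t0 t2 ⟨rhIt gaE6a (2 - 1) i, h⟩) else 1) = vecE6 φ s1 s3 t0 t2 ⟨i, hi⟩
  have e0 : rhIt gaE6a (2 - 1) 0 = 5 := rfl
  have e1 : rhIt gaE6a (2 - 1) 1 = 1 := rfl
  have e2 : rhIt gaE6a (2 - 1) 2 = 4 := rfl
  have e3 : rhIt gaE6a (2 - 1) 3 = 3 := rfl
  have e4 : rhIt gaE6a (2 - 1) 4 = 2 := rfl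
  have e5 : rhIt gaE6a (2 - 1) 5 = 0 := rfl
  have hl : fdE6.l = 6 := rfl
  interval_cases i
  · simp only [e0, hl, vecE6]
    norm_num
    apply Units.ext
    exact hφk (t0 : K)
  · simp only [e1, hl, vecE6]
    norm_num
    exact hs1
  · simp only [e2, hl, vecE6]
    norm_num
    apply Units.ext
    exact hφk (t2 : K)
  · simp only [e3, hl, vecE6]
    norm_num
    exact hs3
  · simp only [e4, hl, vecE6]
    norm_num
  · simp only [e5, hl, vecE6]
    norm_num

theorem fixE6_coord (x : Fin fdE6.l → Kˣ) (hx : sigT fdE6 gaE6a 2 φ x = x) :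
    x ⟨1, by decide⟩ = Units.map φ.toMonoidHom (x ⟨1, by decide⟩) ∧
    x ⟨3, by decide⟩ = Units.map φ.toMonoidHom (x ⟨3, by decide⟩) ∧
    x ⟨4, by decide⟩ = Units.map φ.toMonoidHom (x ⟨2, by decide⟩) ∧
    x ⟨5, by decide⟩ = Units.map φ.toMonoidHom (x ⟨0, by decide⟩) :=
  ⟨cert12_E6.fix_coord twE6a_spec twE6a_spec2 φ (by norm_num) x hx 1 (by decide) 1,
   cert12_E6.fix_coord twE6a_spec twE6a_spec2 φ (by norm_num) x hx 3 (by decide) 1,
   cert12_E6.fix_coord twE6a_spec twE6a_spec2 φ (by norm_num) x hx 2 (by decide) 1,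
   cert12_E6.fix_coord twE6a_spec twE6a_spec2 φ (by norm_num) x hx 0 (by decide) 1⟩

/-- the `σ`-fixed elements of the torus -/
noncomputable def fixE6Equiv (hφk : ∀ x : K, φ^[2] x = x) :
    ↥(fixS (sigT fdE6 gaE6a 2 φ)) ≃
      ({u : Kˣ // Units.map φ.toMonoidHom u = u} × {u : Kˣ // Units.map φ.toMonoidHom u = u}) × (Kˣ × Kˣ) where
  toFun := fun x => ((⟨x.val ⟨1, by decide⟩, ((fixE6_coord φ x.val x.property).1).symm⟩,
    ⟨x.val ⟨3, by decide⟩, ((fixE6_coord φ x.val x.property).2.1).symm⟩),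
    (x.val ⟨0, by decide⟩, x.val ⟨2, by decide⟩))
  invFun := fun p => ⟨vecE6 φ p.1.1.val p.1.2.val p.2.1 p.2.2,
    vecE6_fix φ hφk p.1.1.val p.1.2.val p.2.1 p.2.2 p.1.1.property p.1.2.property⟩
  left_inv := by
    rintro ⟨x, hx⟩
    apply Subtype.ext
    obtain ⟨_, _, h4, h5⟩ := fixE6_coord φ x hx
    funext ⟨i, hi⟩
    have hi' : i < 6 := hi
    interval_cases i
    · rfl
    · rfl
    · rfl
    · rfl
    · exact h4.symm
    · exact h5.symm
  right_inv := by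
    rintro ⟨⟨⟨s1, hs1⟩, ⟨s3, hs3⟩⟩, ⟨t0, t2⟩⟩
    rfl

theorem card_fixE6 [Finite K] (q : ℕ) (hq : 1 ≤ q) (hK : Nat.card K = q ^ 2) (hφ : ∀ x, φ x = x ^ q)
    (hφk : ∀ x : K, φ^[2] x = x) :
    Nat.card ↥(fixS (sigT fdE6 gaE6a 2 φ)) = ((q - 1) * (q - 1)) * ((q ^ 2 - 1) * (q ^ 2 - 1)) := by
  have h0 : Nat.card {u : Kˣ // Units.map φ.toMonoidHom u = u} = q - 1 := by
    rw [← card_units_pow_eq (K := K) q 2 (by norm_num) hq hK]
    apply Nat.card_congr
    apply Equiv.subtypeEquivRight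
    intro u
    constructor
    · intro h
      apply Units.ext
      rw [Units.val_pow_eq_pow_val, ← hφ]
      exact congrArg Units.val h
    · intro h
      apply Units.ext
      have := congrArg Units.val h
      rw [Units.val_pow_eq_pow_val, ← hφ] at this
      exact this
  rw [Nat.card_congr (fixE6Equiv φ hφk), Nat.card_prod, Nat.card_prod, Nat.card_prod, Nat.card_units, hK, h0]

end Cfsg.Agent.Lib.H29.Chev
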