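import Mathlib
import Cfsg.Prelude.Def_LieTwisted
import Cfsg.Agent.Lib.H29.ChevTwE6b

/-!
# The twisted group of type `E₆`: the kernel of the map from the `σ`-fixed elements of the torus
-/

set_option autoImplicit false
set_option linter.unusedSectionVars false
set_option linter.unusedSimpArgs false
set_option linter.unusedVariables false

namespace Cfsg.Agent.Lib.H29.Chev

open Cfsg.Lie Matrix

variable {K : Type*} [Field K] (φ : K →+* K)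

set_option maxRecDepth 100000 in
theorem carE6_tbl : ∀ i < 6, ∀ j < 6, fdE6.carZ i (fdE6.simples.getD j 0) =
    tblGet [[2, 0, -1, 0, 0, 0], [0, 2, 0, -1, 0, 0], [-1, 0, 2, -1, 0, 0], [0, -1, -1, 2, -1, 0],
      [0, 0, 0, -1, 2, -1], [0, 0, 0, 0, -1, 2]] i j := by decide +kernel

theorem cartM_E6 : Cert12.cartM fdE6 =
    (!![2, 0, -1, 0, 0, 0; 0, 2, 0, -1, 0, 0; -1, 0, 2, -1, 0, 0; 0, -1, -1, 2, -1, 0;
      0, 0, 0, -1, 2, -1; 0, 0, 0, 0, -1, 2] : Matrix (Fin 6) (Fin 6) ℤ) := by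
  funext i j
  have hi : i.val < 6 := i.isLt
  have hj : j.val < 6 := j.isLt
  show fdE6.carZ i.val (fdE6.simples.getD j.val 0) = _
  rw [carE6_tbl i.val hi j.val hj]
  obtain ⟨i, _⟩ := i
  obtain ⟨j, _⟩ := j
  simp only at hi hj
  interval_cases i <;> interval_cases j <;> rfl

/-- the equations of the kernel -/
theorem ker_E6_iff (x : Fin fdE6.l → Kˣ) :
    torusHom (Cert12.cartM fdE6) x = 1 ↔
      (x (0 : Fin 6) ^ 2 * (x (2 : Fin 6))⁻¹ = 1 ∧ x (1 : Fin 6) ^ 2 * (x (3 : Fin 6))⁻¹ = 1 ∧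
      (x (0 : Fin 6))⁻¹ * x (2 : Fin 6) ^ 2 * (x (3 : Fin 6))⁻¹ = 1 ∧
      (x (1 : Fin 6))⁻¹ * (x (2 : Fin 6))⁻¹ * x (3 : Fin 6) ^ 2 * (x (4 : Fin 6))⁻¹ = 1 ∧
      (x (3 : Fin 6))⁻¹ * x (4 : Fin 6) ^ 2 * (x (5 : Fin 6))⁻¹ = 1 ∧
      (x (4 : Fin 6))⁻¹ * x (5 : Fin 6) ^ 2 = 1) := by
  rw [cartM_E6]
  generalize hM : (!![2, 0, -1, 0, 0, 0; 0, 2, 0, -1, 0, 0; -1, 0, 2, -1, 0, 0; 0, -1, -1, 2, -1, 0;
      0, 0, 0, -1, 2, -1; 0, 0, 0, 0, -1, 2] : Matrix (Fin 6) (Fin 6) ℤ) = M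
  have hj : ∀ j : Fin 6, torusHom M x j = ∏ i : Fin 6, x i ^ (M i j) :=
    fun j => torusHom_apply M x j
  have h0 := hj 0
  have h1 := hj 1
  have h2 := hj 2
  have h3 := hj 3
  have h4 := hj 4
  have h5 := hj 5
  rw [Fin.prod_univ_six] at h0 h1 h2 h3 h4 h5
  simp only [← hM] at h0 h1 h2 h3 h4 h5
  simp at h0 h1 h2 h3 h4 h5
  rw [hM] at h0 h1 h2 h3 h4 h5
  constructor
  · intro h
    exact ⟨h0.symm.trans (congrFun h _), h1.symm.trans (congrFun h _), h2.symm.trans (congrFun h _),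
      h3.symm.trans (congrFun h _), h4.symm.trans (congrFun h _), h5.symm.trans (congrFun h _)⟩
  · rintro ⟨k0, k1, k2, k3, k4, k5⟩
    funext ⟨j, hj'⟩
    have hj'' : j < 6 := hj'
    interval_cases j
    · exact h0.trans k0
    · exact h1.trans k1
    · exact h2.trans k2
    · exact h3.trans k3
    · exact h4.trans k4
    · exact h5.trans k5

theorem e6_torus_fwd (a b c d e f : Kˣ) (k0 : a ^ 2 * c⁻¹ = 1) (k1 : b ^ 2 * d⁻¹ = 1)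
    (k2 : a⁻¹ * c ^ 2 * d⁻¹ = 1) (k3 : b⁻¹ * c⁻¹ * d ^ 2 * e⁻¹ = 1) (k5 : e⁻¹ * f ^ 2 = 1)
    (ha : a ^ 3 = 1) (hb : b ^ 3 = 1) (hf : f ^ 3 = 1) :
    b = 1 ∧ c = a ^ 2 ∧ d = 1 ∧ e = a ∧ f = a ^ 2 := by
  have hc : c = a ^ 2 := (mul_inv_eq_one.mp k0).symm
  have ha' : a * a ^ 2 = 1 := by rw [← pow_succ', ha]
  have hd : d = 1 := by
    have h := mul_inv_eq_one.mp k2
    rw [← h, hc, ← pow_mul]
    have : a ^ (2 * 2) = a ^ 3 * a := by rw [← pow_succ]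
    rw [this, ha, one_mul, inv_mul_cancel]
  have hb1 : b = 1 := by
    have h := mul_inv_eq_one.mp k1
    rw [hd] at h
    have : b ^ 3 = b ^ 2 * b := pow_succ b 2
    rw [this, h, one_mul] at hb
    exact hb
  have hai : a⁻¹ = a ^ 2 := inv_eq_of_mul_eq_one_right ha'
  have he : e = a := by
    have h := mul_inv_eq_one.mp k3
    rw [hb1, hd, hc] at h
    rw [← h]
    simp only [inv_one, one_mul, one_pow, mul_one]
    rw [← hai, inv_inv]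
  have hf2 : f = a ^ 2 := by
    have h := inv_mul_eq_one.mp k5
    have hf' : f * f ^ 2 = 1 := by rw [← pow_succ', hf]
    have : f = (f ^ 2)⁻¹ := eq_inv_of_mul_eq_one_left hf'
    rw [this, ← h, he, hai]
  exact ⟨hb1, hc, hd, he, hf2⟩

theorem e6_torus_bwd (a : Kˣ) (ha : a ^ 3 = 1) :
    a ^ 2 * (a ^ 2)⁻¹ = 1 ∧ (1 : Kˣ) ^ 2 * (1 : Kˣ)⁻¹ = 1 ∧ a⁻¹ * (a ^ 2) ^ 2 * (1 : Kˣ)⁻¹ = 1 ∧
    (1 : Kˣ)⁻¹ * (a ^ 2)⁻¹ * (1 : Kˣ) ^ 2 * a⁻¹ = 1 ∧ (1 : Kˣ)⁻¹ * a ^ 2 * (a ^ 2)⁻¹ = 1 ∧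
    a⁻¹ * (a ^ 2) ^ 2 = 1 := by
  have h4 : (a ^ 2) ^ 2 = a := by
    rw [← pow_mul]
    have : a ^ (2 * 2) = a ^ 3 * a := by rw [← pow_succ]
    rw [this, ha, one_mul]
  have ha' : a ^ 2 * a = 1 := by rw [← pow_succ, ha]
  refine ⟨mul_inv_cancel _, by simp, ?_, ?_, by simp, ?_⟩
  · rw [h4]; simp
  · simp only [inv_one, one_mul, one_pow, mul_one]
    rw [← _root_.mul_inv_rev, mul_comm, ha', inv_one]
  · rw [h4]; simp

/-- the number of cube roots of unity of norm `1` -/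
theorem card_mu_E6 [Finite K] (q : ℕ) (hq : 1 ≤ q) (hK : Nat.card K = q ^ 2) :
    Nat.card {ω : Kˣ // ω ^ 3 = 1 ∧ ω ^ (q + 1) = 1} = Nat.gcd 3 (q + 1) := by
  have e : {ω : Kˣ // ω ^ 3 = 1 ∧ ω ^ (q + 1) = 1} ≃ ↥(powMonoidHom (Nat.gcd 3 (q + 1)) : Kˣ →* Kˣ).ker := by
    apply Equiv.subtypeEquivRight
    intro ω
    rw [MonoidHom.mem_ker, powMonoidHom_apply, pow_gcd_eq_one]
  rw [Nat.card_congr e, IsCyclic.card_powMonoidHom_ker, Nat.card_units, hK]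
  apply Nat.gcd_eq_right
  have h1 : q ^ 2 - 1 = (q + 1) * (q - 1) := by
    obtain ⟨m, rfl⟩ : ∃ m, q = m + 1 := ⟨q - 1, by omega⟩
    have : (m + 1) ^ 2 = (m + 1 + 1) * m + 1 := by ring
    rw [this]
    simp
  rw [h1]
  exact Dvd.dvd.mul_right (Nat.gcd_dvd_right 3 (q + 1)) _

end Cfsg.Agent.Lib.H29.Chev
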