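import Mathlib
import Cfsg.Prelude.Def_LieTwisted
import Cfsg.Agent.Lib.H29.ChevTwE6c
import Cfsg.Agent.Lib.H29.ChevTw15

/-!
# The twisted group of type `E₆`: the order of `H¹`
-/

set_option autoImplicit false
set_option linter.unusedSectionVars false
set_option linter.unusedSimpArgs false
set_option linter.unusedVariables false

namespace Cfsg.Agent.Lib.H29.Chev

open Cfsg.Lie Matrix

variable {K : Type*} [Field K] (φ : K →+* K)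

theorem units_map_pow (q : ℕ) (hφ : ∀ x, φ x = x ^ q) (u : Kˣ) : Units.map φ.toMonoidHom u = u ^ q := by
  apply Units.ext
  rw [Units.val_pow_eq_pow_val, ← hφ]
  rfl

theorem ker_chi_E6 (y : Fin fdE6.l → Kˣ) :
    y ∈ (chiHom chevE6 fdE6 K).ker ↔ torusHom (Cert12.cartM fdE6) y = 1 := by
  rw [cert12_E6.ker_chi, MonoidHom.mem_ker]

theorem kerfix_E6 (q : ℕ) (hφ : ∀ x, φ x = x ^ q) (x : Fin fdE6.l → Kˣ) (hx : sigT fdE6 gaE6a 2 φ x = x)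
    (hk : torusHom (Cert12.cartM fdE6) x = 1) :
    x (0 : Fin 6) ^ 3 = 1 ∧ x (0 : Fin 6) ^ (q + 1) = 1 ∧ x (1 : Fin 6) = 1 ∧ x (2 : Fin 6) = x (0 : Fin 6) ^ 2 ∧
    x (3 : Fin 6) = 1 ∧ x (4 : Fin 6) = x (0 : Fin 6) ∧ x (5 : Fin 6) = x (0 : Fin 6) ^ 2 := by
  have h3 := torus_ker_exp (Cert12.cartM fdE6) _ 3 (cartB_of_chk blE6 3 twE6a_cartB) x hk
  have c0 : x (0 : Fin 6) ^ 3 = 1 := congrFun h3 (0 : Fin 6)
  have c1 : x (1 : Fin 6) ^ 3 = 1 := congrFun h3 (1 : Fin 6)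
  have c5 : x (5 : Fin 6) ^ 3 = 1 := congrFun h3 (5 : Fin 6)
  obtain ⟨k0, k1, k2, k3, k4, k5⟩ := (ker_E6_iff x).mp hk
  obtain ⟨r1, r2, r3, r4, r5⟩ := e6_torus_fwd _ _ _ _ _ _ k0 k1 k2 k3 k5 c0 c1 c5
  obtain ⟨_, _, _, f5⟩ := fixE6_coord φ x hx
  have f5' : x (5 : Fin 6) = Units.map φ.toMonoidHom (x (0 : Fin 6)) := f5
  refine ⟨c0, ?_, r1, r2, r3, r4, r5⟩
  rw [units_map_pow φ q hφ, r5] at f5'
  rw [pow_succ, ← f5', ← pow_succ, c0]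

theorem mu_E6_map (q : ℕ) (hφ : ∀ x, φ x = x ^ q) (ω : Kˣ) (h3 : ω ^ 3 = 1) (hq : ω ^ (q + 1) = 1) :
    Units.map φ.toMonoidHom ω = ω ^ 2 ∧ Units.map φ.toMonoidHom (ω ^ 2) = ω := by
  have h1 : Units.map φ.toMonoidHom ω = ω ^ 2 := by
    rw [units_map_pow φ q hφ]
    have : ω ^ q * ω = ω ^ 2 * ω := by rw [← pow_succ, ← pow_succ, hq, h3]
    exact mul_right_cancel this
  refine ⟨h1, ?_⟩
  rw [map_pow, h1, ← pow_mul]
  have : ω ^ (2 * 2) = ω ^ 3 * ω := by rw [← pow_succ]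
  rw [this, h3, one_mul]

/-- the `σ`-fixed elements of the kernel -/
noncomputable def kerfixE6Equiv (q : ℕ) (hφ : ∀ x, φ x = x ^ q) (hφk : ∀ x : K, φ^[2] x = x) :
    ↥(fixS (sigT fdE6 gaE6a 2 φ) ⊓ (chiHom chevE6 fdE6 K).ker) ≃ {ω : Kˣ // ω ^ 3 = 1 ∧ ω ^ (q + 1) = 1} where
  toFun := fun x => ⟨x.val (0 : Fin 6), by
    have h1 := (Subgroup.mem_inf.mp x.property).1
    have h2 := (ker_chi_E6 _).mp (Subgroup.mem_inf.mp x.property).2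
    exact ⟨(kerfix_E6 φ q hφ x.val h1 h2).1, (kerfix_E6 φ q hφ x.val h1 h2).2.1⟩⟩
  invFun := fun ω => ⟨vecE6 φ 1 1 ω.val (ω.val ^ 2), by
    refine Subgroup.mem_inf.mpr ⟨vecE6_fix φ hφk 1 1 _ _ (map_one _) (map_one _), ?_⟩
    rw [ker_chi_E6, ker_E6_iff]
    obtain ⟨m1, m2⟩ := mu_E6_map φ q hφ ω.val ω.property.1 ω.property.2
    have hv0 : vecE6 φ 1 1 ω.val (ω.val ^ 2) (0 : Fin 6) = ω.val := rfl
    have hv1 : vecE6 φ 1 1 ω.val (ω.val ^ 2) (1 : Fin 6) = 1 := rfl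
    have hv2 : vecE6 φ 1 1 ω.val (ω.val ^ 2) (2 : Fin 6) = ω.val ^ 2 := rfl
    have hv3 : vecE6 φ 1 1 ω.val (ω.val ^ 2) (3 : Fin 6) = 1 := rfl
    have hv4 : vecE6 φ 1 1 ω.val (ω.val ^ 2) (4 : Fin 6) = ω.val := m2
    have hv5 : vecE6 φ 1 1 ω.val (ω.val ^ 2) (5 : Fin 6) = ω.val ^ 2 := m1
    rw [hv0, hv1, hv2, hv3, hv4, hv5]
    exact e6_torus_bwd ω.val ω.property.1⟩
  left_inv := by
    rintro ⟨x, hx⟩
    apply Subtype.ext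
    have h1 := (Subgroup.mem_inf.mp hx).1
    have h2 := (ker_chi_E6 _).mp (Subgroup.mem_inf.mp hx).2
    obtain ⟨_, _, r1, r2, r3, r4, r5⟩ := kerfix_E6 φ q hφ x h1 h2
    obtain ⟨_, _, f4, f5⟩ := fixE6_coord φ x h1
    funext ⟨i, hi⟩
    have hi' : i < 6 := hi
    interval_cases i
    · rfl
    · exact r1.symm
    · exact r2.symm
    · exact r3.symm
    · show Units.map φ.toMonoidHom (x (0 : Fin 6) ^ 2) = x (4 : Fin 6)
      rw [← r2]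
      exact f4.symm
    · exact f5.symm
  right_inv := by
    rintro ⟨ω, h⟩
    rfl

theorem card_H1_E6 [Finite K] (q : ℕ) (hq : 1 ≤ q) (hK : Nat.card K = q ^ 2) (hφ : ∀ x, φ x = x ^ q)
    (hφk : ∀ x : K, φ^[2] x = x) :
    Nat.gcd 3 (q + 1) * Nat.card ↥((fixS (sigT fdE6 gaE6a 2 φ)).map (chiHom chevE6 fdE6 K)) =
      ((q - 1) * (q - 1)) * ((q ^ 2 - 1) * (q ^ 2 - 1)) := by
  rw [← card_fixE6 φ q hq hK hφ hφk, ← card_map_mul_card_ker (chiHom chevE6 fdE6 K) (fixS (sigT fdE6 gaE6a 2 φ)),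
    Nat.card_congr (kerfixE6Equiv φ q hφ hφk), card_mu_E6 q hq hK, mul_comm]

end Cfsg.Agent.Lib.H29.Chev
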