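import Mathlib
import Cfsg.Prelude.Def_LieTwisted
import Cfsg.Agent.Lib.H29.ChevTwE6d

/-!
# The order of the twisted group of type `E₆`
-/

set_option autoImplicit false
set_option linter.unusedSectionVars false
set_option linter.unusedSimpArgs false
set_option linter.unusedVariables false

namespace Cfsg.Agent.Lib.H29.Chev

open Cfsg.Lie Matrix

theorem card_twistedE6 {K : Type*} [Field K] [Fintype K] {q : ℕ} (hq : IsPrimePow q)
    (hK : Fintype.card K = q ^ 2) :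
    Nat.gcd 3 (q + 1) * Nat.card ↥(twistedE6 K q) =
      q ^ 36 * (q ^ 2 - 1) * (q ^ 5 + 1) * (q ^ 6 - 1) * (q ^ 8 - 1) * (q ^ 9 + 1) * (q ^ 12 - 1) ∧
    Nat.card ↥(chevE6.posUnipotent K ⊓ twistedE6 K q) = q ^ 36 := by
  obtain ⟨φ, hφ, _, hφk⟩ := exists_frob hq hK
  have hq1 : 1 ≤ q := hq.one_lt.le
  have hKc : Nat.card K = q ^ 2 := by rw [Nat.card_eq_fintype_card, hK]
  have e : twistedE6 K q = Subgroup.closure (cert12_E6.twGen gaE6a 2 φ srE6a) := by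
    unfold twistedE6 ChevalleyDatum.genSubgroup
    rw [twGen_E6 q φ hφ]
  have key := cert12_E6.card_twGen twE6a_spec twE6a_spec2 φ (Or.inl rfl) q hq1 hKc hφ hφk twE6a_chain twE6a_ChkQ
    (by decide) twE6a_scover twE6a_O 3 (Or.inr ⟨rfl, rfl⟩) _ (cartB_of_chk blE6 3 twE6a_cartB)
    (cert12_E6.sigT_pow twE6a_spec twE6a_spec2 φ (by norm_num) hφk)
  rw [← e, twE6a_os, twE6a_poly, evalN_mulN, evalN_mulN, evalN_mulN, evalN_mulN, evalN_onesN, evalN_onesN] at key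
  refine ⟨?_, key.2⟩
  have hH := card_H1_E6 φ q hq1 hKc hφ hφk
  have h6 := sub_one_mul_geom 6 q hq1
  have h12 := sub_one_mul_geom 12 q hq1
  rw [key.1]
  simp only [evalN]
  calc Nat.gcd 3 (q + 1) * (q ^ 36 * Nat.card ↥((fixS (sigT fdE6 gaE6a 2 φ)).map (chiHom chevE6 fdE6 K)) *
        ((1 + q * (0 + q * (0 + q * (0 + q * (0 + q * (1 + q * 0)))))) *
          (1 + q * (0 + q * (0 + q * (0 + q * (0 + q * (0 + q * (0 + q * (0 + q * (0 + q * (1 + q * 0)))))))))) *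
          (∑ i ∈ Finset.range 6, q ^ i) * (∑ i ∈ Finset.range 12, q ^ i) *
          (1 + q * (0 + q * (1 + q * (0 + q * (1 + q * (0 + q * (1 + q * 0)))))))))
      = q ^ 36 * (Nat.gcd 3 (q + 1) * Nat.card ↥((fixS (sigT fdE6 gaE6a 2 φ)).map (chiHom chevE6 fdE6 K))) *
        ((1 + q ^ 5) * (1 + q ^ 9) * (∑ i ∈ Finset.range 6, q ^ i) * (∑ i ∈ Finset.range 12, q ^ i) *
          (1 + q ^ 2 + q ^ 4 + q ^ 6)) := by ring
    _ = q ^ 36 * (q ^ 2 - 1) * (q ^ 5 + 1) * ((q - 1) * ∑ i ∈ Finset.range 6, q ^ i) *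
        ((q ^ 2 - 1) * (1 + q ^ 2 + q ^ 4 + q ^ 6)) * (q ^ 9 + 1) * ((q - 1) * ∑ i ∈ Finset.range 12, q ^ i) := by
      rw [hH]; ring
    _ = _ := by
      rw [h6, h12]
      have h2 : 1 ≤ q ^ 2 := Nat.one_le_pow _ _ hq1
      have h8 : 1 ≤ q ^ 8 := Nat.one_le_pow _ _ hq1
      have : (q ^ 2 - 1) * (1 + q ^ 2 + q ^ 4 + q ^ 6) = q ^ 8 - 1 := by
        zify [h2, h8]
        ring
      rw [this]

end Cfsg.Agent.Lib.H29.Chev
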