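import Mathlib

/-!
# S4330-P1 (helper14 farm-out; helper29): a permutation `p`-group, `p` odd, has a subset with trivial setwise
stabiliser.

Strong induction on the size of an invariant subset `Δ`; in the transitive case take a proper normal subgroup `M`
containing a point stabiliser, the blocks `Fib c = r_c (M α)` (`c ∈ P/M`), a good subset `I₀` of `M α` for `M`, and
`S = I_1 ∪ ⋃_{c ≠ 1} (Fib c ∖ I_c)`; the blocks have odd size, so `|I_1| ≠ |Fib c ∖ I_c|`.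
-/

set_option autoImplicit false

namespace Cfsg.Agent.Lib.H29.Fum

universe u v

/-- Every proper subgroup of a finite `p`-group lies in a proper normal subgroup. -/
theorem exists_normal_ne_top_of_ne_top {P : Type u} [Group P] [Finite P] {p : ℕ} [Fact p.Prime]
    (hP : IsPGroup p P) (H : Subgroup P) (hH : H ≠ ⊤) :
    ∃ M : Subgroup P, M.Normal ∧ H ≤ M ∧ M ≠ ⊤ := by
  rcases eq_top_or_exists_le_coatom H with h | ⟨M, hM, hHM⟩
  · exact absurd h hH
  · have hnil : Group.IsNilpotent P := hP.isNilpotent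
    have h2 : ∀ H : Subgroup P, IsCoatom H → H.Normal :=
      ((Group.isNilpotent_of_finite_tfae (G := P)).out 0 2).mp hnil
    exact ⟨M, h2 M hM, hHM, hM.1⟩

section

variable {P : Type u} [Group P] {Ω : Type v} (f : P →* Equiv.Perm Ω)

theorem img_mul_P1 (a b : P) (A : Set Ω) : f (a * b) '' A = f a '' (f b '' A) := by
  rw [map_mul, Equiv.Perm.coe_mul, Set.image_comp]

theorem img_one_P1 (A : Set Ω) : f 1 '' A = A := by
  rw [map_one, Equiv.Perm.coe_one, Set.image_id]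

theorem apply_mul_P1 (a b : P) (ω : Ω) : f (a * b) ω = f a (f b ω) := by
  rw [map_mul, Equiv.Perm.mul_apply]

theorem apply_one_P1 (ω : Ω) : f 1 ω = ω := by
  rw [map_one, Equiv.Perm.one_apply]

theorem img_eq_of_inv_P1 {Δ : Set Ω} (hinv : ∀ g : P, ∀ ω ∈ Δ, f g ω ∈ Δ) (g : P) : f g '' Δ = Δ := by
  apply Set.Subset.antisymm
  · rintro _ ⟨ω, hω, rfl⟩
    exact hinv g ω hω
  · intro ω hω
    refine ⟨f g⁻¹ ω, hinv g⁻¹ ω hω, ?_⟩
    rw [← apply_mul_P1, mul_inv_cancel, apply_one_P1]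

/-- The point stabiliser. -/
def stabP1 (α : Ω) : Subgroup P := (MulAction.stabilizer (Equiv.Perm Ω) α).comap f

theorem mem_stabP1 {α : Ω} {g : P} : g ∈ stabP1 f α ↔ f g α = α := by
  unfold stabP1
  rw [Subgroup.mem_comap, MulAction.mem_stabilizer_iff, Equiv.Perm.smul_def]

end

/-- The transitive case, given a good subset `I₀` of the `M`-orbit of `α`. -/
theorem trans_case_P1 {p : ℕ} [Fact p.Prime] (hp : p ≠ 2) {Ω : Type v} [Finite Ω]
    {P : Type u} [Group P] [Finite P] (hP : IsPGroup p P) (f : P →* Equiv.Perm Ω)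
    (Δ : Set Ω) (α : Ω) (horb : Set.range (fun g : P => f g α) = Δ)
    (M : Subgroup P) (hMn : M.Normal) (hstab : stabP1 f α ≤ M)
    (I₀ : Set Ω) (hI₀ : I₀ ⊆ Set.range (fun m : ↥M => f (m : P) α))
    (h₀ : ∀ m : ↥M, f (m : P) '' I₀ = I₀ →
      ∀ ω ∈ Set.range (fun m : ↥M => f (m : P) α), f (m : P) ω = ω) :
    ∃ S : Set Ω, S ⊆ Δ ∧ ∀ g : P, f g '' S = S → ∀ ω ∈ Δ, f g ω = ω := by
  classical
  have hpp : p.Prime := Fact.out
  set Δ₀ : Set Ω := Set.range (fun m : ↥M => f (m : P) α) with hΔ₀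
  -- the size of `Δ₀` is odd
  have hodd : Odd Δ₀.ncard := by
    let _inst : MulAction ↥M Ω := MulAction.compHom Ω (f.comp M.subtype)
    have hΔ₀' : Δ₀ = MulAction.orbit ↥M α := rfl
    obtain ⟨k, hk⟩ := (hP.to_subgroup M).card_orbit α
    rw [hΔ₀', ← Nat.card_coe_set_eq, hk]
    exact (hpp.odd_of_ne_two hp).pow
  -- `M` preserves `Δ₀`
  have hMΔ₀ : ∀ m ∈ M, f m '' Δ₀ = Δ₀ := by
    intro m hm
    apply Set.Subset.antisymm
    · rintro _ ⟨_, ⟨m', rfl⟩, rfl⟩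
      exact ⟨⟨m, hm⟩ * m', by simp only [Subgroup.coe_mul]; rw [apply_mul_P1]⟩
    · rintro _ ⟨m', rfl⟩
      refine ⟨f ((⟨m, hm⟩ : ↥M)⁻¹ * m' : ↥M) α, ⟨_, rfl⟩, ?_⟩
      simp only [Subgroup.coe_mul, Subgroup.coe_inv]
      rw [← apply_mul_P1, mul_inv_cancel_left]
  -- representatives
  let r : P ⧸ M → P := fun c => Quotient.out c
  have hr : ∀ c : P ⧸ M, ((r c : P) : P ⧸ M) = c := fun c => QuotientGroup.out_eq' c
  have key_r : ∀ g : P, ∃ m ∈ M, g = r (g : P ⧸ M) * m := by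
    intro g
    refine ⟨(r (g : P ⧸ M))⁻¹ * g, ?_, by group⟩
    rw [← QuotientGroup.eq, hr]
  let Fib : P ⧸ M → Set Ω := fun c => f (r c) '' Δ₀
  let I : P ⧸ M → Set Ω := fun c => f (r c) '' I₀
  have hIF : ∀ c, I c ⊆ Fib c := fun c => Set.image_mono hI₀
  -- (F1)
  have F1 : ∀ (g : P) (c : P ⧸ M), f g '' Fib c = Fib ((g : P ⧸ M) * c) := by
    intro g c
    obtain ⟨m, hm, hgm⟩ := key_r (g * r c)
    have hc : ((g * r c : P) : P ⧸ M) = (g : P ⧸ M) * c := by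
      rw [QuotientGroup.mk_mul, hr]
    rw [hc] at hgm
    show f g '' (f (r c) '' Δ₀) = f (r ((g : P ⧸ M) * c)) '' Δ₀
    rw [← img_mul_P1, hgm, img_mul_P1, hMΔ₀ m hm]
  -- (F2)
  have F2 : ∀ (c c' : P ⧸ M) (ω : Ω), ω ∈ Fib c → ω ∈ Fib c' → c = c' := by
    rintro c c' ω ⟨_, ⟨m, rfl⟩, h1⟩ ⟨_, ⟨m', rfl⟩, h2⟩
    have h3 : f ((r c' * m')⁻¹ * (r c * m)) α = α := by
      rw [apply_mul_P1, apply_mul_P1 f (r c), h1, ← h2, ← apply_mul_P1 f (r c'), ← apply_mul_P1,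
        inv_mul_cancel, apply_one_P1]
    have h4 : (r c' * m')⁻¹ * (r c * m) ∈ M := hstab ((mem_stabP1 f).mpr h3)
    rw [← QuotientGroup.eq, QuotientGroup.mk_mul, QuotientGroup.mk_mul, hr, hr,
      (QuotientGroup.eq_one_iff (m : P)).mpr m.2, (QuotientGroup.eq_one_iff (m' : P)).mpr m'.2,
      mul_one, mul_one] at h4
    exact h4.symm
  -- (F3)
  have F3 : ∀ ω ∈ Δ, ∃ c, ω ∈ Fib c := by
    intro ω hω
    rw [← horb] at hω
    obtain ⟨g, rfl⟩ := hω
    obtain ⟨m, hm, hgm⟩ := key_r g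
    refine ⟨(g : P ⧸ M), f m α, ⟨⟨m, hm⟩, rfl⟩, ?_⟩
    show f (r (g : P ⧸ M)) (f m α) = f g α
    rw [← apply_mul_P1, ← hgm]
  have hFibΔ : ∀ c, Fib c ⊆ Δ := by
    rintro c _ ⟨_, ⟨m, rfl⟩, rfl⟩
    rw [← horb]
    refine ⟨r c * m, ?_⟩
    show f (r c * m) α = f (r c) (f m α)
    rw [apply_mul_P1]
  -- the set `S`
  let T : P ⧸ M → Set Ω := fun c => if c = 1 then I 1 else Fib c \ I c
  have hT1 : T 1 = I 1 := if_pos rfl
  have hTne : ∀ c, c ≠ 1 → T c = Fib c \ I c := fun c hc => if_neg hc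
  have hTF : ∀ c, T c ⊆ Fib c := by
    intro c
    by_cases hc : c = 1
    · subst hc; rw [hT1]; exact hIF 1
    · rw [hTne c hc]; exact Set.sdiff_subset
  let S : Set Ω := ⋃ c, T c
  have hSF : ∀ c, S ∩ Fib c = T c := by
    intro c
    apply Set.Subset.antisymm
    · rintro ω ⟨hωS, hωF⟩
      obtain ⟨c', hc'⟩ := Set.mem_iUnion.mp hωS
      have := F2 c' c ω (hTF c' hc') hωF
      subst this
      exact hc'
    · intro ω hω
      exact ⟨Set.mem_iUnion.mpr ⟨c, hω⟩, hTF c hω⟩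
  refine ⟨S, ?_, ?_⟩
  · intro ω hω
    obtain ⟨c, hc⟩ := Set.mem_iUnion.mp hω
    exact hFibΔ c (hTF c hc)
  intro g hgS
  have T3 : ∀ c, f g '' T c = T ((g : P ⧸ M) * c) := by
    intro c
    rw [← hSF c, Set.image_inter (f g).injective, hgS, F1, hSF]
  -- Claim 1
  have hgM : (g : P ⧸ M) = 1 := by
    by_contra hne
    have h1 := T3 1
    rw [mul_one, hT1, hTne _ hne] at h1
    have h2 : (f g '' I 1).ncard = I₀.ncard := by
      rw [Set.ncard_image_of_injective _ (f g).injective]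
      exact Set.ncard_image_of_injective _ (f (r 1)).injective
    have h3 : (Fib (g : P ⧸ M) \ I (g : P ⧸ M)).ncard = Δ₀.ncard - I₀.ncard := by
      rw [Set.ncard_sdiff (hIF _)]
      congr 1
      · exact Set.ncard_image_of_injective _ (f (r _)).injective
      · exact Set.ncard_image_of_injective _ (f (r _)).injective
    have h4 : I₀.ncard ≤ Δ₀.ncard := Set.ncard_le_ncard hI₀
    rw [h1, h3] at h2
    obtain ⟨k, hk⟩ := hodd
    omega
  have hgM' : g ∈ M := (QuotientGroup.eq_one_iff g).mp hgM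
  -- Claim 2
  have hI : ∀ c, f g '' I c = I c := by
    intro c
    have h1 := T3 c
    have h2 := F1 g c
    rw [hgM, one_mul] at h1 h2
    by_cases hc : c = 1
    · subst hc; rwa [hT1] at h1
    · rw [hTne c hc] at h1
      calc f g '' I c = f g '' (Fib c \ (Fib c \ I c)) := by
            rw [Set.sdiff_sdiff_cancel_left (hIF c)]
        _ = f g '' Fib c \ f g '' (Fib c \ I c) := Set.image_sdiff (f g).injective _ _
        _ = Fib c \ (Fib c \ I c) := by rw [h1, h2]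
        _ = I c := Set.sdiff_sdiff_cancel_left (hIF c)
  intro ω hω
  obtain ⟨c, ω₀, hω₀, rfl⟩ := F3 ω hω
  have hmc : (r c)⁻¹ * g * r c ∈ M := by
    have := hMn.conj_mem g hgM' (r c)⁻¹
    rwa [inv_inv] at this
  have h5 : f ((r c)⁻¹ * g * r c) '' I₀ = I₀ := by
    have := hI c
    show f ((r c)⁻¹ * g * r c) '' I₀ = I₀
    rw [img_mul_P1, img_mul_P1]
    change f g '' (f (r c) '' I₀) = f (r c) '' I₀ at this
    rw [this, ← img_mul_P1, inv_mul_cancel, img_one_P1]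
  have h6 := h₀ ⟨_, hmc⟩ h5 ω₀ hω₀
  simp only at h6
  show f g (f (r c) ω₀) = f (r c) ω₀
  have h7 : g * r c = r c * ((r c)⁻¹ * g * r c) := by group
  rw [← apply_mul_P1, h7, apply_mul_P1, h6]

/-- The induction: every invariant subset `Δ` contains a subset `S` whose setwise stabiliser fixes `Δ` pointwise. -/
theorem core_P1 {p : ℕ} [Fact p.Prime] (hp : p ≠ 2) {Ω : Type v} [Finite Ω] :
    ∀ (n : ℕ) (Δ : Set Ω), Δ.ncard = n → ∀ (P : Type u) [Group P] [Finite P], IsPGroup p P →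
      ∀ f : P →* Equiv.Perm Ω, (∀ g : P, ∀ ω ∈ Δ, f g ω ∈ Δ) →
      ∃ S : Set Ω, S ⊆ Δ ∧ ∀ g : P, f g '' S = S → ∀ ω ∈ Δ, f g ω = ω := by
  intro n
  induction n using Nat.strong_induction_on with
  | _ n ih =>
  intro Δ hΔ P _ _ hP f hinv
  by_cases htriv : ∀ g : P, ∀ ω ∈ Δ, f g ω = ω
  · exact ⟨∅, Set.empty_subset _, fun g _ => htriv g⟩
  simp only [not_forall] at htriv
  obtain ⟨g₀, α, hα, hg₀⟩ := htriv
  set O : Set Ω := Set.range (fun g : P => f g α) with hO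
  have hOΔ : O ⊆ Δ := by
    rintro _ ⟨g, rfl⟩
    exact hinv g α hα
  have hαO : α ∈ O := ⟨1, apply_one_P1 f α⟩
  have hOinv : ∀ g : P, ∀ ω ∈ O, f g ω ∈ O := by
    rintro g _ ⟨h, rfl⟩
    exact ⟨g * h, apply_mul_P1 f g h α⟩
  by_cases hOeq : O = Δ
  · -- transitive case
    have hstab_ne : stabP1 f α ≠ ⊤ := by
      intro h
      have : g₀ ∈ stabP1 f α := by rw [h]; exact Subgroup.mem_top _
      exact hg₀ ((mem_stabP1 f).mp this)
    obtain ⟨M, hMn, hstabM, hMtop⟩ := exists_normal_ne_top_of_ne_top hP _ hstab_ne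
    set Δ₀ : Set Ω := Set.range (fun m : ↥M => f (m : P) α) with hΔ₀
    have hΔ₀Δ : Δ₀ ⊆ Δ := by
      rintro _ ⟨m, rfl⟩
      exact hinv m α hα
    have hlt : Δ₀.ncard < n := by
      rw [← hΔ]
      refine Set.ncard_lt_ncard (hΔ₀Δ.ssubset_of_ne ?_) (Set.toFinite Δ)
      intro heq
      apply hMtop
      rw [eq_top_iff]
      intro x _
      have hx : f x α ∈ Δ₀ := by rw [heq]; exact hinv x α hα
      obtain ⟨m, hm⟩ := hx
      have h1 : (m : P)⁻¹ * x ∈ stabP1 f α := by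
        rw [mem_stabP1, apply_mul_P1, ← hm, ← apply_mul_P1, inv_mul_cancel, apply_one_P1]
      have h2 := M.mul_mem m.2 (hstabM h1)
      rwa [mul_inv_cancel_left] at h2
    have hinv₀ : ∀ m : ↥M, ∀ ω ∈ Δ₀, (f.comp M.subtype) m ω ∈ Δ₀ := by
      rintro m _ ⟨m', rfl⟩
      exact ⟨m * m', by simp only [Subgroup.coe_mul]; rw [apply_mul_P1]; rfl⟩
    obtain ⟨I₀, hI₀, h₀⟩ := ih _ hlt Δ₀ rfl ↥M (hP.to_subgroup M) (f.comp M.subtype) hinv₀
    exact trans_case_P1 hp hP f Δ α hOeq M hMn hstabM I₀ hI₀ h₀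
  · -- intransitive case
    have hO2 : ∀ g : P, ∀ ω ∈ Δ \ O, f g ω ∈ Δ \ O := by
      rintro g ω ⟨hωΔ, hωO⟩
      refine ⟨hinv g ω hωΔ, fun h => hωO ?_⟩
      have := hOinv g⁻¹ _ h
      rwa [← apply_mul_P1, inv_mul_cancel, apply_one_P1] at this
    have hlt1 : O.ncard < n := by
      rw [← hΔ]
      exact Set.ncard_lt_ncard (hOΔ.ssubset_of_ne hOeq)
    have hlt2 : (Δ \ O).ncard < n := by
      rw [← hΔ]
      refine Set.ncard_lt_ncard (Set.sdiff_subset.ssubset_of_ne ?_) (Set.toFinite Δ)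
      intro heq
      have : α ∈ Δ \ O := by rw [heq]; exact hα
      exact this.2 hαO
    obtain ⟨S₁, hS₁, h₁⟩ := ih _ hlt1 O rfl P hP f hOinv
    obtain ⟨S₂, hS₂, h₂⟩ := ih _ hlt2 (Δ \ O) rfl P hP f hO2
    refine ⟨S₁ ∪ S₂, Set.union_subset (hS₁.trans hOΔ) (hS₂.trans Set.sdiff_subset), ?_⟩
    intro g hg
    have e1 : (S₁ ∪ S₂) ∩ O = S₁ := by
      ext ω
      constructor
      · rintro ⟨h | h, hωO⟩
        · exact h
        · exact absurd hωO (hS₂ h).2
      · intro h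
        exact ⟨Or.inl h, hS₁ h⟩
    have e2 : (S₁ ∪ S₂) ∩ (Δ \ O) = S₂ := by
      ext ω
      constructor
      · rintro ⟨h | h, hω⟩
        · exact absurd (hS₁ h) hω.2
        · exact h
      · intro h
        exact ⟨Or.inr h, hS₂ h⟩
    have i1 : f g '' S₁ = S₁ := by
      conv_lhs => rw [← e1]
      rw [Set.image_inter (f g).injective, hg, img_eq_of_inv_P1 f hOinv g, e1]
    have i2 : f g '' S₂ = S₂ := by
      conv_lhs => rw [← e2]
      rw [Set.image_inter (f g).injective, hg, img_eq_of_inv_P1 f hO2 g, e2]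
    intro ω hω
    by_cases hωO : ω ∈ O
    · exact h₁ g i1 ω hωO
    · exact h₂ g i2 ω ⟨hω, hωO⟩

/-- **S4330-P1**: a permutation `p`-group, `p` odd, has a subset with trivial setwise stabiliser. -/
theorem exists_set_stabilizer_trivial {P : Type u} [Group P] [Finite P] {p : ℕ} [Fact p.Prime]
    (hp : p ≠ 2) (hP : IsPGroup p P) {Ω : Type v} [Finite Ω] (f : P →* Equiv.Perm Ω) :
    ∃ S : Set Ω, ∀ g : P, (f g) '' S = S → f g = 1 := by
  obtain ⟨S, _, hS⟩ := core_P1 hp (Set.univ : Set Ω).ncard Set.univ rfl P hP f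
    (fun _ _ _ => Set.mem_univ _)
  refine ⟨S, fun g hg => ?_⟩
  ext ω
  rw [Equiv.Perm.one_apply]
  exact hS g hg ω (Set.mem_univ _)

end Cfsg.Agent.Lib.H29.Fum
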