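/-
S3313 piece DC (helper29): double counting of commuting pairs of conjugates.
-/
import Mathlib

set_option autoImplicit false

namespace Cfsg.Agent.Lib.H29.HJ

/-- the conjugation map `g ↦ g y g⁻¹` has fibres of size `|C(y)|` -/
theorem fiber_count {G : Type*} [Group G] (y : G) (P : G → Prop) :
    Nat.card {g : G // P (g * y * g⁻¹)} =
      Nat.card {b : G // IsConj y b ∧ P b} * Nat.card ↥(Subgroup.centralizer ({y} : Set G)) := by
  classical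
  rw [← Nat.card_prod]
  apply Nat.card_congr
  have hr : ∀ b : {b : G // IsConj y b ∧ P b}, ∃ r : G, r * y * r⁻¹ = b.1 := fun b => by
    obtain ⟨c, hc⟩ := isConj_iff.1 b.2.1
    exact ⟨c, hc⟩
  choose r hr using hr
  refine ⟨fun g => (⟨g.1 * y * g.1⁻¹, isConj_iff.2 ⟨g.1, rfl⟩, g.2⟩,
      ⟨(r ⟨g.1 * y * g.1⁻¹, isConj_iff.2 ⟨g.1, rfl⟩, g.2⟩)⁻¹ * g.1, ?_⟩),
    fun p => ⟨r p.1 * p.2.1, ?_⟩, ?_, ?_⟩
  · rw [Subgroup.mem_centralizer_iff]
    intro h hh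
    rw [Set.mem_singleton_iff] at hh
    subst hh
    have h1 := hr ⟨g.1 * h * g.1⁻¹, isConj_iff.2 ⟨g.1, rfl⟩, g.2⟩
    simp only at h1
    set s := r ⟨g.1 * h * g.1⁻¹, isConj_iff.2 ⟨g.1, rfl⟩, g.2⟩ with hs
    -- s h s⁻¹ = g h g⁻¹
    have h2 : s⁻¹ * (s * h * s⁻¹) * s = s⁻¹ * (g.1 * h * g.1⁻¹) * s := by rw [h1]
    have h3 : s⁻¹ * (s * h * s⁻¹) * s = h := by group
    rw [h3] at h2
    calc h * (s⁻¹ * g.1) = (s⁻¹ * (g.1 * h * g.1⁻¹) * s) * (s⁻¹ * g.1) := by rw [← h2]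
      _ = s⁻¹ * g.1 * h := by group
  · have h1 := hr p.1
    have h2 : p.2.1 * y = y * p.2.1 := by
      have := p.2.2
      rw [Subgroup.mem_centralizer_iff] at this
      exact (this y (Set.mem_singleton y)).symm
    have h3 : r p.1 * p.2.1 * y * (r p.1 * p.2.1)⁻¹ = p.1.1 := by
      calc r p.1 * p.2.1 * y * (r p.1 * p.2.1)⁻¹ = r p.1 * (p.2.1 * y) * p.2.1⁻¹ * (r p.1)⁻¹ := by
            group
        _ = r p.1 * (y * p.2.1) * p.2.1⁻¹ * (r p.1)⁻¹ := by rw [h2]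
        _ = r p.1 * y * (r p.1)⁻¹ := by group
        _ = p.1.1 := h1
    rw [h3]
    exact p.1.2.2
  · intro g
    apply Subtype.ext
    simp only
    group
  · intro p
    have h1 := hr p.1
    have h2 : p.2.1 * y = y * p.2.1 := by
      have := p.2.2
      rw [Subgroup.mem_centralizer_iff] at this
      exact (this y (Set.mem_singleton y)).symm
    have h3 : r p.1 * p.2.1 * y * (r p.1 * p.2.1)⁻¹ = p.1.1 := by
      calc r p.1 * p.2.1 * y * (r p.1 * p.2.1)⁻¹ = r p.1 * (p.2.1 * y) * p.2.1⁻¹ * (r p.1)⁻¹ := by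
            group
        _ = r p.1 * (y * p.2.1) * p.2.1⁻¹ * (r p.1)⁻¹ := by rw [h2]
        _ = r p.1 * y * (r p.1)⁻¹ := by group
        _ = p.1.1 := h1
    have h4 : (⟨r p.1 * p.2.1 * y * (r p.1 * p.2.1)⁻¹, isConj_iff.2 ⟨r p.1 * p.2.1, rfl⟩,
        (by rw [h3]; exact p.1.2.2)⟩ : {b : G // IsConj y b ∧ P b}) = p.1 := Subtype.ext h3
    refine Prod.ext ?_ ?_
    · exact h4
    · apply Subtype.ext
      simp only
      rw [h4]
      group

/-- double counting of commuting pairs of conjugates -/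
theorem comm_count {G : Type*} [Group G] [Finite G] (x y : G) :
    Nat.card {b : G // IsConj y b ∧ x * b = b * x} *
        Nat.card ↥(Subgroup.centralizer ({y} : Set G)) =
      Nat.card {a : G // IsConj x a ∧ a * y = y * a} *
        Nat.card ↥(Subgroup.centralizer ({x} : Set G)) := by
  rw [← fiber_count y (fun b => x * b = b * x), ← fiber_count x (fun a => a * y = y * a)]
  apply Nat.card_congr
  refine ⟨fun g => ⟨g.1⁻¹, ?_⟩, fun g => ⟨g.1⁻¹, ?_⟩, fun g => Subtype.ext (inv_inv _),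
    fun g => Subtype.ext (inv_inv _)⟩
  · have h := g.2
    show g.1⁻¹ * x * g.1⁻¹⁻¹ * y = y * (g.1⁻¹ * x * g.1⁻¹⁻¹)
    rw [inv_inv]
    calc g.1⁻¹ * x * g.1 * y = g.1⁻¹ * (x * (g.1 * y * g.1⁻¹)) * g.1 := by group
      _ = g.1⁻¹ * ((g.1 * y * g.1⁻¹) * x) * g.1 := by rw [h]
      _ = y * (g.1⁻¹ * x * g.1) := by group
  · have h := g.2
    show x * (g.1⁻¹ * y * g.1⁻¹⁻¹) = g.1⁻¹ * y * g.1⁻¹⁻¹ * x
    rw [inv_inv]
    calc x * (g.1⁻¹ * y * g.1) = g.1⁻¹ * ((g.1 * x * g.1⁻¹) * y) * g.1 := by group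
      _ = g.1⁻¹ * (y * (g.1 * x * g.1⁻¹)) * g.1 := by rw [h]
      _ = g.1⁻¹ * y * g.1 * x := by group

end Cfsg.Agent.Lib.H29.HJ
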