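import Mathlib
import Cfsg.Prelude.Def_ChevStructure
import Cfsg.Agent.Lib.H29.ChevGen44

/-!
# The order of a Chevalley group from the orders of `U`, `H` and the Poincaré polynomial
-/

set_option autoImplicit false
set_option linter.unusedSectionVars false
set_option linter.unusedSimpArgs false
set_option linter.unusedVariables false

namespace Cfsg.Agent.Lib.H29.Chev

open Cfsg.Lie Matrix

variable {D : ChevalleyDatum} {fd : FD} {fx : FX} {fc : FC} {fz : FZ} {F : Type*} [Field F]

namespace Cert12

variable (C : Cert12 D fd fx fc fz)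
include C

theorem card_group_final [Finite F] (ds : List ℕ)
    (hgrp : Nat.card (D.group F) =
      Nat.card (D.borelSubgroup F) * (ds.map fun d => ∑ i ∈ Finset.range d, Nat.card F ^ i).prod)
    (g : ℕ) (hH : g * Nat.card (D.diagonalSubgroup F) = (Nat.card F - 1) ^ ds.length) :
    g * Nat.card (D.group F) = Nat.card F ^ (D.nroots / 2) * (ds.map fun d => Nat.card F ^ d - 1).prod := by
  have hq : 1 ≤ Nat.card F := Nat.one_le_iff_ne_zero.mpr (Nat.card_pos).ne'
  rw [hgrp, C.card_borel, C.card_posUnipotent, ← sub_one_pow_mul_prod ds _ hq, ← hH]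
  ring

end Cert12

end Cfsg.Agent.Lib.H29.Chev
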