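import Mathlib
import Cfsg.Prelude.Def_Characters
import Cfsg.Agent.Lib.H15.DXDefs

/-!
# S4467 piece CENT, parametric form (helper29 twin, for helper15)

`sylow_le_centralizer_of`: in the minimal counterexample a Sylow `p`-subgroup centralizes every chief factor
`A / Z(G)`, given the conclusions of F4A, CYCZ and the statement of XARG.
-/

set_option autoImplicit false

namespace Cfsg.Agent.Lib.H29.DX

open Cfsg Cfsg.Agent.Lib.H15.DX
open scoped commutatorElement

universe u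

section comm

variable {G : Type*} [Group G]

/-- `b ↦ ⁅b, y⁆` is multiplicative when the values are central -/
theorem comm_mul_left (b b' y : G) (h : ⁅b', y⁆ ∈ Subgroup.center G) :
    ⁅b * b', y⁆ = ⁅b, y⁆ * ⁅b', y⁆ := by
  obtain ⟨z, hz⟩ : ∃ z, z = ⁅b', y⁆ := ⟨_, rfl⟩
  rw [← hz] at h ⊢
  have h1 : ∀ g : G, g * z = z * g := fun g => Subgroup.mem_center_iff.mp h g
  have h2 : ⁅b * b', y⁆ = b * z * (y * b⁻¹ * y⁻¹) := by
    rw [hz]; simp only [commutatorElement_def]; group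
  rw [h2, h1 b, mul_assoc, mul_assoc, ← h1]
  simp only [commutatorElement_def]; group

/-- `u ↦ ⁅a, u⁆` is multiplicative when the values are central -/
theorem comm_mul_right (a u u' : G) (h : ⁅a, u'⁆ ∈ Subgroup.center G) :
    ⁅a, u * u'⁆ = ⁅a, u⁆ * ⁅a, u'⁆ := by
  obtain ⟨z, hz⟩ : ∃ z, z = ⁅a, u'⁆ := ⟨_, rfl⟩
  rw [← hz] at h ⊢
  have h1 : ∀ g : G, g * z = z * g := fun g => Subgroup.mem_center_iff.mp h g
  have h2 : ⁅a, u * u'⁆ = ⁅a, u⁆ * (u * z * u⁻¹) := by
    rw [hz]; simp only [commutatorElement_def]; group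
  rw [h2, h1 u]
  group

theorem comm_one_right (a : G) : ⁅a, (1 : G)⁆ = 1 := by
  simp [commutatorElement_def]

theorem comm_of_mem_center (z y : G) (hz : z ∈ Subgroup.center G) : ⁅z, y⁆ = 1 := by
  have := Subgroup.mem_center_iff.mp hz y
  rw [commutatorElement_def, ← this]; group

theorem comm_pow_left (A : Subgroup G) (y : G) (hy : ∀ b ∈ A, ⁅b, y⁆ ∈ Subgroup.center G) (b : G) (hb : b ∈ A)
    (k : ℕ) : ⁅b ^ k, y⁆ = ⁅b, y⁆ ^ k := by
  induction k with
  | zero => simp [commutatorElement_def]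
  | succ k ih =>
    rw [pow_succ, comm_mul_left _ _ _ (hy b hb), ih, pow_succ]

theorem comm_pow_right (P : Subgroup G) (a : G) (ha : ∀ u ∈ P, ⁅a, u⁆ ∈ Subgroup.center G) (u : G) (hu : u ∈ P)
    (k : ℕ) : ⁅a, u ^ k⁆ = ⁅a, u⁆ ^ k := by
  induction k with
  | zero => simp [commutatorElement_def]
  | succ k ih =>
    rw [pow_succ, comm_mul_right _ _ _ (ha u hu), ih, pow_succ]

end comm

variable {p : ℕ} [Fact p.Prime] {G : Type u} [Group G] [Finite G] {χ : G → ℂ} {n : ℕ}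

/-- CENT, with the conclusions of F4A and the statement of XARG as hypotheses -/
theorem sylow_le_centralizer_of (c : Ctx p G χ n) (A : Subgroup G) [A.Normal]
    (r m : ℕ) (hr : r.Prime) (hrp : r ≠ p) (hdvd : r ^ m ∣ n)
    (hidx : (Subgroup.center G).relIndex A = r ^ (2 * m))
    (hXARG : ∀ x : G, (∀ a ∈ A, ⁅a, x ^ p⁆ ∈ Subgroup.center G) →
      ∀ a₀ ∈ A, ⁅a₀, x⁆ ∉ Subgroup.center G →
      ∃ j, 1 ≤ j ∧ j ≤ m ∧ (p ∣ r ^ j - 1 ∨ p ∣ r ^ j + 1))
    (P : Sylow p G) : (P : Subgroup G) ≤ Subgroup.centralizer (A : Set G) := by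
  classical
  have hp : p.Prime := Fact.out
  -- Step 1: `[A, P] ≤ Z`
  have step1 : ∀ (k : ℕ) (y : G), y ∈ (P : Subgroup G) → orderOf y = p ^ k →
      ∀ a ∈ A, ⁅a, y⁆ ∈ Subgroup.center G := by
    intro k
    induction k with
    | zero =>
      intro y _ hy a _
      rw [pow_zero, orderOf_eq_one_iff] at hy
      rw [hy, comm_one_right]
      exact Subgroup.one_mem _
    | succ k ih =>
      intro y hyP hy
      have hyp : orderOf (y ^ p) = p ^ k := by
        rw [orderOf_pow_of_dvd hp.ne_zero (by rw [hy]; exact dvd_pow_self p (Nat.succ_ne_zero k)), hy, pow_succ,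
          Nat.mul_div_cancel _ hp.pos]
      have h1 := ih (y ^ p) (Subgroup.pow_mem _ hyP p) hyp
      by_contra hcon
      rw [not_forall] at hcon
      obtain ⟨a₀, hcon⟩ := hcon
      rw [Classical.not_imp] at hcon
      obtain ⟨ha₀, hne⟩ := hcon
      obtain ⟨j, hj1, hjm, hj⟩ := hXARG y h1 a₀ ha₀ hne
      exact c.bad (good_of_pow hr hj1 ((pow_dvd_pow r hjm).trans hdvd) hj)
  have step1' : ∀ y ∈ (P : Subgroup G), ∀ a ∈ A, ⁅a, y⁆ ∈ Subgroup.center G := by
    intro y hy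
    obtain ⟨k, hk⟩ := (IsPGroup.iff_orderOf.mp P.isPGroup') ⟨y, hy⟩
    rw [Subgroup.orderOf_mk] at hk
    exact step1 k y hy hk
  -- Step 2
  intro y hy
  rw [Subgroup.mem_centralizer_iff]
  intro a ha
  have hz1 : ⁅a, y⁆ ^ (r ^ (2 * m)) = 1 := by
    rw [← comm_pow_left A y (step1' y hy) a ha]
    apply comm_of_mem_center
    have hn : ((Subgroup.center G).subgroupOf A).Normal := inferInstance
    have := Subgroup.pow_index_mem ((Subgroup.center G).subgroupOf A) (⟨a, ha⟩ : A)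
    rw [Subgroup.mem_subgroupOf] at this
    rw [← hidx]
    exact this
  obtain ⟨k, hk⟩ := (IsPGroup.iff_orderOf.mp P.isPGroup') ⟨y, hy⟩
  rw [Subgroup.orderOf_mk] at hk
  have hz2 : ⁅a, y⁆ ^ (p ^ k) = 1 := by
    rw [← comm_pow_right (P : Subgroup G) a (fun u hu => step1' u hu a ha) y hy, ← hk, pow_orderOf_eq_one,
      comm_one_right]
  have hz : ⁅a, y⁆ = 1 := by
    have h1 : orderOf ⁅a, y⁆ ∣ r ^ (2 * m) := orderOf_dvd_of_pow_eq_one hz1
    have h2 : orderOf ⁅a, y⁆ ∣ p ^ k := orderOf_dvd_of_pow_eq_one hz2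
    have hcop : Nat.Coprime (r ^ (2 * m)) (p ^ k) :=
      Nat.Coprime.pow _ _ ((Nat.coprime_primes hr hp).mpr hrp)
    have h3 : orderOf ⁅a, y⁆ ∣ 1 := by
      have := Nat.dvd_gcd h1 h2
      rwa [hcop] at this
    exact orderOf_eq_one_iff.mp (Nat.dvd_one.mp h3)
  rw [commutatorElement_def] at hz
  -- a * y * a⁻¹ * y⁻¹ = 1
  calc a * y = (a * y * a⁻¹ * y⁻¹) * (y * a) := by group
    _ = y * a := by rw [hz, one_mul]

end Cfsg.Agent.Lib.H29.DX
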