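import Mathlib
import Cfsg.Prelude.Def_Characters
import Cfsg.Agent.Lib.H15.DXDefs

/-!
# S4467 piece FINAL, parametric form (helper29 for helper15)

`ctx_false_of`: the minimal counterexample does not exist, given the statements of CENT and F3.
-/

set_option autoImplicit false

namespace Cfsg.Agent.Lib.H29.DX

open Cfsg Cfsg.Agent.Lib.H15.DX

universe u

variable {p : ℕ} [Fact p.Prime] {G : Type u} [Group G] [Finite G] {χ : G → ℂ} {n : ℕ}

omit [Fact (Nat.Prime p)] in
/-- FINAL, with CENT and F3 as hypotheses -/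
theorem ctx_false_of (c : Ctx p G χ n)
    (hF3 : ∀ (N : Subgroup G) [N.Normal], (∀ a ∈ N, ∀ b ∈ N, a * b = b * a) → N ≤ Subgroup.center G)
    (hCENT : ∀ (A : Subgroup G) [A.Normal], Subgroup.center G < A →
      (∀ B : Subgroup G, B.Normal → Subgroup.center G ≤ B → B ≤ A → B = Subgroup.center G ∨ B = A) →
      ∀ P : Sylow p G, (P : Subgroup G) ≤ Subgroup.centralizer (A : Set G)) : False := by
  classical
  obtain ⟨P, hP⟩ := c.nonnormal
  set Z : Subgroup G := Subgroup.center G with hZ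
  -- the chief factors above the centre
  let 𝒜 : Set (Subgroup G) := {A | A.Normal ∧ Z < A ∧
    ∀ B : Subgroup G, B.Normal → Z ≤ B → B ≤ A → B = Z ∨ B = A}
  -- the intersection of their centralizers
  let D : Subgroup G := ⨅ A ∈ 𝒜, Subgroup.centralizer (A : Set G)
  have hmemD : ∀ d : G, d ∈ D ↔ ∀ A ∈ 𝒜, d ∈ Subgroup.centralizer (A : Set G) := by
    intro d
    simp only [D, Subgroup.mem_iInf]
  have hDn : D.Normal := by
    constructor
    intro d hd g
    rw [hmemD] at hd ⊢
    intro A hA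
    have hAn : A.Normal := hA.1
    rw [Subgroup.mem_centralizer_iff]
    intro a ha
    have ha' : g⁻¹ * a * g ∈ A := by
      have := hAn.conj_mem a ha g⁻¹
      rwa [inv_inv] at this
    have h1 := (Subgroup.mem_centralizer_iff.mp (hd A hA)) _ ha'
    calc a * (g * d * g⁻¹) = g * ((g⁻¹ * a * g) * d) * g⁻¹ := by group
      _ = g * (d * (g⁻¹ * a * g)) * g⁻¹ := by rw [h1]
      _ = g * d * g⁻¹ * a := by group
  have hPD : (P : Subgroup G) ≤ D := by
    intro x hx
    rw [hmemD]
    intro A hA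
    have hAn : A.Normal := hA.1
    exact hCENT A hA.2.1 hA.2.2 P hx
  -- `D ≤ Z`
  have hDZ : D ≤ Z := by
    by_contra hDZ
    have hlt : Z < D ⊔ Z := lt_of_le_of_ne le_sup_right (fun h => hDZ (h ▸ le_sup_left))
    have hZn : Z.Normal := inferInstance
    have hsupn : (D ⊔ Z).Normal := inferInstance
    -- a minimal normal subgroup above `Z` inside `D ⊔ Z`
    have hex : ∃ k : ℕ, ∃ B : Subgroup G, B.Normal ∧ Z < B ∧ B ≤ D ⊔ Z ∧ Nat.card B = k :=
      ⟨_, D ⊔ Z, hsupn, hlt, le_refl _, rfl⟩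
    obtain ⟨A₀, hA₀n, hA₀Z, hA₀D, hA₀c⟩ := Nat.find_spec hex
    have hA₀ : A₀ ∈ 𝒜 := by
      refine ⟨hA₀n, hA₀Z, ?_⟩
      intro B hBn hZB hBA
      by_cases hBZ : B = Z
      · exact Or.inl hBZ
      · right
        have hZB' : Z < B := lt_of_le_of_ne hZB (Ne.symm hBZ)
        apply Subgroup.eq_of_le_of_card_ge hBA
        rw [hA₀c]
        exact Nat.find_min' hex ⟨B, hBn, hZB', hBA.trans hA₀D, rfl⟩
    -- `A₀` is abelian
    have hA₀cen : A₀ ≤ Subgroup.centralizer (A₀ : Set G) := by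
      refine hA₀D.trans (sup_le ?_ ?_)
      · intro d hd
        exact (hmemD d).mp hd A₀ hA₀
      · intro z hz
        rw [Subgroup.mem_centralizer_iff]
        intro a _
        exact (Subgroup.mem_center_iff.mp hz a)
    have hab : ∀ a ∈ A₀, ∀ b ∈ A₀, a * b = b * a := by
      intro a ha b hb
      exact (Subgroup.mem_centralizer_iff.mp (hA₀cen hb)) a ha
    have := @hF3 A₀ hA₀n hab
    exact absurd this (not_le_of_gt hA₀Z)
  -- `P` is central, hence normal
  apply hP
  constructor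
  intro x hx g
  have hxZ : x ∈ Subgroup.center G := hDZ (hPD hx)
  have h1 : g * x = x * g := Subgroup.mem_center_iff.mp hxZ g
  have h2 : g * x * g⁻¹ = x := by rw [h1]; group
  rw [h2]
  exact hx

end Cfsg.Agent.Lib.H29.DX
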