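import Mathlib
import Cfsg.Agent.Lib.H15.S3814C2Defs
import Cfsg.Agent.Lib.H20.ThreePrimes

/-!
# S3814, Case 2', piece (1) ExNormalPrime: `K` has a normal subgroup of prime order

`K ≠ 1` is solvable, so it has a nontrivial normal abelian subgroup `M` of prime exponent `s`
(`Lib/H20/ThreePrimes.exists_normal_abelian_exponent_prime`); `M` is cyclic by `Ctx.cyc`, so it has order `s`.
-/

set_option autoImplicit false

namespace Cfsg.Agent.Lib.H29.S3814C2ExNP

open Cfsg.Agent.H7.S3814Defs Cfsg.Agent.H15.S3814C2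

universe u

theorem exNormalPrime : ExNormalPrimeStmt.{u} := by
  intro G _ σ p V K ctx
  have := ctx.cex.fin
  have := ctx.cex.sol
  -- K is nontrivial
  obtain ⟨t, htσ, htp⟩ : ∃ t ∈ σ, t ≠ p :=
    Finset.exists_mem_ne (by rw [ctx.cex.card4]; norm_num) p
  obtain ⟨x, hxK, hox, -⟩ := ctx.facts.j1 t htσ htp
  have htP : t.Prime := ctx.cex.prime t htσ
  have hx1 : x ≠ 1 := by
    rintro rfl
    rw [orderOf_one] at hox
    exact htP.ne_one hox.symm
  have hnt : Nontrivial K := ⟨⟨⟨x, hxK⟩, 1, fun h => hx1 (congrArg Subtype.val h)⟩⟩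
  obtain ⟨s, N, hsP, hNn, hN1, hNexp, hNcomm⟩ :=
    Cfsg.Agent.Lib.H20.exists_normal_abelian_exponent_prime (G := K)
  have : Fact s.Prime := ⟨hsP⟩
  -- transport to G
  set M : Subgroup G := N.map K.subtype with hM
  have hMK : M ≤ K := by
    rintro _ ⟨y, -, rfl⟩
    exact y.2
  have hmemM : ∀ y : G, y ∈ M ↔ ∃ hy : y ∈ K, (⟨y, hy⟩ : K) ∈ N := by
    intro y
    constructor
    · rintro ⟨z, hz, rfl⟩
      exact ⟨z.2, hz⟩
    · rintro ⟨hy, hyN⟩
      exact ⟨⟨y, hy⟩, hyN, rfl⟩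
  have hMconj : ∀ k ∈ K, ∀ y ∈ M, k * y * k⁻¹ ∈ M := by
    intro k hk y hy
    obtain ⟨hyK, hyN⟩ := (hmemM y).1 hy
    rw [hmemM]
    refine ⟨K.mul_mem (K.mul_mem hk hyK) (K.inv_mem hk), ?_⟩
    have := hNn.conj_mem ⟨y, hyK⟩ hyN ⟨k, hk⟩
    exact this
  have hMnorm : K ≤ Subgroup.normalizer (M : Set G) := by
    intro k hk
    rw [Subgroup.mem_normalizer_iff]
    intro y
    constructor
    · exact hMconj k hk y
    · intro hy
      have := hMconj k⁻¹ (K.inv_mem hk) _ hy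
      simpa [mul_assoc] using this
  have hMcomm : ∀ a ∈ M, ∀ b ∈ M, a * b = b * a := by
    intro a ha b hb
    obtain ⟨haK, haN⟩ := (hmemM a).1 ha
    obtain ⟨hbK, hbN⟩ := (hmemM b).1 hb
    exact congrArg Subtype.val (hNcomm _ haN _ hbN)
  have hMexp : ∀ a ∈ M, a ^ s = 1 := by
    intro a ha
    obtain ⟨haK, haN⟩ := (hmemM a).1 ha
    have := congrArg Subtype.val (hNexp _ haN)
    simpa using this
  have hMcyc : IsCyclic M := ctx.cyc M hMK hMnorm hMcomm
  -- a nonidentity element of M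
  obtain ⟨n0, hn0N, hn01⟩ := (Subgroup.bot_or_exists_ne_one N).resolve_left hN1
  set m : G := (n0 : G) with hm
  have hmM : m ∈ M := ⟨n0, hn0N, rfl⟩
  have hm1 : m ≠ 1 := fun h => hn01 (Subtype.ext h)
  have hom : orderOf m = s := orderOf_eq_prime (hMexp m hmM) hm1
  -- |M| ≤ s
  obtain ⟨g, hg⟩ := hMcyc.exists_generator
  have hcard : Nat.card M = orderOf g := (orderOf_eq_card_of_forall_mem_zpowers hg).symm
  have hgs : g ^ s = 1 := by
    apply Subtype.ext
    simpa using hMexp g g.2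
  have hle : Nat.card M ≤ s := by
    rw [hcard]
    exact Nat.le_of_dvd hsP.pos (orderOf_dvd_of_pow_eq_one hgs)
  have hz : Subgroup.zpowers m ≤ M := by
    rw [Subgroup.zpowers_le]; exact hmM
  have hzc : Nat.card (Subgroup.zpowers m) = s := by
    rw [Nat.card_zpowers, hom]
  have heq : Subgroup.zpowers m = M :=
    Subgroup.eq_of_le_of_card_ge hz (by rw [hzc]; exact hle)
  refine ⟨s, m, hsP, hMK hmM, hom, ?_⟩
  intro k hk
  rw [heq]
  have := hMconj k⁻¹ (K.inv_mem hk) m hmM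
  simpa using this

example : ExNormalPrimeStmt.{0} := exNormalPrime

end Cfsg.Agent.Lib.H29.S3814C2ExNP
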