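import Mathlib
import Cfsg.Agent.Lib.H15.S3814C2Defs

/-!
# S3814, Case 2', piece (2) NPBad: the generator of a normal subgroup of prime order of `K` is bad

`U := V ⊓ C(m)` is `K`-invariant (`k⁻¹ m k ∈ ⟨m⟩`), so `U = ⊥` or `U = V` (`ShapeI.irred`); `U = V` means that
`m ∈ K` centralises `V`, against `ShapeI.faithful`.
-/

set_option autoImplicit false

namespace Cfsg.Agent.Lib.H29.S3814C2NPBad

open Cfsg.Agent.H7.S3814Defs Cfsg.Agent.H15.S3814C2

universe u

theorem npBad : NPBadStmt.{u} := by
  intro G _ σ p V K ctx c m hnp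
  obtain ⟨hcP, hmK, hom, hnorm⟩ := hnp
  have hVn : V.Normal := ctx.shape.normal
  -- elements of ⟨m⟩ commute with whatever commutes with m
  have hzp : ∀ x ∈ Subgroup.zpowers m, ∀ v : G, m * v = v * m → x * v = v * x := by
    intro x hx v hv
    obtain ⟨i, rfl⟩ := Subgroup.mem_zpowers_iff.1 hx
    exact ((show Commute m v from hv).zpow_left i)
  let U : Subgroup G := V ⊓ Subgroup.centralizer ({m} : Set G)
  have hU : ∀ v : G, v ∈ U ↔ v ∈ V ∧ m * v = v * m := by
    intro v
    constructor
    · intro h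
      exact ⟨h.1, Subgroup.mem_centralizer_iff.1 h.2 m rfl⟩
    · intro h
      refine ⟨h.1, Subgroup.mem_centralizer_iff.2 ?_⟩
      intro x hx
      rw [Set.mem_singleton_iff.1 hx]
      exact h.2
  -- invariance under K
  have hinv : ∀ k ∈ K, ∀ v ∈ U, k * v * k⁻¹ ∈ U := by
    intro k hk v hv
    rw [hU] at hv ⊢
    refine ⟨hVn.conj_mem v hv.1 k, ?_⟩
    have h1 : (k⁻¹ * m * k) * v = v * (k⁻¹ * m * k) := hzp _ (hnorm k hk) v hv.2
    calc m * (k * v * k⁻¹) = k * ((k⁻¹ * m * k) * v) * k⁻¹ := by group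
      _ = k * (v * (k⁻¹ * m * k)) * k⁻¹ := by rw [h1]
      _ = k * v * k⁻¹ * m := by group
  have hKU : K ≤ Subgroup.normalizer (U : Set G) := by
    intro k hk
    rw [Subgroup.mem_normalizer_iff]
    intro v
    constructor
    · intro hv
      exact hinv k hk v hv
    · intro hv
      have := hinv k⁻¹ (K.inv_mem hk) _ hv
      simpa [mul_assoc] using this
  rcases ctx.shape.irred U inf_le_left hKU with hbot | htop
  · intro v hv hc
    have : v ∈ U := (hU v).2 ⟨hv, hc⟩
    rw [hbot, Subgroup.mem_bot] at this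
    exact this
  · exfalso
    have hm1 : m = 1 := by
      apply ctx.shape.faithful m hmK
      intro v hv
      have : v ∈ U := by rw [htop]; exact hv
      exact ((hU v).1 this).2
    rw [hm1, orderOf_one] at hom
    exact hcP.ne_one hom.symm

example : NPBadStmt.{0} := npBad

end Cfsg.Agent.Lib.H29.S3814C2NPBad
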