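import Cfsg.Prelude.Def_GeometricClasses
import Cfsg.Agent.Lib.H4.Herm

/-! Abstract Hermitian forms `f(v, w) = f(w, v)^2` over the field with four elements:
orthonormal vectors, non-isotropic vectors in non-degenerate subspaces. -/

set_option autoImplicit false

namespace Cfsg.Agent.Lib.H29.HermF4

open Matrix

section Field4

variable {F : Type*} [Field F] [Fintype F]

theorem f4_pow4 (hF : Fintype.card F = 4) (x : F) : x ^ 4 = x := by
  have := FiniteField.pow_card x
  rwa [hF] at this

theorem f4_two (hF : Fintype.card F = 4) : (1 : F) + 1 = 0 := by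
  have := f4_pow4 hF (-1 : F)
  have h : ((-1 : F)) ^ 4 = 1 := by ring
  rw [h] at this
  linear_combination this

theorem f4_cube (hF : Fintype.card F = 4) (x : F) (hx : x ≠ 0) : x ^ 3 = 1 := by
  have := f4_pow4 hF x
  have h : x * (x ^ 3 - 1) = 0 := by linear_combination this
  rcases mul_eq_zero.mp h with h | h
  · exact absurd h hx
  · linear_combination h

theorem f4_exists (hF : Fintype.card F = 4) : ∃ ω : F, ω ≠ 0 ∧ ω ≠ 1 := by
  classical
  by_contra h
  push Not at h
  have h3 : (Finset.univ : Finset F) ⊆ {0, 1} := by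
    intro x _
    by_cases hx : x = 0
    · simp [hx]
    · simp [h x hx]
  have := Finset.card_le_card h3
  rw [Finset.card_univ, hF] at this
  have h2 : ({0, 1} : Finset F).card ≤ 2 := Finset.card_le_two
  omega

omit [Fintype F] in
theorem sq_eq_self (x : F) (h : x ^ 2 = x) : x = 0 ∨ x = 1 := by
  have : x * (x - 1) = 0 := by linear_combination h
  rcases mul_eq_zero.mp this with h | h
  · left; exact h
  · right; linear_combination h

theorem f4_add_sq (hF : Fintype.card F = 4) (x y : F) : (x + y) ^ 2 = x ^ 2 + y ^ 2 := by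
  have two := f4_two hF
  linear_combination (x * y) * two

theorem f4_sum_sq (hF : Fintype.card F = 4) {ι : Type*} (s : Finset ι) (g : ι → F) :
    (∑ i ∈ s, g i) ^ 2 = ∑ i ∈ s, g i ^ 2 := by
  classical
  induction s using Finset.induction_on with
  | empty => simp
  | insert a s ha ih => rw [Finset.sum_insert ha, Finset.sum_insert ha, f4_add_sq hF, ih]

end Field4

/-- `f` is additive and homogeneous in the first variable and Hermitian for `x ↦ x^2`. -/
structure IsHerm {F : Type*} [Field F] {κ : Type*} (f : (κ → F) → (κ → F) → F) : Prop where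
  add_left : ∀ x y v, f (x + y) v = f x v + f y v
  smul_left : ∀ (c : F) (x v : κ → F), f (c • x) v = c * f x v
  herm : ∀ v w, f v w = (f w v) ^ 2

theorem isHerm_of_unitary {F : Type*} [Field F] {κ : Type} [Fintype κ] [DecidableEq κ]
    {f : (κ → F) → (κ → F) → F} (hf : Cfsg.Geo.IsUnitaryFormPow 2 f) : IsHerm f :=
  ⟨hf.add_left, hf.smul_left, hf.herm⟩

theorem isHerm_hermForm {F : Type*} [Field F] [Fintype F] (hF : Fintype.card F = 4) (n : ℕ) :
    IsHerm (Cfsg.hermForm n F 2) :=
  ⟨Cfsg.Agent.Lib.H4.hermForm_add_left n, Cfsg.Agent.Lib.H4.hermForm_smul_left n,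
    fun v w => (Cfsg.Agent.Lib.H4.hermForm_conj n (by rw [hF]; norm_num) w v).symm⟩

section Herm

variable {F : Type*} [Field F] [Fintype F] {κ : Type*} {f : (κ → F) → (κ → F) → F}

omit [Fintype F] in
theorem IsHerm.zero_left (hf : IsHerm f) (v : κ → F) : f 0 v = 0 := by
  have := hf.smul_left 0 0 v
  simpa using this

omit [Fintype F] in
theorem IsHerm.zero_right (hf : IsHerm f) (v : κ → F) : f v 0 = 0 := by
  rw [hf.herm, hf.zero_left]
  simp

theorem IsHerm.add_right (hf : IsHerm f) (hF : Fintype.card F = 4) (v x y : κ → F) :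
    f v (x + y) = f v x + f v y := by
  rw [hf.herm, hf.add_left, f4_add_sq hF, ← hf.herm, ← hf.herm]

omit [Fintype F] in
theorem IsHerm.smul_right (hf : IsHerm f) (c : F) (v x : κ → F) :
    f v (c • x) = c ^ 2 * f v x := by
  rw [hf.herm, hf.smul_left, mul_pow, ← hf.herm]

omit [Fintype F] in
theorem IsHerm.conj (hf : IsHerm f) (u v : κ → F) : (f u v) ^ 2 = f v u := (hf.herm v u).symm

omit [Fintype F] in
theorem IsHerm.self_cases (hf : IsHerm f) (v : κ → F) : f v v = 0 ∨ f v v = 1 :=
  sq_eq_self _ (hf.conj v v)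

omit [Fintype F] in
theorem IsHerm.eq_zero_symm (hf : IsHerm f) {u v : κ → F} (h : f u v = 0) : f v u = 0 := by
  rw [hf.herm, h]
  simp

theorem IsHerm.sum_left (hf : IsHerm f) {ι : Type*} (s : Finset ι) (g : ι → κ → F) (v : κ → F) :
    f (∑ i ∈ s, g i) v = ∑ i ∈ s, f (g i) v := by
  classical
  induction s using Finset.induction_on with
  | empty => simp [hf.zero_left]
  | insert a s ha ih => rw [Finset.sum_insert ha, Finset.sum_insert ha, hf.add_left, ih]

theorem IsHerm.sum_right (hf : IsHerm f) (hF : Fintype.card F = 4) {ι : Type*} (s : Finset ι)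
    (g : ι → κ → F) (v : κ → F) :
    f v (∑ i ∈ s, g i) = ∑ i ∈ s, f v (g i) := by
  classical
  induction s using Finset.induction_on with
  | empty => simp [hf.zero_right]
  | insert a s ha ih => rw [Finset.sum_insert ha, Finset.sum_insert ha, hf.add_right hF, ih]

/-- a nonzero subspace on which `f` is non-degenerate contains a vector with `f e e = 1`. -/
theorem IsHerm.exists_unit (hf : IsHerm f) (hF : Fintype.card F = 4) (W : Submodule F (κ → F))
    (hne : ∃ u ∈ W, u ≠ 0) (hnd : ∀ u ∈ W, u ≠ 0 → ∃ v ∈ W, f v u ≠ 0) :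
    ∃ e ∈ W, f e e = 1 := by
  have two := f4_two hF
  by_contra hall
  have hall' : ∀ e ∈ W, f e e = 0 := by
    intro e he
    rcases hf.self_cases e with h | h
    · exact h
    · exact absurd ⟨e, he, h⟩ hall
  obtain ⟨u, hu, hu0⟩ := hne
  obtain ⟨v, hv, hvu⟩ := hnd u hu hu0
  obtain ⟨ω, hω0, hω1⟩ := f4_exists hF
  have key : ∀ c : F, c ^ 2 * (f v u) ^ 2 + c * f v u = 0 := by
    intro c
    have := hall' (u + c • v) (W.add_mem hu (W.smul_mem c hv))
    rw [hf.add_left, hf.add_right hF, hf.add_right hF, hf.smul_left, hf.smul_left,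
      hf.smul_right, hf.smul_right, hall' u hu, hall' v hv, ← hf.conj v u] at this
    linear_combination this
  have h1 := key 1
  have h2 := key ω
  have ha1 : f v u = 1 := by
    have : f v u * (f v u + 1) = 0 := by linear_combination h1
    rcases mul_eq_zero.mp this with h | h
    · exact absurd h hvu
    · linear_combination h - two
  rw [ha1] at h2
  have : ω * (ω + 1) = 0 := by linear_combination h2
  rcases mul_eq_zero.mp this with h | h
  · exact hω0 h
  · exact hω1 (by linear_combination h - two)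

/-- extend an orthonormal family by one more vector. -/
theorem IsHerm.exists_orthonormal_next {κ : Type*} [Fintype κ] {f : (κ → F) → (κ → F) → F}
    (hf : IsHerm f) (hF : Fintype.card F = 4)
    (hnd : ∀ v : κ → F, v ≠ 0 → ∃ x, f x v ≠ 0) {k : ℕ} (zs : Fin k → κ → F)
    (hon : ∀ i j, f (zs i) (zs j) = if i = j then 1 else 0) (hk : k < Fintype.card κ) :
    ∃ z : κ → F, f z z = 1 ∧ (∀ i, f z (zs i) = 0) ∧ ∀ i, f (zs i) z = 0 := by
  classical
  have two := f4_two hF
  let W : Submodule F (κ → F) :=
    { carrier := {z | ∀ i, f z (zs i) = 0}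
      add_mem' := by
        intro a b ha hb i
        rw [hf.add_left, ha i, hb i, add_zero]
      zero_mem' := fun i => hf.zero_left _
      smul_mem' := by
        intro c a ha i
        rw [hf.smul_left, ha i, mul_zero] }
  have hWmem : ∀ z, z ∈ W ↔ ∀ i, f z (zs i) = 0 := fun z => Iff.rfl
  have hproj : ∀ x : κ → F, x + ∑ i, f x (zs i) • zs i ∈ W := by
    intro x
    rw [hWmem]
    intro j
    rw [hf.add_left, hf.sum_left]
    simp only [hf.smul_left, hon, mul_ite, mul_one, mul_zero, Finset.sum_ite_eq', Finset.mem_univ,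
      if_true]
    linear_combination f x (zs j) * two
  have hWnd : ∀ u ∈ W, u ≠ 0 → ∃ v ∈ W, f v u ≠ 0 := by
    intro w hw hw0
    obtain ⟨x, hx⟩ := hnd w hw0
    refine ⟨_, hproj x, ?_⟩
    rw [hf.add_left, hf.sum_left]
    have : ∀ i ∈ Finset.univ, f (f x (zs i) • zs i) w = 0 := by
      intro i _
      rw [hf.smul_left, hf.eq_zero_symm ((hWmem w).mp hw i), mul_zero]
    rw [Finset.sum_eq_zero this, add_zero]
    exact hx
  have hWne : ∃ u ∈ W, u ≠ 0 := by
    have hlt : Submodule.span F (Set.range zs) < ⊤ := by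
      rw [lt_top_iff_ne_top]
      intro h
      have h1 : Module.finrank F (Submodule.span F (Set.range zs)) ≤ k := by
        have := finrank_range_le_card (R := F) zs
        rw [Fintype.card_fin] at this
        exact this
      rw [h, finrank_top, Module.finrank_fintype_fun_eq_card] at h1
      omega
    obtain ⟨p, -, hp⟩ := SetLike.exists_of_lt hlt
    refine ⟨_, hproj p, ?_⟩
    intro h0
    apply hp
    have : p = -∑ i, f p (zs i) • zs i := eq_neg_of_add_eq_zero_left h0
    rw [this]
    refine Submodule.neg_mem _ (Submodule.sum_mem _ fun i _ => ?_)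
    exact Submodule.smul_mem _ _ (Submodule.subset_span ⟨i, rfl⟩)
  obtain ⟨z, hz, hzz⟩ := hf.exists_unit hF W hWne hWnd
  exact ⟨z, hzz, (hWmem z).mp hz, fun i => hf.eq_zero_symm ((hWmem z).mp hz i)⟩

end Herm

end Cfsg.Agent.Lib.H29.HermF4
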