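/-
S3313 piece A5 (helper29): facts on `alternatingGroup (Fin 5)` by kernel `decide`
(on helper9's `A5Facts`).
-/
import Mathlib
import Cfsg.Agent.Lib.H9.A5FactsB
import Cfsg.Agent.Lib.H9.A5FactsC

set_option autoImplicit false

namespace Cfsg.Agent.Lib.H29.HJ

open Cfsg.Agent.Lib.H9.A5Facts

local notation "A5" => alternatingGroup (Fin 5)

theorem a5_card : Nat.card (alternatingGroup (Fin 5)) = 60 := by
  have := two_mul_nat_card_alternatingGroup (α := Fin 5)
  rw [Nat.card_eq_fintype_card (α := Equiv.Perm (Fin 5)), Fintype.card_perm, Fintype.card_fin]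
    at this
  have h5 : Nat.factorial 5 = 120 := by decide
  omega

set_option maxRecDepth 100000 in
theorem five_dec : ∃ a : A5, a * a * a * a * a = 1 ∧ a ≠ 1 := by
  decide

theorem a5_exists_order_five : ∃ a : alternatingGroup (Fin 5), orderOf a = 5 := by
  obtain ⟨a, h1, h2⟩ := five_dec
  refine ⟨a, orderOf_eq_five_of a ?_ h2⟩
  rw [← h1]
  simp only [pow_succ, pow_zero, one_mul]

theorem a5_count_invol : Nat.card {a : alternatingGroup (Fin 5) // orderOf a = 2} = 15 :=
  a5_card_order_two

set_option maxRecDepth 100000 in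
theorem comm_dec : ∀ a : A5, a * a = 1 → a ≠ 1 →
    Fintype.card {b : A5 // (b * b = 1 ∧ b ≠ 1) ∧ b ≠ a ∧ a * b = b * a} = 2 := by
  decide

/-- the centralizer of an involution of `A₅` is a four-group -/
theorem a5_count_comm (a : alternatingGroup (Fin 5)) (ha : orderOf a = 2) :
    Nat.card {b : alternatingGroup (Fin 5) // orderOf b = 2 ∧ b ≠ a ∧ a * b = b * a} = 2 := by
  have ha' := (orderOf_eq_two_iff' a).mp ha
  rw [Nat.card_congr (Equiv.subtypeEquivRight (fun b =>
    and_congr_left' (orderOf_eq_two_iff' b))), Nat.card_eq_fintype_card]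
  exact comm_dec a ha'.1 ha'.2

set_option maxRecDepth 100000 in
theorem dich_dec : ∀ g : A5, (g * g * g) * (g * g * g) * (g * g * g) * (g * g * g) * (g * g * g) = 1 ∨
    g * g = 1 := by
  decide

theorem odd_iff (g : A5) : Odd (orderOf g) ↔ (g * g = 1 → g = 1) := by
  constructor
  · intro h hg
    have h2 : orderOf g ∣ 2 := orderOf_dvd_of_pow_eq_one (by rw [pow_two]; exact hg)
    have h3 : orderOf g = 1 ∨ orderOf g = 2 := by
      have := Nat.le_of_dvd (by norm_num) h2
      have h0 : orderOf g ≠ 0 := fun h0 => by rw [h0] at h; exact absurd h (by decide)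
      interval_cases orderOf g
      · exact absurd rfl h0
      · exact Or.inl rfl
      · exact Or.inr rfl
    rcases h3 with h3 | h3
    · exact orderOf_eq_one_iff.1 h3
    · rw [h3] at h
      exact absurd h (by decide)
  · intro h
    rcases dich_dec g with h1 | h1
    · have h15 : g ^ 15 = 1 := by
        rw [← h1]
        simp only [pow_succ, pow_zero, one_mul, mul_assoc]
      have hd : orderOf g ∣ 15 := orderOf_dvd_of_pow_eq_one h15
      rcases hd with ⟨c, hc⟩
      by_contra hodd
      rw [Nat.not_odd_iff_even] at hodd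
      obtain ⟨r, hr⟩ := hodd
      have h30 : 15 = 2 * (r * c) := by
        rw [hc, hr]
        ring
      omega
    · rw [h h1, orderOf_one]
      exact odd_one

set_option maxRecDepth 100000 in
theorem pairs_dec : Fintype.card {p : A5 × A5 // (p.1 * p.1 = 1 ∧ p.1 ≠ 1) ∧ p.2 * p.2 = 1 ∧
    (p.1 * p.2 * (p.1 * p.2) = 1 → p.1 * p.2 = 1)} = 195 := by
  decide +kernel

/-- for an involution `a`: `b ∈ {1} ∪ I(A₅)` with `a b` of odd order: `b = a` and the 12 involutions
not commuting with `a`; `15 * 13 = 195` -/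
theorem a5_count_pairs :
    Nat.card {p : alternatingGroup (Fin 5) × alternatingGroup (Fin 5) //
      orderOf p.1 = 2 ∧ p.2 * p.2 = 1 ∧ Odd (orderOf (p.1 * p.2))} = 195 := by
  rw [Nat.card_congr (Equiv.subtypeEquivRight (fun p : A5 × A5 =>
    and_congr (orderOf_eq_two_iff' p.1) (and_congr_right' (odd_iff (p.1 * p.2))))),
    Nat.card_eq_fintype_card]
  exact pairs_dec

end Cfsg.Agent.Lib.H29.HJ
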