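import Mathlib
import Cfsg.Prelude.Def_LieTwisted
import Cfsg.Agent.Lib.H29.TwAutD4

/-!
# The commutator of two twisted short root elements of `³D₄`

`[x_S(18, t), x_S(17, u)] = x_22(-(tu + φ(tu) + φ²(tu)))`.
-/

set_option autoImplicit false
set_option linter.unusedSectionVars false
set_option linter.unusedSimpArgs false
set_option linter.unusedVariables false

namespace Cfsg.Agent.Lib.H29.TwGen

open Cfsg.Lie Matrix Cfsg.Agent.Lib.H29.Chev

section abstract

variable {G : Type*} [Group G]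

/-- pushing `X` to the right of a product of two factors -/
theorem push_two (X P Q v w : G) (h1 : X * P = P * X * v) (h2 : X * Q = Q * X * w) (hvQ : v * Q = Q * v) :
    X * (P * Q) = (P * Q) * X * (w * v) := by
  calc X * (P * Q) = (X * P) * Q := (mul_assoc _ _ _).symm
    _ = P * X * v * Q := by rw [h1]
    _ = P * X * (Q * v) := by rw [mul_assoc (P * X), hvQ]
    _ = P * (X * Q) * v := by simp only [mul_assoc]
    _ = P * (Q * X * w) * v := by rw [h2]
    _ = (P * Q) * X * (w * v) := by simp only [mul_assoc]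

/-- pushing a product of two factors to the right of `B` -/
theorem push_prod (X Y B v w : G) (h1 : X * B = B * X * v) (h2 : Y * B = B * Y * w) (hvY : v * Y = Y * v) :
    (X * Y) * B = B * (X * Y) * (v * w) := by
  calc X * Y * B = X * (Y * B) := mul_assoc _ _ _
    _ = X * (B * Y * w) := by rw [h2]
    _ = (X * B) * Y * w := by simp only [mul_assoc]
    _ = B * X * v * Y * w := by rw [h1]
    _ = B * X * (Y * v) * w := by rw [mul_assoc (B * X) v Y, hvY]
    _ = B * (X * Y) * (v * w) := by simp only [mul_assoc]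

/-- the commutator, from the relation `A B = B A V` with `V` commuting with `A` and `B` -/
theorem comm_of_push (A B V : G) (h : A * B = B * A * V) (hA : V * A = A * V) (hB : V * B = B * V) :
    A * B * A⁻¹ * B⁻¹ = V := by
  have hA' : V * A⁻¹ = A⁻¹ * V := (Commute.inv_right (show Commute V A from hA)).eq
  calc A * B * A⁻¹ * B⁻¹ = B * A * (V * A⁻¹) * B⁻¹ := by rw [h]; simp only [mul_assoc]
    _ = B * A * (A⁻¹ * V) * B⁻¹ := by rw [hA']
    _ = (B * V) * B⁻¹ := by simp only [mul_assoc, mul_inv_cancel_left]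
    _ = V := by rw [← hB, mul_assoc, mul_inv_cancel, mul_one]

/-- the commutator of two products of three factors, with central "diagonal" commutators -/
theorem comm_three {A0 A1 A2 B0 B1 B2 V0 V1 V2 : G}
    (c01 : A0 * B1 = B1 * A0) (c02 : A0 * B2 = B2 * A0) (c10 : A1 * B0 = B0 * A1)
    (c12 : A1 * B2 = B2 * A1) (c20 : A2 * B0 = B0 * A2) (c21 : A2 * B1 = B1 * A2)
    (e0 : A0 * B0 = B0 * A0 * V0) (e1 : A1 * B1 = B1 * A1 * V1) (e2 : A2 * B2 = B2 * A2 * V2)
    (hV : ∀ V, V = V0 ∨ V = V1 ∨ V = V2 → ∀ X, X = A0 ∨ X = A1 ∨ X = A2 ∨ X = B0 ∨ X = B1 ∨ X = B2 →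
      V * X = X * V) :
    (A0 * (A1 * A2)) * (B0 * (B1 * B2)) * (A0 * (A1 * A2))⁻¹ * (B0 * (B1 * B2))⁻¹ = V0 * V1 * V2 := by
  have one : ∀ X : G, (1 : G) * X = X * 1 := fun X => by rw [one_mul, mul_one]
  have vB : ∀ V, V = V0 ∨ V = V1 ∨ V = V2 → V * (B0 * (B1 * B2)) = (B0 * (B1 * B2)) * V := by
    intro V hVm
    have h0 := hV V hVm B0 (by tauto)
    have h1 := hV V hVm B1 (by tauto)
    have h2 := hV V hVm B2 (by tauto)
    calc V * (B0 * (B1 * B2)) = (V * B0) * (B1 * B2) := (mul_assoc _ _ _).symm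
      _ = B0 * ((V * B1) * B2) := by rw [h0]; simp only [mul_assoc]
      _ = B0 * (B1 * (V * B2)) := by rw [h1]; simp only [mul_assoc]
      _ = (B0 * (B1 * B2)) * V := by rw [h2]; simp only [mul_assoc]
  have vA : ∀ V, V = V0 ∨ V = V1 ∨ V = V2 → V * (A0 * (A1 * A2)) = (A0 * (A1 * A2)) * V := by
    intro V hVm
    have h0 := hV V hVm A0 (by tauto)
    have h1 := hV V hVm A1 (by tauto)
    have h2 := hV V hVm A2 (by tauto)
    calc V * (A0 * (A1 * A2)) = (V * A0) * (A1 * A2) := (mul_assoc _ _ _).symm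
      _ = A0 * ((V * A1) * A2) := by rw [h0]; simp only [mul_assoc]
      _ = A0 * (A1 * (V * A2)) := by rw [h1]; simp only [mul_assoc]
      _ = (A0 * (A1 * A2)) * V := by rw [h2]; simp only [mul_assoc]
  -- each `A_i` past the product of the `B_j`
  have p0 : A0 * (B0 * (B1 * B2)) = (B0 * (B1 * B2)) * A0 * V0 := by
    have h12 : A0 * (B1 * B2) = (B1 * B2) * A0 * (1 * 1) :=
      push_two A0 B1 B2 1 1 (by rw [mul_one]; exact c01) (by rw [mul_one]; exact c02) (one B2)
    have := push_two A0 B0 (B1 * B2) V0 (1 * 1) e0 h12 (by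
      rw [← mul_assoc, hV V0 (by tauto) B1 (by tauto), mul_assoc, hV V0 (by tauto) B2 (by tauto), mul_assoc])
    rw [this, one_mul, one_mul]
  have p1 : A1 * (B0 * (B1 * B2)) = (B0 * (B1 * B2)) * A1 * V1 := by
    have h12 : A1 * (B1 * B2) = (B1 * B2) * A1 * (1 * V1) :=
      push_two A1 B1 B2 V1 1 e1 (by rw [mul_one]; exact c12) (hV V1 (by tauto) B2 (by tauto))
    have := push_two A1 B0 (B1 * B2) 1 (1 * V1) (by rw [mul_one]; exact c10) h12 (one _)
    rw [this, one_mul, mul_one]
  have p2 : A2 * (B0 * (B1 * B2)) = (B0 * (B1 * B2)) * A2 * V2 := by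
    have h12 : A2 * (B1 * B2) = (B1 * B2) * A2 * (V2 * 1) :=
      push_two A2 B1 B2 1 V2 (by rw [mul_one]; exact c21) e2 (one B2)
    have := push_two A2 B0 (B1 * B2) 1 (V2 * 1) (by rw [mul_one]; exact c20) h12 (one _)
    rw [this, mul_one, mul_one]
  have p12 : (A1 * A2) * (B0 * (B1 * B2)) = (B0 * (B1 * B2)) * (A1 * A2) * (V1 * V2) :=
    push_prod A1 A2 _ V1 V2 p1 p2 (hV V1 (by tauto) A2 (by tauto))
  have p012 : (A0 * (A1 * A2)) * (B0 * (B1 * B2)) = (B0 * (B1 * B2)) * (A0 * (A1 * A2)) * (V0 * (V1 * V2)) :=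
    push_prod A0 (A1 * A2) _ V0 (V1 * V2) p0 p12 (by
      rw [← mul_assoc, hV V0 (by tauto) A1 (by tauto), mul_assoc, hV V0 (by tauto) A2 (by tauto), mul_assoc])
  have hVA : (V0 * (V1 * V2)) * (A0 * (A1 * A2)) = (A0 * (A1 * A2)) * (V0 * (V1 * V2)) := by
    rw [mul_assoc, mul_assoc, vA V2 (by tauto), ← mul_assoc V1, vA V1 (by tauto), mul_assoc, ← mul_assoc V0,
      vA V0 (by tauto)]
    simp only [mul_assoc]
  have hVB : (V0 * (V1 * V2)) * (B0 * (B1 * B2)) = (B0 * (B1 * B2)) * (V0 * (V1 * V2)) := by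
    rw [mul_assoc, mul_assoc, vB V2 (by tauto), ← mul_assoc V1, vB V1 (by tauto), mul_assoc, ← mul_assoc V0,
      vB V0 (by tauto)]
    simp only [mul_assoc]
  rw [comm_of_push _ _ _ p012 hVA hVB, mul_assoc]

end abstract

section D4

variable {K : Type*} [Field K]

theorem xS18_D4 (φ : K →+* K) (t : K) :
    cert12_D4.xS gaD4a 3 φ 18 t =
      cert12_D4.c6.c2.xA 18 t * (cert12_D4.c6.c2.xA 13 (φ t) * cert12_D4.c6.c2.xA 12 (φ (φ t))) := by
  have hos : fdD4.os gaD4a 3 18 = 3 := by decide +kernel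
  have g1 : fdD4.gIt gaD4a 1 18 = 13 := by decide +kernel
  have g2 : fdD4.gIt gaD4a 2 18 = 12 := by decide +kernel
  have e0 : fdD4.eProd gaD4a 18 0 = 1 := by decide +kernel
  have e1 : fdD4.eProd gaD4a 18 1 = 1 := by decide +kernel
  have e2 : fdD4.eProd gaD4a 18 2 = 1 := by decide +kernel
  unfold Cert12.xS
  rw [hos]
  simp only [List.range_succ, List.range_zero, List.nil_append, List.cons_append, List.map_cons, List.map_nil,
    List.prod_cons, List.prod_nil, mul_one]
  unfold Cert12.aj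
  rw [fdD4.gIt_zero, g1, g2, e0, e1, e2]
  simp only [Int.cast_one, one_mul, Function.iterate_zero, id, Function.iterate_succ, Function.comp]

theorem xS17_D4 (φ : K →+* K) (u : K) :
    cert12_D4.xS gaD4a 3 φ 17 u =
      cert12_D4.c6.c2.xA 17 u * (cert12_D4.c6.c2.xA 20 (-φ u) * cert12_D4.c6.c2.xA 21 (-φ (φ u))) := by
  have hos : fdD4.os gaD4a 3 17 = 3 := by decide +kernel
  have g1 : fdD4.gIt gaD4a 1 17 = 20 := by decide +kernel
  have g2 : fdD4.gIt gaD4a 2 17 = 21 := by decide +kernel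
  have e0 : fdD4.eProd gaD4a 17 0 = 1 := by decide +kernel
  have e1 : fdD4.eProd gaD4a 17 1 = -1 := by decide +kernel
  have e2 : fdD4.eProd gaD4a 17 2 = -1 := by decide +kernel
  unfold Cert12.xS
  rw [hos]
  simp only [List.range_succ, List.range_zero, List.nil_append, List.cons_append, List.map_cons, List.map_nil,
    List.prod_cons, List.prod_nil, mul_one]
  unfold Cert12.aj
  rw [fdD4.gIt_zero, g1, g2, e0, e1, e2]
  simp only [Int.cast_one, Int.cast_neg, one_mul, neg_mul, Function.iterate_zero, id, Function.iterate_succ,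
    Function.comp]

/-- two root elements of `D₄` with no commutator terms commute -/
theorem xA_comm_D4 (r s : ℕ) (hr : r < 24) (hs : s < 24) (h1 : s ≠ r) (h2 : s ≠ 23 - r)
    (hct : fdD4.commT r s = []) (t u : K) :
    cert12_D4.c6.c2.xA s u * cert12_D4.c6.c2.xA r t = cert12_D4.c6.c2.xA r t * cert12_D4.c6.c2.xA s u := by
  have := cert12_D4.c6.cfg (F := K) r s hr hs h1 h2 t u
  rw [hct] at this
  unfold Cert2.ctG at this
  simpa using this

/-- two root elements of `D₄` with a single commutator term -/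
theorem xA_comm1_D4 (r s γ : ℕ) (ε : ℤ) (hr : r < 24) (hs : s < 24) (h1 : s ≠ r) (h2 : s ≠ 23 - r)
    (hct : fdD4.commT r s = [(γ, ε, 1, 1)]) (t u : K) :
    cert12_D4.c6.c2.xA s u * cert12_D4.c6.c2.xA r t =
      cert12_D4.c6.c2.xA r t * cert12_D4.c6.c2.xA s u * cert12_D4.c6.c2.xA γ ((ε : K) * (-t) * u) := by
  have := cert12_D4.c6.cfg (F := K) r s hr hs h1 h2 t u
  rw [hct] at this
  unfold Cert2.ctG at this
  simpa using this

/-- the long root element of the fixed root `22` commutes with the six short root elements -/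
theorem xA22_comm_D4 (r : ℕ) (hr : r = 18 ∨ r = 13 ∨ r = 12 ∨ r = 17 ∨ r = 20 ∨ r = 21) (t u : K) :
    cert12_D4.c6.c2.xA 22 u * cert12_D4.c6.c2.xA r t = cert12_D4.c6.c2.xA r t * cert12_D4.c6.c2.xA 22 u := by
  rcases hr with rfl | rfl | rfl | rfl | rfl | rfl
  · exact xA_comm_D4 18 22 (by norm_num) (by norm_num) (by norm_num) (by norm_num) (by decide +kernel) t u
  · exact xA_comm_D4 13 22 (by norm_num) (by norm_num) (by norm_num) (by norm_num) (by decide +kernel) t u
  · exact xA_comm_D4 12 22 (by norm_num) (by norm_num) (by norm_num) (by norm_num) (by decide +kernel) t u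
  · exact xA_comm_D4 17 22 (by norm_num) (by norm_num) (by norm_num) (by norm_num) (by decide +kernel) t u
  · exact xA_comm_D4 20 22 (by norm_num) (by norm_num) (by norm_num) (by norm_num) (by decide +kernel) t u
  · exact xA_comm_D4 21 22 (by norm_num) (by norm_num) (by norm_num) (by norm_num) (by decide +kernel) t u

/-- COMM (3D4), explicit form: the commutator of the twisted short root elements at the roots `18` and `17` is
the long root element at the fixed root `22` with parameter minus the trace of `t u`. -/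
theorem comm_D4_explicit (φ : K →+* K) (t u : K) :
    cert12_D4.xS gaD4a 3 φ 18 t * cert12_D4.xS gaD4a 3 φ 17 u *
        (cert12_D4.xS gaD4a 3 φ 18 t)⁻¹ * (cert12_D4.xS gaD4a 3 φ 17 u)⁻¹ =
      cert12_D4.c6.c2.xA 22 (-(t * u) + -φ (t * u) + -φ (φ (t * u))) := by
  rw [xS18_D4, xS17_D4]
  have c01 := xA_comm_D4 (K := K) 20 18 (by norm_num) (by norm_num) (by norm_num) (by norm_num)
    (by decide +kernel) (-φ u) t
  have c02 := xA_comm_D4 (K := K) 21 18 (by norm_num) (by norm_num) (by norm_num) (by norm_num)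
    (by decide +kernel) (-φ (φ u)) t
  have c10 := xA_comm_D4 (K := K) 17 13 (by norm_num) (by norm_num) (by norm_num) (by norm_num)
    (by decide +kernel) u (φ t)
  have c12 := xA_comm_D4 (K := K) 21 13 (by norm_num) (by norm_num) (by norm_num) (by norm_num)
    (by decide +kernel) (-φ (φ u)) (φ t)
  have c20 := xA_comm_D4 (K := K) 17 12 (by norm_num) (by norm_num) (by norm_num) (by norm_num)
    (by decide +kernel) u (φ (φ t))
  have c21 := xA_comm_D4 (K := K) 20 12 (by norm_num) (by norm_num) (by norm_num) (by norm_num)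
    (by decide +kernel) (-φ u) (φ (φ t))
  have e0 := xA_comm1_D4 (K := K) 17 18 22 1 (by norm_num) (by norm_num) (by norm_num) (by norm_num)
    (by decide +kernel) u t
  have e1 := xA_comm1_D4 (K := K) 20 13 22 (-1) (by norm_num) (by norm_num) (by norm_num) (by norm_num)
    (by decide +kernel) (-φ u) (φ t)
  have e2 := xA_comm1_D4 (K := K) 21 12 22 (-1) (by norm_num) (by norm_num) (by norm_num) (by norm_num)
    (by decide +kernel) (-φ (φ u)) (φ (φ t))
  rw [comm_three c01 c02 c10 c12 c20 c21 e0 e1 e2 (by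
    intro V hV X hX
    rcases hV with rfl | rfl | rfl <;> rcases hX with rfl | rfl | rfl | rfl | rfl | rfl <;>
      exact xA22_comm_D4 _ (by norm_num) _ _)]
  rw [Cert2.xA_mul, Cert2.xA_mul]
  congr 1
  simp only [map_mul, Int.cast_one, Int.cast_neg]
  ring

/-- COMM (3D4): the commutator of the twisted short root elements at `a = α₀` (root 18, orbit {18,13,12}) and
`2a+b = α₁+α₂+α₃` (root 17, orbit {17,20,21}) is the long root element at `3a+b` (root 22, fixed), with a
"trace form" parameter. The coefficients are signs; only `c0 ≠ 0` is used. -/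
theorem comm_D4 (φ : K →+* K) :
    ∃ c0 c1 c2 : K, c0 ≠ 0 ∧ ∀ t u : K,
      cert12_D4.xS gaD4a 3 φ 18 t * cert12_D4.xS gaD4a 3 φ 17 u *
        (cert12_D4.xS gaD4a 3 φ 18 t)⁻¹ * (cert12_D4.xS gaD4a 3 φ 17 u)⁻¹ =
      cert12_D4.c6.c2.xA 22 (c0 * (t * u) + c1 * φ (t * u) + c2 * φ (φ (t * u))) := by
  refine ⟨-1, -1, -1, neg_ne_zero.mpr one_ne_zero, ?_⟩
  intro t u
  rw [comm_D4_explicit]
  congr 1
  ring

end D4

end Cfsg.Agent.Lib.H29.TwGen
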