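import Mathlib
import Cfsg.Prelude.Def_LieTwisted
import Cfsg.Agent.Lib.H29.TwAutE6
import Cfsg.Agent.Lib.H29.TwGenCOMM

/-!
# Two commutators of twisted root elements of `²E₆`

* `[x_S(41, t), x_S(50, u)] = x_S(54, -(tu))`;
* `[x_S(40, t), x_S(66, u)] = x_70(-(t φ(u)) - φ(t φ(u)))`.
-/

set_option autoImplicit false
set_option linter.unusedSectionVars false
set_option linter.unusedSimpArgs false
set_option linter.unusedVariables false

namespace Cfsg.Agent.Lib.H29.TwGen

open Cfsg.Lie Matrix Cfsg.Agent.Lib.H29.Chev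

section abstract

variable {G : Type*} [Group G]

/-- the commutator of two products of two factors, with central "diagonal" commutators -/
theorem comm_two {A0 A1 B0 B1 V0 V1 : G}
    (c01 : A0 * B1 = B1 * A0) (c10 : A1 * B0 = B0 * A1)
    (e0 : A0 * B0 = B0 * A0 * V0) (e1 : A1 * B1 = B1 * A1 * V1)
    (hV : ∀ V, V = V0 ∨ V = V1 → ∀ X, X = A0 ∨ X = A1 ∨ X = B0 ∨ X = B1 → V * X = X * V) :
    (A0 * A1) * (B0 * B1) * (A0 * A1)⁻¹ * (B0 * B1)⁻¹ = V0 * V1 := by
  have := comm_three (A0 := A0) (A1 := A1) (A2 := 1) (B0 := B0) (B1 := B1) (B2 := 1) (V0 := V0) (V1 := V1)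
    (V2 := 1) c01 (by rw [mul_one, one_mul]) c10 (by rw [mul_one, one_mul]) (by rw [mul_one, one_mul])
    (by rw [mul_one, one_mul]) e0 e1 (by simp) (by
      intro V hVm X hXm
      rcases hVm with rfl | rfl | rfl
      · rcases hXm with rfl | rfl | rfl | rfl | rfl | rfl
        · exact hV _ (by tauto) _ (by tauto)
        · exact hV _ (by tauto) _ (by tauto)
        · rw [mul_one, one_mul]
        · exact hV _ (by tauto) _ (by tauto)
        · exact hV _ (by tauto) _ (by tauto)
        · rw [mul_one, one_mul]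
      · rcases hXm with rfl | rfl | rfl | rfl | rfl | rfl
        · exact hV _ (by tauto) _ (by tauto)
        · exact hV _ (by tauto) _ (by tauto)
        · rw [mul_one, one_mul]
        · exact hV _ (by tauto) _ (by tauto)
        · exact hV _ (by tauto) _ (by tauto)
        · rw [mul_one, one_mul]
      · rw [mul_one, one_mul])
  simpa using this

end abstract

section generic

variable {D : ChevalleyDatum} {fd : FD} {fx : FX} {fc : FC} {fz : FZ} {F : Type*} [Field F]
  (C : Cert12 D fd fx fc fz)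
include C

/-- two root elements with no commutator terms commute -/
theorem xA_comm_of (r s : ℕ) (hr : r < fd.n) (hs : s < fd.n) (h1 : s ≠ r) (h2 : s ≠ fd.n - 1 - r)
    (hct : fd.commT r s = []) (t u : F) :
    C.c6.c2.xA s u * C.c6.c2.xA r t = C.c6.c2.xA r t * C.c6.c2.xA s u := by
  have := C.c6.cfg (F := F) r s hr hs h1 h2 t u
  rw [hct] at this
  unfold Cert2.ctG at this
  simpa using this

/-- two root elements with a single commutator term -/
theorem xA_comm1_of (r s γ : ℕ) (ε : ℤ) (hr : r < fd.n) (hs : s < fd.n) (h1 : s ≠ r) (h2 : s ≠ fd.n - 1 - r)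
    (hct : fd.commT r s = [(γ, ε, 1, 1)]) (t u : F) :
    C.c6.c2.xA s u * C.c6.c2.xA r t =
      C.c6.c2.xA r t * C.c6.c2.xA s u * C.c6.c2.xA γ ((ε : F) * (-t) * u) := by
  have := C.c6.cfg (F := F) r s hr hs h1 h2 t u
  rw [hct] at this
  unfold Cert2.ctG at this
  simpa using this

/-- the twisted root element of an orbit of size two -/
theorem xS_two (ga : GA) (φ : F →+* F) (r r' : ℕ) (ε : ℤ) (hos : fd.os ga 2 r = 2) (hg : fd.gIt ga 1 r = r')
    (he0 : fd.eProd ga r 0 = 1) (he1 : fd.eProd ga r 1 = ε) (t : F) :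
    C.xS ga 2 φ r t = C.c6.c2.xA r t * C.c6.c2.xA r' ((ε : F) * φ t) := by
  unfold Cert12.xS
  rw [hos]
  simp only [List.range_succ, List.range_zero, List.nil_append, List.cons_append, List.map_cons, List.map_nil,
    List.prod_cons, List.prod_nil, mul_one]
  unfold Cert12.aj
  rw [fd.gIt_zero, hg, he0, he1]
  simp only [Int.cast_one, one_mul, Function.iterate_zero, id, Function.iterate_succ, Function.comp]

end generic

section E6

variable {K : Type*} [Field K]

set_option maxRecDepth 100000 in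
theorem xS41_E6 (φ : K →+* K) (t : K) :
    cert12_E6.xS gaE6a 2 φ 41 t = cert12_E6.c6.c2.xA 41 t * cert12_E6.c6.c2.xA 58 (φ t) := by
  rw [xS_two cert12_E6 gaE6a φ 41 58 1 (by decide +kernel) (by decide +kernel) (by decide +kernel)
    (by decide +kernel), Int.cast_one, one_mul]

set_option maxRecDepth 100000 in
theorem xS50_E6 (φ : K →+* K) (t : K) :
    cert12_E6.xS gaE6a 2 φ 50 t = cert12_E6.c6.c2.xA 50 t * cert12_E6.c6.c2.xA 48 (φ t) := by
  rw [xS_two cert12_E6 gaE6a φ 50 48 1 (by decide +kernel) (by decide +kernel) (by decide +kernel)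
    (by decide +kernel), Int.cast_one, one_mul]

set_option maxRecDepth 100000 in
theorem xS54_E6 (φ : K →+* K) (t : K) :
    cert12_E6.xS gaE6a 2 φ 54 t = cert12_E6.c6.c2.xA 54 t * cert12_E6.c6.c2.xA 64 (-φ t) := by
  rw [xS_two cert12_E6 gaE6a φ 54 64 (-1) (by decide +kernel) (by decide +kernel) (by decide +kernel)
    (by decide +kernel), Int.cast_neg, Int.cast_one, neg_one_mul]

set_option maxRecDepth 100000 in
theorem xS40_E6 (φ : K →+* K) (t : K) :
    cert12_E6.xS gaE6a 2 φ 40 t = cert12_E6.c6.c2.xA 40 t * cert12_E6.c6.c2.xA 43 (-φ t) := by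
  rw [xS_two cert12_E6 gaE6a φ 40 43 (-1) (by decide +kernel) (by decide +kernel) (by decide +kernel)
    (by decide +kernel), Int.cast_neg, Int.cast_one, neg_one_mul]

set_option maxRecDepth 100000 in
theorem xS66_E6 (φ : K →+* K) (t : K) :
    cert12_E6.xS gaE6a 2 φ 66 t = cert12_E6.c6.c2.xA 66 t * cert12_E6.c6.c2.xA 68 (φ t) := by
  rw [xS_two cert12_E6 gaE6a φ 66 68 1 (by decide +kernel) (by decide +kernel) (by decide +kernel)
    (by decide +kernel), Int.cast_one, one_mul]

set_option maxRecDepth 100000 in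
/-- COMM-iv (2E6), explicit form -/
theorem comm_E6_iv_explicit (φ : K →+* K) (t u : K) :
    cert12_E6.xS gaE6a 2 φ 41 t * cert12_E6.xS gaE6a 2 φ 50 u *
        (cert12_E6.xS gaE6a 2 φ 41 t)⁻¹ * (cert12_E6.xS gaE6a 2 φ 50 u)⁻¹ =
      cert12_E6.xS gaE6a 2 φ 54 (-(t * u)) := by
  rw [xS41_E6, xS50_E6, xS54_E6]
  have c01 := xA_comm_of (F := K) cert12_E6 48 41 (by decide) (by decide) (by decide) (by decide)
    (by decide +kernel) (φ u) t
  have c10 := xA_comm_of (F := K) cert12_E6 50 58 (by decide) (by decide) (by decide) (by decide)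
    (by decide +kernel) u (φ t)
  have e0 := xA_comm1_of (F := K) cert12_E6 50 41 54 1 (by decide) (by decide) (by decide) (by decide)
    (by decide +kernel) u t
  have e1 := xA_comm1_of (F := K) cert12_E6 48 58 64 (-1) (by decide) (by decide) (by decide) (by decide)
    (by decide +kernel) (φ u) (φ t)
  have v54 : ∀ r, r = 41 ∨ r = 58 ∨ r = 50 ∨ r = 48 → ∀ x y : K,
      cert12_E6.c6.c2.xA 54 y * cert12_E6.c6.c2.xA r x = cert12_E6.c6.c2.xA r x * cert12_E6.c6.c2.xA 54 y := by
    intro r hr x y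
    rcases hr with rfl | rfl | rfl | rfl
    · exact xA_comm_of cert12_E6 41 54 (by decide) (by decide) (by decide) (by decide) (by decide +kernel) x y
    · exact xA_comm_of cert12_E6 58 54 (by decide) (by decide) (by decide) (by decide) (by decide +kernel) x y
    · exact xA_comm_of cert12_E6 50 54 (by decide) (by decide) (by decide) (by decide) (by decide +kernel) x y
    · exact xA_comm_of cert12_E6 48 54 (by decide) (by decide) (by decide) (by decide) (by decide +kernel) x y
  have v64 : ∀ r, r = 41 ∨ r = 58 ∨ r = 50 ∨ r = 48 → ∀ x y : K,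
      cert12_E6.c6.c2.xA 64 y * cert12_E6.c6.c2.xA r x = cert12_E6.c6.c2.xA r x * cert12_E6.c6.c2.xA 64 y := by
    intro r hr x y
    rcases hr with rfl | rfl | rfl | rfl
    · exact xA_comm_of cert12_E6 41 64 (by decide) (by decide) (by decide) (by decide) (by decide +kernel) x y
    · exact xA_comm_of cert12_E6 58 64 (by decide) (by decide) (by decide) (by decide) (by decide +kernel) x y
    · exact xA_comm_of cert12_E6 50 64 (by decide) (by decide) (by decide) (by decide) (by decide +kernel) x y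
    · exact xA_comm_of cert12_E6 48 64 (by decide) (by decide) (by decide) (by decide) (by decide +kernel) x y
  rw [comm_two c01 c10 e0 e1 (by
    intro V hV X hX
    rcases hV with rfl | rfl
    · rcases hX with rfl | rfl | rfl | rfl <;> exact v54 _ (by norm_num) _ _
    · rcases hX with rfl | rfl | rfl | rfl <;> exact v64 _ (by norm_num) _ _)]
  congr 2
  · simp only [Int.cast_one]; ring
  · simp only [map_mul, map_neg, Int.cast_one, Int.cast_neg]; ring

/-- COMM-iv (2E6): two short twisted roots at 120 degrees. Orbits {41,58}, {50,48}, {54,64}. -/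
theorem comm_E6_iv (φ : K →+* K) (hφ2 : ∀ x : K, φ (φ x) = x) :
    ∃ c : K, c ≠ 0 ∧ ∀ t u : K,
      cert12_E6.xS gaE6a 2 φ 41 t * cert12_E6.xS gaE6a 2 φ 50 u *
        (cert12_E6.xS gaE6a 2 φ 41 t)⁻¹ * (cert12_E6.xS gaE6a 2 φ 50 u)⁻¹ =
      cert12_E6.xS gaE6a 2 φ 54 (c * (t * u)) := by
  refine ⟨-1, neg_ne_zero.mpr one_ne_zero, ?_⟩
  intro t u
  rw [comm_E6_iv_explicit, neg_one_mul]

set_option maxRecDepth 100000 in
/-- COMM-ii' (2E6), explicit form -/
theorem comm_E6_ii_explicit (φ : K →+* K) (t u : K) :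
    cert12_E6.xS gaE6a 2 φ 40 t * cert12_E6.xS gaE6a 2 φ 66 u *
        (cert12_E6.xS gaE6a 2 φ 40 t)⁻¹ * (cert12_E6.xS gaE6a 2 φ 66 u)⁻¹ =
      cert12_E6.c6.c2.xA 70 (-(t * φ u) + -(φ t * u)) := by
  rw [xS40_E6, xS66_E6]
  -- the two factors of `x_S(66, u)` commute
  have hB := xA_comm_of (F := K) cert12_E6 68 66 (by decide) (by decide) (by decide) (by decide)
    (by decide +kernel) (φ u) u
  rw [hB]
  have c01 := xA_comm_of (F := K) cert12_E6 66 40 (by decide) (by decide) (by decide) (by decide)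
    (by decide +kernel) u t
  have c10 := xA_comm_of (F := K) cert12_E6 68 43 (by decide) (by decide) (by decide) (by decide)
    (by decide +kernel) (φ u) (-φ t)
  have e0 := xA_comm1_of (F := K) cert12_E6 68 40 70 1 (by decide) (by decide) (by decide) (by decide)
    (by decide +kernel) (φ u) t
  have e1 := xA_comm1_of (F := K) cert12_E6 66 43 70 (-1) (by decide) (by decide) (by decide) (by decide)
    (by decide +kernel) u (-φ t)
  have v70 : ∀ r, r = 40 ∨ r = 43 ∨ r = 68 ∨ r = 66 → ∀ x y : K,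
      cert12_E6.c6.c2.xA 70 y * cert12_E6.c6.c2.xA r x = cert12_E6.c6.c2.xA r x * cert12_E6.c6.c2.xA 70 y := by
    intro r hr x y
    rcases hr with rfl | rfl | rfl | rfl
    · exact xA_comm_of cert12_E6 40 70 (by decide) (by decide) (by decide) (by decide) (by decide +kernel) x y
    · exact xA_comm_of cert12_E6 43 70 (by decide) (by decide) (by decide) (by decide) (by decide +kernel) x y
    · exact xA_comm_of cert12_E6 68 70 (by decide) (by decide) (by decide) (by decide) (by decide +kernel) x y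
    · exact xA_comm_of cert12_E6 66 70 (by decide) (by decide) (by decide) (by decide) (by decide +kernel) x y
  rw [comm_two c01 c10 e0 e1 (by
    intro V hV X hX
    rcases hV with rfl | rfl <;> rcases hX with rfl | rfl | rfl | rfl <;> exact v70 _ (by norm_num) _ _)]
  rw [Cert2.xA_mul]
  congr 1
  simp only [Int.cast_one, Int.cast_neg]
  ring

/-- COMM-ii' (2E6): two orthogonal short twisted roots whose "cross" sum is a fixed (long) root.
Orbits {40,43}, {66,68}, fixed root 70. -/
theorem comm_E6_ii (φ : K →+* K) (hφ2 : ∀ x : K, φ (φ x) = x) :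
    ∃ c0 c1 : K, c0 ≠ 0 ∧ ∀ t u : K,
      cert12_E6.xS gaE6a 2 φ 40 t * cert12_E6.xS gaE6a 2 φ 66 u *
        (cert12_E6.xS gaE6a 2 φ 40 t)⁻¹ * (cert12_E6.xS gaE6a 2 φ 66 u)⁻¹ =
      cert12_E6.c6.c2.xA 70 (c0 * (t * φ u) + c1 * φ (t * φ u)) := by
  refine ⟨-1, -1, neg_ne_zero.mpr one_ne_zero, ?_⟩
  intro t u
  rw [comm_E6_ii_explicit, map_mul, hφ2]
  congr 1
  ring

end E6

end Cfsg.Agent.Lib.H29.TwGen
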