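import Mathlib
import Cfsg.Agent.Lib.L0.SFDefs
import Cfsg.Agent.Lib.H26.SFA
import Cfsg.Agent.Lib.H3.SFC2

/-!
# S4130-D1 (lead farm-out; helper29): `G'` is nilpotent when all class sizes of `G` are squarefree.

Induction on the order: `U` minimal normal of prime order (C2), `G'` centralises `U` (`Aut U` abelian),
`(G/U)'` nilpotent by induction, and the kernel `G' ∩ U` of `G' → (G/U)'` is central in `G'`.
-/

set_option autoImplicit false

universe u

namespace Cfsg.Agent.Lib.H29.SF

open Cfsg.Agent.Lib.L0.SF

/-- A nontrivial finite group has a minimal normal subgroup. -/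
theorem exists_minimal_normal_D1 {G : Type*} [Group G] [Finite G] [Nontrivial G] :
    ∃ U : Subgroup G, U.Normal ∧ U ≠ ⊥ ∧ ∀ V : Subgroup G, V.Normal → V ≤ U → V = ⊥ ∨ V = U := by
  have hne : {U : Subgroup G | U.Normal ∧ U ≠ ⊥}.Nonempty :=
    ⟨⊤, inferInstance, top_ne_bot⟩
  obtain ⟨U, ⟨hUn, hU⟩, hmin⟩ := wellFounded_lt.has_min _ hne
  refine ⟨U, hUn, hU, ?_⟩
  intro V hVn hVU
  by_cases hV : V = ⊥
  · exact Or.inl hV
  · right
    by_contra hne'
    exact hmin V ⟨hVn, hV⟩ (lt_of_le_of_ne hVU hne')

/-- The commutator subgroup centralises every cyclic normal subgroup. -/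
theorem commutator_le_centralizer_of_isCyclic {G : Type*} [Group G] (U : Subgroup G) [U.Normal]
    (hU : IsCyclic U) : commutator G ≤ Subgroup.centralizer (U : Set G) := by
  have hcomm : ∀ φ ψ : MulAut U, φ * ψ = ψ * φ := by
    intro φ ψ
    apply (IsCyclic.mulAutMulEquiv U).injective
    rw [map_mul, map_mul, mul_comm]
  rw [commutator_def, Subgroup.commutator_le]
  intro a _ b _
  rw [Subgroup.mem_centralizer_iff]
  intro u hu
  rw [commutatorElement_def]
  have h1 : MulAut.conjNormal (H := U) (a * b * a⁻¹ * b⁻¹) = 1 := by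
    rw [← commutatorElement_def, map_commutatorElement, commutatorElement_eq_one_iff_commute]
    exact hcomm _ _
  have h2 := congrArg (fun φ : MulAut U => ((φ ⟨u, hu⟩ : U) : G)) h1
  simp only [MulAut.conjNormal_apply, MulAut.one_apply] at h2
  exact (mul_inv_eq_iff_eq_mul.mp h2).symm

/-- Core of D1, parametrised by C2 (minimal normal subgroups have prime order). -/
theorem isNilpotent_commutator_of_C2
    (hC2 : ∀ (H : Type u) [Group H] [Finite H], SFClass H → ∀ (U : Subgroup H) [U.Normal], U ≠ ⊥ →
      (∀ V : Subgroup H, V.Normal → V ≤ U → V = ⊥ ∨ V = U) → (Nat.card U).Prime)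
    {G : Type u} [Group G] [Finite G] (h : SFClass G) : Group.IsNilpotent ↥(commutator G) := by
  induction hn : Nat.card G using Nat.strong_induction_on generalizing G with
  | _ n ih =>
    by_cases hG : Subsingleton G
    · infer_instance
    rw [not_subsingleton_iff_nontrivial] at hG
    obtain ⟨U, hUn, hU, hmin⟩ := exists_minimal_normal_D1 (G := G)
    have hprime := hC2 G h U hU hmin
    have : Fact (Nat.card U).Prime := ⟨hprime⟩
    have hcyc : IsCyclic U := isCyclic_of_prime_card rfl
    have hcent := commutator_le_centralizer_of_isCyclic U hcyc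
    -- the quotient
    have hQ : SFClass (G ⧸ U) := Cfsg.Agent.Lib.H26.SF.SFClass.quotient h U
    have hlt : Nat.card (G ⧸ U) < n := by
      rw [← hn, Subgroup.card_eq_card_quotient_mul_card_subgroup U]
      have h2 : 1 < Nat.card U := hprime.one_lt
      have h0 : 0 < Nat.card (G ⧸ U) := Nat.card_pos
      nlinarith
    have hnil : Group.IsNilpotent ↥(commutator (G ⧸ U)) := ih _ hlt hQ rfl
    -- the homomorphism G' → (G/U)'
    let f : ↥(commutator G) →* G ⧸ U := (QuotientGroup.mk' U).comp (commutator G).subtype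
    have hf : ∀ x : ↥(commutator G), f x ∈ commutator (G ⧸ U) := by
      intro x
      have hx : (x : G) ∈ ⁅(⊤ : Subgroup G), (⊤ : Subgroup G)⁆ := by
        have hle : commutator G ≤ ⁅(⊤ : Subgroup G), (⊤ : Subgroup G)⁆ := (commutator_def G).le
        exact hle x.2
      have hQdef : commutator (G ⧸ U) = ⁅(⊤ : Subgroup (G ⧸ U)), (⊤ : Subgroup (G ⧸ U))⁆ := commutator_def _
      rw [hQdef]
      have := Subgroup.mem_map_of_mem (QuotientGroup.mk' U) hx
      rw [Subgroup.map_commutator] at this
      exact Subgroup.commutator_mono le_top le_top this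
    apply Subgroup.isNilpotent_of_ker_le_center (f.codRestrict (commutator (G ⧸ U)) hf)
    rw [MonoidHom.ker_codRestrict]
    intro x hx
    rw [MonoidHom.mem_ker] at hx
    have hxU : (x : G) ∈ U := by
      have : (QuotientGroup.mk' U) (x : G) = 1 := hx
      rwa [QuotientGroup.mk'_apply, QuotientGroup.eq_one_iff] at this
    rw [Subgroup.mem_center_iff]
    intro y
    apply Subtype.ext
    have hy := hcent y.2
    rw [Subgroup.mem_centralizer_iff] at hy
    have := hy (x : G) hxU
    simpa using this.symm

/-- **S4130-D1** (uses A3, C2).  `G'` is nilpotent. -/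
theorem SFClass.isNilpotent_commutator {G : Type*} [Group G] [Finite G] (h : SFClass G) :
    Group.IsNilpotent ↥(commutator G) :=
  isNilpotent_commutator_of_C2
    (fun _ _ _ hH U _ hU hmin =>
      Cfsg.Agent.Lib.H3.SF.SFClass.card_prime_of_minimal_normal hH U hU hmin) h

end Cfsg.Agent.Lib.H29.SF
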