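/-
S3702 piece SHAPE1 (helper29): the degree equations kill `shape1`.
-/
import Mathlib
import Cfsg.Agent.Lib.H18.L648Defs
import Cfsg.Agent.Lib.H18.LatEnum

set_option autoImplicit false

namespace Cfsg.Agent.Lib.H29.L648

open Cfsg Cfsg.Agent.Lib.H7.T648 Cfsg.Agent.Lib.H18 Cfsg.Agent.Lib.H18.L648
  Cfsg.Agent.Lib.H18.LatEnum

/-- the degree equations force `D₁₀ = D₁₁ = 0` -/
theorem shape1_false (g : ℕ) (D : List ℤ) (h : ShapeOK shape1 g D) : False := by
  obtain ⟨hlen, hne, hdeg, -, -⟩ := h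
  rcases D with _ | ⟨d0, D⟩
  · simp [shape1] at hlen
  rcases D with _ | ⟨d1, D⟩
  · simp [shape1] at hlen
  rcases D with _ | ⟨d2, D⟩
  · simp [shape1] at hlen
  rcases D with _ | ⟨d3, D⟩
  · simp [shape1] at hlen
  rcases D with _ | ⟨d4, D⟩
  · simp [shape1] at hlen
  rcases D with _ | ⟨d5, D⟩
  · simp [shape1] at hlen
  rcases D with _ | ⟨d6, D⟩
  · simp [shape1] at hlen
  rcases D with _ | ⟨d7, D⟩
  · simp [shape1] at hlen
  rcases D with _ | ⟨d8, D⟩
  · simp [shape1] at hlen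
  rcases D with _ | ⟨d9, D⟩
  · simp [shape1] at hlen
  rcases D with _ | ⟨d10, D⟩
  · simp [shape1] at hlen
  rcases D with _ | ⟨d11, D⟩
  · simp [shape1] at hlen
  rcases D with _ | ⟨d12, D⟩
  swap
  · simp [shape1] at hlen
  have e0 := hdeg 0
  have e1 := hdeg 1
  have e2 := hdeg 2
  have e3 := hdeg 3
  have e4 := hdeg 4
  have e5 := hdeg 5
  have e6 := hdeg 6
  have e7 := hdeg 7
  have e8 := hdeg 8
  simp [LatEnum.dot, shape1, a0] at e0 e1 e2 e3 e4 e5 e6 e7 e8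
  have hz : d10 = 0 := by omega
  exact hne d10 (by simp) hz

end Cfsg.Agent.Lib.H29.L648
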