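/-
S3702 piece SHAPE3 (helper29, twin): a rational combination of six class equations kills `shape3`.
-/
import Mathlib
import Cfsg.Agent.Lib.H18.L648Defs
import Cfsg.Agent.Lib.H18.LatEnum

set_option autoImplicit false

namespace Cfsg.Agent.Lib.H29.L648

open Cfsg Cfsg.Agent.Lib.H7.T648 Cfsg.Agent.Lib.H18 Cfsg.Agent.Lib.H18.L648
  Cfsg.Agent.Lib.H18.LatEnum

theorem vJ3_0_1 : vJ 1 [0, 0, 0, 0, 0, 0, 0, 1, 0] = 0 := by decide +kernel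
theorem vJ3_0_2 : vJ 2 [0, 0, 0, 0, 0, 0, 0, 1, 0] = -3 := by decide +kernel
theorem vJ3_0_3 : vJ 3 [0, 0, 0, 0, 0, 0, 0, 1, 0] = 3 := by decide +kernel
theorem vJ3_1_1 : vJ 1 [0, 0, 0, 0, 0, 0, 1, 0, 1] = -4 := by decide +kernel
theorem vJ3_1_2 : vJ 2 [0, 0, 0, 0, 0, 0, 1, 0, 1] = -1 := by decide +kernel
theorem vJ3_1_3 : vJ 3 [0, 0, 0, 0, 0, 0, 1, 0, 1] = 2 := by decide +kernel
theorem vJ3_2_1 : vJ 1 [0, 0, 0, 0, 0, 1, 0, 0, 1] = 3 := by decide +kernel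
theorem vJ3_2_2 : vJ 2 [0, 0, 0, 0, 0, 1, 0, 0, 1] = -3 := by decide +kernel
theorem vJ3_2_3 : vJ 3 [0, 0, 0, 0, 0, 1, 0, 0, 1] = 0 := by decide +kernel
theorem vJ3_3_1 : vJ 1 [0, 0, 0, 0, 0, 1, 1, 0, 0] = -1 := by decide +kernel
theorem vJ3_3_2 : vJ 2 [0, 0, 0, 0, 0, 1, 1, 0, 0] = 2 := by decide +kernel
theorem vJ3_3_3 : vJ 3 [0, 0, 0, 0, 0, 1, 1, 0, 0] = -4 := by decide +kernel
theorem vJ3_4_1 : vJ 1 [0, 0, 0, 0, 1, 0, 0, 0, 0] = 3 := by decide +kernel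
theorem vJ3_4_2 : vJ 2 [0, 0, 0, 0, 1, 0, 0, 0, 0] = 0 := by decide +kernel
theorem vJ3_4_3 : vJ 3 [0, 0, 0, 0, 1, 0, 0, 0, 0] = -3 := by decide +kernel
theorem vJ3_5_1 : vJ 1 [0, 0, 0, 1, 1, 1, 0, 0, 0] = -2 := by decide +kernel
theorem vJ3_5_2 : vJ 2 [0, 0, 0, 1, 1, 1, 0, 0, 0] = -2 := by decide +kernel
theorem vJ3_5_3 : vJ 3 [0, 0, 0, 1, 1, 1, 0, 0, 0] = -2 := by decide +kernel
theorem vJ3_6_1 : vJ 1 [0, 0, 1, 1, 0, 1, 1, 1, 0] = -3 := by decide +kernel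
theorem vJ3_6_2 : vJ 2 [0, 0, 1, 1, 0, 1, 1, 1, 0] = -3 := by decide +kernel
theorem vJ3_6_3 : vJ 3 [0, 0, 1, 1, 0, 1, 1, 1, 0] = -3 := by decide +kernel
theorem vJ3_7_1 : vJ 1 [0, 0, 1, 1, 1, 0, 1, 0, 1] = -3 := by decide +kernel
theorem vJ3_7_2 : vJ 2 [0, 0, 1, 1, 1, 0, 1, 0, 1] = -3 := by decide +kernel
theorem vJ3_7_3 : vJ 3 [0, 0, 1, 1, 1, 0, 1, 0, 1] = -3 := by decide +kernel
theorem vJ3_8_1 : vJ 1 [0, 1, 0, 0, 0, 0, 0, 0, 0] = 4 := by decide +kernel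
theorem vJ3_8_2 : vJ 2 [0, 1, 0, 0, 0, 0, 0, 0, 0] = -2 := by decide +kernel
theorem vJ3_8_3 : vJ 3 [0, 1, 0, 0, 0, 0, 0, 0, 0] = 1 := by decide +kernel
theorem vJ3_9_1 : vJ 1 [0, 1, 0, 1, 0, 0, 0, -1, -1] = -4 := by decide +kernel
theorem vJ3_9_2 : vJ 2 [0, 1, 0, 1, 0, 0, 0, -1, -1] = 2 := by decide +kernel
theorem vJ3_9_3 : vJ 3 [0, 1, 0, 1, 0, 0, 0, -1, -1] = -1 := by decide +kernel
theorem vJ3_10_1 : vJ 1 [1, 0, 0, 0, 0, 0, 0, 0, 0] = -3 := by decide +kernel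
theorem vJ3_10_2 : vJ 2 [1, 0, 0, 0, 0, 0, 0, 0, 0] = 0 := by decide +kernel
theorem vJ3_10_3 : vJ 3 [1, 0, 0, 0, 0, 0, 0, 0, 0] = 3 := by decide +kernel
theorem vJ3_11_1 : vJ 1 [1, 0, 1, 0, 0, 0, 0, 0, 0] = 3 := by decide +kernel
theorem vJ3_11_2 : vJ 2 [1, 0, 1, 0, 0, 0, 0, 0, 0] = 0 := by decide +kernel
theorem vJ3_11_3 : vJ 3 [1, 0, 1, 0, 0, 0, 0, 0, 0] = -3 := by decide +kernel

/-- `-1/3 (1,1,3) - 1/3 (1,3,3) + (1,2,2) - 2/3 (3,3,2) - 2/3 (3,2,2) + (1,3,2)` of the class equations is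
`27 / D₂ = 0` -/
theorem shape3_false (g : ℕ) (D : List ℤ) (h : ShapeOK shape3 g D) : False := by
  obtain ⟨hlen, hne, -, -, hce⟩ := h
  rcases D with _ | ⟨d0, D⟩
  · simp [shape3] at hlen
  rcases D with _ | ⟨d1, D⟩
  · simp [shape3] at hlen
  rcases D with _ | ⟨d2, D⟩
  · simp [shape3] at hlen
  rcases D with _ | ⟨d3, D⟩
  · simp [shape3] at hlen
  rcases D with _ | ⟨d4, D⟩
  · simp [shape3] at hlen
  rcases D with _ | ⟨d5, D⟩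
  · simp [shape3] at hlen
  rcases D with _ | ⟨d6, D⟩
  · simp [shape3] at hlen
  rcases D with _ | ⟨d7, D⟩
  · simp [shape3] at hlen
  rcases D with _ | ⟨d8, D⟩
  · simp [shape3] at hlen
  rcases D with _ | ⟨d9, D⟩
  · simp [shape3] at hlen
  rcases D with _ | ⟨d10, D⟩
  · simp [shape3] at hlen
  rcases D with _ | ⟨d11, D⟩
  · simp [shape3] at hlen
  rcases D with _ | ⟨d12, D⟩
  swap
  · simp [shape3] at hlen
  have e113 := hce ((1, 1, 3), 0) (by simp [tripleData])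
  have e133 := hce ((1, 3, 3), 36) (by simp [tripleData])
  have e122 := hce ((1, 2, 2), 16) (by simp [tripleData])
  have e332 := hce ((3, 3, 2), 18) (by simp [tripleData])
  have e322 := hce ((3, 2, 2), 24) (by simp [tripleData])
  have e132 := hce ((1, 3, 2), 24) (by simp [tripleData])
  simp only [ceSum, shape3, List.bind_eq_flatMap, List.flatMap_cons, List.flatMap_nil, List.pure_def,
    List.cons_append, List.nil_append, List.append_nil, List.zipWith_cons_cons, List.zipWith_nil_right,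
    List.sum_cons, List.sum_nil,
    vJ3_0_1, vJ3_0_2, vJ3_0_3, vJ3_1_1, vJ3_1_2, vJ3_1_3, vJ3_2_1, vJ3_2_2, vJ3_2_3, vJ3_3_1, vJ3_3_2, vJ3_3_3, vJ3_4_1, vJ3_4_2, vJ3_4_3, vJ3_5_1, vJ3_5_2, vJ3_5_3, vJ3_6_1, vJ3_6_2, vJ3_6_3, vJ3_7_1, vJ3_7_2, vJ3_7_3, vJ3_8_1, vJ3_8_2, vJ3_8_3, vJ3_9_1, vJ3_9_2, vJ3_9_3, vJ3_10_1, vJ3_10_2, vJ3_10_3, vJ3_11_1, vJ3_11_2, vJ3_11_3] at e113 e133 e122 e332 e322 e132
  push_cast at e113 e133 e122 e332 e322 e132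
  have hd2 : (d2 : ℚ) ≠ 0 := by
    have := hne d2 (by simp)
    exact_mod_cast this
  have key : (27 : ℚ) / (d2 : ℚ) = 0 := by
    linear_combination (-1 / 3 : ℚ) * e113 + (-1 / 3 : ℚ) * e133 + e122 + (-2 / 3 : ℚ) * e332 +
      (-2 / 3 : ℚ) * e322 + e132
  rw [div_eq_zero_iff] at key
  rcases key with h27 | h0
  · norm_num at h27
  · exact hd2 h0

end Cfsg.Agent.Lib.H29.L648
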