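import Cfsg.Agent.Lib.H20.WeilDefs

/-!
# WEIL-W6 (helper29, for helper20's S2347 farm-out): even and odd functions on `F^n`, `q` odd

`2 * finrank Sminus + 1 = q^n`, `finrank Splus = finrank Sminus + 1`, and an operator commuting with
the parity preserves `Splus` and `Sminus`.
-/

set_option autoImplicit false

namespace Cfsg.Agent.Lib.H29.Weil

open Matrix Module Cfsg.Agent.Lib.H12.LS2 Cfsg.Agent.Lib.H20.Weil

variable {F : Type*} [Field F] {n : ℕ}

theorem w6_neg_ne_self (h2 : (2 : F) ≠ 0) {x : Fin n → F} (hx : x ≠ 0) : -x ≠ x := by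
  intro h
  apply hx
  funext i
  have h1 : -x i = x i := congrFun h i
  have h3 : x i + x i = 0 := neg_eq_iff_add_eq_zero.1 h1
  rw [← two_mul] at h3
  rcases mul_eq_zero.1 h3 with h4 | h4
  · exact absurd h4 h2
  · exact h4

variable [Fintype F]

open Classical in
/-- a choice of signs on the pairs `{x, -x}` -/
noncomputable def w6sgn (x : Fin n → F) : ℂ :=
  if x = 0 then 0
  else if Fintype.equivFin (Fin n → F) x < Fintype.equivFin (Fin n → F) (-x) then 1 else -1

theorem w6sgn_zero : w6sgn (0 : Fin n → F) = 0 := by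
  unfold w6sgn
  rw [if_pos rfl]

theorem w6sgn_neg (h2 : (2 : F) ≠ 0) (x : Fin n → F) : w6sgn (-x) = - w6sgn x := by
  classical
  by_cases hx : x = 0
  · rw [hx, neg_zero, w6sgn_zero, neg_zero]
  · have hnx : -x ≠ 0 := neg_ne_zero.2 hx
    have hne : Fintype.equivFin (Fin n → F) (-x) ≠ Fintype.equivFin (Fin n → F) x := by
      intro h
      exact w6_neg_ne_self h2 hx ((Fintype.equivFin (Fin n → F)).injective h)
    unfold w6sgn
    rw [if_neg hx, if_neg hnx, neg_neg]
    rcases lt_or_gt_of_ne hne with h | h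
    · rw [if_pos h, if_neg (not_lt.2 h.le)]
      simp
    · rw [if_neg (not_lt.2 h.le), if_pos h]

theorem w6sgn_mul_self {x : Fin n → F} (hx : x ≠ 0) : w6sgn x * w6sgn x = 1 := by
  classical
  unfold w6sgn
  rw [if_neg hx]
  split_ifs <;> norm_num

omit [Fintype F] in
theorem w6_odd_zero {f : (Fin n → F) → ℂ} (hf : f ∈ Sminus n F) : f 0 = 0 := by
  have h := hf 0
  rw [neg_zero] at h
  have h1 : f 0 + f 0 = 0 := by
    nth_rewrite 1 [h]
    exact neg_add_cancel _
  have h3 : (2 : ℂ) * f 0 = 0 := by rw [two_mul]; exact h1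
  rcases mul_eq_zero.1 h3 with h4 | h4
  · exact absurd h4 two_ne_zero
  · exact h4

/-- `g ↦ (sgn * g, g 0)` from the even functions to (odd functions) × ℂ -/
noncomputable def w6Phi (h2 : (2 : F) ≠ 0) : Splus n F →ₗ[ℂ] (Sminus n F × ℂ) where
  toFun g := (⟨fun x => w6sgn x * (g : (Fin n → F) → ℂ) x, by
    intro x
    show w6sgn (-x) * (g : (Fin n → F) → ℂ) (-x) = -(w6sgn x * (g : (Fin n → F) → ℂ) x)
    rw [w6sgn_neg h2, g.2 x]
    ring⟩, (g : (Fin n → F) → ℂ) 0)
  map_add' g g' := by
    apply Prod.ext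
    · apply Subtype.ext
      funext x
      simp [mul_add]
    · simp
  map_smul' c g := by
    apply Prod.ext
    · apply Subtype.ext
      funext x
      simp
      ring
    · simp

theorem w6Phi_fst (h2 : (2 : F) ≠ 0) (g : Splus n F) (x : Fin n → F) :
    (((w6Phi h2 g).1 : Sminus n F) : (Fin n → F) → ℂ) x = w6sgn x * (g : (Fin n → F) → ℂ) x := rfl

theorem w6Phi_snd (h2 : (2 : F) ≠ 0) (g : Splus n F) :
    (w6Phi h2 g).2 = (g : (Fin n → F) → ℂ) 0 := rfl

theorem w6Phi_bijective (h2 : (2 : F) ≠ 0) : Function.Bijective (w6Phi (F := F) (n := n) h2) := by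
  classical
  constructor
  · rw [← LinearMap.ker_eq_bot, LinearMap.ker_eq_bot']
    intro g hg
    apply Subtype.ext
    funext x
    show (g : (Fin n → F) → ℂ) x = 0
    by_cases hx : x = 0
    · have h := congrArg Prod.snd hg
      rw [w6Phi_snd] at h
      rw [hx]
      exact h
    · have h := congrArg (fun p : Sminus n F × ℂ => ((p.1 : Sminus n F) : (Fin n → F) → ℂ) x) hg
      simp only [w6Phi_fst] at h
      have h1 : w6sgn x * (g : (Fin n → F) → ℂ) x = 0 := h
      rcases mul_eq_zero.1 h1 with h3 | h3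
      · exfalso
        have h4 := w6sgn_mul_self hx
        rw [h3, mul_zero] at h4
        exact zero_ne_one h4
      · exact h3
  · rintro ⟨f, c⟩
    refine ⟨⟨fun x => w6sgn x * (f : (Fin n → F) → ℂ) x + (if x = 0 then c else 0), ?_⟩, ?_⟩
    · intro x
      show w6sgn (-x) * (f : (Fin n → F) → ℂ) (-x) + (if -x = 0 then c else 0)
        = w6sgn x * (f : (Fin n → F) → ℂ) x + (if x = 0 then c else 0)
      rw [w6sgn_neg h2, f.2 x]
      simp only [neg_eq_zero]
      ring
    · apply Prod.ext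
      · apply Subtype.ext
        funext x
        rw [w6Phi_fst]
        show w6sgn x * (w6sgn x * (f : (Fin n → F) → ℂ) x + (if x = 0 then c else 0))
          = (f : (Fin n → F) → ℂ) x
        by_cases hx : x = 0
        · rw [hx, w6sgn_zero, zero_mul, w6_odd_zero f.2]
        · rw [if_neg hx, add_zero, ← mul_assoc, w6sgn_mul_self hx, one_mul]
      · rw [w6Phi_snd]
        show w6sgn (0 : Fin n → F) * (f : (Fin n → F) → ℂ) 0 + (if (0 : Fin n → F) = 0 then c else 0) = c
        rw [if_pos rfl, w6sgn_zero, zero_mul, zero_add]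

theorem finrank_Splus (h2 : (2 : F) ≠ 0) :
    Module.finrank ℂ (Splus n F) = Module.finrank ℂ (Sminus n F) + 1 := by
  have e := LinearEquiv.ofBijective (w6Phi (F := F) (n := n) h2) (w6Phi_bijective h2)
  rw [e.finrank_eq, Module.finrank_prod, Module.finrank_self]

omit [Fintype F] in
theorem w6_inf : Splus n F ⊓ Sminus n F = ⊥ := by
  rw [eq_bot_iff]
  intro f hf
  rw [Submodule.mem_inf] at hf
  rw [Submodule.mem_bot]
  funext x
  have h1 := hf.1 x
  have h3 := hf.2 x
  rw [h1] at h3
  have h4 : f x + f x = 0 := by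
    nth_rewrite 1 [h3]
    exact neg_add_cancel _
  have h5 : (2 : ℂ) * f x = 0 := by rw [two_mul]; exact h4
  rcases mul_eq_zero.1 h5 with h6 | h6
  · exact absurd h6 two_ne_zero
  · exact h6

omit [Fintype F] in
theorem w6_sup : Splus n F ⊔ Sminus n F = ⊤ := by
  rw [eq_top_iff]
  intro f _
  rw [Submodule.mem_sup]
  refine ⟨fun x => (2 : ℂ)⁻¹ * (f x + f (-x)), ?_, fun x => (2 : ℂ)⁻¹ * (f x - f (-x)), ?_, ?_⟩
  · intro x
    show (2 : ℂ)⁻¹ * (f (-x) + f (- -x)) = (2 : ℂ)⁻¹ * (f x + f (-x))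
    rw [neg_neg]
    ring
  · intro x
    show (2 : ℂ)⁻¹ * (f (-x) - f (- -x)) = -((2 : ℂ)⁻¹ * (f x - f (-x)))
    rw [neg_neg]
    ring
  · funext x
    show (2 : ℂ)⁻¹ * (f x + f (-x)) + (2 : ℂ)⁻¹ * (f x - f (-x)) = f x
    ring

theorem finrank_Sminus (h2 : (2 : F) ≠ 0) :
    2 * Module.finrank ℂ (Sminus n F) + 1 = Fintype.card F ^ n := by
  have h1 := Submodule.finrank_sup_add_finrank_inf_eq (Splus n F) (Sminus n F)
  rw [w6_inf, w6_sup, finrank_bot, finrank_top, Module.finrank_fintype_fun_eq_card,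
    Fintype.card_fun, Fintype.card_fin, finrank_Splus h2] at h1
  omega

omit [Fintype F] in
theorem maps_of_commute_par (T : Module.End ℂ ((Fin n → F) → ℂ)) (hT : par * T = T * par) :
    (∀ f ∈ Splus n F, T f ∈ Splus n F) ∧ (∀ f ∈ Sminus n F, T f ∈ Sminus n F) := by
  have key : ∀ f : (Fin n → F) → ℂ, (par (T f) : (Fin n → F) → ℂ) = T (par f) := by
    intro f
    have h := congrArg (fun S : Module.End ℂ ((Fin n → F) → ℂ) => S f) hT
    exact h
  constructor
  · intro f hf x
    have h1 : (par f : (Fin n → F) → ℂ) = f := by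
      funext y
      exact hf y
    have h3 := congrFun (key f) x
    rw [h1, par_apply] at h3
    exact h3
  · intro f hf x
    have h1 : (par f : (Fin n → F) → ℂ) = -f := by
      funext y
      exact hf y
    have h3 := congrFun (key f) x
    rw [h1, par_apply, map_neg] at h3
    exact h3

end Cfsg.Agent.Lib.H29.Weil
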