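import Mathlib
import Cfsg.Prelude.Def_LieTypeChar
import Cfsg.Agent.Lib.H19.SRDefs
import Cfsg.Agent.Lib.H29.OctF4e
import Cfsg.Agent.Lib.H29.ChevRee2

/-!
# S4613, piece TF4: `2'`-automorphisms of the large Ree groups `²F₄(q)` fixing a Sylow `2`-subgroup elementwise
are trivial

Abstractly, for an `OctSys` whose group of standard automorphisms has odd order: if `α` fixes `U` elementwise,
some `conj x * α` is standard; `x` normalizes `U`, so `x = u h`; then `γ = conj u' * α` is standard and acts on `U`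
as `conj u'`, so `γ ^ |u'|` is a standard automorphism trivial on `U`, hence trivial; `γ` has `2`-power order in a
group of odd order, so `γ = 1` and `α = conj u'⁻¹` has `2`-power order.
-/

set_option autoImplicit false
set_option linter.unusedSectionVars false
set_option linter.unusedVariables false

namespace Cfsg.Agent.Lib.H29.SR

open Cfsg Cfsg.Lie Cfsg.Agent.Lib.H19.SR Cfsg.Agent.Lib.H29.Chev

section abstract

variable {G K : Type*} [Group G] [Field K] (R : OctSys G K)

/-- a standard automorphism that fixes `U` elementwise is trivial -/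
theorem std_eq_one_of_fix_U [Finite G] [Finite K] (θ : MulAut G) (hθ : θ ∈ R.Std)
    (hfix : ∀ g ∈ R.U, θ g = g) : θ = 1 := by
  apply R.std_trivial θ hθ (fun t => hfix _ (R.xA_mem t)) (RingEquiv.refl K)
  intro t u
  exact ⟨u, by rw [hfix _ (R.xC_mem t u)]; rfl⟩

/-- the abstract statement -/
theorem octSys_sylRigid [Finite G] [Finite K] [Fact (Nat.Prime 2)] (hUp : IsPGroup 2 R.U)
    (hidx : ¬ 2 ∣ R.U.index) (hodd : ¬ 2 ∣ Nat.card R.Std) : SylRigid 2 G := by
  apply sylRigid_of_pgroup 2 R.U hUp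
  intro α hα hfix
  obtain ⟨x, hx⟩ := exists_std_abs 2 R.U R.V hUp hidx R.U_inf_V R.card_V_eq R.hdec α
  -- `x` normalizes `U`
  have hxB : x ∈ R.P.B := by
    apply R.normalizer_U_le
    intro y hy
    have := (hx.1 y).mp hy
    rwa [hfix y hy] at this
  obtain ⟨u, hu, p, rfl⟩ := (R.mem_B x).mp hxB
  have hθ : MulAut.conj (u * R.hh p) * α ∈ R.Std := by
    refine ⟨fun g => ?_, fun g => ?_⟩
    · rw [MulAut.mul_apply, MulAut.conj_apply]; exact hx.1 g
    · rw [MulAut.mul_apply, MulAut.conj_apply]; exact hx.2 g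
  set u' : G := (R.hh p)⁻¹ * u * R.hh p with hu'def
  have hu' : u' ∈ R.U := R.hh_conj_U' p u hu
  set γ : MulAut G := MulAut.conj u' * α with hγdef
  have hγ : γ ∈ R.Std := by
    have e : γ = (MulAut.conj (R.hh p))⁻¹ * (MulAut.conj (u * R.hh p) * α) := by
      rw [hγdef, ← mul_assoc, ← map_inv, ← map_mul]
      congr 2
      rw [hu'def]; group
    rw [e]
    exact Subgroup.mul_mem _ (Subgroup.inv_mem _ (R.conj_hh_mem_Std p)) hθ
  -- `γ` acts on `U` as conjugation by `u'`
  have hpow : ∀ (i : ℕ) (g : G), g ∈ R.U → (γ ^ i) g = u' ^ i * g * (u' ^ i)⁻¹ := by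
    intro i
    induction i with
    | zero => intro g _; simp
    | succ i ih =>
      intro g hg
      have hmem : u' ^ i * g * (u' ^ i)⁻¹ ∈ R.U :=
        R.U.mul_mem (R.U.mul_mem (R.U.pow_mem hu' i) hg) (R.U.inv_mem (R.U.pow_mem hu' i))
      rw [pow_succ', MulAut.mul_apply, ih g hg, hγdef, MulAut.mul_apply, hfix _ hmem, MulAut.conj_apply,
        pow_succ']
      group
  -- `γ` has `2`-power order
  obtain ⟨j, hj⟩ := (IsPGroup.iff_orderOf.mp hUp) ⟨u', hu'⟩
  have hord : orderOf u' = 2 ^ j := by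
    rw [← hj]; exact (Subgroup.orderOf_mk u' hu').symm
  have hγk : γ ^ (2 ^ j) = 1 := by
    apply std_eq_one_of_fix_U R _ (Subgroup.pow_mem _ hγ _)
    intro g hg
    rw [hpow _ g hg, ← hord, pow_orderOf_eq_one]
    group
  have hγ1 : γ = 1 := by
    have h1 : orderOf γ ∣ 2 ^ j := orderOf_dvd_of_pow_eq_one hγk
    have h2 : orderOf γ ∣ Nat.card R.Std := by
      have := orderOf_dvd_natCard (⟨γ, hγ⟩ : R.Std)
      rwa [Subgroup.orderOf_mk] at this
    obtain ⟨i, _, hi⟩ := (Nat.dvd_prime_pow Nat.prime_two).mp h1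
    rcases Nat.eq_zero_or_pos i with h0 | h0
    · rw [h0, pow_zero] at hi
      exact orderOf_eq_one_iff.mp hi
    · exfalso
      apply hodd
      refine Dvd.dvd.trans ?_ h2
      rw [hi]
      exact dvd_pow_self 2 (by omega)
  -- `α = conj u'⁻¹`
  have hα' : α = (MulAut.conj u')⁻¹ := by
    rw [hγdef] at hγ1
    exact eq_inv_of_mul_eq_one_right hγ1
  have hαk : α ^ (2 ^ j) = 1 := by
    rw [hα', inv_pow, ← map_pow, ← hord, pow_orderOf_eq_one, map_one, inv_one]
  have h1 : orderOf α ∣ 2 ^ j := orderOf_dvd_of_pow_eq_one hαk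
  obtain ⟨i, _, hi⟩ := (Nat.dvd_prime_pow Nat.prime_two).mp h1
  rcases Nat.eq_zero_or_pos i with h0 | h0
  · rw [h0, pow_zero] at hi
    exact orderOf_eq_one_iff.mp hi
  · exfalso
    apply hα
    rw [hi]
    exact dvd_pow_self 2 (by omega)

end abstract

/-- TF4 -/
theorem sylRigid_2F4 (K : Type*) [Field K] [Fintype K] [Fact (Nat.Prime 2)] (m : ℕ) (hm : 1 ≤ m)
    (hK : Fintype.card K = 2 ^ (2 * m + 1)) (hs : IsSimpleGroup ↥(Lie.twistedF4 K (2 ^ m))) :
    SylRigid 2 ↥(Lie.twistedF4 K (2 ^ m)) := by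
  have : CharP K 2 := charP_of_card_pow 2 (2 * m + 1) (by norm_num) hK
  have hcU := card_octSysF4_U m hK hm
  have hUp : IsPGroup 2 ↥(octSysF4 m hK hm).U := by
    apply IsPGroup.of_card (n := (2 * m + 1) * 12)
    rw [hcU, ← pow_mul]
  have hidx : ¬ 2 ∣ (octSysF4 m hK hm).U.index := by
    have h1 := Subgroup.card_mul_index (octSysF4 m hK hm).U
    rw [hcU, card_f4 m hK] at h1
    have hq1 : 1 ≤ 2 ^ (2 * m + 1) := Nat.one_le_two_pow
    have hq2 : 2 ∣ 2 ^ (2 * m + 1) := dvd_pow_self 2 (by omega)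
    generalize 2 ^ (2 * m + 1) = q at h1 hq1 hq2
    have hpos : 0 < q ^ 12 := Nat.pos_of_ne_zero (pow_ne_zero _ (by omega))
    have h2 : (octSysF4 m hK hm).U.index = (q - 1) * (q ^ 3 + 1) * (q ^ 4 - 1) * (q ^ 6 + 1) := by
      apply Nat.eq_of_mul_eq_mul_left hpos
      rw [h1]; ring
    rw [h2]
    have p2 := Nat.prime_two
    intro hd
    rcases (Nat.Prime.dvd_mul p2).mp hd with hd | hd
    · rcases (Nat.Prime.dvd_mul p2).mp hd with hd | hd
      · rcases (Nat.Prime.dvd_mul p2).mp hd with hd | hd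
        · have := not_dvd_pow_sub_one (le_refl 2) hq2 hq1 1 (le_refl 1)
          rw [pow_one] at this
          exact this hd
        · exact not_dvd_pow_add_one (le_refl 2) hq2 3 (by norm_num) hd
      · exact not_dvd_pow_sub_one (le_refl 2) hq2 hq1 4 (by norm_num) hd
    · exact not_dvd_pow_add_one (le_refl 2) hq2 6 (by norm_num) hd
  have hodd : ¬ 2 ∣ Nat.card (octSysF4 m hK hm).Std := by
    rw [(octSysF4 m hK hm).card_Std, Cfsg.Agent.Lib.H2.SzAut.card_ringAut hK, Nat.card_units,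
      Nat.card_eq_fintype_card, hK]
    have hq1 : 1 ≤ 2 ^ (2 * m + 1) := Nat.one_le_two_pow
    have hq2 : 2 ∣ 2 ^ (2 * m + 1) := dvd_pow_self 2 (by omega)
    generalize 2 ^ (2 * m + 1) = q at hq1 hq2
    intro hd
    rcases (Nat.Prime.dvd_mul Nat.prime_two).mp hd with hd | hd
    · rcases (Nat.Prime.dvd_mul Nat.prime_two).mp hd with hd | hd <;> omega
    · omega
  exact octSys_sylRigid (octSysF4 m hK hm) hUp hidx hodd

end Cfsg.Agent.Lib.H29.SR
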