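import Mathlib
import Cfsg.Prelude.Def_ChevStructure
import Cfsg.Agent.Lib.H29.ChevPJ3
import Cfsg.Agent.Lib.H29.ChevCert13

/-!
# The combinatorial checks on the root systems for the centraliser of `U_J`
-/

set_option autoImplicit false

namespace Cfsg.Agent.Lib.H29.Chev

open Cfsg.Lie

theorem chkPJ1_G2 : ∀ k < fdG2.l, ∀ m < fdG2.l, k ≠ m → fdG2.ChkPJ1 fxG2 k m := by decide +kernel
theorem chkPJ2_G2 : ∀ i < fdG2.l, ∀ m < fdG2.l, i ≠ m → fdG2.ChkPJ2 fxG2 i m := by decide +kernel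
theorem chkPJ1_B2 : ∀ k < fdB2.l, ∀ m < fdB2.l, k ≠ m → fdB2.ChkPJ1 fxB2 k m := by decide +kernel
theorem chkPJ2_B2 : ∀ i < fdB2.l, ∀ m < fdB2.l, i ≠ m → fdB2.ChkPJ2 fxB2 i m := by decide +kernel
theorem chkPJ1_D4 : ∀ k < fdD4.l, ∀ m < fdD4.l, k ≠ m → fdD4.ChkPJ1 fxD4 k m := by decide +kernel
theorem chkPJ2_D4 : ∀ i < fdD4.l, ∀ m < fdD4.l, i ≠ m → fdD4.ChkPJ2 fxD4 i m := by decide +kernel
theorem chkPJ1_F4 : ∀ k < fdF4.l, ∀ m < fdF4.l, k ≠ m → fdF4.ChkPJ1 fxF4 k m := by decide +kernel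
theorem chkPJ2_F4 : ∀ i < fdF4.l, ∀ m < fdF4.l, i ≠ m → fdF4.ChkPJ2 fxF4 i m := by decide +kernel

theorem chkPJ1_E6 : ∀ k < fdE6.l, ∀ m < fdE6.l, k ≠ m → fdE6.ChkPJ1 fxE6 k m := by decide +kernel
theorem chkPJ2_E6 : ∀ i < fdE6.l, ∀ m < fdE6.l, i ≠ m → fdE6.ChkPJ2 fxE6 i m := by decide +kernel
theorem chkPJ1_E7 : ∀ k < fdE7.l, ∀ m < fdE7.l, k ≠ m → fdE7.ChkPJ1 fxE7 k m := by decide +kernel
theorem chkPJ2_E7 : ∀ i < fdE7.l, ∀ m < fdE7.l, i ≠ m → fdE7.ChkPJ2 fxE7 i m := by decide +kernel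
theorem chkPJ1_E8 : ∀ k < fdE8.l, ∀ m < fdE8.l, k ≠ m → fdE8.ChkPJ1 fxE8 k m := by decide +kernel
theorem chkPJ2_E8 : ∀ i < fdE8.l, ∀ m < fdE8.l, i ≠ m → fdE8.ChkPJ2 fxE8 i m := by decide +kernel

end Cfsg.Agent.Lib.H29.Chev
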