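/-
S4221 (architect helper21), piece **BW** (helper29): the Brauer–Wielandt formula (helper16) for the four-group
`{1, a, b, ab}` acting on the odd-order group `st G s`.
-/
import Mathlib
import Cfsg.Agent.Lib.H21.Hall4Defs
import Cfsg.Agent.Lib.H16.WielandtFormula

set_option autoImplicit false
set_option linter.unusedSectionVars false

namespace Cfsg.Agent.Lib.H29.Hall4

open Equiv Cfsg.Agent.Lib.H21.Hall4

variable {α : Type*} [Fintype α] [DecidableEq α] {G : Subgroup (Perm α)}

/-- the four-group `{1, a, b, ab}` -/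
def fourGroup (a b : Perm α) (ha2 : a * a = 1) (hb2 : b * b = 1) (hab : a * b = b * a) :
    Subgroup (Perm α) where
  carrier := {x | x = 1 ∨ x = a ∨ x = b ∨ x = a * b}
  one_mem' := Or.inl rfl
  mul_mem' := by
    have haab : a * (a * b) = b := by rw [← mul_assoc, ha2, one_mul]
    have hbab : b * (a * b) = a := by rw [hab, ← mul_assoc, hb2, one_mul]
    have haba : a * b * a = b := by rw [hab, mul_assoc, ha2, mul_one]
    have habb : a * b * b = a := by rw [mul_assoc, hb2, mul_one]
    have habab : a * b * (a * b) = 1 := by rw [mul_assoc, hbab, ha2]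
    rintro x y (rfl | rfl | rfl | rfl) (rfl | rfl | rfl | rfl)
    · exact Or.inl (one_mul _)
    · exact Or.inr (Or.inl (one_mul _))
    · exact Or.inr (Or.inr (Or.inl (one_mul _)))
    · exact Or.inr (Or.inr (Or.inr (one_mul _)))
    · exact Or.inr (Or.inl (mul_one _))
    · exact Or.inl ha2
    · exact Or.inr (Or.inr (Or.inr rfl))
    · exact Or.inr (Or.inr (Or.inl haab))
    · exact Or.inr (Or.inr (Or.inl (mul_one _)))
    · exact Or.inr (Or.inr (Or.inr hab.symm))
    · exact Or.inl hb2
    · exact Or.inr (Or.inl hbab)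
    · exact Or.inr (Or.inr (Or.inr (mul_one _)))
    · exact Or.inr (Or.inr (Or.inl haba))
    · exact Or.inr (Or.inl habb)
    · exact Or.inl habab
  inv_mem' := by
    have habab : a * b * (a * b) = 1 := by
      rw [mul_assoc, hab, ← mul_assoc b, hb2, one_mul, ha2]
    rintro x (rfl | rfl | rfl | rfl)
    · exact Or.inl inv_one
    · exact Or.inr (Or.inl (inv_eq_of_mul_eq_one_left ha2))
    · exact Or.inr (Or.inr (Or.inl (inv_eq_of_mul_eq_one_left hb2)))
    · exact Or.inr (Or.inr (Or.inr (inv_eq_of_mul_eq_one_left habab)))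

theorem mem_fourGroup {a b : Perm α} {ha2 : a * a = 1} {hb2 : b * b = 1} {hab : a * b = b * a}
    {x : Perm α} : x ∈ fourGroup a b ha2 hb2 hab ↔ x = 1 ∨ x = a ∨ x = b ∨ x = a * b := Iff.rfl

theorem fourGroup_sq {a b : Perm α} (ha2 : a * a = 1) (hb2 : b * b = 1) (hab : a * b = b * a)
    {x : Perm α} (hx : x ∈ fourGroup a b ha2 hb2 hab) : x * x = 1 := by
  rcases hx with rfl | rfl | rfl | rfl
  · exact one_mul _
  · exact ha2
  · exact hb2
  · rw [mul_assoc, hab, ← mul_assoc b, hb2, one_mul, ha2]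

theorem fourGroup_comm {a b : Perm α} (ha2 : a * a = 1) (hb2 : b * b = 1) (hab : a * b = b * a)
    {x y : Perm α} (hx : x ∈ fourGroup a b ha2 hb2 hab) (hy : y ∈ fourGroup a b ha2 hb2 hab) :
    x * y = y * x := by
  have h1 := fourGroup_sq ha2 hb2 hab hx
  have h2 := fourGroup_sq ha2 hb2 hab hy
  have h3 := fourGroup_sq ha2 hb2 hab ((fourGroup a b ha2 hb2 hab).mul_mem hx hy)
  -- x y x y = 1, so x y = y⁻¹ x⁻¹ = y x
  have hx' : x⁻¹ = x := inv_eq_of_mul_eq_one_left h1
  have hy' : y⁻¹ = y := inv_eq_of_mul_eq_one_left h2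
  have h4 : (x * y)⁻¹ = x * y := inv_eq_of_mul_eq_one_left h3
  rw [mul_inv_rev, hx', hy'] at h4
  exact h4.symm

theorem fourGroup_card {a b : Perm α} (ha2 : a * a = 1) (hb2 : b * b = 1) (hab : a * b = b * a)
    (hne : a ≠ 1) (hne' : b ≠ 1) (hneq : a ≠ b) : Nat.card (fourGroup a b ha2 hb2 hab) = 4 := by
  classical
  have hab1 : a * b ≠ 1 := by
    intro h
    apply hneq
    have : a⁻¹ = b := inv_eq_of_mul_eq_one_right h
    rw [← this]
    exact (inv_eq_of_mul_eq_one_left ha2).symm
  have haba : a * b ≠ a := by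
    intro h
    apply hne'
    have := mul_left_cancel (h.trans (mul_one a).symm)
    exact this
  have habb : a * b ≠ b := by
    intro h
    apply hne
    have := mul_right_cancel (h.trans (one_mul b).symm)
    exact this
  have hfin : ∀ x, x ∈ ({1, a, b, a * b} : Finset (Perm α)) ↔ x ∈ fourGroup a b ha2 hb2 hab := by
    intro x
    simp only [Finset.mem_insert, Finset.mem_singleton]
    exact Iff.rfl
  rw [Nat.card_eq_fintype_card, Fintype.card_of_subtype _ hfin]
  rw [Finset.card_insert_of_notMem, Finset.card_insert_of_notMem, Finset.card_insert_of_notMem,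
    Finset.card_singleton]
  · simp only [Finset.mem_singleton]
    exact fun h => habb h.symm
  · simp only [Finset.mem_insert, Finset.mem_singleton]
    rintro (h | h)
    · exact hneq h
    · exact haba h.symm
  · simp only [Finset.mem_insert, Finset.mem_singleton]
    rintro (h | h | h)
    · exact hne h.symm
    · exact hne' h.symm
    · exact hab1 h.symm

theorem fourGroup_isEpp {a b : Perm α} (ha2 : a * a = 1) (hb2 : b * b = 1) (hab : a * b = b * a)
    (hne : a ≠ 1) (hne' : b ≠ 1) (hneq : a ≠ b) :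
    Cfsg.Agent.Lib.H16.IsEpp 2 (fourGroup a b ha2 hb2 hab) where
  comm := fun x hx y hy => fourGroup_comm ha2 hb2 hab hx hy
  exp := fun x hx => by rw [pow_two]; exact fourGroup_sq ha2 hb2 hab hx
  card := by rw [fourGroup_card ha2 hb2 hab hne hne' hneq]; norm_num

theorem nz_fourGroup {a b : Perm α} (ha2 : a * a = 1) (hb2 : b * b = 1) (hab : a * b = b * a)
    (hne : a ≠ 1) (hne' : b ≠ 1) (hneq : a ≠ b) :
    Cfsg.Agent.Lib.H16.nz (fourGroup a b ha2 hb2 hab) = {a, b, a * b} := by
  have hab1 : a * b ≠ 1 := by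
    intro h
    apply hneq
    have : a⁻¹ = b := inv_eq_of_mul_eq_one_right h
    rw [← this]
    exact (inv_eq_of_mul_eq_one_left ha2).symm
  ext x
  rw [Cfsg.Agent.Lib.H16.mem_nz, mem_fourGroup]
  simp only [Finset.mem_insert, Finset.mem_singleton]
  constructor
  · rintro ⟨h1, h | h | h | h⟩
    · exact absurd h h1
    · exact Or.inl h
    · exact Or.inr (Or.inl h)
    · exact Or.inr (Or.inr h)
  · rintro (h | h | h)
    · exact ⟨h ▸ hne, Or.inr (Or.inl h)⟩
    · exact ⟨h ▸ hne', Or.inr (Or.inr (Or.inl h))⟩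
    · exact ⟨h ▸ hab1, Or.inr (Or.inr (Or.inr h))⟩

/-! ### normalizing `st G s` -/

theorem pat_inv {g : Perm α} {s : Fin 4 ↪ α} {ρ : Perm (Fin 4)} (hp : Pat g s ρ) :
    Pat g⁻¹ s ρ⁻¹ := by
  intro i
  rw [Perm.inv_eq_iff_eq, hp, Perm.inv_def, Equiv.apply_symm_apply]

theorem conj_mem_st {g h : Perm α} {s : Fin 4 ↪ α} {ρ : Perm (Fin 4)} (hg : g ∈ G)
    (hp : Pat g s ρ) (hh : h ∈ st G s) : g * h * g⁻¹ ∈ st G s := by
  refine ⟨G.mul_mem (G.mul_mem hg hh.1) (G.inv_mem hg), fun i => ?_⟩
  rw [Perm.mul_apply, Perm.mul_apply, pat_inv hp i, hh.2, hp, Perm.inv_def, Equiv.apply_symm_apply]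

theorem mem_normalizer_st {g : Perm α} {s : Fin 4 ↪ α} {ρ : Perm (Fin 4)} (hg : g ∈ G)
    (hp : Pat g s ρ) : g ∈ Subgroup.normalizer ((st G s : Subgroup (Perm α)) : Set (Perm α)) := by
  rw [Subgroup.mem_normalizer_iff]
  intro h
  constructor
  · exact conj_mem_st hg hp
  · intro hh
    have := conj_mem_st (G.inv_mem hg) (pat_inv hp) hh
    rw [inv_inv] at this
    have e : g⁻¹ * (g * h * g⁻¹) * g = h := by group
    rw [e] at this
    exact this

theorem pat_one (s : Fin 4 ↪ α) : Pat (1 : Perm α) s 1 := fun _ => rfl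

theorem pat_mul {g h : Perm α} {s : Fin 4 ↪ α} {ρ τ : Perm (Fin 4)} (hg : Pat g s ρ)
    (hh : Pat h s τ) : Pat (g * h) s (ρ * τ) := by
  intro i
  rw [Perm.mul_apply, hh, hg, Perm.mul_apply]

/-! ### centralizers -/

theorem centralizer_fourGroup {a b : Perm α} (ha2 : a * a = 1) (hb2 : b * b = 1)
    (hab : a * b = b * a) :
    Subgroup.centralizer ((fourGroup a b ha2 hb2 hab : Subgroup (Perm α)) : Set (Perm α)) =
      Subgroup.centralizer ({a, b} : Set (Perm α)) := by
  apply le_antisymm
  · apply Subgroup.centralizer_le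
    intro x hx
    rcases hx with rfl | rfl
    · exact Or.inr (Or.inl rfl)
    · exact Or.inr (Or.inr (Or.inl rfl))
  · intro g hg
    rw [Subgroup.mem_centralizer_iff] at hg ⊢
    have h1 : a * g = g * a := hg a (Or.inl rfl)
    have h2 : b * g = g * b := hg b (Or.inr rfl)
    intro x hx
    rcases hx with rfl | rfl | rfl | rfl
    · rw [one_mul, mul_one]
    · exact h1
    · exact h2
    · rw [mul_assoc, h2, ← mul_assoc, h1, mul_assoc]

theorem bw (hG : Hyp G) {a b : Perm α} (ha : a ∈ G) (hb : b ∈ G) (ha2 : a * a = 1) (hb2 : b * b = 1)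
    (hab : a * b = b * a)
    (hne : a ≠ 1) (hne' : b ≠ 1) (hneq : a ≠ b) (s : Fin 4 ↪ α) (σ τ : Perm (Fin 4))
    (hpa : Pat a s σ) (hpb : Pat b s τ) :
    Nat.card (st G s) *
        Nat.card (st G s ⊓ Subgroup.centralizer ({a, b} : Set (Perm α)) : Subgroup (Perm α)) ^ 2 =
      Nat.card (st G s ⊓ Subgroup.centralizer ({a} : Set (Perm α)) : Subgroup (Perm α)) *
        Nat.card (st G s ⊓ Subgroup.centralizer ({b} : Set (Perm α)) : Subgroup (Perm α)) *
        Nat.card (st G s ⊓ Subgroup.centralizer ({a * b} : Set (Perm α)) : Subgroup (Perm α)) := by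
  have hab1 : a * b ≠ 1 := by
    intro h
    apply hneq
    have : a⁻¹ = b := inv_eq_of_mul_eq_one_right h
    rw [← this]
    exact (inv_eq_of_mul_eq_one_left ha2).symm
  have haba : a * b ≠ a := by
    intro h
    apply hne'
    exact mul_left_cancel (h.trans (mul_one a).symm)
  have habb : a * b ≠ b := by
    intro h
    apply hne
    exact mul_right_cancel (h.trans (one_mul b).symm)
  have hK : ¬ 2 ∣ Nat.card (st G s) := by
    intro h
    exact (Nat.not_even_iff_odd.2 (hG.odd s)) (even_iff_two_dvd.2 h)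
  have hAK : fourGroup a b ha2 hb2 hab ≤
      Subgroup.normalizer ((st G s : Subgroup (Perm α)) : Set (Perm α)) := by
    intro x hx
    rcases hx with rfl | rfl | rfl | rfl
    · exact Subgroup.one_mem _
    · exact mem_normalizer_st ha hpa
    · exact mem_normalizer_st hb hpb
    · exact mem_normalizer_st (G.mul_mem ha hb) (pat_mul hpa hpb)
  have : Fact (Nat.Prime 2) := ⟨Nat.prime_two⟩
  have key := Cfsg.Agent.Lib.H16.wielandt_formula (p := 2)
    (fourGroup_isEpp ha2 hb2 hab hne hne' hneq) (st G s) hK hAK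
  rw [centralizer_fourGroup, nz_fourGroup ha2 hb2 hab hne hne' hneq,
    Finset.prod_insert, Finset.prod_insert, Finset.prod_singleton] at key
  · simpa [mul_assoc] using key
  · simp only [Finset.mem_singleton]
    exact fun h => habb h.symm
  · simp only [Finset.mem_insert, Finset.mem_singleton]
    rintro (h | h)
    · exact hneq h
    · exact haba h.symm

end Cfsg.Agent.Lib.H29.Hall4
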