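import Mathlib
import Cfsg.Agent.Lib.L0.SFDefs

/-!
# S4130-F1 (lead farm-out; helper29): Knoche, easy half.

In a `p`-group all of whose class sizes are squarefree, every centraliser has index `≤ p`, hence is normal with cyclic
quotient, so `P' ≤ ⋂ C_P(x) = Z(P)`.
-/

set_option autoImplicit false

namespace Cfsg.Agent.Lib.H29.SF

open Cfsg.Agent.Lib.L0.SF

/-- A subgroup of index `p` of a finite `p`-group contains the commutator subgroup. -/
theorem commutator_le_of_index_eq_prime {P : Type*} [Group P] [Finite P] {p : ℕ} [Fact p.Prime]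
    (hP : IsPGroup p P) (H : Subgroup P) (hH : H.index = p) : commutator P ≤ H := by
  have hpp : p.Prime := Fact.out
  obtain ⟨n, hn⟩ := IsPGroup.iff_card.mp hP
  have hn0 : n ≠ 0 := by
    rintro rfl
    have h1 : H.index ∣ Nat.card P := Subgroup.index_dvd_card H
    rw [hn, pow_zero, hH] at h1
    exact hpp.one_lt.ne' (Nat.dvd_one.mp h1)
  have hnorm : H.Normal := by
    apply Subgroup.normal_of_index_eq_minFac_card
    rw [hH, hn, hpp.pow_minFac hn0]
  have hcard : Nat.card (P ⧸ H) = p := by rw [← Subgroup.index_eq_card, hH]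
  have : IsCyclic (P ⧸ H) := isCyclic_of_prime_card hcard
  rw [commutator_def, Subgroup.commutator_le]
  intro a _ b _
  rw [← QuotientGroup.eq_one_iff, ← QuotientGroup.mk'_apply, map_commutatorElement,
    commutatorElement_eq_one_iff_commute]
  exact IsCyclic.commGroup.mul_comm _ _

/-- **S4130-F1** (Knoche, easy half).  In a `p`-group with class sizes `≤ p`, every centraliser has index `≤ p`, is normal
with abelian quotient, so `P' ≤ ⋂ C_P(x) = Z(P)`. -/
theorem SFClass.commutator_le_center_of_isPGroup {P : Type*} [Group P] [Finite P] {p : ℕ} [Fact p.Prime]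
    (hP : IsPGroup p P) (h : SFClass P) : commutator P ≤ Subgroup.center P := by
  have hpp : p.Prime := Fact.out
  have key : ∀ x : P, commutator P ≤ Subgroup.centralizer ({x} : Set P) := by
    intro x
    obtain ⟨k, hk⟩ := hP.index (Subgroup.centralizer ({x} : Set P))
    have hsq := h x
    rw [hk] at hsq
    rcases hsq.eq_zero_or_one_of_pow_of_not_isUnit hpp.prime.not_isUnit with h0 | h1
    · rw [h0, pow_zero, Subgroup.index_eq_one] at hk
      rw [hk]; exact le_top
    · rw [h1, pow_one] at hk
      exact commutator_le_of_index_eq_prime hP _ hk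
  intro g hg
  rw [Subgroup.mem_center_iff]
  intro x
  have := key x hg
  rw [Subgroup.mem_centralizer_singleton_iff] at this
  exact this.symm

end Cfsg.Agent.Lib.H29.SF
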