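/-
S3050 (architect helper15), piece **ACT** (helper29): the `SL₂(K)`-module structure of an abelian normal subgroup
centralized by `ker π`.
-/
import Mathlib
import Cfsg.Agent.Lib.H15.HigBasic
import Cfsg.Agent.Lib.H15.Nat2
import Cfsg.Agent.Lib.H15.Nat5
import Cfsg.Prelude.Def_BaumannBlocks

set_option autoImplicit false
set_option linter.unusedSectionVars false

namespace Cfsg.Agent.Lib.H29.Hig

open Matrix Cfsg.Agent.Lib.H2.SL2 Cfsg.Agent.Lib.H15.Nat Cfsg.Agent.Lib.H15.Hig
open scoped IsMulCommutative

section groups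
variable {K : Type*} [Field K] {G : Type*} [Group G]

/-- conjugation on the abelian normal subgroup, as additive endomorphisms -/
noncomputable def conjEnd (A : Subgroup G) [A.Normal] [IsMulCommutative ↥A] :
    G →* AddMonoid.End (Additive ↥A) where
  toFun g := MonoidHom.toAdditive ((MulAut.conjNormal g : MulAut ↥A).toMonoidHom)
  map_one' := by
    refine AddMonoidHom.ext fun a => ?_
    apply Additive.toMul.injective
    apply Subtype.ext
    show ((MulAut.conjNormal (1 : G) : MulAut ↥A) (Additive.toMul a) : G) =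
      ((Additive.toMul a : ↥A) : G)
    rw [MulAut.conjNormal_apply]
    simp
  map_mul' g h := by
    refine AddMonoidHom.ext fun a => ?_
    apply Additive.toMul.injective
    apply Subtype.ext
    show ((MulAut.conjNormal (g * h) : MulAut ↥A) (Additive.toMul a) : G) =
      ((MulAut.conjNormal g : MulAut ↥A) ((MulAut.conjNormal h : MulAut ↥A) (Additive.toMul a)) : G)
    rw [MulAut.conjNormal_apply, MulAut.conjNormal_apply, MulAut.conjNormal_apply]
    group

theorem conjEnd_apply (A : Subgroup G) [A.Normal] [IsMulCommutative ↥A] (g : G) (a : ↥A) :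
    ((conjEnd A g (Additive.ofMul a)).toMul : G) = g * a * g⁻¹ := by
  show ((MulAut.conjNormal g : MulAut ↥A) a : G) = g * a * g⁻¹
  rw [MulAut.conjNormal_apply]

theorem conjEnd_eq_of_eq (π : G →* SpecialLinearGroup (Fin 2) K)
    (A : Subgroup G) [A.Normal] [IsMulCommutative ↥A]
    (hcen : ∀ q ∈ π.ker, ∀ a ∈ A, q * a = a * q) {g g' : G} (h : π g = π g') :
    conjEnd A g = conjEnd A g' := by
  refine AddMonoidHom.ext fun a => ?_
  apply Additive.toMul.injective
  apply Subtype.ext
  have h1 := conjEnd_apply A g (Additive.toMul a)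
  have h2 := conjEnd_apply A g' (Additive.toMul a)
  rw [ofMul_toMul] at h1 h2
  have hq : g'⁻¹ * g ∈ π.ker := by
    rw [MonoidHom.mem_ker, map_mul, map_inv, h, inv_mul_cancel]
  have h3 := hcen _ hq (Additive.toMul a : ↥A) (Additive.toMul a : ↥A).2
  -- g'⁻¹ g a = a g'⁻¹ g
  have h4 : g * ((Additive.toMul a : ↥A) : G) = g' * ((Additive.toMul a : ↥A) : G) * g'⁻¹ * g := by
    have := congrArg (fun t => g' * t) h3
    simp only [← mul_assoc, mul_inv_cancel, one_mul] at this
    rw [this]
  have key : g * ((Additive.toMul a : ↥A) : G) * g⁻¹ = g' * ((Additive.toMul a : ↥A) : G) * g'⁻¹ := by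
    rw [h4]
    group
  exact h1.trans (key.trans h2.symm)

/-- deliver this `def` (any construction) together with `act_apply`. -/
noncomputable def act (π : G →* SpecialLinearGroup (Fin 2) K) (hπ : Function.Surjective π)
    (A : Subgroup G) [A.Normal] [IsMulCommutative ↥A]
    (hcen : ∀ q ∈ π.ker, ∀ a ∈ A, q * a = a * q) :
    SpecialLinearGroup (Fin 2) K →* AddMonoid.End (Additive ↥A) where
  toFun s := conjEnd A (Function.surjInv hπ s)
  map_one' := by
    have h : π (Function.surjInv hπ 1) = π 1 := by
      rw [Function.surjInv_eq hπ, map_one]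
    rw [conjEnd_eq_of_eq π A hcen h, map_one]
  map_mul' s t := by
    have h : π (Function.surjInv hπ (s * t)) =
        π (Function.surjInv hπ s * Function.surjInv hπ t) := by
      rw [map_mul, Function.surjInv_eq hπ, Function.surjInv_eq hπ, Function.surjInv_eq hπ]
    rw [conjEnd_eq_of_eq π A hcen h, map_mul]

variable (π : G →* SpecialLinearGroup (Fin 2) K) (hπ : Function.Surjective π)

theorem act_apply (A : Subgroup G) [A.Normal] [IsMulCommutative ↥A]
    (hcen : ∀ q ∈ π.ker, ∀ a ∈ A, q * a = a * q) (g : G) (a : ↥A) :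
    ((act π hπ A hcen (π g) (Additive.ofMul a)).toMul : G) = g * a * g⁻¹ := by
  have h : π (Function.surjInv hπ (π g)) = π g := Function.surjInv_eq hπ (π g)
  show ((conjEnd A (Function.surjInv hπ (π g)) (Additive.ofMul a)).toMul : G) = g * a * g⁻¹
  rw [conjEnd_eq_of_eq π A hcen h, conjEnd_apply]

end groups

end Cfsg.Agent.Lib.H29.Hig
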