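/-
S3050 (architect helper15), piece **FIELD** (helper29).
-/
import Mathlib
import Cfsg.Agent.Lib.H15.HigBasic
import Cfsg.Agent.Lib.H15.Nat2
import Cfsg.Agent.Lib.H15.Nat5
import Cfsg.Prelude.Def_BaumannBlocks

set_option autoImplicit false

namespace Cfsg.Agent.Lib.H29.Hig

open Matrix Cfsg.Agent.Lib.H2.SL2 Cfsg.Agent.Lib.H15.Nat Cfsg.Agent.Lib.H15.Hig
open scoped IsMulCommutative

theorem field_facts {K : Type*} [Field K] [Fintype K] {n : ℕ} (hn : 2 ≤ n)
    (hK : Fintype.card K = 2 ^ n) :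
    CharP K 2 ∧ (∃ c : K, c ≠ 0 ∧ c ≠ 1) ∧ (∀ c : K, ∃ a : K, a ^ 2 = c) := by
  classical
  have hchar : CharP K 2 := by
    obtain ⟨p, hp⟩ := CharP.exists K
    obtain ⟨k, hpp, hcard⟩ := FiniteField.card K p
    have h1 : p ∣ 2 ^ n := by
      rw [← hK, hcard]
      exact dvd_pow_self p k.ne_zero
    have h2 : p ∣ 2 := hpp.dvd_of_dvd_pow h1
    have h3 : p = 2 := (Nat.prime_dvd_prime_iff_eq hpp Nat.prime_two).1 h2
    rw [h3] at hp
    exact hp
  refine ⟨hchar, ?_, ?_⟩
  · have hlt : ({0, 1} : Finset K).card < (Finset.univ : Finset K).card := by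
      rw [Finset.card_univ, hK]
      have h4 : 2 ^ 2 ≤ 2 ^ n := Nat.pow_le_pow_right (by norm_num) hn
      have h5 : ({0, 1} : Finset K).card ≤ 2 := Finset.card_le_two
      omega
    obtain ⟨c, _, hc⟩ := Finset.exists_mem_notMem_of_card_lt_card hlt
    refine ⟨c, ?_, ?_⟩
    · intro h
      apply hc
      rw [h]
      simp
    · intro h
      apply hc
      rw [h]
      simp
  · have : Fact (Nat.Prime 2) := ⟨Nat.prime_two⟩
    have hinj : Function.Injective (frobenius K 2) := frobenius_inj K 2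
    have hsurj : Function.Surjective (frobenius K 2) := Finite.surjective_of_injective hinj
    intro c
    obtain ⟨a, ha⟩ := hsurj c
    exact ⟨a, by rw [← ha, frobenius_def]⟩

theorem good_additive {K : Type*} [Field K] (hbig : ∃ c : K, c ≠ 0 ∧ c ≠ 1)
    (hsq : ∀ c : K, ∃ a : K, a ^ 2 = c) {A : Type*} [CommGroup A] (hA : IsPGroup 2 A) :
    Good K (Additive A) where
  big := hbig
  sq := hsq
  tors := by
    intro m
    obtain ⟨k, hk⟩ := hA (Additive.toMul m)
    exact ⟨k, congrArg Additive.ofMul hk⟩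

end Cfsg.Agent.Lib.H29.Hig
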