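import Mathlib

set_option autoImplicit false

namespace Cfsg.Agent.Lib.H29.AG

open Equiv Equiv.Perm Subgroup

/-- (T0) the closure inside `alternatingGroup` is isomorphic to the closure inside `Perm`. -/
theorem closure_alt_equiv (m : ℕ) (x y : alternatingGroup (Fin m)) :
    Nonempty (closure ({x, y} : Set (alternatingGroup (Fin m))) ≃*
      closure ({(x : Perm (Fin m)), (y : Perm (Fin m))} : Set (Perm (Fin m)))) := by
  have hinj : Function.Injective (alternatingGroup (Fin m)).subtype :=
    Subgroup.subtype_injective _
  have e := (closure ({x, y} : Set (alternatingGroup (Fin m)))).equivMapOfInjective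
    (alternatingGroup (Fin m)).subtype hinj
  have h : (closure ({x, y} : Set (alternatingGroup (Fin m)))).map
      (alternatingGroup (Fin m)).subtype =
      closure ({(x : Perm (Fin m)), (y : Perm (Fin m))} : Set (Perm (Fin m))) := by
    rw [MonoidHom.map_closure, Set.image_pair]
    rfl
  exact ⟨e.trans (MulEquiv.subgroupCongr h)⟩

end Cfsg.Agent.Lib.H29.AG
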