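import Mathlib

set_option autoImplicit false

namespace Cfsg.Agent.Lib.H29.AG

open Equiv Equiv.Perm Subgroup

/-- a permutation preserves any set containing its support -/
theorem mem_iff_apply_mem_of_support_subset {m : ℕ} (x : Perm (Fin m)) (s : Finset (Fin m))
    (hs : x.support ⊆ s) : ∀ a, a ∈ s ↔ x a ∈ s := by
  intro a
  by_cases ha : a ∈ x.support
  · have h1 : x a ∈ x.support := Equiv.Perm.apply_mem_support.mpr ha
    exact ⟨fun _ => hs h1, fun _ => hs ha⟩
  · have h1 : x a = a := by simpa [Equiv.Perm.mem_support] using ha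
    rw [h1]

/-- pulling a permutation supported on `s` back along `f : Fin d ≃ s` -/
theorem exists_extendDomain_eq {m d : ℕ} (x : Perm (Fin m)) (s : Finset (Fin m))
    (hs : x.support ⊆ s) (f : Fin d ≃ {a // a ∈ s}) :
    ∃ x' : Perm (Fin d), x'.extendDomain f = x := by
  have hxs := mem_iff_apply_mem_of_support_subset x s hs
  refine ⟨(f.trans (x.subtypePerm fun a => (hxs a).symm)).trans f.symm, ?_⟩
  ext b
  by_cases hb : b ∈ s
  · rw [Equiv.Perm.extendDomain_apply_subtype _ f hb]
    simp
  · rw [Equiv.Perm.extendDomain_apply_not_subtype _ f hb]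
    have : b ∉ x.support := fun h => hb (hs h)
    have h1 : x b = b := by simpa [Equiv.Perm.mem_support] using this
    rw [h1]

/-- (TR) transport of a pair of permutations to the union of their supports. -/
theorem exists_full_support {m d : ℕ} (x y : Perm (Fin m))
    (hd : (x.support ∪ y.support).card = d) :
    ∃ x' y' : Perm (Fin d), x'.cycleType = x.cycleType ∧ y'.cycleType = y.cycleType ∧
      x'.support ∪ y'.support = Finset.univ ∧
      Nonempty (closure ({x, y} : Set (Perm (Fin m))) ≃*
        closure ({x', y'} : Set (Perm (Fin d)))) := by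
  classical
  set s : Finset (Fin m) := x.support ∪ y.support with hs
  have hcard : Fintype.card {a // a ∈ s} = d := by
    rw [Fintype.card_coe]; exact hd
  let f : Fin d ≃ {a // a ∈ s} := (Fintype.equivFinOfCardEq hcard).symm
  obtain ⟨x', hx'⟩ := exists_extendDomain_eq x s Finset.subset_union_left f
  obtain ⟨y', hy'⟩ := exists_extendDomain_eq y s Finset.subset_union_right f
  refine ⟨x', y', ?_, ?_, ?_, ?_⟩
  · rw [← hx', Equiv.Perm.cycleType_extendDomain]
  · rw [← hy', Equiv.Perm.cycleType_extendDomain]
  · rw [Finset.eq_univ_iff_forall]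
    intro i
    by_contra hi
    rw [Finset.mem_union, not_or, Equiv.Perm.notMem_support, Equiv.Perm.notMem_support] at hi
    have h1 : x (f i) = f i := by
      rw [← hx', Equiv.Perm.extendDomain_apply_image, hi.1]
    have h2 : y (f i) = f i := by
      rw [← hy', Equiv.Perm.extendDomain_apply_image, hi.2]
    have h3 : ((f i : {a // a ∈ s}) : Fin m) ∈ x.support ∪ y.support := (f i).2
    rw [Finset.mem_union, Equiv.Perm.mem_support, Equiv.Perm.mem_support] at h3
    rcases h3 with h3 | h3
    · exact h3 h1
    · exact h3 h2
  · have hinj := Equiv.Perm.extendDomainHom_injective f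
    have e := (closure ({x', y'} : Set (Perm (Fin d)))).equivMapOfInjective
      (Equiv.Perm.extendDomainHom f) hinj
    have h : (closure ({x', y'} : Set (Perm (Fin d)))).map (Equiv.Perm.extendDomainHom f) =
        closure ({x, y} : Set (Perm (Fin m))) := by
      rw [MonoidHom.map_closure, Set.image_pair]
      simp only [Equiv.Perm.extendDomainHom_apply]
      rw [hx', hy']
    exact ⟨(e.trans (MulEquiv.subgroupCongr h)).symm⟩

end Cfsg.Agent.Lib.H29.AG
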