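import Mathlib

/-!
helper29: S3777 (Vaughan-Lee), (P1)-step, piece GEN: the greedy generator chain.
In a finite `p`-group, a subgroup `H` of index dividing `p ^ n` together with at most `n` elements
chosen outside a given proper subgroup `M` generates the group.
-/

set_option autoImplicit false

namespace Cfsg.Agent.Lib.H29.S3777Gen

variable {G : Type*} [Group G]

/-- a group is not the union of two proper subgroups -/
theorem exists_notMem_notMem' (M B : Subgroup G) (hM : M ≠ ⊤) (hB : B ≠ ⊤) :
    ∃ y, y ∉ M ∧ y ∉ B := by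
  by_contra hcon
  push Not at hcon
  obtain ⟨m, hm⟩ : ∃ m, m ∉ M := by
    by_contra h
    push Not at h
    exact hM (eq_top_iff.2 fun x _ => h x)
  obtain ⟨c, hc⟩ : ∃ c, c ∉ B := by
    by_contra h
    push Not at h
    exact hB (eq_top_iff.2 fun x _ => h x)
  have hmB : m ∈ B := hcon m hm
  by_cases hcM : c ∈ M
  · -- `m * c ∉ M` and `m * c ∉ B`
    have h1 : m * c ∉ M := fun h => hm (by simpa using M.mul_mem h (M.inv_mem hcM))
    have h2 : m * c ∉ B := fun h => hc (by simpa using B.mul_mem (B.inv_mem hmB) h)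
    exact h2 (hcon _ h1)
  · exact hc (hcon c hcM)

variable [Finite G]

theorem exists_gens (p : ℕ) [Fact p.Prime] (M : Subgroup G) (hM : M ≠ ⊤) :
    ∀ (n : ℕ) (H : Subgroup G), H.index ∣ p ^ n →
      ∃ S : Finset G, (∀ s ∈ S, s ∉ M) ∧ S.card ≤ n ∧
        Subgroup.closure ((H : Set G) ∪ ↑S) = ⊤ := by
  classical
  intro n
  induction n with
  | zero =>
    intro H hH
    refine ⟨∅, by simp, by simp, ?_⟩
    have h1 : H.index = 1 := by simpa using hH
    have : H = ⊤ := Subgroup.index_eq_one.1 h1
    simp [this]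
  | succ n ih =>
    intro H hH
    by_cases hHtop : H = ⊤
    · refine ⟨∅, by simp, by simp, ?_⟩
      simp [hHtop]
    obtain ⟨y, hyM, hyH⟩ := exists_notMem_notMem' M H hM hHtop
    set H' : Subgroup G := H ⊔ Subgroup.zpowers y with hH'
    have hle : H ≤ H' := le_sup_left
    have hyH' : y ∈ H' := (le_sup_right : Subgroup.zpowers y ≤ H') (Subgroup.mem_zpowers y)
    have hlt : H < H' := lt_of_le_of_ne hle (fun h => hyH (h ▸ hyH'))
    have hdvd : H'.index ∣ H.index := Subgroup.index_dvd_of_le hle
    have hne : H'.index ≠ H.index := by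
      intro heq
      have hrel := Subgroup.relIndex_mul_index hle
      rw [heq] at hrel
      have hi0 : H.index ≠ 0 := Subgroup.index_ne_zero_of_finite
      have h1 : H.relIndex H' = 1 := by
        have : H.relIndex H' * H.index = 1 * H.index := by rw [hrel, one_mul]
        exact Nat.eq_of_mul_eq_mul_right (Nat.pos_of_ne_zero hi0) this
      exact absurd (Subgroup.relIndex_eq_one.1 h1) (not_le_of_gt hlt)
    have hH'n : H'.index ∣ p ^ n := by
      obtain ⟨a, ha, hHa⟩ := (Nat.dvd_prime_pow (Fact.out : p.Prime)).1 hH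
      obtain ⟨c, hc, hH'c⟩ := (Nat.dvd_prime_pow (Fact.out : p.Prime)).1 (hdvd.trans hH)
      have hca : c < a := by
        rw [hHa, hH'c] at hne hdvd
        have hle' : c ≤ a :=
          (Nat.pow_dvd_pow_iff_le_right (Fact.out : p.Prime).one_lt).1 hdvd
        rcases Nat.lt_or_ge c a with h | h
        · exact h
        · exact absurd (by rw [le_antisymm hle' h]) hne
      rw [hH'c]
      exact pow_dvd_pow p (by omega)
    obtain ⟨S, hS1, hS2, hS3⟩ := ih H' hH'n
    refine ⟨insert y S, ?_, ?_, ?_⟩
    · intro s hs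
      rcases Finset.mem_insert.1 hs with rfl | hs
      · exact hyM
      · exact hS1 s hs
    · exact le_trans (Finset.card_insert_le y S) (by omega)
    · rw [eq_top_iff, ← hS3, Subgroup.closure_le]
      intro x hx
      rcases hx with hx | hx
      · -- `x ∈ H' = H ⊔ zpowers y`
        have h1 : H ≤ Subgroup.closure ((H : Set G) ∪ ↑(insert y S)) :=
          fun z hz => Subgroup.subset_closure (Or.inl hz)
        have h2 : Subgroup.zpowers y ≤ Subgroup.closure ((H : Set G) ∪ ↑(insert y S)) := by
          rw [Subgroup.zpowers_le]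
          exact Subgroup.subset_closure (Or.inr (by simp))
        exact (sup_le h1 h2) hx
      · exact Subgroup.subset_closure (Or.inr (by
          simp only [Finset.coe_insert, Set.mem_insert_iff, Finset.mem_coe]
          exact Or.inr hx))

/-- the (P1) shape: `A ≤ M`, `|M : A| = p ^ lam`, `|G : M| = p`, `y₀ ∉ M`: `A`, `y₀` and at most
`lam` further elements outside `M` generate `G`. -/
theorem exists_gens_K0 (p : ℕ) [Fact p.Prime] (A M : Subgroup G) (hAM : A ≤ M)
    (lam : ℕ) (hidx : A.relIndex M = p ^ lam) (hMp : M.index = p) (y₀ : G) (hy₀ : y₀ ∉ M) :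
    ∃ S : Finset G, y₀ ∈ S ∧ (∀ s ∈ S, s ∉ M) ∧ S.card ≤ lam + 1 ∧
      Subgroup.closure ((A : Set G) ∪ ↑S) = ⊤ := by
  classical
  have hM : M ≠ ⊤ := fun h => hy₀ (h ▸ Subgroup.mem_top y₀)
  have hAidx : A.index = p ^ (lam + 1) := by
    rw [← Subgroup.relIndex_mul_index hAM, hidx, hMp, pow_succ]
  set H : Subgroup G := A ⊔ Subgroup.zpowers y₀ with hH
  have hle : A ≤ H := le_sup_left
  have hyH : y₀ ∈ H := (le_sup_right : Subgroup.zpowers y₀ ≤ H) (Subgroup.mem_zpowers y₀)
  have hlt : A < H := lt_of_le_of_ne hle (fun h => hy₀ (hAM (h ▸ hyH)))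
  have hdvd : H.index ∣ A.index := Subgroup.index_dvd_of_le hle
  have hne : H.index ≠ A.index := by
    intro heq
    have hrel := Subgroup.relIndex_mul_index hle
    rw [heq] at hrel
    have hi0 : A.index ≠ 0 := Subgroup.index_ne_zero_of_finite
    have h1 : A.relIndex H = 1 := by
      have : A.relIndex H * A.index = 1 * A.index := by rw [hrel, one_mul]
      exact Nat.eq_of_mul_eq_mul_right (Nat.pos_of_ne_zero hi0) this
    exact absurd (Subgroup.relIndex_eq_one.1 h1) (not_le_of_gt hlt)
  have hHn : H.index ∣ p ^ lam := by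
    rw [hAidx] at hdvd hne
    obtain ⟨c, hc, hHc⟩ := (Nat.dvd_prime_pow (Fact.out : p.Prime)).1 hdvd
    have hca : c ≠ lam + 1 := fun h => hne (by rw [hHc, h])
    rw [hHc]
    exact pow_dvd_pow p (by omega)
  obtain ⟨S, hS1, hS2, hS3⟩ := exists_gens p M hM lam H hHn
  refine ⟨insert y₀ S, Finset.mem_insert_self _ _, ?_, ?_, ?_⟩
  · intro s hs
    rcases Finset.mem_insert.1 hs with rfl | hs
    · exact hy₀
    · exact hS1 s hs
  · exact le_trans (Finset.card_insert_le y₀ S) (by omega)
  · rw [eq_top_iff, ← hS3, Subgroup.closure_le]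
    intro x hx
    rcases hx with hx | hx
    · have h1 : A ≤ Subgroup.closure ((A : Set G) ∪ ↑(insert y₀ S)) :=
        fun z hz => Subgroup.subset_closure (Or.inl hz)
      have h2 : Subgroup.zpowers y₀ ≤ Subgroup.closure ((A : Set G) ∪ ↑(insert y₀ S)) := by
        rw [Subgroup.zpowers_le]
        exact Subgroup.subset_closure (Or.inr (by simp))
      exact (sup_le h1 h2) hx
    · exact Subgroup.subset_closure (Or.inr (by
        simp only [Finset.coe_insert, Set.mem_insert_iff, Finset.mem_coe]
        exact Or.inr hx))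

end Cfsg.Agent.Lib.H29.S3777Gen
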