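import Cfsg.Agent.Lib.H25.S3777P2Defs
import Cfsg.Agent.Lib.H29.S3777Gen

/-!
helper29: S3777 (Vaughan-Lee), (P2)-step, piece TG in the exact shape of helper25's cut:
a group is not the union of two proper subgroups.
-/

set_option autoImplicit false

namespace Cfsg.Agent.Lib.H29.S3777TG

universe u

theorem tg : Cfsg.Agent.Lib.H25.S3777P2.TGStmt.{u} := fun _ _ M B hM hB =>
  Cfsg.Agent.Lib.H29.S3777Gen.exists_notMem_notMem' M B hM hB

end Cfsg.Agent.Lib.H29.S3777TG
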