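import Cfsg.Agent.Lib.H25.TpDefs

/-!
# S5637-T6b2: from the doubly incident (pure, pure) transvections to all (pure, pure) transvections
by the commutator rule (T3)
-/

set_option autoImplicit false

namespace Cfsg.Agent.Lib.H29.Tp

open Matrix Kronecker Module
open Cfsg.Geo
open Cfsg.Agent.Lib.H25.Tp
open Cfsg.Agent.Lib.H29.Tensor (pt kron_pt pt_add_left pt_add_right pt_smul_left pt_smul_right)

variable {F : Type*} [Field F]

/-- the inverse of `1 + w Ψᵀ`, `Ψ(w) = 0` -/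
theorem inv_val_of_val {ι : Type} [Fintype ι] [DecidableEq ι] {k : GL ι F} {w Ψ : ι → F}
    (hk : k.val = 1 + vecMulVec w Ψ) (h0 : Ψ ⬝ᵥ w = 0) :
    (k⁻¹ : GL ι F).val = 1 - vecMulVec w Ψ := by
  have h2 : vecMulVec w Ψ * vecMulVec w Ψ = 0 := by
    rw [vecMulVec_mul_vecMulVec, h0, zero_smul]
    ext i j; simp [vecMulVec_apply]
  have h3 : k.val * (1 - vecMulVec w Ψ) = 1 := by
    rw [hk]
    calc (1 + vecMulVec w Ψ) * (1 - vecMulVec w Ψ)
        = 1 - vecMulVec w Ψ * vecMulVec w Ψ := by noncomm_ring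
      _ = 1 := by rw [h2, sub_zero]
  have h4 : (k⁻¹ : GL ι F).val = (k⁻¹ : GL ι F).val * (k.val * (1 - vecMulVec w Ψ)) := by
    rw [h3, mul_one]
  rw [h4, ← mul_assoc, ← Units.val_mul, inv_mul_cancel, Units.val_one, one_mul]

/-- the commutator rule (T3) -/
theorem comm_rule {ι : Type} [Fintype ι] [DecidableEq ι] (X : Subgroup (GL ι F))
    {k k' : GL ι F} {w Ψ w' Ψ' : ι → F} (hkX : k ∈ X) (hk'X : k' ∈ X)
    (hk : k.val = 1 + vecMulVec w Ψ) (hk' : k'.val = 1 + vecMulVec w' Ψ')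
    (h0 : Ψ ⬝ᵥ w = 0) (h0' : Ψ' ⬝ᵥ w' = 0) (h1 : Ψ ⬝ᵥ w' = 0) :
    ∃ k'' : GL ι F, k'' ∈ X ∧ k''.val = 1 + vecMulVec w' ((Ψ' ⬝ᵥ w) • Ψ) := by
  refine ⟨k' * k * k'⁻¹ * k⁻¹,
    X.mul_mem (X.mul_mem (X.mul_mem hk'X hkX) (X.inv_mem hk'X)) (X.inv_mem hkX), ?_⟩
  have hzero : vecMulVec w' (0 : ι → F) = 0 := by ext i j; simp [vecMulVec_apply]
  have hzero2 : vecMulVec w (0 : ι → F) = 0 := by ext i j; simp [vecMulVec_apply]
  set N := vecMulVec w Ψ with hN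
  set N' := vecMulVec w' Ψ' with hN'
  have e1 : N * N = 0 := by rw [hN, vecMulVec_mul_vecMulVec, h0, zero_smul, hzero2]
  have e2 : N' * N' = 0 := by rw [hN', vecMulVec_mul_vecMulVec, h0', zero_smul, hzero]
  have e3 : N * N' = 0 := by rw [hN, hN', vecMulVec_mul_vecMulVec, h1, zero_smul, hzero2]
  have e4 : N' * N = vecMulVec w' ((Ψ' ⬝ᵥ w) • Ψ) := by rw [hN, hN', vecMulVec_mul_vecMulVec]
  have e1r : ∀ M : Matrix ι ι F, N * (N * M) = 0 := fun M => by rw [← mul_assoc, e1, zero_mul]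
  have e2r : ∀ M : Matrix ι ι F, N' * (N' * M) = 0 := fun M => by rw [← mul_assoc, e2, zero_mul]
  have e3r : ∀ M : Matrix ι ι F, N * (N' * M) = 0 := fun M => by rw [← mul_assoc, e3, zero_mul]
  rw [Units.val_mul, Units.val_mul, Units.val_mul, inv_val_of_val hk h0, inv_val_of_val hk' h0',
    hk, hk', ← e4]
  have A : (1 + N') * (1 + N) = 1 + N' + N + N' * N := by noncomm_ring
  have B : (1 + N' + N + N' * N) * (1 - N') = 1 + N + N' * N := by
    simp only [add_mul, mul_sub, mul_one, one_mul, mul_assoc, e2, e3, mul_zero]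
    abel
  have C : (1 + N + N' * N) * (1 - N) = 1 + N' * N := by
    simp only [add_mul, mul_sub, mul_one, one_mul, mul_assoc, e1, mul_zero]
    abel
  rw [A, B, C]

/-- existence of a functional vanishing on `z'` but not on `z ∉ ⟨z'⟩` -/
theorem exists_dot {n : ℕ} {z z' : Fin n → F} (hz : z ∉ Submodule.span F {z'}) :
    ∃ φ : Fin n → F, φ ⬝ᵥ z' = 0 ∧ φ ⬝ᵥ z = 1 := by
  obtain ⟨f, hfz, hf⟩ := Submodule.exists_le_ker_of_notMem hz
  have hfz' : f z' = 0 := hf (Submodule.mem_span_singleton_self z')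
  -- represent f by a vector
  let φ₀ : Fin n → F := fun i => f (Pi.single i 1)
  have hrep : ∀ x : Fin n → F, f x = φ₀ ⬝ᵥ x := by
    intro x
    conv_lhs => rw [← (Pi.basisFun F (Fin n)).sum_repr x]
    rw [map_sum]
    simp only [dotProduct, φ₀, map_smul, smul_eq_mul, Pi.basisFun_repr, Pi.basisFun_apply]
    refine Finset.sum_congr rfl fun i _ => ?_
    ring
  refine ⟨(f z)⁻¹ • φ₀, ?_, ?_⟩
  · rw [smul_dotProduct, ← hrep, hfz', smul_zero]
  · rw [smul_dotProduct, ← hrep, smul_eq_mul, inv_mul_cancel₀ hfz]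

/-- a vector of `ker φ` outside a small subspace -/
theorem exists_ker_notMem {n : ℕ} (φ : Fin n → F) (S : Submodule F (Fin n → F))
    (hS : finrank F S + 1 < n) : ∃ z : Fin n → F, φ ⬝ᵥ z = 0 ∧ z ∉ S := by
  let f : (Fin n → F) →ₗ[F] F :=
    { toFun := fun z => φ ⬝ᵥ z
      map_add' := fun x y => dotProduct_add φ x y
      map_smul' := fun c x => by simp [dotProduct_smul] }
  have h1 := LinearMap.finrank_range_add_finrank_ker f
  rw [Module.finrank_fin_fun] at h1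
  have h2 : finrank F (LinearMap.range f) ≤ 1 := by
    have := Submodule.finrank_le (LinearMap.range f)
    rwa [Module.finrank_self] at this
  by_contra hcon
  push Not at hcon
  have hle : LinearMap.ker f ≤ S := fun z hz => hcon z (LinearMap.mem_ker.mp hz)
  have h3 := Submodule.finrank_mono hle
  omega

theorem finrank_span_singleton_le' {n : ℕ} (z' : Fin n → F) :
    finrank F (Submodule.span F {z'}) ≤ 1 := by
  by_cases hz : z' = 0
  · subst hz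
    rw [Submodule.span_zero_singleton, finrank_bot]
    exact Nat.zero_le 1
  · rw [finrank_span_singleton hz]

variable {a b : ℕ}

theorem pt_dot_pt (ψ u : Fin a → F) (φ z : Fin b → F) :
    pt ψ φ ⬝ᵥ pt u z = (ψ ⬝ᵥ u) * (φ ⬝ᵥ z) := by
  simp only [dotProduct, pt, Fintype.sum_prod_type, Finset.sum_mul_sum]
  refine Finset.sum_congr rfl fun i _ => Finset.sum_congr rfl fun j _ => by ring

/-- type 1: `φ(z') = 0`, `ψ(u')` arbitrary -/
theorem type_one (ha : 2 ≤ a) (hb : 3 ≤ b)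
    (X : Subgroup (GL (Fin a × Fin b) F))
    (h : ∀ (u ψ : Fin a → F) (z φ : Fin b → F), ψ ⬝ᵥ u = 0 → φ ⬝ᵥ z = 0 →
      ∃ k : GL (Fin a × Fin b) F, k ∈ X ∧ k.val = 1 + vecMulVec (pt u z) (pt ψ φ))
    (u' ψ : Fin a → F) (z' φ : Fin b → F) (hφz : φ ⬝ᵥ z' = 0) :
    ∃ k : GL (Fin a × Fin b) F, k ∈ X ∧ k.val = 1 + vecMulVec (pt u' z') (pt ψ φ) := by
  by_cases hψu : ψ ⬝ᵥ u' = 0
  · exact h u' ψ z' φ hψu hφz
  have hfr1 : finrank F (Submodule.span F {z'}) ≤ 1 := finrank_span_singleton_le' z'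
  obtain ⟨z, hz0, hzS⟩ := exists_ker_notMem φ (Submodule.span F {z'}) (by omega)
  obtain ⟨u, hu0, huS⟩ := exists_ker_notMem ψ (⊥ : Submodule F (Fin a → F))
    (by rw [finrank_bot]; omega)
  have huS' : u ∉ Submodule.span F {u'} := by
    intro hmem
    obtain ⟨c, rfl⟩ := Submodule.mem_span_singleton.mp hmem
    rw [dotProduct_smul, smul_eq_mul] at hu0
    rcases mul_eq_zero.mp hu0 with hc | hc
    · apply huS
      rw [hc, zero_smul]
      exact Submodule.zero_mem _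
    · exact hψu hc
  obtain ⟨φ', hφ'z', hφ'z⟩ := exists_dot hzS
  obtain ⟨ψ', hψ'u', hψ'u⟩ := exists_dot huS'
  obtain ⟨k₁, hk₁X, hk₁⟩ := h u ψ z φ hu0 hz0
  obtain ⟨k₂, hk₂X, hk₂⟩ := h u' ψ' z' φ' hψ'u' hφ'z'
  obtain ⟨k, hkX, hk⟩ := comm_rule X hk₁X hk₂X hk₁ hk₂
    (by rw [pt_dot_pt, hu0, zero_mul]) (by rw [pt_dot_pt, hψ'u', zero_mul])
    (by rw [pt_dot_pt, hφz, mul_zero])
  refine ⟨k, hkX, ?_⟩
  rw [hk, pt_dot_pt, hψ'u, hφ'z, one_mul, one_smul]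

/-- type 2: `ψ(u') = 0`, `φ(z')` arbitrary -/
theorem type_two (ha : 2 ≤ a) (hb : 3 ≤ b)
    (X : Subgroup (GL (Fin a × Fin b) F))
    (h : ∀ (u ψ : Fin a → F) (z φ : Fin b → F), ψ ⬝ᵥ u = 0 → φ ⬝ᵥ z = 0 →
      ∃ k : GL (Fin a × Fin b) F, k ∈ X ∧ k.val = 1 + vecMulVec (pt u z) (pt ψ φ))
    (u' ψ : Fin a → F) (z' φ : Fin b → F) (hψu : ψ ⬝ᵥ u' = 0) :
    ∃ k : GL (Fin a × Fin b) F, k ∈ X ∧ k.val = 1 + vecMulVec (pt u' z') (pt ψ φ) := by
  by_cases hφz : φ ⬝ᵥ z' = 0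
  · exact h u' ψ z' φ hψu hφz
  have hfr1 : finrank F (Submodule.span F {z'}) ≤ 1 := finrank_span_singleton_le' z'
  obtain ⟨z, hz0, hzS⟩ := exists_ker_notMem φ (Submodule.span F {z'}) (by omega)
  obtain ⟨φ', hφ'z', hφ'z⟩ := exists_dot hzS
  let i0 : Fin a := ⟨0, by omega⟩
  let e0 : Fin a → F := Pi.single i0 1
  have he0 : e0 ⬝ᵥ e0 = 1 := by simp [e0]
  obtain ⟨k₁, hk₁X, hk₁⟩ := type_one ha hb X h e0 ψ z φ hz0
  obtain ⟨k₂, hk₂X, hk₂⟩ := type_one ha hb X h u' e0 z' φ' hφ'z'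
  obtain ⟨k, hkX, hk⟩ := comm_rule X hk₁X hk₂X hk₁ hk₂
    (by rw [pt_dot_pt, hz0, mul_zero]) (by rw [pt_dot_pt, hφ'z', mul_zero])
    (by rw [pt_dot_pt, hψu, zero_mul])
  refine ⟨k, hkX, ?_⟩
  rw [hk, pt_dot_pt, he0, hφ'z, one_mul, one_smul]

/-- **T6b2 (second half of T6b).**  From all doubly incident ones get the mixed types by the
commutator rule (T3). -/
theorem all_pure_of_incident (ha : 2 ≤ a) (hb : 3 ≤ b)
    (X : Subgroup (GL (Fin a × Fin b) F))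
    (h : ∀ (u ψ : Fin a → F) (z φ : Fin b → F), ψ ⬝ᵥ u = 0 → φ ⬝ᵥ z = 0 →
      ∃ k : GL (Fin a × Fin b) F, k ∈ X ∧ k.val = 1 + vecMulVec (pt u z) (pt ψ φ))
    (u ψ : Fin a → F) (z φ : Fin b → F) (h0 : (ψ ⬝ᵥ u) * (φ ⬝ᵥ z) = 0) :
    ∃ k : GL (Fin a × Fin b) F, k ∈ X ∧ k.val = 1 + vecMulVec (pt u z) (pt ψ φ) := by
  rcases mul_eq_zero.mp h0 with h1 | h1
  · exact type_two ha hb X h u ψ z φ h1
  · exact type_one ha hb X h u ψ z φ h1

end Cfsg.Agent.Lib.H29.Tp
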