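import Mathlib
import Cfsg.Agent.Lib.H26.EssDefs

/-!
# S5188 pieces P4 / P7 (helper26 farm-out): common tools (helper29)

* `char_map_mem` : a characteristic subgroup is mapped into itself by every automorphism.
* `commHomZ z hz` : the homomorphism `g ↦ g z g⁻¹ z⁻¹` into the centre, when all these commutators are central.
* `index_centralizer_eq_prime` : if `|Z(G)| = p`, `z ∉ Z(G)` and all `[g, z]` are central then `|G : C_G(z)| = p`.
-/

set_option autoImplicit false

namespace Cfsg.Agent.Lib.H29.Ess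

variable {G : Type*} [Group G]

theorem char_map_mem (H : Subgroup G) [hH : H.Characteristic] (α : MulAut G) {x : G} (hx : x ∈ H) :
    α x ∈ H := by
  have h := (Subgroup.characteristic_iff_map_le.mp hH) α
  exact h (Subgroup.mem_map_of_mem _ hx)

/-- `g ↦ g z g⁻¹ z⁻¹` as a homomorphism into the centre. -/
def commHomZ (z : G) (hz : ∀ g : G, g * z * g⁻¹ * z⁻¹ ∈ Subgroup.center G) : G →* Subgroup.center G :=
  MonoidHom.mk' (fun g => ⟨g * z * g⁻¹ * z⁻¹, hz g⟩) (by
    intro g₁ g₂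
    apply Subtype.ext
    have h2 := Subgroup.mem_center_iff.mp (hz g₂)
    change g₁ * g₂ * z * (g₁ * g₂)⁻¹ * z⁻¹ = (g₁ * z * g₁⁻¹ * z⁻¹) * (g₂ * z * g₂⁻¹ * z⁻¹)
    calc g₁ * g₂ * z * (g₁ * g₂)⁻¹ * z⁻¹
        = g₁ * (g₂ * z * g₂⁻¹ * z⁻¹) * z * g₁⁻¹ * z⁻¹ := by group
      _ = (g₂ * z * g₂⁻¹ * z⁻¹) * g₁ * z * g₁⁻¹ * z⁻¹ := by rw [h2 g₁]
      _ = (g₂ * z * g₂⁻¹ * z⁻¹) * (g₁ * z * g₁⁻¹ * z⁻¹) := by group
      _ = (g₁ * z * g₁⁻¹ * z⁻¹) * (g₂ * z * g₂⁻¹ * z⁻¹) := (h2 _).symm)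

theorem commHomZ_apply (z : G) (hz : ∀ g : G, g * z * g⁻¹ * z⁻¹ ∈ Subgroup.center G) (g : G) :
    ((commHomZ z hz g : Subgroup.center G) : G) = g * z * g⁻¹ * z⁻¹ := rfl

theorem ker_commHomZ (z : G) (hz : ∀ g : G, g * z * g⁻¹ * z⁻¹ ∈ Subgroup.center G) :
    (commHomZ z hz).ker = Subgroup.centralizer ({z} : Set G) := by
  ext g
  rw [MonoidHom.mem_ker, Subgroup.mem_centralizer_singleton_iff]
  constructor
  · intro h
    have h1 : g * z * g⁻¹ * z⁻¹ = 1 := by
      have := congrArg Subtype.val h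
      simpa [commHomZ_apply] using this
    have : g * z = z * g := by
      calc g * z = (g * z * g⁻¹ * z⁻¹) * z * g := by group
        _ = z * g := by rw [h1, one_mul]
    exact this
  · intro h
    apply Subtype.ext
    rw [commHomZ_apply]
    change g * z * g⁻¹ * z⁻¹ = 1
    rw [h]; group

theorem index_centralizer_eq_prime [Finite G] {p : ℕ} [hp : Fact p.Prime]
    (hZ : Nat.card (Subgroup.center G) = p) (z : G)
    (hz : ∀ g : G, g * z * g⁻¹ * z⁻¹ ∈ Subgroup.center G) (hnz : z ∉ Subgroup.center G) :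
    (Subgroup.centralizer ({z} : Set G)).index = p := by
  rw [← ker_commHomZ z hz, Subgroup.index_ker]
  have hdvd : Nat.card (commHomZ z hz).range ∣ p := by
    rw [← hZ]; exact Subgroup.card_subgroup_dvd_card _
  rcases (Nat.dvd_prime hp.out).mp hdvd with h1 | h1
  · exfalso
    have hbot : (commHomZ z hz).range = ⊥ := Subgroup.card_eq_one.mp h1
    have hker : (commHomZ z hz).ker = ⊤ := by
      rw [eq_top_iff]
      intro g _
      rw [MonoidHom.mem_ker]
      have : commHomZ z hz g ∈ (commHomZ z hz).range := ⟨g, rfl⟩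
      rw [hbot, Subgroup.mem_bot] at this
      exact this
    rw [ker_commHomZ] at hker
    apply hnz
    rw [Subgroup.mem_center_iff]
    intro g
    have hg : g ∈ Subgroup.centralizer ({z} : Set G) := by rw [hker]; trivial
    rw [Subgroup.mem_centralizer_singleton_iff] at hg
    exact hg
  · exact h1

end Cfsg.Agent.Lib.H29.Ess
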