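import Mathlib
import Cfsg.Agent.Lib.H26.EssDefs
import Cfsg.Agent.Lib.H29.EssCommon

/-!
# S5188-P4 (helper26 farm-out; helper29): `|Z(G)| = p`, `|G| = p⁴` ⇒ characteristic chain `Z < Z₂ < C_G(Z₂)`.
-/

set_option autoImplicit false

namespace Cfsg.Agent.Lib.H29.Ess

open Cfsg.Agent.Lib.H26.Ess

section

variable {G : Type*} [Group G] [Finite G] {p : ℕ} [hp : Fact p.Prime]

/-- A group of order `p⁴` with centre of order `p` cannot have all commutators central. -/
theorem p4_not_class_two (hcard : Nat.card G = p ^ 4) (hZ : Nat.card (Subgroup.center G) = p)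
    (hc : ∀ g z : G, g * z * g⁻¹ * z⁻¹ ∈ Subgroup.center G) : False := by
  have hp1 : 1 < p := hp.out.one_lt
  have hp0 : 0 < p := hp.out.pos
  have hG : IsPGroup p G := IsPGroup.of_card hcard
  -- every non-central element has centralizer of index p, i.e. of order p^3
  have hidx : ∀ z : G, z ∉ Subgroup.center G → (Subgroup.centralizer ({z} : Set G)).index = p :=
    fun z hz => index_centralizer_eq_prime hZ z (fun g => hc g z) hz
  have hcardC : ∀ z : G, z ∉ Subgroup.center G →
      Nat.card (Subgroup.centralizer ({z} : Set G)) = p ^ 3 := by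
    intro z hz
    have h := Subgroup.card_mul_index (Subgroup.centralizer ({z} : Set G))
    rw [hidx z hz, hcard] at h
    have : Nat.card (Subgroup.centralizer ({z} : Set G)) * p = p ^ 3 * p := by rw [h]; ring
    exact Nat.eq_of_mul_eq_mul_right hp0 this
  -- a non-central element x
  obtain ⟨x, hx⟩ : ∃ x : G, x ∉ Subgroup.center G := by
    by_contra hcon
    have hcon' : ∀ x : G, x ∈ Subgroup.center G := by
      intro x; by_contra hx; exact hcon ⟨x, hx⟩
    have htop : Subgroup.center G = ⊤ := by
      rw [eq_top_iff]; intro x _; exact hcon' x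
    rw [htop, Subgroup.card_top, hcard] at hZ
    have : p ^ 4 = p ^ 1 := by rw [hZ, pow_one]
    have := Nat.pow_right_injective hp1 this
    omega
  set M := Subgroup.centralizer ({x} : Set G) with hM
  have hMcard : Nat.card M = p ^ 3 := hcardC x hx
  -- M is abelian: its centre contains Z(G) and x, so has order ≥ p^2
  have hMcomm : ∀ a ∈ M, ∀ b ∈ M, a * b = b * a := by
    -- the subgroup K = Z(G) ⊔ zpowers x is central in M
    set K : Subgroup G := Subgroup.center G ⊔ Subgroup.zpowers x with hK
    have hKM : K ≤ M := by
      rw [hK]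
      apply sup_le
      · intro z hz
        rw [hM, Subgroup.mem_centralizer_singleton_iff]
        exact ((Subgroup.mem_center_iff.mp hz) x).symm
      · rw [Subgroup.zpowers_le, hM, Subgroup.mem_centralizer_singleton_iff]
    have hKcent : ∀ k ∈ K, ∀ m ∈ M, k * m = m * k := by
      intro k hk m hm
      have hle : K ≤ Subgroup.centralizer ({m} : Set G) := by
        rw [hK]
        apply sup_le
        · intro z hz
          rw [Subgroup.mem_centralizer_singleton_iff]
          exact ((Subgroup.mem_center_iff.mp hz) m).symm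
        · rw [Subgroup.zpowers_le, Subgroup.mem_centralizer_singleton_iff]
          rw [hM, Subgroup.mem_centralizer_singleton_iff] at hm
          exact hm.symm
      have := hle hk
      rw [Subgroup.mem_centralizer_singleton_iff] at this
      exact this
    -- |K| ≥ p^2
    have hZK : Subgroup.center G ≤ K := le_sup_left
    have hxK : x ∈ K := by
      rw [hK]; exact Subgroup.mem_sup_right (Subgroup.mem_zpowers x)
    have hKpow : ∃ n, Nat.card K = p ^ n := (hG.to_subgroup K).exists_card_eq
    obtain ⟨n, hn⟩ := hKpow
    have hKgt : p < Nat.card K := by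
      have hle : Nat.card (Subgroup.center G) ≤ Nat.card K := Subgroup.card_le_of_le hZK
      rcases hle.lt_or_eq with h | h
      · rw [hZ] at h; exact h
      · exfalso
        have : Subgroup.center G = K := Subgroup.eq_of_le_of_card_ge hZK h.ge
        apply hx; rw [this]; exact hxK
    have hn2 : 2 ≤ n := by
      rw [hn] at hKgt
      by_contra hlt
      have : n ≤ 1 := by omega
      have : p ^ n ≤ p ^ 1 := Nat.pow_le_pow_right hp0 this
      rw [pow_one] at this
      omega
    -- consider the subgroup K' of M and the quotient: use `commutative_of_cyclic_center_quotient`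
    -- work inside the group ↥M
    let K' : Subgroup M := K.subgroupOf M
    have hK'cent : K' ≤ Subgroup.center M := by
      intro k hk
      rw [Subgroup.mem_center_iff]
      intro m
      apply Subtype.ext
      have := hKcent k.1 (Subgroup.mem_subgroupOf.mp hk) m.1 m.2
      simpa using this.symm
    have hK'card : Nat.card K' = p ^ n := by
      rw [← hn]
      exact Nat.card_congr (Subgroup.subgroupOfEquivOfLe hKM).toEquiv
    have hK'idx : K'.index ∣ p := by
      have h := Subgroup.card_mul_index K'
      rw [hK'card, hMcard] at h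
      have h3 : n ≤ 3 := by
        by_contra hlt
        have h4 : 4 ≤ n := by omega
        have h1 : p ^ 4 ≤ p ^ n := Nat.pow_le_pow_right hp0 h4
        have h2 : p ^ n ∣ p ^ 3 := ⟨_, h.symm⟩
        have h5 := Nat.le_of_dvd (pow_pos hp0 3) h2
        have h6 : p ^ 3 < p ^ 4 := Nat.pow_lt_pow_right hp1 (by norm_num)
        omega
      have : K'.index = p ^ (3 - n) := by
        have h7 : p ^ n * K'.index = p ^ n * p ^ (3 - n) := by
          rw [h, ← pow_add]; congr 1; omega
        exact Nat.eq_of_mul_eq_mul_left (pow_pos hp0 n) h7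
      rw [this]
      have : 3 - n ≤ 1 := by omega
      exact (Nat.pow_dvd_pow p this).trans (by rw [pow_one])
    -- center of M has index dividing p, hence M / center M is cyclic
    have hcidx : (Subgroup.center M).index ∣ p :=
      (Subgroup.index_dvd_of_le hK'cent).trans hK'idx
    have hcyc : IsCyclic (M ⧸ Subgroup.center M) := by
      rcases (Nat.dvd_prime hp.out).mp hcidx with h1 | h1
      · have : Nat.card (M ⧸ Subgroup.center M) = 1 := by
          rw [← Subgroup.index_eq_card]; exact h1
        haveI : Subsingleton (M ⧸ Subgroup.center M) := (Nat.card_eq_one_iff_unique.mp this).1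
        infer_instance
      · have : Nat.card (M ⧸ Subgroup.center M) = p := by
          rw [← Subgroup.index_eq_card]; exact h1
        exact isCyclic_of_prime_card this
    have hcomm := commutative_of_cyclic_center_quotient (QuotientGroup.mk' (Subgroup.center M))
      (by rw [QuotientGroup.ker_mk'])
    intro a ha b hb
    have := hcomm ⟨a, ha⟩ ⟨b, hb⟩
    exact congrArg Subtype.val this
  -- for m ∈ M \ Z(G): C_G(m) = M
  have hCm : ∀ m ∈ M, m ∉ Subgroup.center G → Subgroup.centralizer ({m} : Set G) = M := by
    intro m hm hmZ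
    symm
    apply Subgroup.eq_of_le_of_card_ge
    · intro a ha
      rw [Subgroup.mem_centralizer_singleton_iff]
      exact hMcomm a ha m hm
    · rw [hMcard, hcardC m hmZ]
  -- an element w outside M
  obtain ⟨w, hw⟩ : ∃ w : G, w ∉ M := by
    by_contra hcon
    have htop : M = ⊤ := by
      rw [eq_top_iff]; intro w _; by_contra hw; exact hcon ⟨w, hw⟩
    rw [htop, Subgroup.card_top, hcard] at hMcard
    have := Nat.pow_right_injective hp1 hMcard
    omega
  have hwZ : w ∉ Subgroup.center G := by
    intro h
    apply hw
    rw [hM, Subgroup.mem_centralizer_singleton_iff]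
    exact ((Subgroup.mem_center_iff.mp h) x).symm
  set N := Subgroup.centralizer ({w} : Set G) with hN
  -- |M ⊓ N| ≥ p^2 > p, so it contains a noncentral element
  have hMNidx : (M ⊓ N).index ≤ p * p := by
    have := Subgroup.index_inf_le (H := M) (K := N)
    rw [hidx x hx, hidx w hwZ] at this
    exact this
  have hMNcard : p ^ 2 ≤ Nat.card ↥(M ⊓ N) := by
    have h := Subgroup.card_mul_index (M ⊓ N)
    rw [hcard] at h
    by_contra hlt
    have hlt := not_le.mp hlt
    have : Nat.card ↥(M ⊓ N) * (M ⊓ N).index < p ^ 2 * (p * p) := by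
      calc Nat.card ↥(M ⊓ N) * (M ⊓ N).index ≤ Nat.card ↥(M ⊓ N) * (p * p) :=
            Nat.mul_le_mul_left _ hMNidx
        _ < p ^ 2 * (p * p) := Nat.mul_lt_mul_of_pos_right hlt (Nat.mul_pos hp0 hp0)
    rw [h] at this
    have : p ^ 4 < p ^ 4 := by
      calc p ^ 4 < p ^ 2 * (p * p) := this
        _ = p ^ 4 := by ring
    exact lt_irrefl _ this
  obtain ⟨m, hmMN, hmZ⟩ : ∃ m ∈ M ⊓ N, m ∉ Subgroup.center G := by
    by_contra hcon
    have hle : M ⊓ N ≤ Subgroup.center G := by
      intro m hm
      by_contra hmz
      exact hcon ⟨m, hm, hmz⟩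
    have := Subgroup.card_le_of_le hle
    rw [hZ] at this
    have h2 : p < p ^ 2 := by
      calc p = p ^ 1 := (pow_one p).symm
        _ < p ^ 2 := Nat.pow_lt_pow_right hp1 (by norm_num)
    omega
  have hmM : m ∈ M := hmMN.1
  have hmN : m ∈ N := hmMN.2
  have hCmM := hCm m hmM hmZ
  apply hw
  rw [← hCmM, Subgroup.mem_centralizer_singleton_iff]
  rw [hN, Subgroup.mem_centralizer_singleton_iff] at hmN
  exact hmN.symm

end

/-- **S5188-P4** (`|Z| = p`: maximal class).  Chain `Z < Z₂ < C_G(Z₂)`. -/
theorem chain_of_card_center_eq {G : Type*} [Group G] [Finite G] {p : ℕ} [Fact p.Prime]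
    (hcard : Nat.card G = p ^ 4) (hZ : Nat.card (Subgroup.center G) = p) : HasCharChain p G := by
  have hpp : p.Prime := Fact.out
  have hp1 : 1 < p := hpp.one_lt
  have hp0 : 0 < p := hpp.pos
  have hG : IsPGroup p G := IsPGroup.of_card hcard
  -- the quotient Q = G / Z(G) has order p^3
  have hQcard : Nat.card (G ⧸ Subgroup.center G) = p ^ 3 := by
    have h := Subgroup.card_eq_card_quotient_mul_card_subgroup (Subgroup.center G)
    rw [hcard, hZ] at h
    have : Nat.card (G ⧸ Subgroup.center G) * p = p ^ 3 * p := by rw [← h]; ring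
    exact Nat.eq_of_mul_eq_mul_right hp0 this
  have hQp : IsPGroup p (G ⧸ Subgroup.center G) := hG.to_quotient _
  haveI : Nontrivial (G ⧸ Subgroup.center G) := by
    rw [← Finite.one_lt_card_iff_nontrivial, hQcard]
    exact Nat.one_lt_pow (by norm_num) hp1
  haveI hcn : Nontrivial (Subgroup.center (G ⧸ Subgroup.center G)) := hQp.center_nontrivial
  -- Z₂ as a preimage
  have hZ2 : Subgroup.upperCentralSeries G 2 =
      (Subgroup.center (G ⧸ Subgroup.center G)).comap (QuotientGroup.mk' (Subgroup.center G)) := by
    rw [← Subgroup.comap_upperCentralSeries_quotient_center 1,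
      Subgroup.upperCentralSeries_one (G ⧸ Subgroup.center G)]
  have hidx : (Subgroup.upperCentralSeries G 2).index =
      (Subgroup.center (G ⧸ Subgroup.center G)).index := by
    rw [hZ2]
    exact Subgroup.index_comap_of_surjective _ (QuotientGroup.mk'_surjective _)
  -- the order of Z(Q)
  obtain ⟨k, hk3, hk⟩ : ∃ k ≤ 3, Nat.card (Subgroup.center (G ⧸ Subgroup.center G)) = p ^ k := by
    have hd : Nat.card (Subgroup.center (G ⧸ Subgroup.center G)) ∣ p ^ 3 := by
      rw [← hQcard]; exact Subgroup.card_subgroup_dvd_card _
    exact (Nat.dvd_prime_pow hpp).mp hd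
  have hk0 : k ≠ 0 := by
    intro h0
    rw [h0, pow_zero] at hk
    have : Subsingleton (Subgroup.center (G ⧸ Subgroup.center G)) :=
      (Nat.card_eq_one_iff_unique.mp hk).1
    exact not_subsingleton _ this
  have hcidx : (Subgroup.center (G ⧸ Subgroup.center G)).index = p ^ (3 - k) := by
    have h := Subgroup.card_mul_index (Subgroup.center (G ⧸ Subgroup.center G))
    rw [hk, hQcard] at h
    have h7 : p ^ k * (Subgroup.center (G ⧸ Subgroup.center G)).index = p ^ k * p ^ (3 - k) := by
      rw [h, ← pow_add]; congr 1; omega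
    exact Nat.eq_of_mul_eq_mul_left (pow_pos hp0 k) h7
  -- k = 1
  have hk1 : k = 1 := by
    by_contra hne
    have hk23 : k = 2 ∨ k = 3 := by omega
    rcases hk23 with h2 | h3
    · -- index p: Q / Z(Q) cyclic, so Q abelian, so index 1
      have hi : (Subgroup.center (G ⧸ Subgroup.center G)).index = p := by
        rw [hcidx, h2]; simp
      have hc : Nat.card ((G ⧸ Subgroup.center G) ⧸ Subgroup.center (G ⧸ Subgroup.center G)) = p := by
        rw [← Subgroup.index_eq_card]; exact hi
      have hcyc : IsCyclic ((G ⧸ Subgroup.center G) ⧸ Subgroup.center (G ⧸ Subgroup.center G)) :=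
        isCyclic_of_prime_card hc
      have hcomm := commutative_of_cyclic_center_quotient
        (QuotientGroup.mk' (Subgroup.center (G ⧸ Subgroup.center G)))
        (by rw [QuotientGroup.ker_mk'])
      have htop : Subgroup.center (G ⧸ Subgroup.center G) = ⊤ := by
        rw [eq_top_iff]
        intro a _
        rw [Subgroup.mem_center_iff]
        intro b
        exact hcomm b a
      rw [htop, Subgroup.index_top] at hi
      omega
    · -- Z(Q) = Q: all commutators central, impossible
      have htop : Subgroup.center (G ⧸ Subgroup.center G) = ⊤ := by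
        apply Subgroup.eq_top_of_card_eq
        rw [hk, h3, hQcard]
      apply p4_not_class_two hcard hZ
      intro g z
      rw [← QuotientGroup.eq_one_iff]
      have hzc : (QuotientGroup.mk z : G ⧸ Subgroup.center G) ∈
          Subgroup.center (G ⧸ Subgroup.center G) := by rw [htop]; trivial
      have := (Subgroup.mem_center_iff.mp hzc) (QuotientGroup.mk g)
      -- this : mk g * mk z = mk z * mk g
      simp only [QuotientGroup.mk_mul, QuotientGroup.mk_inv]
      rw [this]
      group
  -- |Z₂| = p^2
  have hZ2card : Nat.card (Subgroup.upperCentralSeries G 2) = p ^ 2 := by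
    have h := Subgroup.card_mul_index (Subgroup.upperCentralSeries G 2)
    rw [hidx, hcidx, hk1, hcard] at h
    have : Nat.card (Subgroup.upperCentralSeries G 2) * p ^ 2 = p ^ 2 * p ^ 2 := by
      rw [show 3 - 1 = 2 from rfl] at h
      rw [h]; ring
    exact Nat.eq_of_mul_eq_mul_right (pow_pos hp0 2) this
  have hZle : Subgroup.center G ≤ Subgroup.upperCentralSeries G 2 := by
    rw [← Subgroup.upperCentralSeries_one]
    exact Subgroup.upperCentralSeries_mono G (by norm_num)
  -- Z₂ is abelian
  have hZ2comm : ∀ a ∈ Subgroup.upperCentralSeries G 2, ∀ b ∈ Subgroup.upperCentralSeries G 2,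
      a * b = b * a := by
    intro a ha b hb
    have := IsPGroup.commutative_of_card_eq_prime_sq hZ2card ⟨a, ha⟩ ⟨b, hb⟩
    exact congrArg Subtype.val this
  have hZ2leC : Subgroup.upperCentralSeries G 2 ≤
      Subgroup.centralizer (Subgroup.upperCentralSeries G 2 : Set G) := by
    intro a ha
    rw [Subgroup.mem_centralizer_iff]
    intro b hb
    exact hZ2comm b hb a ha
  -- an element z ∈ Z₂ \ Z
  obtain ⟨z, hzZ2, hzZ⟩ : ∃ z ∈ Subgroup.upperCentralSeries G 2, z ∉ Subgroup.center G := by
    by_contra hcon
    have hle : Subgroup.upperCentralSeries G 2 ≤ Subgroup.center G := by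
      intro z hz
      by_contra hzz
      exact hcon ⟨z, hz, hzz⟩
    have := Subgroup.card_le_of_le hle
    rw [hZ, hZ2card] at this
    have h2 : p < p ^ 2 := by
      calc p = p ^ 1 := (pow_one p).symm
        _ < p ^ 2 := Nat.pow_lt_pow_right hp1 (by norm_num)
    omega
  have hzc : ∀ g : G, g * z * g⁻¹ * z⁻¹ ∈ Subgroup.center G := by
    intro g
    have h := (Subgroup.mem_upperCentralSeries_succ_iff (n := 1)).mp hzZ2 g
    rw [Subgroup.upperCentralSeries_one] at h
    -- h : ⁅z, g⁆ ∈ center; our element is its inverse
    rw [commutatorElement_def] at h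
    have h' := (Subgroup.center G).inv_mem h
    have : (z * g * z⁻¹ * g⁻¹)⁻¹ = g * z * g⁻¹ * z⁻¹ := by group
    rwa [this] at h'
  have hCz : (Subgroup.centralizer ({z} : Set G)).index = p := index_centralizer_eq_prime hZ z hzc hzZ
  -- Z₂ = Z ⊔ zpowers z
  have hKeq : Subgroup.center G ⊔ Subgroup.zpowers z = Subgroup.upperCentralSeries G 2 := by
    have hKle : Subgroup.center G ⊔ Subgroup.zpowers z ≤ Subgroup.upperCentralSeries G 2 :=
      sup_le hZle (by rw [Subgroup.zpowers_le]; exact hzZ2)
    apply Subgroup.eq_of_le_of_card_ge hKle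
    rw [hZ2card]
    obtain ⟨n, hn⟩ := (hG.to_subgroup (Subgroup.center G ⊔ Subgroup.zpowers z)).exists_card_eq
    have hgt : p < Nat.card ↥(Subgroup.center G ⊔ Subgroup.zpowers z) := by
      have hle : Nat.card (Subgroup.center G) ≤ Nat.card ↥(Subgroup.center G ⊔ Subgroup.zpowers z) :=
        Subgroup.card_le_of_le le_sup_left
      rcases hle.lt_or_eq with h | h
      · rw [hZ] at h; exact h
      · exfalso
        have : Subgroup.center G = Subgroup.center G ⊔ Subgroup.zpowers z :=
          Subgroup.eq_of_le_of_card_ge le_sup_left h.ge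
        apply hzZ; rw [this]; exact Subgroup.mem_sup_right (Subgroup.mem_zpowers z)
    rw [hn] at hgt ⊢
    have hn2 : 2 ≤ n := by
      by_contra hlt
      have : n ≤ 1 := by omega
      have : p ^ n ≤ p ^ 1 := Nat.pow_le_pow_right hp0 this
      rw [pow_one] at this
      omega
    exact Nat.pow_le_pow_right hp0 hn2
  have hCeq : Subgroup.centralizer (Subgroup.upperCentralSeries G 2 : Set G) =
      Subgroup.centralizer ({z} : Set G) := by
    apply le_antisymm
    · intro g hg
      rw [Subgroup.mem_centralizer_singleton_iff]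
      exact ((Subgroup.mem_centralizer_iff.mp hg) z hzZ2).symm
    · intro g hg
      rw [Subgroup.mem_centralizer_singleton_iff] at hg
      rw [Subgroup.mem_centralizer_iff]
      intro b hb
      have hle : Subgroup.center G ⊔ Subgroup.zpowers z ≤ Subgroup.centralizer ({g} : Set G) := by
        apply sup_le
        · intro c hc
          rw [Subgroup.mem_centralizer_singleton_iff]
          exact ((Subgroup.mem_center_iff.mp hc) g).symm
        · rw [Subgroup.zpowers_le, Subgroup.mem_centralizer_singleton_iff]
          exact hg.symm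
      rw [hKeq] at hle
      have := hle hb
      rw [Subgroup.mem_centralizer_singleton_iff] at this
      exact this
  have hCcard : Nat.card (Subgroup.centralizer (Subgroup.upperCentralSeries G 2 : Set G)) = p ^ 3 := by
    rw [hCeq]
    have h := Subgroup.card_mul_index (Subgroup.centralizer ({z} : Set G))
    rw [hCz, hcard] at h
    have : Nat.card (Subgroup.centralizer ({z} : Set G)) * p = p ^ 3 * p := by rw [h]; ring
    exact Nat.eq_of_mul_eq_mul_right hp0 this
  refine ⟨Subgroup.center G, Subgroup.upperCentralSeries G 2,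
    Subgroup.centralizer (Subgroup.upperCentralSeries G 2 : Set G), hZle, hZ2leC, hZ, hZ2card, hCcard,
    ?_, ?_, ?_⟩
  · intro α x hx; exact char_map_mem _ α hx
  · intro α x hx; exact char_map_mem _ α hx
  · intro α x hx; exact char_map_mem _ α hx

end Cfsg.Agent.Lib.H29.Ess
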