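import Mathlib
import Cfsg.Agent.Lib.H26.EssDefs
import Cfsg.Agent.Lib.H26.MetaPow
import Cfsg.Agent.Lib.H29.EssCommon

/-!
# S5188-P7 (helper26 farm-out; helper29): `Z(G)` cyclic of order `p²`, `|G| = p⁴` ⇒ exponent dividing `p²`, or the
characteristic chain `im f < Z < ker f` for the endomorphism `f : x ↦ x^(p²)`.
-/

set_option autoImplicit false

namespace Cfsg.Agent.Lib.H29.Ess

open Cfsg.Agent.Lib.H26.Ess

/-- **S5188-P7** (`Z` cyclic of order `p²`).  Exponent `p²`, or chain `Z^p < Z < ker(x ↦ x^(p²))`. -/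
theorem exp_sq_or_chain {G : Type*} [Group G] [Finite G] {p : ℕ} [Fact p.Prime]
    (hcard : Nat.card G = p ^ 4) (hZ : Nat.card (Subgroup.center G) = p ^ 2)
    (hZc : IsCyclic (Subgroup.center G)) : (∀ x : G, x ^ (p ^ 2) = 1) ∨ HasCharChain p G := by
  have hpp : p.Prime := Fact.out
  have hp1 : 1 < p := hpp.one_lt
  have hp0 : 0 < p := hpp.pos
  have hG : IsPGroup p G := IsPGroup.of_card hcard
  -- the quotient Q = G / Z(G) has order p^2, hence is abelian
  have hQcard : Nat.card (G ⧸ Subgroup.center G) = p ^ 2 := by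
    have h := Subgroup.card_eq_card_quotient_mul_card_subgroup (Subgroup.center G)
    rw [hcard, hZ] at h
    have : Nat.card (G ⧸ Subgroup.center G) * p ^ 2 = p ^ 2 * p ^ 2 := by rw [← h]; ring
    exact Nat.eq_of_mul_eq_mul_right (pow_pos hp0 2) this
  have hQcomm : ∀ a b : G ⧸ Subgroup.center G, a * b = b * a :=
    (IsPGroup.isMulCommutative_of_card_eq_prime_sq hQcard).is_comm.comm
  -- all commutators are central
  have hc : ∀ g z : G, g * z * g⁻¹ * z⁻¹ ∈ Subgroup.center G := by
    intro g z
    rw [← QuotientGroup.eq_one_iff]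
    have := hQcomm (QuotientGroup.mk g) (QuotientGroup.mk z)
    simp only [QuotientGroup.mk_mul, QuotientGroup.mk_inv]
    rw [this]
    group
  -- G is not abelian
  have hnot : Subgroup.center G ≠ ⊤ := by
    intro htop
    rw [htop, Subgroup.card_top, hcard] at hZ
    have := Nat.pow_right_injective hp1 hZ
    omega
  -- p-th powers are central
  have hpow : ∀ v : G, v ^ p ∈ Subgroup.center G := by
    intro v
    rw [← QuotientGroup.eq_one_iff, QuotientGroup.mk_pow]
    have hord : orderOf (QuotientGroup.mk v : G ⧸ Subgroup.center G) ∣ p ^ 2 := by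
      rw [← hQcard]; exact orderOf_dvd_natCard _
    obtain ⟨k, hk2, hk⟩ := (Nat.dvd_prime_pow hpp).mp hord
    have hkne : k ≠ 2 := by
      intro h2
      rw [h2, ← hQcard] at hk
      have hcyc : IsCyclic (G ⧸ Subgroup.center G) := isCyclic_of_orderOf_eq_card _ hk
      have hcomm : ∀ a b : G, a * b = b * a :=
        (MonoidHom.isMulCommutative_of_isCyclic_of_ker_le_center
          (QuotientGroup.mk' (Subgroup.center G)) (by rw [QuotientGroup.ker_mk'])).is_comm.comm
      apply hnot
      rw [eq_top_iff]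
      intro a _
      rw [Subgroup.mem_center_iff]
      intro b
      exact hcomm b a
    have hk1 : k ≤ 1 := by omega
    have hdvd : orderOf (QuotientGroup.mk v : G ⧸ Subgroup.center G) ∣ p := by
      rw [hk]
      calc p ^ k ∣ p ^ 1 := Nat.pow_dvd_pow p hk1
        _ = p := pow_one p
    exact orderOf_dvd_iff_pow_eq_one.mp hdvd
  -- elements of the centre have order dividing p^2
  have hZpow : ∀ z ∈ Subgroup.center G, z ^ (p ^ 2) = 1 := by
    intro z hz
    have : (⟨z, hz⟩ : Subgroup.center G) ^ (p ^ 2) = 1 := by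
      rw [← hZ]; exact pow_card_eq_one'
    exact congrArg Subtype.val this
  -- the (p^2)-th power map is multiplicative
  have hmul : ∀ u v : G, (u * v) ^ (p ^ 2) = u ^ (p ^ 2) * v ^ (p ^ 2) := by
    intro u v
    set m := u⁻¹ * v * u * v⁻¹ with hm
    have hmZ : m ∈ Subgroup.center G := by
      have := hc u⁻¹ v
      rwa [inv_inv] at this
    have hmc : ∀ g : G, g * m = m * g := Subgroup.mem_center_iff.mp hmZ
    have h1 : v * u * v⁻¹ = u * m := by rw [hm]; group
    have h2 : v * m * v⁻¹ = m := by rw [hmc v]; group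
    have h3 : u * m = m * u := hmc u
    have hmp : m ^ p = 1 := by
      have hup := Subgroup.mem_center_iff.mp (hpow u)
      have e1 : v * u ^ p * v⁻¹ = (u * m) ^ p := by
        rw [← h1, conj_pow]
      have e2 : (u * m) ^ p = u ^ p * m ^ p := (show Commute u m from h3).mul_pow p
      have e3 : v * u ^ p * v⁻¹ = u ^ p := by rw [hup v]; group
      rw [e3, e2] at e1
      exact (mul_eq_left.mp e1.symm)
    have hch : m ^ ((p ^ 2).choose 2) = 1 := by
      have hd : p ∣ (p ^ 2).choose 2 := by
        apply hpp.dvd_choose_pow (by norm_num)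
        intro h
        have h4 : 4 ≤ p ^ 2 := by nlinarith
        omega
      obtain ⟨t, ht⟩ := hd
      rw [ht, pow_mul, hmp, one_pow]
    have := Cfsg.Agent.Lib.H26.MetaPow.mul_pow_transv h1 h2 h3 (p ^ 2)
    rw [this, hch, mul_one]
  let f : G →* G := MonoidHom.mk' (fun x => x ^ (p ^ 2)) hmul
  have hf : ∀ x, f x = x ^ (p ^ 2) := fun _ => rfl
  by_cases htriv : ∀ x : G, x ^ (p ^ 2) = 1
  · exact Or.inl htriv
  right
  -- the image of f lies in the cyclic group generated by `g ^ p`, `g` a generator of the centre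
  obtain ⟨g, hg⟩ := hZc.exists_generator
  have hrange_le : f.range ≤ Subgroup.zpowers ((g : G) ^ p) := by
    rintro y ⟨x, rfl⟩
    rw [hf]
    obtain ⟨k, hk⟩ := Subgroup.mem_zpowers_iff.mp (hg ⟨x ^ p, hpow x⟩)
    have hk' : (g : G) ^ k = x ^ p := by
      have := congrArg Subtype.val hk
      simpa using this
    rw [Subgroup.mem_zpowers_iff]
    refine ⟨k, ?_⟩
    rw [pow_two, pow_mul, ← hk', ← zpow_natCast, ← zpow_natCast, ← zpow_mul, ← zpow_mul, mul_comm]
  have hrange_card : Nat.card f.range = p := by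
    have hd : Nat.card f.range ∣ p := by
      have h1 := Subgroup.card_dvd_of_le hrange_le
      rw [Nat.card_zpowers] at h1
      refine h1.trans (orderOf_dvd_of_pow_eq_one ?_)
      rw [← pow_mul, ← pow_two]
      exact hZpow _ g.2
    rcases (Nat.dvd_prime hpp).mp hd with h1 | h1
    · exfalso
      apply htriv
      intro x
      have hbot : f.range = ⊥ := Subgroup.card_eq_one.mp h1
      have : f x ∈ f.range := ⟨x, rfl⟩
      rw [hbot, Subgroup.mem_bot, hf] at this
      exact this
    · exact h1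
  have hker_card : Nat.card f.ker = p ^ 3 := by
    have h := Subgroup.card_mul_index f.ker
    rw [Subgroup.index_ker, hrange_card, hcard] at h
    have : Nat.card f.ker * p = p ^ 3 * p := by rw [h]; ring
    exact Nat.eq_of_mul_eq_mul_right hp0 this
  refine ⟨f.range, Subgroup.center G, f.ker, ?_, ?_, hrange_card, hZ, hker_card, ?_, ?_, ?_⟩
  · rintro y ⟨x, rfl⟩
    rw [hf, pow_two, pow_mul]
    exact (Subgroup.center G).pow_mem (hpow x) p
  · intro z hz
    rw [MonoidHom.mem_ker, hf]
    exact hZpow z hz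
  · rintro α y ⟨x, rfl⟩
    refine ⟨α x, ?_⟩
    rw [hf, hf, map_pow]
  · intro α x hx; exact char_map_mem _ α hx
  · intro α x hx
    rw [MonoidHom.mem_ker, hf] at hx ⊢
    rw [← map_pow, hx, map_one]

end Cfsg.Agent.Lib.H29.Ess
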