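import Mathlib

/-!
helper29: S4415, FRONT piece F4 (the eigenlines of the four-group `Q` on `E`).

Elementary proof with explicit vectors: no ranks, no dimension theory beyond counting `27 = 3 ^ 3`.
Notation: `N w = ρ b w - w`; `P0 .. P3` are the four projections `1 ± x₁ ± x₂ ± x₃`
(no division: `4 = 1` in `ZMod 3`).
-/

set_option autoImplicit false

namespace Cfsg.Agent.Lib.H29.S4415F4

variable {S E : Type*} [Group S] [AddCommGroup E] [Module (ZMod 3) E]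

theorem three_nsmul_zero (v : E) : (3 : ℕ) • v = 0 := by
  rw [← Nat.cast_smul_eq_nsmul (ZMod 3) 3 v]
  have : ((3 : ℕ) : ZMod 3) = 0 := by decide
  rw [this, zero_smul]

theorem rho_mul (ρ : Representation (ZMod 3) S E) (g h : S) (v : E) :
    ρ (g * h) v = ρ g (ρ h v) := by
  rw [map_mul]; rfl

theorem rho_one (ρ : Representation (ZMod 3) S E) (v : E) : ρ 1 v = v := by
  rw [map_one]; rfl

/-! ### Part A: the Jordan data of `b` -/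

section Jordan

variable (ρ : Representation (ZMod 3) S E) (b : S)

/-- `N = ρ b - 1`. -/
def Nb : E →ₗ[ZMod 3] E := ρ b - 1

theorem Nb_apply (w : E) : Nb ρ b w = ρ b w - w := rfl

theorem jordan_data [Finite E] (hbbb : ∀ v, ρ b (ρ b (ρ b v)) = v)
    (E₀ E₁ : Submodule (ZMod 3) E) (hE01' : E₀ ⊔ E₁ = ⊤)
    (hE1 : ∀ v ∈ E₁, ρ b v = v) (hE0inv : ∀ v ∈ E₀, ρ b v ∈ E₀) (hE0 : Nat.card ↥E₀ = 27)
    (hind : ∃ v ∈ E₀, ρ b (ρ b v - v) - (ρ b v - v) ≠ 0) :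
    ∃ n1 n2 : E, n2 ≠ 0 ∧ ∀ w : E, ∃ α β : ZMod 3,
      ρ b w - w = α • n1 + β • n2 ∧ ρ b (ρ b w - w) - (ρ b w - w) = α • n2 := by
  obtain ⟨v, hv0, hv⟩ := hind
  set n1 : E := ρ b v - v with hn1def
  set n2 : E := ρ b n1 - n1 with hn2def
  have hn1 : n1 ∈ E₀ := E₀.sub_mem (hE0inv v hv0) hv0
  have hn2 : n2 ∈ E₀ := E₀.sub_mem (hE0inv n1 hn1) hn1
  have hNv : Nb ρ b v = n1 := rfl
  have hNn1 : Nb ρ b n1 = n2 := rfl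
  have hNn2 : Nb ρ b n2 = 0 := by
    rw [Nb_apply, hn2def, hn1def]
    simp only [map_sub, hbbb]
    linear_combination (norm := module)
      three_nsmul_zero (ρ b v) - three_nsmul_zero (ρ b (ρ b v))
  -- independence
  have hindep : ∀ α β γ : ZMod 3, α • v + β • n1 + γ • n2 = 0 → α = 0 ∧ β = 0 ∧ γ = 0 := by
    intro α β γ h
    have h1 := congrArg (Nb ρ b) h
    simp only [map_add, map_smul, map_zero, hNv, hNn1, hNn2, smul_zero, add_zero] at h1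
    have h2 := congrArg (Nb ρ b) h1
    simp only [map_add, map_smul, map_zero, hNn1, hNn2, smul_zero, add_zero] at h2
    have hα : α = 0 := (smul_eq_zero.1 h2).resolve_right hv
    subst hα
    simp only [zero_smul, zero_add] at h1 h
    have hβ : β = 0 := (smul_eq_zero.1 h1).resolve_right hv
    subst hβ
    simp only [zero_smul, zero_add] at h
    exact ⟨rfl, rfl, (smul_eq_zero.1 h).resolve_right hv⟩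
  -- the coordinate map onto `E₀`
  let φ : ZMod 3 × ZMod 3 × ZMod 3 → ↥E₀ := fun a =>
    ⟨a.1 • v + a.2.1 • n1 + a.2.2 • n2,
      E₀.add_mem (E₀.add_mem (E₀.smul_mem _ hv0) (E₀.smul_mem _ hn1)) (E₀.smul_mem _ hn2)⟩
  have hφinj : Function.Injective φ := by
    intro a a' h
    have h' : a.1 • v + a.2.1 • n1 + a.2.2 • n2 = a'.1 • v + a'.2.1 • n1 + a'.2.2 • n2 :=
      congrArg Subtype.val h
    have h0 : (a.1 - a'.1) • v + (a.2.1 - a'.2.1) • n1 + (a.2.2 - a'.2.2) • n2 = 0 := by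
      linear_combination (norm := module) h'
    obtain ⟨e1, e2, e3⟩ := hindep _ _ _ h0
    exact Prod.ext (sub_eq_zero.1 e1) (Prod.ext (sub_eq_zero.1 e2) (sub_eq_zero.1 e3))
  have hφbij : Function.Bijective φ := by
    apply hφinj.bijective_of_nat_card_le
    rw [hE0]
    simp [Nat.card_eq_fintype_card, Fintype.card_prod, ZMod.card]
  refine ⟨n1, n2, hv, fun w => ?_⟩
  obtain ⟨w₀, hw₀, w₁, hw₁, hw01⟩ :=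
    Submodule.mem_sup.1 (hE01' ▸ (Submodule.mem_top : w ∈ (⊤ : Submodule (ZMod 3) E)))
  obtain ⟨⟨α, β, γ⟩, ha⟩ := hφbij.2 ⟨w₀, hw₀⟩
  have hw0eq : w₀ = α • v + β • n1 + γ • n2 := (congrArg Subtype.val ha).symm
  have hNw1 : Nb ρ b w₁ = 0 := by rw [Nb_apply, hE1 w₁ hw₁, sub_self]
  have hw : Nb ρ b w = α • n1 + β • n2 := by
    rw [← hw01, map_add, hw0eq, map_add, map_add, map_smul, map_smul, map_smul, hNv, hNn1, hNn2,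
      hNw1, smul_zero, add_zero, add_zero]
  refine ⟨α, β, hw, ?_⟩
  show Nb ρ b (Nb ρ b w) = α • n2
  rw [hw, map_add, map_smul, map_smul, hNn1, hNn2, smul_zero, add_zero]

end Jordan

/-! ### Part B: the four-group -/

section Qpart

variable (ρ : Representation (ZMod 3) S E) (b x₁ x₂ x₃ : S)

/-- The relations of `⟨x₁, x₂, x₃⟩⟨b⟩` read on `E`. -/
structure QRel : Prop where
  x11 : ∀ v, ρ x₁ (ρ x₁ v) = v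
  x22 : ∀ v, ρ x₂ (ρ x₂ v) = v
  x33 : ∀ v, ρ x₃ (ρ x₃ v) = v
  x12 : ∀ v, ρ x₁ (ρ x₂ v) = ρ x₃ v
  x21 : ∀ v, ρ x₂ (ρ x₁ v) = ρ x₃ v
  x13 : ∀ v, ρ x₁ (ρ x₃ v) = ρ x₂ v
  x31 : ∀ v, ρ x₃ (ρ x₁ v) = ρ x₂ v
  x23 : ∀ v, ρ x₂ (ρ x₃ v) = ρ x₁ v
  x32 : ∀ v, ρ x₃ (ρ x₂ v) = ρ x₁ v
  bx1 : ∀ v, ρ b (ρ x₁ v) = ρ x₂ (ρ b v)
  bx2 : ∀ v, ρ b (ρ x₂ v) = ρ x₃ (ρ b v)
  bx3 : ∀ v, ρ b (ρ x₃ v) = ρ x₁ (ρ b v)
  bbb : ∀ v, ρ b (ρ b (ρ b v)) = v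

variable {b x₁ x₂ x₃}

theorem qrel_of (hb3 : b ^ 3 = 1)
    (hx1 : x₁ * x₁ = 1) (hx2 : x₂ * x₂ = 1) (hx12 : x₁ * x₂ = x₃) (hx21 : x₂ * x₁ = x₃)
    (hbx1 : b * x₁ * b⁻¹ = x₂) (hbx2 : b * x₂ * b⁻¹ = x₃) (hbx3 : b * x₃ * b⁻¹ = x₁) :
    QRel ρ b x₁ x₂ x₃ := by
  have h33 : x₃ * x₃ = 1 := by
    calc x₃ * x₃ = (x₁ * x₂) * (x₂ * x₁) := by rw [hx12, hx21]
      _ = x₁ * (x₂ * x₂) * x₁ := by group
      _ = 1 := by rw [hx2, mul_one, hx1]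
  have h13 : x₁ * x₃ = x₂ := by rw [← hx12, ← mul_assoc, hx1, one_mul]
  have h31 : x₃ * x₁ = x₂ := by rw [← hx21, mul_assoc, hx1, mul_one]
  have h23 : x₂ * x₃ = x₁ := by rw [← hx21, ← mul_assoc, hx2, one_mul]
  have h32 : x₃ * x₂ = x₁ := by rw [← hx12, mul_assoc, hx2, mul_one]
  have hb1 : b * x₁ = x₂ * b := by rw [← hbx1]; group
  have hb2 : b * x₂ = x₃ * b := by rw [← hbx2]; group
  have hb3' : b * x₃ = x₁ * b := by rw [← hbx3]; group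
  refine ⟨?_, ?_, ?_, ?_, ?_, ?_, ?_, ?_, ?_, ?_, ?_, ?_, ?_⟩
  · intro v; rw [← rho_mul, hx1, rho_one]
  · intro v; rw [← rho_mul, hx2, rho_one]
  · intro v; rw [← rho_mul, h33, rho_one]
  · intro v; rw [← rho_mul, hx12]
  · intro v; rw [← rho_mul, hx21]
  · intro v; rw [← rho_mul, h13]
  · intro v; rw [← rho_mul, h31]
  · intro v; rw [← rho_mul, h23]
  · intro v; rw [← rho_mul, h32]
  · intro v; rw [← rho_mul, ← rho_mul, hb1]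
  · intro v; rw [← rho_mul, ← rho_mul, hb2]
  · intro v; rw [← rho_mul, ← rho_mul, hb3']
  · intro v; rw [← rho_mul, ← rho_mul, ← pow_three', hb3, rho_one]

variable (x₁ x₂ x₃)

/-- The projection on `C_E(Q)` (`4 = 1` in `ZMod 3`). -/
def P0 : E →ₗ[ZMod 3] E := 1 + ρ x₁ + ρ x₂ + ρ x₃
/-- The projection on the eigenspace `(+,-,-)`. -/
def P1 : E →ₗ[ZMod 3] E := 1 + ρ x₁ - ρ x₂ - ρ x₃
/-- The projection on the eigenspace `(-,+,-)`. -/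
def P2 : E →ₗ[ZMod 3] E := 1 - ρ x₁ + ρ x₂ - ρ x₃
/-- The projection on the eigenspace `(-,-,+)`. -/
def P3 : E →ₗ[ZMod 3] E := 1 - ρ x₁ - ρ x₂ + ρ x₃

theorem P0_apply (w : E) : P0 ρ x₁ x₂ x₃ w = w + ρ x₁ w + ρ x₂ w + ρ x₃ w := rfl
theorem P1_apply (w : E) : P1 ρ x₁ x₂ x₃ w = w + ρ x₁ w - ρ x₂ w - ρ x₃ w := rfl
theorem P2_apply (w : E) : P2 ρ x₁ x₂ x₃ w = w - ρ x₁ w + ρ x₂ w - ρ x₃ w := rfl
theorem P3_apply (w : E) : P3 ρ x₁ x₂ x₃ w = w - ρ x₁ w - ρ x₂ w + ρ x₃ w := rfl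

/-- membership in `C_E(Q)` -/
def InC (u : E) : Prop := ρ x₁ u = u ∧ ρ x₂ u = u ∧ ρ x₃ u = u
/-- membership in the eigenspace `(+,-,-)` -/
def InL1 (u : E) : Prop := ρ x₁ u = u ∧ ρ x₂ u = -u ∧ ρ x₃ u = -u
/-- membership in the eigenspace `(-,+,-)` -/
def InL2 (u : E) : Prop := ρ x₁ u = -u ∧ ρ x₂ u = u ∧ ρ x₃ u = -u
/-- membership in the eigenspace `(-,-,+)` -/
def InL3 (u : E) : Prop := ρ x₁ u = -u ∧ ρ x₂ u = -u ∧ ρ x₃ u = u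

variable {x₁ x₂ x₃}

theorem sum_P (w : E) :
    w = P0 ρ x₁ x₂ x₃ w + P1 ρ x₁ x₂ x₃ w + P2 ρ x₁ x₂ x₃ w + P3 ρ x₁ x₂ x₃ w := by
  simp only [P0_apply, P1_apply, P2_apply, P3_apply]
  linear_combination (norm := module) -three_nsmul_zero w

variable (h : QRel ρ b x₁ x₂ x₃)
include h

theorem P0_mem (w : E) : InC ρ x₁ x₂ x₃ (P0 ρ x₁ x₂ x₃ w) := by
  refine ⟨?_, ?_, ?_⟩ <;>
  · simp only [P0_apply, map_add, h.x11, h.x22, h.x33, h.x12, h.x21, h.x13, h.x31, h.x23, h.x32]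
    abel

theorem P1_mem (w : E) : InL1 ρ x₁ x₂ x₃ (P1 ρ x₁ x₂ x₃ w) := by
  refine ⟨?_, ?_, ?_⟩ <;>
  · simp only [P1_apply, map_add, map_sub, h.x11, h.x22, h.x33, h.x12, h.x21, h.x13, h.x31,
      h.x23, h.x32]
    abel

theorem P2_mem (w : E) : InL2 ρ x₁ x₂ x₃ (P2 ρ x₁ x₂ x₃ w) := by
  refine ⟨?_, ?_, ?_⟩ <;>
  · simp only [P2_apply, map_add, map_sub, h.x11, h.x22, h.x33, h.x12, h.x21, h.x13, h.x31,
      h.x23, h.x32]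
    abel

theorem P3_mem (w : E) : InL3 ρ x₁ x₂ x₃ (P3 ρ x₁ x₂ x₃ w) := by
  refine ⟨?_, ?_, ?_⟩ <;>
  · simp only [P3_apply, map_add, map_sub, h.x11, h.x22, h.x33, h.x12, h.x21, h.x13, h.x31,
      h.x23, h.x32]
    abel

theorem b_C {u : E} (hu : InC ρ x₁ x₂ x₃ u) : InC ρ x₁ x₂ x₃ (ρ b u) :=
  ⟨by rw [← h.bx3, hu.2.2], by rw [← h.bx1, hu.1], by rw [← h.bx2, hu.2.1]⟩

theorem b_L1 {u : E} (hu : InL1 ρ x₁ x₂ x₃ u) : InL2 ρ x₁ x₂ x₃ (ρ b u) :=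
  ⟨by rw [← h.bx3, hu.2.2, map_neg], by rw [← h.bx1, hu.1], by rw [← h.bx2, hu.2.1, map_neg]⟩

theorem b_L2 {u : E} (hu : InL2 ρ x₁ x₂ x₃ u) : InL3 ρ x₁ x₂ x₃ (ρ b u) :=
  ⟨by rw [← h.bx3, hu.2.2, map_neg], by rw [← h.bx1, hu.1, map_neg], by rw [← h.bx2, hu.2.1]⟩

theorem b_L3 {u : E} (hu : InL3 ρ x₁ x₂ x₃ u) : InL1 ρ x₁ x₂ x₃ (ρ b u) :=
  ⟨by rw [← h.bx3, hu.2.2], by rw [← h.bx1, hu.1, map_neg], by rw [← h.bx2, hu.2.1, map_neg]⟩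

omit h in
theorem P1_L1 {u : E} (hu : InL1 ρ x₁ x₂ x₃ u) : P1 ρ x₁ x₂ x₃ u = u := by
  rw [P1_apply, hu.1, hu.2.1, hu.2.2]
  linear_combination (norm := module) three_nsmul_zero u

omit h in
theorem P1_L2 {u : E} (hu : InL2 ρ x₁ x₂ x₃ u) : P1 ρ x₁ x₂ x₃ u = 0 := by
  rw [P1_apply, hu.1, hu.2.1, hu.2.2]; abel

omit h in
theorem P1_L3 {u : E} (hu : InL3 ρ x₁ x₂ x₃ u) : P1 ρ x₁ x₂ x₃ u = 0 := by
  rw [P1_apply, hu.1, hu.2.1, hu.2.2]; abel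

omit h in
theorem P0_C {u : E} (hu : InC ρ x₁ x₂ x₃ u) : P0 ρ x₁ x₂ x₃ u = u := by
  rw [P0_apply, hu.1, hu.2.1, hu.2.2]
  linear_combination (norm := module) three_nsmul_zero u

omit h in
theorem P0_L1 {u : E} (hu : InL1 ρ x₁ x₂ x₃ u) : P0 ρ x₁ x₂ x₃ u = 0 := by
  rw [P0_apply, hu.1, hu.2.1, hu.2.2]; abel

omit h in
theorem P0_L2 {u : E} (hu : InL2 ρ x₁ x₂ x₃ u) : P0 ρ x₁ x₂ x₃ u = 0 := by
  rw [P0_apply, hu.1, hu.2.1, hu.2.2]; abel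

omit h in
theorem P0_L3 {u : E} (hu : InL3 ρ x₁ x₂ x₃ u) : P0 ρ x₁ x₂ x₃ u = 0 := by
  rw [P0_apply, hu.1, hu.2.1, hu.2.2]; abel

omit h in
theorem InC_sub {u u' : E} (hu : InC ρ x₁ x₂ x₃ u) (hu' : InC ρ x₁ x₂ x₃ u') :
    InC ρ x₁ x₂ x₃ (u - u') :=
  ⟨by rw [map_sub, hu.1, hu'.1], by rw [map_sub, hu.2.1, hu'.2.1], by rw [map_sub, hu.2.2, hu'.2.2]⟩

omit h in
/-- `N² u = u + b u + b² u` in characteristic `3`. -/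
theorem NN_eq (u : E) :
    ρ b (ρ b u - u) - (ρ b u - u) = u + ρ b u + ρ b (ρ b u) := by
  rw [map_sub]
  linear_combination (norm := module) -three_nsmul_zero (ρ b u)

/-- The core of F4, from the relations and the Jordan data. -/
theorem front4_rel (hx1ne : ∃ v : E, ρ x₁ v ≠ v)
    (n1 n2 : E) (hn2 : n2 ≠ 0)
    (hJ : ∀ w : E, ∃ α β : ZMod 3,
      ρ b w - w = α • n1 + β • n2 ∧ ρ b (ρ b w - w) - (ρ b w - w) = α • n2) :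
    ∃ e₁ e₂ e₃ : E, e₁ ≠ 0 ∧ ρ b e₁ = e₂ ∧ ρ b e₂ = e₃ ∧ ρ b e₃ = e₁ ∧
      InL1 ρ x₁ x₂ x₃ e₁ ∧ InL2 ρ x₁ x₂ x₃ e₂ ∧ InL3 ρ x₁ x₂ x₃ e₃ ∧
      (∀ w : E, ∃ c₁ c₂ c₃ : ZMod 3, w = P0 ρ x₁ x₂ x₃ w + c₁ • e₁ + c₂ • e₂ + c₃ • e₃) ∧
      (∀ u : E, InC ρ x₁ x₂ x₃ u → ρ b u = u) := by
  set e₁ : E := P1 ρ x₁ x₂ x₃ n2 with he₁def
  have he₁L : InL1 ρ x₁ x₂ x₃ e₁ := P1_mem ρ h n2
  have he₂L : InL2 ρ x₁ x₂ x₃ (ρ b e₁) := b_L1 ρ h he₁L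
  have he₃L : InL3 ρ x₁ x₂ x₃ (ρ b (ρ b e₁)) := b_L2 ρ h he₂L
  -- the 3-cycle lemma: `L₁` is the line through `e₁`
  have hline : ∀ u : E, InL1 ρ x₁ x₂ x₃ u → ∃ α : ZMod 3, u = α • e₁ := by
    intro u hu
    obtain ⟨α, β, _, hNN⟩ := hJ u
    refine ⟨α, ?_⟩
    calc u = P1 ρ x₁ x₂ x₃ u + P1 ρ x₁ x₂ x₃ (ρ b u) + P1 ρ x₁ x₂ x₃ (ρ b (ρ b u)) := by
          rw [P1_L1 ρ hu, P1_L2 ρ (b_L1 ρ h hu), P1_L3 ρ (b_L2 ρ h (b_L1 ρ h hu)), add_zero,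
            add_zero]
      _ = P1 ρ x₁ x₂ x₃ (u + ρ b u + ρ b (ρ b u)) := by rw [map_add, map_add]
      _ = P1 ρ x₁ x₂ x₃ (α • n2) := by rw [← NN_eq ρ u, hNN]
      _ = α • e₁ := by rw [map_smul]
  -- `e₁ ≠ 0`
  have he₁ne : e₁ ≠ 0 := by
    intro h0
    have hL1 : ∀ u : E, InL1 ρ x₁ x₂ x₃ u → u = 0 := by
      intro u hu
      obtain ⟨α, hα⟩ := hline u hu
      rw [hα, h0, smul_zero]
    have hL2 : ∀ u : E, InL2 ρ x₁ x₂ x₃ u → u = 0 := by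
      intro u hu
      have h1 := hL1 _ (b_L3 ρ h (b_L2 ρ h hu))
      have h2 := h.bbb u
      rw [h1, map_zero] at h2
      exact h2.symm
    have hL3 : ∀ u : E, InL3 ρ x₁ x₂ x₃ u → u = 0 := by
      intro u hu
      have h1 := hL1 _ (b_L3 ρ h hu)
      have h2 := h.bbb u
      rw [h1, map_zero, map_zero] at h2
      exact h2.symm
    obtain ⟨v, hv⟩ := hx1ne
    apply hv
    have hsum := sum_P ρ (x₁ := x₁) (x₂ := x₂) (x₃ := x₃) v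
    rw [hL1 _ (P1_mem ρ h v), hL2 _ (P2_mem ρ h v), hL3 _ (P3_mem ρ h v), add_zero, add_zero,
      add_zero] at hsum
    rw [hsum]
    exact (P0_mem ρ h v).1
  -- `P0 n2 = 0`
  have hP0n2 : P0 ρ x₁ x₂ x₃ n2 = 0 := by
    obtain ⟨γ, δ, _, hNNe⟩ := hJ e₁
    rw [NN_eq ρ e₁] at hNNe
    have hγ : γ ≠ 0 := by
      intro hγ0
      rw [hγ0, zero_smul] at hNNe
      have := congrArg (P1 ρ x₁ x₂ x₃) hNNe
      rw [map_add, map_add, P1_L1 ρ he₁L, P1_L2 ρ he₂L, P1_L3 ρ he₃L, add_zero, add_zero,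
        map_zero] at this
      exact he₁ne this
    have := congrArg (P0 ρ x₁ x₂ x₃) hNNe
    rw [map_add, map_add, P0_L1 ρ he₁L, P0_L2 ρ he₂L, P0_L3 ρ he₃L, add_zero, add_zero,
      map_smul] at this
    exact (smul_eq_zero.1 this.symm).resolve_left hγ
  refine ⟨e₁, ρ b e₁, ρ b (ρ b e₁), he₁ne, rfl, rfl, h.bbb e₁, he₁L, he₂L, he₃L, ?_, ?_⟩
  · intro w
    obtain ⟨c₁, hc₁⟩ := hline _ (P1_mem ρ h w)
    obtain ⟨c₂, hc₂⟩ := hline _ (b_L3 ρ h (b_L2 ρ h (P2_mem ρ h w)))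
    obtain ⟨c₃, hc₃⟩ := hline _ (b_L3 ρ h (P3_mem ρ h w))
    refine ⟨c₁, c₂, c₃, ?_⟩
    have h2 : P2 ρ x₁ x₂ x₃ w = c₂ • ρ b e₁ := by
      have := h.bbb (P2 ρ x₁ x₂ x₃ w)
      rw [hc₂, map_smul] at this
      exact this.symm
    have h3 : P3 ρ x₁ x₂ x₃ w = c₃ • ρ b (ρ b e₁) := by
      have := h.bbb (P3 ρ x₁ x₂ x₃ w)
      rw [hc₃, map_smul, map_smul] at this
      exact this.symm
    have hsum := sum_P ρ (x₁ := x₁) (x₂ := x₂) (x₃ := x₃) w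
    rw [hc₁, h2, h3] at hsum
    exact hsum
  · intro u hu
    obtain ⟨α, β, hN, hNN⟩ := hJ u
    have hm : InC ρ x₁ x₂ x₃ (ρ b u - u) := InC_sub ρ (b_C ρ h hu) hu
    have hmm : InC ρ x₁ x₂ x₃ (ρ b (ρ b u - u) - (ρ b u - u)) := InC_sub ρ (b_C ρ h hm) hm
    have hNN0 : ρ b (ρ b u - u) - (ρ b u - u) = 0 := by
      rw [← P0_C ρ hmm, hNN, map_smul, hP0n2, smul_zero]
    have hα : α = 0 := by
      rw [hNN0] at hNN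
      exact (smul_eq_zero.1 hNN.symm).resolve_right hn2
    have hm0 : ρ b u - u = 0 := by
      rw [← P0_C ρ hm, hN, hα, zero_smul, zero_add, map_smul, hP0n2, smul_zero]
    exact sub_eq_zero.1 hm0

end Qpart

/-! ### The piece F4 -/

/-- **F4**: the eigenlines of the four-group `⟨x₁, x₂⟩` on `E`, cycled by `b`; the explicit
`Q`-fixed component `w + x₁ w + x₂ w + x₃ w` of `w` (no division: `4 = 1`) is fixed by `b`. -/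
theorem front4 [Finite E] (ρ : Representation (ZMod 3) S E) (b x₁ x₂ x₃ : S)
    (hb3 : b ^ 3 = 1)
    (hx1 : x₁ * x₁ = 1) (hx2 : x₂ * x₂ = 1) (hx12 : x₁ * x₂ = x₃) (hx21 : x₂ * x₁ = x₃)
    (hbx1 : b * x₁ * b⁻¹ = x₂) (hbx2 : b * x₂ * b⁻¹ = x₃) (hbx3 : b * x₃ * b⁻¹ = x₁)
    (hx1ne : ∃ v : E, ρ x₁ v ≠ v)
    (E₀ E₁ : Submodule (ZMod 3) E) (_hE01 : E₀ ⊓ E₁ = ⊥) (hE01' : E₀ ⊔ E₁ = ⊤)
    (hE1 : ∀ v ∈ E₁, ρ b v = v) (hE0inv : ∀ v ∈ E₀, ρ b v ∈ E₀) (hE0 : Nat.card ↥E₀ = 27)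
    (hind : ∃ v ∈ E₀, ρ b (ρ b v - v) - (ρ b v - v) ≠ 0) :
    ∃ e₁ e₂ e₃ : E, e₁ ≠ 0 ∧ ρ b e₁ = e₂ ∧ ρ b e₂ = e₃ ∧ ρ b e₃ = e₁ ∧
      ρ x₁ e₁ = e₁ ∧ ρ x₁ e₂ = -e₂ ∧ ρ x₁ e₃ = -e₃ ∧
      ρ x₂ e₁ = -e₁ ∧ ρ x₂ e₂ = e₂ ∧ ρ x₂ e₃ = -e₃ ∧
      ρ x₃ e₁ = -e₁ ∧ ρ x₃ e₂ = -e₂ ∧ ρ x₃ e₃ = e₃ ∧
      (∀ w : E, ∃ c₁ c₂ c₃ : ZMod 3,
        w = (w + ρ x₁ w + ρ x₂ w + ρ x₃ w) + c₁ • e₁ + c₂ • e₂ + c₃ • e₃) ∧
      (∀ w : E, ρ x₁ (w + ρ x₁ w + ρ x₂ w + ρ x₃ w) = w + ρ x₁ w + ρ x₂ w + ρ x₃ w ∧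
        ρ x₂ (w + ρ x₁ w + ρ x₂ w + ρ x₃ w) = w + ρ x₁ w + ρ x₂ w + ρ x₃ w ∧
        ρ x₃ (w + ρ x₁ w + ρ x₂ w + ρ x₃ w) = w + ρ x₁ w + ρ x₂ w + ρ x₃ w ∧
        ρ b (w + ρ x₁ w + ρ x₂ w + ρ x₃ w) = w + ρ x₁ w + ρ x₂ w + ρ x₃ w) ∧
      (∀ u : E, ρ x₁ u = u → ρ x₂ u = u → ρ b u = u) := by
  have h : QRel ρ b x₁ x₂ x₃ := qrel_of ρ hb3 hx1 hx2 hx12 hx21 hbx1 hbx2 hbx3
  obtain ⟨n1, n2, hn2, hJ⟩ := jordan_data ρ b h.bbb E₀ E₁ hE01' hE1 hE0inv hE0 hind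
  obtain ⟨e₁, e₂, e₃, hne, hb1, hb2, hb3', hL1, hL2, hL3, hdec, hC⟩ :=
    front4_rel ρ h hx1ne n1 n2 hn2 hJ
  refine ⟨e₁, e₂, e₃, hne, hb1, hb2, hb3', hL1.1, hL2.1, hL3.1, hL1.2.1, hL2.2.1, hL3.2.1,
    hL1.2.2, hL2.2.2, hL3.2.2, hdec, ?_, ?_⟩
  · intro w
    have hw := P0_mem ρ h w
    exact ⟨hw.1, hw.2.1, hw.2.2, hC _ hw⟩
  · intro u hu1 hu2
    refine hC u ⟨hu1, hu2, ?_⟩
    rw [← h.x12, hu2, hu1]

end Cfsg.Agent.Lib.H29.S4415F4
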