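import Cfsg.Agent.Lib.H15.UP2Base

/-!
# SU3-frame_normal_form (helper29, for helper27's S5778): a non-degenerate orthogonal frame of lines of the unitary
space `F^n` is the image of the standard frame under an element of `GU_n(q)`.
-/

set_option autoImplicit false

namespace Cfsg.Agent.Lib.H29.SU3

open Cfsg Cfsg.Geo Cfsg.Agent.Lib.H15.SUGen Cfsg.Agent.Lib.H15.UP2 Cfsg.Agent.Lib.H4
open scoped MatrixGroups Matrix

variable {F : Type*} [Field F] [Fintype F] {n q : ℕ}

/-- a matrix whose columns are orthonormal for the hermitian form preserves the form -/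
theorem herm_mulVec_of_gram (hF : Fintype.card F = q ^ 2) (M : Matrix (Fin n) (Fin n) F)
    (hM : ∀ i j, hermForm n F q (fun a => M a i) (fun a => M a j) = if i = j then 1 else 0)
    (u v : Fin n → F) : hermForm n F q (M *ᵥ u) (M *ᵥ v) = hermForm n F q u v := by
  obtain ⟨φ, hφ, -⟩ := exists_frob hF
  have hg : Mᵀ * φ.mapMatrix M = 1 := by
    ext i j
    rw [Matrix.mul_apply, Matrix.one_apply, ← hM i j]
    unfold hermForm
    refine Finset.sum_congr rfl fun a _ => ?_
    rw [Matrix.transpose_apply, RingHom.mapMatrix_apply, Matrix.map_apply, hφ]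
  have hd : ∀ x y : Fin n → F, hermForm n F q x y = x ⬝ᵥ (φ ∘ y) := by
    intro x y
    unfold hermForm dotProduct
    refine Finset.sum_congr rfl fun i _ => ?_
    rw [Function.comp_apply, hφ]
  rw [hd, hd]
  have h1 : φ ∘ (M *ᵥ v) = φ.mapMatrix M *ᵥ (φ ∘ v) := by
    ext i; exact (RingHom.map_mulVec φ M v i)
  have h2 : ∀ x : Fin n → F, (M *ᵥ u) ⬝ᵥ x = u ⬝ᵥ (Mᵀ *ᵥ x) := by
    intro x
    rw [dotProduct_comm, Matrix.dotProduct_mulVec, ← Matrix.mulVec_transpose, dotProduct_comm]
  rw [h1, h2, Matrix.mulVec_mulVec, hg, Matrix.one_mulVec]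

/-- an orthonormal family of `n` vectors gives an element of `GU_n(q)` with these columns -/
theorem exists_GU_of_orthonormal (hF : Fintype.card F = q ^ 2) (y : Fin n → (Fin n → F))
    (hy : ∀ i j, hermForm n F q (y i) (y j) = if i = j then 1 else 0) :
    ∃ P ∈ GU n F q, ∀ i, (P : Matrix (Fin n) (Fin n) F) *ᵥ Pi.single i 1 = y i := by
  obtain ⟨φ, hφ, -⟩ := exists_frob hF
  set M : Matrix (Fin n) (Fin n) F := Matrix.of fun a i => y i a with hMdef
  have hM : ∀ i j, hermForm n F q (fun a => M a i) (fun a => M a j) = if i = j then 1 else 0 := by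
    intro i j
    exact hy i j
  have hg : (φ.mapMatrix M)ᵀ * M = 1 := by
    have h0 : Mᵀ * φ.mapMatrix M = 1 := by
      ext i j
      rw [Matrix.mul_apply, Matrix.one_apply, ← hM i j]
      unfold hermForm
      refine Finset.sum_congr rfl fun a _ => ?_
      rw [Matrix.transpose_apply, RingHom.mapMatrix_apply, Matrix.map_apply, hφ]
    have := congrArg Matrix.transpose h0
    rwa [Matrix.transpose_mul, Matrix.transpose_transpose, Matrix.transpose_one] at this
  have hg' : M * (φ.mapMatrix M)ᵀ = 1 := mul_eq_one_comm.1 hg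
  refine ⟨⟨M, (φ.mapMatrix M)ᵀ, hg', hg⟩, ?_, ?_⟩
  · rw [mem_GU_iff]
    intro u v
    exact herm_mulVec_of_gram hF M hM u v
  · intro i
    ext a
    simp [hMdef]

/-- generic version of **SU3-frame_normal_form**, any dimension -/
theorem frame_normal_form_gen (hF : Fintype.card F = q ^ 2) (D : Fin n → Submodule F (Fin n → F))
    (hD : IsNondegenerateMDecomposition (hermForm n F q) 1 D) :
    ∃ P ∈ GU n F q, ∀ i, D i = Submodule.span F {(P : Matrix (Fin n) (Fin n) F) *ᵥ Pi.single i 1} := by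
  -- generators
  have hgen : ∀ i, ∃ x : Fin n → F, x ≠ 0 ∧ D i = Submodule.span F {x} := by
    intro i
    obtain ⟨v, hv0, hv⟩ := finrank_eq_one_iff'.1 (hD.decomp.finrank_eq i)
    refine ⟨v, fun h => hv0 (Subtype.ext h), ?_⟩
    apply le_antisymm
    · intro w hw
      obtain ⟨c, hc⟩ := hv ⟨w, hw⟩
      rw [Submodule.mem_span_singleton]
      exact ⟨c, by simpa using congrArg Subtype.val hc⟩
    · rw [Submodule.span_singleton_le_iff_mem]
      exact v.2
  choose x hx0 hxD using hgen
  have hxmem : ∀ i, x i ∈ D i := fun i => by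
    rw [hxD i]; exact Submodule.mem_span_singleton_self _
  -- norms
  have hβ : ∀ i, hermForm n F q (x i) (x i) ≠ 0 := by
    intro i
    obtain ⟨⟨w, hw, hne⟩, -⟩ := hD.nondegenerate i (x i) (hxmem i) (hx0 i)
    rw [hxD i, Submodule.mem_span_singleton] at hw
    obtain ⟨c, rfl⟩ := hw
    intro h0
    apply hne
    rw [hermForm_smul_left, h0, mul_zero]
  have hβq : ∀ i, ((hermForm n F q (x i) (x i))⁻¹) ^ q = (hermForm n F q (x i) (x i))⁻¹ := by
    intro i
    rw [inv_pow, hermForm_conj n hF]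
  choose κ hκ using fun i => exists_norm hF _ (hβq i)
  -- the orthonormal frame
  have hy : ∀ i j, hermForm n F q (κ i • x i) (κ j • x j) = if i = j then 1 else 0 := by
    intro i j
    rw [hermForm_smul_left, hermForm_smul_right]
    by_cases hij : i = j
    · subst hij
      rw [if_pos rfl, ← mul_assoc, hκ i, inv_mul_cancel₀ (hβ i)]
    · rw [if_neg hij, hD.orthogonal i j hij (x i) (hxmem i) (x j) (hxmem j), mul_zero, mul_zero]
  obtain ⟨P, hP, hPy⟩ := exists_GU_of_orthonormal hF (fun i => κ i • x i) hy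
  refine ⟨P, hP, fun i => ?_⟩
  have hκ0 : κ i ≠ 0 := by
    rintro h0
    have := hκ i
    rw [h0, zero_mul] at this
    exact inv_ne_zero (hβ i) this.symm
  rw [hPy i, hxD i]
  apply le_antisymm
  · rw [Submodule.span_singleton_le_iff_mem, Submodule.mem_span_singleton]
    exact ⟨(κ i)⁻¹, by rw [smul_smul, inv_mul_cancel₀ hκ0, one_smul]⟩
  · rw [Submodule.span_singleton_le_iff_mem, Submodule.mem_span_singleton]
    exact ⟨κ i, rfl⟩

/-- **SU3-frame_normal_form** -/
theorem frame_normal_form (hF : Fintype.card F = q ^ 2) (D : Fin 3 → Submodule F (Fin 3 → F))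
    (hD : IsNondegenerateMDecomposition (hermForm 3 F q) 1 D) :
    ∃ P ∈ GU 3 F q, ∀ i, D i = Submodule.span F {(P : Matrix (Fin 3) (Fin 3) F) *ᵥ Pi.single i 1} :=
  frame_normal_form_gen hF D hD

end Cfsg.Agent.Lib.H29.SU3
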