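import Mathlib
import Cfsg.Agent.Lib.H17.AGH13Defs
import Cfsg.Agent.Lib.H8.AGH13E4
import Cfsg.Agent.Lib.H29.AGH13S_4_5
import Cfsg.Agent.Lib.H29.AGH13S_4_6
import Cfsg.Agent.Lib.H29.AGH13S_4_7
import Cfsg.Agent.Lib.H29.AGH13S_4_8
import Cfsg.Agent.Lib.H29.AGH13S_4_9
import Cfsg.Agent.Lib.H29.AGH13S_4_10
import Cfsg.Agent.Lib.H29.AGH13S_4_11
import Cfsg.Agent.Lib.H29.AGH13S_4_12
import Cfsg.Agent.Lib.H29.AGH13S_5_4
import Cfsg.Agent.Lib.H29.AGH13S_5_6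
import Cfsg.Agent.Lib.H29.AGH13S_5_7
import Cfsg.Agent.Lib.H29.AGH13S_5_8
import Cfsg.Agent.Lib.H29.AGH13S_5_9
import Cfsg.Agent.Lib.H29.AGH13S_5_10
import Cfsg.Agent.Lib.H29.AGH13S_5_11
import Cfsg.Agent.Lib.H29.AGH13S_5_12
import Cfsg.Agent.Lib.H29.AGH13S_6_4
import Cfsg.Agent.Lib.H29.AGH13S_6_5
import Cfsg.Agent.Lib.H29.AGH13S_6_7
import Cfsg.Agent.Lib.H29.AGH13S_6_8
import Cfsg.Agent.Lib.H29.AGH13S_6_9
import Cfsg.Agent.Lib.H29.AGH13S_6_10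
import Cfsg.Agent.Lib.H29.AGH13S_6_11
import Cfsg.Agent.Lib.H29.AGH13S_6_12
import Cfsg.Agent.Lib.H29.AGH13S_7_4
import Cfsg.Agent.Lib.H29.AGH13S_7_5
import Cfsg.Agent.Lib.H29.AGH13S_7_6
import Cfsg.Agent.Lib.H29.AGH13S_7_8
import Cfsg.Agent.Lib.H29.AGH13S_7_9
import Cfsg.Agent.Lib.H29.AGH13S_7_10
import Cfsg.Agent.Lib.H29.AGH13S_7_11
import Cfsg.Agent.Lib.H29.AGH13S_7_12
import Cfsg.Agent.Lib.H29.AGH13S_8_4
import Cfsg.Agent.Lib.H29.AGH13S_8_5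
import Cfsg.Agent.Lib.H29.AGH13S_8_6
import Cfsg.Agent.Lib.H29.AGH13S_8_7
import Cfsg.Agent.Lib.H29.AGH13S_8_9
import Cfsg.Agent.Lib.H29.AGH13S_8_10
import Cfsg.Agent.Lib.H29.AGH13S_8_11
import Cfsg.Agent.Lib.H29.AGH13S_8_12
import Cfsg.Agent.Lib.H29.AGH13S_9_4
import Cfsg.Agent.Lib.H29.AGH13S_9_5
import Cfsg.Agent.Lib.H29.AGH13S_9_6
import Cfsg.Agent.Lib.H29.AGH13S_9_7
import Cfsg.Agent.Lib.H29.AGH13S_9_8
import Cfsg.Agent.Lib.H29.AGH13S_9_10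
import Cfsg.Agent.Lib.H29.AGH13S_9_11
import Cfsg.Agent.Lib.H29.AGH13S_9_12
import Cfsg.Agent.Lib.H29.AGH13S_10_4
import Cfsg.Agent.Lib.H29.AGH13S_10_5
import Cfsg.Agent.Lib.H29.AGH13S_10_6
import Cfsg.Agent.Lib.H29.AGH13S_10_7
import Cfsg.Agent.Lib.H29.AGH13S_10_8
import Cfsg.Agent.Lib.H29.AGH13S_10_9
import Cfsg.Agent.Lib.H29.AGH13S_10_11
import Cfsg.Agent.Lib.H29.AGH13S_10_12
import Cfsg.Agent.Lib.H29.AGH13S_11_4
import Cfsg.Agent.Lib.H29.AGH13S_11_5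
import Cfsg.Agent.Lib.H29.AGH13S_11_6
import Cfsg.Agent.Lib.H29.AGH13S_11_7
import Cfsg.Agent.Lib.H29.AGH13S_11_8
import Cfsg.Agent.Lib.H29.AGH13S_11_9
import Cfsg.Agent.Lib.H29.AGH13S_11_10
import Cfsg.Agent.Lib.H29.AGH13S_11_12
import Cfsg.Agent.Lib.H29.AGH13S_12_4
import Cfsg.Agent.Lib.H29.AGH13S_12_5
import Cfsg.Agent.Lib.H29.AGH13S_12_6
import Cfsg.Agent.Lib.H29.AGH13S_12_7
import Cfsg.Agent.Lib.H29.AGH13S_12_8
import Cfsg.Agent.Lib.H29.AGH13S_12_9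
import Cfsg.Agent.Lib.H29.AGH13S_12_10
import Cfsg.Agent.Lib.H29.AGH13S_12_11

/-!
# S4150, piece H13 / E6 `all_shards` (helper29)

Every ordering `l` of `[4, …, 12]` starts with `c₂ :: c₃ :: l'`; the shard `(c₂, c₃)` (a kernel computation,
files `AGH13S_<c₂>_<c₃>.lean`) and helper8's `dfs_sound` give the leaf certificate of `l`.
(generated by tools/ag13_h29/gen6.py)
-/

set_option autoImplicit false

namespace Cfsg.Agent.Lib.H29.AG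

open Cfsg.Agent.Lib.H17.AG
open Cfsg.Agent.Lib.H8.AG (dfs_sound)

/-- E6. All 72 shards. -/
theorem all_shards (l : List Nat) (hl : l.Perm [4, 5, 6, 7, 8, 9, 10, 11, 12]) :
    ∃ C idx, leafCheck C idx (pathX X0 3 l) = true := by
  obtain ⟨c2, c3, l', rfl⟩ : ∃ c2 c3 l', l = c2 :: c3 :: l' := by
    have hlen := hl.length_eq
    match l, hlen with
    | c2 :: c3 :: l', _ => exact ⟨c2, c3, l', rfl⟩
  have hpath : ∀ X : Nat, pathX X0 3 (c2 :: c3 :: l') =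
      pathX (Nat.add (Nat.add X0 (Nat.mul c2 (Nat.pow 16 3))) (Nat.mul c3 (Nat.pow 16 c2))) c3 l' :=
    fun _ => rfl
  rw [hpath 0]
  obtain ⟨hc2, h2⟩ := List.cons_perm_iff_perm_erase.1 hl
  simp only [List.mem_cons, List.not_mem_nil, or_false] at hc2
  rcases hc2 with rfl | rfl | rfl | rfl | rfl | rfl | rfl | rfl | rfl
  · -- c₂ = 4
    have h2' : (c3 :: l').Perm [5, 6, 7, 8, 9, 10, 11, 12] := h2
    obtain ⟨hc3, h3⟩ := List.cons_perm_iff_perm_erase.1 h2'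
    simp only [List.mem_cons, List.not_mem_nil, or_false] at hc3
    rcases hc3 with rfl | rfl | rfl | rfl | rfl | rfl | rfl | rfl
    · -- c₃ = 5
      have hl3 : l'.Perm [6, 7, 8, 9, 10, 11, 12] := h3
      obtain ⟨idx, hidx⟩ := dfs_sound dat13_4_5 7 344848 5 [6, 7, 8, 9, 10, 11, 12] 0 rfl shard13_4_5 l' hl3
      exact ⟨dat13_4_5, idx, hidx⟩
    · -- c₃ = 6
      have hl3 : l'.Perm [5, 7, 8, 9, 10, 11, 12] := h3
      obtain ⟨idx, hidx⟩ := dfs_sound dat13_4_6 7 410384 6 [5, 7, 8, 9, 10, 11, 12] 0 rfl shard13_4_6 l' hl3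
      exact ⟨dat13_4_6, idx, hidx⟩
    · -- c₃ = 7
      have hl3 : l'.Perm [5, 6, 8, 9, 10, 11, 12] := h3
      obtain ⟨idx, hidx⟩ := dfs_sound dat13_4_7 7 475920 7 [5, 6, 8, 9, 10, 11, 12] 0 rfl shard13_4_7 l' hl3
      exact ⟨dat13_4_7, idx, hidx⟩
    · -- c₃ = 8
      have hl3 : l'.Perm [5, 6, 7, 9, 10, 11, 12] := h3
      obtain ⟨idx, hidx⟩ := dfs_sound dat13_4_8 7 541456 8 [5, 6, 7, 9, 10, 11, 12] 0 rfl shard13_4_8 l' hl3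
      exact ⟨dat13_4_8, idx, hidx⟩
    · -- c₃ = 9
      have hl3 : l'.Perm [5, 6, 7, 8, 10, 11, 12] := h3
      obtain ⟨idx, hidx⟩ := dfs_sound dat13_4_9 7 606992 9 [5, 6, 7, 8, 10, 11, 12] 0 rfl shard13_4_9 l' hl3
      exact ⟨dat13_4_9, idx, hidx⟩
    · -- c₃ = 10
      have hl3 : l'.Perm [5, 6, 7, 8, 9, 11, 12] := h3
      obtain ⟨idx, hidx⟩ := dfs_sound dat13_4_10 7 672528 10 [5, 6, 7, 8, 9, 11, 12] 0 rfl shard13_4_10 l' hl3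
      exact ⟨dat13_4_10, idx, hidx⟩
    · -- c₃ = 11
      have hl3 : l'.Perm [5, 6, 7, 8, 9, 10, 12] := h3
      obtain ⟨idx, hidx⟩ := dfs_sound dat13_4_11 7 738064 11 [5, 6, 7, 8, 9, 10, 12] 0 rfl shard13_4_11 l' hl3
      exact ⟨dat13_4_11, idx, hidx⟩
    · -- c₃ = 12
      have hl3 : l'.Perm [5, 6, 7, 8, 9, 10, 11] := h3
      obtain ⟨idx, hidx⟩ := dfs_sound dat13_4_12 7 803600 12 [5, 6, 7, 8, 9, 10, 11] 0 rfl shard13_4_12 l' hl3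
      exact ⟨dat13_4_12, idx, hidx⟩
  · -- c₂ = 5
    have h2' : (c3 :: l').Perm [4, 6, 7, 8, 9, 10, 11, 12] := h2
    obtain ⟨hc3, h3⟩ := List.cons_perm_iff_perm_erase.1 h2'
    simp only [List.mem_cons, List.not_mem_nil, or_false] at hc3
    rcases hc3 with rfl | rfl | rfl | rfl | rfl | rfl | rfl | rfl
    · -- c₃ = 4
      have hl3 : l'.Perm [6, 7, 8, 9, 10, 11, 12] := h3
      obtain ⟨idx, hidx⟩ := dfs_sound dat13_5_4 7 4215568 4 [6, 7, 8, 9, 10, 11, 12] 0 rfl shard13_5_4 l' hl3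
      exact ⟨dat13_5_4, idx, hidx⟩
    · -- c₃ = 6
      have hl3 : l'.Perm [4, 7, 8, 9, 10, 11, 12] := h3
      obtain ⟨idx, hidx⟩ := dfs_sound dat13_5_6 7 6312720 6 [4, 7, 8, 9, 10, 11, 12] 0 rfl shard13_5_6 l' hl3
      exact ⟨dat13_5_6, idx, hidx⟩
    · -- c₃ = 7
      have hl3 : l'.Perm [4, 6, 8, 9, 10, 11, 12] := h3
      obtain ⟨idx, hidx⟩ := dfs_sound dat13_5_7 7 7361296 7 [4, 6, 8, 9, 10, 11, 12] 0 rfl shard13_5_7 l' hl3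
      exact ⟨dat13_5_7, idx, hidx⟩
    · -- c₃ = 8
      have hl3 : l'.Perm [4, 6, 7, 9, 10, 11, 12] := h3
      obtain ⟨idx, hidx⟩ := dfs_sound dat13_5_8 7 8409872 8 [4, 6, 7, 9, 10, 11, 12] 0 rfl shard13_5_8 l' hl3
      exact ⟨dat13_5_8, idx, hidx⟩
    · -- c₃ = 9
      have hl3 : l'.Perm [4, 6, 7, 8, 10, 11, 12] := h3
      obtain ⟨idx, hidx⟩ := dfs_sound dat13_5_9 7 9458448 9 [4, 6, 7, 8, 10, 11, 12] 0 rfl shard13_5_9 l' hl3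
      exact ⟨dat13_5_9, idx, hidx⟩
    · -- c₃ = 10
      have hl3 : l'.Perm [4, 6, 7, 8, 9, 11, 12] := h3
      obtain ⟨idx, hidx⟩ := dfs_sound dat13_5_10 7 10507024 10 [4, 6, 7, 8, 9, 11, 12] 0 rfl shard13_5_10 l' hl3
      exact ⟨dat13_5_10, idx, hidx⟩
    · -- c₃ = 11
      have hl3 : l'.Perm [4, 6, 7, 8, 9, 10, 12] := h3
      obtain ⟨idx, hidx⟩ := dfs_sound dat13_5_11 7 11555600 11 [4, 6, 7, 8, 9, 10, 12] 0 rfl shard13_5_11 l' hl3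
      exact ⟨dat13_5_11, idx, hidx⟩
    · -- c₃ = 12
      have hl3 : l'.Perm [4, 6, 7, 8, 9, 10, 11] := h3
      obtain ⟨idx, hidx⟩ := dfs_sound dat13_5_12 7 12604176 12 [4, 6, 7, 8, 9, 10, 11] 0 rfl shard13_5_12 l' hl3
      exact ⟨dat13_5_12, idx, hidx⟩
  · -- c₂ = 6
    have h2' : (c3 :: l').Perm [4, 5, 7, 8, 9, 10, 11, 12] := h2
    obtain ⟨hc3, h3⟩ := List.cons_perm_iff_perm_erase.1 h2'
    simp only [List.mem_cons, List.not_mem_nil, or_false] at hc3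
    rcases hc3 with rfl | rfl | rfl | rfl | rfl | rfl | rfl | rfl
    · -- c₃ = 4
      have hl3 : l'.Perm [5, 7, 8, 9, 10, 11, 12] := h3
      obtain ⟨idx, hidx⟩ := dfs_sound dat13_6_4 7 67134224 4 [5, 7, 8, 9, 10, 11, 12] 0 rfl shard13_6_4 l' hl3
      exact ⟨dat13_6_4, idx, hidx⟩
    · -- c₃ = 5
      have hl3 : l'.Perm [4, 7, 8, 9, 10, 11, 12] := h3
      obtain ⟨idx, hidx⟩ := dfs_sound dat13_6_5 7 83911440 5 [4, 7, 8, 9, 10, 11, 12] 0 rfl shard13_6_5 l' hl3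
      exact ⟨dat13_6_5, idx, hidx⟩
    · -- c₃ = 7
      have hl3 : l'.Perm [4, 5, 8, 9, 10, 11, 12] := h3
      obtain ⟨idx, hidx⟩ := dfs_sound dat13_6_7 7 117465872 7 [4, 5, 8, 9, 10, 11, 12] 0 rfl shard13_6_7 l' hl3
      exact ⟨dat13_6_7, idx, hidx⟩
    · -- c₃ = 8
      have hl3 : l'.Perm [4, 5, 7, 9, 10, 11, 12] := h3
      obtain ⟨idx, hidx⟩ := dfs_sound dat13_6_8 7 134243088 8 [4, 5, 7, 9, 10, 11, 12] 0 rfl shard13_6_8 l' hl3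
      exact ⟨dat13_6_8, idx, hidx⟩
    · -- c₃ = 9
      have hl3 : l'.Perm [4, 5, 7, 8, 10, 11, 12] := h3
      obtain ⟨idx, hidx⟩ := dfs_sound dat13_6_9 7 151020304 9 [4, 5, 7, 8, 10, 11, 12] 0 rfl shard13_6_9 l' hl3
      exact ⟨dat13_6_9, idx, hidx⟩
    · -- c₃ = 10
      have hl3 : l'.Perm [4, 5, 7, 8, 9, 11, 12] := h3
      obtain ⟨idx, hidx⟩ := dfs_sound dat13_6_10 7 167797520 10 [4, 5, 7, 8, 9, 11, 12] 0 rfl shard13_6_10 l' hl3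
      exact ⟨dat13_6_10, idx, hidx⟩
    · -- c₃ = 11
      have hl3 : l'.Perm [4, 5, 7, 8, 9, 10, 12] := h3
      obtain ⟨idx, hidx⟩ := dfs_sound dat13_6_11 7 184574736 11 [4, 5, 7, 8, 9, 10, 12] 0 rfl shard13_6_11 l' hl3
      exact ⟨dat13_6_11, idx, hidx⟩
    · -- c₃ = 12
      have hl3 : l'.Perm [4, 5, 7, 8, 9, 10, 11] := h3
      obtain ⟨idx, hidx⟩ := dfs_sound dat13_6_12 7 201351952 12 [4, 5, 7, 8, 9, 10, 11] 0 rfl shard13_6_12 l' hl3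
      exact ⟨dat13_6_12, idx, hidx⟩
  · -- c₂ = 7
    have h2' : (c3 :: l').Perm [4, 5, 6, 8, 9, 10, 11, 12] := h2
    obtain ⟨hc3, h3⟩ := List.cons_perm_iff_perm_erase.1 h2'
    simp only [List.mem_cons, List.not_mem_nil, or_false] at hc3
    rcases hc3 with rfl | rfl | rfl | rfl | rfl | rfl | rfl | rfl
    · -- c₃ = 4
      have hl3 : l'.Perm [5, 6, 8, 9, 10, 11, 12] := h3
      obtain ⟨idx, hidx⟩ := dfs_sound dat13_7_4 7 1073771280 4 [5, 6, 8, 9, 10, 11, 12] 0 rfl shard13_7_4 l' hl3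
      exact ⟨dat13_7_4, idx, hidx⟩
    · -- c₃ = 5
      have hl3 : l'.Perm [4, 6, 8, 9, 10, 11, 12] := h3
      obtain ⟨idx, hidx⟩ := dfs_sound dat13_7_5 7 1342206736 5 [4, 6, 8, 9, 10, 11, 12] 0 rfl shard13_7_5 l' hl3
      exact ⟨dat13_7_5, idx, hidx⟩
    · -- c₃ = 6
      have hl3 : l'.Perm [4, 5, 8, 9, 10, 11, 12] := h3
      obtain ⟨idx, hidx⟩ := dfs_sound dat13_7_6 7 1610642192 6 [4, 5, 8, 9, 10, 11, 12] 0 rfl shard13_7_6 l' hl3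
      exact ⟨dat13_7_6, idx, hidx⟩
    · -- c₃ = 8
      have hl3 : l'.Perm [4, 5, 6, 9, 10, 11, 12] := h3
      obtain ⟨idx, hidx⟩ := dfs_sound dat13_7_8 7 2147513104 8 [4, 5, 6, 9, 10, 11, 12] 0 rfl shard13_7_8 l' hl3
      exact ⟨dat13_7_8, idx, hidx⟩
    · -- c₃ = 9
      have hl3 : l'.Perm [4, 5, 6, 8, 10, 11, 12] := h3
      obtain ⟨idx, hidx⟩ := dfs_sound dat13_7_9 7 2415948560 9 [4, 5, 6, 8, 10, 11, 12] 0 rfl shard13_7_9 l' hl3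
      exact ⟨dat13_7_9, idx, hidx⟩
    · -- c₃ = 10
      have hl3 : l'.Perm [4, 5, 6, 8, 9, 11, 12] := h3
      obtain ⟨idx, hidx⟩ := dfs_sound dat13_7_10 7 2684384016 10 [4, 5, 6, 8, 9, 11, 12] 0 rfl shard13_7_10 l' hl3
      exact ⟨dat13_7_10, idx, hidx⟩
    · -- c₃ = 11
      have hl3 : l'.Perm [4, 5, 6, 8, 9, 10, 12] := h3
      obtain ⟨idx, hidx⟩ := dfs_sound dat13_7_11 7 2952819472 11 [4, 5, 6, 8, 9, 10, 12] 0 rfl shard13_7_11 l' hl3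
      exact ⟨dat13_7_11, idx, hidx⟩
    · -- c₃ = 12
      have hl3 : l'.Perm [4, 5, 6, 8, 9, 10, 11] := h3
      obtain ⟨idx, hidx⟩ := dfs_sound dat13_7_12 7 3221254928 12 [4, 5, 6, 8, 9, 10, 11] 0 rfl shard13_7_12 l' hl3
      exact ⟨dat13_7_12, idx, hidx⟩
  · -- c₂ = 8
    have h2' : (c3 :: l').Perm [4, 5, 6, 7, 9, 10, 11, 12] := h2
    obtain ⟨hc3, h3⟩ := List.cons_perm_iff_perm_erase.1 h2'
    simp only [List.mem_cons, List.not_mem_nil, or_false] at hc3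
    rcases hc3 with rfl | rfl | rfl | rfl | rfl | rfl | rfl | rfl
    · -- c₃ = 4
      have hl3 : l'.Perm [5, 6, 7, 9, 10, 11, 12] := h3
      obtain ⟨idx, hidx⟩ := dfs_sound dat13_8_4 7 17179902736 4 [5, 6, 7, 9, 10, 11, 12] 0 rfl shard13_8_4 l' hl3
      exact ⟨dat13_8_4, idx, hidx⟩
    · -- c₃ = 5
      have hl3 : l'.Perm [4, 6, 7, 9, 10, 11, 12] := h3
      obtain ⟨idx, hidx⟩ := dfs_sound dat13_8_5 7 21474870032 5 [4, 6, 7, 9, 10, 11, 12] 0 rfl shard13_8_5 l' hl3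
      exact ⟨dat13_8_5, idx, hidx⟩
    · -- c₃ = 6
      have hl3 : l'.Perm [4, 5, 7, 9, 10, 11, 12] := h3
      obtain ⟨idx, hidx⟩ := dfs_sound dat13_8_6 7 25769837328 6 [4, 5, 7, 9, 10, 11, 12] 0 rfl shard13_8_6 l' hl3
      exact ⟨dat13_8_6, idx, hidx⟩
    · -- c₃ = 7
      have hl3 : l'.Perm [4, 5, 6, 9, 10, 11, 12] := h3
      obtain ⟨idx, hidx⟩ := dfs_sound dat13_8_7 7 30064804624 7 [4, 5, 6, 9, 10, 11, 12] 0 rfl shard13_8_7 l' hl3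
      exact ⟨dat13_8_7, idx, hidx⟩
    · -- c₃ = 9
      have hl3 : l'.Perm [4, 5, 6, 7, 10, 11, 12] := h3
      obtain ⟨idx, hidx⟩ := dfs_sound dat13_8_9 7 38654739216 9 [4, 5, 6, 7, 10, 11, 12] 0 rfl shard13_8_9 l' hl3
      exact ⟨dat13_8_9, idx, hidx⟩
    · -- c₃ = 10
      have hl3 : l'.Perm [4, 5, 6, 7, 9, 11, 12] := h3
      obtain ⟨idx, hidx⟩ := dfs_sound dat13_8_10 7 42949706512 10 [4, 5, 6, 7, 9, 11, 12] 0 rfl shard13_8_10 l' hl3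
      exact ⟨dat13_8_10, idx, hidx⟩
    · -- c₃ = 11
      have hl3 : l'.Perm [4, 5, 6, 7, 9, 10, 12] := h3
      obtain ⟨idx, hidx⟩ := dfs_sound dat13_8_11 7 47244673808 11 [4, 5, 6, 7, 9, 10, 12] 0 rfl shard13_8_11 l' hl3
      exact ⟨dat13_8_11, idx, hidx⟩
    · -- c₃ = 12
      have hl3 : l'.Perm [4, 5, 6, 7, 9, 10, 11] := h3
      obtain ⟨idx, hidx⟩ := dfs_sound dat13_8_12 7 51539641104 12 [4, 5, 6, 7, 9, 10, 11] 0 rfl shard13_8_12 l' hl3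
      exact ⟨dat13_8_12, idx, hidx⟩
  · -- c₂ = 9
    have h2' : (c3 :: l').Perm [4, 5, 6, 7, 8, 10, 11, 12] := h2
    obtain ⟨hc3, h3⟩ := List.cons_perm_iff_perm_erase.1 h2'
    simp only [List.mem_cons, List.not_mem_nil, or_false] at hc3
    rcases hc3 with rfl | rfl | rfl | rfl | rfl | rfl | rfl | rfl
    · -- c₃ = 4
      have hl3 : l'.Perm [5, 6, 7, 8, 10, 11, 12] := h3
      obtain ⟨idx, hidx⟩ := dfs_sound dat13_9_4 7 274877944592 4 [5, 6, 7, 8, 10, 11, 12] 0 rfl shard13_9_4 l' hl3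
      exact ⟨dat13_9_4, idx, hidx⟩
    · -- c₃ = 5
      have hl3 : l'.Perm [4, 6, 7, 8, 10, 11, 12] := h3
      obtain ⟨idx, hidx⟩ := dfs_sound dat13_9_5 7 343597421328 5 [4, 6, 7, 8, 10, 11, 12] 0 rfl shard13_9_5 l' hl3
      exact ⟨dat13_9_5, idx, hidx⟩
    · -- c₃ = 6
      have hl3 : l'.Perm [4, 5, 7, 8, 10, 11, 12] := h3
      obtain ⟨idx, hidx⟩ := dfs_sound dat13_9_6 7 412316898064 6 [4, 5, 7, 8, 10, 11, 12] 0 rfl shard13_9_6 l' hl3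
      exact ⟨dat13_9_6, idx, hidx⟩
    · -- c₃ = 7
      have hl3 : l'.Perm [4, 5, 6, 8, 10, 11, 12] := h3
      obtain ⟨idx, hidx⟩ := dfs_sound dat13_9_7 7 481036374800 7 [4, 5, 6, 8, 10, 11, 12] 0 rfl shard13_9_7 l' hl3
      exact ⟨dat13_9_7, idx, hidx⟩
    · -- c₃ = 8
      have hl3 : l'.Perm [4, 5, 6, 7, 10, 11, 12] := h3
      obtain ⟨idx, hidx⟩ := dfs_sound dat13_9_8 7 549755851536 8 [4, 5, 6, 7, 10, 11, 12] 0 rfl shard13_9_8 l' hl3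
      exact ⟨dat13_9_8, idx, hidx⟩
    · -- c₃ = 10
      have hl3 : l'.Perm [4, 5, 6, 7, 8, 11, 12] := h3
      obtain ⟨idx, hidx⟩ := dfs_sound dat13_9_10 7 687194805008 10 [4, 5, 6, 7, 8, 11, 12] 0 rfl shard13_9_10 l' hl3
      exact ⟨dat13_9_10, idx, hidx⟩
    · -- c₃ = 11
      have hl3 : l'.Perm [4, 5, 6, 7, 8, 10, 12] := h3
      obtain ⟨idx, hidx⟩ := dfs_sound dat13_9_11 7 755914281744 11 [4, 5, 6, 7, 8, 10, 12] 0 rfl shard13_9_11 l' hl3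
      exact ⟨dat13_9_11, idx, hidx⟩
    · -- c₃ = 12
      have hl3 : l'.Perm [4, 5, 6, 7, 8, 10, 11] := h3
      obtain ⟨idx, hidx⟩ := dfs_sound dat13_9_12 7 824633758480 12 [4, 5, 6, 7, 8, 10, 11] 0 rfl shard13_9_12 l' hl3
      exact ⟨dat13_9_12, idx, hidx⟩
  · -- c₂ = 10
    have h2' : (c3 :: l').Perm [4, 5, 6, 7, 8, 9, 11, 12] := h2
    obtain ⟨hc3, h3⟩ := List.cons_perm_iff_perm_erase.1 h2'
    simp only [List.mem_cons, List.not_mem_nil, or_false] at hc3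
    rcases hc3 with rfl | rfl | rfl | rfl | rfl | rfl | rfl | rfl
    · -- c₃ = 4
      have hl3 : l'.Perm [5, 6, 7, 8, 9, 11, 12] := h3
      obtain ⟨idx, hidx⟩ := dfs_sound dat13_10_4 7 4398046552848 4 [5, 6, 7, 8, 9, 11, 12] 0 rfl shard13_10_4 l' hl3
      exact ⟨dat13_10_4, idx, hidx⟩
    · -- c₃ = 5
      have hl3 : l'.Perm [4, 6, 7, 8, 9, 11, 12] := h3
      obtain ⟨idx, hidx⟩ := dfs_sound dat13_10_5 7 5497558180624 5 [4, 6, 7, 8, 9, 11, 12] 0 rfl shard13_10_5 l' hl3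
      exact ⟨dat13_10_5, idx, hidx⟩
    · -- c₃ = 6
      have hl3 : l'.Perm [4, 5, 7, 8, 9, 11, 12] := h3
      obtain ⟨idx, hidx⟩ := dfs_sound dat13_10_6 7 6597069808400 6 [4, 5, 7, 8, 9, 11, 12] 0 rfl shard13_10_6 l' hl3
      exact ⟨dat13_10_6, idx, hidx⟩
    · -- c₃ = 7
      have hl3 : l'.Perm [4, 5, 6, 8, 9, 11, 12] := h3
      obtain ⟨idx, hidx⟩ := dfs_sound dat13_10_7 7 7696581436176 7 [4, 5, 6, 8, 9, 11, 12] 0 rfl shard13_10_7 l' hl3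
      exact ⟨dat13_10_7, idx, hidx⟩
    · -- c₃ = 8
      have hl3 : l'.Perm [4, 5, 6, 7, 9, 11, 12] := h3
      obtain ⟨idx, hidx⟩ := dfs_sound dat13_10_8 7 8796093063952 8 [4, 5, 6, 7, 9, 11, 12] 0 rfl shard13_10_8 l' hl3
      exact ⟨dat13_10_8, idx, hidx⟩
    · -- c₃ = 9
      have hl3 : l'.Perm [4, 5, 6, 7, 8, 11, 12] := h3
      obtain ⟨idx, hidx⟩ := dfs_sound dat13_10_9 7 9895604691728 9 [4, 5, 6, 7, 8, 11, 12] 0 rfl shard13_10_9 l' hl3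
      exact ⟨dat13_10_9, idx, hidx⟩
    · -- c₃ = 11
      have hl3 : l'.Perm [4, 5, 6, 7, 8, 9, 12] := h3
      obtain ⟨idx, hidx⟩ := dfs_sound dat13_10_11 7 12094627947280 11 [4, 5, 6, 7, 8, 9, 12] 0 rfl shard13_10_11 l' hl3
      exact ⟨dat13_10_11, idx, hidx⟩
    · -- c₃ = 12
      have hl3 : l'.Perm [4, 5, 6, 7, 8, 9, 11] := h3
      obtain ⟨idx, hidx⟩ := dfs_sound dat13_10_12 7 13194139575056 12 [4, 5, 6, 7, 8, 9, 11] 0 rfl shard13_10_12 l' hl3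
      exact ⟨dat13_10_12, idx, hidx⟩
  · -- c₂ = 11
    have h2' : (c3 :: l').Perm [4, 5, 6, 7, 8, 9, 10, 12] := h2
    obtain ⟨hc3, h3⟩ := List.cons_perm_iff_perm_erase.1 h2'
    simp only [List.mem_cons, List.not_mem_nil, or_false] at hc3
    rcases hc3 with rfl | rfl | rfl | rfl | rfl | rfl | rfl | rfl
    · -- c₃ = 4
      have hl3 : l'.Perm [5, 6, 7, 8, 9, 10, 12] := h3
      obtain ⟨idx, hidx⟩ := dfs_sound dat13_11_4 7 70368744223504 4 [5, 6, 7, 8, 9, 10, 12] 0 rfl shard13_11_4 l' hl3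
      exact ⟨dat13_11_4, idx, hidx⟩
    · -- c₃ = 5
      have hl3 : l'.Perm [4, 6, 7, 8, 9, 10, 12] := h3
      obtain ⟨idx, hidx⟩ := dfs_sound dat13_11_5 7 87960930267920 5 [4, 6, 7, 8, 9, 10, 12] 0 rfl shard13_11_5 l' hl3
      exact ⟨dat13_11_5, idx, hidx⟩
    · -- c₃ = 6
      have hl3 : l'.Perm [4, 5, 7, 8, 9, 10, 12] := h3
      obtain ⟨idx, hidx⟩ := dfs_sound dat13_11_6 7 105553116312336 6 [4, 5, 7, 8, 9, 10, 12] 0 rfl shard13_11_6 l' hl3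
      exact ⟨dat13_11_6, idx, hidx⟩
    · -- c₃ = 7
      have hl3 : l'.Perm [4, 5, 6, 8, 9, 10, 12] := h3
      obtain ⟨idx, hidx⟩ := dfs_sound dat13_11_7 7 123145302356752 7 [4, 5, 6, 8, 9, 10, 12] 0 rfl shard13_11_7 l' hl3
      exact ⟨dat13_11_7, idx, hidx⟩
    · -- c₃ = 8
      have hl3 : l'.Perm [4, 5, 6, 7, 9, 10, 12] := h3
      obtain ⟨idx, hidx⟩ := dfs_sound dat13_11_8 7 140737488401168 8 [4, 5, 6, 7, 9, 10, 12] 0 rfl shard13_11_8 l' hl3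
      exact ⟨dat13_11_8, idx, hidx⟩
    · -- c₃ = 9
      have hl3 : l'.Perm [4, 5, 6, 7, 8, 10, 12] := h3
      obtain ⟨idx, hidx⟩ := dfs_sound dat13_11_9 7 158329674445584 9 [4, 5, 6, 7, 8, 10, 12] 0 rfl shard13_11_9 l' hl3
      exact ⟨dat13_11_9, idx, hidx⟩
    · -- c₃ = 10
      have hl3 : l'.Perm [4, 5, 6, 7, 8, 9, 12] := h3
      obtain ⟨idx, hidx⟩ := dfs_sound dat13_11_10 7 175921860490000 10 [4, 5, 6, 7, 8, 9, 12] 0 rfl shard13_11_10 l' hl3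
      exact ⟨dat13_11_10, idx, hidx⟩
    · -- c₃ = 12
      have hl3 : l'.Perm [4, 5, 6, 7, 8, 9, 10] := h3
      obtain ⟨idx, hidx⟩ := dfs_sound dat13_11_12 7 211106232578832 12 [4, 5, 6, 7, 8, 9, 10] 0 rfl shard13_11_12 l' hl3
      exact ⟨dat13_11_12, idx, hidx⟩
  · -- c₂ = 12
    have h2' : (c3 :: l').Perm [4, 5, 6, 7, 8, 9, 10, 11] := h2
    obtain ⟨hc3, h3⟩ := List.cons_perm_iff_perm_erase.1 h2'
    simp only [List.mem_cons, List.not_mem_nil, or_false] at hc3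
    rcases hc3 with rfl | rfl | rfl | rfl | rfl | rfl | rfl | rfl
    · -- c₃ = 4
      have hl3 : l'.Perm [5, 6, 7, 8, 9, 10, 11] := h3
      obtain ⟨idx, hidx⟩ := dfs_sound dat13_12_4 7 1125899906892560 4 [5, 6, 7, 8, 9, 10, 11] 0 rfl shard13_12_4 l' hl3
      exact ⟨dat13_12_4, idx, hidx⟩
    · -- c₃ = 5
      have hl3 : l'.Perm [4, 6, 7, 8, 9, 10, 11] := h3
      obtain ⟨idx, hidx⟩ := dfs_sound dat13_12_5 7 1407374883603216 5 [4, 6, 7, 8, 9, 10, 11] 0 rfl shard13_12_5 l' hl3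
      exact ⟨dat13_12_5, idx, hidx⟩
    · -- c₃ = 6
      have hl3 : l'.Perm [4, 5, 7, 8, 9, 10, 11] := h3
      obtain ⟨idx, hidx⟩ := dfs_sound dat13_12_6 7 1688849860313872 6 [4, 5, 7, 8, 9, 10, 11] 0 rfl shard13_12_6 l' hl3
      exact ⟨dat13_12_6, idx, hidx⟩
    · -- c₃ = 7
      have hl3 : l'.Perm [4, 5, 6, 8, 9, 10, 11] := h3
      obtain ⟨idx, hidx⟩ := dfs_sound dat13_12_7 7 1970324837024528 7 [4, 5, 6, 8, 9, 10, 11] 0 rfl shard13_12_7 l' hl3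
      exact ⟨dat13_12_7, idx, hidx⟩
    · -- c₃ = 8
      have hl3 : l'.Perm [4, 5, 6, 7, 9, 10, 11] := h3
      obtain ⟨idx, hidx⟩ := dfs_sound dat13_12_8 7 2251799813735184 8 [4, 5, 6, 7, 9, 10, 11] 0 rfl shard13_12_8 l' hl3
      exact ⟨dat13_12_8, idx, hidx⟩
    · -- c₃ = 9
      have hl3 : l'.Perm [4, 5, 6, 7, 8, 10, 11] := h3
      obtain ⟨idx, hidx⟩ := dfs_sound dat13_12_9 7 2533274790445840 9 [4, 5, 6, 7, 8, 10, 11] 0 rfl shard13_12_9 l' hl3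
      exact ⟨dat13_12_9, idx, hidx⟩
    · -- c₃ = 10
      have hl3 : l'.Perm [4, 5, 6, 7, 8, 9, 11] := h3
      obtain ⟨idx, hidx⟩ := dfs_sound dat13_12_10 7 2814749767156496 10 [4, 5, 6, 7, 8, 9, 11] 0 rfl shard13_12_10 l' hl3
      exact ⟨dat13_12_10, idx, hidx⟩
    · -- c₃ = 11
      have hl3 : l'.Perm [4, 5, 6, 7, 8, 9, 10] := h3
      obtain ⟨idx, hidx⟩ := dfs_sound dat13_12_11 7 3096224743867152 11 [4, 5, 6, 7, 8, 9, 10] 0 rfl shard13_12_11 l' hl3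
      exact ⟨dat13_12_11, idx, hidx⟩

end Cfsg.Agent.Lib.H29.AG
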