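import Mathlib

/-!
# Maximal subgroups of semidirect products `N ⋊[φ] L`

* `isCoatom_range_inr`: if `L` acts irreducibly on `N` (no proper nontrivial `L`-invariant
  subgroup), the complement `L` is a maximal subgroup of `N ⋊[φ] L`.
* `index_range_inr`: the complement has index `|N|`.
* `not_isCoatom_of_invariant`: if `H ≤ L` leaves a proper nontrivial subgroup `W ≤ N` invariant then
  `H` is not maximal in `N ⋊ H`.
* `isCoatom_map_subgroupOf_range`: transport of coatoms along injective homs.
-/

set_option autoImplicit false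

namespace Cfsg.Agent.Lib.H29

open SemidirectProduct

/-- Transport of a coatom along an injective homomorphism. -/
theorem isCoatom_map_subgroupOf_range {G' G : Type*} [Group G'] [Group G] (f : G' →* G)
    (hf : Function.Injective f) (J : Subgroup G') (hJ : IsCoatom J) :
    IsCoatom ((J.map f).subgroupOf f.range) := by
  have h1 : (J.map f).subgroupOf f.range = (MonoidHom.ofInjective hf).mapSubgroup J := by
    ext ⟨y, hy⟩
    rw [Subgroup.mem_subgroupOf]
    simp only [MulEquiv.mapSubgroup_apply, Subgroup.mem_map]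
    constructor
    · rintro ⟨g, hg, hgy⟩
      exact ⟨g, hg, Subtype.ext hgy⟩
    · rintro ⟨g, hg, hgy⟩
      exact ⟨g, hg, congrArg Subtype.val hgy⟩
  rw [h1, OrderIso.isCoatom_iff]
  exact hJ

variable {N L : Type*} [Group N] [Group L] (φ : L →* MulAut N)

/-- If `L` acts irreducibly on `N ≠ 1`, the complement `L` is maximal in `N ⋊[φ] L`. -/
theorem isCoatom_range_inr [Nontrivial N]
    (hirr : ∀ W : Subgroup N, (∀ l : L, ∀ n ∈ W, φ l n ∈ W) → W = ⊥ ∨ W = ⊤) :
    IsCoatom (inr : L →* N ⋊[φ] L).range := by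
  constructor
  · intro htop
    obtain ⟨n, hn⟩ := exists_ne (1 : N)
    have hmem : (inl n : N ⋊[φ] L) ∈ (inr : L →* N ⋊[φ] L).range := by rw [htop]; trivial
    obtain ⟨l, hl⟩ := hmem
    have := congrArg SemidirectProduct.left hl
    simp only [left_inr, left_inl] at this
    exact hn this.symm
  · intro J hJ
    let W : Subgroup N := J.comap inl
    have hW : ∀ l : L, ∀ n ∈ W, φ l n ∈ W := by
      intro l n hn
      change inl (φ l n) ∈ J
      rw [inl_aut]
      exact J.mul_mem (J.mul_mem (hJ.le ⟨l, rfl⟩) hn) (hJ.le ⟨l⁻¹, rfl⟩)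
    have hmem : ∀ g ∈ J, g.left ∈ W := by
      intro g hg
      change inl g.left ∈ J
      have h1 : (inl g.left : N ⋊[φ] L) = g * (inr g.right)⁻¹ := by
        rw [eq_mul_inv_iff_mul_eq, inl_left_mul_inr_right]
      rw [h1]
      exact J.mul_mem hg (J.inv_mem (hJ.le ⟨g.right, rfl⟩))
    rcases hirr W hW with h | h
    · exfalso
      apply hJ.not_ge
      intro g hg
      have h2 := hmem g hg
      rw [h, Subgroup.mem_bot] at h2
      refine ⟨g.right, ?_⟩
      ext
      · simp [h2]
      · simp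
    · rw [eq_top_iff]
      intro g _
      rw [← inl_left_mul_inr_right g]
      refine J.mul_mem ?_ (hJ.le ⟨g.right, rfl⟩)
      have h2 : g.left ∈ W := by rw [h]; trivial
      exact h2

instance [Finite N] [Finite L] : Finite (N ⋊[φ] L) :=
  Finite.of_equiv _ (equivProd (φ := φ)).symm

/-- The complement has index `|N|`. -/
theorem index_range_inr [Finite N] [Finite L] :
    (inr : L →* N ⋊[φ] L).range.index = Nat.card N := by
  have h1 := (inr : L →* N ⋊[φ] L).range.card_mul_index
  rw [SemidirectProduct.card] at h1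
  have h2 : Nat.card (inr : L →* N ⋊[φ] L).range = Nat.card L :=
    (Nat.card_congr (MonoidHom.ofInjective (inr_injective (φ := φ))).toEquiv).symm
  rw [h2, mul_comm] at h1
  exact Nat.eq_of_mul_eq_mul_right Nat.card_pos h1

/-- If `H ≤ L` leaves a proper nontrivial subgroup of `N` invariant, then `H` is not maximal in
`N ⋊ H`. -/
theorem not_isCoatom_of_invariant (H : Subgroup L) (W : Subgroup N)
    (hW : ∀ l ∈ H, ∀ n ∈ W, φ l n ∈ W) (hbot : W ≠ ⊥) (htop : W ≠ ⊤) :
    ¬ IsCoatom ((H.map (inr : L →* N ⋊[φ] L)).subgroupOf (H.comap rightHom)) := by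
  intro hco
  let J : Subgroup (N ⋊[φ] L) :=
    { carrier := {g | g.left ∈ W ∧ g.right ∈ H}
      mul_mem' := by
        rintro a b ⟨ha1, ha2⟩ ⟨hb1, hb2⟩
        exact ⟨by rw [mul_left]; exact W.mul_mem ha1 (hW _ ha2 _ hb1),
          by rw [mul_right]; exact H.mul_mem ha2 hb2⟩
      one_mem' := ⟨W.one_mem, H.one_mem⟩
      inv_mem' := by
        rintro a ⟨ha1, ha2⟩
        exact ⟨by rw [inv_left]; exact hW _ (H.inv_mem ha2) _ (W.inv_mem ha1),
          by rw [inv_right]; exact H.inv_mem ha2⟩ }
  have hJmem : ∀ g, g ∈ J ↔ g.left ∈ W ∧ g.right ∈ H := fun g => Iff.rfl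
  obtain ⟨w, hwW, hw1⟩ : ∃ w ∈ W, w ≠ 1 := by
    by_contra hcon
    push Not at hcon
    exact hbot ((Subgroup.eq_bot_iff_forall _).mpr hcon)
  obtain ⟨n, hn⟩ : ∃ n, n ∉ W := by
    by_contra hcon
    push Not at hcon
    exact htop ((Subgroup.eq_top_iff' _).mpr hcon)
  have hK : ∀ m : N, (inl m : N ⋊[φ] L) ∈ H.comap rightHom := by
    intro m
    rw [Subgroup.mem_comap, rightHom_inl]
    exact H.one_mem
  have hlt : (H.map (inr : L →* N ⋊[φ] L)).subgroupOf (H.comap rightHom) <
      J.subgroupOf (H.comap rightHom) := by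
    apply lt_of_le_of_ne
    · rintro ⟨g, hgK⟩ hg
      rw [Subgroup.mem_subgroupOf] at hg ⊢
      obtain ⟨l, hl, rfl⟩ := hg
      rw [hJmem]
      exact ⟨by rw [left_inr]; exact W.one_mem, by rw [right_inr]; exact hl⟩
    · intro heq
      have h1 : (⟨inl w, hK w⟩ : H.comap (rightHom : N ⋊[φ] L →* L)) ∈
          J.subgroupOf (H.comap rightHom) := by
        rw [Subgroup.mem_subgroupOf, hJmem]
        exact ⟨by rw [left_inl]; exact hwW, by rw [right_inl]; exact H.one_mem⟩
      rw [← heq, Subgroup.mem_subgroupOf] at h1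
      obtain ⟨l, -, hl⟩ := h1
      have := congrArg SemidirectProduct.left hl
      simp only [left_inr, left_inl] at this
      exact hw1 this.symm
  have htop' := hco.2 _ hlt
  have h2 : (⟨inl n, hK n⟩ : H.comap (rightHom : N ⋊[φ] L →* L)) ∈
      J.subgroupOf (H.comap rightHom) := by rw [htop']; trivial
  rw [Subgroup.mem_subgroupOf, hJmem] at h2
  exact hn (by simpa using h2.1)

end Cfsg.Agent.Lib.H29
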