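import Mathlib
import Cfsg.Prelude.Def_Blocks
import Cfsg.Agent.Lib.L0.BlockPReg
import Cfsg.Agent.Lib.L0.BlockQuotDefect
import Cfsg.Agent.Lib.H23.BlockPrincipal
import Cfsg.Agent.Lib.H23.DegreeDvd
import Cfsg.Agent.Lib.H24.CharDefl
import Cfsg.Agent.Lib.H2.RBCORE
import Cfsg.Agent.Lib.H1.BIB2a

/-!
# S4719, Part I, piece B2b: a non-principal block of `C ⧸ N` (`N` a central `p`-subgroup) lifts to a
non-principal block of `C` whose defect is larger by `v_p |N|`.

Exact signature of `tools/blueprints/S4719_I_sigs.lean` (`HXX.BI.exists_nonprincipal_lift`).  The piece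
B2a (`sameBlock_of_inflIrr`) enters as the hypothesis `hB2a` of `exists_nonprincipal_lift_of`.
-/

set_option autoImplicit false

namespace Cfsg.Agent.Lib.H29.BI

open Cfsg Cfsg.Agent.Lib.H23 Cfsg.Agent.Lib.H24

variable {C : Type*} [Group C] [Finite C] {p : ℕ} {M : Ideal AlgInt}

/-- B2b with B2a as a hypothesis. -/
theorem exists_nonprincipal_lift_of (hM : IsPModular p M) (N : Subgroup C) [N.Normal]
    (hB2a : ∀ ψ φ : IrrCharacter (C ⧸ N),
      SameBlock M (inflIrr N ψ : C → ℂ) (inflIrr N φ : C → ℂ) →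
      SameBlock M (ψ : C ⧸ N → ℂ) (φ : C ⧸ N → ℂ))
    (bbar : Set (IrrCharacter (C ⧸ N))) (hb : IsPBlock M bbar)
    (hnp : bbar ≠ principalBlock M (C ⧸ N)) :
    ∃ b : Set (IrrCharacter C), IsPBlock M b ∧ b ≠ principalBlock M C ∧
      blockDefect p bbar + (Nat.card N).factorization p ≤ blockDefect p b := by
  classical
  haveI : Fintype C := Fintype.ofFinite C
  haveI : Fintype (C ⧸ N) := Fintype.ofFinite _
  haveI hP : M.IsPrime := isPrime_of_isPModular hM
  have hp : p.Prime := prime_of_isPModular hM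
  -- a member of `bbar` of least `p`-part of the degree
  set f : IrrCharacter (C ⧸ N) → ℕ :=
    fun χ => (charDegree (χ : C ⧸ N → ℂ)).factorization p with hf
  have hne : (f '' bbar).Nonempty := by
    obtain ⟨χ₀, rfl⟩ := hb
    exact ⟨f χ₀, χ₀, mem_blockOf_self χ₀, rfl⟩
  obtain ⟨ψ, hψb, hψ⟩ := Nat.sInf_mem hne
  have hbψ : bbar = blockOf M (ψ : C ⧸ N → ℂ) :=
    Cfsg.Agent.Lib.H2.RB.blockOf_eq_of_mem_isPBlock hb hψb
  refine ⟨blockOf M (inflIrr N ψ : C → ℂ), ⟨inflIrr N ψ, rfl⟩, ?_, ?_⟩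
  · -- non-principal
    intro hprin
    apply hnp
    have h1 : inflIrr N ψ ∈ principalBlock M C := by
      rw [← hprin]
      exact mem_blockOf_self _
    have h2 : SameBlock M (inflIrr N ψ : C → ℂ) (inflIrr N (trivialIrr (C ⧸ N)) : C → ℂ) :=
      sameBlock_symm h1
    have h3 : SameBlock M (ψ : C ⧸ N → ℂ) (trivialIrr (C ⧸ N) : C ⧸ N → ℂ) := hB2a _ _ h2
    have h4 : ψ ∈ principalBlock M (C ⧸ N) := sameBlock_symm h3
    rw [hbψ]
    exact principalBlock_eq_blockOf h4
  · -- the defect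
    have hcard : Nat.card C = Nat.card N * Nat.card (C ⧸ N) := by
      rw [mul_comm]
      exact (Subgroup.card_eq_card_quotient_mul_card_subgroup N)
    have hNpos : Nat.card N ≠ 0 := Nat.card_pos.ne'
    have hQpos : Nat.card (C ⧸ N) ≠ 0 := Nat.card_pos.ne'
    have hfac : (Nat.card C).factorization p =
        (Nat.card N).factorization p + (Nat.card (C ⧸ N)).factorization p := by
      rw [hcard, Nat.factorization_mul hNpos hQpos]
      rfl
    have hdeg : f ψ ≤ (Nat.card (C ⧸ N)).factorization p := by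
      have hd : charDegree (ψ : C ⧸ N → ℂ) ∣ Nat.card (C ⧸ N) :=
        charDegree_dvd_card _ ψ.2
      exact (Nat.factorization_le_iff_dvd (charDegree_pos _ ψ.2).ne' hQpos).2 hd p
    have hinf : sInf ((fun χ : IrrCharacter C => (charDegree (χ : C → ℂ)).factorization p) ''
        blockOf M (inflIrr N ψ : C → ℂ)) ≤ f ψ := by
      apply Nat.sInf_le
      refine ⟨inflIrr N ψ, mem_blockOf_self _, ?_⟩
      show (charDegree (inflIrr N ψ : C → ℂ)).factorization p = f ψ
      rw [charDegree_inflIrr]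
    unfold blockDefect
    rw [hfac]
    have hψ' : sInf (f '' bbar) = f ψ := hψ.symm
    change (Nat.card (C ⧸ N)).factorization p - sInf (f '' bbar) + (Nat.card N).factorization p ≤ _
    rw [hψ']
    omega

/-- (B2b INFLb) a non-principal block of `C ⧸ N` (`N` a central `p`-subgroup) lifts to a non-principal
block of `C` whose defect is larger by `v_p |N|`. -/
theorem exists_nonprincipal_lift (hM : IsPModular p M) (N : Subgroup C) [N.Normal]
    (hNc : N ≤ Subgroup.center C) (hNp : IsPGroup p N)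
    (bbar : Set (IrrCharacter (C ⧸ N))) (hb : IsPBlock M bbar)
    (hnp : bbar ≠ principalBlock M (C ⧸ N)) :
    ∃ b : Set (IrrCharacter C), IsPBlock M b ∧ b ≠ principalBlock M C ∧
      blockDefect p bbar + (Nat.card N).factorization p ≤ blockDefect p b :=
  exists_nonprincipal_lift_of hM N
    (fun ψ φ h => Cfsg.Agent.Lib.H1.BI.sameBlock_of_inflIrr hM N hNc hNp ψ φ h) bbar hb hnp

end Cfsg.Agent.Lib.H29.BI
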