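import Mathlib
import Cfsg.Prelude.Def_ChevStructure
import Cfsg.Agent.Lib.H29.ChevAut1
import Cfsg.Agent.Lib.H29.BtDefs2
import Cfsg.Agent.Lib.H8.Bt2MEM
import Cfsg.Agent.Lib.H22.Bt2LIN

/-! # Borel–Tits (S2154), piece REL: the elements of `N` transport the real functionals -/

set_option autoImplicit false
set_option linter.unusedSectionVars false
set_option linter.unusedVariables false

namespace Cfsg.Agent.Lib.H29.BT2r

open Cfsg.Lie Matrix Cfsg.Agent.Lib.H29.BT Cfsg.Agent.Lib.H29.Chev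
open Cfsg.Agent.Lib.H8.BT2 Cfsg.Agent.Lib.H22.BT2

variable {D : ChevalleyDatum} {fd : FD} {fx : FX} {fc : FC} {fz : FZ} {F : Type*} [Field F]

/-- the matrix of `n_p` carries the grading of `a` to that of `sR p a` and back -/
theorem nF_mem_TrW (C : Cert12 D fd fx fc fz) (i : ℕ) (hi : i < fd.l) (a : Fin fd.l → ℝ) :
    nF D fd fx F (fd.simples.getD i 0) ∈ TrW (wR D fd fx a) (wR D fd fx (fd.sR fx (fd.simples.getD i 0) a)) ∧
    nF D fd fx F (fd.simples.getD i 0) ∈ TrW (wR D fd fx (fd.sR fx (fd.simples.getD i 0) a)) (wR D fd fx a) := by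
  have hp := C.c6.c2.simple_lt i hi
  have hcode : ∀ j' : D.Idx, code D j' < fd.l + fd.n := fun j' => by
    rw [← C.c6.c2.rank_eq, ← C.c6.c2.nroots_eq]; exact code_lt D j'
  constructor
  · intro i' j' hij
    rcases nZ_support _ i' j' (nF_ne_zero _ i' j' hij) with ⟨h1, h2⟩ | ⟨h2, h1⟩
    · unfold wR
      rw [omR_lt _ _ h1, omR_lt _ _ h2]
    · have hs : code D j' - fd.l < fd.n := by have := hcode j'; omega
      obtain ⟨hw, _⟩ := fd.nw_spec C.c6.c2.chk.nn _ _ hp hs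
      obtain ⟨_, hinv, _⟩ := fd.up_spec C.c6.up i hi _ hs
      unfold wR
      rw [h1, omR_ge _ _ (by omega), Nat.add_sub_cancel_left, omR_ge _ _ h2, omrR_sR C a _ _ hp hw, hinv]
  · intro i' j' hij
    rcases nZ_support _ i' j' (nF_ne_zero _ i' j' hij) with ⟨h1, h2⟩ | ⟨h2, h1⟩
    · unfold wR
      rw [omR_lt _ _ h1, omR_lt _ _ h2]
    · have hs : code D j' - fd.l < fd.n := by have := hcode j'; omega
      unfold wR
      rw [h1, omR_ge _ _ (by omega), Nat.add_sub_cancel_left, omR_ge _ _ h2, omrR_sR C a _ _ hp hs]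

section fin
variable [Finite F]

theorem nG_TrG (C : Cert12 D fd fx fc fz) (i : ℕ) (hi : i < fd.l) (a : Fin fd.l → ℝ) :
    TrG D fd fx (C.c6.c2.nG (F := F) (fd.simples.getD i 0) (C.c6.c2.simple_lt i hi)) a
      (fd.sR fx (fd.simples.getD i 0) a) ∧
    TrG D fd fx (C.c6.c2.nG (F := F) (fd.simples.getD i 0) (C.c6.c2.simple_lt i hi))⁻¹ a
      (fd.sR fx (fd.simples.getD i 0) a) := by
  have hp := C.c6.c2.simple_lt i hi
  obtain ⟨hA, hB⟩ := nF_mem_TrW (F := F) C i hi a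
  rw [← C.c6.c2.nG_val _ hp] at hA hB
  have hinv := TrW_inv_of_both _ _ _ hA hB
  refine ⟨⟨hA, hinv.1⟩, ⟨hinv.2, ?_⟩⟩
  rw [inv_inv]
  exact hB

theorem relN_one (C : Cert12 D fd fx fc fz) : C.c6.c2.RelN (1 : GL D.Idx F) := by
  refine ⟨id, C.c6.perm_one, fun a => ⟨a, ⟨?_, ?_⟩, fun s _ => rfl, rfl⟩⟩
  · rw [Units.val_one]; exact TrW_one _
  · rw [inv_one, Units.val_one]; exact TrW_one _

theorem relN_mul (C : Cert12 D fd fx fc fz) {x y : GL D.Idx F} (hx : C.c6.c2.RelN x) (hy : C.c6.c2.RelN y) :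
    C.c6.c2.RelN (x * y) := by
  obtain ⟨π1, h1, r1⟩ := hx
  obtain ⟨π2, h2, r2⟩ := hy
  refine ⟨π1 ∘ π2, C.c6.perm_mul h1 h2, fun a => ?_⟩
  obtain ⟨ay, ⟨ty1, ty2⟩, py, qy⟩ := r2 a
  obtain ⟨axy, ⟨tx1, tx2⟩, px, qx⟩ := r1 ay
  refine ⟨axy, ⟨?_, ?_⟩, fun s hs => ?_, qx.trans qy⟩
  · rw [Units.val_mul]
    exact TrW_mul _ _ _ _ _ ty1 tx1
  · rw [_root_.mul_inv_rev, Units.val_mul]
    exact TrW_mul _ _ _ _ _ tx2 ty2
  · simp only [Function.comp]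
    rw [px _ (h2 s hs).1, py s hs]

theorem relN_diag (C : Cert12 D fd fx fc fz) (k : GL D.Idx F) (hk : k ∈ D.diagonalSubgroup F) :
    C.c6.c2.RelN k := by
  refine ⟨id, C.c6.perm_diag k hk, fun a => ⟨a, ⟨?_, ?_⟩, fun s _ => rfl, rfl⟩⟩
  · exact (mem_ZWG _ _).mp (diag_mem_ZWG C a k hk)
  · exact (mem_ZWG _ _).mp (diag_mem_ZWG C a k⁻¹ (inv_mem hk))

theorem relN_nG (C : Cert12 D fd fx fc fz) (i : ℕ) (hi : i < fd.l) :
    C.c6.c2.RelN (C.c6.c2.nG (F := F) (fd.simples.getD i 0) (C.c6.c2.simple_lt i hi)) ∧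
    C.c6.c2.RelN (C.c6.c2.nG (F := F) (fd.simples.getD i 0) (C.c6.c2.simple_lt i hi))⁻¹ := by
  have hp := C.c6.c2.simple_lt i hi
  have hperm : ∀ (a : Fin fd.l → ℝ), ∀ s < fd.n,
      fd.omrR fx (fd.sR fx (fd.simples.getD i 0) a) (fd.nw fx (fd.simples.getD i 0) s) = fd.omrR fx a s := by
    intro a s hs
    obtain ⟨hw, _⟩ := fd.nw_spec C.c6.c2.chk.nn _ _ hp hs
    obtain ⟨_, hinv, _⟩ := fd.up_spec C.c6.up i hi _ hs
    rw [omrR_sR C a _ _ hp hw, hinv]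
  constructor
  · exact ⟨_, (C.c6.perm_nG i hi).1, fun a => ⟨_, (nG_TrG C i hi a).1, hperm a, QR_sR C i hi a⟩⟩
  · exact ⟨_, (C.c6.perm_nG i hi).2, fun a => ⟨_, (nG_TrG C i hi a).2, hperm a, QR_sR C i hi a⟩⟩

theorem relN_of_mem (C : Cert12 D fd fx fc fz) (n : GL D.Idx F) (hn : n ∈ D.monomialSubgroup F) :
    C.c6.c2.RelN n ∧ C.c6.c2.RelN n⁻¹ := by
  rw [← C.c6.closure_SSet_sup_diag, ← Subgroup.closure_eq (D.diagonalSubgroup F), ← Subgroup.closure_union] at hn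
  induction hn using Subgroup.closure_induction with
  | mem x hx =>
    rcases hx with hx | hx
    · obtain ⟨i, hi, rfl⟩ := C.c6.eq_nG_of_SSet x hx
      exact relN_nG C i hi
    · exact ⟨relN_diag C x hx, relN_diag C x⁻¹ (inv_mem hx)⟩
  | one => exact ⟨relN_one C, by rw [inv_one]; exact relN_one C⟩
  | mul x y _ _ hx hy =>
    exact ⟨relN_mul C hx.1 hy.1, by rw [_root_.mul_inv_rev]; exact relN_mul C hy.2 hx.2⟩
  | inv x _ hx => exact ⟨hx.2, by rw [inv_inv]; exact hx.1⟩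

end fin

end Cfsg.Agent.Lib.H29.BT2r
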