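import Mathlib
import Cfsg.Prelude.Def_ChevStructure
import Cfsg.Agent.Lib.H29.ChevAut1
import Cfsg.Agent.Lib.H29.BtDefs2
import Cfsg.Agent.Lib.H22.Bt2LIN
import Cfsg.Agent.Lib.H29.BtRel

/-! # Borel–Tits (S2154), piece DOM: every real functional is carried to a dominant one by an element of `N` -/

set_option autoImplicit false
set_option linter.unusedSectionVars false
set_option linter.unusedVariables false

namespace Cfsg.Agent.Lib.H29.BT2d

open Cfsg.Lie Matrix Cfsg.Agent.Lib.H29.BT Cfsg.Agent.Lib.H29.Chev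
open Cfsg.Agent.Lib.H22.BT2 Cfsg.Agent.Lib.H29.BT2r

variable {D : ChevalleyDatum} {fd : FD} {fx : FX} {fc : FC} {fz : FZ} {F : Type*} [Field F]

open Classical in
/-- the number of the positive roots on which the functional is negative -/
noncomputable def negCount (fd : FD) (fx : FX) (a : Fin fd.l → ℝ) : ℕ :=
  ((Finset.range fd.n).filter (fun s => fd.n / 2 ≤ s ∧ fd.omrR fx a s < 0)).card

theorem TrG_comp {x y : GL D.Idx F} {a b c : Fin fd.l → ℝ} (hy : TrG D fd fx y a b) (hx : TrG D fd fx x b c) :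
    TrG D fd fx (x * y) a c := by
  constructor
  · rw [Units.val_mul]
    exact TrW_mul _ _ _ _ _ hy.1 hx.1
  · rw [_root_.mul_inv_rev, Units.val_mul]
    exact TrW_mul _ _ _ _ _ hx.2 hy.2

theorem TrG_one (a : Fin fd.l → ℝ) : TrG D fd fx (1 : GL D.Idx F) a a := by
  constructor
  · rw [Units.val_one]; exact TrW_one _
  · rw [inv_one, Units.val_one]; exact TrW_one _

/-- reflecting in a fundamental root on which the functional is negative lowers the count by one -/
theorem negCount_sR (C : Cert12 D fd fx fc fz) (a : Fin fd.l → ℝ) (i : Fin fd.l) (hi : a i < 0) :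
    negCount fd fx (fd.sR fx (fd.simples.getD i.val 0) a) + 1 = negCount fd fx a := by
  classical
  set p := fd.simples.getD i.val 0 with hpdef
  have hp : p < fd.n := C.c6.c2.simple_lt i.val i.isLt
  have hppos : fd.n / 2 ≤ p := C.c6.simple_pos i.val i.isLt
  have hap : fd.omrR fx a p = a i := omrR_simple C a i
  have hsp : fd.omrR fx (fd.sR fx p a) p = - fd.omrR fx a p := by
    rw [omrR_sR C a p p hp hp, omrR_nw C a p p hp hp, (fd.lin_spec C.c6.c2.chk.lin p hp).2.2]
    push_cast
    ring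
  unfold negCount
  set A := (Finset.range fd.n).filter (fun s => fd.n / 2 ≤ s ∧ fd.omrR fx a s < 0) with hA
  set A' := (Finset.range fd.n).filter (fun s => fd.n / 2 ≤ s ∧ fd.omrR fx (fd.sR fx p a) s < 0) with hA'
  have hpA : p ∈ A := by
    rw [hA, Finset.mem_filter, Finset.mem_range]
    exact ⟨hp, hppos, by rw [hap]; exact hi⟩
  have hcard : A'.card = (A.erase p).card := by
    apply Finset.card_bij (fun s _ => fd.nw fx p s)
    · intro s hs
      rw [hA', Finset.mem_filter, Finset.mem_range] at hs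
      obtain ⟨hs1, hs2, hs3⟩ := hs
      have hsp' : s ≠ p := by
        rintro rfl
        rw [hsp, hap] at hs3
        linarith
      obtain ⟨_, _, h3⟩ := fd.up_spec C.c6.up i.val i.isLt s hs1
      obtain ⟨⟨k1, k2, k3⟩, _⟩ := h3 hs2 hsp'
      rw [Finset.mem_erase, hA, Finset.mem_filter, Finset.mem_range]
      refine ⟨k3, k1, k2, ?_⟩
      rw [← omrR_sR C a p s hp hs1]
      exact hs3
    · intro s1 hs1 s2 hs2 h
      rw [hA', Finset.mem_filter, Finset.mem_range] at hs1 hs2
      obtain ⟨_, e1, _⟩ := fd.up_spec C.c6.up i.val i.isLt s1 hs1.1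
      obtain ⟨_, e2, _⟩ := fd.up_spec C.c6.up i.val i.isLt s2 hs2.1
      rw [← e1, ← e2]
      exact congrArg _ h
    · intro t ht
      rw [Finset.mem_erase, hA, Finset.mem_filter, Finset.mem_range] at ht
      obtain ⟨ht0, ht1, ht2, ht3⟩ := ht
      obtain ⟨_, e1, h3⟩ := fd.up_spec C.c6.up i.val i.isLt t ht1
      obtain ⟨⟨k1, k2, k3⟩, _⟩ := h3 ht2 ht0
      refine ⟨fd.nw fx p t, ?_, e1⟩
      rw [hA', Finset.mem_filter, Finset.mem_range]
      refine ⟨k1, k2, ?_⟩
      rw [omrR_sR C a p _ hp k1, e1]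
      exact ht3
  rw [hcard, Finset.card_erase_of_mem hpA]
  have : 0 < A.card := Finset.card_pos.mpr ⟨p, hpA⟩
  omega

section fin
variable [Finite F]

theorem exists_dominant_aux (C : Cert12 D fd fx fc fz) : ∀ (k : ℕ) (a : Fin fd.l → ℝ), negCount fd fx a = k →
    ∃ n : GL D.Idx F, n ∈ D.monomialSubgroup F ∧ ∃ a' : Fin fd.l → ℝ, fd.Dom a' ∧ TrG D fd fx n a a' ∧
      fd.QR fx a' = fd.QR fx a := by
  intro k
  induction k with
  | zero =>
    intro a hk
    by_cases hdom : fd.Dom a
    · exact ⟨1, one_mem _, a, hdom, TrG_one a, rfl⟩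
    · exfalso
      unfold FD.Dom at hdom
      rw [not_forall] at hdom
      obtain ⟨i, hi⟩ := hdom
      have := negCount_sR C a i (by linarith [not_le.mp hi])
      omega
  | succ k ih =>
    intro a hk
    by_cases hdom : fd.Dom a
    · exact ⟨1, one_mem _, a, hdom, TrG_one a, rfl⟩
    · unfold FD.Dom at hdom
      rw [not_forall] at hdom
      obtain ⟨i, hi⟩ := hdom
      have hstep := negCount_sR C a i (by linarith [not_le.mp hi])
      obtain ⟨n1, hn1, a', hdom', htr, hQ⟩ := ih (fd.sR fx (fd.simples.getD i.val 0) a) (by omega)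
      refine ⟨n1 * C.c6.c2.nG (F := F) (fd.simples.getD i.val 0) (C.c6.c2.simple_lt i.val i.isLt),
        mul_mem hn1 (C.c6.c2.nG_mem_monomial _ _), a', hdom', ?_, ?_⟩
      · exact TrG_comp (nG_TrG C i.val i.isLt a).1 htr
      · rw [hQ, QR_sR C i.val i.isLt a]

theorem exists_dominant (C : Cert12 D fd fx fc fz) (a : Fin fd.l → ℝ) :
    ∃ n : GL D.Idx F, n ∈ D.monomialSubgroup F ∧ ∃ a' : Fin fd.l → ℝ, fd.Dom a' ∧ TrG D fd fx n a a' ∧
      fd.QR fx a' = fd.QR fx a :=
  exists_dominant_aux C _ a rfl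

end fin

end Cfsg.Agent.Lib.H29.BT2d
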