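import Mathlib
import Cfsg.Prelude.Def_ChevStructure
import Cfsg.Agent.Lib.H29.ChevAut1
import Cfsg.Agent.Lib.H29.BtDefs2
import Cfsg.Agent.Lib.H8.Bt2MEM

/-! # Borel–Tits (S2154), piece PAR-a: the parabolic subgroup of a dominant functional -/

set_option autoImplicit false
set_option linter.unusedSectionVars false
set_option linter.unusedVariables false

namespace Cfsg.Agent.Lib.H29.BT2a

open Cfsg.Lie Matrix Cfsg.Agent.Lib.H29.BT Cfsg.Agent.Lib.H29.Chev
open Cfsg.Agent.Lib.H8.BT2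

variable {D : ChevalleyDatum} {fd : FD} {fx : FX} {fc : FC} {fz : FZ} {F : Type*} [Field F]

theorem omrR_nonneg_of_pos (C : Cert12 D fd fx fc fz) (a : Fin fd.l → ℝ) (ha : fd.Dom a) (s : ℕ) (hs : s < fd.n)
    (hpos : fd.n / 2 ≤ s) : 0 ≤ fd.omrR fx a s := by
  unfold FD.omrR
  apply Finset.sum_nonneg
  intro j _
  have := C.rcZ_nonneg s hs hpos j.val j.isLt
  exact mul_nonneg (ha j) (by exact_mod_cast this)

theorem omrR_nonpos_of_neg (C : Cert12 D fd fx fc fz) (a : Fin fd.l → ℝ) (ha : fd.Dom a) (s : ℕ) (hs : s < fd.n)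
    (hneg : s < fd.n / 2) : fd.omrR fx a s ≤ 0 := by
  unfold FD.omrR
  apply Finset.sum_nonpos
  intro j _
  have := C.rcZ_nonpos s hs hneg j.val j.isLt
  exact mul_nonpos_iff.mpr (Or.inl ⟨ha j, by exact_mod_cast this⟩)

theorem omr_aJ_eq (J : Set ℕ) (s : ℕ) :
    fd.omr fx (aJ J) s = ∑ j : Fin fd.l, aJ J j.val * fd.rcZ fx s j.val := by
  unfold FD.omr
  rw [listsum_eq, Finset.sum_range]

theorem omr_aJ_pos_iff (C : Cert12 D fd fx fc fz) (a : Fin fd.l → ℝ) (ha : fd.Dom a) (s : ℕ) (hs : s < fd.n) :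
    0 < fd.omr fx (aJ (fd.zeroSet a)) s ↔ 0 < fd.omrR fx a s := by
  constructor
  · intro h
    have hpos := C.pos_of_omr_pos _ s hs h
    rw [omr_aJ_eq] at h
    obtain ⟨j, _, hj⟩ : ∃ j ∈ (Finset.univ : Finset (Fin fd.l)),
        0 < aJ (fd.zeroSet a) j.val * fd.rcZ fx s j.val := by
      by_contra hcon
      have : ∑ j : Fin fd.l, aJ (fd.zeroSet a) j.val * fd.rcZ fx s j.val ≤ 0 := by
        apply Finset.sum_nonpos
        intro j hj
        by_contra h0
        exact hcon ⟨j, hj, by omega⟩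
      omega
    have hrc := C.rcZ_nonneg s hs hpos j.val j.isLt
    have hjJ : j.val ∉ fd.zeroSet a := by
      intro hJ
      unfold aJ at hj
      rw [if_pos hJ] at hj
      simp at hj
    have hrc' : 0 < fd.rcZ fx s j.val := by
      rcases hrc.lt_or_eq with h1 | h1
      · exact h1
      · rw [← h1] at hj; simp at hj
    have haj : 0 < a j := by
      rcases (ha j).lt_or_eq with h1 | h1
      · exact h1
      · exfalso
        apply hjJ
        exact ⟨j.isLt, h1.symm⟩
    unfold FD.omrR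
    have hterm : 0 < a j * ((fd.rcZ fx s j.val : ℤ) : ℝ) := mul_pos haj (by exact_mod_cast hrc')
    refine lt_of_lt_of_le hterm ?_
    apply Finset.single_le_sum (f := fun j : Fin fd.l => a j * ((fd.rcZ fx s j.val : ℤ) : ℝ)) _ (Finset.mem_univ j)
    intro k _
    have := C.rcZ_nonneg s hs hpos k.val k.isLt
    exact mul_nonneg (ha k) (by exact_mod_cast this)
  · intro h
    have hpos : fd.n / 2 ≤ s := by
      by_contra hneg
      have := omrR_nonpos_of_neg C a ha s hs (by omega)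
      linarith
    obtain ⟨j, _, hj⟩ : ∃ j ∈ (Finset.univ : Finset (Fin fd.l)),
        0 < a j * ((fd.rcZ fx s j.val : ℤ) : ℝ) := by
      by_contra hcon
      have : fd.omrR fx a s ≤ 0 := by
        unfold FD.omrR
        apply Finset.sum_nonpos
        intro j hj
        by_contra h0
        exact hcon ⟨j, hj, by linarith⟩
      linarith
    have hrc := C.rcZ_nonneg s hs hpos j.val j.isLt
    have haj : 0 < a j := by
      rcases (ha j).lt_or_eq with h1 | h1
      · exact h1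
      · rw [← h1] at hj; simp at hj
    have hrc' : 0 < fd.rcZ fx s j.val := by
      rcases hrc.lt_or_eq with h1 | h1
      · exact h1
      · rw [← h1] at hj; simp at hj
    have hjJ : j.val ∉ fd.zeroSet a := by
      rintro ⟨h1, h2⟩
      have : a j = 0 := h2
      linarith
    rw [omr_aJ_eq]
    have hterm : 0 < aJ (fd.zeroSet a) j.val * fd.rcZ fx s j.val := by
      unfold aJ
      rw [if_neg hjJ, one_mul]
      exact hrc'
    refine lt_of_lt_of_le hterm ?_
    apply Finset.single_le_sum (f := fun j : Fin fd.l => aJ (fd.zeroSet a) j.val * fd.rcZ fx s j.val) _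
      (Finset.mem_univ j)
    intro k _
    have := C.rcZ_nonneg s hs hpos k.val k.isLt
    unfold aJ
    split_ifs <;> simp [this]

theorem omrR_neg' (C : Cert12 D fd fx fc fz) (a : Fin fd.l → ℝ) (r : ℕ) (hr : r < fd.n) :
    fd.omrR fx a (fd.n - 1 - r) = - fd.omrR fx a r := by
  unfold FD.omrR
  rw [← Finset.sum_neg_distrib]
  apply Finset.sum_congr rfl
  intro j _
  rw [C.rcZ_neg r j.val hr j.isLt]
  push_cast
  ring

theorem omr_aJ_zero_iff (C : Cert12 D fd fx fc fz) (a : Fin fd.l → ℝ) (ha : fd.Dom a) (s : ℕ) (hs : s < fd.n) :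
    fd.omr fx (aJ (fd.zeroSet a)) s = 0 ↔ fd.omrR fx a s = 0 := by
  have hev := C.c6.c2.heven
  have hs' : fd.n - 1 - s < fd.n := by omega
  have h1 := omr_aJ_pos_iff C a ha s hs
  have h2 := omr_aJ_pos_iff C a ha _ hs'
  rw [fd.omr_neg C.c6.c2.chk.pref _ s hs, omrR_neg' C a s hs] at h2
  constructor
  · intro h
    rw [h] at h1 h2
    have k1 : ¬ 0 < fd.omrR fx a s := fun hh => by have := h1.mpr hh; omega
    have k2 : ¬ 0 < - fd.omrR fx a s := fun hh => by have := h2.mpr hh; omega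
    linarith
  · intro h
    rw [h] at h1 h2
    have k1 : ¬ 0 < fd.omr fx (aJ (fd.zeroSet a)) s := fun hh => by have := h1.mp hh; linarith
    have k2 : ¬ 0 < - fd.omr fx (aJ (fd.zeroSet a)) s := fun hh => by have := h2.mp hh; linarith
    omega

section fin
variable [Finite F]

theorem pos_le_PWG (C : Cert12 D fd fx fc fz) (a : Fin fd.l → ℝ) (ha : fd.Dom a) :
    D.posUnipotent F ≤ PWG (wR D fd fx a) := by
  rw [← C.radical_empty]
  unfold ChevalleyDatum.unipotentRadical
  rw [Subgroup.closure_le]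
  intro x hx
  obtain ⟨s, u, hs, hΩ, rfl⟩ := C.eq_xA_of_radical_gen ∅ x hx
  have hpos := C.pos_of_omr_pos _ s hs hΩ
  exact xA_mem_PWG C a s hs (omrR_nonneg_of_pos C a ha s hs hpos) u

theorem borel_le_PWG (C : Cert12 D fd fx fc fz) (a : Fin fd.l → ℝ) (ha : fd.Dom a) :
    D.borelSubgroup F ≤ PWG (wR D fd fx a) := by
  intro b hb
  obtain ⟨u, hu, k, hk, rfl⟩ := C.c6.c2.borel_mem b hb
  exact mul_mem (pos_le_PWG C a ha hu) (ZWG_le_PWG _ (diag_mem_ZWG C a k hk))

theorem radical_le_U0WG (C : Cert12 D fd fx fc fz) (a : Fin fd.l → ℝ) (ha : fd.Dom a) :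
    D.unipotentRadical F (fd.zeroSet a) ≤ U0WG (wR D fd fx a) := by
  unfold ChevalleyDatum.unipotentRadical
  rw [Subgroup.closure_le]
  intro x hx
  obtain ⟨s, u, hs, hΩ, rfl⟩ := C.eq_xA_of_radical_gen _ x hx
  exact xA_mem_U0WG C a s hs ((omr_aJ_pos_iff C a ha s hs).mp hΩ) u

theorem levi_le_ZWG (C : Cert12 D fd fx fc fz) (a : Fin fd.l → ℝ) (ha : fd.Dom a) :
    D.leviSubgroup F (fd.zeroSet a) ≤ ZWG (wR D fd fx a) := by
  unfold ChevalleyDatum.leviSubgroup
  apply sup_le
  · intro k hk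
    exact diag_mem_ZWG C a k hk
  · rw [Subgroup.closure_le]
    rintro x ⟨r, t, hr, hg⟩
    have h1 : r < fd.n := by rw [← C.c6.c2.nroots_eq]; exact hr.1
    rw [SetLike.mem_coe, C.c6.eq_xA_of_rootSubgroup_gen r x t hg]
    exact xA_mem_ZWG C a r h1 ((omr_aJ_zero_iff C a ha r h1).mp ((C.inRootSub_iff_omr _ r h1).mp hr)) t

end fin

end Cfsg.Agent.Lib.H29.BT2a
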