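import Mathlib
import Cfsg.Prelude.Def_ChevStructure
import Cfsg.Agent.Lib.H29.ChevAut1
import Cfsg.Agent.Lib.H29.BtDefs2

/-! # Borel–Tits (S2154), piece PAR-b: Bruhat decomposition, `P_J = U_J L_J`, elements of `N` in `P_J` -/

set_option autoImplicit false
set_option linter.unusedSectionVars false
set_option linter.unusedVariables false

namespace Cfsg.Agent.Lib.H29.BT2b

open Cfsg.Lie Matrix Cfsg.Agent.Lib.H29.BT Cfsg.Agent.Lib.H29.Chev

variable {D : ChevalleyDatum} {fd : FD} {fx : FX} {fc : FC} {fz : FZ} {F : Type*} [Field F]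

/-- the Bruhat decomposition -/
theorem bruhat_dec (C : Cert12 D fd fx fc fz) (g : GL D.Idx F) (hg : g ∈ D.group F) :
    ∃ b ∈ D.borelSubgroup F, ∃ n ∈ D.monomialSubgroup F, ∃ b' ∈ D.borelSubgroup F, g = b * n * b' := by
  obtain ⟨b, hb, n, hn, u, hu, e⟩ := C.c6.canonical_form.1 g hg
  exact ⟨b, hb, n, hn, u, C.c6.Uw_le_borel n hu, e⟩

/-- `P_J = U_J L_J` elementwise -/
theorem parabolic_decomp (C : Cert12 D fd fx fc fz) (J : Set ℕ) (y : GL D.Idx F)
    (hy : y ∈ D.parabolicSubgroup F J) :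
    ∃ u ∈ D.unipotentRadical F J, ∃ m ∈ D.leviSubgroup F J, y = u * m := by
  have hN : D.leviSubgroup F J ≤ Subgroup.normalizer (D.unipotentRadical F J : Set (GL D.Idx F)) := by
    refine le_trans ?_ (C.parabolic_le_normalizer J)
    rw [← C.radical_sup_levi J]
    exact le_sup_right
  rw [← C.radical_sup_levi J, Subgroup.sup_eq_closure] at hy
  induction hy using Subgroup.closure_induction with
  | mem x hx =>
    rcases hx with hx | hx
    · exact ⟨x, hx, 1, one_mem _, by simp⟩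
    · exact ⟨1, one_mem _, x, hx, by simp⟩
  | one => exact ⟨1, one_mem _, 1, one_mem _, by simp⟩
  | mul x y _ _ hx hy =>
    obtain ⟨u, hu, m, hm, rfl⟩ := hx
    obtain ⟨u', hu', m', hm', rfl⟩ := hy
    refine ⟨u * (m * u' * m⁻¹), mul_mem hu ((Subgroup.mem_normalizer_iff.mp (hN hm) u').mp hu'), m * m',
      mul_mem hm hm', by group⟩
  | inv x _ hx =>
    obtain ⟨u, hu, m, hm, rfl⟩ := hx
    refine ⟨m⁻¹ * u⁻¹ * m⁻¹⁻¹, (Subgroup.mem_normalizer_iff.mp (hN (inv_mem hm)) u⁻¹).mp (inv_mem hu), m⁻¹,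
      inv_mem hm, by group⟩

/-- an element of `N` whose permutation preserves the sign pattern of the functional of `J` on the generators of
`U_J` lies in `P_J` -/
theorem mem_parabolic_of_fix_aux [Finite F] (C : Cert12 D fd fx fc fz) (a : Fin fd.l → ℝ) (J : Set ℕ)
    (hJ : ∀ j ∈ J, j < D.rank)
    (hiff : ∀ s < fd.n, (0 < fd.omr fx (aJ J) s ↔ 0 < fd.omrR fx a s))
    (n : GL D.Idx F) (hn : n ∈ D.monomialSubgroup F) (π : ℕ → ℕ) (hπ : C.c6.c2.Perm n π)
    (hfix : ∀ s < fd.n, fd.omrR fx a (π s) = fd.omrR fx a s) :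
    n ∈ D.parabolicSubgroup F J := by
  rw [← C.normalizer_radical J hJ]
  refine ⟨?_, C.c6.c2.monomial_le_group hn⟩
  have key : ∀ h ∈ D.unipotentRadical F J, n * h * n⁻¹ ∈ D.unipotentRadical F J := by
    intro h hh
    have hh' := hh
    unfold ChevalleyDatum.unipotentRadical at hh'
    induction hh' using Subgroup.closure_induction with
    | mem x hx =>
      obtain ⟨s, u, hs, hΩ, rfl⟩ := C.eq_xA_of_radical_gen J x hx
      obtain ⟨h1, _, c, h3⟩ := hπ s hs
      rw [h3]
      refine C.xA_mem_radical J (π s) h1 ((hiff _ h1).mpr ?_) _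
      rw [hfix s hs]
      exact (hiff s hs).mp hΩ
    | one => simp
    | mul x y hx' hy' hx hy =>
      have : n * (x * y) * n⁻¹ = (n * x * n⁻¹) * (n * y * n⁻¹) := by group
      rw [this]
      exact mul_mem (hx (by unfold ChevalleyDatum.unipotentRadical; exact hx'))
        (hy (by unfold ChevalleyDatum.unipotentRadical; exact hy'))
    | inv x hx' hx =>
      have : n * x⁻¹ * n⁻¹ = (n * x * n⁻¹)⁻¹ := by group
      rw [this]
      exact inv_mem (hx (by unfold ChevalleyDatum.unipotentRadical; exact hx'))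
  exact Subgroup.mem_normalizer_fintype key

end Cfsg.Agent.Lib.H29.BT2b
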