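import Mathlib
import Cfsg.Prelude.Def_ChevStructure
import Cfsg.Agent.Lib.H29.ChevAut1
import Cfsg.Agent.Lib.H29.BtDefs2
import Cfsg.Agent.Lib.H22.Bt2LIN
import Cfsg.Agent.Lib.H8.Bt2MEM
import Cfsg.Agent.Lib.H29.BtRel
import Cfsg.Agent.Lib.H29.BtParA
import Cfsg.Agent.Lib.H29.BtParB
import Cfsg.Agent.Lib.H27.Bt2SYL
import Cfsg.Agent.Lib.H24.Bt2CLO
import Cfsg.Agent.Lib.H29.BtDom

/-! # Borel–Tits (S2154): the Chevalley-specific pieces (bridge to the farmed files) -/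

set_option autoImplicit false

namespace Cfsg.Agent.Lib.H29.BT2

open Cfsg.Lie Matrix Cfsg.Agent.Lib.H29.BT Cfsg.Agent.Lib.H29.Chev

variable {D : ChevalleyDatum} {fd : FD} {fx : FX} {fc : FC} {fz : FZ} {F : Type*} [Field F]

/-! ## piece LIN : the real functionals (no matrices) -/

theorem omR_lt (a : Fin fd.l → ℝ) (c : ℕ) (hc : c < fd.l) : fd.omR fx a c = 0 :=
  Cfsg.Agent.Lib.H22.BT2.omR_lt a c hc
theorem omR_ge (a : Fin fd.l → ℝ) (c : ℕ) (hc : ¬ c < fd.l) : fd.omR fx a c = fd.omrR fx a (c - fd.l) :=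
  Cfsg.Agent.Lib.H22.BT2.omR_ge a c hc
theorem omrR_castF (a : ℕ → ℤ) (r : ℕ) : fd.omrR fx (fd.castF a) r = ((fd.omr fx a r : ℤ) : ℝ) :=
  Cfsg.Agent.Lib.H22.BT2.omrR_castF a r
theorem omR_castF (a : ℕ → ℤ) (c : ℕ) : fd.omR fx (fd.castF a) c = ((fd.om fx a c : ℤ) : ℝ) :=
  Cfsg.Agent.Lib.H22.BT2.omR_castF a c
theorem omrR_mid (a b : Fin fd.l → ℝ) (r : ℕ) :
    fd.omrR fx (fun j => (a j + b j) / 2) r = (fd.omrR fx a r + fd.omrR fx b r) / 2 :=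
  Cfsg.Agent.Lib.H22.BT2.omrR_mid a b r
theorem omrR_half_sub (a b : Fin fd.l → ℝ) (r : ℕ) :
    fd.omrR fx (fun j => (a j - b j) / 2) r = (fd.omrR fx a r - fd.omrR fx b r) / 2 :=
  Cfsg.Agent.Lib.H22.BT2.omrR_half_sub a b r
theorem wR_mid (a b : Fin fd.l → ℝ) :
    (fun i => (wR D fd fx a i + wR D fd fx b i) / 2) = wR D fd fx (fun j => (a j + b j) / 2) :=
  Cfsg.Agent.Lib.H22.BT2.wR_mid a b
theorem wR_zero : wR D fd fx (fun _ => 0) = fun _ => 0 :=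
  Cfsg.Agent.Lib.H22.BT2.wR_zero 
theorem wR_inl (C : Cert12 D fd fx fc fz) (a : Fin fd.l → ℝ) (i : Fin D.rank) : wR D fd fx a (Sum.inl i) = 0 :=
  Cfsg.Agent.Lib.H22.BT2.wR_inl C a i
theorem wR_inr (C : Cert12 D fd fx fc fz) (a : Fin fd.l → ℝ) (s : Fin D.nroots) :
    wR D fd fx a (Sum.inr s) = fd.omrR fx a s.val :=
  Cfsg.Agent.Lib.H22.BT2.wR_inr C a s
theorem omrR_nw (C : Cert12 D fd fx fc fz) (a : Fin fd.l → ℝ) (r s : ℕ) (hr : r < fd.n) (hs : s < fd.n) :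
    fd.omrR fx a (fd.nw fx r s) = fd.omrR fx a s - ((fd.pr s r : ℤ) : ℝ) * fd.omrR fx a r :=
  Cfsg.Agent.Lib.H22.BT2.omrR_nw C a r s hr hs
theorem omrR_sR (C : Cert12 D fd fx fc fz) (a : Fin fd.l → ℝ) (p s : ℕ) (hp : p < fd.n) (hs : s < fd.n) :
    fd.omrR fx (fd.sR fx p a) s = fd.omrR fx a (fd.nw fx p s) :=
  Cfsg.Agent.Lib.H22.BT2.omrR_sR C a p s hp hs
theorem omrR_neg (C : Cert12 D fd fx fc fz) (a : Fin fd.l → ℝ) (r : ℕ) (hr : r < fd.n) :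
    fd.omrR fx a (fd.n - 1 - r) = - fd.omrR fx a r :=
  Cfsg.Agent.Lib.H22.BT2.omrR_neg C a r hr
theorem omrR_simple (C : Cert12 D fd fx fc fz) (a : Fin fd.l → ℝ) (j : Fin fd.l) :
    fd.omrR fx a (fd.simples.getD j.val 0) = a j :=
  Cfsg.Agent.Lib.H22.BT2.omrR_simple C a j
/-- `Q` is invariant under the fundamental reflections (`fd.nw fx p` is an involution of `range fd.n` by
`FD.up_spec` and `FD.nw_spec`) -/
theorem QR_sR (C : Cert12 D fd fx fc fz) (i : ℕ) (hi : i < fd.l) (a : Fin fd.l → ℝ) :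
    fd.QR fx (fd.sR fx (fd.simples.getD i 0) a) = fd.QR fx a :=
  Cfsg.Agent.Lib.H22.BT2.QR_sR C i hi a
theorem QR_parallelogram (a b : Fin fd.l → ℝ) :
    fd.QR fx (fun j => (a j + b j) / 2) + fd.QR fx (fun j => (a j - b j) / 2) = (fd.QR fx a + fd.QR fx b) / 2 :=
  Cfsg.Agent.Lib.H22.BT2.QR_parallelogram a b
theorem sq_le_QR (C : Cert12 D fd fx fc fz) (a : Fin fd.l → ℝ) (j : Fin fd.l) : (a j) ^ 2 ≤ fd.QR fx a :=
  Cfsg.Agent.Lib.H22.BT2.sq_le_QR C a j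
theorem eq_of_QR_half_sub (C : Cert12 D fd fx fc fz) (a b : Fin fd.l → ℝ)
    (h : fd.QR fx (fun j => (a j - b j) / 2) ≤ 0) : a = b :=
  Cfsg.Agent.Lib.H22.BT2.eq_of_QR_half_sub C a b h
/-- a functional is determined by its values on the roots -/
theorem eq_of_omrR_eq (C : Cert12 D fd fx fc fz) (a b : Fin fd.l → ℝ)
    (h : ∀ s < fd.n, fd.omrR fx a s = fd.omrR fx b s) : a = b :=
  Cfsg.Agent.Lib.H22.BT2.eq_of_omrR_eq C a b h
theorem continuous_QR : Continuous (fd.QR fx) :=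
  Cfsg.Agent.Lib.H22.BT2.continuous_QR 
theorem continuous_wR (i : D.Idx) : Continuous fun a : Fin fd.l → ℝ => wR D fd fx a i :=
  Cfsg.Agent.Lib.H22.BT2.continuous_wR i

/-! ## piece MEM : root elements and diagonal elements in the graded subgroups
(templates: `om_grad`, `XR_mem_GwF`, `XR_mem_ZwF` in ChevGen4 / ChevGen48) -/

theorem omR_grad (C : Cert12 D fd fx fc fz) (r k : ℕ) (hr : r < fd.n) (hk : k = 1 ∨ k = 2 ∨ k = 3)
    (a' : Fin fd.l → ℝ) (a b : D.Idx) (hab : aR D F r k a b ≠ 0) :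
    fd.omR fx a' (code D a) = fd.omR fx a' (code D b) + (k : ℝ) * fd.omrR fx a' r :=
  Cfsg.Agent.Lib.H8.BT2.omR_grad C r k hr hk a' a b hab
theorem XR_mem_UW (C : Cert12 D fd fx fc fz) (a : Fin fd.l → ℝ) (r : ℕ) (hr : r < fd.n) (h : 1 ≤ fd.omrR fx a r)
    (t : F) : XR D F r t ∈ UW (wR D fd fx a) :=
  Cfsg.Agent.Lib.H8.BT2.XR_mem_UW C a r hr h t
theorem XR_mem_U0W (C : Cert12 D fd fx fc fz) (a : Fin fd.l → ℝ) (r : ℕ) (hr : r < fd.n) (h : 0 < fd.omrR fx a r)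
    (t : F) : XR D F r t ∈ U0W (wR D fd fx a) :=
  Cfsg.Agent.Lib.H8.BT2.XR_mem_U0W C a r hr h t
theorem XR_mem_PW (C : Cert12 D fd fx fc fz) (a : Fin fd.l → ℝ) (r : ℕ) (hr : r < fd.n) (h : 0 ≤ fd.omrR fx a r)
    (t : F) : XR D F r t ∈ PW (wR D fd fx a) :=
  Cfsg.Agent.Lib.H8.BT2.XR_mem_PW C a r hr h t
theorem XR_mem_TrW (C : Cert12 D fd fx fc fz) (a : Fin fd.l → ℝ) (r : ℕ) (hr : r < fd.n) (h : fd.omrR fx a r = 0)
    (t : F) : XR D F r t ∈ TrW (wR D fd fx a) (wR D fd fx a) :=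
  Cfsg.Agent.Lib.H8.BT2.XR_mem_TrW C a r hr h t

section fin
variable [Finite F]

theorem xA_mem_UWG (C : Cert12 D fd fx fc fz) (a : Fin fd.l → ℝ) (s : ℕ) (hs : s < fd.n) (h : 1 ≤ fd.omrR fx a s)
    (u : F) : C.c6.c2.xA s u ∈ UWG (wR D fd fx a) :=
  Cfsg.Agent.Lib.H8.BT2.xA_mem_UWG C a s hs h u
theorem xA_mem_U0WG (C : Cert12 D fd fx fc fz) (a : Fin fd.l → ℝ) (s : ℕ) (hs : s < fd.n) (h : 0 < fd.omrR fx a s)
    (u : F) : C.c6.c2.xA s u ∈ U0WG (wR D fd fx a) :=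
  Cfsg.Agent.Lib.H8.BT2.xA_mem_U0WG C a s hs h u
theorem xA_mem_PWG (C : Cert12 D fd fx fc fz) (a : Fin fd.l → ℝ) (s : ℕ) (hs : s < fd.n) (h : 0 ≤ fd.omrR fx a s)
    (u : F) : C.c6.c2.xA s u ∈ PWG (wR D fd fx a) :=
  Cfsg.Agent.Lib.H8.BT2.xA_mem_PWG C a s hs h u
theorem xA_mem_ZWG (C : Cert12 D fd fx fc fz) (a : Fin fd.l → ℝ) (s : ℕ) (hs : s < fd.n) (h : fd.omrR fx a s = 0)
    (u : F) : C.c6.c2.xA s u ∈ ZWG (wR D fd fx a) :=
  Cfsg.Agent.Lib.H8.BT2.xA_mem_ZWG C a s hs h u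
/-- (`C.c6.c2.diag_isDiag`) -/
theorem diag_mem_ZWG (C : Cert12 D fd fx fc fz) (a : Fin fd.l → ℝ) (k : GL D.Idx F)
    (hk : k ∈ D.diagonalSubgroup F) : k ∈ ZWG (wR D fd fx a) :=
  Cfsg.Agent.Lib.H8.BT2.diag_mem_ZWG C a k hk

/-! ## piece REL : the elements of `N` transport the functionals
(`nG_val`, `nF_ne_zero`, `nZ_support` give the support of the matrix of `n_p`; `FD.up_spec C.c6.up` the involution;
`TrW_inv_of_both` the inverse; then the induction of `Cert6.perm_of_mem` in ChevGen24, with `TrW_mul`;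
for the diagonal subgroup `π = id`, `a' = a`) -/

theorem nG_TrG (C : Cert12 D fd fx fc fz) (i : ℕ) (hi : i < fd.l) (a : Fin fd.l → ℝ) :
    TrG D fd fx (C.c6.c2.nG (F := F) (fd.simples.getD i 0) (C.c6.c2.simple_lt i hi)) a
      (fd.sR fx (fd.simples.getD i 0) a) ∧
    TrG D fd fx (C.c6.c2.nG (F := F) (fd.simples.getD i 0) (C.c6.c2.simple_lt i hi))⁻¹ a
      (fd.sR fx (fd.simples.getD i 0) a) :=
  Cfsg.Agent.Lib.H29.BT2r.nG_TrG C i hi a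
theorem relN_of_mem (C : Cert12 D fd fx fc fz) (n : GL D.Idx F) (hn : n ∈ D.monomialSubgroup F) :
    C.c6.c2.RelN n ∧ C.c6.c2.RelN n⁻¹ :=
  Cfsg.Agent.Lib.H29.BT2r.relN_of_mem C n hn

/-! ## piece DOM : every functional is carried to a dominant one by an element of `N`
(induction on the number of the positive roots `s` with `omrR a s < 0`: if `a i < 0` reflect in the fundamental
root `p = simples i`; `fd.nw fx p` permutes the positive roots other than `p` (`FD.up_spec`), and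
`omrR (sR p a) p = - omrR a p` because `fd.pr p p = 2` (`FD.lin_spec`); so the number drops by one) -/

theorem exists_dominant (C : Cert12 D fd fx fc fz) (a : Fin fd.l → ℝ) :
    ∃ n : GL D.Idx F, n ∈ D.monomialSubgroup F ∧ ∃ a' : Fin fd.l → ℝ, fd.Dom a' ∧ TrG D fd fx n a a' ∧
      fd.QR fx a' = fd.QR fx a :=
  Cfsg.Agent.Lib.H29.BT2d.exists_dominant C a

/-! ## piece PAR : the parabolic subgroup of a dominant functional, `J = fd.zeroSet a`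
(`C.rcZ_nonneg`, `C.rcZ_nonpos`, `C.pos_of_omr_pos`, `C.omr_aJ_nonneg`, `C.inRootSub_iff_omr`,
`C.eq_xA_of_radical_gen`, `C.xA_mem_radical`, `C.c6.eq_xA_of_rootSubgroup_gen`, `C.c6.c2.borel_mem`,
`C.radical_empty`, `C.radical_sup_levi`, `C.parabolic_le_normalizer`, `C.normalizer_radical`,
`Subgroup.mem_normalizer_fintype`, `C.c6.canonical_form`, `C.c6.Uw_le_borel`) -/

theorem omr_aJ_pos_iff (C : Cert12 D fd fx fc fz) (a : Fin fd.l → ℝ) (ha : fd.Dom a) (s : ℕ) (hs : s < fd.n) :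
    0 < fd.omr fx (aJ (fd.zeroSet a)) s ↔ 0 < fd.omrR fx a s :=
  Cfsg.Agent.Lib.H29.BT2a.omr_aJ_pos_iff C a ha s hs
theorem omr_aJ_zero_iff (C : Cert12 D fd fx fc fz) (a : Fin fd.l → ℝ) (ha : fd.Dom a) (s : ℕ) (hs : s < fd.n) :
    fd.omr fx (aJ (fd.zeroSet a)) s = 0 ↔ fd.omrR fx a s = 0 :=
  Cfsg.Agent.Lib.H29.BT2a.omr_aJ_zero_iff C a ha s hs
theorem omrR_nonneg_of_pos (C : Cert12 D fd fx fc fz) (a : Fin fd.l → ℝ) (ha : fd.Dom a) (s : ℕ) (hs : s < fd.n)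
    (hpos : fd.n / 2 ≤ s) : 0 ≤ fd.omrR fx a s :=
  Cfsg.Agent.Lib.H29.BT2a.omrR_nonneg_of_pos C a ha s hs hpos
theorem borel_le_PWG (C : Cert12 D fd fx fc fz) (a : Fin fd.l → ℝ) (ha : fd.Dom a) :
    D.borelSubgroup F ≤ PWG (wR D fd fx a) :=
  Cfsg.Agent.Lib.H29.BT2a.borel_le_PWG C a ha
theorem radical_le_U0WG (C : Cert12 D fd fx fc fz) (a : Fin fd.l → ℝ) (ha : fd.Dom a) :
    D.unipotentRadical F (fd.zeroSet a) ≤ U0WG (wR D fd fx a) :=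
  Cfsg.Agent.Lib.H29.BT2a.radical_le_U0WG C a ha
theorem levi_le_ZWG (C : Cert12 D fd fx fc fz) (a : Fin fd.l → ℝ) (ha : fd.Dom a) :
    D.leviSubgroup F (fd.zeroSet a) ≤ ZWG (wR D fd fx a) :=
  Cfsg.Agent.Lib.H29.BT2a.levi_le_ZWG C a ha
/-- `P_J = U_J L_J` elementwise (`L_J ≤ P_J` normalises `U_J`) -/
theorem parabolic_decomp (C : Cert12 D fd fx fc fz) (J : Set ℕ) (y : GL D.Idx F)
    (hy : y ∈ D.parabolicSubgroup F J) :
    ∃ u ∈ D.unipotentRadical F J, ∃ m ∈ D.leviSubgroup F J, y = u * m :=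
  Cfsg.Agent.Lib.H29.BT2b.parabolic_decomp C J y hy
/-- an element of `N` whose permutation preserves the values of a dominant functional lies in `P_J`
(it maps the generators `x_s(u)`, `omrR a s > 0`, of `U_J` to such generators; `Subgroup.mem_normalizer_fintype`;
`C.normalizer_radical`) -/
theorem mem_parabolic_of_fix (C : Cert12 D fd fx fc fz) (a : Fin fd.l → ℝ) (ha : fd.Dom a) (n : GL D.Idx F)
    (hn : n ∈ D.monomialSubgroup F) (π : ℕ → ℕ) (hπ : C.c6.c2.Perm n π)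
    (hfix : ∀ s < fd.n, fd.omrR fx a (π s) = fd.omrR fx a s) :
    n ∈ D.parabolicSubgroup F (fd.zeroSet a) :=
  Cfsg.Agent.Lib.H29.BT2b.mem_parabolic_of_fix_aux C a (fd.zeroSet a)
    (fun j hj => by obtain ⟨h, _⟩ := hj; rw [C.c6.c2.rank_eq]; exact h)
    (fun s hs => Cfsg.Agent.Lib.H29.BT2a.omr_aJ_pos_iff C a ha s hs) n hn π hπ hfix
/-- the Bruhat decomposition (`C.c6.canonical_form`, `C.c6.Uw_le_borel`) -/
theorem bruhat_dec (C : Cert12 D fd fx fc fz) (g : GL D.Idx F) (hg : g ∈ D.group F) :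
    ∃ b ∈ D.borelSubgroup F, ∃ n ∈ D.monomialSubgroup F, ∃ b' ∈ D.borelSubgroup F, g = b * n * b' :=
  Cfsg.Agent.Lib.H29.BT2b.bruhat_dec C g hg

/-! ## piece SYL : a `p`-subgroup lies in a conjugate of `U`, and `U` is unipotent of step `≥ 1` for the height
(`C.isPGroup_U1`, `C.not_dvd_index_U1` in ChevAut1: `U1 D F` is a Sylow `p`-subgroup of `↥(D.group F)`;
`C.radical_empty`, `C.radical_le_GwF ∅`, `omR_castF`) -/

theorem exists_conj_le_pos (C : Cert12 D fd fx fc fz) (p : ℕ) [Fact p.Prime] [CharP F p]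
    (V : Subgroup (GL D.Idx F)) (hVG : V ≤ D.group F) (hV : IsPGroup p ↥V) :
    ∃ g ∈ D.group F, ∀ v ∈ V, g⁻¹ * v * g ∈ D.posUnipotent F :=
  Cfsg.Agent.Lib.H27.BT2.exists_conj_le_pos C p V hVG hV
theorem pos_le_UWG (C : Cert12 D fd fx fc fz) : D.posUnipotent F ≤ UWG (wR D fd fx (fd.castF (aJ ∅))) :=
  Cfsg.Agent.Lib.H27.BT2.pos_le_UWG C

/-! ## piece CLO : the admissible functionals form a closed set; a minimiser of `Q`
(`Cfsg.Agent.Lib.H29.BT.isClosed_UW`, `exists_min` in BtBridge; `GL D.Idx F` is finite: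
`Set.Finite.isClosed_biUnion`, `isClosed_iInter`; `continuous_wR`, `continuous_QR`, `sq_le_QR`) -/

theorem isClosed_adm (V : Subgroup (GL D.Idx F)) :
    IsClosed {a : Fin fd.l → ℝ | ∃ g ∈ D.group F, ∀ v ∈ V, g⁻¹ * v * g ∈ UWG (wR D fd fx a)} :=
  Cfsg.Agent.Lib.H24.BT2.isClosed_adm V
theorem exists_minimiser (C : Cert12 D fd fx fc fz) (V : Subgroup (GL D.Idx F))
    (hne : ∃ a : Fin fd.l → ℝ, ∃ g ∈ D.group F, ∀ v ∈ V, g⁻¹ * v * g ∈ UWG (wR D fd fx a)) :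
    ∃ a : Fin fd.l → ℝ, (∃ g ∈ D.group F, ∀ v ∈ V, g⁻¹ * v * g ∈ UWG (wR D fd fx a)) ∧
      ∀ b : Fin fd.l → ℝ, (∃ g ∈ D.group F, ∀ v ∈ V, g⁻¹ * v * g ∈ UWG (wR D fd fx b)) →
        fd.QR fx a ≤ fd.QR fx b :=
  Cfsg.Agent.Lib.H24.BT2.exists_minimiser C V hne

end fin

end Cfsg.Agent.Lib.H29.BT2
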