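import Mathlib
import Cfsg.Prelude.Def_ChevStructure
import Cfsg.Agent.Lib.H29.BtBridge2

/-!
# Borel–Tits (S2154): the generic theorem

A pair `(g, a)` is admissible for the `p`-subgroup `V` when `g⁻¹ V g` is unipotent of step `≥ 1` for the grading of the
real functional `a`.  A minimiser of the Weyl-invariant form `Q` over the admissible functionals, made dominant, is
fixed by every element of `N_G(V)` (parallelogram law + Bruhat decomposition); its parabolic subgroup does the job.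
-/

set_option autoImplicit false
set_option linter.unusedSectionVars false
set_option linter.unusedVariables false

namespace Cfsg.Agent.Lib.H29.BT2

open Cfsg.Lie Matrix Cfsg.Agent.Lib.H29.BT Cfsg.Agent.Lib.H29.Chev

variable {D : ChevalleyDatum} {fd : FD} {fx : FX} {fc : FC} {fz : FZ} {F : Type*} [Field F] [Finite F]

/-- admissible pairs -/
def Adm (D : ChevalleyDatum) (fd : FD) (fx : FX) (V : Subgroup (GL D.Idx F)) (g : GL D.Idx F)
    (a : Fin fd.l → ℝ) : Prop :=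
  g ∈ D.group F ∧ ∀ v ∈ V, g⁻¹ * v * g ∈ UWG (wR D fd fx a)

theorem borel_le_parabolic (J : Set ℕ) : D.borelSubgroup F ≤ D.parabolicSubgroup F J := le_sup_left

/-- an element of `N` that preserves the filtration of a dominant functional lies in its parabolic subgroup -/
theorem mem_parabolic_of_mem_PWG (C : Cert12 D fd fx fc fz) (a : Fin fd.l → ℝ) (ha : fd.Dom a) (n : GL D.Idx F)
    (hn : n ∈ D.monomialSubgroup F) (hnP : n ∈ PWG (wR D fd fx a)) :
    n ∈ D.parabolicSubgroup F (fd.zeroSet a) := by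
  obtain ⟨⟨π, hπ, hrel⟩, _⟩ := relN_of_mem C n hn
  obtain ⟨a', ⟨htr, _⟩, hperm, _⟩ := hrel a
  have hle : ∀ i, wR D fd fx a' i ≤ wR D fd fx a i := fun i => le_of_TrW_PW _ _ n htr hnP i
  have heq : a' = a := by
    apply eq_of_omrR_eq C
    intro s hs
    have hev := C.c6.c2.heven
    have hs' : s < D.nroots := by rw [C.c6.c2.nroots_eq]; exact hs
    have hns : fd.n - 1 - s < D.nroots := by rw [C.c6.c2.nroots_eq]; omega
    have h1 := hle (Sum.inr ⟨s, hs'⟩)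
    have h2 := hle (Sum.inr ⟨fd.n - 1 - s, hns⟩)
    rw [wR_inr C, wR_inr C] at h1 h2
    simp only at h1 h2
    rw [omrR_neg C _ s hs, omrR_neg C _ s hs] at h2
    linarith
  rw [heq] at hperm
  exact mem_parabolic_of_fix C a ha n hn π hπ hperm

/-- `G ∩ U(a) ≤ U_J` for a dominant functional `a` with zero set `J` -/
theorem mem_radical_of_mem_UWG (C : Cert12 D fd fx fc fz) (a : Fin fd.l → ℝ) (ha : fd.Dom a) (y : GL D.Idx F)
    (hyG : y ∈ D.group F) (hy : y ∈ UWG (wR D fd fx a)) : y ∈ D.unipotentRadical F (fd.zeroSet a) := by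
  obtain ⟨b, hb, n, hn, b', hb', rfl⟩ := bruhat_dec C y hyG
  have hB : D.borelSubgroup F ≤ PWG (wR D fd fx a) := borel_le_PWG C a ha
  have hnP : n ∈ PWG (wR D fd fx a) := by
    have : n = b⁻¹ * (b * n * b') * b'⁻¹ := by group
    rw [this]
    exact mul_mem (mul_mem (inv_mem (hB hb)) (U0WG_le_PWG _ (UWG_le_U0WG _ hy))) (inv_mem (hB hb'))
  have hnPJ := mem_parabolic_of_mem_PWG C a ha n hn hnP
  have hyP : b * n * b' ∈ D.parabolicSubgroup F (fd.zeroSet a) :=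
    mul_mem (mul_mem (borel_le_parabolic _ hb) hnPJ) (borel_le_parabolic _ hb')
  obtain ⟨u, hu, m, hm, e⟩ := parabolic_decomp C _ _ hyP
  have hm1 : m = 1 := by
    apply eq_one_of_ZWG_U0WG (wR D fd fx a) m (levi_le_ZWG C a ha hm)
    have : m = u⁻¹ * (b * n * b') := by rw [e]; group
    rw [this]
    exact mul_mem (inv_mem (radical_le_U0WG C a ha hu)) (UWG_le_U0WG _ hy)
  rw [e, hm1, mul_one]
  exact hu

/-- the normaliser of `V` fixes a dominant minimiser -/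
theorem conj_mem_parabolic (C : Cert12 D fd fx fc fz) (V : Subgroup (GL D.Idx F)) (g : GL D.Idx F)
    (a : Fin fd.l → ℝ) (hadm : Adm D fd fx V g a) (ha : fd.Dom a)
    (hmin : ∀ g' b, Adm D fd fx V g' b → fd.QR fx a ≤ fd.QR fx b)
    (x : GL D.Idx F) (hxN : x ∈ Subgroup.normalizer (V : Set (GL D.Idx F))) (hxG : x ∈ D.group F) :
    g⁻¹ * x * g ∈ D.parabolicSubgroup F (fd.zeroSet a) := by
  obtain ⟨hgG, hgV⟩ := hadm
  have hyG : g⁻¹ * x * g ∈ D.group F := mul_mem (mul_mem (inv_mem hgG) hxG) hgG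
  obtain ⟨b, hb, n, hn, b', hb', e⟩ := bruhat_dec C _ hyG
  have hB : D.borelSubgroup F ≤ PWG (wR D fd fx a) := borel_le_PWG C a ha
  obtain ⟨⟨π, hπ, hrel⟩, _⟩ := relN_of_mem C n hn
  obtain ⟨a', htr, hperm, hQ⟩ := hrel a
  -- the pair `(g b, (a + a') / 2)` is admissible
  have hadm' : Adm D fd fx V (g * b) (fun j => (a j + a' j) / 2) := by
    refine ⟨mul_mem hgG (C.c6.c2.borel_le_group hb), fun v hv => ?_⟩
    rw [← wR_mid]
    apply UWG_mid
    · have : (g * b)⁻¹ * v * (g * b) = b⁻¹ * (g⁻¹ * v * g) * b⁻¹⁻¹ := by group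
      rw [this]
      exact conj_mem_UWG_of_PWG _ _ _ (inv_mem (hB hb)) (hgV v hv)
    · -- `v = x v' x⁻¹` with `v' ∈ V`
      have hv' : x⁻¹ * v * x⁻¹⁻¹ ∈ V := (Subgroup.mem_normalizer_iff.mp (inv_mem hxN) v).mp hv
      have h1 : b' * (g⁻¹ * (x⁻¹ * v * x⁻¹⁻¹) * g) * b'⁻¹ ∈ UWG (wR D fd fx a) :=
        conj_mem_UWG_of_PWG _ _ _ (hB hb') (hgV _ hv')
      have h2 := conj_mem_UWG_of_TrW (wR D fd fx a) (wR D fd fx a') n _ htr.1 htr.2 h1
      have : (g * b)⁻¹ * v * (g * b) =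
          n * (b' * (g⁻¹ * (x⁻¹ * v * x⁻¹⁻¹) * g) * b'⁻¹) * n⁻¹ := by
        have e1 : b⁻¹ * (g⁻¹ * x * g) = n * b' := by rw [e]; group
        have e2 : (g⁻¹ * x * g)⁻¹ * b = b'⁻¹ * n⁻¹ := by rw [e]; group
        calc (g * b)⁻¹ * v * (g * b)
            = (b⁻¹ * (g⁻¹ * x * g)) * (g⁻¹ * (x⁻¹ * v * x⁻¹⁻¹) * g) * ((g⁻¹ * x * g)⁻¹ * b) := by group
          _ = n * (b' * (g⁻¹ * (x⁻¹ * v * x⁻¹⁻¹) * g) * b'⁻¹) * n⁻¹ := by rw [e1, e2]; group
      rw [this]
      exact h2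
  have h3 := hmin _ _ hadm'
  have h4 := QR_parallelogram (fd := fd) (fx := fx) a a'
  have h5 : fd.QR fx (fun j => (a j - a' j) / 2) ≤ 0 := by linarith
  have heq : a = a' := eq_of_QR_half_sub C a a' h5
  rw [← heq] at hperm
  have hnPJ := mem_parabolic_of_fix C a ha n hn π hπ hperm
  rw [e]
  exact mul_mem (mul_mem (borel_le_parabolic _ hb) hnPJ) (borel_le_parabolic _ hb')

/-- **Borel–Tits** for a Chevalley datum with a certificate -/
theorem borel_tits (C : Cert12 D fd fx fc fz) (p : ℕ) [Fact p.Prime] [CharP F p]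
    (U : Subgroup (GL D.Idx F)) (hUG : U ≤ D.group F) (hU : IsPGroup p ↥U) (hne : U ≠ ⊥) :
    ∃ g ∈ D.group F, ∃ J : Set ℕ, (∃ i, i < D.rank ∧ i ∉ J) ∧
      Subgroup.normalizer (U : Set (GL D.Idx F)) ⊓ D.group F ≤
        (D.parabolicSubgroup F J).map (MulAut.conj g).toMonoidHom ∧
      U ≤ (D.unipotentRadical F J).map (MulAut.conj g).toMonoidHom := by
  -- a first admissible pair, from Sylow's theorem
  obtain ⟨g0, hg0, h0⟩ := exists_conj_le_pos C p U hUG hU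
  have hne' : ∃ a : Fin fd.l → ℝ, ∃ g ∈ D.group F, ∀ v ∈ U, g⁻¹ * v * g ∈ UWG (wR D fd fx a) :=
    ⟨fd.castF (aJ ∅), g0, hg0, fun v hv => pos_le_UWG C (h0 v hv)⟩
  -- a minimiser
  obtain ⟨a0, ⟨g1, hg1, h1⟩, hmin0⟩ := exists_minimiser C U hne'
  -- made dominant
  obtain ⟨n, hn, a1, hdom, htr, hQ⟩ := exists_dominant (F := F) C a0
  have hnG : n ∈ D.group F := C.c6.c2.monomial_le_group hn
  have hadm : Adm D fd fx U (g1 * n⁻¹) a1 := by
    refine ⟨mul_mem hg1 (inv_mem hnG), fun v hv => ?_⟩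
    have : (g1 * n⁻¹)⁻¹ * v * (g1 * n⁻¹) = n * (g1⁻¹ * v * g1) * n⁻¹ := by group
    rw [this]
    exact conj_mem_UWG_of_TrW (wR D fd fx a0) (wR D fd fx a1) n _ htr.1 htr.2 (h1 v hv)
  have hmin : ∀ g' b, Adm D fd fx U g' b → fd.QR fx a1 ≤ fd.QR fx b := by
    intro g' b hb
    rw [hQ]
    exact hmin0 b ⟨g', hb.1, hb.2⟩
  -- the minimiser is not zero
  have hnz : ∃ j : Fin fd.l, a1 j ≠ 0 := by
    by_contra hcon
    have hz : a1 = fun _ => 0 := by
      funext j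
      by_contra hj
      exact hcon ⟨j, hj⟩
    apply hne
    rw [eq_bot_iff]
    intro v hv
    rw [Subgroup.mem_bot]
    have h2 := hadm.2 v hv
    rw [hz, wR_zero] at h2
    have h3 := eq_one_of_UWG_zero _ h2
    have : v = (g1 * n⁻¹) * ((g1 * n⁻¹)⁻¹ * v * (g1 * n⁻¹)) * (g1 * n⁻¹)⁻¹ := by group
    rw [this, h3]
    group
  obtain ⟨j, hj⟩ := hnz
  refine ⟨g1 * n⁻¹, hadm.1, fd.zeroSet a1, ⟨j.val, by rw [C.c6.c2.rank_eq]; exact j.isLt, ?_⟩, ?_, ?_⟩
  · rintro ⟨h, h0⟩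
    exact hj h0
  · rintro x ⟨hxN, hxG⟩
    have := conj_mem_parabolic C U _ a1 hadm hdom hmin x hxN hxG
    rw [Subgroup.mem_map]
    refine ⟨_, this, ?_⟩
    simp only [MulEquiv.coe_toMonoidHom, MulAut.conj_apply]
    group
  · intro v hv
    have hvG : (g1 * n⁻¹)⁻¹ * v * (g1 * n⁻¹) ∈ D.group F :=
      mul_mem (mul_mem (inv_mem hadm.1) (hUG hv)) hadm.1
    have := mem_radical_of_mem_UWG C a1 hdom _ hvG (hadm.2 v hv)
    rw [Subgroup.mem_map]
    refine ⟨_, this, ?_⟩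
    simp only [MulEquiv.coe_toMonoidHom, MulAut.conj_apply]
    group

end Cfsg.Agent.Lib.H29.BT2
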