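import Cfsg.Agent.Lib.H1.C3MaxDefs
import Cfsg.Agent.Lib.H1.C3MaxNorm

/-!
# S5886-P3, part a: the groups `T_a` of transvection functionals, K-dilatransvections, duality

`InT X a φ` : `φ a = 0` and the `F`-transvection `1 + a ⊗ φ` lies in `X`.
-/

set_option autoImplicit false

namespace Cfsg.Agent.Lib.H29.C3Max

open Module Cfsg.Agent.Lib.H1.C3Max

variable {F K V : Type*} [Field F] [Field K] [Algebra F K] [AddCommGroup V] [Module F V]
  [Module K V] [IsScalarTower F K V]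

/-- `φ a = 0` and the transvection `v ↦ v + φ v • a` lies in `X`. -/
def InT (X : Subgroup (V ≃ₗ[F] V)) (a : V) (φ : Dual F V) : Prop :=
  φ a = 0 ∧ ∃ e ∈ X, ∀ v, e v = v + φ v • a

theorem InT.add {X : Subgroup (V ≃ₗ[F] V)} {a : V} {φ ψ : Dual F V}
    (h₁ : InT X a φ) (h₂ : InT X a ψ) : InT X a (φ + ψ) := by
  obtain ⟨h1, e₁, he₁X, he₁⟩ := h₁
  obtain ⟨h2, e₂, he₂X, he₂⟩ := h₂
  refine ⟨by simp [h1, h2], e₁ * e₂, X.mul_mem he₁X he₂X, fun v => ?_⟩
  rw [LinearEquiv.mul_apply, he₁, he₂]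
  simp only [map_add, map_smul, h1, smul_zero, add_zero, LinearMap.add_apply, add_smul]
  abel

theorem InT.neg {X : Subgroup (V ≃ₗ[F] V)} {a : V} {φ : Dual F V}
    (h₁ : InT X a φ) : InT X a (-φ) := by
  obtain ⟨h1, e₁, he₁X, he₁⟩ := h₁
  refine ⟨by simp [h1], e₁⁻¹, X.inv_mem he₁X, fun v => ?_⟩
  change e₁.symm v = _
  rw [LinearEquiv.symm_apply_eq, he₁]
  simp only [map_add, map_smul, map_neg, h1, smul_zero, add_zero, LinearMap.neg_apply, neg_smul,
    neg_zero]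
  abel

theorem InT.sub {X : Subgroup (V ≃ₗ[F] V)} {a : V} {φ ψ : Dual F V}
    (h₁ : InT X a φ) (h₂ : InT X a ψ) : InT X a (φ - ψ) := by
  rw [sub_eq_add_neg]
  exact h₁.add h₂.neg

/-- conjugation: `h (1 + a ⊗ φ) h⁻¹ = 1 + h a ⊗ (φ ∘ h⁻¹)` -/
theorem InT.conj {X : Subgroup (V ≃ₗ[F] V)} {a : V} {φ : Dual F V}
    (h₁ : InT X a φ) {h : V ≃ₗ[F] V} (hh : h ∈ X) :
    InT X (h a) (φ ∘ₗ (h.symm : V →ₗ[F] V)) := by
  obtain ⟨h1, e₁, he₁X, he₁⟩ := h₁
  refine ⟨by simp [h1], h * e₁ * h⁻¹, X.mul_mem (X.mul_mem hh he₁X) (X.inv_mem hh), fun v => ?_⟩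
  rw [LinearEquiv.mul_apply, LinearEquiv.mul_apply]
  change h (e₁ (h.symm v)) = _
  rw [he₁]
  simp

/-- conjugation the other way: `h⁻¹ (1 + a ⊗ φ) h = 1 + h⁻¹ a ⊗ (φ ∘ h)` -/
theorem InT.conj' {X : Subgroup (V ≃ₗ[F] V)} {a : V} {φ : Dual F V}
    (h₁ : InT X a φ) {h : V ≃ₗ[F] V} (hh : h ∈ X) :
    InT X (h.symm a) (φ ∘ₗ (h : V →ₗ[F] V)) := by
  have := h₁.conj (h := h.symm) (X.inv_mem hh)
  simpa using this

theorem InT.congr {X : Subgroup (V ≃ₗ[F] V)} {a a' : V} {φ φ' : Dual F V}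
    (h₁ : InT X a φ) (ha : a = a') (hφ : ∀ v, φ v = φ' v) : InT X a' φ' := by
  have : φ = φ' := LinearMap.ext hφ
  subst ha; subst this; exact h₁

/-- the K-dilatransvection `x ↦ x + f x • v` as an element of `X` -/
theorem exists_dil_mem [Module.Finite F K] {X : Subgroup (V ≃ₗ[F] V)} (hD : HasD K X)
    (f : Dual K V) (v : V)
    (hN : Algebra.norm F (1 + f v) = 1) :
    ∃ e ∈ X, ∀ x, e x = x + f x • v := by
  have hu : IsUnit (1 + f v) := by
    rw [isUnit_iff_ne_zero]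
    intro h0
    rw [h0, Algebra.norm_zero] at hN
    exact zero_ne_one hN
  let e : V ≃ₗ[F] V := (LinearEquiv.dilatransvection hu).restrictScalars F
  have he : ∀ x, e x = x + f x • v := fun x => LinearEquiv.dilatransvection.apply (h := hu)
  exact ⟨e, hD f v e he hN, he⟩

/-- K-transvections are in `X` -/
theorem exists_tv_mem [Module.Finite F K] {X : Subgroup (V ≃ₗ[F] V)} (hD : HasD K X)
    (f : Dual K V) (v : V)
    (hfv : f v = 0) :
    ∃ e ∈ X, ∀ x, e x = x + f x • v :=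
  exists_dil_mem hD f v (by rw [hfv, add_zero, map_one])

/-- a K-functional with value 1 at `x ∉ p`, vanishing on `p` -/
theorem exists_dualK_eq_one {p : Submodule K V} {x : V} (hx : x ∉ p) :
    ∃ f : Dual K V, f x = 1 ∧ ∀ y ∈ p, f y = 0 := by
  obtain ⟨f, hfx, hpf⟩ := Submodule.exists_le_ker_of_notMem hx
  refine ⟨(f x)⁻¹ • f, by simp [hfx], fun y hy => ?_⟩
  have : f y = 0 := hpf hy
  simp [this]

/-- an F-functional with value 1 at `x ∉ p`, vanishing on `p` -/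
theorem exists_dualF_eq_one {p : Submodule F V} {x : V} (hx : x ∉ p) :
    ∃ f : Dual F V, f x = 1 ∧ ∀ y ∈ p, f y = 0 := by
  obtain ⟨f, hfx, hpf⟩ := Submodule.exists_le_ker_of_notMem hx
  refine ⟨(f x)⁻¹ • f, by simp [hfx], fun y hy => ?_⟩
  have : f y = 0 := hpf hy
  simp [this]

theorem notMem_kline_iff {a c : V} : c ∉ kline F K a ↔ c ∉ Submodule.span K {a} := by
  unfold kline
  rw [Submodule.restrictScalars_mem]

/-- `c ∉ K a` : a K-functional with `f a = 0`, `f c = 1` -/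
theorem exists_dualK_zero_one {a c : V} (hc : c ∉ kline F K a) :
    ∃ f : Dual K V, f a = 0 ∧ f c = 1 := by
  obtain ⟨f, h1, h2⟩ := exists_dualK_eq_one (notMem_kline_iff.mp hc)
  exact ⟨f, h2 a (Submodule.mem_span_singleton_self a), h1⟩

theorem notMem_kline_symm {a c : V} (ha : a ≠ 0) (hc : c ∉ kline F K a) : a ∉ kline F K c := by
  intro h
  obtain ⟨κ, hκ⟩ := mem_kline.mp h
  have hκ0 : κ ≠ 0 := by
    rintro rfl
    rw [zero_smul] at hκ
    exact ha hκ.symm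
  apply hc
  refine mem_kline.mpr ⟨κ⁻¹, ?_⟩
  rw [← hκ, smul_smul, inv_mul_cancel₀ hκ0, one_smul]

/-- `c ∉ K a`, `a ≠ 0` : a K-functional with `f a = 1`, `f c = 1` -/
theorem exists_dualK_one_one {a c : V} (ha : a ≠ 0) (hc : c ∉ kline F K a) :
    ∃ f : Dual K V, f a = 1 ∧ f c = 1 := by
  obtain ⟨f₁, h1, h2⟩ := exists_dualK_zero_one hc
  obtain ⟨f₂, h3, h4⟩ := exists_dualK_zero_one (notMem_kline_symm ha hc)
  exact ⟨f₁ + f₂, by simp [h1, h4], by simp [h2, h3]⟩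

/-- DUALITY: for `θ : K →ₗ[F] F` nonzero, every `χ : Dual F V` is `θ ∘ f` for a unique `f : Dual K V`. -/
theorem exists_dualK_comp [Module.Finite F K] [Module.Finite K V] (θ : K →ₗ[F] F) (hθ : θ ≠ 0)
    (χ : Dual F V) : ∃ f : Dual K V, ∀ x, χ x = θ (f x) := by
  let Φ : Dual K V →ₗ[F] Dual F V :=
    { toFun := fun f => θ ∘ₗ f.restrictScalars F
      map_add' := by intro f₁ f₂; ext x; simp
      map_smul' := by intro c f; ext x; simp }
  have hΦ : ∀ f x, Φ f x = θ (f x) := fun f x => rfl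
  have hinj : Function.Injective Φ := by
    rw [← LinearMap.ker_eq_bot, LinearMap.ker_eq_bot']
    intro f hf
    by_contra hf0
    obtain ⟨x₀, hx₀⟩ : ∃ x₀, f x₀ ≠ 0 := by
      by_contra hcon
      push Not at hcon
      exact hf0 (LinearMap.ext hcon)
    apply hθ
    ext κ
    have := hΦ f ((κ / f x₀) • x₀)
    rw [hf] at this
    simp only [LinearMap.zero_apply, map_smul, smul_eq_mul] at this
    rw [div_mul_cancel₀ _ hx₀] at this
    simpa using this.symm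
  have : Module.Finite F V := Module.Finite.trans K V
  have : Module.Finite F (Dual K V) := Module.Finite.trans K _
  have hfr : finrank F (Dual K V) = finrank F (Dual F V) := by
    rw [← Module.finrank_mul_finrank F K (Dual K V), Subspace.dual_finrank_eq,
      Subspace.dual_finrank_eq, Module.finrank_mul_finrank F K V]
  have hsurj : Function.Surjective Φ :=
    (LinearMap.injective_iff_surjective_of_finrank_eq_finrank hfr).mp hinj
  obtain ⟨f, hf⟩ := hsurj χ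
  exact ⟨f, fun x => by rw [← hf, hΦ]⟩

/-- DUALITY (1): every `χ` killing `K a` is `θ ∘ f` with `f a = 0`. -/
theorem exists_dualK_of_kills [Module.Finite F K] [Module.Finite K V] (θ : K →ₗ[F] F)
    (hθ : θ ≠ 0) (a : V) (χ : Dual F V) (hχ : ∀ κ : K, χ (κ • a) = 0) :
    ∃ f : Dual K V, f a = 0 ∧ ∀ x, χ x = θ (f x) := by
  obtain ⟨f, hf⟩ := exists_dualK_comp θ hθ χ
  refine ⟨f, ?_, hf⟩
  by_contra hfa
  apply hθ
  ext κ
  have := hf ((κ / f a) • a)
  rw [hχ] at this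
  simp only [map_smul, smul_eq_mul] at this
  rw [div_mul_cancel₀ _ hfa] at this
  simpa using this.symm

end Cfsg.Agent.Lib.H29.C3Max
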