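import Cfsg.Agent.Lib.H29.C3MaxP3a

/-!
# S5886-P3, part b: the steps (2)-(5)
-/

set_option autoImplicit false

namespace Cfsg.Agent.Lib.H29.C3Max

open Module Cfsg.Agent.Lib.H1.C3Max

variable {F K V : Type*} [Field F] [Field K] [Algebra F K] [AddCommGroup V] [Module F V]
  [Module K V] [IsScalarTower F K V]

/-- (2a): `φ ∈ T_b` with `φ (K b) ≠ 0` gives `T_b ⊇ (K b)^⊥`. -/
theorem inT_of_kills_kline [Module.Finite F K] [Module.Finite K V] {X : Subgroup (V ≃ₗ[F] V)}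
    (hD : HasD K X) {b : V} {φ : Dual F V} (hφ : InT X b φ) (κ₀ : K) (hκ₀ : φ (κ₀ • b) ≠ 0)
    (χ : Dual F V) (hχ : ∀ κ : K, χ (κ • b) = 0) : InT X b χ := by
  let θ : K →ₗ[F] F := φ ∘ₗ (LinearMap.toSpanSingleton K V b).restrictScalars F
  have hθa : ∀ κ, θ κ = φ (κ • b) := fun κ => rfl
  have hθ : θ ≠ 0 := by
    intro h
    apply hκ₀
    rw [← hθa, h, LinearMap.zero_apply]
  obtain ⟨f, hfb, hf⟩ := exists_dualK_of_kills θ hθ b χ hχ
  obtain ⟨u, huX, hu⟩ := exists_tv_mem hD f b hfb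
  have hub : u.symm b = b := by
    rw [LinearEquiv.symm_apply_eq, hu, hfb, zero_smul, add_zero]
  have h0 : InT X b (φ ∘ₗ (u : V →ₗ[F] V)) := (hφ.conj' huX).congr hub (fun _ => rfl)
  have h1 := h0.sub hφ
  refine h1.congr rfl (fun v => ?_)
  simp only [LinearMap.sub_apply, LinearMap.comp_apply, LinearEquiv.coe_coe, hu, map_add]
  rw [hf, hθa]
  abel

/-- (2b): the same for `L' = g (K a₁)`, `b ∈ L'`, `g ∈ X`. -/
theorem inT_of_kills_map [Module.Finite F K] [Module.Finite K V] {X : Subgroup (V ≃ₗ[F] V)}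
    (hD : HasD K X) {b a₁ : V} {g : V ≃ₗ[F] V} (hg : g ∈ X) (hb : b ≠ 0)
    (hbL : b ∈ (kline F K a₁).map (g : V →ₗ[F] V)) {φ : Dual F V} (hφ : InT X b φ)
    (y : V) (hy : y ∈ (kline F K a₁).map (g : V →ₗ[F] V)) (hφy : φ y ≠ 0)
    (χ : Dual F V) (hχ : ∀ y ∈ (kline F K a₁).map (g : V →ₗ[F] V), χ y = 0) : InT X b χ := by
  obtain ⟨a', ha', rfl⟩ := hbL
  obtain ⟨β, rfl⟩ := mem_kline.mp ha'
  obtain ⟨y', hy', rfl⟩ := hy
  obtain ⟨μ, rfl⟩ := mem_kline.mp hy'
  have hβ : β ≠ 0 := by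
    rintro rfl
    apply hb
    simp
  simp only [LinearEquiv.coe_coe] at *
  have h1 : InT X (β • a₁) (φ ∘ₗ (g : V →ₗ[F] V)) := by
    have := hφ.conj' hg
    rwa [LinearEquiv.symm_apply_apply] at this
  have h2 : InT X (β • a₁) (χ ∘ₗ (g : V →ₗ[F] V)) := by
    refine inT_of_kills_kline hD h1 (μ / β) ?_ _ ?_
    · rw [smul_smul, div_mul_cancel₀ _ hβ]
      exact hφy
    · intro κ
      rw [smul_smul]
      exact hχ _ ⟨_, smul_mem_kline a₁ _, rfl⟩
  have h3 := h2.conj hg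
  refine h3.congr rfl (fun v => ?_)
  simp

/-- (3): make `φ e' ≠ 0` -/
theorem exists_inT_ne [Finite F] [Module.Finite F K] [Module.Finite K V]
    {X : Subgroup (V ≃ₗ[F] V)}
    (hD : HasD K X) {b e' : V} (he' : e' ∉ kline F K b) {φ : Dual F V} (hφ0 : φ ≠ 0)
    (hφL : ∀ κ : K, φ (κ • b) = 0) (hφ : InT X b φ) : ∃ φ', InT X b φ' ∧ φ' e' ≠ 0 := by
  by_cases h0 : φ e' ≠ 0
  · exact ⟨φ, hφ, h0⟩
  push Not at h0
  by_cases hW : Submodule.span K {b, e'} = ⊤
  · -- V = K b + K e' : homology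
    have hex : ∃ μ : K, φ (μ • e') ≠ 0 := by
      by_contra hcon
      push Not at hcon
      apply hφ0
      ext x
      have hx : x ∈ Submodule.span K {b, e'} := by rw [hW]; trivial
      obtain ⟨κ, μ, rfl⟩ := Submodule.mem_span_pair.mp hx
      rw [map_add, hφL, hcon, add_zero, LinearMap.zero_apply]
    let θ : K →ₗ[F] F := φ ∘ₗ (LinearMap.toSpanSingleton K V e').restrictScalars F
    have hθa : ∀ κ, θ κ = φ (κ • e') := fun κ => rfl
    have hker : LinearMap.ker θ ≠ ⊤ := by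
      intro h
      obtain ⟨μ, hμ⟩ := hex
      apply hμ
      rw [← hθa, ← LinearMap.mem_ker, h]
      trivial
    obtain ⟨α, hα, hαD⟩ := exists_norm_one_mul_notMem (LinearMap.ker θ) hker 1 one_ne_zero
    rw [mul_one, LinearMap.mem_ker, hθa] at hαD
    obtain ⟨f, hfb, hfe⟩ := exists_dualK_zero_one he'
    obtain ⟨h, hhX, hh⟩ := exists_dil_mem hD ((α - 1) • f) e'
      (by simp [hfe, hα])
    have hhb : h.symm b = b := by
      rw [LinearEquiv.symm_apply_eq, hh]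
      simp [hfb]
    refine ⟨_, (hφ.conj' hhX).congr hhb (fun _ => rfl), ?_⟩
    simp only [LinearMap.comp_apply, LinearEquiv.coe_coe, hh, LinearMap.smul_apply, hfe,
      smul_eq_mul, mul_one]
    have hαe : e' + (α - 1) • e' = α • e' := by rw [sub_smul, one_smul]; abel
    rw [hαe]
    exact hαD
  · -- a third K-independent vector: transvection
    obtain ⟨w₁, hw₁⟩ : ∃ w₁, w₁ ∉ Submodule.span K {b, e'} := by
      by_contra hcon
      push Not at hcon
      exact hW (eq_top_iff.mpr fun x _ => hcon x)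
    obtain ⟨w₂, hw₂⟩ : ∃ w₂, φ w₂ ≠ 0 := by
      by_contra hcon
      push Not at hcon
      exact hφ0 (LinearMap.ext hcon)
    obtain ⟨w', hw'W, hw'φ⟩ : ∃ w', w' ∉ Submodule.span K {b, e'} ∧ φ w' ≠ 0 := by
      by_cases h1 : φ w₁ ≠ 0
      · exact ⟨w₁, hw₁, h1⟩
      push Not at h1
      by_cases h2 : w₂ ∉ Submodule.span K {b, e'}
      · exact ⟨w₂, h2, hw₂⟩
      push Not at h2
      refine ⟨w₁ + w₂, fun h => hw₁ ?_, by rw [map_add, h1, zero_add]; exact hw₂⟩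
      have := Submodule.sub_mem _ h h2
      rwa [add_sub_cancel_right] at this
    have he'p : e' ∉ Submodule.span K {b, w'} := by
      intro h
      obtain ⟨κ, μ, hκμ⟩ := Submodule.mem_span_pair.mp h
      by_cases hμ : μ = 0
      · apply he'
        rw [hμ, zero_smul, add_zero] at hκμ
        exact mem_kline.mpr ⟨κ, hκμ⟩
      · apply hw'W
        have : w' = μ⁻¹ • e' - (μ⁻¹ * κ) • b := by
          rw [← hκμ, smul_add, smul_smul, smul_smul, inv_mul_cancel₀ hμ, one_smul]; abel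
        rw [this]
        exact Submodule.sub_mem _ (Submodule.smul_mem _ _ (Submodule.subset_span (by simp)))
          (Submodule.smul_mem _ _ (Submodule.subset_span (by simp)))
    obtain ⟨f, hfe, hfp⟩ := exists_dualK_eq_one he'p
    have hfb : f b = 0 := hfp b (Submodule.subset_span (by simp))
    have hfw : f w' = 0 := hfp w' (Submodule.subset_span (by simp))
    obtain ⟨t, htX, ht⟩ := exists_tv_mem hD f w' hfw
    have htb : t.symm b = b := by
      rw [LinearEquiv.symm_apply_eq, ht, hfb, zero_smul, add_zero]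
    refine ⟨_, (hφ.conj' htX).congr htb (fun _ => rfl), ?_⟩
    simp only [LinearMap.comp_apply, LinearEquiv.coe_coe, ht, hfe, one_smul, map_add, h0,
      zero_add]
    exact hw'φ

/-- (4) transitivity: `T_b ⊇ (K b)^⊥` and `a' ∉ K b` give `T_a' ⊇ (K a')^⊥` -/
theorem perp_of_perp [Module.Finite F K] {X : Subgroup (V ≃ₗ[F] V)} (hD : HasD K X) {b a' : V}
    (hb : b ≠ 0) (ha' : a' ∉ kline F K b)
    (hP : ∀ χ : Dual F V, (∀ κ : K, χ (κ • b) = 0) → InT X b χ) :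
    ∀ χ : Dual F V, (∀ κ : K, χ (κ • a') = 0) → InT X a' χ := by
  intro χ hχ
  obtain ⟨f, hfb, hfa⟩ := exists_dualK_one_one hb ha'
  obtain ⟨t, htX, ht⟩ := exists_tv_mem hD f (a' - b) (by rw [map_sub, hfa, hfb, sub_self])
  have htκ : ∀ κ : K, t (κ • b) = κ • a' := by
    intro κ
    rw [ht, map_smul, hfb, smul_eq_mul, mul_one, smul_sub]; abel
  have h1 : InT X b (χ ∘ₗ (t : V →ₗ[F] V)) := hP _ (fun κ => by
    rw [LinearMap.comp_apply, LinearEquiv.coe_coe, htκ, hχ])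
  have h2 := h1.conj htX
  have htb : t b = a' := by simpa using htκ 1
  refine h2.congr htb (fun v => ?_)
  simp

/-- (5): from the `(K a)^⊥` to all of `a^⊥` by a commutator -/
theorem inT_of_perp {X : Subgroup (V ≃ₗ[F] V)} {a c : V} (ha : a ≠ 0)
    (hc : c ∉ kline F K a)
    (hPa : ∀ χ : Dual F V, (∀ κ : K, χ (κ • a) = 0) → InT X a χ)
    (hPc : ∀ χ : Dual F V, (∀ κ : K, χ (κ • c) = 0) → InT X c χ)
    (φ : Dual F V) (hφa : φ a = 0) : InT X a φ := by
  -- projection onto K a killing c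
  obtain ⟨f, hfc, hfa⟩ := exists_dualK_zero_one (notMem_kline_symm ha hc)
  let φ₂ : Dual F V :=
    φ ∘ₗ ((LinearMap.toSpanSingleton K V a).restrictScalars F) ∘ₗ (f.restrictScalars F)
  have hφ₂ : ∀ x, φ₂ x = φ (f x • a) := fun x => rfl
  have h1 : InT X a (φ - φ₂) := hPa _ (fun κ => by
    rw [LinearMap.sub_apply, hφ₂, f.map_smul, hfa, smul_eq_mul, mul_one, sub_self])
  have hφ₂c : InT X c φ₂ := hPc _ (fun κ => by
    rw [hφ₂, f.map_smul, hfc, smul_eq_mul, mul_zero, zero_smul, map_zero])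
  have hφ₂a : φ₂ a = 0 := by rw [hφ₂, hfa, one_smul, hφa]
  -- χ ∈ (K a)^⊥ with χ c = 1
  obtain ⟨χ, hχc, hχa⟩ := exists_dualF_eq_one hc
  have hχ : InT X a χ := hPa χ (fun κ => hχa _ (smul_mem_kline a κ))
  -- commutator
  have h2 : InT X a φ₂ := by
    obtain ⟨-, e₁', he₁'X, he₁'⟩ := hχ.neg
    obtain ⟨-, e₂', he₂'X, he₂'⟩ := hφ₂c.neg
    obtain ⟨hχa0, e₁, he₁X, he₁⟩ := hχ
    obtain ⟨hφ₂c0, e₂, he₂X, he₂⟩ := hφ₂c
    refine ⟨hφ₂a, e₁ * e₂ * e₁' * e₂',
      X.mul_mem (X.mul_mem (X.mul_mem he₁X he₂X) he₁'X) he₂'X, fun v => ?_⟩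
    simp only [LinearEquiv.mul_apply, he₁, he₂, he₁', he₂', map_add, map_smul, map_neg,
      LinearMap.neg_apply, hχa0, hφ₂c0, hφ₂a, hχc, smul_eq_mul, mul_one,
      add_zero, neg_smul]
    module
  have := h1.add h2
  exact this.congr rfl (fun v => by simp)

theorem finrank_kline {a : V} (ha : a ≠ 0) : finrank F (kline F K a) = finrank F K := by
  have e : K ≃ₗ[F] kline F K a :=
    (LinearEquiv.toSpanNonzeroSingleton K V a ha).restrictScalars F
  exact e.finrank_eq.symm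

end Cfsg.Agent.Lib.H29.C3Max
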