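import Mathlib
import Cfsg.Prelude.Def_ChevStructure
import Cfsg.Agent.Lib.H29.ChevGen43

/-!
# Sums over the Weyl group by enumeration over the tables of coset representatives
-/

set_option autoImplicit false
set_option linter.unusedSectionVars false
set_option linter.unusedSimpArgs false
set_option linter.unusedVariables false

namespace Cfsg.Agent.Lib.H29.Chev

open Cfsg.Lie Matrix

variable {D : ChevalleyDatum} {fd : FD} {fx : FX} {fc : FC} {fz : FZ}

/-- the list of the images of the roots -/
def imL (fd : FD) (σ : Fin fd.n → Fin fd.n) : List ℕ := List.ofFn fun s : Fin fd.n => (σ s).val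

/-- the sum of `g` over the lists of images of the elements of `W_k`, by enumeration -/
def FD.sumW (fd : FD) (fps : ℕ → FP) : ℕ → (List ℕ → ℕ) → ℕ
  | 0, g => g (List.range fd.n)
  | k + 1, g => ((List.range (fps k).dk).map fun a => FD.sumW fd fps k fun L => g (L.map (fd.dT (fps k) a))).sum

theorem list_sum_range (f : ℕ → ℕ) (n : ℕ) : ((List.range n).map f).sum = ∑ a ∈ Finset.range n, f a := by
  induction n with
  | zero => simp
  | succ n ih => rw [List.range_succ, List.map_append, List.sum_append, ih, Finset.sum_range_succ]; simp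

namespace Cert12

variable (C : Cert12 D fd fx fc fz)
include C

theorem sumW_eq (F : Type*) [Field F] (fps : ℕ → FP)
    (h : ∀ k < fd.l, fd.ChkW fx (fps k) k ∧ 0 < (fps k).dk) :
    ∀ k ≤ fd.l, ∀ g : List ℕ → ℕ, ∑ᶠ σ : Wk fd fx k, g (imL fd σ.val) = fd.sumW fps k g := by
  intro k
  induction k with
  | zero =>
    intro _ g
    have hmem : ∀ σ : Wk fd fx 0, σ.val = fun s => s := by
      rintro ⟨σ, w, hw, hw'⟩
      have : w = [] := by
        rcases w with _ | ⟨i, w⟩
        · rfl
        · exact absurd (hw i (by simp)) (by omega)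
      subst this
      funext s
      apply Fin.ext
      rw [hw' s]
      rfl
    have hid : (fun s : Fin fd.n => s) ∈ Wk fd fx 0 := ⟨[], fun _ h => absurd h (by simp), fun s => rfl⟩
    have : Unique (Wk fd fx 0) := ⟨⟨⟨_, hid⟩⟩, fun σ => Subtype.ext (hmem σ)⟩
    rw [finsum_unique]
    simp only [FD.sumW]
    congr 1
    have hd : (default : Wk fd fx 0).val = fun s => s := hmem _
    unfold imL
    rw [hd, List.ofFn_eq_map]
    exact List.map_coe_finRange_eq_range
  | succ k ih =>
    intro hk g
    classical
    have hk' : k < fd.l := by omega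
    have i1 : Fintype (Wk fd fx (k + 1)) := Fintype.ofFinite _
    have i2 : Fintype (Wk fd fx k) := Fintype.ofFinite _
    simp only [FD.sumW]
    rw [list_sum_range, finsum_eq_sum_of_fintype, ← Fin.sum_univ_eq_sum_range]
    have e : ∀ a : Fin (fps k).dk, (fd.sumW fps k fun L => g (L.map (fd.dT (fps k) a.val))) =
        ∑ σ : Wk fd fx k, g ((imL fd σ.val).map (fd.dT (fps k) a.val)) := by
      intro a
      rw [← ih (by omega), finsum_eq_sum_of_fintype]
    rw [Finset.sum_congr rfl (fun a _ => e a), ← Fintype.sum_prod_type']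
    symm
    apply Fintype.sum_bijective (C.pmap hk' (h k hk').1) (C.pmap_bijective F hk' (h k hk').1 (h k hk').2)
    intro x
    congr 1
    unfold imL
    rw [List.map_ofFn]
    rfl

end Cert12

end Cfsg.Agent.Lib.H29.Chev
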