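import Mathlib
import Cfsg.Prelude.Def_ChevStructure
import Cfsg.Agent.Lib.H29.CentDiag3
import Cfsg.Agent.Lib.H29.CentDiag4

/-!
# The order of the centraliser of an element of the torus by enumeration of the Weyl group
-/

set_option autoImplicit false
set_option linter.unusedSectionVars false
set_option linter.unusedSimpArgs false
set_option linter.unusedVariables false

namespace Cfsg.Agent.Lib.H29.Chev

open Cfsg.Lie Matrix

variable {D : ChevalleyDatum} {fd : FD} {fx : FX} {fc : FC} {fz : FZ} {F : Type*} [Field F]

/-- `q ^ e` or `0` -/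
def optPow (q : ℕ) : Option ℕ → ℕ
  | some e => q ^ e
  | none => 0

/-- the histogram of the values of `g` over the lists of images of the elements of `W_k`, by enumeration -/
def FD.histW (fd : FD) (fps : ℕ → FP) : ℕ → (List ℕ → Option ℕ) → List ℕ → List ℕ
  | 0, g, acc =>
    match g (List.range fd.n) with
    | some e => bumpN e acc
    | none => acc
  | k + 1, g, acc =>
    (List.range (fps k).dk).foldl
      (fun acc a => FD.histW fd fps k (fun L => g (L.map (fd.dT (fps k) a))) acc) acc

theorem FD.evalN_histW (fd : FD) (fps : ℕ → FP) (q : ℕ) : ∀ (k : ℕ) (g : List ℕ → Option ℕ) (acc : List ℕ),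
    evalN (fd.histW fps k g acc) q = evalN acc q + fd.sumW fps k (fun L => optPow q (g L)) := by
  intro k
  induction k with
  | zero =>
    intro g acc
    simp only [FD.histW, FD.sumW]
    cases hg : g (List.range fd.n) with
    | none => simp [optPow]
    | some e => simp [optPow, evalN_bumpN]
  | succ k ih =>
    intro g acc
    simp only [FD.histW, FD.sumW]
    generalize List.range (fps k).dk = as
    induction as generalizing acc with
    | nil => simp
    | cons a as ih2 =>
      rw [List.foldl_cons, ih2, ih, List.map_cons, List.sum_cons]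
      ring

/-- the exponent attached to an element of the Weyl group given by its list of images, for a torus element
whose root values are labelled by `val` (`0` for the value `1`) -/
def FD.gz (fd : FD) (val : ℕ → ℕ) (L : List ℕ) : Option ℕ :=
  if (List.range fd.n).all (fun r => val (L.getD r 0) == val r) then
    some ((List.range' (fd.n / 2) (fd.n - fd.n / 2)).countP
      (fun r => decide (L.getD r 0 < fd.n / 2) && (val r == 0)))
  else none

theorem card_subtype_eq_countP (a len : ℕ) (p : ℕ → Bool) :
    Nat.card {r : ℕ // a ≤ r ∧ r < a + len ∧ p r = true} = (List.range' a len).countP p := by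
  classical
  rw [Nat.subtype_card ((List.range' a len).filter p).toFinset (by
    intro x
    rw [List.mem_toFinset, List.mem_filter, List.mem_range'_1]
    tauto)]
  rw [List.toFinset_card_of_nodup ((List.nodup_range' (step := 1) (by norm_num)).filter _), List.countP_eq_length_filter]

theorem imL_getD (σ : Fin fd.n → Fin fd.n) (r : ℕ) (hr : r < fd.n) : (imL fd σ).getD r 0 = extF fd σ r := by
  unfold imL
  rw [List.getD_eq_getElem?_getD, List.getElem?_ofFn, dif_pos hr, extF_lt _ _ hr]
  rfl

namespace Cert12

variable (C : Cert12 D fd fx fc fz)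
include C

theorem optPow_gz (z : GL D.Idx F) (val : ℕ → ℕ)
    (hval : ∀ r < fd.n, ∀ s < fd.n, (dE D z r = dE D z s ↔ val r = val s))
    (h1 : ∀ r < fd.n, (dE D z r = 1 ↔ val r = 0)) (q : ℕ) (σ : Fin fd.n → Fin fd.n) :
    optPow q (fd.gz val (imL fd σ)) = by
      classical exact if FixZ D fd z σ then q ^ lzN D fd z σ else 0 := by
  classical
  have hev := C.c6.c2.heven
  have hlt : ∀ r < fd.n, extF fd σ r < fd.n := by
    intro r hr
    rw [extF_lt _ _ hr]
    exact (σ ⟨r, hr⟩).isLt
  have hfix : ((List.range fd.n).all (fun r => val ((imL fd σ).getD r 0) == val r)) = true ↔ FixZ D fd z σ := by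
    rw [List.all_eq_true]
    unfold FixZ
    constructor
    · intro h r hr
      have := h r (List.mem_range.mpr hr)
      rw [beq_iff_eq, imL_getD σ r hr] at this
      exact (hval _ (hlt r hr) r hr).mpr this
    · intro h r hr
      rw [List.mem_range] at hr
      rw [beq_iff_eq, imL_getD σ r hr]
      exact (hval _ (hlt r hr) r hr).mp (h r hr)
  unfold FD.gz
  by_cases hF : FixZ D fd z σ
  · rw [if_pos (hfix.mpr hF), if_pos hF]
    simp only [optPow]
    congr 1
    unfold lzN
    rw [← card_subtype_eq_countP]
    apply Nat.card_congr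
    apply Equiv.subtypeEquivRight
    intro r
    constructor
    · rintro ⟨k1, k2, k3⟩
      have hr : r < fd.n := by omega
      rw [Bool.and_eq_true, decide_eq_true_eq, beq_iff_eq, imL_getD σ r hr] at k3
      exact ⟨hr, k1, k3.1, (h1 r hr).mpr k3.2⟩
    · rintro ⟨k1, k2, k3, k4⟩
      refine ⟨k2, by omega, ?_⟩
      rw [Bool.and_eq_true, decide_eq_true_eq, beq_iff_eq, imL_getD σ r k1]
      exact ⟨k3, (h1 r k1).mp k4⟩
  · rw [if_neg (fun h => hF (hfix.mp h)), if_neg hF]
    rfl

/-- **the order of the centraliser of an element of the torus, by enumeration of the Weyl group** -/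
theorem card_centralizer_enum [Finite F] (fps : ℕ → FP)
    (h : ∀ k < fd.l, fd.ChkW fx (fps k) k ∧ 0 < (fps k).dk)
    (z : GL D.Idx F) (hz : z ∈ D.diagonalSubgroup F) (val : ℕ → ℕ)
    (hval : ∀ r < fd.n, ∀ s < fd.n, (dE D z r = dE D z s ↔ val r = val s))
    (h1 : ∀ r < fd.n, (dE D z r = 1 ↔ val r = 0)) :
    Nat.card (Subgroup.centralizer ({(⟨z, C.c6.c2.diag_le_group hz⟩ : D.group F)} : Set (D.group F))) =
      Nat.card (D.diagonalSubgroup F) *
        Nat.card F ^ ((List.range' (fd.n / 2) (fd.n - fd.n / 2)).countP (fun r => val r == 0)) *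
        evalN (fd.histW fps fd.l (fd.gz val) []) (Nat.card F) := by
  classical
  have hev := C.c6.c2.heven
  rw [C.card_centralizer_diag z hz]
  have i0 : Fintype (RealW C F) := Fintype.ofFinite _
  have i2 : Fintype {σ : RealW C F // FixZ D fd z σ.val} := Fintype.ofFinite _
  have eN : NzN D fd z = (List.range' (fd.n / 2) (fd.n - fd.n / 2)).countP (fun r => val r == 0) := by
    unfold NzN
    rw [← card_subtype_eq_countP]
    apply Nat.card_congr
    apply Equiv.subtypeEquivRight
    intro r
    constructor
    · rintro ⟨k1, k2, k3⟩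
      refine ⟨k2, by omega, ?_⟩
      rw [beq_iff_eq]
      exact (h1 r k1).mp k3
    · rintro ⟨k1, k2, k3⟩
      have hr : r < fd.n := by omega
      rw [beq_iff_eq] at k3
      exact ⟨hr, k1, (h1 r hr).mpr k3⟩
  have eS : (∑ᶠ σ : {σ : RealW C F // FixZ D fd z σ.val}, Nat.card F ^ lzN D fd z σ.val.val) =
      ∑ᶠ σ : RealW C F, optPow (Nat.card F) (fd.gz val (imL fd σ.val)) := by
    rw [finsum_eq_sum_of_fintype, finsum_eq_sum_of_fintype]
    have e1 : ∀ σ : RealW C F, optPow (Nat.card F) (fd.gz val (imL fd σ.val)) =
        if FixZ D fd z σ.val then Nat.card F ^ lzN D fd z σ.val else 0 := by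
      intro σ
      rw [C.optPow_gz z val hval h1]
    rw [Finset.sum_congr rfl (fun σ _ => e1 σ), ← Finset.sum_filter]
    symm
    exact Finset.sum_subtype (Finset.univ.filter fun σ : RealW C F => FixZ D fd z σ.val)
      (fun σ => by simp) (fun σ => Nat.card F ^ lzN D fd z σ.val)
  rw [eN, eS, C.realW_eq F, C.sumW_eq F fps h fd.l le_rfl (fun L => optPow (Nat.card F) (fd.gz val L)),
    fd.evalN_histW]
  simp [evalN]

end Cert12

end Cfsg.Agent.Lib.H29.Chev
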