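import Mathlib
import Cfsg.Prelude.Def_LieChev
import Cfsg.Agent.Lib.H29.CentDiag5
import Cfsg.Agent.Lib.H29.ChevPoinF4
import Cfsg.Agent.Lib.H29.ChevDiagOrd

/-!
# The orders of the centralisers of the two classes of involutions of the torus of `F₄(q)`, `q` odd
-/

set_option autoImplicit false
set_option linter.unusedSectionVars false
set_option linter.unusedSimpArgs false
set_option linter.unusedVariables false

namespace Cfsg.Agent.Lib.H29.Chev

open Cfsg.Lie Matrix

variable {D : ChevalleyDatum} {fd : FD} {fx : FX} {fc : FC} {fz : FZ} {F : Type*} [Field F]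

/-- the element `h_{p_i}(u)` of the torus -/
noncomputable def hSingle (D : ChevalleyDatum) (fd : FD) (F : Type*) [Field F] (i₀ : ℕ) (u : Fˣ) : GL D.Idx F :=
  chiHom D fd F (fun i => if i.val = i₀ then u else 1)

namespace Cert12

variable (C : Cert12 D fd fx fc fz)
include C

theorem hSingle_mem (i₀ : ℕ) (u : Fˣ) : hSingle D fd F i₀ u ∈ D.diagonalSubgroup F := by
  rw [C.diag_eq_range]
  exact ⟨_, rfl⟩

theorem dE_hSingle (i₀ : ℕ) (hi : i₀ < fd.l) (u : Fˣ) (r : ℕ) (hr : r < fd.n) :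
    dE D (hSingle D fd F i₀ u) r = ((u ^ fd.carZ i₀ r : Fˣ) : F) := by
  unfold hSingle
  rw [C.dE_chiHom _ r hr]
  congr 1
  rw [Finset.prod_eq_single (⟨i₀, hi⟩ : Fin fd.l)]
  · simp
  · intro b _ hb
    have : b.val ≠ i₀ := fun h => hb (Fin.ext h)
    simp [this]
  · intro h
    exact absurd (Finset.mem_univ _) h

/-- the labelling of the root values of the involution `h_{p_i}(-1)` -/
theorem val_hSingle_neg_one (h2 : (2 : F) ≠ 0) (i₀ : ℕ) (hi : i₀ < fd.l) (val : ℕ → ℕ)
    (hv : ∀ r < fd.n, (fd.carZ i₀ r).natAbs % 2 = val r) :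
    (∀ r < fd.n, ∀ s < fd.n, (dE D (hSingle D fd F i₀ (-1)) r = dE D (hSingle D fd F i₀ (-1)) s ↔ val r = val s)) ∧
      (∀ r < fd.n, (dE D (hSingle D fd F i₀ (-1)) r = 1 ↔ val r = 0)) := by
  have hne : (-1 : F) ≠ 1 := by
    intro h
    apply h2
    linear_combination -h
  have key : ∀ r < fd.n, dE D (hSingle D fd F i₀ (-1)) r = if val r = 0 then 1 else -1 := by
    intro r hr
    rw [C.dE_hSingle i₀ hi _ r hr, ← hv r hr]
    rcases Int.even_or_odd (fd.carZ i₀ r) with he | ho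
    · rw [he.neg_one_zpow]
      have : (fd.carZ i₀ r).natAbs % 2 = 0 := by
        have := Int.natAbs_even.mpr he
        exact Nat.even_iff.mp this
      rw [if_pos this]
      simp
    · rw [ho.neg_one_zpow]
      have : (fd.carZ i₀ r).natAbs % 2 ≠ 0 := by
        have := Int.natAbs_odd.mpr ho
        have := Nat.odd_iff.mp this
        omega
      rw [if_neg this]
      simp
  have hv2 : ∀ r < fd.n, val r = 0 ∨ val r = 1 := by
    intro r hr
    rw [← hv r hr]
    omega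
  constructor
  · intro r hr s hs
    rw [key r hr, key s hs]
    rcases hv2 r hr with h | h <;> rcases hv2 s hs with h' | h' <;> simp [h, h', hne, hne.symm]
  · intro r hr
    rw [key r hr]
    rcases hv2 r hr with h | h <;> simp [h, hne]

end Cert12

/-- the labelling of the root values of `h_{p_1}(-1)` in `F₄` -/
def valF4S (r : ℕ) : ℕ := [0, 0, 0, 0, 0, 0, 0, 1, 1, 1, 1, 1, 1, 1, 1, 0, 0, 0, 0, 0, 0, 0, 0, 0, 0, 0, 0, 0, 0, 0, 0, 0, 0,
  1, 1, 1, 1, 1, 1, 1, 1, 0, 0, 0, 0, 0, 0, 0].getD r 0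

/-- the labelling of the root values of `h_{p_3}(-1)` in `F₄` -/
def valF4T (r : ℕ) : ℕ := [1, 1, 0, 0, 0, 1, 1, 0, 0, 1, 1, 1, 1, 0, 0, 0, 1, 1, 1, 1, 0, 1, 1, 0, 0, 1, 1, 0, 1, 1, 1, 1, 0,
  0, 0, 1, 1, 1, 1, 0, 0, 1, 1, 0, 0, 0, 1, 1].getD r 0

theorem valF4S_spec : ∀ r < fdF4.n, (fdF4.carZ 1 r).natAbs % 2 = valF4S r := by decide +kernel

theorem valF4T_spec : ∀ r < fdF4.n, (fdF4.carZ 3 r).natAbs % 2 = valF4T r := by decide +kernel

set_option maxRecDepth 1000000 in
set_option maxHeartbeats 0 in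
theorem histF4S : fdF4.histW fpsF4 fdF4.l (fdF4.gz valF4S) [] = polyD [2, 4, 6, 8] := by decide +kernel

set_option maxRecDepth 1000000 in
set_option maxHeartbeats 0 in
theorem histF4T : fdF4.histW fpsF4 fdF4.l (fdF4.gz valF4T) [] = polyD [2, 4, 6, 2] := by decide +kernel

theorem countF4S : (List.range' (fdF4.n / 2) (fdF4.n - fdF4.n / 2)).countP (fun r => valF4S r == 0) = 16 := by
  decide +kernel

theorem countF4T : (List.range' (fdF4.n / 2) (fdF4.n - fdF4.n / 2)).countP (fun r => valF4T r == 0) = 10 := by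
  decide +kernel

/-- the involution `s = h_{p_1}(-1)` of the torus of `F₄` -/
noncomputable def f4zS (F : Type*) [Field F] : GL chevF4.Idx F := hSingle chevF4 fdF4 F 1 (-1)

/-- the involution `t = h_{p_3}(-1)` of the torus of `F₄` -/
noncomputable def f4zT (F : Type*) [Field F] : GL chevF4.Idx F := hSingle chevF4 fdF4 F 3 (-1)

theorem f4zS_mem : f4zS F ∈ chevF4.diagonalSubgroup F := cert12_F4.hSingle_mem 1 _

theorem f4zT_mem : f4zT F ∈ chevF4.diagonalSubgroup F := cert12_F4.hSingle_mem 3 _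

/-- the centraliser of `s` in `F₄(q)`, `q` odd, has the order of `Spin₉(q)` -/
theorem card_cent_f4zS [Finite F] (h2 : (2 : F) ≠ 0) :
    Nat.card (Subgroup.centralizer ({(⟨f4zS F, cert12_F4.c6.c2.diag_le_group f4zS_mem⟩ : chevF4.group F)} :
      Set (chevF4.group F))) =
      Nat.card F ^ 16 * (Nat.card F ^ 2 - 1) * (Nat.card F ^ 4 - 1) * (Nat.card F ^ 6 - 1) * (Nat.card F ^ 8 - 1) := by
  obtain ⟨hval, h1⟩ := cert12_F4.val_hSingle_neg_one (F := F) h2 1 (by decide) valF4S valF4S_spec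
  have hq : 1 ≤ Nat.card F := Nat.card_pos
  rw [cert12_F4.card_centralizer_enum fpsF4 fpsF4_chk (f4zS F) f4zS_mem valF4S hval h1, histF4S, countF4S,
    evalN_polyD, card_diag_F4]
  have key := sub_one_pow_mul_prod [2, 4, 6, 8] (Nat.card F) hq
  generalize (List.map (fun d => ∑ i ∈ Finset.range d, Nat.card F ^ i) [2, 4, 6, 8]).prod = P at key ⊢
  simp only [List.length_cons, List.length_nil, List.map_cons, List.map_nil, List.prod_cons, List.prod_nil,
    mul_one] at key
  have key' : (Nat.card F - 1) ^ 4 * P =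
      (Nat.card F ^ 2 - 1) * ((Nat.card F ^ 4 - 1) * ((Nat.card F ^ 6 - 1) * (Nat.card F ^ 8 - 1))) := key
  calc (Nat.card F - 1) ^ 4 * Nat.card F ^ 16 * P = Nat.card F ^ 16 * ((Nat.card F - 1) ^ 4 * P) := by ring
    _ = _ := by rw [key']; ring

/-- the centraliser of `t` in `F₄(q)`, `q` odd, has the order of `(Sp₆(q) ∘ SL₂(q))` -/
theorem card_cent_f4zT [Finite F] (h2 : (2 : F) ≠ 0) :
    Nat.card (Subgroup.centralizer ({(⟨f4zT F, cert12_F4.c6.c2.diag_le_group f4zT_mem⟩ : chevF4.group F)} :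
      Set (chevF4.group F))) =
      Nat.card F ^ 10 * (Nat.card F ^ 2 - 1) ^ 2 * (Nat.card F ^ 4 - 1) * (Nat.card F ^ 6 - 1) := by
  obtain ⟨hval, h1⟩ := cert12_F4.val_hSingle_neg_one (F := F) h2 3 (by decide) valF4T valF4T_spec
  have hq : 1 ≤ Nat.card F := Nat.card_pos
  rw [cert12_F4.card_centralizer_enum fpsF4 fpsF4_chk (f4zT F) f4zT_mem valF4T hval h1, histF4T, countF4T,
    evalN_polyD, card_diag_F4]
  have key := sub_one_pow_mul_prod [2, 4, 6, 2] (Nat.card F) hq
  generalize (List.map (fun d => ∑ i ∈ Finset.range d, Nat.card F ^ i) [2, 4, 6, 2]).prod = P at key ⊢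
  simp only [List.length_cons, List.length_nil, List.map_cons, List.map_nil, List.prod_cons, List.prod_nil,
    mul_one] at key
  have key' : (Nat.card F - 1) ^ 4 * P =
      (Nat.card F ^ 2 - 1) * ((Nat.card F ^ 4 - 1) * ((Nat.card F ^ 6 - 1) * (Nat.card F ^ 2 - 1))) := key
  calc (Nat.card F - 1) ^ 4 * Nat.card F ^ 10 * P = Nat.card F ^ 10 * ((Nat.card F - 1) ^ 4 * P) := by ring
    _ = _ := by rw [key']; ring

end Cfsg.Agent.Lib.H29.Chev
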