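import Mathlib
import Cfsg.Agent.Lib.H29.ChevIso1
import Cfsg.Agent.Lib.H29.ChevDataB2

/-! Special isogeny tables for B2 in characteristic 2 (generated) -/

set_option autoImplicit false

namespace Cfsg.Agent.Lib.H29.Chev

def tcLB2 : List SV :=
  [[],
   [(0, 1)],
   [(3, 1)],
   [],
   [],
   [(4, 1)],
   [(7, 1)],
   [],
   [],
   [(8, 1)]]

def tcB2 : ℕ → SV := fun c => tcLB2.getD c []

def rhoLB2 : List ℕ := [1, 0, 3, 2, 5, 4, 7, 6]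

def lamLB2 : List ℕ := [1, 2, 2, 1, 1, 2, 2, 1]

set_option maxRecDepth 1000000 in
theorem isoB2_chk : ∀ r < fdB2.n, fdB2.isoChk tcB2 2 r (rhoLB2.getD r 0) (lamLB2.getD r 1) = true := by
  decide +kernel

theorem isoB2_spec : ∀ r < fdB2.n, rhoLB2.getD r 0 < fdB2.n ∧ (lamLB2.getD r 1 = 1 ∨ lamLB2.getD r 1 = 2) ∧
    rhoLB2.getD (fdB2.n - 1 - r) 0 = fdB2.n - 1 - rhoLB2.getD r 0 ∧ lamLB2.getD (fdB2.n - 1 - r) 1 = lamLB2.getD r 1 ∧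
    (fdB2.n / 2 ≤ r → fdB2.n / 2 ≤ rhoLB2.getD r 0) := by
  decide +kernel

end Cfsg.Agent.Lib.H29.Chev
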