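import Mathlib
import Cfsg.Agent.Lib.H29.ChevIso4
import Cfsg.Agent.Lib.H29.ChevIsoTB2
import Cfsg.Agent.Lib.H29.ChevIrr
import Cfsg.Agent.Lib.H29.ChevCert13

/-! The special isogeny of B2 in characteristic 2 -/

set_option autoImplicit false

namespace Cfsg.Agent.Lib.H29.Chev

open Cfsg.Lie

def fwB2 : FW where
  pw := 0
  gam := 0x040400

theorem fdB2_chkIrr : fdB2.chkIrr fxB2 fwB2 = true := by decide +kernel

def rhoB2 (r : ℕ) : ℕ := rhoLB2.getD r 0

def lamB2 (r : ℕ) : ℕ := lamLB2.getD r 1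

set_option maxRecDepth 1000000 in
theorem isoSpecB2 : IsoSpec fdB2 tcB2 2 rhoB2 lamB2 where
  chk := isoB2_chk
  rho_lt := fun r hr => (isoB2_spec r hr).1
  lam_cases := fun r hr => (isoB2_spec r hr).2.1
  hp := by decide
  rho_surj := by decide +kernel
  wit2 := ⟨0, by decide, 6, by decide, by decide⟩
  wit3 := ⟨1, by decide, 4, by decide, by decide +kernel⟩

theorem irrB2 {F : Type*} [Field F] : (cert12_B2.c6.bnPair F).Irreducible :=
  cert12_B2.c6.irreducible6 fwB2 fdB2_chkIrr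

/-- the special automorphism of `B2(F)` over a perfect field of characteristic 2 -/
theorem exists_isogenyB2 {F : Type*} [Field F] [CharP F 2] (hperf : ∀ x : F, ∃ y : F, y ^ 2 = x) :
    ∃ τ : ↥(chevB2.group F) ≃* ↥(chevB2.group F),
      (∀ g : ↥(chevB2.group F), JF chevB2 chevB2 F tcB2 * ((g : GL chevB2.Idx F) : Matrix chevB2.Idx chevB2.Idx F) =
        ((τ g : GL chevB2.Idx F) : Matrix chevB2.Idx chevB2.Idx F) * JF chevB2 chevB2 F tcB2) ∧
      (∀ r < fdB2.n, ∀ t : F, ((τ ⟨cert12_B2.c6.c2.xA r t, cert12_B2.c6.c2.xA_mem_group _ _⟩ : ↥(chevB2.group F)) :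
        GL chevB2.Idx F) = cert12_B2.c6.c2.xA (rhoB2 r) (t ^ lamB2 r)) :=
  cert12_B2.exists_isogeny isoSpecB2 irrB2 hperf

end Cfsg.Agent.Lib.H29.Chev
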