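import Mathlib
import Cfsg.Prelude.Def_ChevAutomorphisms
import Cfsg.Prelude.Def_ChevB2
import Cfsg.Agent.Lib.H29.ChevAutG2
import Cfsg.Agent.Lib.H29.ChevIsoSB2

/-! Automorphisms of the Chevalley groups of type `B₂` -/

set_option autoImplicit false
set_option linter.unusedSimpArgs false
set_option linter.unusedVariables false

namespace Cfsg.Agent.Lib.H29.Chev

open Cfsg.Lie Matrix

set_option maxRecDepth 1000000 in
set_option maxHeartbeats 0 in
theorem fdB2_chkOpp : fdB2.chkOpp fxB2 = true := by decide +kernel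

set_option maxRecDepth 1000000 in
set_option maxHeartbeats 0 in
theorem chkAdj_B2 : chkAdj chevB2 fdB2 fxB2 = true := by decide +kernel

def esB2 : List (ℕ × ℕ) := [(0, 1)]

set_option maxRecDepth 1000000 in
set_option maxHeartbeats 0 in
theorem chkConn_B2 : chkConn fdB2 esB2 = true := by decide +kernel

set_option maxRecDepth 1000000 in
set_option maxHeartbeats 0 in
theorem autList_B2 : autList chevB2 2 = [[0, 1], [1, 0]] := by decide +kernel

set_option maxRecDepth 1000000 in
set_option maxHeartbeats 0 in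
theorem chkSym_B2 : chkSym chevB2 2 = true := by decide +kernel

theorem diagConj_B2 {F : Type*} [Field F] : DiagConj chevB2 F :=
  fun χ hχ r hr t => Cfsg.Agent.S2157.result chevB2 (by simp) χ hχ r hr t

theorem graphFor_B2 {F : Type*} [Field F] [Finite F] (p : ℕ) [hp : Fact p.Prime] [hc : CharP F p]
    (θ' : ↥(chevB2.group F) ≃* ↥(chevB2.group F)) (ρ : ℕ → ℕ)
    (f g : ℕ → F →+ F) (S : SimpAct cert12_B2 θ' ρ f g) : GraphFor cert12_B2 F ρ := by
  have hmem := S.map_rho_mem_autList chkAdj_B2
  rw [show fdB2.l = 2 from rfl, autList_B2] at hmem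
  simp only [List.mem_cons, List.not_mem_nil, or_false] at hmem
  rcases hmem with hmem | hmem
  · apply cert12_B2.graphFor_id
    intro i hi
    rw [S.rho_eq_of_map _ hmem i hi]
    have hi' : i < 2 := hi
    interval_cases i <;> rfl
  · have h0 : ρ 0 = 1 := S.rho_eq_of_map _ hmem 0 (by decide)
    have h1 : ρ 1 = 0 := S.rho_eq_of_map _ hmem 1 (by decide)
    -- the characteristic is `2`
    have ht0 := S.tracks_pos 0 (by decide)
    rw [h0] at ht0
    have ht1 := S.tracks_sw 1 (by decide) 5 4 (by decide) (by decide) ht0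
    have e1 : fdB2.sw fxB2 1 5 = 6 := by decide +kernel
    have e2 : fdB2.sw fxB2 (ρ 1) 4 = 7 := by
      rw [h1]
      decide +kernel
    rw [e1, e2] at ht1
    have hT : fdB2.commT 4 7 = [] := by decide +kernel
    have hc1 : cert12_B2.Comm F 4 7 := by
      intro t u
      have hcf := cert12_B2.c6.cfg (F := F) 4 7 (by decide) (by decide) (by decide) (by decide) t u
      rw [hT] at hcf
      simp only [Cert2.ctG, List.map_nil, List.prod_nil, mul_one] at hcf
      exact hcf.symm
    have hc2 : cert12_B2.Comm F 5 6 := cert12_B2.comm_of_tracks θ' 5 4 6 7 ht0 ht1 hc1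
    have hT2 : fdB2.commT 5 6 = [(7, 2, 1, 1)] := by decide +kernel
    have h3 := cert12_B2.coeff_zero_of_comm (F := F) 5 6 (by decide) (by decide) (by decide) (by decide) 7 2 hT2
      (by decide) hc2
    have hp2 : p = 2 := charP_of_cast_eq_zero p 2 (by norm_num) (by exact_mod_cast h3)
    subst hp2
    obtain ⟨τ, _, hτ⟩ := exists_isogenyB2 (F := F) (finite_perfect 2)
    have hrc : ringChar F = 2 := ringChar.eq F 2
    refine S.graphFor_of chkAdj_B2 chkSym_B2 τ (fun i => lamB2 (fdB2.simples.getD i 0)) ?_ ?_ ?_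
    · intro i hi
      have hi' : i < 2 := hi
      rw [hrc]
      interval_cases i
      · rw [h0]; decide +kernel
      · rw [h1]; decide +kernel
    · intro i hi t
      have hi' : i < 2 := hi
      apply Subtype.ext
      interval_cases i
      · rw [h0]; exact hτ 5 (by decide) t
      · rw [h1]; exact hτ 4 (by decide) t
    · intro i hi t
      have hi' : i < 2 := hi
      apply Subtype.ext
      interval_cases i
      · rw [h0]; exact hτ 2 (by decide) t
      · rw [h1]; exact hτ 3 (by decide) t

/-- decomposition of the automorphisms of `B₂(q)` -/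
theorem aut_decomp_B2 {F : Type*} [Field F] [Finite F] (θ : ↥(chevB2.group F) ≃* ↥(chevB2.group F)) :
    ∃ (x : ↥(chevB2.group F)) (d γ φ : ↥(chevB2.group F) ≃* ↥(chevB2.group F)),
      chevB2.IsDiagonalAut d ∧ chevB2.IsGraphAut γ ∧ chevB2.IsFieldAut φ ∧
        ∀ y : ↥(chevB2.group F), θ y = x * d (γ (φ y)) * x⁻¹ := by
  obtain ⟨p, hp⟩ := CharP.exists F
  have : Fact p.Prime := ⟨CharP.char_is_prime F p⟩
  exact cert12_B2.aut_decomp p fdB2_chkOpp diagConj_B2 esB2 chkConn_B2 (graphFor_B2 p) θ

end Cfsg.Agent.Lib.H29.Chev
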