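import Mathlib
import Cfsg.Agent.Lib.H29.ChevCE3
import Cfsg.Agent.Lib.H29.ChevGen1
import Cfsg.Agent.Lib.H29.ChevDataE6

/-! Central extensions: the checks on the tables of type E6 (decompositions generated) -/

set_option autoImplicit false

namespace Cfsg.Agent.Lib.H29.Chev

def decE6 : List (ℕ × ℕ × ℕ × ℕ) :=
  [(1, 25, 8, 60), (0, 46, 11, 63), (0, 47, 11, 65), (0, 48, 11, 66), (0, 49, 12, 66), (0, 50, 11, 68),
   (0, 51, 11, 69), (0, 52, 12, 69), (0, 53, 11, 70), (0, 54, 12, 70), (0, 55, 13, 70), (1, 53, 8, 71),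
   (1, 54, 9, 71), (1, 55, 10, 71), (2, 55, 10, 71), (5, 55, 10, 71), (0, 61, 26, 68), (0, 62, 26, 69),
   (0, 63, 27, 69), (0, 64, 26, 70), (0, 65, 27, 70), (0, 66, 28, 70), (0, 67, 30, 70), (0, 68, 31, 70),
   (0, 69, 32, 70), (0, 70, 39, 69), (1, 64, 19, 71), (1, 65, 20, 71), (1, 66, 21, 71), (2, 66, 21, 71),
   (1, 67, 22, 71), (1, 68, 23, 71), (1, 69, 24, 71), (2, 67, 22, 71), (2, 68, 23, 71), (3, 67, 22, 71),
   (4, 68, 23, 71), (3, 69, 24, 71), (4, 69, 24, 71), (2, 70, 25, 71), (3, 70, 25, 71), (4, 70, 25, 71),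
   (5, 69, 24, 71), (5, 70, 25, 71), (6, 70, 25, 71), (7, 70, 25, 71), (1, 71, 47, 69), (2, 71, 46, 70),
   (3, 71, 46, 70), (4, 71, 46, 70), (5, 71, 46, 70), (6, 71, 46, 70), (7, 71, 46, 70), (8, 71, 47, 69),
   (9, 71, 47, 69), (10, 71, 48, 68), (16, 66, 21, 71), (16, 69, 24, 71), (16, 70, 25, 71), (17, 70, 25, 71),
   (18, 70, 25, 71), (16, 71, 46, 70), (17, 71, 46, 70), (18, 71, 46, 70), (19, 71, 47, 69),
   (20, 71, 47, 69), (21, 71, 48, 68), (22, 71, 50, 66), (23, 71, 50, 66), (24, 71, 51, 65),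
   (25, 71, 53, 63), (46, 70, 53, 60)]

set_option maxRecDepth 1000000 in
set_option maxHeartbeats 0 in
theorem fdE6_CE_c0 : allR 0 72 (fdE6.chkCE decE6) = true := by decide +kernel

theorem fdE6_ChkCE : ∀ r < fdE6.n, fdE6.chkCE decE6 r = true := by
  intro r hr
  have hr' : r < 72 := hr
  exact allR_spec fdE6_CE_c0 r (by omega) (by omega)

end Cfsg.Agent.Lib.H29.Chev
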