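import Mathlib
import Cfsg.Agent.Lib.H29.ChevCE3
import Cfsg.Agent.Lib.H29.ChevGen1
import Cfsg.Agent.Lib.H29.ChevDataE7

/-! Central extensions: the checks on the tables of type E7 (decompositions generated) -/

set_option autoImplicit false

namespace Cfsg.Agent.Lib.H29.Chev

def decE7 : List (ℕ × ℕ × ℕ × ℕ) :=
  [(1, 32, 17, 92), (0, 93, 33, 108), (0, 94, 33, 114), (0, 95, 33, 117), (0, 96, 33, 118), (0, 97, 34, 118),
   (0, 98, 35, 118), (0, 99, 33, 121), (0, 100, 33, 122), (0, 101, 34, 122), (0, 102, 35, 122),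
   (0, 103, 33, 123), (0, 104, 34, 123), (0, 105, 35, 123), (0, 106, 36, 123), (0, 107, 37, 123),
   (0, 108, 38, 123), (0, 109, 33, 124), (0, 110, 34, 124), (0, 111, 35, 124), (0, 112, 36, 124),
   (0, 113, 37, 124), (0, 114, 38, 124), (0, 115, 39, 124), (0, 116, 40, 124), (0, 117, 41, 124),
   (0, 118, 42, 124), (0, 119, 48, 124), (0, 120, 49, 124), (0, 121, 50, 124), (0, 122, 51, 124),
   (0, 123, 52, 124), (0, 124, 73, 123), (1, 109, 17, 125), (1, 110, 18, 125), (1, 111, 19, 125),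
   (1, 112, 20, 125), (1, 113, 21, 125), (1, 114, 22, 125), (1, 115, 23, 125), (1, 116, 24, 125),
   (1, 117, 25, 125), (1, 118, 26, 125), (2, 115, 23, 125), (2, 116, 24, 125), (2, 117, 25, 125),
   (2, 118, 26, 125), (3, 118, 26, 125), (1, 119, 27, 125), (1, 120, 28, 125), (1, 121, 29, 125),
   (1, 122, 30, 125), (1, 123, 31, 125), (2, 119, 27, 125), (2, 120, 28, 125), (2, 121, 29, 125),
   (2, 122, 30, 125), (3, 119, 27, 125), (3, 120, 28, 125), (3, 121, 29, 125), (4, 119, 27, 125),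
   (4, 120, 28, 125), (5, 119, 27, 125), (6, 120, 28, 125), (5, 121, 29, 125), (6, 121, 29, 125),
   (4, 122, 30, 125), (5, 122, 30, 125), (6, 122, 30, 125), (3, 123, 31, 125), (4, 123, 31, 125),
   (5, 123, 31, 125), (6, 123, 31, 125), (2, 124, 32, 125), (3, 124, 32, 125), (4, 124, 32, 125),
   (5, 124, 32, 125), (6, 124, 32, 125), (7, 122, 30, 125), (7, 123, 31, 125), (8, 123, 31, 125),
   (9, 123, 31, 125), (10, 123, 31, 125), (7, 124, 32, 125), (8, 124, 32, 125), (9, 124, 32, 125),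
   (10, 124, 32, 125), (11, 124, 32, 125), (12, 124, 32, 125), (13, 124, 32, 125), (14, 124, 32, 125),
   (15, 124, 32, 125), (16, 124, 32, 125), (1, 125, 94, 123), (2, 125, 93, 124), (3, 125, 93, 124),
   (4, 125, 93, 124), (5, 125, 93, 124), (6, 125, 93, 124), (7, 125, 93, 124), (8, 125, 93, 124),
   (9, 125, 93, 124), (10, 125, 93, 124), (11, 125, 93, 124), (12, 125, 93, 124), (13, 125, 93, 124),
   (14, 125, 93, 124), (15, 125, 93, 124), (16, 125, 93, 124), (17, 125, 94, 123), (18, 125, 94, 123),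
   (19, 125, 94, 123), (20, 125, 94, 123), (21, 125, 94, 123), (22, 125, 94, 123), (23, 125, 95, 122),
   (24, 125, 95, 122), (25, 125, 95, 122), (26, 125, 96, 121), (27, 125, 99, 118), (28, 125, 99, 118),
   (29, 125, 99, 118), (30, 125, 100, 117), (31, 125, 103, 114), (32, 125, 109, 108), (93, 124, 109, 92)]

set_option maxRecDepth 1000000 in
set_option maxHeartbeats 0 in
theorem fdE7_CE_c0 : allR 0 63 (fdE7.chkCE decE7) = true := by decide +kernel

set_option maxRecDepth 1000000 in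
set_option maxHeartbeats 0 in
theorem fdE7_CE_c1 : allR 63 126 (fdE7.chkCE decE7) = true := by decide +kernel

theorem fdE7_ChkCE : ∀ r < fdE7.n, fdE7.chkCE decE7 r = true := by
  intro r hr
  have hr' : r < 126 := hr
  by_cases h0 : r < 63
  · exact allR_spec fdE7_CE_c0 r (by omega) h0
  exact allR_spec fdE7_CE_c1 r (by omega) (by omega)

end Cfsg.Agent.Lib.H29.Chev
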