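import Mathlib
import Cfsg.Agent.Lib.H29.ChevCE4E8t

/-! Central extensions: the checks on the tables of type E8, roots 180 to 194 -/

set_option autoImplicit false

namespace Cfsg.Agent.Lib.H29.Chev

set_option maxRecDepth 1000000 in
set_option maxHeartbeats 0 in
theorem fdE8_CE_c12 : allR 180 195 (fdE8.chkCE decE8) = true := by decide +kernel

end Cfsg.Agent.Lib.H29.Chev
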