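import Mathlib
import Cfsg.Agent.Lib.H29.ChevCE4E8c0
import Cfsg.Agent.Lib.H29.ChevCE4E8c1
import Cfsg.Agent.Lib.H29.ChevCE4E8c2
import Cfsg.Agent.Lib.H29.ChevCE4E8c3
import Cfsg.Agent.Lib.H29.ChevCE4E8c4
import Cfsg.Agent.Lib.H29.ChevCE4E8c5
import Cfsg.Agent.Lib.H29.ChevCE4E8c6
import Cfsg.Agent.Lib.H29.ChevCE4E8c7
import Cfsg.Agent.Lib.H29.ChevCE4E8c8
import Cfsg.Agent.Lib.H29.ChevCE4E8c9
import Cfsg.Agent.Lib.H29.ChevCE4E8c10
import Cfsg.Agent.Lib.H29.ChevCE4E8c11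
import Cfsg.Agent.Lib.H29.ChevCE4E8c12
import Cfsg.Agent.Lib.H29.ChevCE4E8c13
import Cfsg.Agent.Lib.H29.ChevCE4E8c14
import Cfsg.Agent.Lib.H29.ChevCE4E8c15

/-! Central extensions: the checks on the tables of type E8 -/

set_option autoImplicit false

namespace Cfsg.Agent.Lib.H29.Chev

theorem fdE8_ChkCE : ∀ r < fdE8.n, fdE8.chkCE decE8 r = true := by
  intro r hr
  have hr' : r < 240 := hr
  by_cases h0 : r < 15
  · exact allR_spec fdE8_CE_c0 r (by omega) h0
  by_cases h1 : r < 30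
  · exact allR_spec fdE8_CE_c1 r (by omega) h1
  by_cases h2 : r < 45
  · exact allR_spec fdE8_CE_c2 r (by omega) h2
  by_cases h3 : r < 60
  · exact allR_spec fdE8_CE_c3 r (by omega) h3
  by_cases h4 : r < 75
  · exact allR_spec fdE8_CE_c4 r (by omega) h4
  by_cases h5 : r < 90
  · exact allR_spec fdE8_CE_c5 r (by omega) h5
  by_cases h6 : r < 105
  · exact allR_spec fdE8_CE_c6 r (by omega) h6
  by_cases h7 : r < 120
  · exact allR_spec fdE8_CE_c7 r (by omega) h7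
  by_cases h8 : r < 135
  · exact allR_spec fdE8_CE_c8 r (by omega) h8
  by_cases h9 : r < 150
  · exact allR_spec fdE8_CE_c9 r (by omega) h9
  by_cases h10 : r < 165
  · exact allR_spec fdE8_CE_c10 r (by omega) h10
  by_cases h11 : r < 180
  · exact allR_spec fdE8_CE_c11 r (by omega) h11
  by_cases h12 : r < 195
  · exact allR_spec fdE8_CE_c12 r (by omega) h12
  by_cases h13 : r < 210
  · exact allR_spec fdE8_CE_c13 r (by omega) h13
  by_cases h14 : r < 225
  · exact allR_spec fdE8_CE_c14 r (by omega) h14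
  exact allR_spec fdE8_CE_c15 r (by omega) (by omega)

end Cfsg.Agent.Lib.H29.Chev
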