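import Mathlib
import Cfsg.Prelude.Def_ChevStructure
import Cfsg.Agent.Lib.H29.ChevStM
import Cfsg.Agent.Lib.H29.ChevGen46

/-!
# The centre of a group with Steinberg's relations (R1)-(R3) when the elements `h̄_p(t)` are independent
-/

set_option autoImplicit false
set_option linter.unusedSectionVars false
set_option linter.unusedSimpArgs false
set_option linter.unusedVariables false

namespace Cfsg.Agent.Lib.H29.Chev

open Cfsg.Lie Matrix

variable {D : ChevalleyDatum} {fd : FD} {fx : FX} {fc : FC} {fz : FZ}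

/-- parameters from an element of the torus -/
def cOf {fd : FD} {F : Type*} [Field F] (x : Fin fd.l → Fˣ) : ℕ → F :=
  fun i => if h : i < fd.l then ((x ⟨i, h⟩ : Fˣ) : F) else 1

theorem cOf_ne {fd : FD} {F : Type*} [Field F] (x : Fin fd.l → Fˣ) (i : ℕ) : cOf x i ≠ 0 := by
  unfold cOf
  by_cases h : i < fd.l
  · rw [dif_pos h]; exact Units.ne_zero _
  · rw [dif_neg h]; exact one_ne_zero

namespace Cert12

variable {F : Type*} [Field F] (C : Cert12 D fd fx fc fz)
include C

/-- the order of the kernel of the torus on the group -/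
theorem card_ker_chi_smith [Finite F] (fs : FS) (h : fd.ChkSmith fs) :
    Nat.card (chiHom D fd F).ker = ∏ i ∈ Finset.range fd.l, (Nat.card F - 1).gcd (fs.d.getD i 0) := by
  obtain ⟨h1, h2, h3⟩ := h
  have hu : Nat.card Fˣ = Nat.card F - 1 := by
    have := Fintype.ofFinite F
    classical
    rw [Nat.card_eq_fintype_card, Nat.card_eq_fintype_card, Fintype.card_units]
  rw [← Fin.prod_univ_eq_prod_range (fun i => (Nat.card F - 1).gcd (fs.d.getD i 0)) fd.l, C.ker_chi, ← hu]
  apply card_ker_torusHom (A := Fˣ) (cartM fd)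
    (Matrix.of fun i j : Fin fd.l => tblGet fs.P i.val j.val)
    (Matrix.of fun i j : Fin fd.l => tblGet fs.P' i.val j.val)
    (Matrix.of fun i j : Fin fd.l => tblGet fs.Q i.val j.val)
    (Matrix.of fun i j : Fin fd.l => tblGet fs.Q' i.val j.val)
    (fun i => fs.d.getD i.val 0)
  · ext i k
    rw [Matrix.mul_apply]
    simp only [Matrix.of_apply]
    rw [Fin.sum_univ_eq_sum_range (fun j => tblGet fs.P i.val j * tblGet fs.P' j k.val) fd.l,
      h1 i.val i.isLt k.val k.isLt, Matrix.one_apply]
    simp only [Fin.ext_iff]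
  · ext i k
    rw [Matrix.mul_apply]
    simp only [Matrix.of_apply]
    rw [Fin.sum_univ_eq_sum_range (fun j => tblGet fs.Q i.val j * tblGet fs.Q' j k.val) fd.l,
      h2 i.val i.isLt k.val k.isLt, Matrix.one_apply]
    simp only [Fin.ext_iff]
  · ext i k
    rw [Matrix.mul_apply]
    simp only [Matrix.mul_apply, Matrix.of_apply, cartM, Finset.sum_mul]
    rw [Finset.sum_comm]
    have e : ∀ a : Fin fd.l, ∑ b : Fin fd.l,
        tblGet fs.P i.val a.val * fd.carZ a.val (fd.simples.getD b.val 0) * tblGet fs.Q b.val k.val =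
        ∑ b ∈ Finset.range fd.l, tblGet fs.P i.val a.val * fd.carZ a.val (fd.simples.getD b 0) * tblGet fs.Q b k.val :=
      fun a => Fin.sum_univ_eq_sum_range
        (fun b => tblGet fs.P i.val a.val * fd.carZ a.val (fd.simples.getD b 0) * tblGet fs.Q b k.val) fd.l
    rw [Finset.sum_congr rfl (fun a _ => e a),
      Fin.sum_univ_eq_sum_range (fun a => ∑ b ∈ Finset.range fd.l,
        tblGet fs.P i.val a * fd.carZ a (fd.simples.getD b 0) * tblGet fs.Q b k.val) fd.l,
      h3 i.val i.isLt k.val k.isLt, Matrix.diagonal_apply]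
    simp only [Fin.ext_iff]

end Cert12

namespace StG

variable {C : Cert12 D fd fx fc fz} {F : Type*} [Field F] {M : Type*} [Group M] (S : StG C F M)
variable {wit : List (ℕ × ℕ)}

/-- the product `∏_i h̄_{p_i}(c_i)` -/
def hP (c : ℕ → F) : M := ((List.range fd.l).map fun i => S.hb (fd.simples.getD i 0) (c i)).prod

theorem θ_mem (g : M) : S.θ g ∈ D.group F := by
  have hg : g ∈ Subgroup.closure {g | ∃ r t, r < fd.n ∧ g = S.y r t} := by rw [S.gen]; trivial
  induction hg using Subgroup.closure_induction with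
  | mem x hx =>
    obtain ⟨r, t, hr, rfl⟩ := hx
    rw [S.θ_y r hr]
    exact C.c6.c2.xA_mem_group r t
  | one => rw [map_one]; exact one_mem _
  | mul x y _ _ hx hy => rw [map_mul]; exact mul_mem hx hy
  | inv x _ hx => rw [map_inv]; exact inv_mem hx

/-- the image of a product `∏_i h̄_{p_i}(c_i)` in the Chevalley group -/
theorem θ_hP (x : Fin fd.l → Fˣ) : S.θ (S.hP (cOf x)) = chiHom D fd F x := by
  apply gl_ext
  unfold hP
  rw [map_list_prod, List.map_map]
  have e2 : ((List.range fd.l).map (⇑S.θ ∘ fun i => S.hb (fd.simples.getD i 0) (cOf x i))) =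
      (List.range fd.l).map fun i => C.nE (fd.simples.getD i 0) (cOf x i) * C.nE (fd.simples.getD i 0) (-1) := by
    apply List.map_congr_left
    intro i hi
    simp only [Function.comp]
    rw [S.θ_hb _ (C.c6.c2.simple_lt i (List.mem_range.mp hi))]
  rw [e2, C.hprod_val (cOf x) (fun i _ => cOf_ne x i), chiHom_val]
  unfold Dg
  congr 1
  funext a
  cases a with
  | inl j =>
    simp only [entryHom, MonoidHom.coe_mk, OneHom.coe_mk, Units.val_one]
    apply Finset.prod_eq_one
    intro i _
    rw [C.c6.c2.hExp_inl, zpow_zero]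
  | inr s =>
    simp only [entryHom, MonoidHom.coe_mk, OneHom.coe_mk]
    rw [Units.coe_prod, ← Fin.prod_univ_eq_prod_range
      (fun i => cOf x i ^ hExp D fd fx (fd.simples.getD i 0) (Sum.inr s)) fd.l]
    apply Finset.prod_congr rfl
    intro i _
    rw [C.c6.c2.hExp_inr, C.c6.c2.pr_simple i.val _ i.isLt, Units.val_zpow_eq_zpow_val]
    unfold cOf
    rw [dif_pos i.isLt]

/-- the centre is in bijection with the kernel of the torus on the Chevalley group -/
theorem card_center (hst : fd.ChkSt fx wit) (h3 : S.R3)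
    (hinj : ∀ c c' : ℕ → F, (∀ i, c i ≠ 0) → (∀ i, c' i ≠ 0) → S.hP c = S.hP c' → ∀ i < fd.l, c i = c' i) :
    Nat.card (Subgroup.center M) = Nat.card (chiHom D fd F).ker := by
  symm
  apply Nat.card_congr
  have hwd : ∀ x : Fin fd.l → Fˣ, x ∈ (chiHom D fd F).ker → S.hP (cOf x) ∈ Subgroup.center M := by
    intro x hx
    rw [MonoidHom.mem_ker] at hx
    rw [Subgroup.mem_center_iff]
    intro g
    exact ((S.ker_spec hst _ (by rw [S.θ_hP, hx])).2 g).symm
  refine Equiv.ofBijective (fun x => ⟨S.hP (cOf x.val), hwd x.val x.property⟩) ⟨?_, ?_⟩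
  · intro x x' h
    have h1 : S.hP (cOf x.val) = S.hP (cOf x'.val) := congrArg Subtype.val h
    have h2 := hinj _ _ (cOf_ne x.val) (cOf_ne x'.val) h1
    apply Subtype.ext
    funext i
    apply Units.ext
    have := h2 i.val i.isLt
    unfold cOf at this
    rw [dif_pos i.isLt, dif_pos i.isLt] at this
    exact this
  · rintro ⟨z, hz⟩
    rw [Subgroup.mem_center_iff] at hz
    have hθz : S.θ z = 1 := by
      apply C.eq_one_of_comm _ (S.θ_mem z)
      intro r hr
      have h1 := hz (S.y r (1 : F))
      have h2 := congrArg S.θ h1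
      rw [map_mul, map_mul, S.θ_y r hr] at h2
      exact h2.symm
    have hH := S.ker_le_Hbar hst z hθz
    have e : S.Hbar = S.Hk fd.l := by
      unfold Hbar Hk
      congr 1
      ext g
      constructor
      · rintro ⟨i, t, hi, ht, rfl⟩
        exact ⟨i, t, hi, hi, ht, rfl⟩
      · rintro ⟨i, t, _, hi, ht, rfl⟩
        exact ⟨i, t, hi, ht, rfl⟩
    rw [e] at hH
    obtain ⟨c, hc, hzc⟩ := S.Hk_form hst h3 fd.l (le_refl _) z hH
    set x : Fin fd.l → Fˣ := fun i => Units.mk0 (c i.val) (hc i.val) with hx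
    have hzx : z = S.hP (cOf x) := by
      rw [hzc]
      unfold hP
      apply congrArg
      apply List.map_congr_left
      intro i hi
      have hi' := List.mem_range.mp hi
      unfold cOf
      rw [dif_pos hi']
      rfl
    have hker : x ∈ (chiHom D fd F).ker := by
      rw [MonoidHom.mem_ker, ← S.θ_hP, ← hzx, hθz]
    exact ⟨⟨x, hker⟩, Subtype.ext hzx.symm⟩

end StG

end Cfsg.Agent.Lib.H29.Chev
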