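import Mathlib
import Cfsg.Prelude.Def_ChevStructure
import Cfsg.Prelude.Def_Steinberg
import Cfsg.Prelude.Def_SteinbergCover
import Cfsg.Agent.Lib.H29.ChevCE6
import Cfsg.Agent.Lib.H29.ChevStM

/-!
# Embeddings of root systems: the group presented by (R1), (R2) of a subsystem maps to the Chevalley group of the
larger system, and the elements `h̄_p(t)` of the presented group are independent
-/

set_option autoImplicit false
set_option linter.unusedSectionVars false
set_option linter.unusedSimpArgs false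
set_option linter.unusedVariables false

namespace Cfsg.Agent.Lib.H29.Chev

open Cfsg.Lie Matrix

/-- entry `r` of a table of root indices packed in bytes -/
def ioGet (io : ℕ) (r : ℕ) : ℕ := (io >>> (8 * r)) &&& 255

/-- the table `io` sends the roots of `fd` to roots of `fd'`, compatibly with negation and with the commutator
formula (row `r`) -/
def FD.chkEmbR (fd fd' : FD) (io : ℕ) (r : ℕ) : Bool :=
  Nat.blt (ioGet io r) fd'.n &&
  Nat.beq (ioGet io (fd.n - 1 - r)) (fd'.n - 1 - ioGet io r) &&
  (List.range fd.n).all fun s => Nat.beq s r || Nat.beq s (fd.n - 1 - r) ||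
    (!Nat.beq (ioGet io s) (ioGet io r) && !Nat.beq (ioGet io s) (fd'.n - 1 - ioGet io r) &&
      FD.ctBeq (fd'.commT (ioGet io r) (ioGet io s))
        ((fd.commT r s).map fun c => (ioGet io c.1, c.2.1, c.2.2.1, c.2.2.2)))

theorem FD.emb_spec {fd fd' : FD} {io : ℕ} (h : ∀ r < fd.n, fd.chkEmbR fd' io r = true) (r : ℕ) (hr : r < fd.n) :
    ioGet io r < fd'.n ∧ ioGet io (fd.n - 1 - r) = fd'.n - 1 - ioGet io r ∧
    ∀ s < fd.n, s ≠ r → s ≠ fd.n - 1 - r → ioGet io s ≠ ioGet io r ∧ ioGet io s ≠ fd'.n - 1 - ioGet io r ∧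
      fd'.commT (ioGet io r) (ioGet io s) = (fd.commT r s).map fun c => (ioGet io c.1, c.2.1, c.2.2.1, c.2.2.2) := by
  have h1 := h r hr
  unfold FD.chkEmbR at h1
  simp only [Bool.and_eq_true, natBlt_iff, natBeq_iff, List.all_eq_true, List.mem_range, Bool.or_eq_true,
    Bool.not_eq_true', ← Bool.not_eq_true, ctBeq_iff] at h1
  refine ⟨h1.1.1, h1.1.2, ?_⟩
  intro s hs hsr hsn
  rcases h1.2 s hs with (h2 | h2) | h2
  · exact absurd h2 hsr
  · exact absurd h2 hsn
  · exact ⟨h2.1.1, h2.1.2, h2.2⟩

/-- `B` is a right inverse of the first `fd.l` rows of the Cartan matrix of `fd'` -/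
def FD.ChkUniL (fd fd' : FD) (B : List (List ℤ)) : Prop :=
  ∀ i < fd.l, ∀ k < fd.l,
    ∑ j ∈ Finset.range fd'.l, fd'.carZ i (fd'.simples.getD j 0) * tblGet B j k = if i = k then 1 else 0

instance (fd fd' : FD) (B : List (List ℤ)) : Decidable (fd.ChkUniL fd' B) := by
  unfold FD.ChkUniL
  infer_instance

/-- the fundamental roots of `fd` go to the first fundamental roots of `fd'` -/
def FD.ChkEmbS (fd fd' : FD) (io : ℕ) : Prop :=
  fd.l ≤ fd'.l ∧ ∀ i < fd.l, ioGet io (fd.simples.getD i 0) = fd'.simples.getD i 0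

instance (fd fd' : FD) (io : ℕ) : Decidable (fd.ChkEmbS fd' io) := by
  unfold FD.ChkEmbS
  infer_instance

variable {D : ChevalleyDatum} {fd : FD} {fx : FX} {fc : FC} {fz : FZ}
variable {D' : ChevalleyDatum} {fd' : FD} {fx' : FX} {fc' : FC} {fz' : FZ}

/-- the parameters of a trivial product are trivial when the rows of the Cartan matrix have a right inverse -/
theorem uniL_eq_one {F : Type*} [Field F] (fd fd' : FD) (hl : fd.l ≤ fd'.l) (B : List (List ℤ))
    (hB : fd.ChkUniL fd' B) (e : ℕ → F) (he : ∀ i, e i ≠ 0) (he1 : ∀ i, fd.l ≤ i → e i = 1)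
    (h : ∀ j < fd'.l, ∏ i ∈ Finset.range fd'.l, e i ^ fd'.carZ i (fd'.simples.getD j 0) = 1) :
    ∀ k < fd.l, e k = 1 := by
  intro k hk
  have hk' : k < fd'.l := lt_of_lt_of_le hk hl
  have e1 : e k = ∏ i ∈ Finset.range fd'.l, e i ^ (if i = k then (1 : ℤ) else 0) := by
    rw [Finset.prod_eq_single k]
    · simp
    · intro i _ hik
      simp [hik]
    · intro h; exact absurd (Finset.mem_range.mpr hk') h
  rw [e1]
  have e2 : ∀ i ∈ Finset.range fd'.l, e i ^ (if i = k then (1 : ℤ) else 0) =
      ∏ j ∈ Finset.range fd'.l, (e i ^ fd'.carZ i (fd'.simples.getD j 0)) ^ tblGet B j k := by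
    intro i hi
    by_cases hil : i < fd.l
    · rw [← hB i hil k hk, zpow_finsum _ (he i)]
      apply Finset.prod_congr rfl
      intro j _
      rw [_root_.zpow_mul]
    · rw [he1 i (by omega), _root_.one_zpow]
      symm
      apply Finset.prod_eq_one
      intro j _
      rw [_root_.one_zpow, _root_.one_zpow]
  rw [Finset.prod_congr rfl e2, Finset.prod_comm]
  apply Finset.prod_eq_one
  intro j hj
  rw [Finset.prod_zpow, h j (Finset.mem_range.mp hj), _root_.one_zpow]

theorem list_range_prod_extend {G : Type*} [Monoid G] (f : ℕ → G) (l l' : ℕ) (hl : l ≤ l')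
    (h : ∀ i, l ≤ i → i < l' → f i = 1) : ((List.range l').map f).prod = ((List.range l).map f).prod := by
  induction l' with
  | zero =>
    have : l = 0 := by omega
    rw [this]
  | succ m ih =>
    rcases Nat.lt_or_ge l (m + 1) with hlt | hge
    · rw [List.range_succ, List.map_append, List.prod_append, List.map_singleton, List.prod_singleton,
        h m (by omega) (by omega), mul_one]
      exact ih (by omega) (fun i h1 h2 => h i h1 (by omega))
    · have : l = m + 1 := by omega
      rw [this]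

namespace Cert12

variable (C : Cert12 D fd fx fc fz) (C' : Cert12 D' fd' fx' fc' fz') (K : Type*) [Field K]
include C C'

/-- the group presented by (R1), (R2) of the subsystem maps to the Chevalley group of the larger system -/
theorem emb_hom (io : ℕ) (h : ∀ r < fd.n, fd.chkEmbR fd' io r = true) :
    ∃ ψ : D.SteinbergCover K →* GL D'.Idx K, ∀ r, r < fd.n → ∀ t,
      ψ (PresentedGroup.mk _ (D.stX r t)) = C'.c6.c2.xA (ioGet io r) t := by
  apply C.cover_hom K (fun r t => C'.c6.c2.xA (ioGet io r) t)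
  · intro r _ t u
    exact C'.c6.c2.xA_mul _ t u
  · intro r s hr hs h1 h2 t u
    obtain ⟨hr', _, h3⟩ := fd.emb_spec h r hr
    obtain ⟨hs', _, _⟩ := fd.emb_spec h s hs
    obtain ⟨h4, h5, h6⟩ := h3 s hs h1 h2
    have := C'.c6.cfg (F := K) _ _ hr' hs' h4 h5 t u
    rw [this, h6]
    unfold Cert2.ctG
    rw [List.map_map]
    rfl

variable {wit : List (ℕ × ℕ)}

/-- the elements `h̄_p(t)` of the group presented by (R1), (R2) are independent -/
theorem emb_inj (io : ℕ) (h : ∀ r < fd.n, fd.chkEmbR fd' io r = true) (hS : fd.ChkEmbS fd' io)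
    (B : List (List ℤ)) (hB : fd.ChkUniL fd' B) (c c' : ℕ → K) (hc : ∀ i, c i ≠ 0) (hc' : ∀ i, c' i ≠ 0)
    (heq : ((List.range fd.l).map fun i => (C.coverStG K).hb (fd.simples.getD i 0) (c i)).prod =
      ((List.range fd.l).map fun i => (C.coverStG K).hb (fd.simples.getD i 0) (c' i)).prod) :
    ∀ i < fd.l, c i = c' i := by
  obtain ⟨ψ, hψ⟩ := C.emb_hom C' K io h
  obtain ⟨hl, hS⟩ := hS
  set S := C.coverStG K with hSdef
  have hy : ∀ r, r < fd.n → ∀ t, ψ (S.y r t) = C'.c6.c2.xA (ioGet io r) t := fun r hr t => hψ r hr t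
  have hnb : ∀ r, r < fd.n → ∀ t, ψ (S.nb r t) = C'.nE (ioGet io r) t := by
    intro r hr t
    unfold StG.nb Cert12.nE
    rw [map_mul, map_mul, hy r hr, hy _ (by omega), (fd.emb_spec h r hr).2.1]
  have hhb : ∀ i, i < fd.l → ∀ t, ψ (S.hb (fd.simples.getD i 0) t) =
      C'.nE (fd'.simples.getD i 0) t * C'.nE (fd'.simples.getD i 0) (-1) := by
    intro i hi t
    unfold StG.hb
    rw [map_mul, hnb _ (C.c6.c2.simple_lt i hi), hnb _ (C.c6.c2.simple_lt i hi), hS i hi]
  -- the image of a product
  have himg : ∀ d : ℕ → K, (∀ i, d i ≠ 0) →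
      ((ψ ((List.range fd.l).map fun i => S.hb (fd.simples.getD i 0) (d i)).prod : GL D'.Idx K) :
        Matrix D'.Idx D'.Idx K) = Dg D' fd' fx' (fun i => if i < fd.l then d i else 1) := by
    intro d hd
    rw [← C'.hprod_val (fun i => if i < fd.l then d i else 1) (fun i _ => by
      by_cases hi : i < fd.l
      · rw [if_pos hi]; exact hd i
      · rw [if_neg hi]; exact one_ne_zero)]
    congr 1
    rw [map_list_prod, List.map_map, list_range_prod_extend _ fd.l fd'.l hl]
    · apply congrArg
      apply List.map_congr_left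
      intro i hi
      have hi' := List.mem_range.mp hi
      simp only [Function.comp]
      rw [hhb i hi', if_pos hi']
    · intro i h1 h2
      rw [if_neg (by omega), ← neg_neg (1 : K), ← C'.nE_inv, neg_neg, inv_mul_cancel]
  have h1 := himg c hc
  rw [heq, himg c' hc'] at h1
  -- the quotient of the parameters
  set e : ℕ → K := fun i => (if i < fd.l then c i else 1) / (if i < fd.l then c' i else 1) with he
  have he0 : ∀ i, e i ≠ 0 := by
    intro i
    simp only [he]
    by_cases hi : i < fd.l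
    · rw [if_pos hi, if_pos hi]; exact div_ne_zero (hc i) (hc' i)
    · rw [if_neg hi, if_neg hi]; simp
  have he1 : ∀ i, fd.l ≤ i → e i = 1 := by
    intro i hi
    simp only [he]
    rw [if_neg (by omega), if_neg (by omega), div_one]
  have hprod : ∀ j < fd'.l, ∏ i ∈ Finset.range fd'.l, e i ^ fd'.carZ i (fd'.simples.getD j 0) = 1 := by
    intro j hj
    have hp := C'.c6.c2.simple_lt j hj
    have hp' : fd'.simples.getD j 0 < D'.nroots := by rw [C'.c6.c2.nroots_eq]; exact hp
    have h2 := congrFun (congrFun h1 (Sum.inr ⟨_, hp'⟩)) (Sum.inr ⟨_, hp'⟩)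
    unfold Dg at h2
    rw [Matrix.diagonal_apply_eq, Matrix.diagonal_apply_eq] at h2
    have hx : ∀ i ∈ Finset.range fd'.l,
        hExp D' fd' fx' (fd'.simples.getD i 0) (Sum.inr ⟨fd'.simples.getD j 0, hp'⟩) =
          fd'.carZ i (fd'.simples.getD j 0) := by
      intro i hi
      rw [C'.c6.c2.hExp_simple_inr i (Finset.mem_range.mp hi),
        C'.c6.c2.agrees.cartan_eq i _ (Finset.mem_range.mp hi) hp]
    have e3 : ∀ d : ℕ → K, ∏ i ∈ Finset.range fd'.l,
        d i ^ hExp D' fd' fx' (fd'.simples.getD i 0) (Sum.inr ⟨fd'.simples.getD j 0, hp'⟩) =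
        ∏ i ∈ Finset.range fd'.l, d i ^ fd'.carZ i (fd'.simples.getD j 0) := by
      intro d
      apply Finset.prod_congr rfl
      intro i hi
      rw [hx i hi]
    rw [e3, e3] at h2
    simp only [he, div_zpow, Finset.prod_div_distrib]
    rw [h2]
    apply div_self
    rw [Finset.prod_ne_zero_iff]
    intro i _
    apply zpow_ne_zero
    by_cases hi : i < fd.l
    · rw [if_pos hi]; exact hc i
    · rw [if_neg hi]; exact one_ne_zero
  have key := uniL_eq_one fd fd' hl B hB e he0 he1 hprod
  intro i hi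
  have := key i hi
  simp only [he] at this
  rw [if_pos hi, if_pos hi] at this
  exact (div_eq_one_iff_eq (hc' i)).mp this

end Cert12

end Cfsg.Agent.Lib.H29.Chev
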