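import Mathlib
import Cfsg.Prelude.Def_ChevStructure
import Cfsg.Prelude.Def_Steinberg
import Cfsg.Prelude.Def_SteinbergCover
import Cfsg.Agent.Lib.H29.ChevCen1
import Cfsg.Agent.Lib.H29.ChevEmb1

/-!
# The order of the centre of the group presented by Steinberg's relations, for a root system embedded in a larger one
-/

set_option autoImplicit false
set_option linter.unusedSectionVars false
set_option linter.unusedSimpArgs false
set_option linter.unusedVariables false

namespace Cfsg.Agent.Lib.H29.Chev

open Cfsg.Lie Matrix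

variable {D : ChevalleyDatum} {fd : FD} {fx : FX} {fc : FC} {fz : FZ}
variable {D' : ChevalleyDatum} {fd' : FD} {fx' : FX} {fc' : FC} {fz' : FZ}

namespace Cert12

variable (C : Cert12 D fd fx fc fz) (C' : Cert12 D' fd' fx' fc' fz') (K : Type*) [Field K]
include C C'

variable {wit : List (ℕ × ℕ)}

/-- the order of the centre of the group presented by (R1), (R2) over a finite field -/
theorem card_center_cover [Finite K] (hst : fd.ChkSt fx wit) (io : ℕ)
    (h : ∀ r < fd.n, fd.chkEmbR fd' io r = true) (hS : fd.ChkEmbS fd' io)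
    (B : List (List ℤ)) (hB : fd.ChkUniL fd' B) (fs : FS) (hfs : fd.ChkSmith fs) :
    Nat.card (Subgroup.center (D.SteinbergCover K)) =
      ∏ i ∈ Finset.range fd.l, (Nat.card K - 1).gcd (fs.d.getD i 0) := by
  rw [(C.coverStG K).card_center hst ((C.coverStG K).R3_of_finite hst)
    (fun c c' hc hc' heq => C.emb_inj C' K io h hS B hB c c' hc hc' heq), C.card_ker_chi_smith fs hfs]

/-- the order of the centre of the group presented by (R1)-(R3) over a finite field -/
theorem card_center_steinberg [Finite K] (hst : fd.ChkSt fx wit) (io : ℕ)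
    (h : ∀ r < fd.n, fd.chkEmbR fd' io r = true) (hS : fd.ChkEmbS fd' io)
    (B : List (List ℤ)) (hB : fd.ChkUniL fd' B) (fs : FS) (hfs : fd.ChkSmith fs) :
    Nat.card (Subgroup.center (D.SteinbergGroup K)) =
      ∏ i ∈ Finset.range fd.l, (Nat.card K - 1).gcd (fs.d.getD i 0) := by
  obtain ⟨e, _⟩ := C.cover_equiv K hst
  rw [← C.card_center_cover C' K hst io h hS B hB fs hfs]
  exact Nat.card_congr (Subgroup.centerCongr e).symm.toEquiv

end Cert12

end Cfsg.Agent.Lib.H29.Chev
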