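import Mathlib
import Cfsg.Prelude.Def_LieChev
import Cfsg.Agent.Lib.H29.ChevGen2
import Cfsg.Agent.Lib.H29.ChevChkAddG2
import Cfsg.Agent.Lib.H29.ChevChkAddB2
import Cfsg.Agent.Lib.H29.ChevChkAddD4
import Cfsg.Agent.Lib.H29.ChevChkAddF4
import Cfsg.Agent.Lib.H29.ChevChkAddE6
import Cfsg.Agent.Lib.H29.ChevChkAddE7
import Cfsg.Agent.Lib.H29.ChevChkAddE8
import Cfsg.Agent.Lib.H29.ChevChkLevG2
import Cfsg.Agent.Lib.H29.ChevChkLevB2
import Cfsg.Agent.Lib.H29.ChevChkLevD4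
import Cfsg.Agent.Lib.H29.ChevChkLevF4
import Cfsg.Agent.Lib.H29.ChevChkLevE6
import Cfsg.Agent.Lib.H29.ChevChkLevE7
import Cfsg.Agent.Lib.H29.ChevChkLevE8

/-!
# First bundle of verified facts about the seven Chevalley data
-/

set_option autoImplicit false

namespace Cfsg.Agent.Lib.H29.Chev

open Cfsg.Lie

/-- the packed tables agree with the datum and pass the additivity and level checks -/
structure Cert1 (D : ChevalleyDatum) (fd : FD) : Prop where
  agrees : Agrees D fd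
  add : fd.ChkAdd
  lev : fd.ChkLev
  hl : 1 ≤ fd.l
  heven : fd.n % 2 = 0

theorem cert1_of_mem (D : ChevalleyDatum)
    (hD : D ∈ [chevG2, chevB2, chevD4, chevF4, chevE6, chevE7, chevE8]) : ∃ fd : FD, Cert1 D fd := by
  simp only [List.mem_cons, List.not_mem_nil, or_false] at hD
  rcases hD with rfl | rfl | rfl | rfl | rfl | rfl | rfl
  · exact ⟨fdG2, fdG2_agrees, fdG2_ChkAdd, fdG2_ChkLev, by decide, by decide⟩
  · exact ⟨fdB2, fdB2_agrees, fdB2_ChkAdd, fdB2_ChkLev, by decide, by decide⟩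
  · exact ⟨fdD4, fdD4_agrees, fdD4_ChkAdd, fdD4_ChkLev, by decide, by decide⟩
  · exact ⟨fdF4, fdF4_agrees, fdF4_ChkAdd, fdF4_ChkLev, by decide, by decide⟩
  · exact ⟨fdE6, fdE6_agrees, fdE6_ChkAdd, fdE6_ChkLev, by decide, by decide⟩
  · exact ⟨fdE7, fdE7_agrees, fdE7_ChkAdd, fdE7_ChkLev, by decide, by decide⟩
  · exact ⟨fdE8, fdE8_agrees, fdE8_ChkAdd, fdE8_ChkLev, by decide, by decide⟩

end Cfsg.Agent.Lib.H29.Chev
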