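import Mathlib
import Cfsg.Prelude.Def_LieChev
import Cfsg.Agent.Lib.H29.ChevCert6
import Cfsg.Agent.Lib.H29.ChevGen22

/-!
# The sixth bundle again, for the files that use the later general lemmas
-/

set_option autoImplicit false

namespace Cfsg.Agent.Lib.H29.Chev

open Cfsg.Lie

theorem cert7_of_mem (D : ChevalleyDatum)
    (hD : D ∈ [chevG2, chevB2, chevD4, chevF4, chevE6, chevE7, chevE8]) :
    ∃ fd fx fc, Cert6 D fd fx fc := cert6_of_mem D hD

end Cfsg.Agent.Lib.H29.Chev
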