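import Mathlib
import Cfsg.Agent.Lib.H29.ChevDataE7
import Cfsg.Agent.Lib.H29.ChevDataXE7
import Cfsg.Agent.Lib.H29.ChevFast8
import Cfsg.Agent.Lib.H29.ChevGen1


set_option autoImplicit false

namespace Cfsg.Agent.Lib.H29.Chev

set_option maxRecDepth 1000000 in
set_option maxHeartbeats 0 in
theorem fdE7_LinC_c0s0 : allR 0 1984 (fdE7.chkLinCQ fxE7) = true := by decide +kernel

set_option maxRecDepth 1000000 in
set_option maxHeartbeats 0 in
theorem fdE7_LinC_c0s1 : allR 1984 3969 (fdE7.chkLinCQ fxE7) = true := by decide +kernel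

set_option maxRecDepth 1000000 in
set_option maxHeartbeats 0 in
theorem fdE7_LinC_c0s2 : allR 3969 5953 (fdE7.chkLinCQ fxE7) = true := by decide +kernel

set_option maxRecDepth 1000000 in
set_option maxHeartbeats 0 in
theorem fdE7_LinC_c0s3 : allR 5953 7938 (fdE7.chkLinCQ fxE7) = true := by decide +kernel

set_option maxRecDepth 1000000 in
set_option maxHeartbeats 0 in
theorem fdE7_LinC_c0s4 : allR 7938 9922 (fdE7.chkLinCQ fxE7) = true := by decide +kernel

set_option maxRecDepth 1000000 in
set_option maxHeartbeats 0 in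
theorem fdE7_LinC_c0s5 : allR 9922 11907 (fdE7.chkLinCQ fxE7) = true := by decide +kernel

set_option maxRecDepth 1000000 in
set_option maxHeartbeats 0 in
theorem fdE7_LinC_c0s6 : allR 11907 13891 (fdE7.chkLinCQ fxE7) = true := by decide +kernel

set_option maxRecDepth 1000000 in
set_option maxHeartbeats 0 in
theorem fdE7_LinC_c0s7 : allR 13891 15876 (fdE7.chkLinCQ fxE7) = true := by decide +kernel

theorem fdE7_ChkLinC : fdE7.ChkLinC fxE7 := by
  intro r hr
  have hr' : r < 15876 := hr
  by_cases h1984 : r < 1984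
  · exact allR_spec fdE7_LinC_c0s0 r (by omega) h1984
  by_cases h3969 : r < 3969
  · exact allR_spec fdE7_LinC_c0s1 r (by omega) h3969
  by_cases h5953 : r < 5953
  · exact allR_spec fdE7_LinC_c0s2 r (by omega) h5953
  by_cases h7938 : r < 7938
  · exact allR_spec fdE7_LinC_c0s3 r (by omega) h7938
  by_cases h9922 : r < 9922
  · exact allR_spec fdE7_LinC_c0s4 r (by omega) h9922
  by_cases h11907 : r < 11907
  · exact allR_spec fdE7_LinC_c0s5 r (by omega) h11907
  by_cases h13891 : r < 13891
  · exact allR_spec fdE7_LinC_c0s6 r (by omega) h13891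
  exact allR_spec fdE7_LinC_c0s7 r (by omega) hr'

end Cfsg.Agent.Lib.H29.Chev
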