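import Mathlib
import Cfsg.Agent.Lib.H29.ChevDataE7
import Cfsg.Agent.Lib.H29.ChevDataXE7
import Cfsg.Agent.Lib.H29.ChevFast2
import Cfsg.Agent.Lib.H29.ChevChkNE7c0
import Cfsg.Agent.Lib.H29.ChevChkNE7c1

set_option autoImplicit false

namespace Cfsg.Agent.Lib.H29.Chev

theorem fdE7_ChkN : fdE7.ChkN fxE7 := by
  intro r hr
  have hr' : r < 126 := hr
  by_cases h7 : r < 7
  · exact allR_spec fdE7_N_c0s0 r (by omega) h7
  by_cases h15 : r < 15
  · exact allR_spec fdE7_N_c0s1 r (by omega) h15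
  by_cases h23 : r < 23
  · exact allR_spec fdE7_N_c0s2 r (by omega) h23
  by_cases h31 : r < 31
  · exact allR_spec fdE7_N_c0s3 r (by omega) h31
  by_cases h39 : r < 39
  · exact allR_spec fdE7_N_c0s4 r (by omega) h39
  by_cases h47 : r < 47
  · exact allR_spec fdE7_N_c0s5 r (by omega) h47
  by_cases h55 : r < 55
  · exact allR_spec fdE7_N_c0s6 r (by omega) h55
  by_cases h63 : r < 63
  · exact allR_spec fdE7_N_c0s7 r (by omega) h63
  by_cases h70 : r < 70
  · exact allR_spec fdE7_N_c1s0 r (by omega) h70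
  by_cases h78 : r < 78
  · exact allR_spec fdE7_N_c1s1 r (by omega) h78
  by_cases h86 : r < 86
  · exact allR_spec fdE7_N_c1s2 r (by omega) h86
  by_cases h94 : r < 94
  · exact allR_spec fdE7_N_c1s3 r (by omega) h94
  by_cases h102 : r < 102
  · exact allR_spec fdE7_N_c1s4 r (by omega) h102
  by_cases h110 : r < 110
  · exact allR_spec fdE7_N_c1s5 r (by omega) h110
  by_cases h118 : r < 118
  · exact allR_spec fdE7_N_c1s6 r (by omega) h118
  exact allR_spec fdE7_N_c1s7 r (by omega) hr'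

end Cfsg.Agent.Lib.H29.Chev
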