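import Mathlib
import Cfsg.Agent.Lib.H29.ChevDataE6
import Cfsg.Agent.Lib.H29.ChevDataXE6
import Cfsg.Agent.Lib.H29.ChevDataPE6
import Cfsg.Agent.Lib.H29.ChevFast9
import Cfsg.Agent.Lib.H29.ChevGen1

set_option autoImplicit false

namespace Cfsg.Agent.Lib.H29.Chev

set_option maxRecDepth 1000000 in
set_option maxHeartbeats 0 in
theorem fdE6_W0_s0 : allR 0 2 (fdE6.chkWA fxE6 fpE6k0 0) = true := by decide +kernel

theorem fdE6_ChkW0 : fdE6.ChkW fxE6 fpE6k0 0 := by
  intro r hr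
  have hr' : r < 2 := hr
  exact allR_spec fdE6_W0_s0 r (by omega) hr'

set_option maxRecDepth 1000000 in
set_option maxHeartbeats 0 in
theorem fdE6_W1_s0 : allR 0 2 (fdE6.chkWA fxE6 fpE6k1 1) = true := by decide +kernel

theorem fdE6_ChkW1 : fdE6.ChkW fxE6 fpE6k1 1 := by
  intro r hr
  have hr' : r < 2 := hr
  exact allR_spec fdE6_W1_s0 r (by omega) hr'

set_option maxRecDepth 1000000 in
set_option maxHeartbeats 0 in
theorem fdE6_W2_s0 : allR 0 3 (fdE6.chkWA fxE6 fpE6k2 2) = true := by decide +kernel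

theorem fdE6_ChkW2 : fdE6.ChkW fxE6 fpE6k2 2 := by
  intro r hr
  have hr' : r < 3 := hr
  exact allR_spec fdE6_W2_s0 r (by omega) hr'

set_option maxRecDepth 1000000 in
set_option maxHeartbeats 0 in
theorem fdE6_W3_s0 : allR 0 10 (fdE6.chkWA fxE6 fpE6k3 3) = true := by decide +kernel

theorem fdE6_ChkW3 : fdE6.ChkW fxE6 fpE6k3 3 := by
  intro r hr
  have hr' : r < 10 := hr
  exact allR_spec fdE6_W3_s0 r (by omega) hr'

set_option maxRecDepth 1000000 in
set_option maxHeartbeats 0 in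
theorem fdE6_W4_s0 : allR 0 16 (fdE6.chkWA fxE6 fpE6k4 4) = true := by decide +kernel

theorem fdE6_ChkW4 : fdE6.ChkW fxE6 fpE6k4 4 := by
  intro r hr
  have hr' : r < 16 := hr
  exact allR_spec fdE6_W4_s0 r (by omega) hr'

set_option maxRecDepth 1000000 in
set_option maxHeartbeats 0 in
theorem fdE6_W5_s0 : allR 0 27 (fdE6.chkWA fxE6 fpE6k5 5) = true := by decide +kernel

theorem fdE6_ChkW5 : fdE6.ChkW fxE6 fpE6k5 5 := by
  intro r hr
  have hr' : r < 27 := hr
  exact allR_spec fdE6_W5_s0 r (by omega) hr'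

end Cfsg.Agent.Lib.H29.Chev
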