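import Mathlib
import Cfsg.Prelude.Def_LieExceptional
import Cfsg.Agent.Lib.H2.CoxExch
import Cfsg.Agent.S0320

/-!
# The Weyl group of a `(B, N)`-pair as a given Coxeter group

The Coxeter matrix of the Weyl group consists of the orders of the products of the distinguished generators.
-/

set_option autoImplicit false
set_option linter.unusedSectionVars false
set_option linter.unusedSimpArgs false
set_option linter.unusedVariables false

namespace Cfsg.Agent.Lib.H29.Chev

open Cfsg.Agent.Lib.H2.CoxExch

/-- the exchange condition gives a Coxeter system for the matrix of the orders of the products -/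
theorem exists_coxeterSystem_order {W : Type*} [Group W] {B : Type*} {σ : B → W} (hσ : Exch σ)
    (hinj : Function.Injective σ) (hgen : Subgroup.closure (Set.range σ) = ⊤) :
    ∃ (M : CoxeterMatrix B) (cs : CoxeterSystem M W), (∀ i, cs.simple i = σ i) ∧
      ∀ i j, M i j = orderOf (σ i * σ j) := by
  classical
  let M : CoxeterMatrix B :=
    { M := Matrix.of fun i j => orderOf (σ i * σ j)
      isSymm := by
        ext i j
        simp only [Matrix.transpose_apply, Matrix.of_apply]
        have : σ j * σ i = (σ i * σ j)⁻¹ := by rw [mul_inv_rev, hσ.inv, hσ.inv]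
        rw [this, orderOf_inv]
      diagonal := fun i => by simp [hσ.sq]
      off_diagonal := fun i j hij h => by
        simp only [Matrix.of_apply, orderOf_eq_one_iff] at h
        apply hij
        apply hinj
        rw [← hσ.inv j]
        exact eq_inv_of_mul_eq_one_left h }
  have hM : ∀ i j, M i j = orderOf (σ i * σ j) := fun i j => rfl
  have hlift : M.IsLiftable σ := fun i j => by rw [hM]; exact pow_orderOf_eq_one _
  let φ : M.Group →* W := M.toCoxeterSystem.lift ⟨σ, hlift⟩
  have hφ : ∀ i, φ (M.simple i) = σ i := fun i => M.toCoxeterSystem.lift_apply_simple hlift i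
  have hf : Compat σ M.simple :=
    { sq := fun i => M.toCoxeterSystem.simple_mul_simple_self i
      br := fun i j => by
        rw [← hM]
        exact M.toCoxeterSystem.simple_mul_simple_pow i j }
  have hsurj := wp_surjective hσ hgen
  let g : W →* M.Group := gHom hσ hf hsurj
  have hg : ∀ i, g (σ i) = M.simple i := gHom_simple hσ hf hsurj
  have h1 : φ.comp g = MonoidHom.id W := by
    apply MonoidHom.eq_of_eqOn_dense hgen
    rintro _ ⟨i, rfl⟩
    simp [hg, hφ]
  have h2 : g.comp φ = MonoidHom.id M.Group := by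
    apply M.toCoxeterSystem.ext_simple
    intro i
    simp only [MonoidHom.comp_apply, MonoidHom.id_apply, CoxeterMatrix.toCoxeterSystem_simple]
    rw [hφ, hg]
  let e : W ≃* M.Group := MonoidHom.toMulEquiv g φ h1 h2
  exact ⟨M, ⟨e⟩, fun i => hφ i, hM⟩

theorem bn_normal {G : Type*} [Group G] (P : Cfsg.BNPair G) : ((P.B ⊓ P.N).subgroupOf P.N).Normal := by
  refine ⟨fun t ht n => ?_⟩
  rw [Subgroup.mem_subgroupOf] at ht ⊢
  exact ⟨P.conj_mem n n.2 t ht, P.N.mul_mem (P.N.mul_mem n.2 t.2) (P.N.inv_mem n.2)⟩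

/-- the Weyl group of a `(B, N)`-pair is the Coxeter group of a given matrix, if the entries of the matrix
are the orders of the products of the distinguished generators -/
theorem bn_weyl_coxeter {G : Type*} [Group G] (P : Cfsg.BNPair G) {n : ℕ} (M₀ : CoxeterMatrix (Fin n))
    (e : Fin n ≃ P.S)
    (hM : ∀ i j : Fin n, haveI := bn_normal P
      orderOf ((QuotientGroup.mk (⟨((e i : P.S) : G), P.subset (e i).2⟩ : P.N) : P.N ⧸ (P.B ⊓ P.N).subgroupOf P.N) *
        QuotientGroup.mk (⟨((e j : P.S) : G), P.subset (e j).2⟩ : P.N)) = M₀ i j) :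
    ∃ φ : P.N →* M₀.Group, Function.Surjective φ ∧ φ.ker = (P.B ⊓ P.N).subgroupOf P.N ∧
      ∀ i : Fin n, φ ⟨((e i : P.S) : G), P.subset (e i).2⟩ = M₀.simple i := by
  haveI := bn_normal P
  obtain ⟨M, cs, hcs, hMo⟩ := exists_coxeterSystem_order (Cfsg.Agent.S0320.exch_sg P)
    (Cfsg.Agent.S0320.sg_injective P) (Cfsg.Agent.S0320.closure_sg P)
  have hMe : M.reindex e.symm = M₀ := by
    apply CoxeterMatrix.ext
    ext i j
    rw [CoxeterMatrix.reindex_apply, Equiv.symm_symm, hMo, ← hM i j]
    rfl
  let cs' : CoxeterSystem (M.reindex e.symm) (P.N ⧸ (P.B ⊓ P.N).subgroupOf P.N) := cs.reindex e.symm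
  have hcs' : ∀ i, cs'.simple i = QuotientGroup.mk (⟨((e i : P.S) : G), P.subset (e i).2⟩ : P.N) := by
    intro i
    rw [CoxeterSystem.reindex_simple, Equiv.symm_symm, hcs]
    rfl
  clear_value cs'
  revert cs' 
  rw [hMe]
  intro cs' hcs'
  refine ⟨cs'.mulEquiv.toMonoidHom.comp (QuotientGroup.mk' _), ?_, ?_, ?_⟩
  · exact cs'.mulEquiv.surjective.comp (QuotientGroup.mk'_surjective _)
  · ext x
    rw [MonoidHom.mem_ker, MonoidHom.comp_apply]
    show cs'.mulEquiv (QuotientGroup.mk' _ x) = 1 ↔ _
    rw [map_eq_one_iff _ cs'.mulEquiv.injective, QuotientGroup.mk'_apply, QuotientGroup.eq_one_iff]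
  · intro i
    rw [MonoidHom.comp_apply]
    show cs'.mulEquiv (QuotientGroup.mk _) = _
    rw [← hcs' i]
    exact cs'.mulEquiv.apply_symm_apply _

end Cfsg.Agent.Lib.H29.Chev
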