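import Mathlib
import Cfsg.Prelude.Def_ChevStructure
import Cfsg.Prelude.Def_LieExceptional
import Cfsg.Agent.Lib.H29.ChevCox1
import Cfsg.Agent.Lib.H29.ChevTw29

/-!
# The Weyl group of a twisted group as a Coxeter group
-/

set_option autoImplicit false
set_option linter.unusedSectionVars false
set_option linter.unusedSimpArgs false
set_option linter.unusedVariables false

namespace Cfsg.Agent.Lib.H29.Chev

open Cfsg.Lie Matrix

variable {D : ChevalleyDatum} {fd : FD} {fx : FX} {fc : FC} {fz : FZ} {F : Type*} [Field F]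

namespace FD

variable (fd : FD) (fx : FX) (ga : GA) (k : ℕ)

/-- the orders of the products `w_S w_S'` -/
def chkCoxS (sreps : List ℕ) (Ml : List (List ℕ)) : Bool :=
  (List.range sreps.length).all fun ii => (List.range sreps.length).all fun jj =>
    Nat.blt 0 ((Ml.getD ii []).getD jj 0) &&
    ((List.range fd.n).all fun s =>
      Nat.beq ((fun s => fd.piS fx ga k (sreps.getD ii 0) (fd.piS fx ga k (sreps.getD jj 0) s))^[(Ml.getD ii []).getD jj 0] s) s) &&
    ((List.range ((Ml.getD ii []).getD jj 0)).all fun d => Nat.beq d 0 || (List.range fd.n).any fun s =>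
      !(Nat.beq ((fun s => fd.piS fx ga k (sreps.getD ii 0) (fd.piS fx ga k (sreps.getD jj 0) s))^[d] s) s))

end FD

namespace Cert12

variable (C : Cert12 D fd fx fc fz) {ga : GA} {k : ℕ} (T : TwSpec fd fx ga k) (T2 : TwSpec2 fd fx ga k)
  (φ : F →+* F)
include C

theorem perm_pow (m : GL D.Idx F) (π : ℕ → ℕ) (hπ : C.c6.c2.Perm m π) (d : ℕ) : C.c6.c2.Perm (m ^ d) (π^[d]) := by
  induction d with
  | zero =>
    rw [pow_zero]
    exact C.c6.perm_one
  | succ d ih =>
    rw [pow_succ', Function.iterate_succ']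
    exact C.c6.perm_mul hπ ih

include T T2

/-- a power of an element of `N` lies in `H` if and only if the power of its permutation is the identity -/
theorem pow_mem_diag_iff (m : GL D.Idx F) (hm : m ∈ D.monomialSubgroup F) (π : ℕ → ℕ) (hπ : C.c6.c2.Perm m π)
    (d : ℕ) : m ^ d ∈ D.diagonalSubgroup F ↔ ∀ s < fd.n, π^[d] s = s := by
  have hp := C.perm_pow m π hπ d
  constructor
  · intro h
    have := C.perm_eq_of_diag T T2 1 (m ^ d) (one_mem _) id (π^[d]) C.c6.perm_one hp (by simpa using h)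
    intro s hs
    exact (this s hs).symm
  · intro h
    have := C.mul_inv_mem_diag T T2 (m ^ d) 1 (pow_mem hm d) (one_mem _) _ _ hp C.c6.perm_one h
    simpa using this

/-- the Weyl group of a twisted group is the Coxeter group of the matrix of the orders of the products `w_S w_S'` -/
theorem tw_weyl_coxeter [Finite F] (hk : k = 2 ∨ k = 3) (hφk : ∀ x : F, φ^[k] x = x) {RL sreps : List ℕ}
    (S : ChainSpec fd fx ga k RL sreps) {fq : FQ} (hQ : fd.ChkQ fx ga k sreps RL fq) (hdk : 0 < fq.dk)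
    (hcov : ∀ i < fd.l, ∃ ii < sreps.length, ∃ j < k, i = rhIt ga j (sreps.getD ii 0))
    (hO : ∀ c < fd.l, chkOrb ga k sreps c = true) (hI : fd.chkInjS fx ga k sreps = true)
    (L : List ℕ) (hnd : L.Nodup) (hL : ∀ i, i ∈ L ↔ i ∈ sreps) {n : ℕ} (hn : L.length = n)
    (M₀ : CoxeterMatrix (Fin n)) (Ml : List (List ℕ))
    (hC : fd.chkCoxS fx ga k L Ml = true) (hMl : ∀ ii jj : Fin n, M₀ ii jj = (Ml.getD ii.val []).getD jj.val 0) :
    ∃ ψ : ↥(D.monomialSubgroup F ⊓ Subgroup.closure (C.twGen ga k φ sreps)) →* M₀.Group, Function.Surjective ψ ∧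
      ψ.ker = (D.diagonalSubgroup F ⊓ Subgroup.closure (C.twGen ga k φ sreps)).subgroupOf
        (D.monomialSubgroup F ⊓ Subgroup.closure (C.twGen ga k φ sreps)) := by
  classical
  subst hn
  have hsr := S.sreps_lt
  have h5 := (C.twGen_spec T T2 φ hk hφk S hO).2.2.2.2
  set G1 := Subgroup.closure (C.twGen ga k φ sreps) with hG1
  set P := C.twBN T T2 φ hk hφk S hQ hdk hcov hO hI with hP
  have hIs : ∀ i ∈ sreps, ∀ i' ∈ sreps, i = i' ∨ ∃ s < fd.n, fd.piS fx ga k i s ≠ fd.piS fx ga k i' s := by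
    have hI' := hI
    simp only [FD.chkInjS, Bool.and_eq_true, List.all_eq_true, Bool.or_eq_true, natBeq_iff, List.any_eq_true,
      List.mem_range, Bool.not_eq_true', ← Bool.not_eq_true, natBlt_iff] at hI'
    exact hI'.1.1
  have hget : ∀ ii : Fin L.length, L.getD ii.val 0 ∈ sreps := by
    intro ii
    rw [← hL, List.getD_eq_getElem _ _ ii.isLt]; exact List.getElem_mem ii.isLt
  -- the bijection onto the distinguished generators
  let f : Fin L.length → P.S := fun ii =>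
    ⟨⟨C.nS F ga k (L.getD ii.val 0), h5 _ (hget ii)⟩, ⟨_, hget ii, rfl⟩⟩
  have hf : Function.Bijective f := by
    constructor
    · intro ii jj h
      have h1 : C.nS F ga k (L.getD ii.val 0) = C.nS F ga k (L.getD jj.val 0) :=
        congrArg (fun s : P.S => ((s : ↥G1) : GL D.Idx F)) h
      have hp1 := C.perm_nS T T2 (F := F) _ (hsr _ (hget ii))
      have hp2 := C.perm_nS T T2 (F := F) _ (hsr _ (hget jj))
      rw [h1] at hp1
      have he := C.perm_unique _ _ _ hp1 hp2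
      rcases hIs _ (hget ii) _ (hget jj) with h2 | ⟨s, hs, hne⟩
      · rw [List.getD_eq_getElem _ _ ii.isLt, List.getD_eq_getElem _ _ jj.isLt] at h2
        exact Fin.ext ((hnd.getElem_inj_iff).mp h2)
      · exact absurd (he s hs) hne
    · rintro ⟨⟨s, hsG⟩, ⟨i, hi, hs⟩⟩
      obtain ⟨ii, hii, rfl⟩ := List.getElem_of_mem ((hL i).mpr hi)
      refine ⟨⟨ii, hii⟩, ?_⟩
      apply Subtype.ext
      apply Subtype.ext
      show C.nS F ga k (L.getD ii 0) = s
      simp only at hs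
      rw [hs, List.getD_eq_getElem _ _ hii]
  let e : Fin L.length ≃ P.S := Equiv.ofBijective f hf
  have hcox : ∀ ii jj : Fin L.length, haveI := bn_normal P
      orderOf ((QuotientGroup.mk (⟨((e ii : P.S) : ↥G1), P.subset (e ii).2⟩ : P.N) :
          P.N ⧸ (P.B ⊓ P.N).subgroupOf P.N) *
        QuotientGroup.mk (⟨((e jj : P.S) : ↥G1), P.subset (e jj).2⟩ : P.N)) = M₀ ii jj := by
    intro ii jj
    haveI := bn_normal P
    rw [hMl]
    simp only [FD.chkCoxS, List.all_eq_true, List.mem_range, Bool.and_eq_true, natBlt_iff, natBeq_iff,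
      Bool.or_eq_true, List.any_eq_true, Bool.not_eq_true', ← Bool.not_eq_true] at hC
    obtain ⟨⟨hpos, hid⟩, hmin⟩ := hC ii.val ii.isLt jj.val jj.isLt
    have hNi := C.nS_mem_monomial T T2 (F := F) (L.getD ii.val 0)
    have hNj := C.nS_mem_monomial T T2 (F := F) (L.getD jj.val 0)
    have hπ := C.c6.perm_mul (C.perm_nS T T2 (F := F) _ (hsr _ (hget ii))) (C.perm_nS T T2 (F := F) _ (hsr _ (hget jj)))
    have key : ∀ d : ℕ, ((QuotientGroup.mk (⟨((e ii : P.S) : ↥G1), P.subset (e ii).2⟩ : P.N) :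
          P.N ⧸ (P.B ⊓ P.N).subgroupOf P.N) *
        QuotientGroup.mk (⟨((e jj : P.S) : ↥G1), P.subset (e jj).2⟩ : P.N)) ^ d = 1 ↔
        ∀ s < fd.n, (fd.piS fx ga k (L.getD ii.val 0) ∘ fd.piS fx ga k (L.getD jj.val 0))^[d] s = s := by
      intro d
      rw [← QuotientGroup.mk_mul, ← QuotientGroup.mk_pow, QuotientGroup.eq_one_iff, Subgroup.mem_subgroupOf,
        ← C.pow_mem_diag_iff T T2 _ (mul_mem hNi hNj) _ hπ d, ← C.c6.c2.borel_inf_monomial]
      have hval : (((⟨((e ii : P.S) : ↥G1), P.subset (e ii).2⟩ * ⟨((e jj : P.S) : ↥G1), P.subset (e jj).2⟩ : P.N) ^ d :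
          P.N) : ↥G1) = ⟨(C.nS F ga k (L.getD ii.val 0) * C.nS F ga k (L.getD jj.val 0)) ^ d,
            pow_mem (mul_mem (h5 _ (hget ii)) (h5 _ (hget jj))) d⟩ := by
        apply Subtype.ext
        simp only [Subgroup.coe_pow, Subgroup.coe_mul]
        rfl
      rw [hval]
      constructor
      · intro h
        obtain ⟨hb, hn'⟩ := Subgroup.mem_inf.mp h
        exact Subgroup.mem_inf.mpr ⟨(Subgroup.mem_inf.mp (Subgroup.mem_subgroupOf.mp hb)).1,
          (Subgroup.mem_inf.mp (Subgroup.mem_subgroupOf.mp hn')).1⟩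
      · intro h
        obtain ⟨hb, hn'⟩ := Subgroup.mem_inf.mp h
        have hG : (C.nS F ga k (L.getD ii.val 0) * C.nS F ga k (L.getD jj.val 0)) ^ d ∈ G1 :=
          pow_mem (mul_mem (h5 _ (hget ii)) (h5 _ (hget jj))) d
        exact Subgroup.mem_inf.mpr ⟨Subgroup.mem_subgroupOf.mpr (Subgroup.mem_inf.mpr ⟨hb, hG⟩),
          Subgroup.mem_subgroupOf.mpr (Subgroup.mem_inf.mpr ⟨hn', hG⟩)⟩
    rw [orderOf_eq_iff hpos]
    refine ⟨(key _).mpr hid, fun d hd hd0 hcon => ?_⟩
    rcases hmin d hd with h0 | ⟨s, hs, hne⟩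
    · omega
    · exact hne ((key d).mp hcon s hs)
  obtain ⟨ψ, hψs, hψk, _⟩ := bn_weyl_coxeter P M₀ e hcox
  -- transport to the subgroup of the general linear group
  have hle : D.monomialSubgroup F ⊓ G1 ≤ G1 := inf_le_right
  let ι : ↥(D.monomialSubgroup F ⊓ G1) ≃* ↥P.N :=
    (Subgroup.subgroupOfEquivOfLe hle).symm
  refine ⟨ψ.comp ι.toMonoidHom, hψs.comp ι.surjective, ?_⟩
  ext x
  rw [MonoidHom.mem_ker, MonoidHom.comp_apply, ← MonoidHom.mem_ker, hψk, Subgroup.mem_subgroupOf,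
    Subgroup.mem_subgroupOf]
  have hx : ((ι.toMonoidHom x : ↥P.N) : ↥G1) = ⟨x.val, hle x.2⟩ := rfl
  constructor
  · intro h
    obtain ⟨hb, _⟩ := Subgroup.mem_inf.mp h
    rw [hx] at hb
    have hb' : x.val ∈ D.borelSubgroup F := (Subgroup.mem_inf.mp (Subgroup.mem_subgroupOf.mp hb)).1
    refine Subgroup.mem_inf.mpr ⟨?_, hle x.2⟩
    rw [← C.c6.c2.borel_inf_monomial]
    exact Subgroup.mem_inf.mpr ⟨hb', (Subgroup.mem_inf.mp x.2).1⟩
  · intro h
    obtain ⟨hH, hG⟩ := Subgroup.mem_inf.mp h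
    rw [← C.c6.c2.borel_inf_monomial] at hH
    obtain ⟨hb, hn'⟩ := Subgroup.mem_inf.mp hH
    refine Subgroup.mem_inf.mpr ⟨?_, ?_⟩
    · rw [hx]
      exact Subgroup.mem_subgroupOf.mpr (Subgroup.mem_inf.mpr ⟨hb, hG⟩)
    · rw [hx]
      exact Subgroup.mem_subgroupOf.mpr (Subgroup.mem_inf.mpr ⟨hn', hG⟩)

end Cert12

end Cfsg.Agent.Lib.H29.Chev
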