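import Mathlib
import Cfsg.Prelude.Def_ChevStructure
import Cfsg.Prelude.Def_LieExceptional
import Cfsg.Agent.Lib.H29.ChevCox1
import Cfsg.Agent.Lib.H29.ChevGen39
import Cfsg.Agent.Lib.H29.ChevGen38
import Cfsg.Agent.Lib.H29.ChevGen25

/-!
# The Weyl group of a Chevalley group as a Coxeter group
-/

set_option autoImplicit false
set_option linter.unusedSectionVars false
set_option linter.unusedSimpArgs false
set_option linter.unusedVariables false

namespace Cfsg.Agent.Lib.H29.Chev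

open Cfsg.Lie Matrix

variable {D : ChevalleyDatum} {fd : FD} {fx : FX} {fc : FC} {fz : FZ} {F : Type*} [Field F]

namespace FD

variable (fd : FD) (fx : FX)

/-- the orders of the products `w_i w_j` of fundamental reflections -/
def chkCox (Ml : List (List ℕ)) : Bool :=
  (List.range fd.l).all fun i => (List.range fd.l).all fun j =>
    Nat.blt 0 ((Ml.getD i []).getD j 0) &&
    ((List.range fd.n).all fun s =>
      Nat.beq ((fun s => fd.nw fx (fd.simples.getD i 0) (fd.nw fx (fd.simples.getD j 0) s))^[(Ml.getD i []).getD j 0] s) s) &&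
    ((List.range ((Ml.getD i []).getD j 0)).all fun d => Nat.beq d 0 || (List.range fd.n).any fun s =>
      !(Nat.beq ((fun s => fd.nw fx (fd.simples.getD i 0) (fd.nw fx (fd.simples.getD j 0) s))^[d] s) s))

end FD

namespace Cert12

variable (C : Cert12 D fd fx fc fz)
include C

theorem perm_pow' (m : GL D.Idx F) (π : ℕ → ℕ) (hπ : C.c6.c2.Perm m π) (d : ℕ) : C.c6.c2.Perm (m ^ d) (π^[d]) := by
  induction d with
  | zero =>
    rw [pow_zero]
    exact C.c6.perm_one
  | succ d ih =>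
    rw [pow_succ', Function.iterate_succ']
    exact C.c6.perm_mul hπ ih

/-- a power of an element of `N` lies in `H` if and only if the power of its permutation is the identity -/
theorem pow_mem_diag_iff' (m : GL D.Idx F) (hm : m ∈ D.monomialSubgroup F) (π : ℕ → ℕ) (hπ : C.c6.c2.Perm m π)
    (d : ℕ) : m ^ d ∈ D.diagonalSubgroup F ↔ ∀ s < fd.n, π^[d] s = s := by
  have hp := C.perm_pow' m π hπ d
  constructor
  · intro h
    exact C.perm_unique (m ^ d) _ _ hp (C.c6.perm_diag _ h)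
  · intro h
    have := C.inv_mul_mem_diag 1 (m ^ d) (one_mem _) (pow_mem hm d) id _ C.c6.perm_one hp
      (fun s hs => (h s hs).symm)
    simpa using this

theorem simples_inj (i j : ℕ) (hi : i < fd.l) (hj : j < fd.l) (h : fd.simples.getD i 0 = fd.simples.getD j 0) :
    i = j := by
  by_contra hne
  have e1 := C.rcZ_simple i j hi hj
  have e2 := C.rcZ_simple j j hj hj
  rw [h, e2, if_pos rfl, if_neg hne] at e1
  exact one_ne_zero e1

/-- the Weyl group of a Chevalley group is the Coxeter group of the matrix of the orders of the products of the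
fundamental reflections -/
theorem weyl_coxeter {n : ℕ} (hn : fd.l = n) (M₀ : CoxeterMatrix (Fin n)) (Ml : List (List ℕ))
    (hC : fd.chkCox fx Ml = true) (hMl : ∀ ii jj : Fin n, M₀ ii jj = (Ml.getD ii.val []).getD jj.val 0) :
    ∃ ψ : ↥(D.monomialSubgroup F) →* M₀.Group, Function.Surjective ψ ∧
      ψ.ker = (D.diagonalSubgroup F).subgroupOf (D.monomialSubgroup F) ∧
      ∀ (i : Fin n) (g : ↥(D.monomialSubgroup F)),
        ((g : GL D.Idx F) : Matrix D.Idx D.Idx F) = D.nMat F (D.simple i) 1 → ψ g = M₀.simple i := by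
  classical
  subst hn
  set P := C.c6.bnPair F with hP
  have hSmem : ∀ i, ∀ hi : i < fd.l,
      (⟨C.c6.c2.nG (F := F) (fd.simples.getD i 0) (C.c6.c2.simple_lt i hi),
        C.c6.c2.monomial_le_group (C.c6.c2.nG_mem_monomial _ _)⟩ : ↥(D.group F)) ∈ P.S :=
    fun i hi => C.c6.nG_mem_SSet i hi
  -- the bijection onto the distinguished generators
  let f : Fin fd.l → P.S := fun ii =>
    ⟨⟨C.c6.c2.nG (F := F) (fd.simples.getD ii.val 0) (C.c6.c2.simple_lt ii.val ii.isLt),
      C.c6.c2.monomial_le_group (C.c6.c2.nG_mem_monomial _ _)⟩, hSmem ii.val ii.isLt⟩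
  have hf : Function.Bijective f := by
    constructor
    · intro ii jj h
      have h1 : C.c6.c2.nG (F := F) (fd.simples.getD ii.val 0) (C.c6.c2.simple_lt ii.val ii.isLt) =
          C.c6.c2.nG (F := F) (fd.simples.getD jj.val 0) (C.c6.c2.simple_lt jj.val jj.isLt) :=
        congrArg (fun s : P.S => ((s : ↥(D.group F)) : GL D.Idx F)) h
      have h2 := C.c6.nG_inj ii.val jj.val ii.isLt jj.isLt (by rw [h1, inv_mul_cancel]; exact one_mem _)
      exact Fin.ext (C.simples_inj _ _ ii.isLt jj.isLt h2)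
    · rintro ⟨⟨s, hsG⟩, hs⟩
      obtain ⟨i, hi, e⟩ := C.c6.eq_nG_of_SSet s hs
      refine ⟨⟨i, hi⟩, ?_⟩
      apply Subtype.ext
      apply Subtype.ext
      exact e.symm
  let e : Fin fd.l ≃ P.S := Equiv.ofBijective f hf
  have hcox : ∀ ii jj : Fin fd.l, haveI := bn_normal P
      orderOf ((QuotientGroup.mk (⟨((e ii : P.S) : ↥(D.group F)), P.subset (e ii).2⟩ : P.N) :
          P.N ⧸ (P.B ⊓ P.N).subgroupOf P.N) *
        QuotientGroup.mk (⟨((e jj : P.S) : ↥(D.group F)), P.subset (e jj).2⟩ : P.N)) = M₀ ii jj := by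
    intro ii jj
    haveI := bn_normal P
    rw [hMl]
    simp only [FD.chkCox, List.all_eq_true, List.mem_range, Bool.and_eq_true, natBlt_iff, natBeq_iff,
      Bool.or_eq_true, List.any_eq_true, Bool.not_eq_true', ← Bool.not_eq_true] at hC
    obtain ⟨⟨hpos, hid⟩, hmin⟩ := hC ii.val ii.isLt jj.val jj.isLt
    have hNi := C.c6.c2.nG_mem_monomial (F := F) _ (C.c6.c2.simple_lt ii.val ii.isLt)
    have hNj := C.c6.c2.nG_mem_monomial (F := F) _ (C.c6.c2.simple_lt jj.val jj.isLt)
    have hπ := C.c6.perm_mul (C.c6.perm_nG (F := F) ii.val ii.isLt).1 (C.c6.perm_nG (F := F) jj.val jj.isLt).1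
    have key : ∀ d : ℕ, ((QuotientGroup.mk (⟨((e ii : P.S) : ↥(D.group F)), P.subset (e ii).2⟩ : P.N) :
          P.N ⧸ (P.B ⊓ P.N).subgroupOf P.N) *
        QuotientGroup.mk (⟨((e jj : P.S) : ↥(D.group F)), P.subset (e jj).2⟩ : P.N)) ^ d = 1 ↔
        ∀ s < fd.n, (fd.nw fx (fd.simples.getD ii.val 0) ∘ fd.nw fx (fd.simples.getD jj.val 0))^[d] s = s := by
      intro d
      rw [← QuotientGroup.mk_mul, ← QuotientGroup.mk_pow, QuotientGroup.eq_one_iff, Subgroup.mem_subgroupOf,
        ← C.pow_mem_diag_iff' _ (mul_mem hNi hNj) _ hπ d, ← C.c6.c2.borel_inf_monomial]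
      have hG : (C.c6.c2.nG (F := F) (fd.simples.getD ii.val 0) (C.c6.c2.simple_lt ii.val ii.isLt) *
          C.c6.c2.nG (F := F) (fd.simples.getD jj.val 0) (C.c6.c2.simple_lt jj.val jj.isLt)) ^ d ∈ D.group F :=
        C.c6.c2.monomial_le_group (pow_mem (mul_mem hNi hNj) d)
      have hval : (((⟨((e ii : P.S) : ↥(D.group F)), P.subset (e ii).2⟩ *
          ⟨((e jj : P.S) : ↥(D.group F)), P.subset (e jj).2⟩ : P.N) ^ d : P.N) : ↥(D.group F)) =
          ⟨(C.c6.c2.nG (F := F) (fd.simples.getD ii.val 0) (C.c6.c2.simple_lt ii.val ii.isLt) *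
          C.c6.c2.nG (F := F) (fd.simples.getD jj.val 0) (C.c6.c2.simple_lt jj.val jj.isLt)) ^ d, hG⟩ := by
        apply Subtype.ext
        simp only [Subgroup.coe_pow, Subgroup.coe_mul]
        rfl
      rw [hval]
      constructor
      · intro h
        obtain ⟨hb, hn'⟩ := Subgroup.mem_inf.mp h
        exact Subgroup.mem_inf.mpr ⟨Subgroup.mem_subgroupOf.mp hb, Subgroup.mem_subgroupOf.mp hn'⟩
      · intro h
        obtain ⟨hb, hn'⟩ := Subgroup.mem_inf.mp h
        exact Subgroup.mem_inf.mpr ⟨Subgroup.mem_subgroupOf.mpr hb, Subgroup.mem_subgroupOf.mpr hn'⟩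
    rw [orderOf_eq_iff hpos]
    refine ⟨(key _).mpr hid, fun d hd hd0 hcon => ?_⟩
    rcases hmin d hd with h0 | ⟨s, hs, hne⟩
    · omega
    · exact hne ((key d).mp hcon s hs)
  obtain ⟨ψ, hψs, hψk, hψi⟩ := bn_weyl_coxeter P M₀ e hcox
  -- transport to the subgroup of the general linear group
  have hle : D.monomialSubgroup F ≤ D.group F := C.c6.c2.monomial_le_group
  let ι : ↥(D.monomialSubgroup F) ≃* ↥P.N := (Subgroup.subgroupOfEquivOfLe hle).symm
  have hx : ∀ x : ↥(D.monomialSubgroup F), ((ι.toMonoidHom x : ↥P.N) : ↥(D.group F)) = ⟨x.val, hle x.2⟩ :=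
    fun x => rfl
  refine ⟨ψ.comp ι.toMonoidHom, hψs.comp ι.surjective, ?_, ?_⟩
  · ext x
    rw [MonoidHom.mem_ker, MonoidHom.comp_apply, ← MonoidHom.mem_ker, hψk, Subgroup.mem_subgroupOf,
      Subgroup.mem_subgroupOf, hx]
    constructor
    · intro h
      obtain ⟨hb, _⟩ := Subgroup.mem_inf.mp h
      have hb' : x.val ∈ D.borelSubgroup F := Subgroup.mem_subgroupOf.mp hb
      rw [← C.c6.c2.borel_inf_monomial]
      exact Subgroup.mem_inf.mpr ⟨hb', x.2⟩
    · intro h
      rw [← C.c6.c2.borel_inf_monomial] at h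
      obtain ⟨hb, hn'⟩ := Subgroup.mem_inf.mp h
      exact Subgroup.mem_inf.mpr ⟨Subgroup.mem_subgroupOf.mpr hb, Subgroup.mem_subgroupOf.mpr hn'⟩
  · intro i g hg
    rw [MonoidHom.comp_apply, ← hψi i]
    congr 1
    apply Subtype.ext
    rw [hx]
    apply Subtype.ext
    show g.val = C.c6.c2.nG (F := F) (fd.simples.getD i.val 0) (C.c6.c2.simple_lt i.val i.isLt)
    rw [C.c6.c2.agrees.simple_eq] at hg
    exact C.c6.c2.eq_nG _ _ _ hg

end Cert12

end Cfsg.Agent.Lib.H29.Chev
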