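import Mathlib
import Cfsg.Prelude.Def_LieChev
import Cfsg.Prelude.Def_ChevStructure
import Cfsg.Agent.Lib.H29.ChevCox3
import Cfsg.Agent.Lib.H29.ChevCert13

/-!
# The Weyl groups of the Chevalley groups as Coxeter groups: the checks
-/

set_option autoImplicit false
set_option linter.unusedSectionVars false
set_option linter.unusedSimpArgs false
set_option linter.unusedVariables false

namespace Cfsg.Agent.Lib.H29.Chev

open Cfsg.Lie Matrix

set_option maxRecDepth 1000000 in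
set_option maxHeartbeats 0 in
theorem coxChk_G2 : fdG2.chkCox fxG2 [[1, 6], [6, 1]] = true := by decide +kernel

set_option maxRecDepth 1000000 in
set_option maxHeartbeats 0 in
theorem coxChk_B2 : fdB2.chkCox fxB2 [[1, 4], [4, 1]] = true := by decide +kernel

set_option maxRecDepth 1000000 in
set_option maxHeartbeats 0 in
theorem coxChk_D4 : fdD4.chkCox fxD4 [[1, 3, 2, 2], [3, 1, 3, 3], [2, 3, 1, 2], [2, 3, 2, 1]] = true := by
  decide +kernel

set_option maxRecDepth 1000000 in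
set_option maxHeartbeats 0 in
theorem coxChk_F4 : fdF4.chkCox fxF4 [[1, 3, 2, 2], [3, 1, 4, 2], [2, 4, 1, 3], [2, 2, 3, 1]] = true := by
  decide +kernel

set_option maxRecDepth 1000000 in
set_option maxHeartbeats 0 in
theorem coxChk_E6 : fdE6.chkCox fxE6 [[1, 2, 3, 2, 2, 2], [2, 1, 2, 3, 2, 2], [3, 2, 1, 3, 2, 2], [2, 3, 3, 1, 3, 2],
    [2, 2, 2, 3, 1, 3], [2, 2, 2, 2, 3, 1]] = true := by
  decide +kernel

set_option maxRecDepth 1000000 in
set_option maxHeartbeats 0 in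
theorem coxChk_E7 : fdE7.chkCox fxE7 [[1, 2, 3, 2, 2, 2, 2], [2, 1, 2, 3, 2, 2, 2], [3, 2, 1, 3, 2, 2, 2],
    [2, 3, 3, 1, 3, 2, 2], [2, 2, 2, 3, 1, 3, 2], [2, 2, 2, 2, 3, 1, 3], [2, 2, 2, 2, 2, 3, 1]] = true := by
  decide +kernel

set_option maxRecDepth 1000000 in
set_option maxHeartbeats 0 in
theorem coxChk_E8 : fdE8.chkCox fxE8 [[1, 2, 3, 2, 2, 2, 2, 2], [2, 1, 2, 3, 2, 2, 2, 2], [3, 2, 1, 3, 2, 2, 2, 2],
    [2, 3, 3, 1, 3, 2, 2, 2], [2, 2, 2, 3, 1, 3, 2, 2], [2, 2, 2, 2, 3, 1, 3, 2], [2, 2, 2, 2, 2, 3, 1, 3],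
    [2, 2, 2, 2, 2, 2, 3, 1]] = true := by
  decide +kernel

end Cfsg.Agent.Lib.H29.Chev
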