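import Mathlib
import Cfsg.Agent.Lib.H29.ChevEmb1
import Cfsg.Agent.Lib.H29.ChevDataE6
import Cfsg.Agent.Lib.H29.ChevDataE7

/-! The root system of type E6 inside that of type E7 (generated) -/

set_option autoImplicit false

namespace Cfsg.Agent.Lib.H29.Chev

def ioE6E7 : ℕ := 0x7773706e6d6a686765646361605f5e5d5a585755545351504f4e4c4b4a494746454342403d3b3a383736343332312f2e2d2c2a2928262523201f1e1d1c1a1918161513100f0d0a06

def uniLE6E7 : List (List ℤ) := [[2, 1, 3, 2, 2, 2], [2, 2, 4, 3, 3, 3], [3, 2, 6, 4, 4, 4], [4, 3, 8, 6, 6, 6], [3, 2, 6, 4, 5, 5], [2, 1, 4, 2, 3, 4], [1, 0, 2, 0, 1, 2]]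

set_option maxRecDepth 1000000 in
set_option maxHeartbeats 0 in
theorem fdE6E7_Emb_c0 : allR 0 36 (fdE6.chkEmbR fdE7 ioE6E7) = true := by decide +kernel

set_option maxRecDepth 1000000 in
set_option maxHeartbeats 0 in
theorem fdE6E7_Emb_c1 : allR 36 72 (fdE6.chkEmbR fdE7 ioE6E7) = true := by decide +kernel

theorem fdE6E7_ChkEmb : ∀ r < fdE6.n, fdE6.chkEmbR fdE7 ioE6E7 r = true := by
  intro r hr
  have hr' : r < 72 := hr
  by_cases h36 : r < 36
  · exact allR_spec fdE6E7_Emb_c0 r (by omega) h36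
  exact allR_spec fdE6E7_Emb_c1 r (by omega) hr'

set_option maxRecDepth 1000000 in
theorem fdE6E7_ChkEmbS : fdE6.ChkEmbS fdE7 ioE6E7 := by decide +kernel

set_option maxRecDepth 1000000 in
theorem fdE6E7_ChkUniL : fdE6.ChkUniL fdE7 uniLE6E7 := by decide +kernel

end Cfsg.Agent.Lib.H29.Chev
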