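import Mathlib
import Cfsg.Agent.Lib.H29.ChevEmb1
import Cfsg.Agent.Lib.H29.ChevDataE7
import Cfsg.Agent.Lib.H29.ChevDataE8

/-! The root system of type E7 inside that of type E8 (generated) -/

set_option autoImplicit false

namespace Cfsg.Agent.Lib.H29.Chev

def ioE7E8 : ℕ := 0xe2dbd6d2cfcdccc8c5c3c2bfbdbcbab9b8b5b3b2b0afaeacabaaa9a7a6a5a4a3a29f9d9c9a99989695949391908f8e8d8b8a89888785848382807f7e7c7b7976747371706f6d6c6b6a68676665646261605f5e5c5b5a595756555352504d4c4b4a49484645444341403f3d3c3a3736353332302d2c2a272322201d19140d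

def uniLE7E8 : List (List ℤ) := [[2, 3, 3, 4, 4, 2, 2], [2, 5, 4, 6, 6, 3, 3], [3, 6, 6, 8, 8, 4, 4], [4, 9, 8, 12, 12, 6, 6], [3, 7, 6, 9, 10, 5, 5], [2, 5, 4, 6, 7, 4, 4], [1, 3, 2, 3, 4, 2, 3], [0, 1, 0, 0, 1, 0, 1]]

set_option maxRecDepth 1000000 in
set_option maxHeartbeats 0 in
theorem fdE7E8_Emb_c0 : allR 0 32 (fdE7.chkEmbR fdE8 ioE7E8) = true := by decide +kernel

set_option maxRecDepth 1000000 in
set_option maxHeartbeats 0 in
theorem fdE7E8_Emb_c1 : allR 32 64 (fdE7.chkEmbR fdE8 ioE7E8) = true := by decide +kernel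

set_option maxRecDepth 1000000 in
set_option maxHeartbeats 0 in
theorem fdE7E8_Emb_c2 : allR 64 96 (fdE7.chkEmbR fdE8 ioE7E8) = true := by decide +kernel

set_option maxRecDepth 1000000 in
set_option maxHeartbeats 0 in
theorem fdE7E8_Emb_c3 : allR 96 126 (fdE7.chkEmbR fdE8 ioE7E8) = true := by decide +kernel

theorem fdE7E8_ChkEmb : ∀ r < fdE7.n, fdE7.chkEmbR fdE8 ioE7E8 r = true := by
  intro r hr
  have hr' : r < 126 := hr
  by_cases h32 : r < 32
  · exact allR_spec fdE7E8_Emb_c0 r (by omega) h32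
  by_cases h64 : r < 64
  · exact allR_spec fdE7E8_Emb_c1 r (by omega) h64
  by_cases h96 : r < 96
  · exact allR_spec fdE7E8_Emb_c2 r (by omega) h96
  exact allR_spec fdE7E8_Emb_c3 r (by omega) hr'

set_option maxRecDepth 1000000 in
theorem fdE7E8_ChkEmbS : fdE7.ChkEmbS fdE8 ioE7E8 := by decide +kernel

set_option maxRecDepth 1000000 in
theorem fdE7E8_ChkUniL : fdE7.ChkUniL fdE8 uniLE7E8 := by decide +kernel

end Cfsg.Agent.Lib.H29.Chev
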