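import Mathlib
import Cfsg.Prelude.Def_ChevStructure
import Cfsg.Prelude.Def_LieTwisted

/-!
# Matrices that are unitriangular with respect to a grading, and their powers
-/

set_option autoImplicit false
set_option linter.unusedSectionVars false
set_option linter.unusedSimpArgs false
set_option linter.unusedVariables false

namespace Cfsg.Agent.Lib.H29.Chev

open Matrix

section Graded

variable {ι : Type*} [Fintype ι] [DecidableEq ι] {R : Type*} [CommRing R]

/-- a matrix raising the level strictly: entry `(i, j)` vanishes unless `lev j < lev i` -/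
def SGr (lev : ι → ℕ) (N : Matrix ι ι R) : Prop := ∀ i j, ¬ (lev j < lev i) → N i j = 0

theorem SGr.add {lev : ι → ℕ} {N N' : Matrix ι ι R} (h : SGr lev N) (h' : SGr lev N') : SGr lev (N + N') := by
  intro i j hij
  rw [Matrix.add_apply, h i j hij, h' i j hij, add_zero]

theorem SGr.zero {lev : ι → ℕ} : SGr lev (0 : Matrix ι ι R) := fun _ _ _ => rfl

theorem SGr.mul {lev : ι → ℕ} {N N' : Matrix ι ι R} (h : SGr lev N) (h' : SGr lev N') : SGr lev (N * N') := by
  intro i j hij
  rw [Matrix.mul_apply]
  apply Finset.sum_eq_zero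
  intro l _
  by_cases h1 : lev l < lev i
  · have : ¬ (lev j < lev l) := by omega
    rw [h' l j this, mul_zero]
  · rw [h i l h1, zero_mul]

theorem SGr.pow {lev : ι → ℕ} {N : Matrix ι ι R} (h : SGr lev N) (k : ℕ) :
    ∀ i j, ¬ (lev j + k ≤ lev i) → (N ^ k) i j = 0 := by
  induction k with
  | zero =>
    intro i j hij
    rw [pow_zero, Matrix.one_apply, if_neg]
    rintro rfl
    exact hij (le_of_eq rfl)
  | succ k ih =>
    intro i j hij
    rw [pow_succ, Matrix.mul_apply]
    apply Finset.sum_eq_zero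
    intro l _
    by_cases h1 : lev j < lev l
    · have : ¬ (lev l + k ≤ lev i) := by omega
      rw [ih i l this, zero_mul]
    · rw [h l j h1, mul_zero]

theorem SGr.pow_eq_zero {lev : ι → ℕ} {N : Matrix ι ι R} (h : SGr lev N) (b k : ℕ) (hb : ∀ i, lev i ≤ b)
    (hk : b < k) : N ^ k = 0 := by
  ext i j
  rw [Matrix.zero_apply]
  apply h.pow k
  have := hb i
  omega

/-- a matrix that is unitriangular with respect to the grading -/
def GUni (lev : ι → ℕ) (A : Matrix ι ι R) : Prop := SGr lev (A - 1)

theorem GUni.one {lev : ι → ℕ} : GUni lev (1 : Matrix ι ι R) := by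
  unfold GUni
  rw [sub_self]
  exact SGr.zero

theorem GUni.mul {lev : ι → ℕ} {A B : Matrix ι ι R} (hA : GUni lev A) (hB : GUni lev B) : GUni lev (A * B) := by
  unfold GUni at *
  have : A * B - 1 = (A - 1) * (B - 1) + (A - 1) + (B - 1) := by noncomm_ring
  rw [this]
  exact ((hA.mul hB).add hA).add hB

theorem GUni.pow {lev : ι → ℕ} {A : Matrix ι ι R} (hA : GUni lev A) (k : ℕ) : GUni lev (A ^ k) := by
  induction k with
  | zero => rw [pow_zero]; exact GUni.one
  | succ k ih => rw [pow_succ]; exact ih.mul hA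

/-- in characteristic `p`, a graded unitriangular matrix has order dividing `p ^ e` when `p ^ e` exceeds the
number of levels -/
theorem GUni.pow_char {lev : ι → ℕ} {A : Matrix ι ι R} (hA : GUni lev A) (p e b : ℕ) [Fact p.Prime] [CharP R p]
    [Nonempty ι] (hb : ∀ i, lev i ≤ b) (hk : b < p ^ e) : A ^ (p ^ e) = 1 := by
  have h1 : A = (A - 1) + 1 := by abel
  have h2 : Commute (A - 1) (1 : Matrix ι ι R) := Commute.one_right _
  have h3 : ((A - 1) + 1) ^ (p ^ e) = (A - 1) ^ (p ^ e) + 1 ^ (p ^ e) := add_pow_char_pow_of_commute p e h2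
  rw [h1, h3, one_pow, SGr.pow_eq_zero hA b _ hb hk, zero_add]

end Graded

end Cfsg.Agent.Lib.H29.Chev
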