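import Mathlib
import Cfsg.Prelude.Def_ChevStructure
import Cfsg.Prelude.Def_LieTwisted
import Cfsg.Agent.Lib.H29.ChevExp1

/-!
# The positive root elements of a Chevalley group are unitriangular with respect to the height grading
-/

set_option autoImplicit false
set_option linter.unusedSectionVars false
set_option linter.unusedSimpArgs false
set_option linter.unusedVariables false

namespace Cfsg.Agent.Lib.H29.Chev

open Cfsg.Lie Matrix

section Datum

variable (D : ChevalleyDatum)

/-- the level of a coordinate: `c` on the Cartan part, a table on the root vectors -/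
def levIdx (T : List ℕ) (c : ℕ) : D.Idx → ℕ
  | Sum.inl _ => c
  | Sum.inr u => T.getD u.val 0

/-- the Boolean check that the table `T` is a height function (shifted by `c`) -/
def chkLev (T : List ℕ) (c : ℕ) : Bool :=
  (List.range D.nroots).all fun r => !(decide (D.IsPosRoot r)) ||
    (decide (c < T.getD r 0) && decide (T.getD (D.negIdx.getD r 0) 0 < c) &&
      (List.range D.nroots).all fun s => (List.range D.nroots).all fun u =>
        decide (T.getD s 0 < T.getD u 0) || (D.chainCoeff r s u).isEmpty)

theorem chkLev_spec (T : List ℕ) (c : ℕ) (h : chkLev D T c = true) (r : ℕ) (hr : D.IsPosRoot r) :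
    c < T.getD r 0 ∧ T.getD (D.negIdx.getD r 0) 0 < c ∧
      ∀ s < D.nroots, ∀ u < D.nroots, ¬ (T.getD s 0 < T.getD u 0) → D.chainCoeff r s u = [] := by
  unfold chkLev at h
  rw [List.all_eq_true] at h
  have h1 := h r (List.mem_range.mpr hr.1)
  simp only [hr, decide_true, Bool.not_true, Bool.false_or, Bool.and_eq_true, decide_eq_true_eq, List.all_eq_true,
    List.mem_range, Bool.or_eq_true, List.isEmpty_iff] at h1
  refine ⟨h1.1.1, h1.1.2, ?_⟩
  intro s hs u hu hsu
  rcases h1.2 s hs u hu with h2 | h2
  · exact absurd h2 hsu
  · exact h2

variable (F : Type*) [Field F]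

theorem x_GUni (T : List ℕ) (c : ℕ) (h : chkLev D T c = true) (r : ℕ) (hr : D.IsPosRoot r) (t : F) :
    GUni (levIdx D T c) (D.x F r t) := by
  obtain ⟨h1, h2, h3⟩ := chkLev_spec D T c h r hr
  have hrn := hr.1
  unfold ChevalleyDatum.x
  rw [dif_pos hrn]
  intro row col hlev
  rw [Matrix.sub_apply, Matrix.one_apply]
  unfold ChevalleyDatum.xMat
  rw [Matrix.of_apply]
  rcases col with i | s
  · rcases row with i' | u
    · simp only [Sum.inl.injEq]
      rw [sub_self]
    · simp only [reduceCtorEq, if_false, sub_zero]
      by_cases hu : u = ⟨r, hrn⟩
      · exfalso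
        apply hlev
        show c < T.getD u.val 0
        rw [hu]; exact h1
      · rw [if_neg hu]
  · by_cases hs : s = ⟨r, hrn⟩
    · simp only [hs, if_true]
      rcases row with i' | u
      · simp only [reduceCtorEq, if_false, sub_zero]
      · simp only [Sum.inr.injEq]
        rw [sub_self]
    · simp only [hs, if_false]
      by_cases hs2 : s.val = D.negIdx.getD r 0
      · simp only [hs2, if_true]
        rcases row with i' | u
        · exfalso
          apply hlev
          show T.getD s.val 0 < c
          rw [hs2]; exact h2
        · simp only [Sum.inr.injEq]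
          by_cases hus : u = s
          · rw [if_pos hus, if_pos hus, sub_self]
          · rw [if_neg hus, if_neg hus, sub_zero]
            by_cases hur : u = ⟨r, hrn⟩
            · exfalso
              apply hlev
              show T.getD s.val 0 < T.getD u.val 0
              rw [hs2, hur]
              show T.getD (D.negIdx.getD r 0) 0 < T.getD r 0
              omega
            · rw [if_neg hur]
      · simp only [hs2, if_false]
        rcases row with i' | u
        · simp only [reduceCtorEq, if_false, sub_zero]
        · simp only [Sum.inr.injEq]
          have : D.chainCoeff r s.val u.val = [] := h3 s.val s.2 u.val u.2 hlev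
          rw [this, List.map_nil, List.sum_nil, add_zero, sub_self]

end Datum

end Cfsg.Agent.Lib.H29.Chev
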