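import Mathlib
import Cfsg.Prelude.Def_ChevStructure
import Cfsg.Prelude.Def_LieTwisted
import Cfsg.Agent.Lib.H29.ChevExp2
import Cfsg.Agent.Lib.H29.ChevF4r

/-!
# The elements of 2-power order of the large Ree groups have order at most 32
-/

set_option autoImplicit false
set_option linter.unusedSectionVars false
set_option linter.unusedSimpArgs false
set_option linter.unusedVariables false

namespace Cfsg.Agent.Lib.H29.Chev

open Cfsg.Lie Matrix

/-- the heights of the roots of `F₄`, shifted by 11 -/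
def htF4 : List ℕ :=
  [0, 1, 2, 3, 4, 5, 6, 4, 5, 6, 7, 7, 8, 9, 10, 6, 7, 8, 8, 9, 10, 9, 10, 10, 12, 12, 13, 12, 13, 14, 14, 15, 16, 12,
    13, 14, 15, 15, 16, 17, 18, 16, 17, 18, 19, 20, 21, 22]

theorem chkLev_F4 : chkLev chevF4 htF4 11 = true := by decide +kernel

theorem htF4_le : ∀ r < 48, htF4.getD r 0 ≤ 22 := by decide

theorem levIdx_F4_le (i : chevF4.Idx) : levIdx chevF4 htF4 11 i ≤ 22 := by
  rcases i with i | u
  · show 11 ≤ 22
    norm_num
  · exact htF4_le u.val u.2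

section F4

variable {K : Type*} [Field K] [CharP K 2]

/-- every element of the positive unipotent subgroup of `F₄(K)`, in characteristic 2, has order dividing 32 -/
theorem f4_pos_pow32 (g : GL chevF4.Idx K) (hg : g ∈ chevF4.posUnipotent K) : g ^ 32 = 1 := by
  have : Fact (Nat.Prime 2) := ⟨Nat.prime_two⟩
  have key : ∀ A : GL chevF4.Idx K, GUni (levIdx chevF4 htF4 11) (A : Matrix chevF4.Idx chevF4.Idx K) → A ^ 32 = 1 := by
    intro A hA
    apply Units.ext
    rw [Units.val_pow_eq_pow_val, Units.val_one]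
    have : Nonempty chevF4.Idx := ⟨Sum.inl ⟨0, by decide⟩⟩
    exact hA.pow_char 2 5 22 levIdx_F4_le (by norm_num)
  apply key
  unfold ChevalleyDatum.posUnipotent at hg
  induction hg using Subgroup.closure_induction with
  | mem x hx =>
    obtain ⟨r, t, hr, hx⟩ := hx
    rw [hx]
    exact x_GUni chevF4 K htF4 11 chkLev_F4 r hr t
  | one => exact GUni.one
  | mul x y _ _ hx hy => exact hx.mul hy
  | inv x _ hx =>
    have h1 := key x hx
    have h2 : x⁻¹ = x ^ 31 := by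
      rw [inv_eq_iff_mul_eq_one, ← pow_succ']
      exact h1
    rw [h2, Units.val_pow_eq_pow_val]
    exact hx.pow 31

variable [Fintype K]

/-- the elements of 2-power order of the large Ree groups have order at most 32 -/
theorem f4_two_elt_order (m : ℕ) (hK : Fintype.card K = 2 ^ (2 * m + 1)) (x : ↥(twistedF4 K (2 ^ m)))
    (hx : ∃ j : ℕ, orderOf x = 2 ^ j) : orderOf x ≤ 32 := by
  have : Fact (Nat.Prime 2) := ⟨Nat.prime_two⟩
  -- the subgroup `U¹`
  set U1 : Subgroup ↥(twistedF4 K (2 ^ m)) :=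
    (chevF4.posUnipotent K ⊓ twistedF4 K (2 ^ m)).subgroupOf (twistedF4 K (2 ^ m)) with hU1
  have hle : chevF4.posUnipotent K ⊓ twistedF4 K (2 ^ m) ≤ twistedF4 K (2 ^ m) := inf_le_right
  have hcardU : Nat.card ↥U1 = 2 ^ ((2 * m + 1) * 12) := by
    rw [hU1, Nat.card_congr (Subgroup.subgroupOfEquivOfLe hle).toEquiv, card_f4_U m hK, ← pow_mul]
  have hcardG := card_f4 m hK
  have hfac : (Nat.card ↥(twistedF4 K (2 ^ m))).factorization 2 = (2 * m + 1) * 12 := by
    rw [hcardG]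
    have hq : 2 ∣ 2 ^ (2 * m + 1) := dvd_pow_self 2 (by omega)
    have hq1 : 1 ≤ 2 ^ (2 * m + 1) := Nat.one_le_two_pow
    have hodd : ¬ 2 ∣ (2 ^ (2 * m + 1) - 1) * ((2 ^ (2 * m + 1)) ^ 3 + 1) * ((2 ^ (2 * m + 1)) ^ 4 - 1) *
        ((2 ^ (2 * m + 1)) ^ 6 + 1) := by
      generalize 2 ^ (2 * m + 1) = q at hq hq1
      obtain ⟨k, rfl⟩ := hq
      have h4 : 1 ≤ (2 * k) ^ 4 := Nat.one_le_pow _ _ (by omega)
      intro h
      rw [Nat.Prime.dvd_mul Nat.prime_two, Nat.Prime.dvd_mul Nat.prime_two, Nat.Prime.dvd_mul Nat.prime_two] at h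
      have e3 : (2 * k) ^ 3 = 2 * (4 * k ^ 3) := by ring
      have e4 : (2 * k) ^ 4 = 2 * (8 * k ^ 4) := by ring
      have e6 : (2 * k) ^ 6 = 2 * (32 * k ^ 6) := by ring
      rcases h with ((h | h) | h) | h
      · omega
      · omega
      · omega
      · omega
    have e : (2 ^ (2 * m + 1)) ^ 12 * (2 ^ (2 * m + 1) - 1) * ((2 ^ (2 * m + 1)) ^ 3 + 1) * ((2 ^ (2 * m + 1)) ^ 4 - 1) *
        ((2 ^ (2 * m + 1)) ^ 6 + 1) = 2 ^ ((2 * m + 1) * 12) * ((2 ^ (2 * m + 1) - 1) * ((2 ^ (2 * m + 1)) ^ 3 + 1) *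
        ((2 ^ (2 * m + 1)) ^ 4 - 1) * ((2 ^ (2 * m + 1)) ^ 6 + 1)) := by
      rw [← pow_mul]; ring
    rw [e, Nat.factorization_mul (by positivity) (by
      intro h0
      apply hodd
      rw [h0]; exact dvd_zero 2), Finsupp.add_apply, Nat.Prime.factorization_pow Nat.prime_two,
      Nat.factorization_eq_zero_of_not_dvd hodd]
    simp
  let P : Sylow 2 ↥(twistedF4 K (2 ^ m)) := Sylow.ofCard U1 (by rw [hcardU, hfac])
  have hP : (P : Subgroup ↥(twistedF4 K (2 ^ m))) = U1 := rfl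
  -- the cyclic subgroup generated by `x` is a 2-group
  have hZ : IsPGroup 2 (Subgroup.zpowers x) := by
    obtain ⟨j, hj⟩ := hx
    apply IsPGroup.of_card (n := j)
    rw [Nat.card_zpowers, hj]
  obtain ⟨Q, hQ⟩ := hZ.exists_le_sylow
  obtain ⟨g, hg⟩ := MulAction.exists_smul_eq ↥(twistedF4 K (2 ^ m)) Q P
  have hxQ : x ∈ (Q : Subgroup ↥(twistedF4 K (2 ^ m))) := hQ (Subgroup.mem_zpowers x)
  have hxP : g * x * g⁻¹ ∈ (P : Subgroup ↥(twistedF4 K (2 ^ m))) := by
    rw [← hg, Sylow.coe_subgroup_smul]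
    exact Subgroup.smul_mem_pointwise_smul x (MulAut.conj g) _ hxQ
  rw [hP, hU1, Subgroup.mem_subgroupOf] at hxP
  have h32 := f4_pos_pow32 _ (Subgroup.mem_inf.mp hxP).1
  have h32' : (g * x * g⁻¹) ^ 32 = 1 := by
    apply Subtype.ext
    rw [Subgroup.coe_pow, h32]
    rfl
  have hx32 : x ^ 32 = 1 := by
    rw [conj_pow] at h32'
    have := congrArg (fun y => g⁻¹ * y * g) h32'
    simp only [mul_one, inv_mul_cancel] at this
    rw [← this]
    group
  exact Nat.le_of_dvd (by norm_num) (orderOf_dvd_of_pow_eq_one hx32)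

end F4

end Cfsg.Agent.Lib.H29.Chev
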