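import Mathlib
import Cfsg.Prelude.Def_ChevAutomorphisms
import Cfsg.Prelude.Def_LieExceptional
import Cfsg.Agent.Lib.H29.ChevFold6
import Cfsg.Agent.Lib.H29.ChevFoldSD4G2

/-!
# The fixed points of a triality graph automorphism of `D₄(F)`
-/

set_option autoImplicit false

namespace Cfsg.Agent.Lib.H29.Chev

open Cfsg.Lie Matrix

theorem d4_sym : ∀ π : Equiv.Perm (Fin chevD4.rank), chevD4.IsDiagramSymmetry π →
    (∀ i, (π i).val = gaD4a.rh.getD i.val 0) ∨ (∀ i, (π⁻¹ i).val = gaD4a.rh.getD i.val 0) ∨ π * π = 1 := by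
  decide +kernel

theorem d4_exp : ∀ (c : ℕ) (i j : Fin chevD4.rank), chevD4.graphExp c i j = 1 := by
  intro c i j
  unfold ChevalleyDatum.graphExp
  have : ∀ j : Fin chevD4.rank, chevD4.isLong (chevD4.simple j) = false := by decide +kernel
  rw [this j]
  rfl

/-- the fixed points of an automorphism of `D₄(F)` acting through the triality of the tables -/
theorem d4_actsAs_iso {F : Type*} [Field F] [Finite F] (τ : ↥(chevD4.group F) →* ↥(chevD4.group F))
    (π : Equiv.Perm (Fin chevD4.rank)) (h : ActsAs chevD4 F τ π) (hπ : ∀ i, (π i).val = gaD4a.rh.getD i.val 0) :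
    Nonempty (↥(MonoidHom.eqLocus τ (MonoidHom.id ↥(chevD4.group F))) ≃* ↥(chevG2.group F)) :=
  cert12_D4.actsAs_fixed_iso cert12_G2 twD4a_spec twD4a_spec2 (Or.inr rfl) twD4a_chain twD4a_ChkQ (by decide)
    twD4a_scover twD4a_O twD4a_injS twD4a_irr 11 twD4a_w0 foldSpecD4G2 2 (Or.inl ⟨rfl, rfl⟩) _
    (cartB_of_chk blD4 2 twD4a_cartB) τ π h hπ

/-- the fixed points of a graph automorphism of order 3 of `D₄(F)` form `G₂(F)` -/
theorem d4_triality_fixed {F : Type*} [Field F] [Finite F] (τ : MulAut ↥(chevD4.group F))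
    (hτ : chevD4.IsGraphAut τ) (hτ3 : orderOf τ = 3) :
    Nonempty (↥(MonoidHom.eqLocus τ.toMonoidHom (MonoidHom.id ↥(chevD4.group F))) ≃* ↥(chevG2.group F)) := by
  obtain ⟨π, hπ, hact⟩ := hτ
  have hA : ActsAs chevD4 F τ.toMonoidHom π := actsAs_of_graphAut d4_exp τ π hact
  rcases d4_sym π hπ with h1 | h1 | h1
  · exact d4_actsAs_iso τ.toMonoidHom π hA h1
  · have hA' := cert12_D4.actsAs_inv τ π hA
    obtain ⟨e⟩ := d4_actsAs_iso τ.symm.toMonoidHom π⁻¹ hA' h1
    have he : MonoidHom.eqLocus τ.toMonoidHom (MonoidHom.id ↥(chevD4.group F)) =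
        MonoidHom.eqLocus τ.symm.toMonoidHom (MonoidHom.id ↥(chevD4.group F)) := by
      ext g
      constructor
      · intro hg
        have hg' : τ g = g := hg
        show τ.symm g = g
        rw [MulEquiv.symm_apply_eq, hg']
      · intro hg
        have hg' : τ.symm g = g := hg
        show τ g = g
        have := congrArg τ hg'
        rw [MulEquiv.apply_symm_apply] at this
        exact this.symm
    exact ⟨(MulEquiv.subgroupCongr he).trans e⟩
  · exfalso
    have hA2 := Cert12.actsAs_comp τ.toMonoidHom τ.toMonoidHom π π hA hA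
    rw [h1] at hA2
    have h2 := cert12_D4.actsAs_one _ hA2
    have h3 : τ ^ 2 = 1 := by
      apply MulEquiv.ext
      intro g
      rw [pow_two]
      exact h2 g
    have h4 := orderOf_dvd_of_pow_eq_one h3
    rw [hτ3] at h4
    omega

end Cfsg.Agent.Lib.H29.Chev
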