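import Mathlib
import Cfsg.Prelude.Def_ChevStructure
import Cfsg.Agent.Lib.H29.ChevGen10

/-!
# The explicit matrix of `n_p` for a fundamental root `p`
-/

set_option autoImplicit false
set_option linter.unusedSectionVars false
set_option linter.unusedSimpArgs false
set_option linter.unusedVariables false

namespace Cfsg.Agent.Lib.H29.Chev

open Cfsg.Lie Matrix

variable {D : ChevalleyDatum} {fd : FD} {fx : FX} {F : Type*} [Field F]

namespace Cert2

variable (C : Cert2 D fd fx)
include C

theorem nF_apply (r : ℕ) (a b : D.Idx) :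
    nF D fd fx F r a b = ((SV.get (fd.ncol fx r (code D b)) (code D a) : ℤ) : F) := by
  simp [nF, nZ, SM.dens_apply]

theorem ncol_lt (r c : ℕ) (hc : c < fd.l) :
    fd.ncol fx r c = (c, 1) :: (List.range fd.l).map (fun j => (j, - fd.carZ c r * fd.corZ r j)) := by
  unfold FD.ncol
  rw [(natBlt_iff _ _).mpr hc, cond_true]

theorem ncol_ge (r s : ℕ) :
    fd.ncol fx r (fd.l + s) = [(fd.l + fd.nw fx r s, fd.neta fx r s)] := by
  unfold FD.ncol
  have : Nat.blt (fd.l + s) fd.l = false := by rw [← Bool.not_eq_true, natBlt_iff]; omega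
  rw [this, cond_false, Nat.add_sub_cancel_left]

/-- the matrix of `n_{p_i}` -/
theorem nMat_simple_explicit (i : ℕ) (hi : i < D.rank) :
    D.nMat F (D.simple i) 1 = Matrix.of (fun (row col : D.Idx) =>
        Sum.elim
          (fun j' : Fin D.rank => Sum.elim
            (fun j : Fin D.rank => (if j' = j then (1 : F) else 0) -
              (if (j' : ℕ) = i then ((D.cartan j (D.simple i) : ℤ) : F) else 0))
            (fun _ => (0 : F)) col)
          (fun s' : Fin D.nroots => Sum.elim
            (fun _ => (0 : F))
            (fun s : Fin D.nroots => if (s' : ℕ) = D.reflectRoot i s then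
              ((fd.neta fx (fd.simples.getD i 0) s : ℤ) : F) else 0) col)
          row) := by
  have hi' : i < fd.l := by rw [← C.rank_eq]; exact hi
  have hp := C.simple_lt i hi'
  rw [C.agrees.simple_eq, nMat_one C.agrees C.chk.add C.chk.pref C.chk.nn _ hp]
  ext row col
  rw [C.nF_apply, Matrix.of_apply]
  have hl := C.rank_eq
  rcases col with j | s
  · have hj : j.val < fd.l := by rw [← C.rank_eq]; exact j.isLt
    rw [code_inl, C.ncol_lt _ _ hj, SV.get_cons, SV.get_range_map]
    rcases row with j' | s'
    · have hj' : j'.val < fd.l := by rw [← C.rank_eq]; exact j'.isLt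
      dsimp only [code, Sum.elim_inl]
      simp only [hj', if_true]
      rw [(fd.simple_spec C.simple i hi').2.2 j'.val hj', C.agrees.cartan_eq j.val _ hj hp]
      by_cases h1 : j' = j
      · subst h1
        by_cases h2 : (j' : ℕ) = i
        · subst h2
          simp only [if_true]
          push_cast; ring
        · have : ¬ i = (j' : ℕ) := fun h => h2 h.symm
          simp only [h2, this, if_true, if_false]
          push_cast; ring
      · have h1' : ¬ (j : ℕ) = (j' : ℕ) := fun h => h1 (Fin.ext h.symm)
        by_cases h2 : (j' : ℕ) = i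
        · subst h2
          simp only [h1, h1', if_true, if_false]
          push_cast; ring
        · have : ¬ i = (j' : ℕ) := fun h => h2 h.symm
          simp only [h1, h1', h2, this, if_false]
          push_cast; ring
    · dsimp only [code, Sum.elim_inl, Sum.elim_inr]
      have h1 : ¬ (j : ℕ) = D.rank + s'.val := by omega
      have h2 : ¬ D.rank + s'.val < fd.l := by omega
      simp only [h1, h2, if_false]
      simp
  · have hs : s.val < fd.n := by rw [← C.nroots_eq]; exact s.isLt
    have e0 : code D (Sum.inr s) = fd.l + s.val := by rw [code_inr, hl]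
    rw [e0, C.ncol_ge, SV.get_cons, SV.get_nil, add_zero]
    rcases row with j' | s'
    · have hj' : j'.val < fd.l := by rw [← C.rank_eq]; exact j'.isLt
      dsimp only [code, Sum.elim_inl, Sum.elim_inr]
      have h1 : ¬ fd.l + fd.nw fx (fd.simples.getD i 0) s.val = j'.val := by omega
      simp only [h1, if_false]
      simp
    · dsimp only [code, Sum.elim_inl, Sum.elim_inr]
      rw [C.agrees.reflectRoot_eq C.simple i s.val hi' hs, (fd.sim_spec C.sim i s.val hi' hs).2.2.1]
      by_cases h1 : (s' : ℕ) = fd.nw fx (fd.simples.getD i 0) s.val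
      · have : fd.l + fd.nw fx (fd.simples.getD i 0) s.val = D.rank + (s' : ℕ) := by omega
        simp only [h1, this, if_true]
      · have : ¬ fd.l + fd.nw fx (fd.simples.getD i 0) s.val = D.rank + (s' : ℕ) := by omega
        simp only [h1, this, if_false]
        simp

/-- the rules for the signs `η` of a fundamental root -/
theorem eta_rules (i : ℕ) (hi : i < D.rank) :
    (∀ s < D.nroots, fd.neta fx (fd.simples.getD i 0) s = 1 ∨ fd.neta fx (fd.simples.getD i 0) s = -1) ∧
    fd.neta fx (fd.simples.getD i 0) (D.simple i) = -1 ∧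
    fd.neta fx (fd.simples.getD i 0) (D.neg (D.simple i)) = -1 ∧
    (∀ s < D.nroots, fd.neta fx (fd.simples.getD i 0) s * fd.neta fx (fd.simples.getD i 0) (D.reflectRoot i s) =
        (-1) ^ (D.cartan i s).natAbs ∧
      fd.neta fx (fd.simples.getD i 0) s * fd.neta fx (fd.simples.getD i 0) (D.neg s) = 1) := by
  have hi' : i < fd.l := by rw [← C.rank_eq]; exact hi
  have hp := C.simple_lt i hi'
  obtain ⟨h1, h2, _⟩ := fd.sim_spec C.sim i 0 hi' (by omega)
  refine ⟨fun s _ => fd.neta_cases _ s, ?_, ?_, ?_⟩
  · rw [C.agrees.simple_eq]; exact h1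
  · rw [C.agrees.simple_eq, C.agrees.neg_eq' _ hp]; exact h2
  · intro s hs
    have hs' : s < fd.n := by rw [← C.nroots_eq]; exact hs
    obtain ⟨_, _, h3, h4, h5, _⟩ := fd.sim_spec C.sim i s hi' hs'
    rw [C.agrees.reflectRoot_eq C.simple i s hi' hs', h3, C.agrees.cartan_eq i s hi' hs', C.agrees.neg_eq' s hs']
    exact ⟨h4, h5⟩

end Cert2

end Cfsg.Agent.Lib.H29.Chev
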