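import Mathlib
import Cfsg.Prelude.Def_ChevStructure
import Cfsg.Agent.Lib.H29.ChevNorm1
import Cfsg.Agent.Lib.H29.ChevFld1

/-!
# The points of a Chevalley group fixed by an endomorphism of the field
-/

set_option autoImplicit false
set_option linter.unusedSectionVars false
set_option linter.unusedSimpArgs false
set_option linter.unusedVariables false

namespace Cfsg.Agent.Lib.H29.Chev

open Cfsg.Lie Matrix

section Gen

variable {D : ChevalleyDatum} {fd : FD} {fx : FX} {fc : FC} {fz : FZ} {F : Type*} [Field F]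

/-- the subgroup generated by the root elements whose parameter is fixed by `σ` -/
def fixGen (D : ChevalleyDatum) (σ : F →+* F) : Subgroup (GL D.Idx F) :=
  Subgroup.closure {g | ∃ (s : ℕ) (t : F), σ t = t ∧ (g : Matrix D.Idx D.Idx F) = D.x F s t}

namespace Cert12

variable (C : Cert12 D fd fx fc fz) (σ : F →+* F)
include C

theorem xA_mem_fixGen (r : ℕ) (t : F) (ht : σ t = t) : C.c6.c2.xA r t ∈ fixGen D σ :=
  Subgroup.subset_closure ⟨r, t, ht, C.c6.c2.xA_val r t⟩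

theorem oprod_mem_fixGen (t : ℕ → F) (k : ℕ) : ∀ m, (∀ r, m ≤ r → r < m + k → σ (t r) = t r) →
    C.oprod t m k ∈ fixGen D σ := by
  induction k with
  | zero =>
    intro m _
    rw [C.oprod_zero]
    exact one_mem _
  | succ k ih =>
    intro m ht
    rw [C.oprod_succ]
    exact mul_mem (C.xA_mem_fixGen σ m _ (ht m (le_refl _) (by omega)))
      (ih (m + 1) (fun r h1 h2 => ht r (by omega) (by omega)))

/-- the fixed elements of `U` are products of fixed root elements -/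
theorem fix_pos_mem (u : GL D.Idx F) (hu : u ∈ D.posUnipotent F) (hσ : bc D σ u = u) : u ∈ fixGen D σ := by
  have hev := C.c6.c2.heven
  have hk : fd.n / 2 + (fd.n - fd.n / 2) = fd.n := by omega
  rw [C.posUnipotent_eq] at hu
  obtain ⟨t, ht, rfl⟩ := C.Vm_oprod (fun _ => True) C.closed_true (fd.n - fd.n / 2) (fd.n / 2) hk le_rfl u hu
  rw [C.bc_oprod] at hσ
  have h1 := C.oprod_unique _ _ hk le_rfl _ _ hσ
  exact C.oprod_mem_fixGen σ t _ _ (fun r h2 h3 => h1 r h2 (by omega))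

theorem SSet_le_fixGen : Subgroup.closure (SSet D F) ≤ fixGen D σ := by
  have hev := C.c6.c2.heven
  rw [Subgroup.closure_le]
  intro x hx
  obtain ⟨i, hi, rfl⟩ := C.c6.eq_nG_of_SSet x hx
  have hp := C.c6.c2.simple_lt i hi
  rw [SetLike.mem_coe, C.c6.c2.nG_eq_xA' _ hp]
  exact mul_mem (mul_mem (C.xA_mem_fixGen σ _ _ (map_one σ))
    (C.xA_mem_fixGen σ _ _ (by rw [map_neg, map_one]))) (C.xA_mem_fixGen σ _ _ (map_one σ))

/-- the fixed elements of `H` normalise the subgroup generated by the fixed root elements -/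
theorem diag_conj_fixGen (h : GL D.Idx F) (hh : h ∈ D.diagonalSubgroup F) (hσ : bc D σ h = h)
    (x : GL D.Idx F) (hx : x ∈ fixGen D σ) : h * x * h⁻¹ ∈ fixGen D σ := by
  unfold fixGen at hx
  induction hx using Subgroup.closure_induction with
  | mem y hy =>
    obtain ⟨s, t, ht, hy⟩ := hy
    have : y = C.c6.c2.xA s t := gl_ext (by rw [hy, C.c6.c2.xA_val])
    rw [this]
    by_cases hs : s < fd.n
    · rw [C.diag_conj_xA h hh s hs t]
      apply C.xA_mem_fixGen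
      have hs' : s < D.nroots := by rw [C.c6.c2.nroots_eq]; exact hs
      have hd : σ (dE D h s) = dE D h s := by
        unfold dE
        rw [dif_pos hs']
        have := congrArg (fun g : GL D.Idx F => (g : Matrix D.Idx D.Idx F) (Sum.inr ⟨s, hs'⟩) (Sum.inr ⟨s, hs'⟩)) hσ
        simp only [bc_val, Matrix.map_apply] at this
        exact this
      rw [map_mul, hd, ht]
    · have : C.c6.c2.xA s t = 1 := by
        unfold Cert2.xA
        rw [dif_neg hs]
      rw [this, mul_one, mul_inv_cancel]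
      exact one_mem _
  | one =>
    rw [mul_one, mul_inv_cancel]
    exact one_mem _
  | mul y z _ _ hy hz =>
    have : h * (y * z) * h⁻¹ = (h * y * h⁻¹) * (h * z * h⁻¹) := by group
    rw [this]
    exact mul_mem hy hz
  | inv y _ hy =>
    have : h * y⁻¹ * h⁻¹ = (h * y * h⁻¹)⁻¹ := by group
    rw [this]
    exact inv_mem hy

/-- a fixed element of the group is the product of a fixed element of `H` and an element of the subgroup generated
by the fixed root elements -/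
theorem fixpt_decomp (g : GL D.Idx F) (hg : g ∈ D.group F) (hσ : bc D σ g = g) :
    ∃ h ∈ D.diagonalSubgroup F, bc D σ h = h ∧ ∃ a ∈ fixGen D σ, g = h * a := by
  obtain ⟨b, hb, n, hn, u, hu, rfl⟩ := C.c6.canonical_form.1 g hg
  rw [← C.c6.closure_SSet_sup_diag] at hn
  have hSN : Subgroup.closure (SSet D F) ≤ Subgroup.normalizer (D.diagonalSubgroup F : Set (GL D.Idx F)) := by
    refine le_trans ?_ (C.c6.c2.monomial_le_normalizer_diag (F := F))
    rw [← C.c6.closure_SSet_sup_diag]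
    exact le_sup_left
  have hn' : n ∈ ((Subgroup.closure (SSet D F) ⊔ D.diagonalSubgroup F : Subgroup _) : Set (GL D.Idx F)) := hn
  rw [Subgroup.coe_mul_of_left_le_normalizer_right _ _ hSN] at hn'
  obtain ⟨m, hm, k, hk, rfl⟩ := Set.mem_mul.mp hn'
  have hm' : m ∈ Subgroup.closure (SSet D F) := hm
  have hk' : k ∈ D.diagonalSubgroup F := hk
  have hk2 : m * k * m⁻¹ ∈ D.diagonalSubgroup F :=
    (Subgroup.mem_normalizer_iff.mp (hSN hm') k).mp hk'
  have hu2 : u ∈ Uw D F m := by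
    have := C.c6.Uw_le_mul_diag (m * k) k⁻¹ (inv_mem hk') hu
    rwa [mul_assoc, mul_inv_cancel, mul_one] at this
  set b' := b * (m * k * m⁻¹) with hb'def
  have hb' : b' ∈ D.borelSubgroup F := mul_mem hb (C.c6.diag_le_borel hk2)
  have eg : b * (m * k) * u = b' * m * u := by rw [hb'def]; group
  rw [eg] at hσ ⊢
  have hmN : m ∈ D.monomialSubgroup F := by
    rw [← C.c6.closure_SSet_sup_diag]
    exact (le_sup_left : Subgroup.closure (SSet D F) ≤ _) hm'
  rw [map_mul, map_mul, C.bc_SSet_fix σ m hm'] at hσ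
  have hσb : bc D σ b' ∈ D.borelSubgroup F := C.bc_borel_le σ ⟨b', hb', rfl⟩
  obtain ⟨-, hun⟩ := C.c6.canonical_form.2 (bc D σ b') b' m m (bc D σ u) u hσb hb' hmN hmN
    (C.bc_Uw σ m u hu2) hu2 hσ
  obtain ⟨e1, e2⟩ := hun rfl
  obtain ⟨u₁, hu₁, h₁, hh₁, e3⟩ := C.c6.c2.borel_mem b' hb'
  rw [← e3, map_mul] at e1
  have hσu₁ : bc D σ u₁ ∈ D.posUnipotent F := C.bc_pos_le σ ⟨u₁, hu₁, rfl⟩
  have hσh₁ : bc D σ h₁ ∈ D.diagonalSubgroup F := C.bc_diag_le σ ⟨h₁, hh₁, rfl⟩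
  have e4 : u₁⁻¹ * bc D σ u₁ = h₁ * (bc D σ h₁)⁻¹ := by
    have : bc D σ u₁ = u₁ * h₁ * (bc D σ h₁)⁻¹ := by rw [← e1]; group
    rw [this]; group
  have h5 : u₁⁻¹ * bc D σ u₁ ∈ D.posUnipotent F ⊓ D.diagonalSubgroup F :=
    Subgroup.mem_inf.mpr ⟨mul_mem (inv_mem hu₁) hσu₁, by rw [e4]; exact mul_mem hh₁ (inv_mem hσh₁)⟩
  rw [C.c6.c2.pos_inf_diag, Subgroup.mem_bot] at h5
  have e6 : bc D σ u₁ = u₁ := by
    have : bc D σ u₁ = u₁ * (u₁⁻¹ * bc D σ u₁) := by group
    rw [this, h5, mul_one]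
  have e7 : bc D σ h₁ = h₁ := by
    rw [e6] at e1
    exact mul_left_cancel e1
  have k1 : u₁ ∈ fixGen D σ := C.fix_pos_mem σ u₁ hu₁ e6
  have k2 : u ∈ fixGen D σ := C.fix_pos_mem σ u (_root_.Cfsg.Agent.Lib.H29.Chev.Uw_le_pos _ hu2) e2
  have k3 : m ∈ fixGen D σ := C.SSet_le_fixGen σ hm'
  have k4 : h₁⁻¹ * u₁ * h₁⁻¹⁻¹ ∈ fixGen D σ := by
    apply C.diag_conj_fixGen σ h₁⁻¹ (inv_mem hh₁) _ u₁ k1
    rw [map_inv, e7]
  refine ⟨h₁, hh₁, e7, h₁⁻¹ * u₁ * h₁⁻¹⁻¹ * m * u, mul_mem (mul_mem k4 k3) k2, ?_⟩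
  rw [← e3]
  group

/-- the commutator of two fixed elements of the group lies in the subgroup generated by the fixed root elements -/
theorem fix_comm_mem (g x : GL D.Idx F) (hg : g ∈ D.group F) (hx : x ∈ D.group F) (hσg : bc D σ g = g)
    (hσx : bc D σ x = x) : g * x * g⁻¹ * x⁻¹ ∈ fixGen D σ := by
  obtain ⟨h, hh, eh, a, ha, rfl⟩ := C.fixpt_decomp σ g hg hσg
  obtain ⟨h', hh', eh', a', ha', rfl⟩ := C.fixpt_decomp σ x hx hσx
  have hcomm : h * h' = h' * h := by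
    have k1 := hh
    have k2 := hh'
    rw [C.diag_eq_range] at k1 k2
    obtain ⟨y, hy⟩ := k1
    obtain ⟨y', hy'⟩ := k2
    rw [← hy, ← hy', ← map_mul, ← map_mul, mul_comm]
  have e : h * a * (h' * a') * (h * a)⁻¹ * (h' * a')⁻¹ =
      (h * a * h⁻¹) * ((h * h') * (a' * a⁻¹) * (h * h')⁻¹) * (h' * a'⁻¹ * h'⁻¹) := by
    have h1 : (h * h') * (a' * a⁻¹) * (h * h')⁻¹ * (h' * a'⁻¹ * h'⁻¹) =
        h * h' * a' * a⁻¹ * (h'⁻¹ * h⁻¹ * h') * a'⁻¹ * h'⁻¹ := by group
    have h2 : h'⁻¹ * h⁻¹ * h' = h⁻¹ := by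
      have : h⁻¹ * h' = h' * h⁻¹ := by
        rw [eq_mul_inv_iff_mul_eq, mul_assoc, ← hcomm, ← mul_assoc, inv_mul_cancel, one_mul]
      rw [mul_assoc, this, ← mul_assoc, inv_mul_cancel, one_mul]
    rw [mul_assoc (h * a * h⁻¹), h1, h2]
    group
  rw [e]
  refine mul_mem (mul_mem (C.diag_conj_fixGen σ h hh eh a ha) ?_) ?_
  · apply C.diag_conj_fixGen σ (h * h') (mul_mem hh hh') (by rw [map_mul, eh, eh']) _ (mul_mem ha' (inv_mem ha))
  · exact C.diag_conj_fixGen σ h' hh' eh' _ (inv_mem ha')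

end Cert12

end Gen

end Cfsg.Agent.Lib.H29.Chev
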