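import Mathlib
import Cfsg.Prelude.Def_ChevStructure
import Cfsg.Agent.Lib.H29.ChevNorm2
import Cfsg.Agent.Lib.H29.ChevCert13

/-!
# Centraliser and normaliser of a subgroup between the group over a subfield and the fixed points
-/

set_option autoImplicit false
set_option linter.unusedSectionVars false
set_option linter.unusedSimpArgs false
set_option linter.unusedVariables false

namespace Cfsg.Agent.Lib.H29.Chev

open Cfsg.Lie Matrix

section Gen

variable {D : ChevalleyDatum} {fd : FD} {fx : FX} {fc : FC} {fz : FZ} {F : Type*} [Field F]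

namespace Cert12

variable (C : Cert12 D fd fx fc fz) (σ : F →+* F)
include C

theorem cent_norm_of_fix (K : Subgroup (GL D.Idx F)) (hKG : K ≤ D.group F) (hLK : fixGen D σ ≤ K)
    (hKfix : ∀ g ∈ K, bc D σ g = g) :
    D.group F ⊓ Subgroup.centralizer (K : Set (GL D.Idx F)) = ⊥ ∧
    ∀ g : GL D.Idx F, g ∈ D.group F → (g ∈ Subgroup.normalizer (K : Set (GL D.Idx F)) ↔ bc D σ g = g) := by
  have hcent : D.group F ⊓ Subgroup.centralizer (K : Set (GL D.Idx F)) = ⊥ := by
    rw [eq_bot_iff]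
    intro g hg
    obtain ⟨hgG, hgC⟩ := Subgroup.mem_inf.mp hg
    rw [Subgroup.mem_bot]
    apply C.eq_one_of_comm g hgG
    intro r hr
    have hx : C.c6.c2.xA r (1 : F) ∈ K := hLK (C.xA_mem_fixGen σ r 1 (map_one σ))
    exact ((Subgroup.mem_centralizer_iff.mp hgC) _ hx).symm
  refine ⟨hcent, fun g hg => ⟨fun hN => ?_, fun hσ => ?_⟩⟩
  · -- `g⁻¹ σ(g)` centralises `K`
    have hσG : bc D σ g ∈ D.group F := C.c6.c2.bc_group_le σ ⟨g, hg, rfl⟩
    have hc : g⁻¹ * bc D σ g ∈ D.group F ⊓ Subgroup.centralizer (K : Set (GL D.Idx F)) := by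
      refine Subgroup.mem_inf.mpr ⟨mul_mem (inv_mem hg) hσG, ?_⟩
      rw [Subgroup.mem_centralizer_iff]
      intro x hx
      have h1 : g * x * g⁻¹ ∈ K := (Subgroup.mem_normalizer_iff.mp hN x).mp hx
      have h2 := hKfix _ h1
      rw [map_mul, map_mul, map_inv, hKfix x hx] at h2
      -- `σ(g) x σ(g)⁻¹ = g x g⁻¹`
      have h3 : bc D σ g * x = g * x * g⁻¹ * bc D σ g := by
        rw [← h2]; group
      calc x * (g⁻¹ * bc D σ g) = g⁻¹ * (g * x * g⁻¹ * bc D σ g) := by group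
        _ = g⁻¹ * (bc D σ g * x) := by rw [h3]
        _ = g⁻¹ * bc D σ g * x := by group
    rw [hcent, Subgroup.mem_bot] at hc
    have : bc D σ g = g * (g⁻¹ * bc D σ g) := by group
    rw [this, hc, mul_one]
  · rw [Subgroup.mem_normalizer_iff]
    intro x
    have hσi : bc D σ g⁻¹ = g⁻¹ := by rw [map_inv, hσ]
    constructor
    · intro hx
      have h1 := C.fix_comm_mem σ g x hg (hKG hx) hσ (hKfix x hx)
      have : g * x * g⁻¹ = (g * x * g⁻¹ * x⁻¹) * x := by group
      rw [this]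
      exact mul_mem (hLK h1) hx
    · intro hy
      have h1 := C.fix_comm_mem σ g⁻¹ (g * x * g⁻¹) (inv_mem hg) (hKG hy) hσi (hKfix _ hy)
      have : x = (g⁻¹ * (g * x * g⁻¹) * g⁻¹⁻¹ * (g * x * g⁻¹)⁻¹) * (g * x * g⁻¹) := by group
      rw [this]
      exact mul_mem (hLK h1) hy

end Cert12

end Gen

section Frob

variable {k : Type*} [Field k] (p : ℕ) [Fact p.Prime] [CharP k p]

theorem bc_frob_iff (D : ChevalleyDatum) (a : ℕ) (g : GL D.Idx k) :
    bc D (iterateFrobenius k p a) g = g ↔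
      ∀ i j : D.Idx, ((g : Matrix D.Idx D.Idx k) i j) ^ (p ^ a) = (g : Matrix D.Idx D.Idx k) i j := by
  constructor
  · intro h i j
    have := congrArg (fun g : GL D.Idx k => (g : Matrix D.Idx D.Idx k) i j) h
    simp only [bc_val, Matrix.map_apply, iterateFrobenius_def] at this
    exact this
  · intro h
    apply gl_ext
    ext i j
    rw [bc_val, Matrix.map_apply, iterateFrobenius_def]
    exact h i j

theorem Cert12.cent_norm_frob {D : ChevalleyDatum} {fd : FD} {fx : FX} {fc : FC} {fz : FZ}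
    (C : Cert12 D fd fx fc fz) (a : ℕ) (K : Subgroup (GL D.Idx k)) (hKG : K ≤ D.group k)
    (hLK : Subgroup.closure {g : GL D.Idx k | ∃ (s : ℕ) (t : k), t ^ (p ^ a) = t ∧
      (g : Matrix D.Idx D.Idx k) = D.x k s t} ≤ K)
    (hKfix : ∀ g ∈ K, ∀ i j : D.Idx, ((g : Matrix D.Idx D.Idx k) i j) ^ (p ^ a) = (g : Matrix D.Idx D.Idx k) i j) :
    D.group k ⊓ Subgroup.centralizer (K : Set (GL D.Idx k)) = ⊥ ∧
    ∀ g : GL D.Idx k, g ∈ D.group k → (g ∈ Subgroup.normalizer (K : Set (GL D.Idx k)) ↔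
      ∀ i j : D.Idx, ((g : Matrix D.Idx D.Idx k) i j) ^ (p ^ a) = (g : Matrix D.Idx D.Idx k) i j) := by
  have hL : fixGen D (iterateFrobenius k p a) ≤ K := by
    refine le_trans ?_ hLK
    unfold fixGen
    apply Subgroup.closure_mono
    rintro g ⟨s, t, ht, hg⟩
    rw [iterateFrobenius_def] at ht
    exact ⟨s, t, ht, hg⟩
  obtain ⟨h1, h2⟩ := C.cent_norm_of_fix (iterateFrobenius k p a) K hKG hL
    (fun g hg => (bc_frob_iff p D a g).mpr (hKfix g hg))
  refine ⟨h1, fun g hg => ?_⟩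
  rw [h2 g hg, bc_frob_iff]

end Frob

end Cfsg.Agent.Lib.H29.Chev
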