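import Mathlib
import Cfsg.Prelude.Def_LieChev
import Cfsg.Agent.Lib.H29.ChevCert13
import Cfsg.Agent.Lib.H29.ChevChkWE6
import Cfsg.Agent.Lib.H29.ChevGen43

/-!
# The order of the Chevalley group of type E6 in terms of the order of `B`
-/

set_option autoImplicit false

namespace Cfsg.Agent.Lib.H29.Chev

open Cfsg.Lie

/-- the tables of distinguished coset representatives -/
def fpsE6 : ℕ → FP
  | 0 => fpE6k0
  | 1 => fpE6k1
  | 2 => fpE6k2
  | 3 => fpE6k3
  | 4 => fpE6k4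
  | 5 => fpE6k5
  | _ => fpE6k0

theorem fpsE6_chk : ∀ k < fdE6.l, fdE6.ChkW fxE6 (fpsE6 k) k ∧ 0 < (fpsE6 k).dk := by
  intro k hk
  have hk' : k < 6 := hk
  interval_cases k
  · exact ⟨fdE6_ChkW0, by decide⟩
  · exact ⟨fdE6_ChkW1, by decide⟩
  · exact ⟨fdE6_ChkW2, by decide⟩
  · exact ⟨fdE6_ChkW3, by decide⟩
  · exact ⟨fdE6_ChkW4, by decide⟩
  · exact ⟨fdE6_ChkW5, by decide⟩

set_option maxRecDepth 1000000 in
set_option maxHeartbeats 0 in
theorem fpsE6_poly : polyW fpsE6 fdE6.l = polyD [2, 5, 6, 8, 9, 12] := by decide +kernel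

theorem card_group_E6 {F : Type*} [Field F] [Finite F] :
    Nat.card (chevE6.group F) = Nat.card (chevE6.borelSubgroup F) *
      (([2, 5, 6, 8, 9, 12] : List ℕ).map fun d => ∑ i ∈ Finset.range d, Nat.card F ^ i).prod :=
  cert12_E6.card_group_poly fpsE6 fpsE6_chk _ fpsE6_poly

end Cfsg.Agent.Lib.H29.Chev
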