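import Mathlib
import Cfsg.Prelude.Def_LieChev
import Cfsg.Agent.Lib.H29.ChevPoinE6
import Cfsg.Agent.Lib.H29.ChevDiagOrd
import Cfsg.Agent.Lib.H29.ChevGen47

/-!
# The order of the Chevalley group of type E6
-/

set_option autoImplicit false

namespace Cfsg.Agent.Lib.H29.Chev

open Cfsg.Lie

theorem order_E6 {F : Type*} [Field F] [Finite F] :
    Nat.gcd 3 (Nat.card F - 1) * Nat.card (chevE6.group F) =
      Nat.card F ^ 36 * (Nat.card F ^ 2 - 1) * (Nat.card F ^ 5 - 1) * (Nat.card F ^ 6 - 1) * (Nat.card F ^ 8 - 1) * (Nat.card F ^ 9 - 1) * (Nat.card F ^ 12 - 1) := by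
  have h := cert12_E6.card_group_final (F := F) [2, 5, 6, 8, 9, 12] card_group_E6 (Nat.gcd 3 (Nat.card F - 1)) (by rw [card_diag_E6]; rfl)
  have hn : chevE6.nroots / 2 = 36 := rfl
  rw [hn] at h
  simp only [List.map_cons, List.map_nil, List.prod_cons, List.prod_nil, mul_one, one_mul] at h
  rw [h]
  simp only [mul_assoc]

end Cfsg.Agent.Lib.H29.Chev
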