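import Mathlib
import Cfsg.Prelude.Def_ChevAutomorphisms
import Cfsg.Agent.Lib.H29.ChevOut1

/-! Outer automorphism groups of Chevalley groups, part 2: an automorphism permuting the fundamental
root subgroups suitably preserves `U` and `V` (a closure check on the tables). -/

set_option autoImplicit false
set_option linter.unusedSimpArgs false
set_option linter.unusedVariables false

namespace Cfsg.Agent.Lib.H29.Chev

open Cfsg.Lie Matrix

/-- add a pair to a list of pairs, if it is new -/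
def addT (T : List (ℕ × ℕ)) (p : ℕ × ℕ) : List (ℕ × ℕ) :=
  bif T.any (fun q => Nat.beq q.1 p.1 && Nat.beq q.2 p.2) then T else p :: T

/-- one round of closure of a list of tracked pairs under the fundamental reflections -/
def stepT (fd : FD) (fx : FX) (L : List ℕ) (T : List (ℕ × ℕ)) : List (ℕ × ℕ) :=
  T.foldl (fun acc p => (List.range fd.l).foldl
    (fun acc' i => addT acc' (fd.sw fx i p.1, fd.sw fx (L.getD i 0) p.2)) acc) T

/-- the tracked pairs after `k` rounds -/
def closeT (fd : FD) (fx : FX) (L : List ℕ) : ℕ → List (ℕ × ℕ)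
  | 0 => (List.range fd.l).flatMap fun i =>
      [(fd.simples.getD i 0, fd.simples.getD (L.getD i 0) 0),
       (fd.n - 1 - fd.simples.getD i 0, fd.n - 1 - fd.simples.getD (L.getD i 0) 0)]
  | k + 1 => stepT fd fx L (closeT fd fx L k)

/-- every root is tracked to a root of the same sign -/
def chkStd (fd : FD) (fx : FX) (L : List ℕ) (k : ℕ) : Bool :=
  (List.range fd.n).all fun r => (closeT fd fx L k).any fun p =>
    Nat.beq p.1 r && (Nat.ble (fd.n / 2) p.2 == Nat.ble (fd.n / 2) r)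

theorem foldl_inv {α β : Type*} (f : β → α → β) (Q : β → Prop) (l : List α)
    (hf : ∀ b a, a ∈ l → Q b → Q (f b a)) (b : β) (hb : Q b) : Q (l.foldl f b) := by
  induction l generalizing b with
  | nil => exact hb
  | cons a l ih =>
    rw [List.foldl_cons]
    exact ih (fun b' a' ha' => hf b' a' (List.mem_cons_of_mem _ ha')) _ (hf b a List.mem_cons_self hb)

theorem addT_forall (P : ℕ × ℕ → Prop) (T : List (ℕ × ℕ)) (p : ℕ × ℕ) (hT : ∀ q ∈ T, P q) (hp : P p) :
    ∀ q ∈ addT T p, P q := by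
  unfold addT
  cases T.any (fun q => Nat.beq q.1 p.1 && Nat.beq q.2 p.2) with
  | true => exact hT
  | false =>
    intro q hq
    rw [cond_false, List.mem_cons] at hq
    rcases hq with rfl | hq
    · exact hp
    · exact hT q hq

theorem closeT_forall (fd : FD) (fx : FX) (L : List ℕ) (P : ℕ × ℕ → Prop)
    (h0 : ∀ i < fd.l, P (fd.simples.getD i 0, fd.simples.getD (L.getD i 0) 0) ∧
      P (fd.n - 1 - fd.simples.getD i 0, fd.n - 1 - fd.simples.getD (L.getD i 0) 0))
    (hstep : ∀ p, P p → ∀ i < fd.l, P (fd.sw fx i p.1, fd.sw fx (L.getD i 0) p.2)) (k : ℕ) :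
    ∀ q ∈ closeT fd fx L k, P q := by
  induction k with
  | zero =>
    intro q hq
    simp only [closeT, List.mem_flatMap, List.mem_range, List.mem_cons, List.not_mem_nil, or_false] at hq
    obtain ⟨i, hi, hq⟩ := hq
    rcases hq with rfl | rfl
    · exact (h0 i hi).1
    · exact (h0 i hi).2
  | succ k ih =>
    show ∀ q ∈ stepT fd fx L (closeT fd fx L k), P q
    unfold stepT
    apply foldl_inv _ (fun T => ∀ q ∈ T, P q) _ _ _ ih
    intro T p hp hT
    apply foldl_inv _ (fun T => ∀ q ∈ T, P q) _ _ _ hT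
    intro T' i hi hT'
    exact addT_forall P T' _ hT' (hstep p (ih p hp) i (List.mem_range.mp hi))

theorem chkStd_spec {fd : FD} {fx : FX} {L : List ℕ} {k : ℕ} (h : chkStd fd fx L k = true) (r : ℕ)
    (hr : r < fd.n) : ∃ p ∈ closeT fd fx L k, p.1 = r ∧ (fd.n / 2 ≤ p.2 ↔ fd.n / 2 ≤ r) := by
  simp only [chkStd, List.all_eq_true, List.mem_range, List.any_eq_true, Bool.and_eq_true, natBeq_iff,
    beq_iff_eq] at h
  obtain ⟨p, hp, h1, h2⟩ := h r hr
  refine ⟨p, hp, h1, ?_⟩
  rw [← Nat.ble_eq, ← Nat.ble_eq, h2]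

variable {D : ChevalleyDatum} {fd : FD} {fx : FX} {fc : FC} {fz : FZ} {F : Type*} [Field F]

namespace Cert12

variable (C : Cert12 D fd fx fc fz)
include C

/-- an automorphism mapping positive root subgroups into positive root subgroups preserves `U` -/
theorem map_U1_of_tracks (θ : ↥(D.group F) ≃* ↥(D.group F))
    (h : ∀ r < fd.n, fd.n / 2 ≤ r → ∃ r' < fd.n, fd.n / 2 ≤ r' ∧ C.Tracks θ r r')
    (g : ↥(D.group F)) (hg : g ∈ U1 D F) : θ g ∈ U1 D F := by
  rw [Subgroup.mem_subgroupOf] at hg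
  obtain ⟨g₀, hg₀⟩ := g
  simp only at hg
  have key : ∀ y, y ∈ D.posUnipotent F → ∀ hy : y ∈ D.group F, θ ⟨y, hy⟩ ∈ U1 D F := by
    intro y hy
    unfold ChevalleyDatum.posUnipotent at hy
    induction hy using Subgroup.closure_induction with
    | mem y hy =>
      intro hyG
      obtain ⟨r, t, hr, hy⟩ := hy
      obtain ⟨hr1, hr2⟩ := (C.c6.isPos_iff r).mp hr
      have hyx : y = C.c6.c2.xA r t := gl_ext (by rw [hy, C.c6.c2.xA_val])
      obtain ⟨r', hr', hpos', htr⟩ := h r hr1 hr2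
      obtain ⟨t', ht'⟩ := htr t
      have : (⟨y, hyG⟩ : ↥(D.group F)) = C.xg r t := Subtype.ext hyx
      rw [this, ht', Subgroup.mem_subgroupOf]
      exact C.xA_pos_mem r' hr' hpos' t'
    | one =>
      intro _
      have : (⟨1, ‹_›⟩ : ↥(D.group F)) = 1 := rfl
      rw [this, map_one]
      exact Subgroup.one_mem _
    | mul a b ha hb iha ihb =>
      intro _
      have haG : a ∈ D.group F := C.c6.c2.pos_le_group ha
      have hbG : b ∈ D.group F := C.c6.c2.pos_le_group hb
      have : (⟨a * b, ‹_›⟩ : ↥(D.group F)) = ⟨a, haG⟩ * ⟨b, hbG⟩ := rfl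
      rw [this, map_mul]
      exact Subgroup.mul_mem _ (iha haG) (ihb hbG)
    | inv a ha iha =>
      intro _
      have haG : a ∈ D.group F := C.c6.c2.pos_le_group ha
      have : (⟨a⁻¹, ‹_›⟩ : ↥(D.group F)) = (⟨a, haG⟩ : ↥(D.group F))⁻¹ := rfl
      rw [this, map_inv]
      exact Subgroup.inv_mem _ (iha haG)
  exact key g₀ hg hg₀

/-- an automorphism mapping negative root subgroups into negative root subgroups preserves `V` -/
theorem map_V1_of_tracks (θ : ↥(D.group F) ≃* ↥(D.group F))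
    (h : ∀ r < fd.n, r < fd.n / 2 → ∃ r' < fd.n, r' < fd.n / 2 ∧ C.Tracks θ r r')
    (g : ↥(D.group F)) (hg : g ∈ V1 D F) : θ g ∈ V1 D F := by
  rw [Subgroup.mem_subgroupOf] at hg
  obtain ⟨g₀, hg₀⟩ := g
  simp only at hg
  have key : ∀ y, y ∈ D.negUnipotent F → ∀ hy : y ∈ D.group F, θ ⟨y, hy⟩ ∈ V1 D F := by
    intro y hy
    unfold ChevalleyDatum.negUnipotent at hy
    induction hy using Subgroup.closure_induction with
    | mem y hy =>
      intro hyG
      obtain ⟨r, t, hr, hy⟩ := hy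
      obtain ⟨hr2, hr1⟩ := (isNeg_iff C.c6.c2.agrees C.c6.c2.lev r).mp hr
      have hyx : y = C.c6.c2.xA r t := gl_ext (by rw [hy, C.c6.c2.xA_val])
      obtain ⟨r', hr', hneg', htr⟩ := h r hr1 hr2
      obtain ⟨t', ht'⟩ := htr t
      have : (⟨y, hyG⟩ : ↥(D.group F)) = C.xg r t := Subtype.ext hyx
      rw [this, ht', Subgroup.mem_subgroupOf]
      exact C.xA_neg_mem r' hr' hneg' t'
    | one =>
      intro _
      have : (⟨1, ‹_›⟩ : ↥(D.group F)) = 1 := rfl
      rw [this, map_one]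
      exact Subgroup.one_mem _
    | mul a b ha hb iha ihb =>
      intro _
      have haG : a ∈ D.group F := C.neg_le_group' ha
      have hbG : b ∈ D.group F := C.neg_le_group' hb
      have : (⟨a * b, ‹_›⟩ : ↥(D.group F)) = ⟨a, haG⟩ * ⟨b, hbG⟩ := rfl
      rw [this, map_mul]
      exact Subgroup.mul_mem _ (iha haG) (ihb hbG)
    | inv a ha iha =>
      intro _
      have haG : a ∈ D.group F := C.neg_le_group' ha
      have : (⟨a⁻¹, ‹_›⟩ : ↥(D.group F)) = (⟨a, haG⟩ : ↥(D.group F))⁻¹ := rfl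
      rw [this, map_inv]
      exact Subgroup.inv_mem _ (iha haG)
  exact key g₀ hg hg₀

/-- an automorphism permuting the root subgroups, with signs preserved, is standard -/
theorem stdAut_of_tracks [Finite F] (θ : ↥(D.group F) ≃* ↥(D.group F))
    (h : ∀ r < fd.n, ∃ r' < fd.n, (fd.n / 2 ≤ r' ↔ fd.n / 2 ≤ r) ∧ C.Tracks θ r r') : StdAut θ := by
  have hfinU : Finite (U1 D F) := inferInstance
  have hfinV : Finite (V1 D F) := inferInstance
  constructor
  · apply iff_of_forall_mem θ (U1 D F)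
    apply C.map_U1_of_tracks θ
    intro r hr hpos
    obtain ⟨r', hr', hiff, htr⟩ := h r hr
    exact ⟨r', hr', hiff.mpr hpos, htr⟩
  · apply iff_of_forall_mem θ (V1 D F)
    apply C.map_V1_of_tracks θ
    intro r hr hneg
    obtain ⟨r', hr', hiff, htr⟩ := h r hr
    refine ⟨r', hr', ?_, htr⟩
    by_contra hcon
    have := hiff.mp (by omega)
    omega

end Cert12

namespace SimpAct

variable {C : Cert12 D fd fx fc fz} {θ : ↥(D.group F) ≃* ↥(D.group F)} {ρ : ℕ → ℕ} {f g : ℕ → F →+ F}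
  (S : SimpAct C θ ρ f g)
include S

/-- an automorphism acting on the fundamental root subgroups through a permutation passing the closure check
preserves `U` and `V` -/
theorem stdAut_of_chk [Finite F] (L : List ℕ) (hL : ∀ i < fd.l, ρ i = L.getD i 0) (k : ℕ)
    (hchk : chkStd fd fx L k = true) : StdAut θ := by
  have hev := C.c6.c2.heven
  have hP := closeT_forall fd fx L (fun p => p.1 < fd.n ∧ p.2 < fd.n ∧ C.Tracks θ p.1 p.2) (by
    intro i hi
    have h1 := C.c6.c2.simple_lt i hi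
    have h2 := C.c6.c2.simple_lt _ (S.rho_lt i hi)
    rw [← hL i hi]
    exact ⟨⟨h1, h2, S.tracks_pos i hi⟩, ⟨by omega, by omega, S.tracks_neg i hi⟩⟩) (by
    rintro ⟨r, r'⟩ ⟨hr, hr', htr⟩ i hi
    rw [← hL i hi]
    refine ⟨(fd.nw_spec C.c6.c2.chk.nn _ _ (C.c6.c2.simple_lt i hi) hr).1,
      (fd.nw_spec C.c6.c2.chk.nn _ _ (C.c6.c2.simple_lt _ (S.rho_lt i hi)) hr').1, ?_⟩
    exact S.tracks_sw i hi r r' hr hr' htr) k
  apply C.stdAut_of_tracks θ
  intro r hr
  obtain ⟨p, hp, h1, h2⟩ := chkStd_spec hchk r hr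
  obtain ⟨_, hp2, htr⟩ := hP p hp
  rw [h1] at htr
  exact ⟨p.2, hp2, h2, htr⟩

end SimpAct

end Cfsg.Agent.Lib.H29.Chev
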