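import Mathlib
import Cfsg.Prelude.Def_ChevAutomorphisms
import Cfsg.Agent.Lib.H29.ChevOut2

/-! Outer automorphism groups of Chevalley groups, part 3: the decomposition of an automorphism
preserving `U` and `V`, with a prescribed automorphism for the permutation of the fundamental roots. -/

set_option autoImplicit false
set_option linter.unusedSimpArgs false
set_option linter.unusedVariables false

namespace Cfsg.Agent.Lib.H29.Chev

open Cfsg.Lie Matrix

variable {D : ChevalleyDatum} {fd : FD} {fx : FX} {fc : FC} {fz : FZ} {F : Type*} [Field F]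

theorem chiOf_congr (fd : FD) (fx : FX) (c c' : ℕ → Fˣ) (h : ∀ j < fd.l, c j = c' j) (r : ℕ) :
    chiOf fd fx c r = chiOf fd fx c' r := by
  unfold chiOf
  apply Finset.prod_congr rfl
  intro j hj
  rw [h j (Finset.mem_range.mp hj)]

namespace Cert12

variable (C : Cert12 D fd fx fc fz)
include C

/-- from tracking of the fundamental root subgroups to the data of the action -/
theorem simpAct_of_tracks (γ : ↥(D.group F) ≃* ↥(D.group F)) (ρ : ℕ → ℕ) (hlt : ∀ i < fd.l, ρ i < fd.l)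
    (hpos : ∀ i < fd.l, C.Tracks γ (fd.simples.getD i 0) (fd.simples.getD (ρ i) 0))
    (hneg : ∀ i < fd.l, C.Tracks γ (fd.n - 1 - fd.simples.getD i 0) (fd.n - 1 - fd.simples.getD (ρ i) 0)) :
    ∃ f g : ℕ → F →+ F, SimpAct C γ ρ f g := by
  have hev := C.c6.c2.heven
  have key : ∀ i, ∃ fg : (F →+ F) × (F →+ F), i < fd.l →
      (∀ t, γ (C.xg (fd.simples.getD i 0) t) = C.xg (fd.simples.getD (ρ i) 0) (fg.1 t)) ∧
      (∀ t, γ (C.xg (fd.n - 1 - fd.simples.getD i 0) t) =
        C.xg (fd.n - 1 - fd.simples.getD (ρ i) 0) (fg.2 t)) ∧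
      Function.Injective fg.1 ∧ Function.Injective fg.2 := by
    intro i
    by_cases hi : i < fd.l
    · have hp := C.c6.c2.simple_lt i hi
      have hp' := C.c6.c2.simple_lt (ρ i) (hlt i hi)
      obtain ⟨f, hf, hfi⟩ := C.exists_param γ _ _ hp hp' (hpos i hi)
      obtain ⟨g, hg, hgi⟩ := C.exists_param γ _ _ (by omega) (by omega) (hneg i hi)
      exact ⟨(f, g), fun _ => ⟨hf, hg, hfi, hgi⟩⟩
    · exact ⟨(0, 0), fun h => absurd h hi⟩
  choose fg hfg using key
  exact ⟨fun i => (fg i).1, fun i => (fg i).2,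
    ⟨hlt, fun i hi => (hfg i hi).1, fun i hi => (hfg i hi).2.1,
      fun i hi => (hfg i hi).2.2.1, fun i hi => (hfg i hi).2.2.2⟩⟩

end Cert12

namespace SimpAct

variable {C : Cert12 D fd fx fc fz} {θ : ↥(D.group F) ≃* ↥(D.group F)} {ρ : ℕ → ℕ} {f g : ℕ → F →+ F}
  (S₁ : SimpAct C θ ρ f g)
include S₁

/-- the decomposition of an automorphism acting on the fundamental root subgroups, given an automorphism with the same
permutation that fixes the `x_{α_i}(1)` up to this permutation -/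
theorem std_decomp [Finite F] (hS : DiagConj D F) (es : List (ℕ × ℕ)) (hconn : chkConn fd es = true)
    (γ : ↥(D.group F) ≃* ↥(D.group F))
    (hγt : ∀ i < fd.l, C.Tracks γ (fd.simples.getD i 0) (fd.simples.getD (ρ i) 0) ∧
      C.Tracks γ (fd.n - 1 - fd.simples.getD i 0) (fd.n - 1 - fd.simples.getD (ρ i) 0) ∧
      γ (C.xg (fd.simples.getD i 0) 1) = C.xg (fd.simples.getD (ρ i) 0) 1) :
    ∃ (c : ℕ → Fˣ) (σ : F ≃+* F), ∀ y : ↥(D.group F),
      θ y = C.diagAut hS (chiOf fd fx c) (C.isRootCharacter_chiOf c) (γ (C.fieldAut σ y)) := by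
  classical
  have hev := C.c6.c2.heven
  let cval : ℕ → Fˣ := fun k =>
    if h : ∃ i, i < fd.l ∧ ρ i = k then Units.mk0 (f h.choose 1) (S₁.f_ne_zero _ h.choose_spec.1 1 one_ne_zero)
    else 1
  have hcval : ∀ i < fd.l, ((cval (ρ i) : Fˣ) : F) = f i 1 := by
    intro i hi
    have h : ∃ i', i' < fd.l ∧ ρ i' = ρ i := ⟨i, hi, rfl⟩
    have hi' : h.choose = i := S₁.rho_inj _ _ h.choose_spec.1 hi h.choose_spec.2
    show ((if h : ∃ i', i' < fd.l ∧ ρ i' = ρ i then
      Units.mk0 (f h.choose 1) (S₁.f_ne_zero _ h.choose_spec.1 1 one_ne_zero) else 1 : Fˣ) : F) = f i 1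
    rw [dif_pos h, Units.val_mk0, hi']
  have hχ := C.isRootCharacter_chiOf cval
  set d := C.diagAut hS (chiOf fd fx cval) hχ with hd
  have S₂ : SimpAct C (θ.trans d.symm) ρ
      (fun i => (AddMonoidHom.mulLeft ((cval (ρ i) : F))⁻¹).comp (f i))
      (fun i => (AddMonoidHom.mulLeft ((cval (ρ i) : F))).comp (g i)) := by
    refine ⟨S₁.rho_lt, fun i hi t => ?_, fun i hi t => ?_, fun i hi => ?_, fun i hi => ?_⟩
    · rw [MulEquiv.trans_apply, S₁.pos i hi, MulEquiv.symm_apply_eq, hd,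
        C.diagAut_xg hS _ hχ _ (C.c6.c2.simple_lt _ (S₁.rho_lt i hi)), C.chiOf_simple cval _ (S₁.rho_lt i hi)]
      congr 1
      simp only [AddMonoidHom.coe_comp, AddMonoidHom.coe_mulLeft, Function.comp_apply]
      rw [← mul_assoc, mul_inv_cancel₀ (Units.ne_zero _), one_mul]
    · rw [MulEquiv.trans_apply, S₁.neg i hi, MulEquiv.symm_apply_eq, hd,
        C.diagAut_xg hS _ hχ _ (by have := C.c6.c2.simple_lt _ (S₁.rho_lt i hi); omega),
        C.chiOf_negsimple cval _ (S₁.rho_lt i hi)]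
      congr 1
      simp only [AddMonoidHom.coe_comp, AddMonoidHom.coe_mulLeft, Function.comp_apply, Units.val_inv_eq_inv_val]
      rw [← mul_assoc, inv_mul_cancel₀ (Units.ne_zero _), one_mul]
    · intro a b hab
      simp only [AddMonoidHom.coe_comp, AddMonoidHom.coe_mulLeft, Function.comp_apply] at hab
      exact S₁.finj i hi (mul_left_cancel₀ (inv_ne_zero (Units.ne_zero _)) hab)
    · intro a b hab
      simp only [AddMonoidHom.coe_comp, AddMonoidHom.coe_mulLeft, Function.comp_apply] at hab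
      exact S₁.ginj i hi (mul_left_cancel₀ (Units.ne_zero _) hab)
  have h1₂ : ∀ i < fd.l, ((AddMonoidHom.mulLeft ((cval (ρ i) : F))⁻¹).comp (f i)) 1 = 1 := by
    intro i hi
    simp only [AddMonoidHom.coe_comp, AddMonoidHom.coe_mulLeft, Function.comp_apply]
    rw [hcval i hi, inv_mul_cancel₀ (S₁.f_ne_zero i hi 1 one_ne_zero)]
  set θ₂ := θ.trans d.symm with hθ₂
  have ht₃ : ∀ i < fd.l, C.Tracks (θ₂.trans γ.symm) (fd.simples.getD i 0) (fd.simples.getD i 0) ∧
      C.Tracks (θ₂.trans γ.symm) (fd.n - 1 - fd.simples.getD i 0) (fd.n - 1 - fd.simples.getD i 0) ∧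
      (θ₂.trans γ.symm) (C.xg (fd.simples.getD i 0) 1) = C.xg (fd.simples.getD i 0) 1 := by
    intro i hi
    obtain ⟨t1, t2, t3⟩ := hγt i hi
    have hp := C.c6.c2.simple_lt i hi
    have hp' := C.c6.c2.simple_lt _ (S₂.rho_lt i hi)
    refine ⟨fun t => ?_, fun t => ?_, ?_⟩
    · obtain ⟨s, hs⟩ := C.tracks_surj γ _ _ hp hp' t1 ((AddMonoidHom.mulLeft ((cval (ρ i) : F))⁻¹).comp (f i) t)
      exact ⟨s, by rw [MulEquiv.trans_apply, S₂.pos i hi, MulEquiv.symm_apply_eq, hs]⟩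
    · obtain ⟨s, hs⟩ := C.tracks_surj γ _ _ (by omega) (by omega) t2
        ((AddMonoidHom.mulLeft ((cval (ρ i) : F))).comp (g i) t)
      exact ⟨s, by rw [MulEquiv.trans_apply, S₂.neg i hi, MulEquiv.symm_apply_eq, hs]⟩
    · rw [MulEquiv.trans_apply, S₂.pos i hi, MulEquiv.symm_apply_eq, h1₂ i hi, t3]
  obtain ⟨f₃, g₃, S₃⟩ := C.simpAct_of_tracks (θ₂.trans γ.symm) id (fun i hi => hi)
    (fun i hi => (ht₃ i hi).1) (fun i hi => (ht₃ i hi).2.1)
  have h1₃ : ∀ i < fd.l, f₃ i 1 = 1 := by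
    intro i hi
    have := (ht₃ i hi).2.2
    rw [S₃.pos i hi] at this
    exact C.xg_injective _ (C.c6.c2.simple_lt i hi) _ _ this
  obtain ⟨σ, hσ⟩ := S₃.eq_fieldAut es hconn (fun i _ => rfl) h1₃
  refine ⟨cval, σ, fun y => ?_⟩
  have h := hσ y
  rw [MulEquiv.trans_apply, MulEquiv.symm_apply_eq, hθ₂, MulEquiv.trans_apply, MulEquiv.symm_apply_eq] at h
  exact h

end SimpAct

end Cfsg.Agent.Lib.H29.Chev
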