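import Mathlib
import Cfsg.Prelude.Def_ChevAutomorphisms
import Cfsg.Agent.Lib.H29.ChevOut3
import Cfsg.Agent.Lib.H29.ChevAut13

/-! Outer automorphism groups of Chevalley groups, part 4: the number of automorphisms preserving
`U` and `V`. -/

set_option autoImplicit false
set_option linter.unusedSimpArgs false
set_option linter.unusedVariables false

namespace Cfsg.Agent.Lib.H29.Chev

open Cfsg.Lie Matrix

variable {D : ChevalleyDatum} {fd : FD} {fx : FX} {fc : FC} {fz : FZ} {F : Type*} [Field F]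

/-- extension by `1` of a family of units on the nodes -/
def extC {l : ℕ} (c : Fin l → Fˣ) : ℕ → Fˣ := fun j => if h : j < l then c ⟨j, h⟩ else 1

theorem extC_lt {l : ℕ} (c : Fin l → Fˣ) (j : ℕ) (h : j < l) : extC c j = c ⟨j, h⟩ := dif_pos h

theorem list_eq_of_getD {L L' : List ℕ} {l : ℕ} (h1 : L.length = l) (h2 : L'.length = l)
    (h : ∀ i < l, L.getD i 0 = L'.getD i 0) : L = L' := by
  apply List.ext_getElem (h1.trans h2.symm)
  intro i hi hi'
  have := h i (h1 ▸ hi)
  rwa [List.getD_eq_getElem _ _ hi, List.getD_eq_getElem _ _ hi'] at this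

theorem exists_of_inj_lt {l : ℕ} (ρ : ℕ → ℕ) (hlt : ∀ i < l, ρ i < l)
    (hinj : ∀ i < l, ∀ j < l, ρ i = ρ j → i = j) (m : ℕ) (hm : m < l) : ∃ i < l, ρ i = m := by
  obtain ⟨i, hi⟩ := (permOf ρ hlt hinj).surjective ⟨m, hm⟩
  refine ⟨i.val, i.isLt, ?_⟩
  have := congrArg Fin.val hi
  rwa [permOf_val] at this

namespace Cert12

variable (C : Cert12 D fd fx fc fz)
include C

theorem stdAut_diagAut [Finite F] (hS : DiagConj D F) (χ : ℕ → Fˣ) (hχ : D.IsRootCharacter χ) :
    StdAut (C.diagAut hS χ hχ) := by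
  apply C.stdAut_of_tracks
  intro r hr
  exact ⟨r, hr, Iff.rfl, fun t => ⟨_, C.diagAut_xg hS χ hχ r hr t⟩⟩

theorem stdAut_fieldAut [Finite F] (σ : F ≃+* F) : StdAut (C.fieldAut σ) := by
  apply C.stdAut_of_tracks
  intro r hr
  exact ⟨r, hr, Iff.rfl, fun t => ⟨_, C.fieldAut_xg σ r t⟩⟩

theorem diagAut_congr (hS : DiagConj D F) (χ χ' : ℕ → Fˣ) (hχ : D.IsRootCharacter χ)
    (hχ' : D.IsRootCharacter χ') (h : χ = χ') : C.diagAut hS χ hχ = C.diagAut hS χ' hχ' := by
  subst h
  rfl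

/-- the number of automorphisms preserving `U` and `V` -/
theorem card_stdSub [Finite F] (hO : fd.chkOpp fx = true) (hS : DiagConj D F) (es : List (ℕ × ℕ))
    (hconn : chkConn fd es = true) (Ls : List (List ℕ)) (hnd : Ls.Nodup) (hlen : ∀ L ∈ Ls, L.length = fd.l)
    (hex : ∀ L ∈ Ls, ∃ γ : ↥(D.group F) ≃* ↥(D.group F), StdAut γ ∧ ∀ i < fd.l, L.getD i 0 < fd.l ∧
      C.Tracks γ (fd.simples.getD i 0) (fd.simples.getD (L.getD i 0) 0) ∧
      C.Tracks γ (fd.n - 1 - fd.simples.getD i 0) (fd.n - 1 - fd.simples.getD (L.getD i 0) 0) ∧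
      γ (C.xg (fd.simples.getD i 0) 1) = C.xg (fd.simples.getD (L.getD i 0) 0) 1)
    (hall : ∀ (θ' : ↥(D.group F) ≃* ↥(D.group F)) (ρ : ℕ → ℕ) (f g : ℕ → F →+ F),
      SimpAct C θ' ρ f g → (List.range fd.l).map ρ ∈ Ls) :
    Nat.card (stdSub D F) = (Nat.card F - 1) ^ fd.l * Ls.length * Nat.card (F ≃+* F) := by
  classical
  have hev := C.c6.c2.heven
  -- the rank is positive
  have hl : 0 < fd.l := by
    have hc := hconn
    simp only [chkConn, Bool.and_eq_true, List.all_eq_true, natBlt_iff, intBeq_iff, List.mem_range,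
      decide_eq_true_eq, Bool.not_eq_true', List.isEmpty_eq_false_iff] at hc
    obtain ⟨⟨hes, _⟩, hne⟩ := hc
    obtain ⟨e₀, he₀⟩ := List.exists_mem_of_ne_nil es hne
    have := (hes e₀ he₀).1.1
    omega
  -- the chosen automorphisms
  have hex' : ∀ j : Fin Ls.length, ∃ γ : ↥(D.group F) ≃* ↥(D.group F), StdAut γ ∧ ∀ i < fd.l, (Ls.get j).getD i 0 < fd.l ∧
      C.Tracks γ (fd.simples.getD i 0) (fd.simples.getD ((Ls.get j).getD i 0) 0) ∧
      C.Tracks γ (fd.n - 1 - fd.simples.getD i 0) (fd.n - 1 - fd.simples.getD ((Ls.get j).getD i 0) 0) ∧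
      γ (C.xg (fd.simples.getD i 0) 1) = C.xg (fd.simples.getD ((Ls.get j).getD i 0) 0) 1 :=
    fun j => hex _ (List.get_mem Ls j)
  choose γ stdγ hγ using hex'
  have hSA : ∀ j : Fin Ls.length, ∃ f g : ℕ → F →+ F, SimpAct C (γ j) (fun i => (Ls.get j).getD i 0) f g :=
    fun j => C.simpAct_of_tracks (γ j) _ (fun i hi => (hγ j i hi).1) (fun i hi => (hγ j i hi).2.1)
      (fun i hi => (hγ j i hi).2.2.1)
  choose fγ gγ Sγ using hSA
  have h1γ : ∀ j i, i < fd.l → fγ j i 1 = 1 := by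
    intro j i hi
    have := (hγ j i hi).2.2.2
    rw [(Sγ j).pos i hi] at this
    exact C.xg_injective _ (C.c6.c2.simple_lt _ (hγ j i hi).1) _ _ this
  -- the parametrisation
  let Ψ : (Fin fd.l → Fˣ) × Fin Ls.length × (F ≃+* F) → stdSub D F := fun x =>
    ⟨(C.diagAut hS (chiOf fd fx (extC x.1)) (C.isRootCharacter_chiOf _) : MulAut ↥(D.group F)) *
      (γ x.2.1 : MulAut ↥(D.group F)) * (C.fieldAut x.2.2 : MulAut ↥(D.group F)),
      Subgroup.mul_mem _ (Subgroup.mul_mem _ (C.stdAut_diagAut hS _ _) (stdγ _)) (C.stdAut_fieldAut _)⟩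
  have heval : ∀ (x : (Fin fd.l → Fˣ) × Fin Ls.length × (F ≃+* F)) (i : ℕ) (hi : i < fd.l) (t : F),
      ((Ψ x : stdSub D F) : MulAut ↥(D.group F)) (C.xg (fd.simples.getD i 0) t) =
        C.xg (fd.simples.getD ((Ls.get x.2.1).getD i 0) 0)
          ((extC x.1 ((Ls.get x.2.1).getD i 0) : F) * fγ x.2.1 i (x.2.2 t)) := by
    intro x i hi t
    show C.diagAut hS (chiOf fd fx (extC x.1)) (C.isRootCharacter_chiOf _)
      (γ x.2.1 (C.fieldAut x.2.2 (C.xg (fd.simples.getD i 0) t))) = _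
    rw [C.fieldAut_xg, (Sγ x.2.1).pos i hi,
      C.diagAut_xg hS _ _ _ (C.c6.c2.simple_lt _ (hγ x.2.1 i hi).1), C.chiOf_simple _ _ (hγ x.2.1 i hi).1]
  have hbij : Function.Bijective Ψ := by
    constructor
    · rintro ⟨c, j, σ⟩ ⟨c', j', σ'⟩ hxx
      have hxx' : ∀ y, ((Ψ (c, j, σ) : stdSub D F) : MulAut ↥(D.group F)) y =
          ((Ψ (c', j', σ') : stdSub D F) : MulAut ↥(D.group F)) y := fun y => by rw [hxx]
      have hjj : j = j' := by
        apply (List.nodup_iff_injective_get.mp hnd)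
        apply list_eq_of_getD (hlen _ (List.get_mem Ls j)) (hlen _ (List.get_mem Ls j'))
        intro i hi
        have h := hxx' (C.xg (fd.simples.getD i 0) 1)
        rw [heval _ i hi, heval _ i hi] at h
        simp only [map_one, h1γ _ i hi, mul_one] at h
        have h2 := C.xA_inj _ _ (C.c6.c2.simple_lt _ (hγ j i hi).1) (C.c6.c2.simple_lt _ (hγ j' i hi).1) _ _
          (Units.ne_zero _) (congrArg Subtype.val h)
        exact C.simple_inj _ _ (hγ j i hi).1 (hγ j' i hi).1 h2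
      subst hjj
      have hcc : c = c' := by
        funext m
        obtain ⟨i, hi, him⟩ := exists_of_inj_lt (fun i => (Ls.get j).getD i 0) (fun i hi => (hγ j i hi).1)
          (fun a ha b hb hab => (Sγ j).rho_inj a b ha hb hab) m.val m.isLt
        have h := hxx' (C.xg (fd.simples.getD i 0) 1)
        rw [heval _ i hi, heval _ i hi] at h
        simp only [map_one, h1γ _ i hi, mul_one] at h
        have h3 := C.xg_injective _ (C.c6.c2.simple_lt _ (hγ j i hi).1) _ _ h
        simp only [him] at h3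
        rw [extC_lt c _ m.isLt, extC_lt c' _ m.isLt] at h3
        exact Units.ext h3
      subst hcc
      have hσσ : σ = σ' := by
        apply RingEquiv.ext
        intro t
        have h := hxx' (C.xg (fd.simples.getD 0 0) t)
        rw [heval _ 0 hl, heval _ 0 hl] at h
        have h3 := C.xg_injective _ (C.c6.c2.simple_lt _ (hγ j 0 hl).1) _ _ h
        exact (Sγ j).finj 0 hl (mul_left_cancel₀ (Units.ne_zero _) h3)
      subst hσσ
      rfl
    · rintro ⟨θ, hθ⟩
      obtain ⟨ρ, f, g, S₁⟩ := C.exists_simpAct hO θ hθ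
      have hmem := hall θ ρ f g S₁
      obtain ⟨j, hj⟩ := List.mem_iff_get.mp hmem
      have hρ : ∀ i < fd.l, (Ls.get j).getD i 0 = ρ i := by
        intro i hi
        rw [hj, List.getD_eq_getElem _ _ (by simpa using hi)]
        simp
      have S₁' : SimpAct C θ (fun i => (Ls.get j).getD i 0) f g := by
        refine ⟨fun i hi => (hγ j i hi).1, fun i hi t => ?_, fun i hi t => ?_, S₁.finj, S₁.ginj⟩
        · show θ _ = C.xg (fd.simples.getD ((Ls.get j).getD i 0) 0) (f i t)
          rw [hρ i hi]; exact S₁.pos i hi t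
        · show θ _ = C.xg (fd.n - 1 - fd.simples.getD ((Ls.get j).getD i 0) 0) (g i t)
          rw [hρ i hi]; exact S₁.neg i hi t
      obtain ⟨c, σ, hcσ⟩ := S₁'.std_decomp hS es hconn (γ j) (fun i hi => (hγ j i hi).2)
      refine ⟨(fun m : Fin fd.l => c m.val, j, σ), ?_⟩
      apply Subtype.ext
      apply MulEquiv.ext
      intro y
      rw [hcσ y]
      show C.diagAut hS (chiOf fd fx (extC fun m : Fin fd.l => c m.val)) (C.isRootCharacter_chiOf _)
        (γ j (C.fieldAut σ y)) = _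
      rw [C.diagAut_congr hS _ (chiOf fd fx c) _ (C.isRootCharacter_chiOf c)
        (funext (chiOf_congr fd fx _ _ (fun j hj => extC_lt _ j hj)))]
  rw [← Nat.card_congr (Equiv.ofBijective Ψ hbij), Nat.card_prod, Nat.card_prod, Nat.card_fun, Nat.card_fin,
    Nat.card_fin, Nat.card_units, mul_assoc]

end Cert12

end Cfsg.Agent.Lib.H29.Chev
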