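import Mathlib
import Cfsg.Prelude.Def_ChevAutomorphisms
import Cfsg.Agent.Lib.H29.ChevOut4
import Cfsg.Agent.Lib.H2.SzAutCard

/-! Outer automorphism groups of Chevalley groups, part 5: the order of `Out`. -/

set_option autoImplicit false
set_option linter.unusedSimpArgs false
set_option linter.unusedVariables false

namespace Cfsg.Agent.Lib.H29.Chev

open Cfsg.Lie Matrix

variable {D : ChevalleyDatum} {fd : FD} {fx : FX} {fc : FC} {fz : FZ} {F : Type*} [Field F]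

namespace Cert12

variable (C : Cert12 D fd fx fc fz)
include C

/-- the identity realises the trivial permutation -/
theorem hex_id (L : List ℕ) (hL : ∀ i < fd.l, L.getD i 0 = i) :
    ∃ γ : ↥(D.group F) ≃* ↥(D.group F), StdAut γ ∧ ∀ i < fd.l, L.getD i 0 < fd.l ∧
      C.Tracks γ (fd.simples.getD i 0) (fd.simples.getD (L.getD i 0) 0) ∧
      C.Tracks γ (fd.n - 1 - fd.simples.getD i 0) (fd.n - 1 - fd.simples.getD (L.getD i 0) 0) ∧
      γ (C.xg (fd.simples.getD i 0) 1) = C.xg (fd.simples.getD (L.getD i 0) 0) 1 := by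
  refine ⟨MulEquiv.refl _, ⟨fun g => Iff.rfl, fun g => Iff.rfl⟩, fun i hi => ?_⟩
  rw [hL i hi]
  exact ⟨hi, fun t => ⟨t, rfl⟩, fun t => ⟨t, rfl⟩, rfl⟩

/-- an automorphism acting on the fundamental root subgroups through a permutation passing the closure check -/
theorem hex_of_chk [Finite F] (L : List ℕ) (k : ℕ) (hchk : chkStd fd fx L k = true)
    (γ : ↥(D.group F) ≃* ↥(D.group F)) (h : ∀ i < fd.l, L.getD i 0 < fd.l ∧
      C.Tracks γ (fd.simples.getD i 0) (fd.simples.getD (L.getD i 0) 0) ∧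
      C.Tracks γ (fd.n - 1 - fd.simples.getD i 0) (fd.n - 1 - fd.simples.getD (L.getD i 0) 0) ∧
      γ (C.xg (fd.simples.getD i 0) 1) = C.xg (fd.simples.getD (L.getD i 0) 0) 1) :
    ∃ γ : ↥(D.group F) ≃* ↥(D.group F), StdAut γ ∧ ∀ i < fd.l, L.getD i 0 < fd.l ∧
      C.Tracks γ (fd.simples.getD i 0) (fd.simples.getD (L.getD i 0) 0) ∧
      C.Tracks γ (fd.n - 1 - fd.simples.getD i 0) (fd.n - 1 - fd.simples.getD (L.getD i 0) 0) ∧
      γ (C.xg (fd.simples.getD i 0) 1) = C.xg (fd.simples.getD (L.getD i 0) 0) 1 := by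
  obtain ⟨f, g, S⟩ := C.simpAct_of_tracks γ (fun i => L.getD i 0) (fun i hi => (h i hi).1)
    (fun i hi => (h i hi).2.1) (fun i hi => (h i hi).2.2.1)
  exact ⟨γ, S.stdAut_of_chk L (fun i hi => rfl) k hchk, h⟩

/-- the order of the outer automorphism group -/
theorem card_out [Fintype F] (p f : ℕ) [hp : Fact p.Prime] [CharP F p] (hF : Fintype.card F = p ^ f)
    (hO : fd.chkOpp fx = true) (hS : DiagConj D F) (es : List (ℕ × ℕ))
    (hconn : chkConn fd es = true) (Ls : List (List ℕ)) (hnd : Ls.Nodup) (hlen : ∀ L ∈ Ls, L.length = fd.l)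
    (hex : ∀ L ∈ Ls, ∃ γ : ↥(D.group F) ≃* ↥(D.group F), StdAut γ ∧ ∀ i < fd.l, L.getD i 0 < fd.l ∧
      C.Tracks γ (fd.simples.getD i 0) (fd.simples.getD (L.getD i 0) 0) ∧
      C.Tracks γ (fd.n - 1 - fd.simples.getD i 0) (fd.n - 1 - fd.simples.getD (L.getD i 0) 0) ∧
      γ (C.xg (fd.simples.getD i 0) 1) = C.xg (fd.simples.getD (L.getD i 0) 0) 1)
    (hall : ∀ (θ' : ↥(D.group F) ≃* ↥(D.group F)) (ρ : ℕ → ℕ) (f g : ℕ → F →+ F),
      SimpAct C θ' ρ f g → (List.range fd.l).map ρ ∈ Ls) :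
    Nat.card (Cfsg.Out ↥(D.group F)) * Nat.card (D.diagonalSubgroup F) =
      (p ^ f - 1) ^ fd.l * Ls.length * f := by
  rw [C.card_out_std p, C.card_stdSub hO hS es hconn Ls hnd hlen hex hall,
    Cfsg.Agent.Lib.H2.SzAut.card_ringAut hF, Nat.card_eq_fintype_card, hF]

end Cert12

end Cfsg.Agent.Lib.H29.Chev
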