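import Mathlib
import Cfsg.Prelude.Def_KGroupFacts
import Cfsg.Prelude.Def_ChevAutomorphisms
import Cfsg.Agent.Lib.H29.ChevOut5

/-! Outer automorphism groups of Chevalley groups, part 7: calculus of tracking; the automorphisms
fixing every fundamental root subgroup. -/

set_option autoImplicit false
set_option linter.unusedSimpArgs false
set_option linter.unusedVariables false

namespace Cfsg.Agent.Lib.H29.Chev

open Cfsg.Lie Matrix

variable {D : ChevalleyDatum} {fd : FD} {fx : FX} {fc : FC} {fz : FZ} {F : Type*} [Field F]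

namespace Cert12

variable (C : Cert12 D fd fx fc fz)
include C

theorem tracks_mul (a b : MulAut ↥(D.group F)) (r r' r'' : ℕ) (ha : C.Tracks a r r') (hb : C.Tracks b r' r'') :
    C.Tracks (b * a) r r'' := by
  intro t
  obtain ⟨t', ht'⟩ := ha t
  obtain ⟨t'', ht''⟩ := hb t'
  exact ⟨t'', by rw [MulAut.mul_apply, ht', ht'']⟩

theorem tracks_inv [Finite F] (a : MulAut ↥(D.group F)) (r r' : ℕ) (hr : r < fd.n) (hr' : r' < fd.n)
    (ha : C.Tracks a r r') : C.Tracks a⁻¹ r' r := by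
  intro t
  obtain ⟨s, hs⟩ := C.tracks_surj a r r' hr hr' ha t
  exact ⟨s, by rw [← hs, MulAut.inv_apply_self]⟩

/-- an automorphism maps a root subgroup into at most one root subgroup -/
theorem tracks_unique (a : MulAut ↥(D.group F)) (r r' r'' : ℕ) (hr : r < fd.n) (hr' : r' < fd.n)
    (hr'' : r'' < fd.n) (h1 : C.Tracks a r r') (h2 : C.Tracks a r r'') : r' = r'' := by
  obtain ⟨t', ht'⟩ := h1 1
  obtain ⟨t'', ht''⟩ := h2 1
  have hne : t' ≠ 0 := by
    intro h0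
    rw [h0, C.xg_zero] at ht'
    have h3 : C.xg r (1 : F) = 1 := by
      have := a.injective (ht'.trans (map_one a).symm)
      exact this
    have := C.xg_injective r hr (1 : F) 0 (h3.trans (C.xg_zero r).symm)
    exact one_ne_zero this
  exact C.xA_inj r' r'' hr' hr'' t' t'' hne (congrArg Subtype.val (ht'.symm.trans ht''))

end Cert12

/-- `θ` maps the fundamental root subgroups and their negatives as the map `ρ` of the nodes says -/
def TracksF (C : Cert12 D fd fx fc fz) (θ : MulAut ↥(D.group F)) (ρ : ℕ → ℕ) : Prop :=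
  ∀ i < fd.l, ρ i < fd.l ∧ C.Tracks θ (fd.simples.getD i 0) (fd.simples.getD (ρ i) 0) ∧
    C.Tracks θ (fd.n - 1 - fd.simples.getD i 0) (fd.n - 1 - fd.simples.getD (ρ i) 0)

namespace Cert12

variable (C : Cert12 D fd fx fc fz)
include C

theorem tracksF_mul (a b : MulAut ↥(D.group F)) (ρ ρ' : ℕ → ℕ) (ha : TracksF C a ρ) (hb : TracksF C b ρ') :
    TracksF C (b * a) (fun i => ρ' (ρ i)) := by
  intro i hi
  obtain ⟨h1, h2, h3⟩ := ha i hi
  obtain ⟨h1', h2', h3'⟩ := hb (ρ i) h1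
  exact ⟨h1', C.tracks_mul a b _ _ _ h2 h2', C.tracks_mul a b _ _ _ h3 h3'⟩

theorem tracksF_one : TracksF C (1 : MulAut ↥(D.group F)) (fun i => i) :=
  fun i hi => ⟨hi, fun t => ⟨t, rfl⟩, fun t => ⟨t, rfl⟩⟩

/-- the map of the nodes is unique on the nodes -/
theorem tracksF_unique (a : MulAut ↥(D.group F)) (ρ ρ' : ℕ → ℕ) (h : TracksF C a ρ) (h' : TracksF C a ρ')
    (i : ℕ) (hi : i < fd.l) : ρ i = ρ' i := by
  obtain ⟨h1, h2, _⟩ := h i hi
  obtain ⟨h1', h2', _⟩ := h' i hi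
  exact C.simple_inj _ _ h1 h1' (C.tracks_unique a _ _ _ (C.c6.c2.simple_lt i hi) (C.c6.c2.simple_lt _ h1)
    (C.c6.c2.simple_lt _ h1') h2 h2')

theorem tracksF_inj [Finite F] (a : MulAut ↥(D.group F)) (ρ : ℕ → ℕ) (h : TracksF C a ρ) (i j : ℕ)
    (hi : i < fd.l) (hj : j < fd.l) (hij : ρ i = ρ j) : i = j := by
  obtain ⟨f, g, S⟩ := C.simpAct_of_tracks a ρ (fun i hi => (h i hi).1) (fun i hi => (h i hi).2.1)
    (fun i hi => (h i hi).2.2)
  exact S.rho_inj i j hi hj hij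

/-- the inverse automorphism follows the inverse map of the nodes -/
theorem tracksF_inv [Finite F] (a : MulAut ↥(D.group F)) (ρ ρ' : ℕ → ℕ) (h : TracksF C a ρ)
    (hρ : ∀ i < fd.l, ρ' (ρ i) = i) : TracksF C a⁻¹ ρ' := by
  have hev := C.c6.c2.heven
  intro j hj
  obtain ⟨i, hi, hij⟩ := exists_of_inj_lt ρ (fun i hi => (h i hi).1)
    (fun i hi j hj hij => C.tracksF_inj a ρ h i j hi hj hij) j hj
  obtain ⟨h1, h2, h3⟩ := h i hi
  have hp := C.c6.c2.simple_lt i hi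
  have hp' := C.c6.c2.simple_lt _ h1
  rw [← hij, hρ i hi]
  exact ⟨hi, C.tracks_inv a _ _ hp hp' h2, C.tracks_inv a _ _ (by omega) (by omega) h3⟩

theorem tracksF_congr (a : MulAut ↥(D.group F)) (ρ ρ' : ℕ → ℕ) (h : TracksF C a ρ)
    (hρ : ∀ i < fd.l, ρ i = ρ' i) : TracksF C a ρ' := by
  intro i hi
  rw [← hρ i hi]
  exact h i hi

/-- every standard automorphism follows a map of the nodes -/
theorem exists_tracksF [Finite F] (hO : fd.chkOpp fx = true) (θ : MulAut ↥(D.group F)) (hθ : StdAut θ) :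
    ∃ ρ, TracksF C θ ρ := by
  obtain ⟨ρ, f, g, S⟩ := C.exists_simpAct hO θ hθ
  exact ⟨ρ, fun i hi => ⟨S.rho_lt i hi, S.tracks_pos i hi, S.tracks_neg i hi⟩⟩

end Cert12

/-- the standard automorphisms fixing every fundamental root subgroup and its negative -/
def std0Sub (C : Cert12 D fd fx fc fz) (F : Type*) [Field F] [Finite F] : Subgroup (MulAut ↥(D.group F)) where
  carrier := {θ | StdAut θ ∧ TracksF C θ (fun i => i)}
  mul_mem' := by
    intro a b ha hb
    exact ⟨(stdSub D F).mul_mem ha.1 hb.1, C.tracksF_mul b a _ _ hb.2 ha.2⟩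
  one_mem' := ⟨(stdSub D F).one_mem, C.tracksF_one⟩
  inv_mem' := by
    intro a ha
    exact ⟨(stdSub D F).inv_mem ha.1, C.tracksF_inv a _ _ ha.2 (fun i _ => rfl)⟩

namespace Cert12

variable (C : Cert12 D fd fx fc fz)
include C

theorem std0Sub_le [Finite F] : std0Sub C F ≤ stdSub D F := fun θ hθ => hθ.1

/-- `S₀` is normal in `S` -/
theorem std0Sub_conj [Finite F] (hO : fd.chkOpp fx = true) (θ θ₀ : MulAut ↥(D.group F)) (hθ : θ ∈ stdSub D F)
    (hθ₀ : θ₀ ∈ std0Sub C F) : θ * θ₀ * θ⁻¹ ∈ std0Sub C F := by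
  refine ⟨(stdSub D F).mul_mem ((stdSub D F).mul_mem hθ hθ₀.1) ((stdSub D F).inv_mem hθ), ?_⟩
  obtain ⟨ρ, hρ⟩ := C.exists_tracksF hO θ hθ
  classical
  -- an inverse of `ρ` on the nodes
  have hinv : ∀ j, ∃ i, j < fd.l → i < fd.l ∧ ρ i = j := by
    intro j
    by_cases hj : j < fd.l
    · obtain ⟨i, hi, hij⟩ := exists_of_inj_lt ρ (fun i hi => (hρ i hi).1)
        (fun i hi j hj hij => C.tracksF_inj θ ρ hρ i j hi hj hij) j hj
      exact ⟨i, fun _ => ⟨hi, hij⟩⟩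
    · exact ⟨0, fun h => absurd h hj⟩
  choose ρ' hρ' using hinv
  have hρρ : ∀ i < fd.l, ρ' (ρ i) = i := by
    intro i hi
    obtain ⟨h1, h2⟩ := hρ' (ρ i) (hρ i hi).1
    exact C.tracksF_inj θ ρ hρ _ _ h1 hi h2
  have h1 := C.tracksF_inv θ ρ ρ' hρ hρρ
  have h2 := C.tracksF_mul _ _ _ _ h1 hθ₀.2
  have h3 := C.tracksF_mul _ _ _ _ h2 hρ
  rw [← mul_assoc] at h3
  apply C.tracksF_congr _ _ _ h3
  intro j hj
  exact (hρ' j hj).2

/-- conjugation by an element of `H` fixes every root subgroup -/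
theorem conj_H1_mem_std0Sub [Finite F] (h : ↥(D.group F)) (hh : h ∈ H1 D F) : MulAut.conj h ∈ std0Sub C F := by
  have hev := C.c6.c2.heven
  refine ⟨(C.conj_mem_stdSub_iff h).mpr hh, fun i hi => ?_⟩
  have hp := C.c6.c2.simple_lt i hi
  have hh' : (h : GL D.Idx F) ∈ D.diagonalSubgroup F := Subgroup.mem_subgroupOf.mp hh
  refine ⟨hi, fun t => ?_, fun t => ?_⟩
  · obtain ⟨c, hc⟩ := C.diag_conj_xA' (h : GL D.Idx F) hh' _ hp
    exact ⟨c * t, by rw [MulAut.conj_apply]; exact Subtype.ext (hc t)⟩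
  · obtain ⟨c, hc⟩ := C.diag_conj_xA' (h : GL D.Idx F) hh' (fd.n - 1 - fd.simples.getD i 0) (by omega)
    exact ⟨c * t, by rw [MulAut.conj_apply]; exact Subtype.ext (hc t)⟩

end Cert12

end Cfsg.Agent.Lib.H29.Chev
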