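import Mathlib
import Cfsg.Prelude.Def_KGroupFacts
import Cfsg.Prelude.Def_ChevAutomorphisms
import Cfsg.Agent.Lib.H29.ChevOut7

/-! Outer automorphism groups of Chevalley groups, part 8: diagonal and field automorphisms among
the standard automorphisms; conjugates of diagonal automorphisms. -/

set_option autoImplicit false
set_option linter.unusedSimpArgs false
set_option linter.unusedVariables false

namespace Cfsg.Agent.Lib.H29.Chev

open Cfsg.Lie Matrix

variable {D : ChevalleyDatum} {fd : FD} {fx : FX} {fc : FC} {fz : FZ} {F : Type*} [Field F]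

/-- `θ` follows `ρ` on the nodes and is semilinear on the positive fundamental root subgroups -/
def QLin (C : Cert12 D fd fx fc fz) (θ : MulAut ↥(D.group F)) (ρ : ℕ → ℕ) : Prop :=
  TracksF C θ ρ ∧ ∀ i < fd.l, ∀ a : Fˣ, ∃ a' : Fˣ, ∀ t s : F,
    θ (C.xg (fd.simples.getD i 0) t) = C.xg (fd.simples.getD (ρ i) 0) s →
      θ (C.xg (fd.simples.getD i 0) ((a : F) * t)) = C.xg (fd.simples.getD (ρ i) 0) ((a' : F) * s)

namespace Cert12

variable (C : Cert12 D fd fx fc fz)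
include C

theorem isDiagonalAut_iff (hS : DiagConj D F) (φ : MulAut ↥(D.group F)) :
    D.IsDiagonalAut φ ↔ ∃ (χ : ℕ → Fˣ) (hχ : D.IsRootCharacter χ), φ = C.diagAut hS χ hχ := by
  constructor
  · rintro ⟨χ, hχ, h⟩
    refine ⟨χ, hχ, ?_⟩
    apply MulEquiv.ext
    intro g
    apply Subtype.ext
    apply gl_ext
    rw [h g, C.diagAut_val]
    rfl
  · rintro ⟨χ, hχ, rfl⟩
    exact C.isDiagonalAut_diagAut hS χ hχ

theorem isFieldAut_iff (φ : MulAut ↥(D.group F)) :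
    D.IsFieldAut φ ↔ ∃ σ : F ≃+* F, φ = C.fieldAut σ := by
  have hev := C.c6.c2.heven
  have hn := C.c6.c2.nroots_eq
  constructor
  · rintro ⟨σ, h⟩
    refine ⟨σ, ?_⟩
    apply MulEquiv.ext
    have key : ∀ r < fd.n, ∀ t : F, φ (C.xg r t) = C.fieldAut σ (C.xg r t) := by
      intro r hr t
      rw [C.fieldAut_xg]
      apply Subtype.ext
      apply gl_ext
      rw [h (C.xg r t) r t (by omega) (by rw [C.xg_val, C.c6.c2.xA_val]), C.xg_val, C.c6.c2.xA_val]
    apply C.aut_ext φ (C.fieldAut σ)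
    · intro i hi t
      exact key _ (C.c6.c2.simple_lt i hi) t
    · intro i hi t
      have := C.c6.c2.simple_lt i hi
      exact key _ (by omega) t
  · rintro ⟨σ, rfl⟩
    exact C.isFieldAut_fieldAut σ

theorem qlin_diagAut (hS : DiagConj D F) (χ : ℕ → Fˣ) (hχ : D.IsRootCharacter χ) :
    QLin C (C.diagAut hS χ hχ : MulAut ↥(D.group F)) (fun i => i) := by
  have hev := C.c6.c2.heven
  refine ⟨fun i hi => ⟨hi, fun t => ⟨_, C.diagAut_xg hS χ hχ _ (C.c6.c2.simple_lt i hi) t⟩,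
    fun t => ⟨_, C.diagAut_xg hS χ hχ _ (by have := C.c6.c2.simple_lt i hi; omega) t⟩⟩, ?_⟩
  intro i hi a
  refine ⟨a, fun t s h => ?_⟩
  have hp := C.c6.c2.simple_lt i hi
  rw [C.diagAut_xg hS χ hχ _ hp] at h ⊢
  have := C.xg_injective _ hp _ _ h
  rw [← this]
  congr 1
  ring

theorem qlin_fieldAut (σ : F ≃+* F) : QLin C (C.fieldAut σ : MulAut ↥(D.group F)) (fun i => i) := by
  refine ⟨fun i hi => ⟨hi, fun t => ⟨_, C.fieldAut_xg σ _ t⟩, fun t => ⟨_, C.fieldAut_xg σ _ t⟩⟩, ?_⟩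
  intro i hi a
  refine ⟨Units.map (σ : F →* F) a, fun t s h => ?_⟩
  have hp := C.c6.c2.simple_lt i hi
  rw [C.fieldAut_xg] at h ⊢
  have := C.xg_injective _ hp _ _ h
  rw [← this, map_mul]
  rfl

theorem qlin_mul (a b : MulAut ↥(D.group F)) (ρ ρ' : ℕ → ℕ) (ha : QLin C a ρ) (hb : QLin C b ρ') :
    QLin C (b * a) (fun i => ρ' (ρ i)) := by
  refine ⟨C.tracksF_mul a b ρ ρ' ha.1 hb.1, ?_⟩
  intro i hi c
  obtain ⟨c', hc'⟩ := ha.2 i hi c
  obtain ⟨c'', hc''⟩ := hb.2 (ρ i) (ha.1 i hi).1 c'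
  refine ⟨c'', fun t s h => ?_⟩
  obtain ⟨u, hu⟩ := (ha.1 i hi).2.1 t
  rw [MulAut.mul_apply, hu] at h
  rw [MulAut.mul_apply, hc' t u hu, hc'' u s h]

/-- an automorphism fixing the fundamental root subgroups and linear on the positive ones is diagonal -/
theorem isDiagonalAut_of_lin [Finite F] (hS : DiagConj D F) (θ : MulAut ↥(D.group F))
    (ht : TracksF C θ (fun i => i))
    (hlin : ∀ i < fd.l, ∃ c : Fˣ, ∀ t : F, θ (C.xg (fd.simples.getD i 0) t) = C.xg (fd.simples.getD i 0) ((c : F) * t)) :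
    D.IsDiagonalAut θ := by
  have hev := C.c6.c2.heven
  obtain ⟨f, g, S⟩ := C.simpAct_of_tracks θ (fun i => i) (fun i hi => hi) (fun i hi => (ht i hi).2.1)
    (fun i hi => (ht i hi).2.2)
  have hc : ∀ i, ∃ c : Fˣ, i < fd.l →
      ∀ t : F, θ (C.xg (fd.simples.getD i 0) t) = C.xg (fd.simples.getD i 0) ((c : F) * t) := by
    intro i
    by_cases hi : i < fd.l
    · obtain ⟨c, hc⟩ := hlin i hi
      exact ⟨c, fun _ => hc⟩
    · exact ⟨1, fun h => absurd h hi⟩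
  choose c hc using hc
  have hf : ∀ i < fd.l, ∀ t, f i t = (c i : F) * t := by
    intro i hi t
    have := (S.pos i hi t).symm.trans (hc i hi t)
    exact C.xg_injective _ (C.c6.c2.simple_lt i hi) _ _ this
  rw [C.isDiagonalAut_iff hS]
  refine ⟨chiOf fd fx c, C.isRootCharacter_chiOf c, ?_⟩
  apply MulEquiv.ext
  apply C.aut_ext θ (C.diagAut hS _ (C.isRootCharacter_chiOf c))
  · intro i hi t
    rw [hc i hi, C.diagAut_xg hS _ _ _ (C.c6.c2.simple_lt i hi), C.chiOf_simple c i hi]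
  · intro i hi t
    have hp := C.c6.c2.simple_lt i hi
    rw [S.neg i hi, C.diagAut_xg hS _ _ _ (by omega), C.chiOf_negsimple c i hi]
    congr 1
    by_cases ht0 : t = 0
    · rw [ht0, map_zero, mul_zero]
    · rw [S.g_eq i hi t ht0, hf i hi, Units.val_inv_eq_inv_val, _root_.mul_inv, inv_inv]

/-- a semilinear standard automorphism conjugates diagonal automorphisms to diagonal automorphisms -/
theorem conj_diag [Finite F] (hO : fd.chkOpp fx = true) (hS : DiagConj D F) (θ φ : MulAut ↥(D.group F))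
    (ρ : ℕ → ℕ) (hθ : θ ∈ stdSub D F) (hq : QLin C θ ρ) (hφ : D.IsDiagonalAut φ) :
    D.IsDiagonalAut (θ * φ * θ⁻¹) := by
  have hev := C.c6.c2.heven
  obtain ⟨χ, hχ, rfl⟩ := (C.isDiagonalAut_iff hS φ).mp hφ
  have hφ0 : (C.diagAut hS χ hχ : MulAut ↥(D.group F)) ∈ std0Sub C F :=
    ⟨C.stdAut_diagAut hS χ hχ, (C.qlin_diagAut hS χ hχ).1⟩
  have h0 := C.std0Sub_conj hO θ _ hθ hφ0
  apply C.isDiagonalAut_of_lin hS _ h0.2
  intro j hj
  obtain ⟨i, hi, hij⟩ := exists_of_inj_lt ρ (fun i hi => (hq.1 i hi).1)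
    (fun i hi j hj hij => C.tracksF_inj θ ρ hq.1 i j hi hj hij) j hj
  have hp := C.c6.c2.simple_lt i hi
  have hp' := C.c6.c2.simple_lt j hj
  obtain ⟨a', ha'⟩ := hq.2 i hi (χ (fd.simples.getD i 0))
  refine ⟨a', fun u => ?_⟩
  have htr := (hq.1 i hi).2.1
  rw [hij] at htr ha'
  obtain ⟨t, ht⟩ := C.tracks_surj θ _ _ hp hp' htr u
  rw [MulAut.mul_apply, MulAut.mul_apply, ← ht, MulAut.inv_apply_self, C.diagAut_xg hS χ hχ _ hp]
  exact ha' t u ht

end Cert12

end Cfsg.Agent.Lib.H29.Chev
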