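import Mathlib
import Cfsg.Prelude.Def_KGroupFacts
import Cfsg.Prelude.Def_ChevAutomorphisms
import Cfsg.Agent.Lib.H29.ChevOut8

/-! Outer automorphism groups of Chevalley groups, part 9: the standard automorphisms are semilinear;
the group generated by the diagonal and field automorphisms. -/

set_option autoImplicit false
set_option linter.unusedSimpArgs false
set_option linter.unusedVariables false

namespace Cfsg.Agent.Lib.H29.Chev

open Cfsg.Lie Matrix

variable {D : ChevalleyDatum} {fd : FD} {fx : FX} {fc : FC} {fz : FZ} {F : Type*} [Field F]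

/-- the graph data of a type over a field: a list of maps of the nodes, each realised by a semilinear standard
automorphism, and exhausting the maps of the nodes induced by automorphisms -/
structure GraphData (C : Cert12 D fd fx fc fz) (F : Type*) [Field F] (Ls : List (List ℕ)) : Prop where
  nodup : Ls.Nodup
  len : ∀ L ∈ Ls, L.length = fd.l
  ex : ∀ L ∈ Ls, ∃ γ : MulAut ↥(D.group F), StdAut γ ∧ QLin C γ (fun i => L.getD i 0) ∧
    ∀ i < fd.l, γ (C.xg (fd.simples.getD i 0) 1) = C.xg (fd.simples.getD (L.getD i 0) 0) 1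
  all : ∀ (θ' : ↥(D.group F) ≃* ↥(D.group F)) (ρ : ℕ → ℕ) (f g : ℕ → F →+ F),
    SimpAct C θ' ρ f g → (List.range fd.l).map ρ ∈ Ls

namespace Cert12

variable (C : Cert12 D fd fx fc fz)
include C

theorem qlin_congr (a : MulAut ↥(D.group F)) (ρ ρ' : ℕ → ℕ) (h : QLin C a ρ)
    (hρ : ∀ i < fd.l, ρ i = ρ' i) : QLin C a ρ' := by
  refine ⟨C.tracksF_congr a ρ ρ' h.1 hρ, fun i hi a₀ => ?_⟩
  obtain ⟨a', ha'⟩ := h.2 i hi a₀
  refine ⟨a', ?_⟩
  rw [← hρ i hi]
  exact ha'

/-- every standard automorphism is semilinear, following a map of the nodes of the list -/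
theorem qlin_of_std [Finite F] (hO : fd.chkOpp fx = true) (hS : DiagConj D F) (es : List (ℕ × ℕ))
    (hconn : chkConn fd es = true) {Ls : List (List ℕ)} (G : GraphData C F Ls)
    (θ : MulAut ↥(D.group F)) (hθ : θ ∈ stdSub D F) :
    ∃ L ∈ Ls, QLin C θ (fun i => L.getD i 0) := by
  obtain ⟨ρ, f, g, S₁⟩ := C.exists_simpAct hO θ hθ
  have hmem := G.all θ ρ f g S₁
  set L := (List.range fd.l).map ρ with hL
  have hρ : ∀ i < fd.l, L.getD i 0 = ρ i := by
    intro i hi
    rw [hL, List.getD_eq_getElem _ _ (by simpa using hi)]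
    simp
  obtain ⟨γ, hγs, hγq, hγ1⟩ := G.ex L hmem
  have S₁' : SimpAct C θ (fun i => L.getD i 0) f g := by
    refine ⟨fun i hi => (hγq.1 i hi).1, fun i hi t => ?_, fun i hi t => ?_, S₁.finj, S₁.ginj⟩
    · show θ _ = C.xg (fd.simples.getD (L.getD i 0) 0) (f i t)
      rw [hρ i hi]; exact S₁.pos i hi t
    · show θ _ = C.xg (fd.n - 1 - fd.simples.getD (L.getD i 0) 0) (g i t)
      rw [hρ i hi]; exact S₁.neg i hi t
  obtain ⟨c, σ, hcσ⟩ := S₁'.std_decomp hS es hconn γ
    (fun i hi => ⟨(hγq.1 i hi).2.1, (hγq.1 i hi).2.2, hγ1 i hi⟩)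
  have hθe : θ = (C.diagAut hS (chiOf fd fx c) (C.isRootCharacter_chiOf c) : MulAut ↥(D.group F)) *
      (γ * (C.fieldAut σ : MulAut ↥(D.group F))) := by
    apply MulEquiv.ext
    intro y
    rw [hcσ y]
    rfl
  refine ⟨L, hmem, ?_⟩
  rw [hθe]
  have h1 := C.qlin_mul _ _ _ _ (C.qlin_fieldAut σ) hγq
  have h2 := C.qlin_mul _ _ _ _ h1 (C.qlin_diagAut hS (chiOf fd fx c) (C.isRootCharacter_chiOf c))
  exact h2

/-- diagonal automorphisms fix every fundamental root subgroup -/
theorem diag_mem_std0Sub [Finite F] (hS : DiagConj D F) (φ : MulAut ↥(D.group F)) (hφ : D.IsDiagonalAut φ) :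
    φ ∈ std0Sub C F := by
  obtain ⟨χ, hχ, rfl⟩ := (C.isDiagonalAut_iff hS φ).mp hφ
  exact ⟨C.stdAut_diagAut hS χ hχ, (C.qlin_diagAut hS χ hχ).1⟩

/-- field automorphisms fix every fundamental root subgroup -/
theorem field_mem_std0Sub [Finite F] (φ : MulAut ↥(D.group F)) (hφ : D.IsFieldAut φ) :
    φ ∈ std0Sub C F := by
  obtain ⟨σ, rfl⟩ := (C.isFieldAut_iff φ).mp hφ
  exact ⟨C.stdAut_fieldAut σ, (C.qlin_fieldAut σ).1⟩

/-- the standard automorphisms fixing every fundamental root subgroup are generated by the diagonal and the field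
automorphisms -/
theorem closure_sup_closure [Finite F] (hS : DiagConj D F) (es : List (ℕ × ℕ)) (hconn : chkConn fd es = true) :
    Subgroup.closure {φ : MulAut ↥(D.group F) | D.IsDiagonalAut φ} ⊔
      Subgroup.closure {φ : MulAut ↥(D.group F) | D.IsFieldAut φ} = std0Sub C F := by
  apply le_antisymm
  · apply sup_le
    · rw [Subgroup.closure_le]
      exact fun φ hφ => C.diag_mem_std0Sub hS φ hφ
    · rw [Subgroup.closure_le]
      exact fun φ hφ => C.field_mem_std0Sub φ hφ
  · intro θ hθ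
    obtain ⟨f, g, S₁⟩ := C.simpAct_of_tracks θ (fun i => i) (fun i hi => hi) (fun i hi => (hθ.2 i hi).2.1)
      (fun i hi => (hθ.2 i hi).2.2)
    obtain ⟨c, σ, hcσ⟩ := S₁.std_decomp hS es hconn (MulEquiv.refl _)
      (fun i hi => ⟨fun t => ⟨t, rfl⟩, fun t => ⟨t, rfl⟩, rfl⟩)
    have hθe : θ = (C.diagAut hS (chiOf fd fx c) (C.isRootCharacter_chiOf c) : MulAut ↥(D.group F)) *
        (C.fieldAut σ : MulAut ↥(D.group F)) := by
      apply MulEquiv.ext
      intro y
      rw [hcσ y]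
      rfl
    rw [hθe]
    exact Subgroup.mul_mem_sup (Subgroup.subset_closure (C.isDiagonalAut_diagAut hS _ _))
      (Subgroup.subset_closure (C.isFieldAut_fieldAut σ))

/-- a standard automorphism conjugates the group generated by the diagonal automorphisms into itself -/
theorem conj_mem_closure_diag [Finite F] (hO : fd.chkOpp fx = true) (hS : DiagConj D F) (es : List (ℕ × ℕ))
    (hconn : chkConn fd es = true) {Ls : List (List ℕ)} (G : GraphData C F Ls)
    (θ : MulAut ↥(D.group F)) (hθ : θ ∈ stdSub D F) (δ : MulAut ↥(D.group F))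
    (hδ : δ ∈ Subgroup.closure {φ : MulAut ↥(D.group F) | D.IsDiagonalAut φ}) :
    θ * δ * θ⁻¹ ∈ Subgroup.closure {φ : MulAut ↥(D.group F) | D.IsDiagonalAut φ} := by
  obtain ⟨L, _, hq⟩ := C.qlin_of_std hO hS es hconn G θ hθ
  induction hδ using Subgroup.closure_induction with
  | mem φ hφ => exact Subgroup.subset_closure (C.conj_diag hO hS θ φ _ hθ hq hφ)
  | one =>
    have : θ * 1 * θ⁻¹ = 1 := by group
    rw [this]
    exact Subgroup.one_mem _
  | mul a b _ _ ha hb =>
    have : θ * (a * b) * θ⁻¹ = (θ * a * θ⁻¹) * (θ * b * θ⁻¹) := by group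
    rw [this]
    exact Subgroup.mul_mem _ ha hb
  | inv a _ ha =>
    have : θ * a⁻¹ * θ⁻¹ = (θ * a * θ⁻¹)⁻¹ := by group
    rw [this]
    exact Subgroup.inv_mem _ ha

/-- diagonal automorphisms commute -/
theorem diag_comm [Finite F] (hS : DiagConj D F) (φ ψ : MulAut ↥(D.group F)) (hφ : D.IsDiagonalAut φ)
    (hψ : D.IsDiagonalAut ψ) : φ * ψ = ψ * φ := by
  have hev := C.c6.c2.heven
  obtain ⟨χ, hχ, rfl⟩ := (C.isDiagonalAut_iff hS φ).mp hφ
  obtain ⟨χ', hχ', rfl⟩ := (C.isDiagonalAut_iff hS ψ).mp hψ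
  apply MulEquiv.ext
  have key : ∀ r < fd.n, ∀ t : F,
      ((C.diagAut hS χ hχ : MulAut ↥(D.group F)) * (C.diagAut hS χ' hχ' : MulAut ↥(D.group F))) (C.xg r t) =
      ((C.diagAut hS χ' hχ' : MulAut ↥(D.group F)) * (C.diagAut hS χ hχ : MulAut ↥(D.group F))) (C.xg r t) := by
    intro r hr t
    rw [MulAut.mul_apply, MulAut.mul_apply, C.diagAut_xg hS χ' hχ' r hr, C.diagAut_xg hS χ hχ r hr,
      C.diagAut_xg hS χ hχ r hr, C.diagAut_xg hS χ' hχ' r hr]
    congr 1
    ring
  apply C.aut_ext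
  · intro i hi t
    exact key _ (C.c6.c2.simple_lt i hi) t
  · intro i hi t
    have := C.c6.c2.simple_lt i hi
    exact key _ (by omega) t

end Cert12

end Cfsg.Agent.Lib.H29.Chev
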