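import Mathlib
import Cfsg.Prelude.Def_KGroupFacts
import Cfsg.Prelude.Def_ChevAutomorphisms
import Cfsg.Agent.Lib.H29.ChevOut9

/-! Outer automorphism groups of Chevalley groups, part 10: the structure of `Out`. -/

set_option autoImplicit false
set_option linter.unusedSimpArgs false
set_option linter.unusedVariables false

namespace Cfsg.Agent.Lib.H29.Chev

open Cfsg.Lie Matrix

variable {D : ChevalleyDatum} {fd : FD} {fx : FX} {fc : FC} {fz : FZ} {F : Type*} [Field F]

/-- the ring automorphisms of a finite field form a cyclic group -/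
theorem isCyclic_ringAut {F : Type*} [Field F] [Finite F] (p : ℕ) [Fact p.Prime] [CharP F p] :
    IsCyclic (F ≃+* F) := by
  let _ : Algebra (ZMod p) F := ZMod.algebra F p
  let f : (F ≃ₐ[ZMod p] F) →* (F ≃+* F) :=
    { toFun := fun e => e.toRingEquiv, map_one' := rfl, map_mul' := fun _ _ => rfl }
  have hf : Function.Surjective f := by
    intro e
    refine ⟨AlgEquiv.ofRingEquiv (f := e) (fun x => ?_), rfl⟩
    exact RingHom.congr_fun (Subsingleton.elim ((e : F →+* F).comp (algebraMap (ZMod p) F))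
      (algebraMap (ZMod p) F)) x
  exact isCyclic_of_surjective f hf

namespace Cert12

variable (C : Cert12 D fd fx fc fz)
include C

/-- the field automorphisms as a homomorphism -/
noncomputable def fieldHom : (F ≃+* F) →* MulAut ↥(D.group F) where
  toFun σ := C.fieldAut σ
  map_one' := by
    apply MulEquiv.ext
    apply C.aut_ext
    · intro i hi t
      rw [C.fieldAut_xg]; rfl
    · intro i hi t
      rw [C.fieldAut_xg]; rfl
  map_mul' σ τ := by
    apply MulEquiv.ext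
    apply C.aut_ext
    · intro i hi t
      rw [MulAut.mul_apply, C.fieldAut_xg, C.fieldAut_xg, C.fieldAut_xg]; rfl
    · intro i hi t
      rw [MulAut.mul_apply, C.fieldAut_xg, C.fieldAut_xg, C.fieldAut_xg]; rfl

theorem closure_field_eq_range :
    Subgroup.closure {φ : MulAut ↥(D.group F) | D.IsFieldAut φ} = (C.fieldHom (F := F)).range := by
  have : {φ : MulAut ↥(D.group F) | D.IsFieldAut φ} = ((C.fieldHom (F := F)).range : Set (MulAut ↥(D.group F))) := by
    ext φ
    rw [Set.mem_ofPred_eq, C.isFieldAut_iff]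
    constructor
    · rintro ⟨σ, rfl⟩; exact ⟨σ, rfl⟩
    · rintro ⟨σ, rfl⟩; exact ⟨σ, rfl⟩
  rw [this, Subgroup.closure_eq]

/-- every outer class contains a standard automorphism -/
theorem exists_std_rep [Finite F] (p : ℕ) [hp : Fact p.Prime] [CharP F p] (a : Cfsg.Out ↥(D.group F)) :
    ∃ θ ∈ stdSub D F, QuotientGroup.mk' (Cfsg.Inn ↥(D.group F)) θ = a := by
  obtain ⟨θ', rfl⟩ := QuotientGroup.mk'_surjective (Cfsg.Inn ↥(D.group F)) a
  obtain ⟨x, hxU, hxV⟩ := C.exists_std p θ'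
  refine ⟨MulAut.conj x * θ', ⟨hxU, hxV⟩, ?_⟩
  rw [map_mul]
  have : QuotientGroup.mk' (Cfsg.Inn ↥(D.group F)) (MulAut.conj x) = 1 :=
    (QuotientGroup.eq_one_iff _).mpr ⟨x, rfl⟩
  rw [this, one_mul]

/-- a standard automorphism whose class lies in the image of `S₀` lies in `S₀` -/
theorem mem_std0Sub_of_mk [Finite F] (θ : MulAut ↥(D.group F)) (hθ : θ ∈ stdSub D F)
    (h : QuotientGroup.mk' (Cfsg.Inn ↥(D.group F)) θ ∈
      (std0Sub C F).map (QuotientGroup.mk' (Cfsg.Inn ↥(D.group F)))) : θ ∈ std0Sub C F := by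
  obtain ⟨θ₀, hθ₀, he⟩ := h
  have h1 : θ₀⁻¹ * θ ∈ Cfsg.Inn ↥(D.group F) := QuotientGroup.eq.mp he
  obtain ⟨x, hx⟩ := h1
  have hx' : MulAut.conj x = θ₀⁻¹ * θ := hx
  have hxs : MulAut.conj x ∈ stdSub D F := by
    rw [hx']
    exact (stdSub D F).mul_mem ((stdSub D F).inv_mem hθ₀.1) hθ
  have hxH := (C.conj_mem_stdSub_iff x).mp hxs
  have h2 := C.conj_H1_mem_std0Sub x hxH
  have : θ = θ₀ * MulAut.conj x := by rw [hx']; group
  rw [this]
  exact (std0Sub C F).mul_mem hθ₀ h2

/-- the inverse of a standard automorphism following `ρ` follows an inverse of `ρ` -/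
theorem exists_inv_nodes [Finite F] (a : MulAut ↥(D.group F)) (ρ : ℕ → ℕ) (h : TracksF C a ρ) :
    ∃ ρ' : ℕ → ℕ, (∀ i < fd.l, ρ' (ρ i) = i) ∧ TracksF C a⁻¹ ρ' := by
  classical
  have hinv : ∀ j, ∃ i, j < fd.l → i < fd.l ∧ ρ i = j := by
    intro j
    by_cases hj : j < fd.l
    · obtain ⟨i, hi, hij⟩ := exists_of_inj_lt ρ (fun i hi => (h i hi).1)
        (fun i hi j hj hij => C.tracksF_inj a ρ h i j hi hj hij) j hj
      exact ⟨i, fun _ => ⟨hi, hij⟩⟩
    · exact ⟨0, fun h => absurd h hj⟩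
  choose ρ' hρ' using hinv
  have hρρ : ∀ i < fd.l, ρ' (ρ i) = i := by
    intro i hi
    obtain ⟨h1, h2⟩ := hρ' (ρ i) (h i hi).1
    exact C.tracksF_inj a ρ h _ _ h1 hi h2
  exact ⟨ρ', hρρ, C.tracksF_inv a ρ ρ' h hρρ⟩

end Cert12

end Cfsg.Agent.Lib.H29.Chev
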