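import Mathlib
import Cfsg.Prelude.Def_KGroupFacts
import Cfsg.Prelude.Def_ChevAutomorphisms
import Cfsg.Agent.Lib.H29.ChevOut10

/-! Outer automorphism groups of Chevalley groups, part 11: the structure of `Out`, assembled. -/

set_option autoImplicit false
set_option linter.unusedSimpArgs false
set_option linter.unusedVariables false

namespace Cfsg.Agent.Lib.H29.Chev

open Cfsg.Lie Matrix
open scoped commutatorElement

variable {D : ChevalleyDatum} {fd : FD} {fx : FX} {fc : FC} {fz : FZ} {F : Type*} [Field F]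

namespace Cert12

variable (C : Cert12 D fd fx fc fz)
include C

/-- the structure of the outer automorphism group -/
theorem out_structure [Finite F] (p : ℕ) [hp : Fact p.Prime] [CharP F p] (hO : fd.chkOpp fx = true)
    (hS : DiagConj D F) (es : List (ℕ × ℕ)) (hconn : chkConn fd es = true) {Ls : List (List ℕ)}
    (G : GraphData C F Ls) (Dbar Fbar : Subgroup (Cfsg.Out ↥(D.group F)))
    (hDbar : Dbar = (Subgroup.closure {φ : MulAut ↥(D.group F) | D.IsDiagonalAut φ}).map
      (QuotientGroup.mk' (Cfsg.Inn ↥(D.group F))))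
    (hFbar : Fbar = (Subgroup.closure {φ : MulAut ↥(D.group F) | D.IsFieldAut φ}).map
      (QuotientGroup.mk' (Cfsg.Inn ↥(D.group F)))) :
    Dbar.Normal ∧ IsMulCommutative ↥Dbar ∧ IsCyclic ↥Fbar ∧ (Dbar ⊔ Fbar).Normal ∧
      (Dbar ⊔ Fbar).index = Ls.length ∧
      (∀ L₁ ∈ Ls, ∀ L₂ ∈ Ls, (∃ i < fd.l, L₁.getD (L₂.getD i 0) 0 ≠ L₂.getD (L₁.getD i 0) 0) →
        ¬ commutator (Cfsg.Out ↥(D.group F)) ≤ Dbar ⊔ Fbar) := by
  classical
  set π := QuotientGroup.mk' (Cfsg.Inn ↥(D.group F)) with hπ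
  have hsup : Dbar ⊔ Fbar = (std0Sub C F).map π := by
    rw [hDbar, hFbar, ← Subgroup.map_sup, C.closure_sup_closure hS es hconn]
  -- the chosen automorphisms
  have hex' : ∀ j : Fin Ls.length, ∃ γ : MulAut ↥(D.group F), StdAut γ ∧
      QLin C γ (fun i => (Ls.get j).getD i 0) := fun j => by
    obtain ⟨γ, h1, h2, _⟩ := G.ex _ (List.get_mem Ls j)
    exact ⟨γ, h1, h2⟩
  choose γ stdγ qγ using hex'
  refine ⟨?_, ?_, ?_, ?_, ?_, ?_⟩
  · -- `Dbar` is normal
    rw [hDbar]
    constructor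
    rintro _ ⟨δ, hδ, rfl⟩ a
    obtain ⟨θ, hθ, rfl⟩ := C.exists_std_rep p a
    refine ⟨θ * δ * θ⁻¹, C.conj_mem_closure_diag hO hS es hconn G θ hθ δ hδ, ?_⟩
    rw [map_mul, map_mul, map_inv]
  · -- `Dbar` is commutative
    rw [hDbar]
    have hcomm : ∀ a ∈ Subgroup.closure {φ : MulAut ↥(D.group F) | D.IsDiagonalAut φ},
        ∀ b ∈ Subgroup.closure {φ : MulAut ↥(D.group F) | D.IsDiagonalAut φ}, a * b = b * a := by
      intro a ha b hb
      have h1 : Subgroup.closure {φ : MulAut ↥(D.group F) | D.IsDiagonalAut φ} ≤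
          Subgroup.centralizer {φ : MulAut ↥(D.group F) | D.IsDiagonalAut φ} := by
        rw [Subgroup.closure_le]
        intro φ hφ
        rw [SetLike.mem_coe, Subgroup.mem_centralizer_iff]
        intro ψ hψ
        exact C.diag_comm hS ψ φ hψ hφ
      have h2 : Subgroup.closure {φ : MulAut ↥(D.group F) | D.IsDiagonalAut φ} ≤
          Subgroup.centralizer (Subgroup.closure {φ : MulAut ↥(D.group F) | D.IsDiagonalAut φ} :
            Set (MulAut ↥(D.group F))) := by
        rw [Subgroup.closure_le]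
        intro φ hφ
        rw [SetLike.mem_coe, Subgroup.mem_centralizer_iff]
        intro ψ hψ
        have := Subgroup.mem_centralizer_iff.mp (h1 hψ) φ hφ
        exact this.symm
      exact (Subgroup.mem_centralizer_iff.mp (h2 hb) a ha)
    constructor
    constructor
    rintro ⟨_, ⟨a, ha, rfl⟩⟩ ⟨_, ⟨b, hb, rfl⟩⟩
    apply Subtype.ext
    show π a * π b = π b * π a
    rw [← map_mul, ← map_mul, hcomm a ha b hb]
  · -- `Fbar` is cyclic
    rw [hFbar, C.closure_field_eq_range, MonoidHom.map_range]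
    have := isCyclic_ringAut (F := F) p
    exact isCyclic_of_surjective (π.comp (C.fieldHom (F := F))).rangeRestrict
      (MonoidHom.rangeRestrict_surjective _)
  · -- `Dbar ⊔ Fbar` is normal
    rw [hsup]
    constructor
    rintro _ ⟨θ₀, hθ₀, rfl⟩ a
    obtain ⟨θ, hθ, rfl⟩ := C.exists_std_rep p a
    refine ⟨θ * θ₀ * θ⁻¹, C.std0Sub_conj hO θ θ₀ hθ hθ₀, ?_⟩
    rw [map_mul, map_mul, map_inv]
  · -- the index
    rw [hsup]
    show Nat.card (Cfsg.Out ↥(D.group F) ⧸ (std0Sub C F).map π) = Ls.length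
    let Φ : Fin Ls.length → Cfsg.Out ↥(D.group F) ⧸ (std0Sub C F).map π := fun j =>
      QuotientGroup.mk (π (γ j))
    have hbij : Function.Bijective Φ := by
      constructor
      · intro j j' hjj
        have h1 : (π (γ j))⁻¹ * π (γ j') ∈ (std0Sub C F).map π := QuotientGroup.eq.mp hjj
        rw [← map_inv, ← map_mul] at h1
        have h2 := C.mem_std0Sub_of_mk _ ((stdSub D F).mul_mem ((stdSub D F).inv_mem (stdγ j)) (stdγ j')) h1
        have h3 := C.tracksF_mul _ _ _ _ h2.2 (qγ j).1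
        have h4 : γ j * ((γ j)⁻¹ * γ j') = γ j' := by group
        rw [h4] at h3
        apply (List.nodup_iff_injective_get.mp G.nodup)
        apply list_eq_of_getD (G.len _ (List.get_mem Ls j)) (G.len _ (List.get_mem Ls j'))
        intro i hi
        exact C.tracksF_unique _ _ _ h3 (qγ j').1 i hi
      · intro x
        obtain ⟨a, rfl⟩ := QuotientGroup.mk_surjective x
        obtain ⟨θ, hθ, rfl⟩ := C.exists_std_rep p a
        obtain ⟨L, hL, hq⟩ := C.qlin_of_std hO hS es hconn G θ hθ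
        obtain ⟨j, hj⟩ := List.mem_iff_get.mp hL
        refine ⟨j, ?_⟩
        apply QuotientGroup.eq.mpr
        rw [← map_inv, ← map_mul]
        refine ⟨(γ j)⁻¹ * θ, ⟨(stdSub D F).mul_mem ((stdSub D F).inv_mem (stdγ j)) hθ, ?_⟩, rfl⟩
        obtain ⟨ρ', hρ', hinv⟩ := C.exists_inv_nodes (γ j) _ (qγ j).1
        have h3 := C.tracksF_mul _ _ _ _ hq.1 hinv
        apply C.tracksF_congr _ _ _ h3
        intro i hi
        show ρ' (L.getD i 0) = i
        rw [← hj]
        exact hρ' i hi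
    rw [← Nat.card_congr (Equiv.ofBijective Φ hbij), Nat.card_fin]
  · -- non-commuting graph automorphisms
    intro L₁ hL₁ L₂ hL₂ ⟨i, hi, hne⟩ hle
    rw [hsup] at hle
    obtain ⟨j₁, hj₁⟩ := List.mem_iff_get.mp hL₁
    obtain ⟨j₂, hj₂⟩ := List.mem_iff_get.mp hL₂
    have h1 : ⁅π (γ j₁), π (γ j₂)⁆ ∈ commutator (Cfsg.Out ↥(D.group F)) :=
      Subgroup.commutator_mem_commutator (Subgroup.mem_top _) (Subgroup.mem_top _)
    have h2 := hle h1
    rw [← map_commutatorElement] at h2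
    have hs : ⁅γ j₁, γ j₂⁆ ∈ stdSub D F := by
      rw [commutatorElement_def]
      exact (stdSub D F).mul_mem ((stdSub D F).mul_mem ((stdSub D F).mul_mem (stdγ j₁) (stdγ j₂))
        ((stdSub D F).inv_mem (stdγ j₁))) ((stdSub D F).inv_mem (stdγ j₂))
    have h3 := C.mem_std0Sub_of_mk _ hs h2
    have h4 : γ j₁ * γ j₂ = ⁅γ j₁, γ j₂⁆ * (γ j₂ * γ j₁) := by
      rw [commutatorElement_def]; group
    have t1 := C.tracksF_mul _ _ _ _ (qγ j₂).1 (qγ j₁).1
    have t2 := C.tracksF_mul _ _ _ _ (C.tracksF_mul _ _ _ _ (qγ j₁).1 (qγ j₂).1) h3.2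
    rw [← h4] at t2
    have := C.tracksF_unique _ _ _ t1 t2 i hi
    apply hne
    rw [← hj₁, ← hj₂]
    exact this

end Cert12

end Cfsg.Agent.Lib.H29.Chev
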