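import Mathlib
import Cfsg.Prelude.Def_ChevAutomorphisms
import Cfsg.Agent.Lib.H29.ChevOut5
import Cfsg.Agent.Lib.H29.ChevAut14

/-! Outer automorphism groups of Chevalley groups, part 6: graph automorphisms from permutation
matrices preserve `U` and `V`. -/

set_option autoImplicit false
set_option linter.unusedSimpArgs false
set_option linter.unusedVariables false

namespace Cfsg.Agent.Lib.H29.Chev

open Cfsg.Lie Matrix

variable {D : ChevalleyDatum} {fd : FD} {fx : FX} {fc : FC} {fz : FZ} {F : Type*} [Field F]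

namespace Cert12

variable (C : Cert12 D fd fx fc fz)
include C

/-- the graph automorphism of a symmetry of the diagram (one root length) -/
theorem hex_ga [Finite F] {ga : GA} (hgi : fd.ChkGInv ga) (hg : fd.ChkGraph ga)
    (hgs : fd.chkGSimple ga = true) (L : List ℕ) (hL : ∀ i < fd.l, L.getD i 0 = ga.rh.getD i 0)
    (hlt : ∀ i < fd.l, L.getD i 0 < fd.l) (k : ℕ) (hchk : chkStd fd fx L k = true) :
    ∃ γ : ↥(D.group F) ≃* ↥(D.group F), StdAut γ ∧ ∀ i < fd.l, L.getD i 0 < fd.l ∧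
      C.Tracks γ (fd.simples.getD i 0) (fd.simples.getD (L.getD i 0) 0) ∧
      C.Tracks γ (fd.n - 1 - fd.simples.getD i 0) (fd.n - 1 - fd.simples.getD (L.getD i 0) 0) ∧
      γ (C.xg (fd.simples.getD i 0) 1) = C.xg (fd.simples.getD (L.getD i 0) 0) 1 := by
  have hrk := C.c6.c2.rank_eq
  have hev := C.c6.c2.heven
  obtain ⟨α, hα⟩ := C.c6.c2.exists_graph_aut (F := F) hgi hg hgs
  have hpos : ∀ i < fd.l, ∀ t : F, α (C.xg (fd.simples.getD i 0) t) = C.xg (fd.simples.getD (L.getD i 0) 0) t := by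
    intro i hi t
    have hp := C.c6.c2.simple_lt i hi
    have h1 := (hα (C.xg (fd.simples.getD i 0) t) i t (by rw [hrk]; exact hi)).1
      (by rw [C.xg_val, C.c6.c2.xA_val, C.c6.c2.agrees.simple_eq])
    rw [hL i hi]
    exact Subtype.ext (gl_ext (by rw [h1, C.xg_val, C.c6.c2.xA_val, C.c6.c2.agrees.simple_eq]))
  have hneg : ∀ i < fd.l, ∀ t : F, α (C.xg (fd.n - 1 - fd.simples.getD i 0) t) =
      C.xg (fd.n - 1 - fd.simples.getD (L.getD i 0) 0) t := by
    intro i hi t
    have hp := C.c6.c2.simple_lt i hi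
    have hp' := C.c6.c2.simple_lt _ (hlt i hi)
    rw [hL i hi] at hp'
    have h1 := (hα (C.xg (fd.n - 1 - fd.simples.getD i 0) t) i t (by rw [hrk]; exact hi)).2
      (by rw [C.xg_val, C.c6.c2.xA_val, C.c6.c2.agrees.simple_eq, C.c6.c2.agrees.neg_eq' _ hp])
    rw [hL i hi]
    exact Subtype.ext (gl_ext (by
      rw [h1, C.xg_val, C.c6.c2.xA_val, C.c6.c2.agrees.simple_eq, C.c6.c2.agrees.neg_eq' _ hp']))
  exact C.hex_of_chk L k hchk α (fun i hi =>
    ⟨hlt i hi, fun t => ⟨t, hpos i hi t⟩, fun t => ⟨t, hneg i hi t⟩, hpos i hi 1⟩)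

end Cert12

end Cfsg.Agent.Lib.H29.Chev
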