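import Mathlib
import Cfsg.Prelude.Def_KGroupFacts
import Cfsg.Prelude.Def_ChevAutomorphisms
import Cfsg.Agent.Lib.H29.ChevOut11
import Cfsg.Agent.Lib.H29.ChevOut6

/-! Outer automorphism groups of Chevalley groups, part 12: the graph data from automorphisms acting
by powers on the fundamental root elements. -/

set_option autoImplicit false
set_option linter.unusedSimpArgs false
set_option linter.unusedVariables false

namespace Cfsg.Agent.Lib.H29.Chev

open Cfsg.Lie Matrix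

variable {D : ChevalleyDatum} {fd : FD} {fx : FX} {fc : FC} {fz : FZ} {F : Type*} [Field F]

namespace Cert12

variable (C : Cert12 D fd fx fc fz)
include C

/-- an automorphism acting by powers on the fundamental root elements is semilinear -/
theorem ex_of_pow (L : List ℕ) (γ : MulAut ↥(D.group F)) (hstd : StdAut γ) (e e' : ℕ → ℕ)
    (h : ∀ i < fd.l, L.getD i 0 < fd.l ∧
      (∀ t : F, γ (C.xg (fd.simples.getD i 0) t) = C.xg (fd.simples.getD (L.getD i 0) 0) (t ^ e i)) ∧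
      (∀ t : F, γ (C.xg (fd.n - 1 - fd.simples.getD i 0) t) =
        C.xg (fd.n - 1 - fd.simples.getD (L.getD i 0) 0) (t ^ e' i))) :
    ∃ γ : MulAut ↥(D.group F), StdAut γ ∧ QLin C γ (fun i => L.getD i 0) ∧
      ∀ i < fd.l, γ (C.xg (fd.simples.getD i 0) 1) = C.xg (fd.simples.getD (L.getD i 0) 0) 1 := by
  refine ⟨γ, hstd, ⟨fun i hi => ⟨(h i hi).1, fun t => ⟨_, (h i hi).2.1 t⟩, fun t => ⟨_, (h i hi).2.2 t⟩⟩, ?_⟩, ?_⟩
  · intro i hi a
    refine ⟨a ^ e i, fun t s hts => ?_⟩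
    have hp := C.c6.c2.simple_lt _ (h i hi).1
    rw [(h i hi).2.1] at hts ⊢
    have := C.xg_injective _ hp _ _ hts
    rw [← this, mul_pow, Units.val_pow_eq_pow_val]
  · intro i hi
    rw [(h i hi).2.1, one_pow]

/-- the identity, for the trivial map of the nodes -/
theorem ex_id (L : List ℕ) (hL : ∀ i < fd.l, L.getD i 0 = i) :
    ∃ γ : MulAut ↥(D.group F), StdAut γ ∧ QLin C γ (fun i => L.getD i 0) ∧
      ∀ i < fd.l, γ (C.xg (fd.simples.getD i 0) 1) = C.xg (fd.simples.getD (L.getD i 0) 0) 1 := by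
  apply C.ex_of_pow L 1 ⟨fun g => Iff.rfl, fun g => Iff.rfl⟩ (fun _ => 1) (fun _ => 1)
  intro i hi
  rw [hL i hi]
  exact ⟨hi, fun t => by rw [pow_one]; rfl, fun t => by rw [pow_one]; rfl⟩

/-- the graph automorphism of a symmetry of the diagram (one root length) -/
theorem ex_ga [Finite F] {ga : GA} (hgi : fd.ChkGInv ga) (hg : fd.ChkGraph ga)
    (hgs : fd.chkGSimple ga = true) (L : List ℕ) (hL : ∀ i < fd.l, L.getD i 0 = ga.rh.getD i 0)
    (hlt : ∀ i < fd.l, L.getD i 0 < fd.l) (k : ℕ) (hchk : chkStd fd fx L k = true) :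
    ∃ γ : MulAut ↥(D.group F), StdAut γ ∧ QLin C γ (fun i => L.getD i 0) ∧
      ∀ i < fd.l, γ (C.xg (fd.simples.getD i 0) 1) = C.xg (fd.simples.getD (L.getD i 0) 0) 1 := by
  have hrk := C.c6.c2.rank_eq
  have hev := C.c6.c2.heven
  obtain ⟨α, hα⟩ := C.c6.c2.exists_graph_aut (F := F) hgi hg hgs
  have hpos : ∀ i < fd.l, ∀ t : F, α (C.xg (fd.simples.getD i 0) t) = C.xg (fd.simples.getD (L.getD i 0) 0) t := by
    intro i hi t
    have hp := C.c6.c2.simple_lt i hi
    have h1 := (hα (C.xg (fd.simples.getD i 0) t) i t (by rw [hrk]; exact hi)).1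
      (by rw [C.xg_val, C.c6.c2.xA_val, C.c6.c2.agrees.simple_eq])
    rw [hL i hi]
    exact Subtype.ext (gl_ext (by rw [h1, C.xg_val, C.c6.c2.xA_val, C.c6.c2.agrees.simple_eq]))
  have hneg : ∀ i < fd.l, ∀ t : F, α (C.xg (fd.n - 1 - fd.simples.getD i 0) t) =
      C.xg (fd.n - 1 - fd.simples.getD (L.getD i 0) 0) t := by
    intro i hi t
    have hp := C.c6.c2.simple_lt i hi
    have hp' := C.c6.c2.simple_lt _ (hlt i hi)
    rw [hL i hi] at hp'
    have h1 := (hα (C.xg (fd.n - 1 - fd.simples.getD i 0) t) i t (by rw [hrk]; exact hi)).2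
      (by rw [C.xg_val, C.c6.c2.xA_val, C.c6.c2.agrees.simple_eq, C.c6.c2.agrees.neg_eq' _ hp])
    rw [hL i hi]
    exact Subtype.ext (gl_ext (by
      rw [h1, C.xg_val, C.c6.c2.xA_val, C.c6.c2.agrees.simple_eq, C.c6.c2.agrees.neg_eq' _ hp']))
  obtain ⟨f, g, S⟩ := C.simpAct_of_tracks α (fun i => L.getD i 0) (fun i hi => hlt i hi)
    (fun i hi t => ⟨t, hpos i hi t⟩) (fun i hi t => ⟨t, hneg i hi t⟩)
  have hstdα : StdAut α := S.stdAut_of_chk L (fun i hi => rfl) k hchk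
  apply C.ex_of_pow L α hstdα (fun _ => 1) (fun _ => 1)
  intro i hi
  exact ⟨hlt i hi, fun t => by rw [pow_one]; exact hpos i hi t, fun t => by rw [pow_one]; exact hneg i hi t⟩

end Cert12

end Cfsg.Agent.Lib.H29.Chev
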