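import Mathlib
import Cfsg.Prelude.Def_ChevAutomorphisms
import Cfsg.Prelude.Def_LieChev
import Cfsg.Agent.Lib.H29.ChevOut6
import Cfsg.Agent.Lib.H29.ChevAutE6
import Cfsg.Agent.Lib.H29.ChevDiagOrd

/-! The order of the outer automorphism group of `E₆(q)` -/

set_option autoImplicit false
set_option linter.unusedSimpArgs false
set_option linter.unusedVariables false

namespace Cfsg.Agent.Lib.H29.Chev

open Cfsg.Lie Matrix

set_option maxRecDepth 1000000 in
set_option maxHeartbeats 0 in
theorem chkStd_E6 : chkStd fdE6 fxE6 [5, 1, 4, 3, 2, 0] 10 = true := by decide +kernel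

theorem card_out_E6 {F : Type*} [Field F] [Fintype F] (p f : ℕ) [Fact p.Prime] [CharP F p]
    (hF : Fintype.card F = p ^ f) :
    Nat.card (Cfsg.Out ↥(chevE6.group F)) = 2 * Nat.gcd 3 (p ^ f - 1) * f := by
  have h := cert12_E6.card_out (F := F) p f hF fdE6_chkOpp diagConj_E6 esE6 chkConn_E6
    [[0, 1, 2, 3, 4, 5], [5, 1, 4, 3, 2, 0]] (by decide) (by
      intro L hL
      simp only [List.mem_cons, List.not_mem_nil, or_false] at hL
      rcases hL with rfl | rfl <;> rfl) (by
      intro L hL
      simp only [List.mem_cons, List.not_mem_nil, or_false] at hL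
      rcases hL with rfl | rfl
      · apply cert12_E6.hex_id
        intro i hi
        have hi' : i < 6 := hi
        interval_cases i <;> rfl
      · apply cert12_E6.hex_ga gaE6a_ChkGInv gaE6a_ChkGraph gaE6a_simple _ _ _ 10 chkStd_E6
        · intro i hi
          have hi' : i < 6 := hi
          interval_cases i <;> rfl
        · intro i hi
          have hi' : i < 6 := hi
          interval_cases i <;> decide) (by
      intro θ' ρ f g S
      have hmem := S.map_rho_mem_autList chkAdj_E6
      rwa [show fdE6.l = 6 from rfl, autList_E6] at hmem)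
  have hcF : Nat.card F = p ^ f := by rw [Nat.card_eq_fintype_card, hF]
  have hd := card_diag_E6 (F := F)
  rw [hcF] at hd
  rw [show fdE6.l = 6 from rfl, ← hd] at h
  have hH : 0 < Nat.card (chevE6.diagonalSubgroup F) := Nat.card_pos
  have h2 : Nat.card (chevE6.diagonalSubgroup F) * Nat.card (Cfsg.Out ↥(chevE6.group F)) =
      Nat.card (chevE6.diagonalSubgroup F) * (2 * Nat.gcd 3 (p ^ f - 1) * f) := by
    rw [mul_comm, h]
    simp only [List.length_cons, List.length_nil]
    ring
  exact Nat.eq_of_mul_eq_mul_left hH h2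

end Cfsg.Agent.Lib.H29.Chev
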