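import Mathlib
import Cfsg.Prelude.Def_KGroupFacts
import Cfsg.Prelude.Def_ChevAutomorphisms
import Cfsg.Prelude.Def_LieChev
import Cfsg.Prelude.Def_ChevD4
import Cfsg.Agent.Lib.H29.ChevOut12
import Cfsg.Agent.Lib.H29.ChevOutE6
import Cfsg.Agent.Lib.H29.ChevAutE7
import Cfsg.Agent.Lib.H29.ChevAutE8
import Cfsg.Agent.Lib.H29.ChevAutD4

/-! The graph data of the types `E₆`, `E₇`, `E₈`, `D₄` -/

set_option autoImplicit false
set_option linter.unusedSimpArgs false
set_option linter.unusedVariables false

namespace Cfsg.Agent.Lib.H29.Chev

open Cfsg.Lie Matrix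

theorem graphData_E8 {F : Type*} [Field F] [Finite F] :
    GraphData cert12_E8 F [[0, 1, 2, 3, 4, 5, 6, 7]] where
  nodup := by decide
  len := by
    intro L hL
    rw [List.mem_singleton] at hL
    subst hL
    rfl
  ex := by
    intro L hL
    rw [List.mem_singleton] at hL
    subst hL
    apply cert12_E8.ex_id
    intro i hi
    have hi' : i < 8 := hi
    interval_cases i <;> rfl
  all := by
    intro θ' ρ f g S
    have hmem := S.map_rho_mem_autList chkAdj_E8
    rwa [show fdE8.l = 8 from rfl, autList_E8] at hmem

theorem graphData_E7 {F : Type*} [Field F] [Finite F] :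
    GraphData cert12_E7 F [[0, 1, 2, 3, 4, 5, 6]] where
  nodup := by decide
  len := by
    intro L hL
    rw [List.mem_singleton] at hL
    subst hL
    rfl
  ex := by
    intro L hL
    rw [List.mem_singleton] at hL
    subst hL
    apply cert12_E7.ex_id
    intro i hi
    have hi' : i < 7 := hi
    interval_cases i <;> rfl
  all := by
    intro θ' ρ f g S
    have hmem := S.map_rho_mem_autList chkAdj_E7
    rwa [show fdE7.l = 7 from rfl, autList_E7] at hmem

theorem graphData_E6 {F : Type*} [Field F] [Finite F] :
    GraphData cert12_E6 F [[0, 1, 2, 3, 4, 5], [5, 1, 4, 3, 2, 0]] where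
  nodup := by decide
  len := by
    intro L hL
    simp only [List.mem_cons, List.not_mem_nil, or_false] at hL
    rcases hL with rfl | rfl <;> rfl
  ex := by
    intro L hL
    simp only [List.mem_cons, List.not_mem_nil, or_false] at hL
    rcases hL with rfl | rfl
    · apply cert12_E6.ex_id
      intro i hi
      have hi' : i < 6 := hi
      interval_cases i <;> rfl
    · apply cert12_E6.ex_ga gaE6a_ChkGInv gaE6a_ChkGraph gaE6a_simple _ _ _ 10 chkStd_E6
      · intro i hi
        have hi' : i < 6 := hi
        interval_cases i <;> rfl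
      · intro i hi
        have hi' : i < 6 := hi
        interval_cases i <;> decide
  all := by
    intro θ' ρ f g S
    have hmem := S.map_rho_mem_autList chkAdj_E6
    rwa [show fdE6.l = 6 from rfl, autList_E6] at hmem

set_option maxRecDepth 1000000 in
set_option maxHeartbeats 0 in
theorem chkStd_D4c : chkStd fdD4 fxD4 [0, 1, 3, 2] 5 = true := by decide +kernel

set_option maxRecDepth 1000000 in
set_option maxHeartbeats 0 in
theorem chkStd_D4d : chkStd fdD4 fxD4 [2, 1, 0, 3] 5 = true := by decide +kernel

set_option maxRecDepth 1000000 in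
set_option maxHeartbeats 0 in
theorem chkStd_D4a : chkStd fdD4 fxD4 [2, 1, 3, 0] 5 = true := by decide +kernel

set_option maxRecDepth 1000000 in
set_option maxHeartbeats 0 in
theorem chkStd_D4b : chkStd fdD4 fxD4 [3, 1, 0, 2] 5 = true := by decide +kernel

set_option maxRecDepth 1000000 in
set_option maxHeartbeats 0 in
theorem chkStd_D4e : chkStd fdD4 fxD4 [3, 1, 2, 0] 5 = true := by decide +kernel

theorem graphData_D4 {F : Type*} [Field F] [Finite F] :
    GraphData cert12_D4 F
      [[0, 1, 2, 3], [0, 1, 3, 2], [2, 1, 0, 3], [2, 1, 3, 0], [3, 1, 0, 2], [3, 1, 2, 0]] where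
  nodup := by decide
  len := by
    intro L hL
    simp only [List.mem_cons, List.not_mem_nil, or_false] at hL
    rcases hL with rfl | rfl | rfl | rfl | rfl | rfl <;> rfl
  ex := by
    intro L hL
    simp only [List.mem_cons, List.not_mem_nil, or_false] at hL
    rcases hL with rfl | rfl | rfl | rfl | rfl | rfl
    · apply cert12_D4.ex_id
      intro i hi
      have hi' : i < 4 := hi
      interval_cases i <;> rfl
    · apply cert12_D4.ex_ga gaD4c_ChkGInv gaD4c_ChkGraph gaD4c_simple _ _ _ 5 chkStd_D4c
      · intro i hi
        have hi' : i < 4 := hi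
        interval_cases i <;> rfl
      · intro i hi
        have hi' : i < 4 := hi
        interval_cases i <;> decide
    · apply cert12_D4.ex_ga gaD4d_ChkGInv gaD4d_ChkGraph gaD4d_simple _ _ _ 5 chkStd_D4d
      · intro i hi
        have hi' : i < 4 := hi
        interval_cases i <;> rfl
      · intro i hi
        have hi' : i < 4 := hi
        interval_cases i <;> decide
    · apply cert12_D4.ex_ga gaD4a_ChkGInv gaD4a_ChkGraph gaD4a_simple _ _ _ 5 chkStd_D4a
      · intro i hi
        have hi' : i < 4 := hi
        interval_cases i <;> rfl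
      · intro i hi
        have hi' : i < 4 := hi
        interval_cases i <;> decide
    · apply cert12_D4.ex_ga gaD4b_ChkGInv gaD4b_ChkGraph gaD4b_simple _ _ _ 5 chkStd_D4b
      · intro i hi
        have hi' : i < 4 := hi
        interval_cases i <;> rfl
      · intro i hi
        have hi' : i < 4 := hi
        interval_cases i <;> decide
    · apply cert12_D4.ex_ga gaD4e_ChkGInv gaD4e_ChkGraph gaD4e_simple _ _ _ 5 chkStd_D4e
      · intro i hi
        have hi' : i < 4 := hi
        interval_cases i <;> rfl
      · intro i hi
        have hi' : i < 4 := hi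
        interval_cases i <;> decide
  all := by
    intro θ' ρ f g S
    have hmem := S.map_rho_mem_autList chkAdj_D4
    rwa [show fdD4.l = 4 from rfl, autList_D4] at hmem

end Cfsg.Agent.Lib.H29.Chev
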