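import Mathlib
import Cfsg.Prelude.Def_ChevAutomorphisms
import Cfsg.Prelude.Def_LieChev
import Cfsg.Agent.Lib.H29.ChevOut5
import Cfsg.Agent.Lib.H29.ChevAutF4
import Cfsg.Agent.Lib.H29.ChevDiagOrd

/-! The order of the outer automorphism group of `F₄(q)` -/

set_option autoImplicit false
set_option linter.unusedSimpArgs false
set_option linter.unusedVariables false

namespace Cfsg.Agent.Lib.H29.Chev

open Cfsg.Lie Matrix

/-- an automorphism reversing the diagram of `F₄` exists only in characteristic `2` -/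
theorem char_F4_of_swap {F : Type*} [Field F] [Finite F] (p : ℕ) [hp : Fact p.Prime] [hc : CharP F p]
    {θ' : ↥(chevF4.group F) ≃* ↥(chevF4.group F)} {ρ : ℕ → ℕ}
    {f g : ℕ → F →+ F} (S : SimpAct cert12_F4 θ' ρ f g) (h1 : ρ 1 = 2) (h2 : ρ 2 = 1) : p = 2 := by
  have ht0 := S.tracks_pos 1 (by decide)
  rw [h1] at ht0
  have ht1 := S.tracks_sw 2 (by decide) 27 25 (by decide) (by decide) ht0
  have e1 : fdF4.sw fxF4 2 27 = 28 := by decide +kernel
  have e2 : fdF4.sw fxF4 (ρ 2) 25 = 30 := by
    rw [h2]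
    decide +kernel
  rw [e1, e2] at ht1
  have hT : fdF4.commT 25 30 = [] := by decide +kernel
  have hc1 : cert12_F4.Comm F 25 30 := by
    intro t u
    have hcf := cert12_F4.c6.cfg (F := F) 25 30 (by decide) (by decide) (by decide) (by decide) t u
    rw [hT] at hcf
    simp only [Cert2.ctG, List.map_nil, List.prod_nil, mul_one] at hcf
    exact hcf.symm
  have hc2 : cert12_F4.Comm F 27 28 := cert12_F4.comm_of_tracks θ' 27 25 28 30 ht0 ht1 hc1
  have hT2 : fdF4.commT 27 28 = [(30, 2, 1, 1)] := by decide +kernel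
  have h5 := cert12_F4.coeff_zero_of_comm (F := F) 27 28 (by decide) (by decide) (by decide) (by decide) 30 2 hT2
    (by decide) hc2
  exact charP_of_cast_eq_zero p 2 (by norm_num) (by exact_mod_cast h5)

set_option maxRecDepth 1000000 in
set_option maxHeartbeats 0 in
theorem rhoF4_sign : ∀ r < 48, rhoF4 r < 48 ∧ (24 ≤ rhoF4 r ↔ 24 ≤ r) := by decide +kernel

/-- the special automorphism of `F₄(q)`, `q` a power of `2`, realises the reversal of the diagram -/
theorem hex_F4 {F : Type*} [Field F] [Finite F] [CharP F 2] :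
    ∃ γ : ↥(chevF4.group F) ≃* ↥(chevF4.group F), StdAut γ ∧ ∀ i < fdF4.l, [3, 2, 1, 0].getD i 0 < fdF4.l ∧
      cert12_F4.Tracks γ (fdF4.simples.getD i 0) (fdF4.simples.getD ([3, 2, 1, 0].getD i 0) 0) ∧
      cert12_F4.Tracks γ (fdF4.n - 1 - fdF4.simples.getD i 0)
        (fdF4.n - 1 - fdF4.simples.getD ([3, 2, 1, 0].getD i 0) 0) ∧
      γ (cert12_F4.xg (fdF4.simples.getD i 0) 1) = cert12_F4.xg (fdF4.simples.getD ([3, 2, 1, 0].getD i 0) 0) 1 := by
  obtain ⟨τ, _, hτ⟩ := exists_isogenyF4 (F := F) (finite_perfect 2)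
  have hτ' : ∀ r < 48, ∀ t : F, τ (cert12_F4.xg r t) = cert12_F4.xg (rhoF4 r) (t ^ lamF4 r) :=
    fun r hr t => Subtype.ext (hτ r hr t)
  refine ⟨τ, ?_, ?_⟩
  · apply cert12_F4.stdAut_of_tracks
    intro r hr
    have hr' : r < 48 := hr
    exact ⟨rhoF4 r, (rhoF4_sign r hr').1, (rhoF4_sign r hr').2, fun t => ⟨_, hτ' r hr' t⟩⟩
  · intro i hi
    have hi' : i < 4 := hi
    interval_cases i
    · exact ⟨by decide, fun t => ⟨_, hτ' 33 (by decide) t⟩, fun t => ⟨_, hτ' 14 (by decide) t⟩, by
        rw [show fdF4.simples.getD 0 0 = 33 from rfl, hτ' 33 (by decide) 1, one_pow]; rfl⟩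
    · exact ⟨by decide, fun t => ⟨_, hτ' 27 (by decide) t⟩, fun t => ⟨_, hτ' 20 (by decide) t⟩, by
        rw [show fdF4.simples.getD 1 0 = 27 from rfl, hτ' 27 (by decide) 1, one_pow]; rfl⟩
    · exact ⟨by decide, fun t => ⟨_, hτ' 25 (by decide) t⟩, fun t => ⟨_, hτ' 22 (by decide) t⟩, by
        rw [show fdF4.simples.getD 2 0 = 25 from rfl, hτ' 25 (by decide) 1, one_pow]; rfl⟩
    · exact ⟨by decide, fun t => ⟨_, hτ' 24 (by decide) t⟩, fun t => ⟨_, hτ' 23 (by decide) t⟩, by
        rw [show fdF4.simples.getD 3 0 = 24 from rfl, hτ' 24 (by decide) 1, one_pow]; rfl⟩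

theorem card_out_F4 {F : Type*} [Field F] [Fintype F] (p f : ℕ) [Fact p.Prime] [CharP F p]
    (hF : Fintype.card F = p ^ f) :
    Nat.card (Cfsg.Out ↥(chevF4.group F)) = Nat.gcd 2 p * f := by
  have hcF : Nat.card F = p ^ f := by rw [Nat.card_eq_fintype_card, hF]
  have hd := card_diag_F4 (F := F)
  rw [hcF] at hd
  have hq : 0 < (p ^ f - 1) ^ 4 := by
    apply Nat.pow_pos
    have : 1 < p ^ f := by rw [← hF]; exact Fintype.one_lt_card
    omega
  by_cases hp2 : p = 2
  · subst hp2
    have h := cert12_F4.card_out (F := F) 2 f hF fdF4_chkOpp diagConj_F4 esF4 chkConn_F4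
      [[0, 1, 2, 3], [3, 2, 1, 0]] (by decide) (by
        intro L hL
        simp only [List.mem_cons, List.not_mem_nil, or_false] at hL
        rcases hL with rfl | rfl <;> rfl) (by
        intro L hL
        simp only [List.mem_cons, List.not_mem_nil, or_false] at hL
        rcases hL with rfl | rfl
        · apply cert12_F4.hex_id
          intro i hi
          have hi' : i < 4 := hi
          interval_cases i <;> rfl
        · exact hex_F4) (by
        intro θ' ρ f g S
        have hmem := S.map_rho_mem_autList chkAdj_F4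
        rwa [show fdF4.l = 4 from rfl, autList_F4] at hmem)
    rw [hd, show fdF4.l = 4 from rfl] at h
    have h2 : (2 ^ f - 1) ^ 4 * Nat.card (Cfsg.Out ↥(chevF4.group F)) = (2 ^ f - 1) ^ 4 * (Nat.gcd 2 2 * f) := by
      rw [mul_comm, h]
      simp only [List.length_cons, List.length_nil, Nat.gcd_self]
      ring
    exact Nat.eq_of_mul_eq_mul_left hq h2
  · have hg : Nat.gcd 2 p = 1 := by
      have hpp : p.Prime := Fact.out
      exact (Nat.coprime_primes Nat.prime_two hpp).mpr (Ne.symm hp2)
    rw [hg, one_mul]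
    have h := cert12_F4.card_out (F := F) p f hF fdF4_chkOpp diagConj_F4 esF4 chkConn_F4
      [[0, 1, 2, 3]] (by decide) (by
        intro L hL
        rw [List.mem_singleton] at hL
        subst hL
        rfl) (by
        intro L hL
        rw [List.mem_singleton] at hL
        subst hL
        apply cert12_F4.hex_id
        intro i hi
        have hi' : i < 4 := hi
        interval_cases i <;> rfl) (by
        intro θ' ρ f g S
        have hmem := S.map_rho_mem_autList chkAdj_F4
        rw [show fdF4.l = 4 from rfl, autList_F4] at hmem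
        simp only [List.mem_cons, List.not_mem_nil, or_false] at hmem
        rcases hmem with hmem | hmem
        · rw [show fdF4.l = 4 from rfl, hmem]
          exact List.mem_singleton.mpr rfl
        · exact absurd (char_F4_of_swap p S (S.rho_eq_of_map _ hmem 1 (by decide))
            (S.rho_eq_of_map _ hmem 2 (by decide))) hp2)
    rw [hd, show fdF4.l = 4 from rfl, List.length_singleton, mul_one, mul_comm] at h
    exact Nat.eq_of_mul_eq_mul_left hq h

end Cfsg.Agent.Lib.H29.Chev
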