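import Mathlib
import Cfsg.Prelude.Def_ChevAutomorphisms
import Cfsg.Prelude.Def_LieChev
import Cfsg.Agent.Lib.H29.ChevOut5
import Cfsg.Agent.Lib.H29.ChevAutG2
import Cfsg.Agent.Lib.H29.ChevDiagOrd

/-! The order of the outer automorphism group of `G₂(q)` -/

set_option autoImplicit false
set_option linter.unusedSimpArgs false
set_option linter.unusedVariables false

namespace Cfsg.Agent.Lib.H29.Chev

open Cfsg.Lie Matrix

/-- an automorphism exchanging the two fundamental root subgroups of `G₂` exists only in characteristic `3` -/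
theorem char_G2_of_swap {F : Type*} [Field F] [Finite F] (p : ℕ) [hp : Fact p.Prime] [hc : CharP F p]
    {θ' : ↥(chevG2.group F) ≃* ↥(chevG2.group F)} {ρ : ℕ → ℕ}
    {f g : ℕ → F →+ F} (S : SimpAct cert12_G2 θ' ρ f g) (h0 : ρ 0 = 1) (h1 : ρ 1 = 0) : p = 3 := by
  have ht0 := S.tracks_pos 0 (by decide)
  rw [h0] at ht0
  have ht1 := S.tracks_word [0, 1] (by decide) 7 6 (by decide) (by decide) ht0
  have e1 : fdG2.wact fxG2 [0, 1] 7 = 9 := by decide +kernel
  have e2 : fdG2.wact fxG2 ([0, 1].map ρ) 6 = 11 := by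
    simp only [List.map_cons, List.map_nil, h0, h1]
    decide +kernel
  rw [e1, e2] at ht1
  have hT : fdG2.commT 6 11 = [] := by decide +kernel
  have hc1 : cert12_G2.Comm F 6 11 := by
    intro t u
    have hcf := cert12_G2.c6.cfg (F := F) 6 11 (by decide) (by decide) (by decide) (by decide) t u
    rw [hT] at hcf
    simp only [Cert2.ctG, List.map_nil, List.prod_nil, mul_one] at hcf
    exact hcf.symm
  have hc2 : cert12_G2.Comm F 7 9 := cert12_G2.comm_of_tracks θ' 7 6 9 11 ht0 ht1 hc1
  have hT2 : fdG2.commT 7 9 = [(10, 3, 1, 1)] := by decide +kernel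
  have h3 := cert12_G2.coeff_zero_of_comm (F := F) 7 9 (by decide) (by decide) (by decide) (by decide) 10 3 hT2
    (by decide) hc2
  exact charP_of_cast_eq_zero p 3 (by norm_num) (by exact_mod_cast h3)

set_option maxRecDepth 1000000 in
set_option maxHeartbeats 0 in
theorem rhoG2_sign : ∀ r < 12, rhoG2 r < 12 ∧ (6 ≤ rhoG2 r ↔ 6 ≤ r) := by decide +kernel

/-- the special automorphism of `G₂(q)`, `q` a power of `3`, realises the exchange of the fundamental roots -/
theorem hex_G2 {F : Type*} [Field F] [Finite F] [CharP F 3] :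
    ∃ γ : ↥(chevG2.group F) ≃* ↥(chevG2.group F), StdAut γ ∧ ∀ i < fdG2.l, [1, 0].getD i 0 < fdG2.l ∧
      cert12_G2.Tracks γ (fdG2.simples.getD i 0) (fdG2.simples.getD ([1, 0].getD i 0) 0) ∧
      cert12_G2.Tracks γ (fdG2.n - 1 - fdG2.simples.getD i 0) (fdG2.n - 1 - fdG2.simples.getD ([1, 0].getD i 0) 0) ∧
      γ (cert12_G2.xg (fdG2.simples.getD i 0) 1) = cert12_G2.xg (fdG2.simples.getD ([1, 0].getD i 0) 0) 1 := by
  obtain ⟨τ, _, hτ⟩ := exists_isogenyG2 (F := F) (finite_perfect 3)
  have hτ' : ∀ r < 12, ∀ t : F, τ (cert12_G2.xg r t) = cert12_G2.xg (rhoG2 r) (t ^ lamG2 r) :=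
    fun r hr t => Subtype.ext (hτ r hr t)
  refine ⟨τ, ?_, ?_⟩
  · apply cert12_G2.stdAut_of_tracks
    intro r hr
    have hr' : r < 12 := hr
    exact ⟨rhoG2 r, (rhoG2_sign r hr').1, (rhoG2_sign r hr').2, fun t => ⟨_, hτ' r hr' t⟩⟩
  · intro i hi
    have hi' : i < 2 := hi
    interval_cases i
    · exact ⟨by decide, fun t => ⟨_, hτ' 7 (by decide) t⟩, fun t => ⟨_, hτ' 4 (by decide) t⟩, by
        rw [show fdG2.simples.getD 0 0 = 7 from rfl, hτ' 7 (by decide) 1, one_pow]; rfl⟩
    · exact ⟨by decide, fun t => ⟨_, hτ' 6 (by decide) t⟩, fun t => ⟨_, hτ' 5 (by decide) t⟩, by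
        rw [show fdG2.simples.getD 1 0 = 6 from rfl, hτ' 6 (by decide) 1, one_pow]; rfl⟩

theorem card_out_G2 {F : Type*} [Field F] [Fintype F] (p f : ℕ) [Fact p.Prime] [CharP F p]
    (hF : Fintype.card F = p ^ f) :
    Nat.card (Cfsg.Out ↥(chevG2.group F)) = if p = 3 then 2 * f else f := by
  have hcF : Nat.card F = p ^ f := by rw [Nat.card_eq_fintype_card, hF]
  have hd := card_diag_G2 (F := F)
  rw [hcF] at hd
  have hq : 0 < (p ^ f - 1) ^ 2 := by
    apply Nat.pow_pos
    have : 1 < p ^ f := by rw [← hF]; exact Fintype.one_lt_card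
    omega
  by_cases hp3 : p = 3
  · subst hp3
    rw [if_pos rfl]
    have h := cert12_G2.card_out (F := F) 3 f hF fdG2_chkOpp diagConj_G2 esG2 chkConn_G2
      [[0, 1], [1, 0]] (by decide) (by
        intro L hL
        simp only [List.mem_cons, List.not_mem_nil, or_false] at hL
        rcases hL with rfl | rfl <;> rfl) (by
        intro L hL
        simp only [List.mem_cons, List.not_mem_nil, or_false] at hL
        rcases hL with rfl | rfl
        · apply cert12_G2.hex_id
          intro i hi
          have hi' : i < 2 := hi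
          interval_cases i <;> rfl
        · exact hex_G2) (by
        intro θ' ρ f g S
        have hmem := S.map_rho_mem_autList chkAdj_G2
        rwa [show fdG2.l = 2 from rfl, autList_G2] at hmem)
    rw [hd, show fdG2.l = 2 from rfl] at h
    have h2 : (3 ^ f - 1) ^ 2 * Nat.card (Cfsg.Out ↥(chevG2.group F)) = (3 ^ f - 1) ^ 2 * (2 * f) := by
      rw [mul_comm, h]
      simp only [List.length_cons, List.length_nil]
      ring
    exact Nat.eq_of_mul_eq_mul_left hq h2
  · rw [if_neg hp3]
    have h := cert12_G2.card_out (F := F) p f hF fdG2_chkOpp diagConj_G2 esG2 chkConn_G2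
      [[0, 1]] (by decide) (by
        intro L hL
        rw [List.mem_singleton] at hL
        subst hL
        rfl) (by
        intro L hL
        rw [List.mem_singleton] at hL
        subst hL
        apply cert12_G2.hex_id
        intro i hi
        have hi' : i < 2 := hi
        interval_cases i <;> rfl) (by
        intro θ' ρ f g S
        have hmem := S.map_rho_mem_autList chkAdj_G2
        rw [show fdG2.l = 2 from rfl, autList_G2] at hmem
        simp only [List.mem_cons, List.not_mem_nil, or_false] at hmem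
        rcases hmem with hmem | hmem
        · rw [show fdG2.l = 2 from rfl, hmem]
          exact List.mem_singleton.mpr rfl
        · exact absurd (char_G2_of_swap p S (S.rho_eq_of_map _ hmem 0 (by decide))
            (S.rho_eq_of_map _ hmem 1 (by decide))) hp3)
    rw [hd, show fdG2.l = 2 from rfl, List.length_singleton, mul_one, mul_comm] at h
    exact Nat.eq_of_mul_eq_mul_left hq h

end Cfsg.Agent.Lib.H29.Chev
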