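import Mathlib
import Cfsg.Prelude.Def_KGroupFacts
import Cfsg.Prelude.Def_ChevAutomorphisms
import Cfsg.Prelude.Def_LieChev
import Cfsg.Agent.Lib.H29.ChevOut12
import Cfsg.Agent.Lib.H29.ChevOutG2
import Cfsg.Agent.Lib.H29.ChevOutF4
import Cfsg.Agent.Lib.H29.ChevAutB2

/-! The graph data of the types `G₂`, `F₄`, `B₂` -/

set_option autoImplicit false
set_option linter.unusedSimpArgs false
set_option linter.unusedVariables false

namespace Cfsg.Agent.Lib.H29.Chev

open Cfsg.Lie Matrix

/-- the special automorphism of `G₂(q)`, `q` a power of `3` -/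
theorem ex_G2 {F : Type*} [Field F] [Finite F] [CharP F 3] :
    ∃ γ : MulAut ↥(chevG2.group F), StdAut γ ∧ QLin cert12_G2 γ (fun i => [1, 0].getD i 0) ∧
      ∀ i < fdG2.l, γ (cert12_G2.xg (fdG2.simples.getD i 0) 1) =
        cert12_G2.xg (fdG2.simples.getD ([1, 0].getD i 0) 0) 1 := by
  obtain ⟨τ, _, hτ⟩ := exists_isogenyG2 (F := F) (finite_perfect 3)
  have hτ' : ∀ r < 12, ∀ t : F, τ (cert12_G2.xg r t) = cert12_G2.xg (rhoG2 r) (t ^ lamG2 r) :=
    fun r hr t => Subtype.ext (hτ r hr t)
  have hstd : StdAut τ := by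
    apply cert12_G2.stdAut_of_tracks
    intro r hr
    have hr' : r < 12 := hr
    exact ⟨rhoG2 r, (rhoG2_sign r hr').1, (rhoG2_sign r hr').2, fun t => ⟨_, hτ' r hr' t⟩⟩
  apply cert12_G2.ex_of_pow [1, 0] τ hstd (fun i => lamG2 (fdG2.simples.getD i 0))
    (fun i => lamG2 (fdG2.n - 1 - fdG2.simples.getD i 0))
  intro i hi
  have hi' : i < 2 := hi
  interval_cases i
  · exact ⟨by decide, fun t => hτ' 7 (by decide) t, fun t => hτ' 4 (by decide) t⟩
  · exact ⟨by decide, fun t => hτ' 6 (by decide) t, fun t => hτ' 5 (by decide) t⟩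

theorem graphData_G2_3 {F : Type*} [Field F] [Finite F] [CharP F 3] :
    GraphData cert12_G2 F [[0, 1], [1, 0]] where
  nodup := by decide
  len := by
    intro L hL
    simp only [List.mem_cons, List.not_mem_nil, or_false] at hL
    rcases hL with rfl | rfl <;> rfl
  ex := by
    intro L hL
    simp only [List.mem_cons, List.not_mem_nil, or_false] at hL
    rcases hL with rfl | rfl
    · apply cert12_G2.ex_id
      intro i hi
      have hi' : i < 2 := hi
      interval_cases i <;> rfl
    · exact ex_G2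
  all := by
    intro θ' ρ f g S
    have hmem := S.map_rho_mem_autList chkAdj_G2
    rwa [show fdG2.l = 2 from rfl, autList_G2] at hmem

theorem graphData_G2 {F : Type*} [Field F] [Finite F] (p : ℕ) [Fact p.Prime] [CharP F p] (hp3 : p ≠ 3) :
    GraphData cert12_G2 F [[0, 1]] where
  nodup := by decide
  len := by
    intro L hL
    rw [List.mem_singleton] at hL
    subst hL
    rfl
  ex := by
    intro L hL
    rw [List.mem_singleton] at hL
    subst hL
    apply cert12_G2.ex_id
    intro i hi
    have hi' : i < 2 := hi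
    interval_cases i <;> rfl
  all := by
    intro θ' ρ f g S
    have hmem := S.map_rho_mem_autList chkAdj_G2
    rw [show fdG2.l = 2 from rfl, autList_G2] at hmem
    simp only [List.mem_cons, List.not_mem_nil, or_false] at hmem
    rcases hmem with hmem | hmem
    · rw [show fdG2.l = 2 from rfl, hmem]
      exact List.mem_singleton.mpr rfl
    · exact absurd (char_G2_of_swap p S (S.rho_eq_of_map _ hmem 0 (by decide))
        (S.rho_eq_of_map _ hmem 1 (by decide))) hp3

/-- the special automorphism of `F₄(q)`, `q` a power of `2` -/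
theorem ex_F4 {F : Type*} [Field F] [Finite F] [CharP F 2] :
    ∃ γ : MulAut ↥(chevF4.group F), StdAut γ ∧ QLin cert12_F4 γ (fun i => [3, 2, 1, 0].getD i 0) ∧
      ∀ i < fdF4.l, γ (cert12_F4.xg (fdF4.simples.getD i 0) 1) =
        cert12_F4.xg (fdF4.simples.getD ([3, 2, 1, 0].getD i 0) 0) 1 := by
  obtain ⟨τ, _, hτ⟩ := exists_isogenyF4 (F := F) (finite_perfect 2)
  have hτ' : ∀ r < 48, ∀ t : F, τ (cert12_F4.xg r t) = cert12_F4.xg (rhoF4 r) (t ^ lamF4 r) :=
    fun r hr t => Subtype.ext (hτ r hr t)
  have hstd : StdAut τ := by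
    apply cert12_F4.stdAut_of_tracks
    intro r hr
    have hr' : r < 48 := hr
    exact ⟨rhoF4 r, (rhoF4_sign r hr').1, (rhoF4_sign r hr').2, fun t => ⟨_, hτ' r hr' t⟩⟩
  apply cert12_F4.ex_of_pow [3, 2, 1, 0] τ hstd (fun i => lamF4 (fdF4.simples.getD i 0))
    (fun i => lamF4 (fdF4.n - 1 - fdF4.simples.getD i 0))
  intro i hi
  have hi' : i < 4 := hi
  interval_cases i
  · exact ⟨by decide, fun t => hτ' 33 (by decide) t, fun t => hτ' 14 (by decide) t⟩
  · exact ⟨by decide, fun t => hτ' 27 (by decide) t, fun t => hτ' 20 (by decide) t⟩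
  · exact ⟨by decide, fun t => hτ' 25 (by decide) t, fun t => hτ' 22 (by decide) t⟩
  · exact ⟨by decide, fun t => hτ' 24 (by decide) t, fun t => hτ' 23 (by decide) t⟩

theorem graphData_F4_2 {F : Type*} [Field F] [Finite F] [CharP F 2] :
    GraphData cert12_F4 F [[0, 1, 2, 3], [3, 2, 1, 0]] where
  nodup := by decide
  len := by
    intro L hL
    simp only [List.mem_cons, List.not_mem_nil, or_false] at hL
    rcases hL with rfl | rfl <;> rfl
  ex := by
    intro L hL
    simp only [List.mem_cons, List.not_mem_nil, or_false] at hL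
    rcases hL with rfl | rfl
    · apply cert12_F4.ex_id
      intro i hi
      have hi' : i < 4 := hi
      interval_cases i <;> rfl
    · exact ex_F4
  all := by
    intro θ' ρ f g S
    have hmem := S.map_rho_mem_autList chkAdj_F4
    rwa [show fdF4.l = 4 from rfl, autList_F4] at hmem

theorem graphData_F4 {F : Type*} [Field F] [Finite F] (p : ℕ) [Fact p.Prime] [CharP F p] (hp2 : p ≠ 2) :
    GraphData cert12_F4 F [[0, 1, 2, 3]] where
  nodup := by decide
  len := by
    intro L hL
    rw [List.mem_singleton] at hL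
    subst hL
    rfl
  ex := by
    intro L hL
    rw [List.mem_singleton] at hL
    subst hL
    apply cert12_F4.ex_id
    intro i hi
    have hi' : i < 4 := hi
    interval_cases i <;> rfl
  all := by
    intro θ' ρ f g S
    have hmem := S.map_rho_mem_autList chkAdj_F4
    rw [show fdF4.l = 4 from rfl, autList_F4] at hmem
    simp only [List.mem_cons, List.not_mem_nil, or_false] at hmem
    rcases hmem with hmem | hmem
    · rw [show fdF4.l = 4 from rfl, hmem]
      exact List.mem_singleton.mpr rfl
    · exact absurd (char_F4_of_swap p S (S.rho_eq_of_map _ hmem 1 (by decide))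
        (S.rho_eq_of_map _ hmem 2 (by decide))) hp2

/-- an automorphism exchanging the two fundamental root subgroups of `B₂` exists only in characteristic `2` -/
theorem char_B2_of_swap {F : Type*} [Field F] [Finite F] (p : ℕ) [hp : Fact p.Prime] [hc : CharP F p]
    {θ' : ↥(chevB2.group F) ≃* ↥(chevB2.group F)} {ρ : ℕ → ℕ}
    {f g : ℕ → F →+ F} (S : SimpAct cert12_B2 θ' ρ f g) (h0 : ρ 0 = 1) (h1 : ρ 1 = 0) : p = 2 := by
  have ht0 := S.tracks_pos 0 (by decide)
  rw [h0] at ht0
  have ht1 := S.tracks_sw 1 (by decide) 5 4 (by decide) (by decide) ht0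
  have e1 : fdB2.sw fxB2 1 5 = 6 := by decide +kernel
  have e2 : fdB2.sw fxB2 (ρ 1) 4 = 7 := by
    rw [h1]
    decide +kernel
  rw [e1, e2] at ht1
  have hT : fdB2.commT 4 7 = [] := by decide +kernel
  have hc1 : cert12_B2.Comm F 4 7 := by
    intro t u
    have hcf := cert12_B2.c6.cfg (F := F) 4 7 (by decide) (by decide) (by decide) (by decide) t u
    rw [hT] at hcf
    simp only [Cert2.ctG, List.map_nil, List.prod_nil, mul_one] at hcf
    exact hcf.symm
  have hc2 : cert12_B2.Comm F 5 6 := cert12_B2.comm_of_tracks θ' 5 4 6 7 ht0 ht1 hc1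
  have hT2 : fdB2.commT 5 6 = [(7, 2, 1, 1)] := by decide +kernel
  have h3 := cert12_B2.coeff_zero_of_comm (F := F) 5 6 (by decide) (by decide) (by decide) (by decide) 7 2 hT2
    (by decide) hc2
  exact charP_of_cast_eq_zero p 2 (by norm_num) (by exact_mod_cast h3)

set_option maxRecDepth 1000000 in
set_option maxHeartbeats 0 in
theorem rhoB2_sign : ∀ r < 8, rhoB2 r < 8 ∧ (4 ≤ rhoB2 r ↔ 4 ≤ r) := by decide +kernel

/-- the special automorphism of `B₂(q)`, `q` a power of `2` -/
theorem ex_B2 {F : Type*} [Field F] [Finite F] [CharP F 2] :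
    ∃ γ : MulAut ↥(chevB2.group F), StdAut γ ∧ QLin cert12_B2 γ (fun i => [1, 0].getD i 0) ∧
      ∀ i < fdB2.l, γ (cert12_B2.xg (fdB2.simples.getD i 0) 1) =
        cert12_B2.xg (fdB2.simples.getD ([1, 0].getD i 0) 0) 1 := by
  obtain ⟨τ, _, hτ⟩ := exists_isogenyB2 (F := F) (finite_perfect 2)
  have hτ' : ∀ r < 8, ∀ t : F, τ (cert12_B2.xg r t) = cert12_B2.xg (rhoB2 r) (t ^ lamB2 r) :=
    fun r hr t => Subtype.ext (hτ r hr t)
  have hstd : StdAut τ := by
    apply cert12_B2.stdAut_of_tracks
    intro r hr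
    have hr' : r < 8 := hr
    exact ⟨rhoB2 r, (rhoB2_sign r hr').1, (rhoB2_sign r hr').2, fun t => ⟨_, hτ' r hr' t⟩⟩
  apply cert12_B2.ex_of_pow [1, 0] τ hstd (fun i => lamB2 (fdB2.simples.getD i 0))
    (fun i => lamB2 (fdB2.n - 1 - fdB2.simples.getD i 0))
  intro i hi
  have hi' : i < 2 := hi
  interval_cases i
  · exact ⟨by decide, fun t => hτ' 5 (by decide) t, fun t => hτ' 2 (by decide) t⟩
  · exact ⟨by decide, fun t => hτ' 4 (by decide) t, fun t => hτ' 3 (by decide) t⟩

theorem graphData_B2_2 {F : Type*} [Field F] [Finite F] [CharP F 2] :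
    GraphData cert12_B2 F [[0, 1], [1, 0]] where
  nodup := by decide
  len := by
    intro L hL
    simp only [List.mem_cons, List.not_mem_nil, or_false] at hL
    rcases hL with rfl | rfl <;> rfl
  ex := by
    intro L hL
    simp only [List.mem_cons, List.not_mem_nil, or_false] at hL
    rcases hL with rfl | rfl
    · apply cert12_B2.ex_id
      intro i hi
      have hi' : i < 2 := hi
      interval_cases i <;> rfl
    · exact ex_B2
  all := by
    intro θ' ρ f g S
    have hmem := S.map_rho_mem_autList chkAdj_B2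
    rwa [show fdB2.l = 2 from rfl, autList_B2] at hmem

theorem graphData_B2 {F : Type*} [Field F] [Finite F] (p : ℕ) [Fact p.Prime] [CharP F p] (hp2 : p ≠ 2) :
    GraphData cert12_B2 F [[0, 1]] where
  nodup := by decide
  len := by
    intro L hL
    rw [List.mem_singleton] at hL
    subst hL
    rfl
  ex := by
    intro L hL
    rw [List.mem_singleton] at hL
    subst hL
    apply cert12_B2.ex_id
    intro i hi
    have hi' : i < 2 := hi
    interval_cases i <;> rfl
  all := by
    intro θ' ρ f g S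
    have hmem := S.map_rho_mem_autList chkAdj_B2
    rw [show fdB2.l = 2 from rfl, autList_B2] at hmem
    simp only [List.mem_cons, List.not_mem_nil, or_false] at hmem
    rcases hmem with hmem | hmem
    · rw [show fdB2.l = 2 from rfl, hmem]
      exact List.mem_singleton.mpr rfl
    · exact absurd (char_B2_of_swap p S (S.rho_eq_of_map _ hmem 0 (by decide))
        (S.rho_eq_of_map _ hmem 1 (by decide))) hp2

end Cfsg.Agent.Lib.H29.Chev
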