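import Mathlib
import Cfsg.Prelude.Def_KGroupFacts
import Cfsg.Prelude.Def_ChevAutomorphisms
import Cfsg.Prelude.Def_LieChev
import Cfsg.Prelude.Def_ChevD4
import Cfsg.Agent.Lib.H29.ChevOut13
import Cfsg.Agent.Lib.H29.ChevOut14

/-! The structure of the outer automorphism groups of the Chevalley groups of the types
`G₂`, `B₂`, `D₄`, `F₄`, `E₆`, `E₇`, `E₈`. -/

set_option autoImplicit false
set_option linter.unusedSimpArgs false
set_option linter.unusedVariables false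

namespace Cfsg.Agent.Lib.H29.Chev

open Cfsg.Lie Matrix

variable {D : ChevalleyDatum} {fd : FD} {fx : FX} {fc : FC} {fz : FZ} {F : Type*} [Field F]

/-- the structure of `Out`, with the three possibilities for the graph part -/
theorem Cert12.out_final (C : Cert12 D fd fx fc fz) [Finite F] (p : ℕ) [hp : Fact p.Prime] [CharP F p]
    (hO : fd.chkOpp fx = true) (hS : DiagConj D F) (es : List (ℕ × ℕ)) (hconn : chkConn fd es = true)
    {Ls : List (List ℕ)} (G : GraphData C F Ls)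
    (hlen : Ls.length = 1 ∨ Ls.length = 2 ∨ (Ls.length = 6 ∧ ∃ L₁ ∈ Ls, ∃ L₂ ∈ Ls, ∃ i < fd.l,
      L₁.getD (L₂.getD i 0) 0 ≠ L₂.getD (L₁.getD i 0) 0))
    (Dbar Fbar : Subgroup (Cfsg.Out ↥(D.group F)))
    (hDbar : Dbar = (Subgroup.closure {φ : MulAut ↥(D.group F) | D.IsDiagonalAut φ}).map
      (QuotientGroup.mk' (Cfsg.Inn ↥(D.group F))))
    (hFbar : Fbar = (Subgroup.closure {φ : MulAut ↥(D.group F) | D.IsFieldAut φ}).map
      (QuotientGroup.mk' (Cfsg.Inn ↥(D.group F)))) :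
    Dbar.Normal ∧ IsMulCommutative ↥Dbar ∧ IsCyclic ↥Fbar ∧ (Dbar ⊔ Fbar).Normal ∧
      ((Dbar ⊔ Fbar).index = 1 ∨ (Dbar ⊔ Fbar).index = 2 ∨
        ((Dbar ⊔ Fbar).index = 6 ∧ ¬ commutator (Cfsg.Out ↥(D.group F)) ≤ Dbar ⊔ Fbar)) := by
  obtain ⟨h1, h2, h3, h4, h5, h6⟩ := C.out_structure p hO hS es hconn G Dbar Fbar hDbar hFbar
  refine ⟨h1, h2, h3, h4, ?_⟩
  rcases hlen with hl | hl | ⟨hl, L₁, hL₁, L₂, hL₂, i, hi, hne⟩
  · exact Or.inl (h5.trans hl)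
  · exact Or.inr (Or.inl (h5.trans hl))
  · exact Or.inr (Or.inr ⟨h5.trans hl, h6 L₁ hL₁ L₂ hL₂ ⟨i, hi, hne⟩⟩)

end Cfsg.Agent.Lib.H29.Chev
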