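import Mathlib
import Cfsg.Prelude.Def_ChevAutomorphisms
import Cfsg.Prelude.Def_LieChev
import Cfsg.Agent.Lib.H29.ChevOut5
import Cfsg.Agent.Lib.H29.ChevAutE7
import Cfsg.Agent.Lib.H29.ChevDiagOrd

/-! The order of the outer automorphism group of `E₇(q)` -/

set_option autoImplicit false
set_option linter.unusedSimpArgs false
set_option linter.unusedVariables false

namespace Cfsg.Agent.Lib.H29.Chev

open Cfsg.Lie Matrix

theorem card_out_E7 {F : Type*} [Field F] [Fintype F] (p f : ℕ) [Fact p.Prime] [CharP F p]
    (hF : Fintype.card F = p ^ f) :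
    Nat.card (Cfsg.Out ↥(chevE7.group F)) = Nat.gcd 2 (p ^ f - 1) * f := by
  have h := cert12_E7.card_out (F := F) p f hF fdE7_chkOpp diagConj_E7 esE7 chkConn_E7
    [[0, 1, 2, 3, 4, 5, 6]] (by decide) (by
      intro L hL
      rw [List.mem_singleton] at hL
      subst hL
      rfl) (by
      intro L hL
      rw [List.mem_singleton] at hL
      subst hL
      apply cert12_E7.hex_id
      intro i hi
      have hi' : i < 7 := hi
      interval_cases i <;> rfl) (by
      intro θ' ρ f g S
      have hmem := S.map_rho_mem_autList chkAdj_E7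
      rwa [show fdE7.l = 7 from rfl, autList_E7] at hmem)
  have hcF : Nat.card F = p ^ f := by rw [Nat.card_eq_fintype_card, hF]
  have hd := card_diag_E7 (F := F)
  rw [hcF] at hd
  rw [show fdE7.l = 7 from rfl, List.length_singleton, mul_one, ← hd] at h
  have hH : 0 < Nat.card (chevE7.diagonalSubgroup F) := Nat.card_pos
  have h2 : Nat.card (chevE7.diagonalSubgroup F) * Nat.card (Cfsg.Out ↥(chevE7.group F)) =
      Nat.card (chevE7.diagonalSubgroup F) * (Nat.gcd 2 (p ^ f - 1) * f) := by
    rw [mul_comm, h]; ring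
  exact Nat.eq_of_mul_eq_mul_left hH h2

end Cfsg.Agent.Lib.H29.Chev
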