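import Mathlib
import Cfsg.Prelude.Def_ChevAutomorphisms
import Cfsg.Prelude.Def_LieChev
import Cfsg.Agent.Lib.H29.ChevOut5
import Cfsg.Agent.Lib.H29.ChevAutE8
import Cfsg.Agent.Lib.H29.ChevDiagOrd

/-! The order of the outer automorphism group of `E₈(q)` -/

set_option autoImplicit false
set_option linter.unusedSimpArgs false
set_option linter.unusedVariables false

namespace Cfsg.Agent.Lib.H29.Chev

open Cfsg.Lie Matrix

theorem card_out_E8 {F : Type*} [Field F] [Fintype F] (p f : ℕ) [Fact p.Prime] [CharP F p]
    (hF : Fintype.card F = p ^ f) : Nat.card (Cfsg.Out ↥(chevE8.group F)) = f := by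
  have h := cert12_E8.card_out (F := F) p f hF fdE8_chkOpp diagConj_E8 esE8 chkConn_E8
    [[0, 1, 2, 3, 4, 5, 6, 7]] (by decide) (by
      intro L hL
      rw [List.mem_singleton] at hL
      subst hL
      rfl) (by
      intro L hL
      rw [List.mem_singleton] at hL
      subst hL
      apply cert12_E8.hex_id
      intro i hi
      have hi' : i < 8 := hi
      interval_cases i <;> rfl) (by
      intro θ' ρ f g S
      have hmem := S.map_rho_mem_autList chkAdj_E8
      rwa [show fdE8.l = 8 from rfl, autList_E8] at hmem)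
  have hcF : Nat.card F = p ^ f := by rw [Nat.card_eq_fintype_card, hF]
  rw [card_diag_E8, hcF, show fdE8.l = 8 from rfl, List.length_singleton, mul_one, mul_comm] at h
  have hq : 0 < (p ^ f - 1) ^ 8 := by
    apply Nat.pow_pos
    have : 1 < p ^ f := by rw [← hF]; exact Fintype.one_lt_card
    omega
  exact Nat.eq_of_mul_eq_mul_left hq h

end Cfsg.Agent.Lib.H29.Chev
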