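import Mathlib
import Cfsg.Prelude.Def_ChevStructure
import Cfsg.Agent.Lib.H29.ChevPL1
import Cfsg.Agent.Lib.H29.ChevTL9
import Cfsg.Agent.Lib.H29.ChevCent2
import Cfsg.Agent.Lib.H29.ChevPJ5

/-!
# Lifting Steinberg's relations to central extensions of a finite Chevalley group whose kernel has no `p`-torsion
-/

set_option autoImplicit false
set_option linter.unusedSectionVars false
set_option linter.unusedSimpArgs false
set_option linter.unusedVariables false

namespace Cfsg.Agent.Lib.H29.Chev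

open Cfsg.Lie Matrix

open scoped commutatorElement

/-- for the pairs of roots, Weyl words making both roots positive -/
structure ZW where
  wp : List (List (List ℕ))

def ZW.wpOf (zw : ZW) (r s : ℕ) : List ℕ := (zw.wp.getD r []).getD s []

/-- the table check for the root `r` -/
def FD.ChkW1 (fd : FD) (fx : FX) (zw : ZW) (r : ℕ) : Prop :=
  (∀ i ∈ zw.wpOf r r, i < fd.l) ∧ fd.n / 2 ≤ fd.wact fx (zw.wpOf r r) r

instance (fd : FD) (fx : FX) (zw : ZW) (r : ℕ) : Decidable (fd.ChkW1 fx zw r) := by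
  unfold FD.ChkW1
  infer_instance

/-- the table check for the pair `(r, s)` -/
def FD.ChkWP (fd : FD) (fx : FX) (zw : ZW) (r s : ℕ) : Prop :=
  (∀ i ∈ zw.wpOf r s, i < fd.l) ∧ fd.n / 2 ≤ fd.wact fx (zw.wpOf r s) r ∧ fd.n / 2 ≤ fd.wact fx (zw.wpOf r s) s ∧
    ∀ k ∈ fd.zsL r s, fd.n / 2 ≤ fd.wact fx (zw.wpOf r s) k

instance (fd : FD) (fx : FX) (zw : ZW) (r s : ℕ) : Decidable (fd.ChkWP fx zw r s) := by
  unfold FD.ChkWP
  infer_instance

variable {D : ChevalleyDatum} {fd : FD} {fx : FX} {fc : FC} {fz : FZ}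

namespace Cert12

variable (C : Cert12 D fd fx fc fz) (K : Type*) [Field K]
include C

/-- the subgroup of the Chevalley group that the Weyl word `w` conjugates into `U` -/
noncomputable def wSub (w : List ℕ) : Subgroup ↥(D.group K) :=
  (D.posUnipotent K).comap ((MulAut.conj (C.c6.c5.c3.nW (F := K) w)).toMonoidHom.comp (D.group K).subtype)

theorem isPGroup_wSub [Fintype K] (p : ℕ) [Fact p.Prime] [CharP K p] (w : List ℕ) : IsPGroup p ↥(C.wSub K w) := by
  unfold wSub
  apply IsPGroup.comap_of_injective (C.isPGroup_posUnipotent (F := K) p)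
  intro a b hab
  simp only [MonoidHom.comp_apply, MulEquiv.coe_toMonoidHom, Subgroup.subtype_apply] at hab
  exact Subtype.ext ((MulAut.conj (C.c6.c5.c3.nW (F := K) w)).injective hab)

theorem y_mem_wSub (w : List ℕ) (hw : ∀ i ∈ w, i < fd.l) (k : ℕ) (hk : k < fd.n)
    (hpos : fd.n / 2 ≤ fd.wact fx w k) (t : K) : (C.grpStG K).y k t ∈ C.wSub K w := by
  unfold wSub
  rw [Subgroup.mem_comap]
  obtain ⟨h1, ε, _, h2⟩ := C.c6.c5.c3.nW_conj (F := K) w hw k hk
  simp only [MonoidHom.comp_apply, MulEquiv.coe_toMonoidHom, Subgroup.subtype_apply, MulAut.conj_apply]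
  have : (((C.grpStG K).y k t : ↥(D.group K)) : GL D.Idx K) = C.c6.c2.xA k t := rfl
  rw [this, h2]
  exact C.xA_mem_posU _ h1 hpos _

/-- the root elements have order dividing `p` -/
theorem y_pow_char (p : ℕ) [CharP K p] (r : ℕ) (hr : r < fd.n) (t : K) : (C.grpStG K).y r t ^ p = 1 := by
  have h : ∀ m : ℕ, (C.grpStG K).y r t ^ m = (C.grpStG K).y r ((m : K) * t) := by
    intro m
    induction m with
    | zero => simp [(C.grpStG K).y_zero r hr]
    | succ m ih =>
      rw [pow_succ, ih, (C.grpStG K).y_add r hr]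
      congr 1
      push_cast
      ring
  rw [h, CharP.cast_eq_zero, zero_mul, (C.grpStG K).y_zero r hr]

variable {wit : List (ℕ × ℕ)}

/-- every central extension of a finite Chevalley group whose kernel has no `p`-torsion receives a homomorphism from the
group presented by (R1), (R2), compatible with the homomorphisms onto the Chevalley group -/
theorem plift_cover [Fintype K] (p : ℕ) [Fact p.Prime] [CharP K p] (zw : ZW)
    (hw1 : ∀ r < fd.n, fd.ChkW1 fx zw r)
    (hw2 : ∀ r < fd.n, ∀ s < fd.n, s ≠ r → s ≠ fd.n - 1 - r → fd.ChkWP fx zw r s)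
    {Γ : Type*} [Group Γ] [Finite Γ] (σ : Γ →* ↥(D.group K)) (hsurj : Function.Surjective σ)
    (hcen : σ.ker ≤ Subgroup.center Γ) (hnt : ∀ x ∈ σ.ker, x ^ p = 1 → x = 1) :
    ∃ τ : D.SteinbergCover K →* Γ,
      ∀ m, σ (τ m) = (PresentedGroup.toGroup (C.rels_AB K) : D.SteinbergCover K →* ↥(D.group K)) m := by
  set S := C.grpStG K with hS
  -- the lifts of `p`-power order of the root elements
  have hex : ∀ r t, ∃ x : Γ, r < fd.n → (σ x = S.y r t ∧ ∃ k', x ^ (p ^ k') = 1) := by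
    intro r t
    by_cases hr : r < fd.n
    · obtain ⟨x, h1, h2⟩ := exists_plift σ p hsurj hnt (S.y r t) 1 (by rw [pow_one]; exact C.y_pow_char K p r hr t)
      exact ⟨x, fun _ => ⟨h1, h2⟩⟩
    · exact ⟨1, fun h => absurd h hr⟩
  choose z hz using hex
  -- the lifts through the `p`-subgroups attached to Weyl words
  have key : ∀ (w : List ℕ) (hw : ∀ i ∈ w, i < fd.l), ∃ φ : ↥(C.wSub K w) →* Γ, (∀ g, σ (φ g) = g) ∧
      ∀ k, ∀ hk : k < fd.n, ∀ hpos : fd.n / 2 ≤ fd.wact fx w k, ∀ t,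
        φ ⟨S.y k t, C.y_mem_wSub K w hw k hk hpos t⟩ = z k t := by
    intro w hw
    obtain ⟨φ, h1, h2⟩ := exists_plift_hom σ p hsurj hnt (C.wSub K w) (C.isPGroup_wSub K p w)
    refine ⟨φ, h1, ?_⟩
    intro k hk hpos t
    obtain ⟨k1, hk1⟩ := h2 ⟨S.y k t, C.y_mem_wSub K w hw k hk hpos t⟩
    obtain ⟨e1, k2, hk2⟩ := hz k t hk
    exact plift_unique σ p hcen hnt _ _ (by rw [h1, e1]) k1 k2 hk1 hk2
  have hpz : ∀ r, r < fd.n → ∀ t, σ (z r t) = S.y r t := fun r hr t => (hz r t hr).1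
  have hadd : ∀ r, r < fd.n → ∀ t u, z r t * z r u = z r (t + u) := by
    intro r hr t u
    obtain ⟨c1, c2⟩ := hw1 r hr
    obtain ⟨φ, _, h2⟩ := key _ c1
    rw [← h2 r hr c2 t, ← h2 r hr c2 u, ← h2 r hr c2 (t + u), ← map_mul]
    congr 1
    apply Subtype.ext
    exact S.y_add r hr t u
  have hcomm : ∀ r s, r < fd.n → s < fd.n → s ≠ r → s ≠ fd.n - 1 - r → ∀ t u,
      z s u * z r t = z r t * z s u *
        ((fd.commT r s).map fun c => z c.1 (((c.2.1 : ℤ) : K) * (-t) ^ c.2.2.1 * u ^ c.2.2.2)).prod := by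
    intro r s hr hs h1 h2 t u
    obtain ⟨c1, c2, c3, c4⟩ := hw2 r hr s hs h1 h2
    obtain ⟨φ, _, hφ⟩ := key _ c1
    -- the product of the terms of the commutator formula
    have hlist : ∀ L : List (ℕ × ℤ × ℕ × ℕ), (∀ c ∈ L, c.1 < fd.n ∧ fd.n / 2 ≤ fd.wact fx (zw.wpOf r s) c.1) →
        ∃ g : ↥(C.wSub K (zw.wpOf r s)),
          (g : ↥(D.group K)) = (L.map fun c => S.y c.1 (((c.2.1 : ℤ) : K) * (-t) ^ c.2.2.1 * u ^ c.2.2.2)).prod ∧
          φ g = (L.map fun c => z c.1 (((c.2.1 : ℤ) : K) * (-t) ^ c.2.2.1 * u ^ c.2.2.2)).prod := by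
      intro L
      induction L with
      | nil => intro _; exact ⟨1, by simp, by simp⟩
      | cons c L ih =>
        intro hL
        obtain ⟨g, hg1, hg2⟩ := ih (fun c' hc' => hL c' (List.mem_cons_of_mem _ hc'))
        obtain ⟨d1, d2⟩ := hL c List.mem_cons_self
        refine ⟨⟨S.y c.1 _, C.y_mem_wSub K _ c1 c.1 d1 d2 (((c.2.1 : ℤ) : K) * (-t) ^ c.2.2.1 * u ^ c.2.2.2)⟩ * g,
          ?_, ?_⟩
        · rw [List.map_cons, List.prod_cons, Subgroup.coe_mul, hg1]
        · rw [List.map_cons, List.prod_cons, map_mul, hg2, hφ c.1 d1 d2]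
    obtain ⟨g, hg1, hg2⟩ := hlist (fd.commT r s) (by
      intro c hc
      refine ⟨(fd.linc_spec C.linc r s hr hs c hc).1, c4 c.1 ?_⟩
      exact List.mem_map.mpr ⟨c, hc, rfl⟩)
    rw [← hg2, ← hφ r hr c2 t, ← hφ s hs c3 u, ← map_mul, ← map_mul, ← map_mul]
    congr 1
    apply Subtype.ext
    rw [Subgroup.coe_mul, Subgroup.coe_mul, Subgroup.coe_mul, hg1]
    exact S.y_comm r s hr hs h1 h2 t u
  obtain ⟨τ, hτ⟩ := C.cover_hom K z hadd hcomm
  refine ⟨τ, ?_⟩
  have : σ.comp τ = (PresentedGroup.toGroup (C.rels_AB K) : D.SteinbergCover K →* ↥(D.group K)) := by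
    apply PresentedGroup.ext
    intro q
    have hq : q.1.val < fd.n := by rw [← C.c6.c2.nroots_eq]; exact q.1.isLt
    have e : (PresentedGroup.of q : D.SteinbergCover K) = PresentedGroup.mk _ (D.stX q.1.val q.2) := by
      unfold ChevalleyDatum.stX
      rw [dif_pos q.1.isLt]
      rfl
    rw [MonoidHom.comp_apply, e, hτ _ hq, hpz _ hq]
    apply Subtype.ext
    rw [C.toGroup_mk]
    rfl
  intro m
  rw [← this]
  rfl

end Cert12

end Cfsg.Agent.Lib.H29.Chev
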