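import Mathlib

/-!
# Universal central extensions: from lifts through central extensions of a quotient to unique lifts of homomorphisms
-/

set_option autoImplicit false
set_option linter.unusedSectionVars false
set_option linter.unusedVariables false

namespace Cfsg.Agent.Lib.H29.Chev

open scoped commutatorElement

/-- a homomorphism with values in the centre kills the commutator subgroup -/
theorem commutator_le_ker_of_center {Δ X : Type*} [Group Δ] [Group X] (d : Δ →* X)
    (h : ∀ m, d m ∈ Subgroup.center X) : commutator Δ ≤ d.ker := by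
  rw [commutator_eq_closure, Subgroup.closure_le]
  rintro g ⟨a, b, rfl⟩
  rw [SetLike.mem_coe, MonoidHom.mem_ker, map_commutatorElement, commutatorElement_eq_one_iff_commute]
  exact (Subgroup.mem_center_iff.mp (h a) (d b)).symm

/-- two homomorphisms from a perfect group that differ by central elements coincide -/
theorem hom_eq_of_perfect {Δ X : Type*} [Group Δ] [Group X] (hperf : commutator Δ = ⊤) (f g : Δ →* X)
    (h : ∀ m, f m * (g m)⁻¹ ∈ Subgroup.center X) : f = g := by
  let d : Δ →* X :=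
    { toFun := fun m => f m * (g m)⁻¹
      map_one' := by simp
      map_mul' := by
        intro a b
        have hb := Subgroup.mem_center_iff.mp (h b)
        rw [map_mul, map_mul, mul_inv_rev]
        calc f a * f b * ((g b)⁻¹ * (g a)⁻¹) = f a * ((f b * (g b)⁻¹) * (g a)⁻¹) := by
              simp only [mul_assoc]
          _ = f a * ((g a)⁻¹ * (f b * (g b)⁻¹)) := by rw [hb (g a)⁻¹]
          _ = f a * (g a)⁻¹ * (f b * (g b)⁻¹) := by rw [mul_assoc] }
  have hk : commutator Δ ≤ d.ker := commutator_le_ker_of_center d h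
  rw [hperf] at hk
  ext m
  have h1 : f m * (g m)⁻¹ = 1 := hk (Subgroup.mem_top m)
  exact mul_inv_eq_one.mp h1

/-- Let `Δ` be a perfect group with a central surjection `θ` onto `G`, such that every central extension of `G`, realised
on a subgroup of `E × Δ`, receives a homomorphism from `Δ` over `G`. Then every homomorphism from `Δ` to `G₁` lifts
uniquely through the central extension `π₁ : E → G₁`. -/
theorem exists_unique_lift_of_lifts {Δ G G₁ E : Type*} [Group Δ] [Group G] [Group G₁] [Group E]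
    (hperf : commutator Δ = ⊤) (θ : Δ →* G) (hθs : Function.Surjective θ) (hθc : θ.ker ≤ Subgroup.center Δ)
    (π₁ : E →* G₁) (hπ : Function.Surjective π₁) (hc : π₁.ker ≤ Subgroup.center E) (s : Δ →* G₁)
    (hlift : ∀ (Γ : Subgroup (E × Δ)) (σ : ↥Γ →* G), Function.Surjective σ → σ.ker ≤ Subgroup.center ↥Γ →
      ∃ τ : Δ →* ↥Γ, ∀ m, σ (τ m) = θ m) :
    ∃! τ : Δ →* E, π₁.comp τ = s := by
  -- the pull-back and its derived subgroup
  set Γ' : Subgroup (E × Δ) :=
    MonoidHom.eqLocus (π₁.comp (MonoidHom.fst E Δ)) (s.comp (MonoidHom.snd E Δ)) with hΓ'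
  have hmem' : ∀ x : E × Δ, x ∈ Γ' ↔ π₁ x.1 = s x.2 := fun x => Iff.rfl
  set Γ : Subgroup (E × Δ) := ⁅Γ', Γ'⁆ with hΓ
  have hΓle : Γ ≤ Γ' := by
    rw [hΓ, Subgroup.commutator_le]
    intro g₁ h₁ g₂ h₂
    exact Γ'.mul_mem (Γ'.mul_mem (Γ'.mul_mem h₁ h₂) (Γ'.inv_mem h₁)) (Γ'.inv_mem h₂)
  -- the second projection maps `Γ` onto `Δ`
  have hsnd : ∀ m : Δ, ∃ x ∈ Γ, x.2 = m := by
    intro m
    have hm : m ∈ commutator Δ := by rw [hperf]; exact Subgroup.mem_top m
    rw [commutator_eq_closure] at hm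
    induction hm using Subgroup.closure_induction with
    | mem g hg =>
      obtain ⟨a, b, rfl⟩ := hg
      obtain ⟨ea, hea⟩ := hπ (s a)
      obtain ⟨eb, heb⟩ := hπ (s b)
      refine ⟨⁅(ea, a), (eb, b)⁆, Subgroup.commutator_mem_commutator ((hmem' _).mpr hea) ((hmem' _).mpr heb), rfl⟩
    | one => exact ⟨1, one_mem _, rfl⟩
    | mul a b _ _ ha hb =>
      obtain ⟨x, hx, rfl⟩ := ha
      obtain ⟨y, hy, rfl⟩ := hb
      exact ⟨x * y, mul_mem hx hy, rfl⟩
    | inv a _ ha =>
      obtain ⟨x, hx, rfl⟩ := ha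
      exact ⟨x⁻¹, inv_mem hx, rfl⟩
  set σ : ↥Γ →* G := θ.comp ((MonoidHom.snd E Δ).comp Γ.subtype) with hσ
  have hσs : Function.Surjective σ := by
    intro g
    obtain ⟨m, rfl⟩ := hθs g
    obtain ⟨x, hx, rfl⟩ := hsnd m
    exact ⟨⟨x, hx⟩, rfl⟩
  -- the kernel of `σ` is central
  have hσc : σ.ker ≤ Subgroup.center ↥Γ := by
    intro x hx
    have hx2 : x.val.2 ∈ Subgroup.center Δ := hθc hx
    have hxΓ' : x.val ∈ Γ' := hΓle x.2
    -- the commutators with `x` are central
    have hcen : ∀ y ∈ Γ', ⁅x.val, y⁆ ∈ Subgroup.center (E × Δ) := by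
      intro y hy
      have e2 : ⁅x.val, y⁆.2 = 1 := by
        show ⁅x.val.2, y.2⁆ = 1
        rw [commutatorElement_eq_one_iff_commute]
        exact (Subgroup.mem_center_iff.mp hx2 y.2).symm
      have e1 : ⁅x.val, y⁆.1 ∈ Subgroup.center E := by
        apply hc
        show π₁ ⁅x.val.1, y.1⁆ = 1
        rw [map_commutatorElement, (hmem' _).mp hxΓ', (hmem' _).mp hy, ← map_commutatorElement]
        have : ⁅x.val.2, y.2⁆ = 1 := e2
        rw [this, map_one]
      rw [Subgroup.mem_center_iff]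
      intro g
      apply Prod.ext
      · exact Subgroup.mem_center_iff.mp e1 g.1
      · show g.2 * ⁅x.val, y⁆.2 = ⁅x.val, y⁆.2 * g.2
        rw [e2, mul_one, one_mul]
    let c : ↥Γ' →* E × Δ :=
      { toFun := fun y => ⁅x.val, y.val⁆
        map_one' := by simp
        map_mul' := by
          intro a b
          show ⁅x.val, a.val * b.val⁆ = ⁅x.val, a.val⁆ * ⁅x.val, b.val⁆
          have hb := Subgroup.mem_center_iff.mp (hcen b.val b.2)
          generalize x.val = X at hb ⊢
          generalize a.val = A at hb ⊢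
          generalize b.val = B at hb ⊢
          calc ⁅X, A * B⁆ = ⁅X, A⁆ * (A * ⁅X, B⁆ * A⁻¹) := by
                simp only [commutatorElement_def]; group
            _ = ⁅X, A⁆ * ⁅X, B⁆ := by rw [hb A, mul_inv_cancel_right] }
    have hk : commutator ↥Γ' ≤ c.ker := commutator_le_ker_of_center c (fun y => hcen y.val y.2)
    rw [Subgroup.mem_center_iff]
    intro y
    have hy : y.val ∈ ⁅Γ', Γ'⁆ := y.2
    rw [← Subgroup.map_subtype_commutator] at hy
    obtain ⟨y', hy', hyy'⟩ := hy
    have h1 : ⁅x.val, y'.val⁆ = 1 := hk hy'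
    have h2 : y'.val = y.val := hyy'
    rw [h2, commutatorElement_eq_one_iff_commute] at h1
    apply Subtype.ext
    exact h1.eq.symm
  obtain ⟨τ'', hτ''⟩ := hlift Γ σ hσs hσc
  -- the second component of `τ''` is the identity
  set ρ : Δ →* Δ := ((MonoidHom.snd E Δ).comp Γ.subtype).comp τ'' with hρ
  have hρid : ρ = MonoidHom.id Δ := by
    apply hom_eq_of_perfect hperf
    intro m
    apply hθc
    rw [MonoidHom.mem_ker, map_mul, map_inv, MonoidHom.id_apply]
    have : θ (ρ m) = θ m := hτ'' m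
    rw [this, mul_inv_cancel]
  refine ⟨((MonoidHom.fst E Δ).comp Γ.subtype).comp τ'', ?_, ?_⟩
  · ext m
    have h1 : (τ'' m).val ∈ Γ' := hΓle (τ'' m).2
    have h2 : π₁ (τ'' m).val.1 = s (τ'' m).val.2 := (hmem' _).mp h1
    have h3 : (τ'' m).val.2 = m := by
      have := congrArg (fun f : Δ →* Δ => f m) hρid
      exact this
    show π₁ (τ'' m).val.1 = s m
    rw [h2, h3]
  · intro τ₂ hτ₂
    apply hom_eq_of_perfect hperf
    intro m
    apply hc
    rw [MonoidHom.mem_ker, map_mul, map_inv]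
    have e1 : π₁ (τ₂ m) = s m := congrArg (fun f : Δ →* G₁ => f m) hτ₂
    have h1 : (τ'' m).val ∈ Γ' := hΓle (τ'' m).2
    have h2 : π₁ (τ'' m).val.1 = s (τ'' m).val.2 := (hmem' _).mp h1
    have h3 : (τ'' m).val.2 = m := by
      have := congrArg (fun f : Δ →* Δ => f m) hρid
      exact this
    have e2 : π₁ ((((MonoidHom.fst E Δ).comp Γ.subtype).comp τ'') m) = s m := by
      show π₁ (τ'' m).val.1 = s m
      rw [h2, h3]
    rw [e1, e2, mul_inv_cancel]

/-- Let `Δ` be a perfect group such that every central extension of `Δ`, realised on a subgroup of `E × Δ`, splits.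
Then every homomorphism from `Δ` to `G₁` lifts uniquely through the central extension `π₁ : E → G₁`. -/
theorem exists_unique_lift_of_splits {Δ G₁ E : Type*} [Group Δ] [Group G₁] [Group E]
    (hperf : commutator Δ = ⊤)
    (π₁ : E →* G₁) (hπ : Function.Surjective π₁) (hc : π₁.ker ≤ Subgroup.center E) (s : Δ →* G₁)
    (hsplit : ∀ (Γ : Subgroup (E × Δ)) (p : ↥Γ →* Δ), Function.Surjective p → p.ker ≤ Subgroup.center ↥Γ →
      ∃ τ : Δ →* ↥Γ, p.comp τ = MonoidHom.id Δ) :
    ∃! τ : Δ →* E, π₁.comp τ = s := by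
  set Γ' : Subgroup (E × Δ) :=
    MonoidHom.eqLocus (π₁.comp (MonoidHom.fst E Δ)) (s.comp (MonoidHom.snd E Δ)) with hΓ'
  have hmem' : ∀ x : E × Δ, x ∈ Γ' ↔ π₁ x.1 = s x.2 := fun x => Iff.rfl
  set p : ↥Γ' →* Δ := (MonoidHom.snd E Δ).comp Γ'.subtype with hp
  have hps : Function.Surjective p := by
    intro m
    obtain ⟨e, he⟩ := hπ (s m)
    exact ⟨⟨(e, m), (hmem' _).mpr he⟩, rfl⟩
  have hpc : p.ker ≤ Subgroup.center ↥Γ' := by
    intro x hx
    have hx2 : x.val.2 = 1 := hx
    have hx1 : x.val.1 ∈ Subgroup.center E := by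
      apply hc
      rw [MonoidHom.mem_ker, (hmem' _).mp x.2, hx2, map_one]
    rw [Subgroup.mem_center_iff]
    intro g
    apply Subtype.ext
    apply Prod.ext
    · exact Subgroup.mem_center_iff.mp hx1 g.val.1
    · show g.val.2 * x.val.2 = x.val.2 * g.val.2
      rw [hx2, mul_one, one_mul]
  obtain ⟨τ', hτ'⟩ := hsplit Γ' p hps hpc
  have h3 : ∀ m, (τ' m).val.2 = m := fun m => congrArg (fun f : Δ →* Δ => f m) hτ'
  have key : ∀ m, π₁ ((((MonoidHom.fst E Δ).comp Γ'.subtype).comp τ') m) = s m := by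
    intro m
    show π₁ (τ' m).val.1 = s m
    rw [(hmem' _).mp (τ' m).2, h3]
  refine ⟨((MonoidHom.fst E Δ).comp Γ'.subtype).comp τ', ?_, ?_⟩
  · ext m
    exact key m
  · intro τ₂ hτ₂
    apply hom_eq_of_perfect hperf
    intro m
    apply hc
    rw [MonoidHom.mem_ker, map_mul, map_inv]
    have e1 : π₁ (τ₂ m) = s m := congrArg (fun f : Δ →* G₁ => f m) hτ₂
    rw [e1, key m, mul_inv_cancel]

end Cfsg.Agent.Lib.H29.Chev
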