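import Mathlib
import Cfsg.Prelude.Def_ChevStructure
import Cfsg.Prelude.Def_SteinbergCover
import Cfsg.Agent.Lib.H29.ChevUCE
import Cfsg.Agent.Lib.H29.ChevCE7
import Cfsg.Agent.Lib.H29.ChevTL5

/-!
# The group presented by (R1), (R2) is a universal central extension
-/

set_option autoImplicit false
set_option linter.unusedSectionVars false
set_option linter.unusedVariables false

namespace Cfsg.Agent.Lib.H29.Chev

open Cfsg.Lie Matrix

variable {D : ChevalleyDatum} {fd : FD} {fx : FX} {fc : FC} {fz : FZ}

namespace Cert12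

variable (C : Cert12 D fd fx fc fz) (K : Type*) [Field K]
include C

variable {wit : List (ℕ × ℕ)} {dec : List (ℕ × ℕ × ℕ × ℕ)}

/-- unique lifts of homomorphisms through central extensions, from lifts through central extensions of the Chevalley
group -/
theorem cover_universal_of_lift (hst : fd.ChkSt fx wit) (hperf : commutator (D.SteinbergCover K) = ⊤)
    {G₁ E : Type*} [Group G₁] [Group E] (π₁ : E →* G₁) (hπ : Function.Surjective π₁)
    (hc : π₁.ker ≤ Subgroup.center E) (s : D.SteinbergCover K →* G₁)
    (hlift : ∀ (Γ : Subgroup (E × D.SteinbergCover K)) (σ : ↥Γ →* ↥(D.group K)), Function.Surjective σ →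
      σ.ker ≤ Subgroup.center ↥Γ → ∃ τ : D.SteinbergCover K →* ↥Γ,
        ∀ m, σ (τ m) = (PresentedGroup.toGroup (C.rels_AB K) : D.SteinbergCover K →* ↥(D.group K)) m) :
    ∃! τ : D.SteinbergCover K →* E, π₁.comp τ = s :=
  exists_unique_lift_of_lifts hperf (PresentedGroup.toGroup (C.rels_AB K)) (C.toGroup_surjective K _ _)
    (le_of_eq (C.cover_ker_eq_center K hst)) π₁ hπ hc s hlift

/-- unique lifts of homomorphisms through central extensions, types `E₆`, `E₇`, `E₈` -/
theorem cover_universal_of_chkCE (hce : ∀ r < fd.n, fd.chkCE dec r = true)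
    (hperf : commutator (D.SteinbergCover K) = ⊤)
    {G₁ E : Type*} [Group G₁] [Group E] (π₁ : E →* G₁) (hπ : Function.Surjective π₁)
    (hc : π₁.ker ≤ Subgroup.center E) (s : D.SteinbergCover K →* G₁) :
    ∃! τ : D.SteinbergCover K →* E, π₁.comp τ = s :=
  exists_unique_lift_of_splits hperf π₁ hπ hc s (fun Γ p hp hpc => C.cover_splits K hce p hp hpc)

end Cert12

end Cfsg.Agent.Lib.H29.Chev
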