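import Mathlib
import Cfsg.Prelude.Def_ChevStructure
import Cfsg.Prelude.Def_SteinbergCover
import Cfsg.Agent.Lib.H29.ChevPL2
import Cfsg.Agent.Lib.H29.ChevUCE2
import Cfsg.Agent.Lib.H29.ChevStM

/-!
# Over a finite field of characteristic `p`, homomorphisms from the group presented by (R1), (R2) lift uniquely through
central extensions whose kernel has no `p`-torsion
-/

set_option autoImplicit false
set_option linter.unusedSectionVars false
set_option linter.unusedSimpArgs false
set_option linter.unusedVariables false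

namespace Cfsg.Agent.Lib.H29.Chev

open Cfsg.Lie Matrix

open scoped commutatorElement

/-- Let `Δ` be a finite perfect group with a central surjection `θ` onto `G`, such that the central extensions of `G`
realised on finite subgroups of the pull-back in `E × Δ` receive a homomorphism from `Δ` over `G`. Then every
homomorphism from `Δ` to `G₁` lifts uniquely through the central extension `π₁ : E → G₁`. -/
theorem exists_unique_lift_of_lifts_fin {Δ G G₁ E : Type*} [Group Δ] [Group G] [Group G₁] [Group E] [Finite Δ]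
    (hperf : commutator Δ = ⊤) (θ : Δ →* G) (hθs : Function.Surjective θ) (hθc : θ.ker ≤ Subgroup.center Δ)
    (π₁ : E →* G₁) (hπ : Function.Surjective π₁) (hc : π₁.ker ≤ Subgroup.center E) (s : Δ →* G₁)
    (hlift : ∀ (Γ : Subgroup (E × Δ)), Finite ↥Γ → (∀ x ∈ Γ, π₁ x.1 = s x.2) →
      Function.Surjective (θ.comp ((MonoidHom.snd E Δ).comp Γ.subtype)) →
      (θ.comp ((MonoidHom.snd E Δ).comp Γ.subtype)).ker ≤ Subgroup.center ↥Γ →
      ∃ τ : Δ →* ↥Γ, ∀ m, θ ((τ m).val.2) = θ m) :
    ∃! τ : Δ →* E, π₁.comp τ = s := by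
  -- the pull-back and its derived subgroup
  set Γ' : Subgroup (E × Δ) :=
    MonoidHom.eqLocus (π₁.comp (MonoidHom.fst E Δ)) (s.comp (MonoidHom.snd E Δ)) with hΓ'
  have hmem' : ∀ x : E × Δ, x ∈ Γ' ↔ π₁ x.1 = s x.2 := fun x => Iff.rfl
  set Γ : Subgroup (E × Δ) := ⁅Γ', Γ'⁆ with hΓ
  have hΓle : Γ ≤ Γ' := by
    rw [hΓ, Subgroup.commutator_le]
    intro g₁ h₁ g₂ h₂
    exact Γ'.mul_mem (Γ'.mul_mem (Γ'.mul_mem h₁ h₂) (Γ'.inv_mem h₁)) (Γ'.inv_mem h₂)
  -- finiteness
  have hfin : Finite ↥Γ := by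
    set q : ↥Γ' →* Δ := (MonoidHom.snd E Δ).comp Γ'.subtype with hq
    have hqc : q.ker ≤ Subgroup.center ↥Γ' := by
      intro x hx
      have hx2 : x.val.2 = 1 := hx
      have hx1 : x.val.1 ∈ Subgroup.center E := by
        apply hc
        rw [MonoidHom.mem_ker, (hmem' _).mp x.2, hx2, map_one]
      rw [Subgroup.mem_center_iff]
      intro g
      apply Subtype.ext
      apply Prod.ext
      · exact Subgroup.mem_center_iff.mp hx1 g.val.1
      · show g.val.2 * x.val.2 = x.val.2 * g.val.2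
        rw [hx2, mul_one, one_mul]
    have h1 : Finite ↥(commutator ↥Γ') := finite_commutator_of_central q hqc
    have h2 : Γ = (commutator ↥Γ').map Γ'.subtype := by
      rw [hΓ, Subgroup.map_subtype_commutator]
    rw [h2]
    have : ((commutator ↥Γ').map Γ'.subtype : Set (E × Δ)) = Γ'.subtype '' (commutator ↥Γ' : Set ↥Γ') := rfl
    apply Set.Finite.to_subtype
    rw [this]
    exact Set.Finite.image _ (Set.toFinite _)
  -- the second projection maps `Γ` onto `Δ`
  have hsnd : ∀ m : Δ, ∃ x ∈ Γ, x.2 = m := by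
    intro m
    have hm : m ∈ commutator Δ := by rw [hperf]; exact Subgroup.mem_top m
    rw [commutator_eq_closure] at hm
    induction hm using Subgroup.closure_induction with
    | mem g hg =>
      obtain ⟨a, b, rfl⟩ := hg
      obtain ⟨ea, hea⟩ := hπ (s a)
      obtain ⟨eb, heb⟩ := hπ (s b)
      refine ⟨⁅(ea, a), (eb, b)⁆, Subgroup.commutator_mem_commutator ((hmem' _).mpr hea) ((hmem' _).mpr heb), rfl⟩
    | one => exact ⟨1, one_mem _, rfl⟩
    | mul a b _ _ ha hb =>
      obtain ⟨x, hx, rfl⟩ := ha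
      obtain ⟨y, hy, rfl⟩ := hb
      exact ⟨x * y, mul_mem hx hy, rfl⟩
    | inv a _ ha =>
      obtain ⟨x, hx, rfl⟩ := ha
      exact ⟨x⁻¹, inv_mem hx, rfl⟩
  set σ : ↥Γ →* G := θ.comp ((MonoidHom.snd E Δ).comp Γ.subtype) with hσ
  have hσs : Function.Surjective σ := by
    intro g
    obtain ⟨m, rfl⟩ := hθs g
    obtain ⟨x, hx, rfl⟩ := hsnd m
    exact ⟨⟨x, hx⟩, rfl⟩
  -- the kernel of `σ` is central
  have hσc : σ.ker ≤ Subgroup.center ↥Γ := by
    intro x hx
    have hx2 : x.val.2 ∈ Subgroup.center Δ := hθc hx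
    have hxΓ' : x.val ∈ Γ' := hΓle x.2
    -- the commutators with `x` are central
    have hcen : ∀ y ∈ Γ', ⁅x.val, y⁆ ∈ Subgroup.center (E × Δ) := by
      intro y hy
      have e2 : ⁅x.val, y⁆.2 = 1 := by
        show ⁅x.val.2, y.2⁆ = 1
        rw [commutatorElement_eq_one_iff_commute]
        exact (Subgroup.mem_center_iff.mp hx2 y.2).symm
      have e1 : ⁅x.val, y⁆.1 ∈ Subgroup.center E := by
        apply hc
        show π₁ ⁅x.val.1, y.1⁆ = 1
        rw [map_commutatorElement, (hmem' _).mp hxΓ', (hmem' _).mp hy, ← map_commutatorElement]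
        have : ⁅x.val.2, y.2⁆ = 1 := e2
        rw [this, map_one]
      rw [Subgroup.mem_center_iff]
      intro g
      apply Prod.ext
      · exact Subgroup.mem_center_iff.mp e1 g.1
      · show g.2 * ⁅x.val, y⁆.2 = ⁅x.val, y⁆.2 * g.2
        rw [e2, mul_one, one_mul]
    let c : ↥Γ' →* E × Δ :=
      { toFun := fun y => ⁅x.val, y.val⁆
        map_one' := by simp
        map_mul' := by
          intro a b
          show ⁅x.val, a.val * b.val⁆ = ⁅x.val, a.val⁆ * ⁅x.val, b.val⁆
          have hb := Subgroup.mem_center_iff.mp (hcen b.val b.2)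
          generalize x.val = X at hb ⊢
          generalize a.val = A at hb ⊢
          generalize b.val = B at hb ⊢
          calc ⁅X, A * B⁆ = ⁅X, A⁆ * (A * ⁅X, B⁆ * A⁻¹) := by
                simp only [commutatorElement_def]; group
            _ = ⁅X, A⁆ * ⁅X, B⁆ := by rw [hb A, mul_inv_cancel_right] }
    have hk : commutator ↥Γ' ≤ c.ker := commutator_le_ker_of_center c (fun y => hcen y.val y.2)
    rw [Subgroup.mem_center_iff]
    intro y
    have hy : y.val ∈ ⁅Γ', Γ'⁆ := y.2
    rw [← Subgroup.map_subtype_commutator] at hy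
    obtain ⟨y', hy', hyy'⟩ := hy
    have h1 : ⁅x.val, y'.val⁆ = 1 := hk hy'
    have h2 : y'.val = y.val := hyy'
    rw [h2, commutatorElement_eq_one_iff_commute] at h1
    apply Subtype.ext
    exact h1.eq.symm
  obtain ⟨τ'', hτ''⟩ := hlift Γ hfin (fun x hx => (hmem' x).mp (hΓle hx)) hσs hσc
  -- the second component of `τ''` is the identity
  set ρ : Δ →* Δ := ((MonoidHom.snd E Δ).comp Γ.subtype).comp τ'' with hρ
  have hρid : ρ = MonoidHom.id Δ := by
    apply hom_eq_of_perfect hperf
    intro m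
    apply hθc
    rw [MonoidHom.mem_ker, map_mul, map_inv, MonoidHom.id_apply]
    have : θ (ρ m) = θ m := hτ'' m
    rw [this, mul_inv_cancel]
  refine ⟨((MonoidHom.fst E Δ).comp Γ.subtype).comp τ'', ?_, ?_⟩
  · ext m
    have h1 : (τ'' m).val ∈ Γ' := hΓle (τ'' m).2
    have h2 : π₁ (τ'' m).val.1 = s (τ'' m).val.2 := (hmem' _).mp h1
    have h3 : (τ'' m).val.2 = m := by
      have := congrArg (fun f : Δ →* Δ => f m) hρid
      exact this
    show π₁ (τ'' m).val.1 = s m
    rw [h2, h3]
  · intro τ₂ hτ₂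
    apply hom_eq_of_perfect hperf
    intro m
    apply hc
    rw [MonoidHom.mem_ker, map_mul, map_inv]
    have e1 : π₁ (τ₂ m) = s m := congrArg (fun f : Δ →* G₁ => f m) hτ₂
    have h1 : (τ'' m).val ∈ Γ' := hΓle (τ'' m).2
    have h2 : π₁ (τ'' m).val.1 = s (τ'' m).val.2 := (hmem' _).mp h1
    have h3 : (τ'' m).val.2 = m := by
      have := congrArg (fun f : Δ →* Δ => f m) hρid
      exact this
    have e2 : π₁ ((((MonoidHom.fst E Δ).comp Γ.subtype).comp τ'') m) = s m := by
      show π₁ (τ'' m).val.1 = s m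
      rw [h2, h3]
    rw [e1, e2, mul_inv_cancel]

variable {D : ChevalleyDatum} {fd : FD} {fx : FX} {fc : FC} {fz : FZ}

namespace StG

variable {C : Cert12 D fd fx fc fz} {F : Type*} [Field F] {M : Type*} [Group M] (S : StG C F M)
variable {wit : List (ℕ × ℕ)}

theorem hb_pow (h3 : S.R3) (r : ℕ) (hr : r < fd.n) (t : F) (ht : t ≠ 0) (m : ℕ) :
    S.hb r t ^ m = S.hb r (t ^ m) := by
  induction m with
  | zero => rw [pow_zero, pow_zero, S.hb_one h3 r hr]
  | succ m ih => rw [pow_succ, ih, pow_succ, h3 r hr _ _ (pow_ne_zero m ht) ht]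

/-- over a finite field with `q` elements, the elements of `H̄` have order dividing `q - 1` -/
theorem Hk_pow_eq_one [Fintype F] (hst : fd.ChkSt fx wit) (h3 : S.R3) (k : ℕ) : k ≤ fd.l → ∀ h ∈ S.Hk k,
    h ^ (Fintype.card F - 1) = 1 := by
  induction k with
  | zero =>
    intro _ h hh
    have : {g : M | ∃ (i : ℕ) (t : F), i < 0 ∧ i < fd.l ∧ t ≠ 0 ∧ g = S.hb (fd.simples.getD i 0) t} = ∅ := by
      ext g
      simp
    unfold Hk at hh
    rw [this, Subgroup.closure_empty, Subgroup.mem_bot] at hh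
    rw [hh, one_pow]
  | succ k ih =>
    intro hk h hh
    have hk' : k < fd.l := by omega
    have hp := C.c6.c2.simple_lt k hk'
    obtain ⟨x, hx, u, hu, rfl⟩ := S.Hk_peel hst h3 k hk' h hh
    have hcomm : ∀ x ∈ S.Hk k, S.hb (fd.simples.getD k 0) u * x = x * S.hb (fd.simples.getD k 0) u := by
      intro x hx
      unfold Hk at hx
      induction hx using Subgroup.closure_induction with
      | mem x hx =>
        obtain ⟨i, t, _, hi, ht, rfl⟩ := hx
        exact S.hb_comm hst h3 k i hk' hi u t hu ht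
      | one => simp
      | mul x y _ _ hx hy => rw [← mul_assoc, hx, mul_assoc, hy, mul_assoc]
      | inv x _ hx =>
        calc S.hb (fd.simples.getD k 0) u * x⁻¹ = x⁻¹ * (x * S.hb (fd.simples.getD k 0) u) * x⁻¹ := by simp
          _ = x⁻¹ * (S.hb (fd.simples.getD k 0) u * x) * x⁻¹ := by rw [hx]
          _ = x⁻¹ * S.hb (fd.simples.getD k 0) u := by simp [mul_assoc]
    have hc : Commute x (S.hb (fd.simples.getD k 0) u) := (hcomm x hx).symm
    rw [hc.mul_pow, ih (by omega) x hx, one_mul, S.hb_pow h3 _ hp u hu, FiniteField.pow_card_sub_one_eq_one u hu,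
      S.hb_one h3 _ hp]

/-- over a finite field with `q` elements, the elements of the kernel have order dividing `q - 1` -/
theorem ker_pow_eq_one [Fintype F] (hst : fd.ChkSt fx wit) (g : M) (hg : S.θ g = 1) :
    g ^ (Fintype.card F - 1) = 1 := by
  have h3 := S.R3_of_finite hst
  have hh := S.ker_le_Hbar hst g hg
  have e : S.Hbar = S.Hk fd.l := by
    unfold Hbar Hk
    congr 1
    ext g
    constructor
    · rintro ⟨i, t, hi, ht, rfl⟩
      exact ⟨i, t, hi, hi, ht, rfl⟩
    · rintro ⟨i, t, _, hi, ht, rfl⟩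
      exact ⟨i, t, hi, ht, rfl⟩
  rw [e] at hh
  exact S.Hk_pow_eq_one hst h3 fd.l (le_refl _) g hh

end StG

namespace Cert12

variable (C : Cert12 D fd fx fc fz) (K : Type*) [Field K]
include C

variable {wit : List (ℕ × ℕ)}

/-- over a finite field of characteristic `p`, unique lifts of homomorphisms through central extensions whose kernel
has no `p`-torsion -/
theorem cover_universal_of_plift [Fintype K] (p : ℕ) [Fact p.Prime] [CharP K p] (hst : fd.ChkSt fx wit)
    (hperf : commutator (D.SteinbergCover K) = ⊤) (zw : ZW)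
    (hw1 : ∀ r < fd.n, fd.ChkW1 fx zw r)
    (hw2 : ∀ r < fd.n, ∀ s < fd.n, s ≠ r → s ≠ fd.n - 1 - r → fd.ChkWP fx zw r s)
    {G₁ E : Type*} [Group G₁] [Group E] (π₁ : E →* G₁) (hπ : Function.Surjective π₁)
    (hc : π₁.ker ≤ Subgroup.center E) (hnt : ∀ x ∈ π₁.ker, x ^ p = 1 → x = 1) (s : D.SteinbergCover K →* G₁) :
    ∃! τ : D.SteinbergCover K →* E, π₁.comp τ = s := by
  set θ : D.SteinbergCover K →* ↥(D.group K) := PresentedGroup.toGroup (C.rels_AB K) with hθ
  have hker := C.cover_ker_eq_center K hst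
  have hGfin : Finite ↥(D.group K) := by
    have := Fintype.ofFinite K
    infer_instance
  have hΔfin : Finite (D.SteinbergCover K) := finite_of_central_of_perfect θ (le_of_eq hker) hperf
  have hθS : ∀ g, (C.coverStG K).θ g = ((θ g : ↥(D.group K)) : GL D.Idx K) := by
    intro g
    unfold coverStG
    rw [C.stStG'_θ]
  -- the characteristic does not divide `q - 1`
  have hcop : Nat.Coprime p (Fintype.card K - 1) := by
    obtain ⟨e, he⟩ := FiniteField.card K p
    rw [Nat.Prime.coprime_iff_not_dvd Fact.out]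
    intro hdvd
    have h1 : p ∣ Fintype.card K := by
      rw [he.2]
      exact dvd_pow_self p e.ne_zero
    have h2 : 0 < Fintype.card K := Fintype.card_pos
    have h3 : p ∣ 1 := by
      have := (Nat.dvd_sub h1 hdvd)
      rwa [Nat.sub_sub_self h2] at this
    exact (Fact.out : p.Prime).one_lt.ne' (Nat.dvd_one.mp h3)
  apply exists_unique_lift_of_lifts_fin hperf θ (C.toGroup_surjective K _ _) (le_of_eq hker) π₁ hπ hc s
  intro Γ hfin hΓ hσs hσc
  apply C.plift_cover K p zw hw1 hw2 _ hσs hσc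
  intro x hx hxp
  have hx1 : θ x.val.2 = 1 := hx
  have hxp' : x.val ^ p = 1 := by
    have := congrArg Subtype.val hxp
    simpa using this
  have hd : x.val.2 ^ p = 1 := by
    have := congrArg Prod.snd hxp'
    simpa using this
  have he : x.val.1 ^ p = 1 := by
    have := congrArg Prod.fst hxp'
    simpa using this
  have hd1 : x.val.2 ^ (Fintype.card K - 1) = 1 := by
    apply (C.coverStG K).ker_pow_eq_one hst
    rw [hθS, hx1]
    rfl
  have hd2 : x.val.2 = 1 := by
    have h1 := orderOf_dvd_of_pow_eq_one hd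
    have h2 := orderOf_dvd_of_pow_eq_one hd1
    have h3 : orderOf x.val.2 ∣ 1 := by
      have := Nat.dvd_gcd h1 h2
      rwa [Nat.Coprime.gcd_eq_one hcop] at this
    exact orderOf_eq_one_iff.mp (Nat.dvd_one.mp h3)
  have he1 : x.val.1 = 1 := by
    apply hnt _ _ he
    rw [MonoidHom.mem_ker, hΓ x.val x.2, hd2, map_one]
  apply Subtype.ext
  apply Prod.ext
  · exact he1
  · exact hd2

end Cert12

end Cfsg.Agent.Lib.H29.Chev
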