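import Mathlib
import Cfsg.Agent.Lib.H29.ChevPL2
import Cfsg.Agent.Lib.H29.ChevDataB2
import Cfsg.Agent.Lib.H29.ChevDataXB2

/-! Weyl words making the two roots of a pair positive, type B2 (generated) -/

set_option autoImplicit false

namespace Cfsg.Agent.Lib.H29.Chev

def zwB2 : ZW where
  wp := [[[1, 0], [0, 1, 0], [1, 0], [1, 0, 1], [1, 0], [1, 0, 1], [1, 0], []], [[0, 1, 0], [0, 1], [0, 1, 0], [0, 1], [0, 1, 0], [0, 1], [], [0, 1]], [[1, 0], [0, 1, 0], [0], [1, 0, 1, 0], [0], [], [0], [0]], [[1, 0, 1], [0, 1], [1, 0, 1, 0], [1], [], [1], [1], [1]], [[1, 0], [0, 1, 0], [0], [], [], [], [], []], [[1, 0, 1], [0, 1], [], [1], [], [], [], []], [[1, 0], [], [0], [1], [], [], [], []], [[], [0, 1], [0], [1], [], [], [], []]]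

set_option maxRecDepth 1000000 in
set_option maxHeartbeats 0 in
theorem fdB2_ChkW1 : ∀ r < fdB2.n, fdB2.ChkW1 fxB2 zwB2 r := by
  decide +kernel

set_option maxRecDepth 1000000 in
set_option maxHeartbeats 0 in
theorem fdB2_ChkWP : ∀ r < fdB2.n, ∀ s < fdB2.n, s ≠ r → s ≠ fdB2.n - 1 - r → fdB2.ChkWP fxB2 zwB2 r s := by
  decide +kernel

end Cfsg.Agent.Lib.H29.Chev
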