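import Mathlib
import Cfsg.Agent.Lib.H29.ChevPL2
import Cfsg.Agent.Lib.H29.ChevDataD4
import Cfsg.Agent.Lib.H29.ChevDataXD4

/-! Weyl words making the two roots of a pair positive, type D4 (generated) -/

set_option autoImplicit false

namespace Cfsg.Agent.Lib.H29.Chev

def zwD4 : ZW where
  wp := [[[3, 1, 2, 0, 1], [0, 1, 3, 2, 1, 0], [3, 1, 2, 0, 1], [2, 1, 3, 0, 1], [3, 1, 2, 0, 1], [3, 1, 2, 0, 1, 0], [0, 1, 3, 2, 1], [3, 1, 2, 0, 1], [1, 3, 2, 0, 1], [3, 1, 2, 0, 1], [3, 0, 1, 2, 0, 1], [2, 0, 1, 3, 0, 1], [3, 1, 2, 0, 1], [3, 1, 2, 0, 1], [0, 1, 3, 2, 1, 0], [3, 1, 2, 0, 1], [2, 1, 3, 0, 1], [3, 1, 2, 0, 1], [3, 1, 2, 0, 1], [0, 1, 3, 2, 1], [3, 1, 2, 0, 1], [1, 3, 2, 0, 1], [3, 1, 2, 0, 1], []], [[0, 1, 3, 2, 1, 0], [3, 1, 2, 0], [3, 1, 2, 0], [2, 1, 3, 0], [3, 1, 2, 1, 0], [3, 1, 2,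 0], [0, 1, 3, 2], [3, 0, 1, 2, 0], [2, 0, 1, 3, 0], [0, 1, 3, 2, 0, 1, 0], [3, 1, 2, 0], [1, 3, 2, 0], [3, 1, 2, 0], [2, 1, 3, 0], [3, 1, 2, 0], [3, 1, 2, 0], [3, 1, 2, 0], [3, 1, 2, 0], [0, 1, 3, 2], [3, 1, 2, 0], [3, 1, 2, 0], [1, 3, 2, 0], [], [3, 1, 2, 0]], [[3, 1, 2, 0, 1], [3, 1, 2, 0], [2, 1, 0], [3, 2, 1, 0], [2, 1, 0], [2, 1, 0], [3, 0, 1, 2], [0, 1, 2], [1, 3, 1, 2, 0, 1], [2, 0, 1, 0], [1, 2, 0], [1, 3, 1, 2, 0], [2, 1, 0], [2, 1, 0], [2, 1, 0], [2, 1, 0], [2, 1, 0], [2, 1, 0], [0, 1, 2], [1, 2, 0], [2, 1, 0], [], [2, 1, 0], [2, 1, 0]], [[2, 1, 3, 0, 1], [2, 1, 3, 0], [3, 2, 1, 0], [3, 1, 0], [3, 1, 0], [3, 1, 0], [2, 0, 1, 3], [2, 1, 3, 2, 0, 1], [0, 1, 3], [3, 0, 1, 0], [2, 1, 3, 2, 0], [1, 3, 0], [3, 1, 0], [3, 1, 0], [3, 1, 0], [3, 1, 0], [3, 1, 0], [3, 1, 0], [0, 1, 3], [1,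 3, 0], [], [3, 1, 0], [3, 1, 0], [3, 1, 0]], [[3, 1, 2, 0, 1], [3, 1, 2, 1, 0], [2, 1, 0], [3, 1, 0], [1, 0], [1, 0], [0, 1, 3, 2, 0, 1], [2, 0, 1], [3, 0, 1], [0, 1], [1, 2, 1, 0], [1, 3, 1, 0], [1, 0], [1, 0], [1, 0], [1, 0], [1, 0], [1, 0], [0, 1], [], [1, 0], [1, 0], [1, 0], [1, 0]], [[3, 1, 2, 0, 1, 0], [3, 1, 2, 0], [2, 1, 0], [3, 1, 0], [1, 0], [0], [0, 1, 3, 2, 0], [0, 1, 2, 0], [0, 1, 3, 0], [0, 1, 0], [2, 0], [3, 0], [0], [0], [0], [0], [0], [0], [], [0], [0], [0], [0], [0]], [[0, 1, 3, 2, 1], [0, 1, 3, 2], [3, 0, 1, 2], [2, 0, 1, 3], [0, 1, 3, 2, 0, 1], [0, 1, 3, 2, 0], [3, 1, 2], [3, 1, 2], [2, 1, 3], [3, 1, 2, 1], [3, 1, 2], [1, 3, 2], [3, 1, 2], [2, 1, 3], [3, 1, 2], [3, 1, 2], [1, 3, 2], [], [3, 1, 2], [3, 1, 2], [3, 1, 2], [3, 1, 2], [3, 1, 2], [3, 1, 2]], [[3, 1, 2, 0, 1],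 [3, 0, 1, 2, 0], [0, 1, 2], [2, 1, 3, 2, 0, 1], [2, 0, 1], [0, 1, 2, 0], [3, 1, 2], [2, 1], [3, 2, 1], [2, 1], [1, 2], [1, 3, 1, 2], [2, 1], [2, 1], [1, 2], [2, 1], [], [2, 1], [2, 1], [2, 1], [2, 1], [2, 1], [2, 1], [2, 1]], [[1, 3, 2, 0, 1], [2, 0, 1, 3, 0], [1, 3, 1, 2, 0, 1], [0, 1, 3], [3, 0, 1], [0, 1, 3, 0], [2, 1, 3], [3, 2, 1], [3, 1], [3, 1], [2, 1, 3, 2], [1, 3], [3, 1], [3, 1], [1, 3], [], [3, 1], [3, 1], [3, 1], [3, 1], [3, 1], [3, 1], [3, 1], [3, 1]], [[3, 1, 2, 0, 1], [0, 1, 3, 2, 0, 1, 0], [2, 0, 1, 0], [3, 0, 1, 0], [0, 1], [0, 1, 0], [3, 1, 2, 1], [2, 1], [3, 1], [1], [1, 2, 1], [1, 3, 1], [1], [1], [], [1], [1], [1], [1], [1], [1], [1], [1], [1]], [[3, 0, 1, 2, 0, 1], [3, 1, 2, 0], [1, 2, 0], [2, 1, 3, 2, 0], [1, 2, 1, 0], [2, 0], [3, 1, 2], [1, 2], [2, 1, 3, 2], [1, 2,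 1], [2], [3, 2], [2], [], [2], [2], [2], [2], [2], [2], [2], [2], [2], [2]], [[2, 0, 1, 3, 0, 1], [1, 3, 2, 0], [1, 3, 1, 2, 0], [1, 3, 0], [1, 3, 1, 0], [3, 0], [1, 3, 2], [1, 3, 1, 2], [1, 3], [1, 3, 1], [3, 2], [3], [], [3], [3], [3], [3], [3], [3], [3], [3], [3], [3], [3]], [[3, 1, 2, 0, 1], [3, 1, 2, 0], [2, 1, 0], [3, 1, 0], [1, 0], [0], [3, 1, 2], [2, 1], [3, 1], [1], [2], [], [], [], [], [], [], [], [], [], [], [], [], []], [[3, 1, 2, 0, 1], [2, 1, 3, 0], [2, 1, 0], [3, 1, 0], [1, 0], [0], [2, 1, 3], [2, 1], [3, 1], [1], [], [3], [], [], [], [], [], [], [], [], [], [], [], []], [[0, 1, 3, 2, 1, 0], [3, 1, 2, 0], [2, 1, 0], [3, 1, 0], [1, 0], [0], [3, 1, 2], [1, 2], [1, 3], [], [2], [3], [], [], [], [], [], [], [], [], [], [], [], []], [[3, 1, 2, 0, 1], [3, 1, 2, 0], [2, 1, 0], [3,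 1, 0], [1, 0], [0], [3, 1, 2], [2, 1], [], [1], [2], [3], [], [], [], [], [], [], [], [], [], [], [], []], [[2, 1, 3, 0, 1], [3, 1, 2, 0], [2, 1, 0], [3, 1, 0], [1, 0], [0], [1, 3, 2], [], [3, 1], [1], [2], [3], [], [], [], [], [], [], [], [], [], [], [], []], [[3, 1, 2, 0, 1], [3, 1, 2, 0], [2, 1, 0], [3, 1, 0], [1, 0], [0], [], [2, 1], [3, 1], [1], [2], [3], [], [], [], [], [], [], [], [], [], [], [], []], [[3, 1, 2, 0, 1], [0, 1, 3, 2], [0, 1, 2], [0, 1, 3], [0, 1], [], [3, 1, 2], [2, 1], [3, 1], [1], [2], [3], [], [], [], [], [], [], [], [], [], [], [], []], [[0, 1, 3, 2, 1], [3, 1, 2, 0], [1, 2, 0], [1, 3, 0], [], [0], [3, 1, 2], [2, 1], [3, 1], [1], [2], [3], [], [], [], [], [], [], [], [], [], [], [], []], [[3, 1, 2, 0, 1], [3, 1, 2, 0], [2, 1, 0], [], [1, 0], [0], [3, 1, 2], [2, 1],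 [3, 1], [1], [2], [3], [], [], [], [], [], [], [], [], [], [], [], []], [[1, 3, 2, 0, 1], [1, 3, 2, 0], [], [3, 1, 0], [1, 0], [0], [3, 1, 2], [2, 1], [3, 1], [1], [2], [3], [], [], [], [], [], [], [], [], [], [], [], []], [[3, 1, 2, 0, 1], [], [2, 1, 0], [3, 1, 0], [1, 0], [0], [3, 1, 2], [2, 1], [3, 1], [1], [2], [3], [], [], [], [], [], [], [], [], [], [], [], []], [[], [3, 1, 2, 0], [2, 1, 0], [3, 1, 0], [1, 0], [0], [3, 1, 2], [2, 1], [3, 1], [1], [2], [3], [], [], [], [], [], [], [], [], [], [], [], []]]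

set_option maxRecDepth 1000000 in
set_option maxHeartbeats 0 in
theorem fdD4_ChkW1 : ∀ r < fdD4.n, fdD4.ChkW1 fxD4 zwD4 r := by
  decide +kernel

set_option maxRecDepth 1000000 in
set_option maxHeartbeats 0 in
theorem fdD4_ChkWP : ∀ r < fdD4.n, ∀ s < fdD4.n, s ≠ r → s ≠ fdD4.n - 1 - r → fdD4.ChkWP fxD4 zwD4 r s := by
  decide +kernel

end Cfsg.Agent.Lib.H29.Chev
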