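import Mathlib
import Cfsg.Agent.Lib.H29.ChevPL2
import Cfsg.Agent.Lib.H29.ChevDataG2
import Cfsg.Agent.Lib.H29.ChevDataXG2

/-! Weyl words making the two roots of a pair positive, type G2 (generated) -/

set_option autoImplicit false

namespace Cfsg.Agent.Lib.H29.Chev

def zwG2 : ZW where
  wp := [[[1, 0, 1], [1, 0, 1, 0], [1, 0, 1, 0], [1, 0, 1], [1, 0, 1, 0], [1, 0, 1], [1, 0, 1, 0], [1, 0, 1], [1, 0, 1, 0], [1, 0, 1], [1, 0, 1], []], [[1, 0, 1, 0], [1, 0], [0, 1, 0], [0, 1, 0, 1, 0], [1, 0], [1, 0, 1, 0, 1], [1, 0], [1, 0, 1, 0, 1], [1, 0], [1, 0], [], [1, 0]], [[1, 0, 1, 0], [0, 1, 0], [0, 1, 0], [0, 1, 0, 1], [0, 1, 0], [0, 1, 0, 1], [0, 1, 0], [0, 1, 0, 1], [0, 1, 0], [], [0, 1, 0, 1], [0, 1, 0]], [[1, 0, 1], [0, 1, 0, 1, 0], [0, 1, 0, 1], [0, 1], [0, 1, 0, 1, 0], [0, 1], [0, 1, 0, 1, 0], [0, 1], [], [0, 1], [0, 1], [0, 1]], [[1,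 0, 1, 0], [1, 0], [0, 1, 0], [0, 1, 0, 1, 0], [0], [1, 0, 1, 0, 1, 0], [0], [], [0], [0], [0], [0]], [[1, 0, 1], [1, 0, 1, 0, 1], [0, 1, 0, 1], [0, 1], [1, 0, 1, 0, 1, 0], [1], [], [1], [1], [1], [1], [1]], [[1, 0, 1, 0], [1, 0], [0, 1, 0], [0, 1, 0, 1, 0], [0], [], [], [], [], [], [], []], [[1, 0, 1], [1, 0, 1, 0, 1], [0, 1, 0, 1], [0, 1], [], [1], [], [], [], [], [], []], [[1, 0, 1, 0], [1, 0], [0, 1, 0], [], [0], [1], [], [], [], [], [], []], [[1, 0, 1], [1, 0], [], [0, 1], [0], [1], [], [], [], [], [], []], [[1, 0, 1], [], [0, 1, 0, 1], [0, 1], [0], [1], [], [], [], [], [], []], [[], [1, 0], [0, 1, 0], [0, 1], [0], [1], [], [], [], [], [], []]]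

set_option maxRecDepth 1000000 in
set_option maxHeartbeats 0 in
theorem fdG2_ChkW1 : ∀ r < fdG2.n, fdG2.ChkW1 fxG2 zwG2 r := by
  decide +kernel

set_option maxRecDepth 1000000 in
set_option maxHeartbeats 0 in
theorem fdG2_ChkWP : ∀ r < fdG2.n, ∀ s < fdG2.n, s ≠ r → s ≠ fdG2.n - 1 - r → fdG2.ChkWP fxG2 zwG2 r s := by
  decide +kernel

end Cfsg.Agent.Lib.H29.Chev
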