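import Mathlib
import Cfsg.Prelude.Def_ChevStructure
import Cfsg.Agent.Lib.H29.ChevCent3
import Cfsg.Agent.Lib.H29.ChevExp1
import Cfsg.Agent.Lib.H29.ChevTw1

/-!
# The subgroup generated by a root subgroup that is central in `U` and one of its conjugates
-/

set_option autoImplicit false
set_option linter.unusedSectionVars false
set_option linter.unusedSimpArgs false
set_option linter.unusedVariables false

namespace Cfsg.Agent.Lib.H29.Chev

open Cfsg.Lie Matrix

section Gen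

variable {D : ChevalleyDatum} {fd : FD} {fx : FX} {fc : FC} {fz : FZ} {F : Type*} [Field F]

/-- in characteristic two the matrices that raise a weight strictly have order a power of two, bounded uniformly -/
theorem GF_pow_two [CharP F 2] (wt : D.Idx → ℤ) (i₀ : D.Idx) :
    ∃ e : ℕ, ∀ M ∈ GF D F wt 1, M ^ (2 ^ e) = 1 := by
  classical
  set B : ℤ := ∑ i, |wt i| with hB
  have hle : ∀ i, |wt i| ≤ B := fun i =>
    Finset.single_le_sum (f := fun i => |wt i|) (fun j _ => abs_nonneg (wt j)) (Finset.mem_univ i)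
  set lev : D.Idx → ℕ := fun i => (wt i + B).toNat with hlev
  have hlevb : ∀ i, lev i ≤ (2 * B).toNat := by
    intro i
    have h1 := hle i
    have h2 := le_abs_self (wt i)
    have h3 := neg_abs_le (wt i)
    simp only [hlev]
    omega
  refine ⟨(2 * B).toNat, fun M hM => ?_⟩
  have : Nonempty D.Idx := ⟨i₀⟩
  have : Fact (Nat.Prime 2) := ⟨Nat.prime_two⟩
  have hG : GUni lev M := by
    intro i j hij
    rw [Matrix.sub_apply]
    by_cases h : i = j
    · subst h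
      rw [hM.1, Matrix.one_apply_eq, sub_self]
    · rw [Matrix.one_apply_ne h, sub_zero]
      by_contra h0
      apply hij
      have := hM.2 i j h h0
      have h1 := hle i
      have h2 := le_abs_self (wt i)
      have h3 := neg_abs_le (wt i)
      have h1' := hle j
      have h2' := le_abs_self (wt j)
      have h3' := neg_abs_le (wt j)
      simp only [hlev]
      omega
  exact hG.pow_char 2 (2 * B).toNat (2 * B).toNat hlevb (Nat.lt_two_pow_self)

namespace Cert12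

variable (C : Cert12 D fd fx fc fz)
include C

/-- the root elements for the roots on which a functional is positive raise the weight strictly -/
theorem xA_mem_GFa (a' : ℕ → ℤ) (r : ℕ) (hr : r < fd.n) (h : 0 < fd.omr fx a' r) (t : F) :
    ((C.c6.c2.xA r t : GL D.Idx F) : Matrix D.Idx D.Idx F) ∈ GF D F (fd.wtA fx D a') 1 := by
  rw [C.c6.c2.xA_val, x_eq_XR C.c6.c2.agrees r hr]
  exact XR_mem_GF C.c6.c2 a' r hr 1 one_pos (by omega) t

/-- two root subgroups for roots on which one functional is positive generate a `2`-group -/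
theorem pair_isPGroup [CharP F 2] (a' : ℕ → ℤ) (r s : ℕ) (hr : r < fd.n) (hs : s < fd.n)
    (h1 : 0 < fd.omr fx a' r) (h2 : 0 < fd.omr fx a' s) :
    ∃ e : ℕ, ∀ x ∈ D.rootSubgroup F r ⊔ D.rootSubgroup F s, x ^ (2 ^ e) = 1 := by
  have hr' : r < D.nroots := by rw [C.c6.c2.nroots_eq]; exact hr
  obtain ⟨e, he⟩ := GF_pow_two (F := F) (fd.wtA fx D a') (Sum.inr ⟨r, hr'⟩)
  refine ⟨e, fun x hx => ?_⟩
  have key : ((x : GL D.Idx F) : Matrix D.Idx D.Idx F) ∈ GF D F (fd.wtA fx D a') 1 ∧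
      ((x⁻¹ : GL D.Idx F) : Matrix D.Idx D.Idx F) ∈ GF D F (fd.wtA fx D a') 1 := by
    unfold ChevalleyDatum.rootSubgroup at hx
    rw [← Subgroup.closure_union] at hx
    induction hx using Subgroup.closure_induction with
    | mem y hy =>
      rcases hy with ⟨t, hy⟩ | ⟨t, hy⟩
      · have : y = C.c6.c2.xA r t := gl_ext (by rw [hy, C.c6.c2.xA_val])
        rw [this]
        refine ⟨C.xA_mem_GFa a' r hr h1 t, ?_⟩
        rw [C.c6.c2.xA_inv]
        exact C.xA_mem_GFa a' r hr h1 _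
      · have : y = C.c6.c2.xA s t := gl_ext (by rw [hy, C.c6.c2.xA_val])
        rw [this]
        refine ⟨C.xA_mem_GFa a' s hs h2 t, ?_⟩
        rw [C.c6.c2.xA_inv]
        exact C.xA_mem_GFa a' s hs h2 _
    | one =>
      rw [inv_one]
      exact ⟨GF_one _ _, GF_one _ _⟩
    | mul y z _ _ hy hz =>
      rw [_root_.mul_inv_rev]
      exact ⟨GF_mul _ _ one_pos _ _ hy.1 hz.1, GF_mul _ _ one_pos _ _ hz.2 hy.2⟩
    | inv y _ hy =>
      rw [inv_inv]
      exact ⟨hy.2, hy.1⟩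
  apply Units.ext
  rw [Units.val_pow_eq_pow_val, Units.val_one]
  exact he _ key.1


/-- the root elements of `X_r` commute with `U` when the coefficients of the commutator formula vanish -/
theorem pos_comm_root (r : ℕ) (hr : r < fd.n) (hrpos : fd.n / 2 ≤ r)
    (hz : ∀ s < fd.n, fd.n / 2 ≤ s → s ≠ r → ∀ c ∈ fd.commT s r, ((c.2.1 : ℤ) : F) = 0)
    (u : GL D.Idx F) (hu : u ∈ D.posUnipotent F) (t : F) : Commute u (C.c6.c2.xA r t) := by
  have hev := C.c6.c2.heven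
  have hpc : ∀ s < fd.n, fd.n / 2 ≤ s → ∀ c : F, Commute (C.c6.c2.xA s c) (C.c6.c2.xA r t) := by
    intro s hs hpos c
    by_cases hsr : s = r
    · rw [hsr]
      show C.c6.c2.xA r c * C.c6.c2.xA r t = C.c6.c2.xA r t * C.c6.c2.xA r c
      rw [C.c6.c2.xA_mul, C.c6.c2.xA_mul, add_comm]
    · exact C.xA_comm_of_coef s r hs hr (Ne.symm hsr) (by omega) (hz s hs hpos hsr) c t
  unfold ChevalleyDatum.posUnipotent at hu
  induction hu using Subgroup.closure_induction with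
  | mem x hx =>
    obtain ⟨s, c, hs, hx⟩ := hx
    obtain ⟨hs1, hs2⟩ := (C.c6.isPos_iff s).mp hs
    have : x = C.c6.c2.xA s c := gl_ext (by rw [hx, C.c6.c2.xA_val])
    rw [this]
    exact hpc s hs1 hs2 c
  | one => exact Commute.one_left _
  | mul x y _ _ hx hy => exact hx.mul_left hy
  | inv x _ hx => exact hx.inv_left

/-- the subgroup generated by a root subgroup `X_r` central in `U` and a conjugate of it is a `2`-group or a
conjugate of `⟨X_r, X_{-r}⟩` -/
theorem pair_dichotomy [CharP F 2] (r : ℕ) (hr : r < fd.n) (hrpos : fd.n / 2 ≤ r) (cls : ℕ → Prop)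
    (hcr : cls r) (hcsw : ∀ i < fd.l, ∀ s < fd.n, cls s → cls (fd.sw fx i s))
    (hz : ∀ s < fd.n, fd.n / 2 ≤ s → s ≠ r → ∀ c ∈ fd.commT s r, ((c.2.1 : ℤ) : F) = 0)
    (htab : ∀ s < fd.n, cls s → s ≠ fd.n - 1 - r → -2 < fd.pr r s ∧ -2 < fd.pr s r)
    (g : GL D.Idx F) (hg : g ∈ D.group F) :
    IsPGroup 2 ↥(D.rootSubgroup F r ⊔ (D.rootSubgroup F r).map (MulAut.conj g).toMonoidHom) ∨
    ∃ h ∈ D.group F,
      (D.rootSubgroup F r ⊔ (D.rootSubgroup F r).map (MulAut.conj g).toMonoidHom).map (MulAut.conj h).toMonoidHom =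
        D.rootSubgroup F r ⊔ D.rootSubgroup F (fd.n - 1 - r) := by
  obtain ⟨b, hb, n, hn, u, hu, rfl⟩ := C.c6.canonical_form.1 g hg
  obtain ⟨u₀, hu₀, h₀, hh₀, rfl⟩ := C.c6.c2.borel_mem b hb
  have hu' : u ∈ D.posUnipotent F := _root_.Cfsg.Agent.Lib.H29.Chev.Uw_le_pos n hu
  have hUc := C.pos_comm_root r hr hrpos hz
  have hm : h₀ * n ∈ D.monomialSubgroup F :=
    mul_mem ((le_sup_left : D.diagonalSubgroup F ≤ D.monomialSubgroup F) hh₀) hn
  obtain ⟨⟨w, hw, hπ⟩, _⟩ := C.perm_word (h₀ * n) hm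
  obtain ⟨hs, _, c, hc⟩ := hπ r hr
  set s := fd.wordP fx w r with hsdef
  have hc0 : c ≠ 0 := by
    intro h0
    have h1 := hc 1
    rw [h0, zero_mul, C.c6.c2.xA_zero] at h1
    have h2 : C.c6.c2.xA r (1 : F) = 1 := by
      have : C.c6.c2.xA r (1 : F) = (h₀ * n)⁻¹ * (h₀ * n * C.c6.c2.xA r 1 * (h₀ * n)⁻¹) * (h₀ * n) := by group
      rw [this, h1]; group
    exact one_ne_zero (C.c6.xA_eq_one r hr _ h2)
  have hcls : cls s := C.cls_wordP cls hcsw w hw r hr hcr
  -- the conjugate of `X_r` by `g` is the conjugate of `X_s` by `u₀`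
  have hconj : ∀ t : F, (u₀ * h₀ * n * u) * C.c6.c2.xA r t * (u₀ * h₀ * n * u)⁻¹ =
      u₀ * C.c6.c2.xA s (c * t) * u₀⁻¹ := by
    intro t
    have e1 : u * C.c6.c2.xA r t * u⁻¹ = C.c6.c2.xA r t := by
      rw [(hUc u hu' t).eq, mul_assoc, mul_inv_cancel, mul_one]
    have : (u₀ * h₀ * n * u) * C.c6.c2.xA r t * (u₀ * h₀ * n * u)⁻¹ =
        u₀ * ((h₀ * n) * (u * C.c6.c2.xA r t * u⁻¹) * (h₀ * n)⁻¹) * u₀⁻¹ := by group
    rw [this, e1, hc]
  have hXr : (D.rootSubgroup F r).map (MulAut.conj u₀).toMonoidHom = D.rootSubgroup F r := by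
    apply le_antisymm
    · rintro _ ⟨x, hx, rfl⟩
      obtain ⟨t, rfl⟩ := C.c6.rootSubgroup_mem r x hx
      show u₀ * C.c6.c2.xA r t * u₀⁻¹ ∈ _
      rw [(hUc u₀ hu₀ t).eq, mul_assoc, mul_inv_cancel, mul_one]
      exact C.c6.xA_mem_rootSubgroup r t
    · intro x hx
      obtain ⟨t, rfl⟩ := C.c6.rootSubgroup_mem r x hx
      refine ⟨C.c6.c2.xA r t, C.c6.xA_mem_rootSubgroup r t, ?_⟩
      show u₀ * C.c6.c2.xA r t * u₀⁻¹ = _
      rw [(hUc u₀ hu₀ t).eq, mul_assoc, mul_inv_cancel, mul_one]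
  have hXs : (D.rootSubgroup F r).map (MulAut.conj (u₀ * h₀ * n * u)).toMonoidHom =
      (D.rootSubgroup F s).map (MulAut.conj u₀).toMonoidHom := by
    apply le_antisymm
    · rintro _ ⟨x, hx, rfl⟩
      obtain ⟨t, rfl⟩ := C.c6.rootSubgroup_mem r x hx
      refine ⟨C.c6.c2.xA s (c * t), C.c6.xA_mem_rootSubgroup s _, ?_⟩
      show u₀ * C.c6.c2.xA s (c * t) * u₀⁻¹ = (u₀ * h₀ * n * u) * C.c6.c2.xA r t * (u₀ * h₀ * n * u)⁻¹
      rw [hconj]
    · rintro _ ⟨x, hx, rfl⟩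
      obtain ⟨t, rfl⟩ := C.c6.rootSubgroup_mem s x hx
      refine ⟨C.c6.c2.xA r (c⁻¹ * t), C.c6.xA_mem_rootSubgroup r _, ?_⟩
      show (u₀ * h₀ * n * u) * C.c6.c2.xA r (c⁻¹ * t) * (u₀ * h₀ * n * u)⁻¹ = u₀ * C.c6.c2.xA s t * u₀⁻¹
      rw [hconj, ← mul_assoc, mul_inv_cancel₀ hc0, one_mul]
  have hsup : D.rootSubgroup F r ⊔ (D.rootSubgroup F r).map (MulAut.conj (u₀ * h₀ * n * u)).toMonoidHom =
      (D.rootSubgroup F r ⊔ D.rootSubgroup F s).map (MulAut.conj u₀).toMonoidHom := by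
    rw [Subgroup.map_sup, hXr, hXs]
  rw [hsup]
  by_cases hsr : s = fd.n - 1 - r
  · right
    refine ⟨u₀⁻¹, inv_mem (C.c6.c2.pos_le_group hu₀), ?_⟩
    rw [Subgroup.map_map, ← hsr]
    have : (MulAut.conj u₀⁻¹).toMonoidHom.comp (MulAut.conj u₀).toMonoidHom = MonoidHom.id _ := by
      ext x : 1
      simp [MulAut.conj_apply]
      group
    rw [this, Subgroup.map_id]
  · left
    obtain ⟨k1, k2⟩ := htab s hs hcls hsr
    have hl := C.c6.c2.chk.lin
    have f1 : fd.omr fx (fd.prs r + fd.prs s) r = fd.pr r r + fd.pr r s := by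
      rw [fd.omr_add, ← fd.pr_lin hl r r hr, ← fd.pr_lin hl r s hr]
    have f2 : fd.omr fx (fd.prs r + fd.prs s) s = fd.pr s r + fd.pr s s := by
      rw [fd.omr_add, ← fd.pr_lin hl s r hs, ← fd.pr_lin hl s s hs]
    have g1 : fd.pr r r = 2 := (fd.lin_spec hl r hr).2.2
    have g2 : fd.pr s s = 2 := (fd.lin_spec hl s hs).2.2
    obtain ⟨e, he⟩ := C.pair_isPGroup (F := F) (fd.prs r + fd.prs s) r s hr hs (by rw [f1]; omega) (by rw [f2]; omega)
    intro y
    obtain ⟨y, hy⟩ := y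
    obtain ⟨x, hx, rfl⟩ := hy
    refine ⟨e, ?_⟩
    apply Subtype.ext
    rw [Subgroup.coe_pow, Subgroup.coe_one]
    show ((MulAut.conj u₀).toMonoidHom x) ^ 2 ^ e = 1
    rw [← map_pow, he x hx, map_one]

end Cert12

end Gen

end Cfsg.Agent.Lib.H29.Chev
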