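import Mathlib
import Cfsg.Prelude.Def_ChevStructure
import Cfsg.Agent.Lib.H29.ChevPair1
import Cfsg.Agent.Lib.H29.ChevCert13

/-!
# Pairs of conjugates of the highest root subgroup in `G₂`, `D₄`, `E₆`, `E₇`, `E₈`: the table data
-/

set_option autoImplicit false
set_option linter.unusedSectionVars false
set_option linter.unusedSimpArgs false
set_option linter.unusedVariables false

namespace Cfsg.Agent.Lib.H29.Chev

open Cfsg.Lie Matrix

/-- the table data for the highest root `r`: it is central in `U`, and lies in a class of roots stable under the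
Weyl group whose members other than `-r` have inner product with `r` bigger than `-2` -/
structure PairData (fd : FD) (fx : FX) (r : ℕ) (cls : ℕ → Bool) : Prop where
  hr : r < fd.n
  hrpos : fd.n / 2 ≤ r
  hcr : cls r = true
  hcsw : ∀ i < fd.l, ∀ s < fd.n, cls s = true → cls (fd.sw fx i s) = true
  hz : ∀ s < fd.n, fd.n / 2 ≤ s → s ≠ r → fd.commT s r = []
  htab : ∀ s < fd.n, cls s = true → s ≠ fd.n - 1 - r → -2 < fd.pr r s ∧ -2 < fd.pr s r

def longG2 (s : ℕ) : Bool := decide (s ∈ [0, 1, 5, 6, 10, 11])

set_option maxRecDepth 100000 in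
theorem pdG2 : PairData fdG2 fxG2 11 longG2 where
  hr := by decide +kernel
  hrpos := by decide +kernel
  hcr := by decide +kernel
  hcsw := by decide +kernel
  hz := by decide +kernel
  htab := by decide +kernel

set_option maxRecDepth 100000 in
theorem pdD4 : PairData fdD4 fxD4 23 (fun _ => true) where
  hr := by decide +kernel
  hrpos := by decide +kernel
  hcr := rfl
  hcsw := fun _ _ _ _ _ => rfl
  hz := by decide +kernel
  htab := by decide +kernel

set_option maxRecDepth 100000 in
theorem pdE6 : PairData fdE6 fxE6 71 (fun _ => true) where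
  hr := by decide +kernel
  hrpos := by decide +kernel
  hcr := rfl
  hcsw := fun _ _ _ _ _ => rfl
  hz := by decide +kernel
  htab := by decide +kernel

set_option maxRecDepth 100000 in
theorem pdE7 : PairData fdE7 fxE7 125 (fun _ => true) where
  hr := by decide +kernel
  hrpos := by decide +kernel
  hcr := rfl
  hcsw := fun _ _ _ _ _ => rfl
  hz := by decide +kernel
  htab := by decide +kernel

set_option maxRecDepth 100000 in
theorem pdE8 : PairData fdE8 fxE8 239 (fun _ => true) where
  hr := by decide +kernel
  hrpos := by decide +kernel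
  hcr := rfl
  hcsw := fun _ _ _ _ _ => rfl
  hz := by decide +kernel
  htab := by decide +kernel

section Gen

variable {D : ChevalleyDatum} {fd : FD} {fx : FX} {fc : FC} {fz : FZ} {F : Type*} [Field F]

theorem Cert12.pair_of_data (C : Cert12 D fd fx fc fz) [CharP F 2] (r : ℕ) (cls : ℕ → Bool)
    (pd : PairData fd fx r cls) (g : GL D.Idx F) (hg : g ∈ D.group F) :
    IsPGroup 2 ↥(D.rootSubgroup F r ⊔ (D.rootSubgroup F r).map (MulAut.conj g).toMonoidHom) ∨
    ∃ h ∈ D.group F,
      (D.rootSubgroup F r ⊔ (D.rootSubgroup F r).map (MulAut.conj g).toMonoidHom).map (MulAut.conj h).toMonoidHom =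
        D.rootSubgroup F r ⊔ D.rootSubgroup F (fd.n - 1 - r) :=
  C.pair_dichotomy r pd.hr pd.hrpos (fun s => cls s = true) pd.hcr pd.hcsw
    (fun s hs h1 h2 c hc => by rw [pd.hz s hs h1 h2] at hc; exact absurd hc List.not_mem_nil) pd.htab g hg

end Gen

end Cfsg.Agent.Lib.H29.Chev
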