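import Mathlib
import Cfsg.Prelude.Def_ChevStructure
import Cfsg.Prelude.Def_Steinberg
import Cfsg.Agent.Lib.H29.ChevStL
import Cfsg.Agent.Lib.H29.ChevStM
import Cfsg.Agent.Lib.H29.ChevDataG2
import Cfsg.Agent.Lib.H29.ChevDataF4
import Cfsg.Agent.Lib.H29.ChevDataE8

/-!
# Steinberg's presentation: the presented group has trivial centre when the Cartan matrix is unimodular
-/

set_option autoImplicit false
set_option linter.unusedSectionVars false
set_option linter.unusedSimpArgs false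
set_option linter.unusedVariables false

namespace Cfsg.Agent.Lib.H29.Chev

open Cfsg.Lie Matrix

def uniG2 : List (List ℤ) := [[2, 3], [1, 2]]
def uniF4 : List (List ℤ) := [[2, 3, 4, 2], [3, 6, 8, 4], [2, 4, 6, 3], [1, 2, 3, 2]]
def uniE8 : List (List ℤ) := [[4, 5, 7, 10, 8, 6, 4, 2], [5, 8, 10, 15, 12, 9, 6, 3], [7, 10, 14, 20, 16, 12, 8, 4],
    [10, 15, 20, 30, 24, 18, 12, 6], [8, 12, 16, 24, 20, 15, 10, 5], [6, 9, 12, 18, 15, 12, 8, 4],
    [4, 6, 8, 12, 10, 8, 6, 3], [2, 3, 4, 6, 5, 4, 3, 2]]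

set_option maxRecDepth 1000000 in
theorem fdG2_ChkUni : fdG2.ChkUni uniG2 := by decide +kernel

set_option maxRecDepth 1000000 in
theorem fdF4_ChkUni : fdF4.ChkUni uniF4 := by decide +kernel

set_option maxRecDepth 1000000 in
theorem fdE8_ChkUni : fdE8.ChkUni uniE8 := by decide +kernel

variable {D : ChevalleyDatum} {fd : FD} {fx : FX} {fc : FC} {fz : FZ}

namespace Cert12

variable (C : Cert12 D fd fx fc fz) (K : Type*) [Field K]
include C

variable {wit : List (ℕ × ℕ)}

theorem steinberg_center_bot (hst : fd.ChkSt fx wit) (B : List (List ℤ)) (hB : fd.ChkUni B) :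
    Subgroup.center (D.SteinbergGroup K) = ⊥ := by
  have hAB : D.steinbergRelsAB K ⊆ D.steinbergRels K := fun g hg => Or.inl hg
  have hθ' : ∀ r, r < fd.n → ∀ t, ((PresentedGroup.toGroup (C.rels_all K)
      (PresentedGroup.mk (D.steinbergRels K) (D.stX r t)) : ↥(D.group K)) : GL D.Idx K) = C.c6.c2.xA r t :=
    fun r _ t => C.toGroup_mk K _ _ r t
  set S := C.stStG' K _ hAB (PresentedGroup.toGroup (C.rels_all K)) hθ' with hS
  have h3 : S.R3 := by
    intro r hr t₁ t₂ ht₁ ht₂
    have hr' : r < D.nroots := by rw [C.c6.c2.nroots_eq]; exact hr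
    have := PresentedGroup.one_of_mem (rels := D.steinbergRels K)
      (Or.inr ⟨r, t₁, t₂, hr', ht₁, ht₂, rfl⟩)
    rw [map_mul, map_mul, map_inv, C.mk_stH K _ hAB _ hθ' r hr, C.mk_stH K _ hAB _ hθ' r hr,
      C.mk_stH K _ hAB _ hθ' r hr] at this
    exact mul_inv_eq_one.mp this
  rw [eq_bot_iff]
  intro z hz
  rw [Subgroup.mem_bot]
  rw [Subgroup.mem_center_iff] at hz
  have hθz : S.θ z = 1 := by
    rw [hS, C.stStG'_θ]
    apply C.eq_one_of_comm _ (Subtype.property _)
    intro r hr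
    have h1 := hz (PresentedGroup.mk _ (D.stX r (1 : K)))
    have h2 := congrArg (fun g => ((PresentedGroup.toGroup (C.rels_all K) g : ↥(D.group K)) : GL D.Idx K)) h1
    simp only [map_mul, Subgroup.coe_mul] at h2
    rw [C.toGroup_mk] at h2
    exact h2.symm
  exact S.ker_Hbar hst h3 B hB z (S.ker_le_Hbar hst z hθz) hθz

end Cert12

end Cfsg.Agent.Lib.H29.Chev
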