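import Mathlib

/-!
# An element `a` of a field with more than four elements such that `a ≠ 0`, `a² ≠ 1`, `a³ ≠ 1`
-/

set_option autoImplicit false

namespace Cfsg.Agent.Lib.H29.Chev

theorem exists_torus_elt {K : Type*} [Field K] (hK5 : ∃ s : Finset K, 4 < s.card) :
    ∃ a : K, a ≠ 0 ∧ a ^ 2 ≠ 1 ∧ a ^ 3 ≠ 1 := by
  classical
  obtain ⟨s, hs⟩ := hK5
  by_cases h2 : (2 : K) = 0
  · -- characteristic 2
    have hneg : ∀ x : K, -x = x := by
      intro x
      have : x + x = 0 := by rw [← two_mul, h2, zero_mul]
      exact neg_eq_of_add_eq_zero_left this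
    have hcard : 2 < ((s.erase 0).erase 1).card := by
      have h1 := Finset.pred_card_le_card_erase (s := s) (a := (0 : K))
      have h1' := Finset.pred_card_le_card_erase (s := s.erase 0) (a := (1 : K))
      omega
    obtain ⟨x, hx, y, hy, z, hz, hxy, hxz, hyz⟩ := Finset.two_lt_card.mp hcard
    have hne : ∀ w ∈ (s.erase 0).erase 1, w ≠ 0 ∧ w ≠ 1 := by
      intro w hw
      rw [Finset.mem_erase, Finset.mem_erase] at hw
      exact ⟨hw.2.1, hw.1⟩
    have good : ∀ w : K, w ≠ 0 → w ≠ 1 → w ^ 2 + w + 1 ≠ 0 → w ≠ 0 ∧ w ^ 2 ≠ 1 ∧ w ^ 3 ≠ 1 := by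
      intro w h0 h1 hq
      refine ⟨h0, ?_, ?_⟩
      · intro h
        have : (w - 1) ^ 2 = 0 := by
          have : (w - 1) ^ 2 = w ^ 2 - 2 * w + 1 := by ring
          rw [this, h2, zero_mul, sub_zero, h]
          have := hneg 1
          rw [← two_mul, h2, zero_mul]
        exact h1 (sub_eq_zero.mp (pow_eq_zero_iff (by norm_num) |>.mp this))
      · intro h
        have : (w - 1) * (w ^ 2 + w + 1) = 0 := by
          have : (w - 1) * (w ^ 2 + w + 1) = w ^ 3 - 1 := by ring
          rw [this, h, sub_self]
        rcases mul_eq_zero.mp this with h' | h'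
        · exact h1 (sub_eq_zero.mp h')
        · exact hq h'
    by_cases qx : x ^ 2 + x + 1 = 0
    · by_cases qy : y ^ 2 + y + 1 = 0
      · by_cases qz : z ^ 2 + z + 1 = 0
        · exfalso
          have e1 : (x - y) * (x + y + 1) = 0 := by linear_combination qx - qy
          have e2 : (x - z) * (x + z + 1) = 0 := by linear_combination qx - qz
          have f1 : x + y + 1 = 0 := by
            rcases mul_eq_zero.mp e1 with h | h
            · exact absurd (sub_eq_zero.mp h) hxy
            · exact h
          have f2 : x + z + 1 = 0 := by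
            rcases mul_eq_zero.mp e2 with h | h
            · exact absurd (sub_eq_zero.mp h) hxz
            · exact h
          apply hyz
          linear_combination f1 - f2
        · exact ⟨z, good z (hne z hz).1 (hne z hz).2 qz⟩
      · exact ⟨y, good y (hne y hy).1 (hne y hy).2 qy⟩
    · exact ⟨x, good x (hne x hx).1 (hne x hx).2 qx⟩
  · by_cases h3 : (3 : K) = 0
    · -- characteristic 3
      have hcard : 0 < (((s.erase 0).erase 1).erase (-1)).card := by
        have h1 := Finset.pred_card_le_card_erase (s := s) (a := (0 : K))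
        have h1' := Finset.pred_card_le_card_erase (s := s.erase 0) (a := (1 : K))
        have h1'' := Finset.pred_card_le_card_erase (s := (s.erase 0).erase 1) (a := (-1 : K))
        omega
      obtain ⟨w, hw⟩ := Finset.card_pos.mp hcard
      rw [Finset.mem_erase, Finset.mem_erase, Finset.mem_erase] at hw
      obtain ⟨hm1, h1, h0, _⟩ := hw
      refine ⟨w, h0, ?_, ?_⟩
      · intro h
        have : (w - 1) * (w + 1) = 0 := by
          have : (w - 1) * (w + 1) = w ^ 2 - 1 := by ring
          rw [this, h, sub_self]
        rcases mul_eq_zero.mp this with h' | h'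
        · exact h1 (sub_eq_zero.mp h')
        · exact hm1 (eq_neg_of_add_eq_zero_left h')
      · intro h
        have : (w - 1) ^ 3 = 0 := by
          have : (w - 1) ^ 3 = w ^ 3 - 1 - 3 * (w ^ 2 - w) := by ring
          rw [this, h3, zero_mul, sub_zero, h, sub_self]
        exact h1 (sub_eq_zero.mp (pow_eq_zero_iff (by norm_num) |>.mp this))
    · by_cases h7 : (7 : K) = 0
      · refine ⟨3, h3, ?_, ?_⟩
        · intro h
          apply h2
          have : (2 : K) ^ 3 = 0 := by
            have : (2 : K) ^ 3 = 3 ^ 2 - 1 := by norm_num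
            rw [this, h, sub_self]
          exact pow_eq_zero_iff (by norm_num) |>.mp this
        · intro h
          apply h2
          have : (2 : K) = 4 * 7 - (3 ^ 3 - 1) := by norm_num
          rw [this, h7, h, mul_zero, sub_self, sub_self]
      · refine ⟨2, h2, ?_, ?_⟩
        · intro h
          apply h3
          have : (3 : K) = 2 ^ 2 - 1 := by norm_num
          rw [this, h, sub_self]
        · intro h
          apply h7
          have : (7 : K) = 2 ^ 3 - 1 := by norm_num
          rw [this, h, sub_self]

end Cfsg.Agent.Lib.H29.Chev
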