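import Mathlib
import Cfsg.Agent.Lib.H29.ChevTL4
import Cfsg.Agent.Lib.H29.ChevDataF4
import Cfsg.Agent.Lib.H29.ChevDataXF4

/-! Auxiliary roots and Weyl words for the lifting of Steinberg's relations by the torus, type F4 (generated) -/

set_option autoImplicit false

namespace Cfsg.Agent.Lib.H29.Chev

def ztF4 : ZT where
  gam := [[0, 5, 4, 15, 2, 1, 0, 4, 2, 1, 0, 1, 0, 0, 0, 2, 1, 0, 1, 0, 0, 1, 0, 2, 2, 0, 1, 0, 0, 1, 0, 1, 2, 0, 0, 0, 1, 0, 1, 2, 4, 0, 1, 2, 15, 4, 5, 0], [6, 0, 4, 15, 2, 1, 0, 4, 2, 1, 0, 1, 0, 0, 0, 2, 1, 0, 1, 0, 0, 1, 0, 2, 2, 0, 1, 0, 0, 1, 0, 1, 2, 0, 0, 0, 1, 0, 1, 2, 4, 0, 1, 2, 15, 4, 0, 6], [6, 5, 0, 16, 2, 1, 0, 5, 2, 1, 0, 1, 0, 0, 0, 2, 1, 0, 1, 0, 0, 1, 0, 2, 2, 0, 1, 0, 0, 1, 0, 1, 2, 0, 0, 0, 1, 0, 1, 2, 5, 0, 1, 2, 16, 0, 5, 6], [6, 5, 4,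 0, 2, 1, 0, 4, 2, 1, 0, 1, 0, 0, 0, 2, 1, 0, 1, 0, 0, 1, 0, 2, 2, 0, 1, 0, 0, 1, 0, 1, 2, 0, 0, 0, 1, 0, 1, 2, 4, 0, 1, 2, 0, 4, 5, 6], [6, 5, 4, 16, 0, 1, 0, 4, 5, 1, 0, 1, 0, 0, 0, 3, 1, 0, 1, 0, 0, 1, 0, 3, 3, 0, 1, 0, 0, 1, 0, 1, 3, 0, 0, 0, 1, 0, 1, 5, 4, 0, 1, 0, 16, 4, 5, 6], [6, 5, 4, 15, 2, 0, 0, 4, 2, 4, 0, 2, 0, 0, 0, 2, 3, 0, 2, 0, 0, 3, 0, 2, 2, 0, 3, 0, 0, 2, 0, 3, 2, 0, 0, 0, 2, 0, 4, 2, 4, 0, 0, 2, 15, 4, 5, 6], [6, 5, 4, 15, 2, 1, 0, 4, 2, 1, 4, 1, 2, 1, 1, 2, 1, 3, 1, 2, 1, 1, 3, 2, 2, 3, 1, 1, 2, 1, 3, 1, 2, 1, 1, 2, 1, 4, 1, 2, 4, 0, 1, 2, 15, 4, 5, 6], [10, 9, 8, 15, 2, 1, 0, 0, 2, 1, 0, 1, 0, 0, 0, 2, 1, 0, 1, 0, 0, 1, 0, 2, 2, 0, 1, 0, 0, 1, 0, 1, 2, 0, 0, 0, 1, 0, 1, 2, 0, 0, 1, 2, 15, 8, 9, 10], [12, 11, 4, 15, 7, 1, 0, 4, 0, 1, 0, 1, 0, 0, 0, 3, 1, 0,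 1, 0, 0, 1, 0, 3, 3, 0, 1, 0, 0, 1, 0, 1, 3, 0, 0, 0, 1, 0, 1, 0, 4, 0, 1, 7, 15, 4, 11, 12], [12, 5, 11, 16, 2, 7, 0, 5, 2, 0, 0, 2, 0, 0, 0, 2, 3, 0, 2, 0, 0, 3, 0, 2, 2, 0, 3, 0, 0, 2, 0, 3, 2, 0, 0, 0, 2, 0, 0, 2, 5, 0, 7, 2, 16, 11, 5, 12], [6, 11, 11, 17, 2, 1, 7, 6, 2, 1, 0, 1, 2, 1, 1, 2, 1, 3, 1, 2, 1, 1, 3, 2, 2, 3, 1, 1, 2, 1, 3, 1, 2, 1, 1, 2, 1, 0, 1, 2, 6, 7, 1, 2, 17, 11, 11, 6], [10, 5, 4, 17, 9, 8, 0, 4, 5, 4, 0, 0, 0, 0, 0, 3, 3, 0, 3, 0, 0, 3, 0, 3, 3, 0, 3, 0, 0, 3, 0, 3, 3, 0, 0, 0, 0, 0, 4, 5, 4, 0, 8, 9, 17, 4, 5, 10], [6, 9, 4, 16, 9, 1, 8, 4, 6, 1, 4, 1, 0, 1, 1, 3, 1, 3, 1, 3, 1, 1, 3, 3, 3, 3, 1, 1, 3, 1, 3, 1, 3, 1, 1, 0, 1, 4, 1, 6, 4, 8, 1, 9, 16, 4, 9, 6], [6, 5, 8, 15, 2, 8, 8, 5, 2, 6, 5, 2, 2, 0, 2, 2, 3, 3, 2, 2, 3, 3, 3, 2, 2, 3, 3, 3, 2, 2,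 3, 3, 2, 2, 0, 2, 2, 5, 6, 2, 5, 8, 8, 2, 15, 8, 5, 6], [6, 5, 4, 15, 7, 7, 7, 4, 5, 4, 4, 6, 5, 4, 0, 3, 3, 3, 3, 3, 3, 3, 3, 3, 3, 3, 3, 3, 3, 3, 3, 3, 3, 0, 4, 5, 6, 4, 4, 5, 4, 7, 7, 7, 15, 4, 5, 6], [6, 5, 8, 15, 7, 1, 0, 5, 5, 1, 0, 1, 0, 0, 0, 0, 1, 0, 1, 0, 0, 1, 0, 7, 7, 0, 1, 0, 0, 1, 0, 1, 0, 0, 0, 0, 1, 0, 1, 5, 5, 0, 1, 7, 15, 8, 5, 6], [6, 9, 4, 15, 2, 7, 0, 4, 2, 4, 0, 2, 0, 0, 0, 2, 0, 0, 2, 0, 0, 7, 0, 2, 2, 0, 7, 0, 0, 2, 0, 0, 2, 0, 0, 0, 2, 0, 4, 2, 4, 0, 7, 2, 15, 4, 9, 6], [10, 5, 4, 15, 2, 1, 7, 4, 2, 1, 4, 1, 2, 1, 1, 2, 1, 0, 1, 2, 1, 1, 7, 2, 2, 7, 1, 1, 2, 1, 0, 1, 2, 1, 1, 2, 1, 4, 1, 2, 4, 7, 1, 2, 15, 4, 5, 10], [6, 9, 8, 15, 7, 7, 0, 6, 6, 6, 0, 6, 0, 0, 0, 9, 8, 0, 0, 0, 0, 7, 0, 7, 7, 0, 7, 0, 0, 0, 0, 8, 9, 0, 0, 0, 6, 0, 6, 6, 6, 0, 7, 7, 15,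 8, 9, 6], [10, 5, 8, 15, 7, 1, 7, 5, 5, 1, 5, 1, 5, 1, 1, 9, 1, 8, 1, 0, 1, 1, 7, 7, 7, 7, 1, 1, 0, 1, 8, 1, 9, 1, 1, 5, 1, 5, 1, 5, 5, 7, 1, 7, 15, 8, 5, 10], [10, 9, 4, 16, 2, 7, 7, 4, 2, 4, 4, 2, 2, 4, 2, 2, 8, 8, 2, 2, 0, 7, 7, 2, 2, 7, 7, 0, 2, 2, 8, 8, 2, 2, 4, 2, 2, 4, 4, 2, 4, 7, 7, 2, 16, 4, 9, 10], [6, 11, 4, 15, 2, 8, 0, 4, 2, 4, 0, 2, 0, 0, 0, 2, 8, 0, 2, 0, 0, 0, 0, 2, 2, 0, 0, 0, 0, 2, 0, 8, 2, 0, 0, 0, 2, 0, 4, 2, 4, 0, 8, 2, 15, 4, 11, 6], [12, 5, 4, 15, 2, 1, 8, 4, 2, 1, 4, 1, 2, 1, 1, 2, 1, 8, 1, 2, 1, 1, 0, 2, 2, 0, 1, 1, 2, 1, 8, 1, 2, 1, 1, 2, 1, 4, 1, 2, 4, 8, 1, 2, 15, 4, 5, 12], [6, 5, 11, 16, 9, 1, 0, 5, 5, 1, 0, 1, 0, 0, 0, 9, 1, 0, 1, 0, 0, 1, 0, 0, 0, 0, 1, 0, 0, 1, 0, 1, 9, 0, 0, 0, 1, 0, 1, 5, 5, 0, 1, 9, 16, 11, 5, 6], [6, 5, 11, 16, 9, 1, 0, 5,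 5, 1, 0, 1, 0, 0, 0, 9, 1, 0, 1, 0, 0, 1, 0, 0, 0, 0, 1, 0, 0, 1, 0, 1, 9, 0, 0, 0, 1, 0, 1, 5, 5, 0, 1, 9, 16, 11, 5, 6], [12, 5, 4, 15, 2, 1, 8, 4, 2, 1, 4, 1, 2, 1, 1, 2, 1, 8, 1, 2, 1, 1, 0, 2, 2, 0, 1, 1, 2, 1, 8, 1, 2, 1, 1, 2, 1, 4, 1, 2, 4, 8, 1, 2, 15, 4, 5, 12], [6, 11, 4, 15, 2, 8, 0, 4, 2, 4, 0, 2, 0, 0, 0, 2, 8, 0, 2, 0, 0, 0, 0, 2, 2, 0, 0, 0, 0, 2, 0, 8, 2, 0, 0, 0, 2, 0, 4, 2, 4, 0, 8, 2, 15, 4, 11, 6], [10, 9, 4, 16, 2, 7, 7, 4, 2, 4, 4, 2, 2, 4, 2, 2, 8, 8, 2, 2, 0, 7, 7, 2, 2, 7, 7, 0, 2, 2, 8, 8, 2, 2, 4, 2, 2, 4, 4, 2, 4, 7, 7, 2, 16, 4, 9, 10], [10, 5, 8, 15, 7, 1, 7, 5, 5, 1, 5, 1, 5, 1, 1, 9, 1, 8, 1, 0, 1, 1, 7, 7, 7, 7, 1, 1, 0, 1, 8, 1, 9, 1, 1, 5, 1, 5, 1, 5, 5, 7, 1, 7, 15, 8, 5, 10], [6, 9, 8, 15, 7, 7, 0, 6, 6, 6, 0, 6, 0, 0, 0, 9, 8, 0, 0, 0, 0,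 7, 0, 7, 7, 0, 7, 0, 0, 0, 0, 8, 9, 0, 0, 0, 6, 0, 6, 6, 6, 0, 7, 7, 15, 8, 9, 6], [10, 5, 4, 15, 2, 1, 7, 4, 2, 1, 4, 1, 2, 1, 1, 2, 1, 0, 1, 2, 1, 1, 7, 2, 2, 7, 1, 1, 2, 1, 0, 1, 2, 1, 1, 2, 1, 4, 1, 2, 4, 7, 1, 2, 15, 4, 5, 10], [6, 9, 4, 15, 2, 7, 0, 4, 2, 4, 0, 2, 0, 0, 0, 2, 0, 0, 2, 0, 0, 7, 0, 2, 2, 0, 7, 0, 0, 2, 0, 0, 2, 0, 0, 0, 2, 0, 4, 2, 4, 0, 7, 2, 15, 4, 9, 6], [6, 5, 8, 15, 7, 1, 0, 5, 5, 1, 0, 1, 0, 0, 0, 0, 1, 0, 1, 0, 0, 1, 0, 7, 7, 0, 1, 0, 0, 1, 0, 1, 0, 0, 0, 0, 1, 0, 1, 5, 5, 0, 1, 7, 15, 8, 5, 6], [6, 5, 4, 15, 7, 7, 7, 4, 5, 4, 4, 6, 5, 4, 0, 3, 3, 3, 3, 3, 3, 3, 3, 3, 3, 3, 3, 3, 3, 3, 3, 3, 3, 0, 4, 5, 6, 4, 4, 5, 4, 7, 7, 7, 15, 4, 5, 6], [6, 5, 8, 15, 2, 8, 8, 5, 2, 6, 5, 2, 2, 0, 2, 2, 3, 3, 2, 2, 3, 3, 3, 2, 2, 3, 3, 3, 2, 2, 3, 3, 2, 2, 0, 2,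 2, 5, 6, 2, 5, 8, 8, 2, 15, 8, 5, 6], [6, 9, 4, 16, 9, 1, 8, 4, 6, 1, 4, 1, 0, 1, 1, 3, 1, 3, 1, 3, 1, 1, 3, 3, 3, 3, 1, 1, 3, 1, 3, 1, 3, 1, 1, 0, 1, 4, 1, 6, 4, 8, 1, 9, 16, 4, 9, 6], [10, 5, 4, 17, 9, 8, 0, 4, 5, 4, 0, 0, 0, 0, 0, 3, 3, 0, 3, 0, 0, 3, 0, 3, 3, 0, 3, 0, 0, 3, 0, 3, 3, 0, 0, 0, 0, 0, 4, 5, 4, 0, 8, 9, 17, 4, 5, 10], [6, 11, 11, 17, 2, 1, 7, 6, 2, 1, 0, 1, 2, 1, 1, 2, 1, 3, 1, 2, 1, 1, 3, 2, 2, 3, 1, 1, 2, 1, 3, 1, 2, 1, 1, 2, 1, 0, 1, 2, 6, 7, 1, 2, 17, 11, 11, 6], [12, 5, 11, 16, 2, 7, 0, 5, 2, 0, 0, 2, 0, 0, 0, 2, 3, 0, 2, 0, 0, 3, 0, 2, 2, 0, 3, 0, 0, 2, 0, 3, 2, 0, 0, 0, 2, 0, 0, 2, 5, 0, 7, 2, 16, 11, 5, 12], [12, 11, 4, 15, 7, 1, 0, 4, 0, 1, 0, 1, 0, 0, 0, 3, 1, 0, 1, 0, 0, 1, 0, 3, 3, 0, 1, 0, 0, 1, 0, 1, 3, 0, 0, 0, 1, 0, 1, 0, 4, 0, 1, 7, 15, 4, 11,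 12], [10, 9, 8, 15, 2, 1, 0, 0, 2, 1, 0, 1, 0, 0, 0, 2, 1, 0, 1, 0, 0, 1, 0, 2, 2, 0, 1, 0, 0, 1, 0, 1, 2, 0, 0, 0, 1, 0, 1, 2, 0, 0, 1, 2, 15, 8, 9, 10], [6, 5, 4, 15, 2, 1, 0, 4, 2, 1, 4, 1, 2, 1, 1, 2, 1, 3, 1, 2, 1, 1, 3, 2, 2, 3, 1, 1, 2, 1, 3, 1, 2, 1, 1, 2, 1, 4, 1, 2, 4, 0, 1, 2, 15, 4, 5, 6], [6, 5, 4, 15, 2, 0, 0, 4, 2, 4, 0, 2, 0, 0, 0, 2, 3, 0, 2, 0, 0, 3, 0, 2, 2, 0, 3, 0, 0, 2, 0, 3, 2, 0, 0, 0, 2, 0, 4, 2, 4, 0, 0, 2, 15, 4, 5, 6], [6, 5, 4, 16, 0, 1, 0, 4, 5, 1, 0, 1, 0, 0, 0, 3, 1, 0, 1, 0, 0, 1, 0, 3, 3, 0, 1, 0, 0, 1, 0, 1, 3, 0, 0, 0, 1, 0, 1, 5, 4, 0, 1, 0, 16, 4, 5, 6], [6, 5, 4, 0, 2, 1, 0, 4, 2, 1, 0, 1, 0, 0, 0, 2, 1, 0, 1, 0, 0, 1, 0, 2, 2, 0, 1, 0, 0, 1, 0, 1, 2, 0, 0, 0, 1, 0, 1, 2, 4, 0, 1, 2, 0, 4, 5, 6], [6, 5, 0, 16, 2, 1, 0, 5, 2, 1, 0, 1, 0,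 0, 0, 2, 1, 0, 1, 0, 0, 1, 0, 2, 2, 0, 1, 0, 0, 1, 0, 1, 2, 0, 0, 0, 1, 0, 1, 2, 5, 0, 1, 2, 16, 0, 5, 6], [6, 0, 4, 15, 2, 1, 0, 4, 2, 1, 0, 1, 0, 0, 0, 2, 1, 0, 1, 0, 0, 1, 0, 2, 2, 0, 1, 0, 0, 1, 0, 1, 2, 0, 0, 0, 1, 0, 1, 2, 4, 0, 1, 2, 15, 4, 0, 6], [0, 5, 4, 15, 2, 1, 0, 4, 2, 1, 0, 1, 0, 0, 0, 2, 1, 0, 1, 0, 0, 1, 0, 2, 2, 0, 1, 0, 0, 1, 0, 1, 2, 0, 0, 0, 1, 0, 1, 2, 4, 0, 1, 2, 15, 4, 5, 0]]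
  wd := [[[], [], [], [], [], [], [], [], [], [], [], [], [], [], [], [], [], [], [], [], [], [], [], [], [3, 2, 1, 2, 0, 1, 2], [], [3, 2, 1, 2, 0, 1], [], [], [1, 2, 3, 0, 1, 2, 1, 0], [], [3, 2, 1, 2, 0], [3, 2, 1, 0], [], [], [], [1, 2, 3, 0, 1, 2, 1], [], [1, 2, 3, 0, 1, 2], [1, 2, 3, 0, 1], [1, 2, 3, 0], [], [3, 2, 1, 2], [3, 2, 1], [1, 2, 3], [3, 2], [3], []], [[], [], [], [], [], [], [], [], [], [], [], [], [], [], [], [], [], [], [], [], [], [], [], [3, 2, 1, 2, 0, 1, 2, 3], [], [3, 2, 1, 2, 0, 1], [], [], [1, 2, 3, 0, 1, 2, 1, 0], [], [3, 2, 1, 2, 0], [], [2, 1, 0], [], [], [1, 2, 3, 0, 1, 2, 1], [], [1, 2, 3, 0, 1, 2], [], [1, 2, 0, 1], [1, 2, 0], [3, 2, 1, 2], [], [2, 1], [1, 2], [2], [], []], [[], [], [], [], [], [], [], [], [], [], [], [], [], [], [], [], [], [],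 [], [], [], [3, 2, 1, 2, 0, 1, 2, 3], [3, 2, 1, 2, 0, 1, 2], [], [], [], [], [1, 2, 3, 0, 1, 2, 1, 0], [], [], [3, 2, 1, 0], [2, 1, 0], [], [], [1, 2, 3, 0, 1, 2, 1], [], [], [1, 2, 3, 0, 1], [1, 2, 0, 1], [], [1, 0], [3, 2, 1], [2, 1], [], [1], [], [], []], [[], [], [], [], [], [], [], [], [], [], [], [], [], [], [], [], [], [], [3, 2, 1, 2, 0, 1, 2, 3], [3, 2, 1, 2, 0, 1, 2], [3, 2, 1, 2, 0, 1], [], [], [], [], [], [], [3, 2, 1, 2, 0], [3, 2, 1, 0], [2, 1, 0], [], [], [], [1, 2, 3, 0, 1, 2, 1], [1, 2, 3, 0, 1, 2], [1, 2, 3, 0, 1], [1, 2, 0, 1], [1, 2, 3, 0], [1, 2, 0], [1, 0], [0], [3, 2, 1, 2, 0, 1, 2, 3], [3, 2, 1, 2, 0, 1, 2], [3, 2, 1, 2, 0, 1], [], [3, 2, 1, 2, 0], [3, 2, 1, 0], [2, 1, 0]], [[], [], [], [], [], [], [], [], [], [], [], [], [], [], [], [], [3, 2, 1, 2, 0,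 1, 2, 3], [3, 2, 1, 2, 0, 1, 2], [], [], [1, 2, 3, 0, 1, 2, 0, 1, 0], [], [], [], [], [3, 2, 1, 0], [2, 1, 0], [], [], [], [], [], [], [1, 2, 3, 0, 1, 2], [], [1, 2, 3, 0], [1, 2, 0], [], [], [0], [], [3, 2], [2], [], [], [], [], []], [[], [], [], [], [], [], [], [], [], [], [], [], [], [], [], [3, 2, 1, 2, 0, 1, 2, 3], [], [3, 2, 1, 2, 0, 1], [], [1, 2, 3, 1, 2, 0, 1, 2, 1, 0], [], [], [3, 2, 1, 2, 0], [], [2, 1, 0], [], [], [], [], [], [], [], [], [1, 2, 3, 0, 1], [1, 2, 3, 0], [], [1, 0], [], [0], [], [], [3], [], [], [], [], [], []], [[], [], [], [], [], [], [], [], [], [], [], [], [], [], [], [3, 2, 1, 2, 0, 1, 2], [3, 2, 1, 2, 0, 1], [], [3, 2, 1, 2, 0, 1, 2, 3, 2, 1, 0], [], [], [3, 2, 1, 2, 0], [], [3, 2, 1, 0], [], [], [], [], [], [], [], [], [], [1, 2, 0, 1], [1, 2,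 0], [1, 0], [], [0], [], [], [], [], [], [], [], [], [], []], [[], [], [], [], [], [], [], [], [], [], [], [3, 2, 1, 2, 0, 1, 2, 3], [3, 2, 1, 2, 0, 1, 2], [3, 2, 1, 2, 0, 1], [1, 2, 3, 0, 1, 2, 1, 0], [], [], [], [], [], [], [], [], [], [], [], [], [1, 2, 3, 0, 1, 2], [1, 2, 3, 0, 1], [1, 2, 0, 1], [3, 2, 1, 2, 0, 1, 2, 3], [3, 2, 1, 2, 0, 1, 2], [3, 2, 1, 2, 0, 1], [], [3, 2, 1, 2], [3, 2, 1], [2, 1], [1, 2, 3], [1, 2], [1], [], [], [], [], [], [3, 2, 1, 2], [3, 2, 1], [2, 1]], [[], [], [], [], [], [], [], [], [], [3, 2, 1, 2, 0, 1, 2, 3], [3, 2, 1, 2, 0, 1, 2], [], [], [1, 2, 3, 0, 1, 2, 1, 0], [3, 2, 1, 2, 0], [], [], [], [], [], [1, 2, 3, 0, 1, 2, 1], [], [], [], [], [3, 2, 1, 2, 0, 1, 2, 3], [3, 2, 1, 2, 0, 1, 2], [], [1, 2, 3, 0], [1, 2, 0], [], [], [3, 2, 1, 2, 0], [3,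 2, 1, 2], [], [1, 2, 3], [1, 2], [3, 2], [2], [], [], [], [], [3, 2, 1, 2], [], [], [3, 2], [2]], [[], [], [], [], [], [], [], [], [3, 2, 1, 2, 0, 1, 2, 3], [], [3, 2, 1, 2, 0, 1], [], [1, 2, 3, 0, 1, 2, 1, 0], [], [3, 2, 1, 0], [], [], [], [], [1, 2, 3, 0, 1, 2, 1], [], [], [3, 2, 1, 2, 0, 1, 2, 3, 2], [], [3, 2, 1, 2, 0, 1], [], [], [1, 2, 3, 0], [], [1, 0], [], [3, 2, 1, 0], [], [3, 2, 1], [1, 2, 3], [], [1], [3], [], [], [], [], [3, 2, 1], [], [], [3], [], []], [[], [], [], [], [], [], [], [], [3, 2, 1, 2, 0, 1, 2], [3, 2, 1, 2, 0, 1], [], [1, 2, 3, 0, 1, 2, 1, 0], [], [], [2, 1, 0], [], [], [], [1, 2, 3, 0, 1, 2, 1], [], [], [1, 2, 3, 1, 2, 0, 1, 2], [], [1, 2, 3, 1, 2, 0, 1], [], [], [], [1, 2, 0], [1, 0], [], [2, 1, 0], [], [], [2, 1], [1, 2], [1], [], [], [], [], [],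 [2, 1], [], [], [], [], [], []], [[], [], [], [], [], [], [], [3, 2, 1, 2, 0, 1, 2, 3], [], [], [1, 2, 3, 0, 1, 2, 1, 0], [], [3, 2, 1, 2, 0], [3, 2, 1, 0], [], [], [], [3, 2, 1, 2, 0, 1, 2, 3, 2, 1], [], [1, 2, 3, 0, 1, 2], [1, 2, 3, 0, 1], [], [], [], [3, 2, 1, 2, 0], [], [3, 2, 1, 0], [], [], [0], [], [], [], [1, 2, 3], [3, 2], [3], [], [], [], [], [], [], [3, 2], [3], [], [], [], []], [[], [], [], [], [], [], [], [3, 2, 1, 2, 0, 1, 2], [], [1, 2, 3, 0, 1, 2, 1, 0], [], [3, 2, 1, 2, 0], [], [2, 1, 0], [], [], [1, 2, 3, 1, 2, 0, 1, 2, 1], [], [1, 2, 3, 0, 1, 2], [], [1, 2, 0, 1], [], [], [1, 2, 3, 1, 2, 0], [], [2, 1, 0], [], [], [0], [], [], [], [], [1, 2], [2], [], [], [], [], [], [], [2], [], [], [], [], [], []], [[], [], [], [], [], [], [], [3, 2, 1, 2, 0, 1], [1, 2, 3,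 0, 1, 2, 1, 0], [], [], [3, 2, 1, 0], [2, 1, 0], [], [], [1, 2, 3, 0, 1, 2, 0, 1], [], [], [1, 2, 3, 0, 1], [1, 2, 0, 1], [], [1, 2, 3, 1, 0], [1, 2, 1, 0], [], [], [], [], [0], [], [], [], [], [], [1], [], [], [], [], [], [], [], [], [], [], [], [], [], []], [[], [], [], [], [], [], [], [1, 2, 3, 0, 1, 2, 1, 0], [3, 2, 1, 2, 0], [3, 2, 1, 0], [2, 1, 0], [], [], [], [], [1, 2, 3, 0, 1, 2, 0], [1, 2, 3, 0, 1, 0], [1, 2, 0, 1, 0], [1, 2, 3, 0], [1, 2, 0], [1, 0], [], [], [], [], [], [], [], [], [], [], [], [], [], [], [], [], [], [], [], [], [], [], [], [], [], [], []], [[], [], [], [], [], [3, 2, 1, 2, 0, 1, 2, 3], [3, 2, 1, 2, 0, 1, 2], [], [], [], [], [], [], [1, 2, 3, 0, 1, 2, 0, 1], [1, 2, 3, 0, 1, 2, 0], [], [], [], [], [], [], [], [], [], [], [3, 2, 1], [2, 1], [], [1, 2,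 3], [1, 2], [3, 2], [2], [], [], [], [], [], [], [], [], [], [], [], [], [], [], [], []], [[], [], [], [], [3, 2, 1, 2, 0, 1, 2, 3], [], [3, 2, 1, 2, 0, 1], [], [], [], [], [], [1, 2, 3, 1, 2, 0, 1, 2, 1], [], [1, 2, 3, 0, 1, 0], [], [], [], [], [], [], [], [3, 2, 1, 2], [], [2, 1], [], [], [1, 2, 3], [], [1], [3], [], [], [], [], [], [], [], [], [], [], [], [], [], [], [], [], []], [[], [], [], [], [3, 2, 1, 2, 0, 1, 2], [3, 2, 1, 2, 0, 1], [], [], [], [], [], [3, 2, 1, 2, 0, 1, 2, 3, 2, 1], [], [], [1, 2, 0, 1, 0], [], [], [], [], [], [], [3, 2, 1, 2], [], [3, 2, 1], [], [], [], [1, 2], [1], [], [], [], [], [], [], [], [], [], [], [], [], [], [], [], [], [], [], []], [[], [], [], [3, 2, 1, 2, 0, 1, 2, 3], [], [], [3, 2, 1, 2, 0, 1, 2, 3, 2, 1, 0], [], [], [], [1, 2, 3, 0, 1,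 2, 1], [], [1, 2, 3, 0, 1, 2], [1, 2, 3, 0, 1], [1, 2, 3, 0], [], [], [], [], [3, 2, 1, 2], [3, 2, 1], [], [], [], [3, 2, 1, 2], [], [3, 2, 1], [3, 2], [3], [], [], [3, 2], [3], [], [], [], [], [], [], [], [], [], [], [], [], [], [], []], [[], [], [], [3, 2, 1, 2, 0, 1, 2], [], [1, 2, 3, 1, 2, 0, 1, 2, 1, 0], [], [], [], [1, 2, 3, 0, 1, 2, 1], [], [1, 2, 3, 0, 1, 2], [], [1, 2, 0, 1], [1, 2, 0], [], [], [], [3, 2, 1, 2], [], [2, 1], [], [], [1, 2, 3, 1, 2], [], [2, 1], [], [2], [], [], [2], [], [], [], [], [], [], [], [], [], [], [], [], [], [], [], [], []], [[], [], [], [3, 2, 1, 2, 0, 1], [1, 2, 3, 0, 1, 2, 0, 1, 0], [], [], [], [1, 2, 3, 0, 1, 2, 1], [], [], [1, 2, 3, 0, 1], [1, 2, 0, 1], [], [1, 0], [], [], [], [3, 2, 1], [2, 1], [], [1, 2, 3, 1], [1, 2, 1], [], [], [], [],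 [], [], [], [], [], [], [], [], [], [], [], [], [], [], [], [], [], [], [], [], []], [[], [], [3, 2, 1, 2, 0, 1, 2, 3], [], [], [], [3, 2, 1, 2, 0], [], [], [], [1, 2, 3, 1, 2, 0, 1, 2], [], [], [1, 2, 3, 1, 0], [], [], [], [3, 2, 1, 2], [], [], [1, 2, 3, 1], [], [], [], [2], [3], [], [], [], [], [], [], [], [], [], [], [], [], [], [], [], [], [], [], [], [], [], []], [[], [], [3, 2, 1, 2, 0, 1, 2], [], [], [3, 2, 1, 2, 0], [], [], [], [3, 2, 1, 2, 0, 1, 2, 3, 2], [], [], [], [1, 2, 1, 0], [], [], [3, 2, 1, 2], [], [], [], [1, 2, 1], [], [], [3, 2], [], [], [], [], [], [], [], [], [], [], [], [], [], [], [], [], [], [], [], [], [], [], [], []], [[], [3, 2, 1, 2, 0, 1, 2, 3], [], [], [], [], [3, 2, 1, 0], [], [], [], [1, 2, 3, 1, 2, 0, 1], [], [1, 2, 3, 1, 2, 0], [], [], [], [],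 [3, 2, 1], [], [1, 2, 3, 1, 2], [], [], [3, 2], [], [], [], [], [], [], [], [], [], [], [], [], [], [], [], [], [], [], [], [], [], [], [], [], []], [[3, 2, 1, 2, 0, 1, 2], [], [], [], [], [2, 1, 0], [], [], [], [3, 2, 1, 2, 0, 1], [], [3, 2, 1, 2, 0], [], [], [], [], [2, 1], [], [3, 2, 1, 2], [], [], [2], [], [], [], [], [], [], [], [], [], [], [], [], [], [], [], [], [], [], [], [], [], [], [], [], [], []], [[], [3, 2, 1, 2, 0, 1], [], [], [3, 2, 1, 0], [], [], [], [3, 2, 1, 2, 0, 1, 2, 3], [], [], [], [2, 1, 0], [], [], [3, 2, 1], [], [], [], [2, 1], [], [3], [], [], [], [], [], [], [], [], [], [], [], [], [], [], [], [], [], [], [], [], [], [], [], [], [], []], [[3, 2, 1, 2, 0, 1], [], [], [], [2, 1, 0], [], [], [], [3, 2, 1, 2, 0, 1, 2], [], [], [3, 2, 1, 0], [], [], [],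 [2, 1], [], [], [3, 2, 1], [], [], [], [], [], [], [], [], [], [], [], [], [], [], [], [], [], [], [], [], [], [], [], [], [], [], [], [], []], [[], [], [1, 2, 3, 0, 1, 2, 1, 0], [3, 2, 1, 2, 0], [], [], [], [1, 2, 3, 0, 1, 2], [], [1, 2, 3, 0], [1, 2, 0], [], [], [0], [], [], [1, 2, 3], [1, 2], [3, 2], [2], [], [], [], [], [], [], [], [], [], [], [], [], [], [], [], [], [], [], [], [], [], [], [], [], [], [], [], []], [[], [1, 2, 3, 0, 1, 2, 1, 0], [], [3, 2, 1, 0], [], [], [], [1, 2, 3, 0, 1], [1, 2, 3, 0], [], [1, 0], [], [0], [], [], [1, 2, 3], [], [1], [3], [], [], [], [], [], [], [], [], [], [], [], [], [], [], [], [], [], [], [], [], [], [], [], [], [], [], [], [], []], [[1, 2, 3, 0, 1, 2, 1, 0], [], [], [2, 1, 0], [], [], [], [1, 2, 0, 1], [1, 2, 0], [1, 0], [], [0],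 [], [], [], [1, 2], [1], [], [], [], [], [], [], [], [], [], [], [], [], [], [], [], [], [], [], [], [], [], [], [], [], [], [], [], [], [], [], []], [[], [3, 2, 1, 2, 0], [3, 2, 1, 0], [], [], [], [], [3, 2, 1, 2, 0, 1, 2, 3], [], [], [2, 1, 0], [], [], [], [], [3, 2], [3], [], [], [2], [], [], [], [], [], [], [], [], [], [], [], [], [], [], [], [], [], [], [], [], [], [], [], [], [], [], [], []], [[3, 2, 1, 2, 0], [], [2, 1, 0], [], [], [], [], [3, 2, 1, 2, 0, 1, 2], [], [3, 2, 1, 0], [], [], [], [], [], [2], [], [], [3, 2], [], [], [], [], [], [], [], [], [], [], [], [], [], [], [], [], [], [], [], [], [], [], [], [], [], [], [], [], []], [[3, 2, 1, 0], [2, 1, 0], [], [], [], [], [], [3, 2, 1, 2, 0, 1], [3, 2, 1, 2, 0], [], [], [], [], [], [], [], [], [], [3], [], [], [],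 [], [], [], [], [], [], [], [], [], [], [], [], [], [], [], [], [], [], [], [], [], [], [], [], [], []], [[], [], [], [1, 2, 3, 0, 1, 2, 1], [1, 2, 3, 0, 1, 2], [1, 2, 3, 0, 1], [1, 2, 0, 1], [], [3, 2, 1, 2], [3, 2, 1], [2, 1], [1, 2, 3], [1, 2], [1], [], [], [], [], [], [], [], [], [], [], [], [], [], [], [], [], [], [], [], [], [], [], [], [], [], [], [], [], [], [], [], [], [], []], [[], [], [1, 2, 3, 0, 1, 2, 1], [1, 2, 3, 0, 1, 2], [], [1, 2, 3, 0], [1, 2, 0], [3, 2, 1, 2], [], [1, 2, 3], [1, 2], [3, 2], [2], [], [], [], [], [], [], [], [], [], [], [], [], [], [], [], [], [], [], [], [], [], [], [], [], [], [], [], [], [], [], [], [], [], [], []], [[], [1, 2, 3, 0, 1, 2, 1], [], [1, 2, 3, 0, 1], [1, 2, 3, 0], [], [1, 0], [3, 2, 1], [1, 2, 3], [], [1], [3], [], [], [], [],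 [], [], [], [], [], [], [], [], [], [], [], [], [], [], [], [], [], [], [], [], [], [], [], [], [], [], [], [], [], [], [], []], [[1, 2, 3, 0, 1, 2, 1], [], [], [1, 2, 0, 1], [1, 2, 0], [1, 0], [], [2, 1], [1, 2], [1], [], [], [], [], [], [], [], [], [], [], [], [], [], [], [], [], [], [], [], [], [], [], [], [], [], [], [], [], [], [], [], [], [], [], [], [], [], []], [[], [1, 2, 3, 0, 1, 2], [1, 2, 3, 0, 1], [1, 2, 3, 0], [], [], [0], [1, 2, 3], [3, 2], [3], [], [], [], [], [], [], [], [], [], [], [], [], [], [], [], [], [], [], [], [], [], [], [], [], [], [], [], [], [], [], [], [], [], [], [], [], [], []], [[1, 2, 3, 0, 1, 2], [], [1, 2, 0, 1], [1, 2, 0], [], [0], [], [1, 2], [2], [], [], [], [], [], [], [], [], [], [], [], [], [], [], [], [], [], [], [], [], [], [], [],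 [], [], [], [], [], [], [], [], [], [], [], [], [], [], [], []], [[1, 2, 3, 0, 1], [1, 2, 0, 1], [], [1, 0], [0], [], [], [1], [], [], [], [], [], [], [], [], [], [], [], [], [], [], [], [], [], [], [], [], [], [], [], [], [], [], [], [], [], [], [], [], [], [], [], [], [], [], [], []], [[1, 2, 3, 0], [1, 2, 0], [1, 0], [0], [], [], [], [], [], [], [], [], [], [], [], [], [], [], [], [], [], [], [], [], [], [], [], [], [], [], [], [], [], [], [], [], [], [], [], [], [], [], [], [], [], [], [], []], [[], [3, 2, 1, 2], [3, 2, 1], [3, 2, 1, 2, 0, 1, 2, 3], [3, 2], [3], [], [], [], [], [2, 1], [], [2], [], [], [], [], [], [], [], [], [], [], [], [], [], [], [], [], [], [], [], [], [], [], [], [], [], [], [], [], [], [], [], [], [], [], []], [[3, 2, 1, 2], [], [2, 1], [3, 2, 1, 2,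 0, 1, 2], [2], [], [], [], [], [3, 2, 1], [], [3, 2], [], [], [], [], [], [], [], [], [], [], [], [], [], [], [], [], [], [], [], [], [], [], [], [], [], [], [], [], [], [], [], [], [], [], [], []], [[3, 2, 1], [2, 1], [], [3, 2, 1, 2, 0, 1], [], [], [], [], [3, 2, 1, 2], [], [], [3], [], [], [], [], [], [], [], [], [], [], [], [], [], [], [], [], [], [], [], [], [], [], [], [], [], [], [], [], [], [], [], [], [], [], [], []], [[1, 2, 3], [1, 2], [1], [], [], [], [], [], [], [], [], [], [], [], [], [], [], [], [], [], [], [], [], [], [], [], [], [], [], [], [], [], [], [], [], [], [], [], [], [], [], [], [], [], [], [], [], []], [[3, 2], [2], [], [3, 2, 1, 2, 0], [], [], [], [3, 2, 1, 2], [], [3], [], [], [], [], [], [], [], [], [], [], [], [], [], [], [], [], [], [], [], [],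 [], [], [], [], [], [], [], [], [], [], [], [], [], [], [], [], [], []], [[3], [], [], [3, 2, 1, 0], [], [], [], [3, 2, 1], [3, 2], [], [], [], [], [], [], [], [], [], [], [], [], [], [], [], [], [], [], [], [], [], [], [], [], [], [], [], [], [], [], [], [], [], [], [], [], [], [], []], [[], [], [], [2, 1, 0], [], [], [], [2, 1], [2], [], [], [], [], [], [], [], [], [], [], [], [], [], [], [], [], [], [], [], [], [], [], [], [], [], [], [], [], [], [], [], [], [], [], [], [], [], [], []]]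
  gs := [1, 0, 0, 0, 0, 0, 1, 0, 0, 0, 1, 0, 1, 2, 3, 0, 0, 1, 0, 1, 2, 0, 1, 0, 0, 1, 0, 2, 1, 0, 1, 0, 0, 3, 2, 1, 0, 1, 0, 0, 0, 1, 0, 0, 0, 0, 0, 1]

set_option maxRecDepth 1000000 in
set_option maxHeartbeats 0 in
theorem fdF4_ChkZS : ∀ r < fdF4.n, ∀ s < fdF4.n, s ≠ r → s ≠ fdF4.n - 1 - r → fdF4.ChkZS fxF4 ztF4 r s := by
  decide +kernel

set_option maxRecDepth 1000000 in
theorem fdF4_ChkGS : ∀ r < fdF4.n, fdF4.ChkGS ztF4 r := by decide +kernel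

end Cfsg.Agent.Lib.H29.Chev
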