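import Mathlib
import Cfsg.Agent.Lib.H29.ChevTL9
import Cfsg.Agent.Lib.H29.ChevTLF4

/-! Auxiliary roots, Weyl words and decompositions for the lifting of Steinberg's relations by an element of the torus of
order 2 or 3, type F4 (generated) -/

set_option autoImplicit false

namespace Cfsg.Agent.Lib.H29.Chev

def ztF4q3 : ZT where
  gam := [[0, 5, 4, 15, 2, 1, 0, 4, 2, 1, 4, 1, 2, 1, 1, 2, 1, 0, 1, 2, 1, 1, 0, 2, 2, 0, 1, 1, 2, 1, 0, 1, 2, 1, 1, 2, 1, 4, 1, 2, 4, 0, 1, 2, 15, 4, 5, 0], [6, 0, 4, 15, 2, 0, 0, 4, 2, 4, 0, 2, 0, 0, 0, 2, 0, 0, 2, 0, 0, 0, 0, 2, 2, 0, 0, 0, 0, 2, 0, 0, 2, 0, 0, 0, 2, 0, 4, 2, 4, 0, 0, 2, 15, 4, 0, 6], [6, 5, 0, 16, 0, 1, 0, 5, 5, 1, 0, 1, 0, 0, 0, 0, 1, 0, 1, 0, 0, 1, 0, 0, 0, 0, 1, 0, 0, 1, 0, 1, 0, 0, 0, 0, 1, 0, 1, 5, 5, 0, 1, 0, 16, 0, 5, 6], [6, 5, 4, 0, 2, 1, 0, 4, 2, 1, 0, 1, 0, 0, 0, 2, 1, 0, 1, 0, 0, 1, 0, 2, 2, 0, 1, 0, 0, 1, 0, 1, 2, 0, 0, 0, 1, 0, 1, 2, 4, 0, 1, 2, 0, 4, 5, 6], [6, 5, 0, 16, 0, 1, 0, 5, 5, 1, 0,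 1, 0, 0, 0, 0, 1, 0, 1, 0, 0, 1, 0, 0, 0, 0, 1, 0, 0, 1, 0, 1, 0, 0, 0, 0, 1, 0, 1, 5, 5, 0, 1, 0, 16, 0, 5, 6], [6, 0, 4, 15, 2, 0, 0, 4, 2, 4, 0, 2, 0, 0, 0, 2, 0, 0, 2, 0, 0, 0, 0, 2, 2, 0, 0, 0, 0, 2, 0, 0, 2, 0, 0, 0, 2, 0, 4, 2, 4, 0, 0, 2, 15, 4, 0, 6], [0, 5, 4, 15, 2, 1, 0, 4, 2, 1, 4, 1, 2, 1, 1, 2, 1, 0, 1, 2, 1, 1, 0, 2, 2, 0, 1, 1, 2, 1, 0, 1, 2, 1, 1, 2, 1, 4, 1, 2, 4, 0, 1, 2, 15, 4, 5, 0], [10, 9, 8, 15, 2, 1, 0, 0, 2, 1, 0, 1, 0, 0, 0, 2, 1, 0, 1, 0, 0, 1, 0, 2, 2, 0, 1, 0, 0, 1, 0, 1, 2, 0, 0, 0, 1, 0, 1, 2, 0, 0, 1, 2, 15, 8, 9, 10], [12, 11, 4, 15, 7, 1, 0, 4, 0, 1, 0, 1, 0, 0, 0, 3, 1, 0, 1, 0, 0, 1, 0, 3, 3, 0, 1, 0, 0, 1, 0, 1, 3, 0, 0, 0, 1, 0, 1, 0, 4, 0, 1, 7, 15, 4, 11, 12], [12, 5, 11, 16, 2, 7, 0, 5, 2, 0, 0, 2, 0, 0, 0, 2, 3, 0, 2, 0, 0, 3, 0, 2, 2, 0, 3, 0, 0, 2, 0, 3, 2, 0, 0, 0, 2, 0, 0, 2, 5, 0, 7, 2, 16, 11, 5, 12], [6, 11, 11, 17, 2, 1, 7, 6, 2, 1, 0, 1, 2, 1, 1, 2, 1, 3, 1, 2, 1, 1, 3, 2, 2, 3, 1, 1, 2, 1, 3, 1, 2,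 1, 1, 2, 1, 0, 1, 2, 6, 7, 1, 2, 17, 11, 11, 6], [10, 5, 4, 17, 9, 8, 0, 4, 5, 4, 0, 0, 0, 0, 0, 3, 3, 0, 3, 0, 0, 3, 0, 3, 3, 0, 3, 0, 0, 3, 0, 3, 3, 0, 0, 0, 0, 0, 4, 5, 4, 0, 8, 9, 17, 4, 5, 10], [6, 9, 4, 16, 9, 1, 8, 4, 6, 1, 4, 1, 0, 1, 1, 3, 1, 3, 1, 3, 1, 1, 3, 3, 3, 3, 1, 1, 3, 1, 3, 1, 3, 1, 1, 0, 1, 4, 1, 6, 4, 8, 1, 9, 16, 4, 9, 6], [6, 5, 8, 15, 2, 8, 8, 5, 2, 6, 5, 2, 2, 0, 2, 2, 3, 3, 2, 2, 3, 3, 3, 2, 2, 3, 3, 3, 2, 2, 3, 3, 2, 2, 0, 2, 2, 5, 6, 2, 5, 8, 8, 2, 15, 8, 5, 6], [6, 5, 4, 15, 7, 7, 7, 4, 5, 4, 4, 6, 5, 4, 0, 3, 3, 3, 3, 3, 3, 3, 3, 3, 3, 3, 3, 3, 3, 3, 3, 3, 3, 0, 4, 5, 6, 4, 4, 5, 4, 7, 7, 7, 15, 4, 5, 6], [6, 5, 0, 16, 0, 1, 0, 5, 5, 1, 0, 1, 0, 0, 0, 0, 1, 0, 1, 0, 0, 1, 0, 0, 0, 0, 1, 0, 0, 1, 0, 1, 0, 0, 0, 0, 1, 0, 1, 5, 5, 0, 1, 0, 16, 0, 5, 6], [6, 0, 4, 15, 2, 0, 0, 4, 2, 4, 0, 2, 0, 0, 0, 2, 0, 0, 2, 0, 0, 0, 0, 2, 2, 0, 0, 0, 0, 2, 0, 0, 2, 0, 0, 0, 2, 0, 4, 2, 4, 0, 0, 2, 15, 4, 0, 6], [0, 5, 4, 15, 2, 1, 0, 4,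 2, 1, 4, 1, 2, 1, 1, 2, 1, 0, 1, 2, 1, 1, 0, 2, 2, 0, 1, 1, 2, 1, 0, 1, 2, 1, 1, 2, 1, 4, 1, 2, 4, 0, 1, 2, 15, 4, 5, 0], [6, 9, 8, 15, 7, 7, 0, 6, 6, 6, 0, 6, 0, 0, 0, 9, 8, 0, 0, 0, 0, 7, 0, 7, 7, 0, 7, 0, 0, 0, 0, 8, 9, 0, 0, 0, 6, 0, 6, 6, 6, 0, 7, 7, 15, 8, 9, 6], [10, 5, 8, 15, 7, 1, 7, 5, 5, 1, 5, 1, 5, 1, 1, 9, 1, 8, 1, 0, 1, 1, 7, 7, 7, 7, 1, 1, 0, 1, 8, 1, 9, 1, 1, 5, 1, 5, 1, 5, 5, 7, 1, 7, 15, 8, 5, 10], [10, 9, 4, 16, 2, 7, 7, 4, 2, 4, 4, 2, 2, 4, 2, 2, 8, 8, 2, 2, 0, 7, 7, 2, 2, 7, 7, 0, 2, 2, 8, 8, 2, 2, 4, 2, 2, 4, 4, 2, 4, 7, 7, 2, 16, 4, 9, 10], [6, 0, 4, 15, 2, 0, 0, 4, 2, 4, 0, 2, 0, 0, 0, 2, 0, 0, 2, 0, 0, 0, 0, 2, 2, 0, 0, 0, 0, 2, 0, 0, 2, 0, 0, 0, 2, 0, 4, 2, 4, 0, 0, 2, 15, 4, 0, 6], [0, 5, 4, 15, 2, 1, 0, 4, 2, 1, 4, 1, 2, 1, 1, 2, 1, 0, 1, 2, 1, 1, 0, 2, 2, 0, 1, 1, 2, 1, 0, 1, 2, 1, 1, 2, 1, 4, 1, 2, 4, 0, 1, 2, 15, 4, 5, 0], [6, 5, 0, 16, 0, 1, 0, 5, 5, 1, 0, 1, 0, 0, 0, 0, 1, 0, 1, 0, 0, 1, 0, 0, 0, 0, 1, 0, 0, 1, 0, 1, 0,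 0, 0, 0, 1, 0, 1, 5, 5, 0, 1, 0, 16, 0, 5, 6], [6, 5, 0, 16, 0, 1, 0, 5, 5, 1, 0, 1, 0, 0, 0, 0, 1, 0, 1, 0, 0, 1, 0, 0, 0, 0, 1, 0, 0, 1, 0, 1, 0, 0, 0, 0, 1, 0, 1, 5, 5, 0, 1, 0, 16, 0, 5, 6], [0, 5, 4, 15, 2, 1, 0, 4, 2, 1, 4, 1, 2, 1, 1, 2, 1, 0, 1, 2, 1, 1, 0, 2, 2, 0, 1, 1, 2, 1, 0, 1, 2, 1, 1, 2, 1, 4, 1, 2, 4, 0, 1, 2, 15, 4, 5, 0], [6, 0, 4, 15, 2, 0, 0, 4, 2, 4, 0, 2, 0, 0, 0, 2, 0, 0, 2, 0, 0, 0, 0, 2, 2, 0, 0, 0, 0, 2, 0, 0, 2, 0, 0, 0, 2, 0, 4, 2, 4, 0, 0, 2, 15, 4, 0, 6], [10, 9, 4, 16, 2, 7, 7, 4, 2, 4, 4, 2, 2, 4, 2, 2, 8, 8, 2, 2, 0, 7, 7, 2, 2, 7, 7, 0, 2, 2, 8, 8, 2, 2, 4, 2, 2, 4, 4, 2, 4, 7, 7, 2, 16, 4, 9, 10], [10, 5, 8, 15, 7, 1, 7, 5, 5, 1, 5, 1, 5, 1, 1, 9, 1, 8, 1, 0, 1, 1, 7, 7, 7, 7, 1, 1, 0, 1, 8, 1, 9, 1, 1, 5, 1, 5, 1, 5, 5, 7, 1, 7, 15, 8, 5, 10], [6, 9, 8, 15, 7, 7, 0, 6, 6, 6, 0, 6, 0, 0, 0, 9, 8, 0, 0, 0, 0, 7, 0, 7, 7, 0, 7, 0, 0, 0, 0, 8, 9, 0, 0, 0, 6, 0, 6, 6, 6, 0, 7, 7, 15, 8, 9, 6], [0, 5, 4, 15, 2, 1, 0, 4,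 2, 1, 4, 1, 2, 1, 1, 2, 1, 0, 1, 2, 1, 1, 0, 2, 2, 0, 1, 1, 2, 1, 0, 1, 2, 1, 1, 2, 1, 4, 1, 2, 4, 0, 1, 2, 15, 4, 5, 0], [6, 0, 4, 15, 2, 0, 0, 4, 2, 4, 0, 2, 0, 0, 0, 2, 0, 0, 2, 0, 0, 0, 0, 2, 2, 0, 0, 0, 0, 2, 0, 0, 2, 0, 0, 0, 2, 0, 4, 2, 4, 0, 0, 2, 15, 4, 0, 6], [6, 5, 0, 16, 0, 1, 0, 5, 5, 1, 0, 1, 0, 0, 0, 0, 1, 0, 1, 0, 0, 1, 0, 0, 0, 0, 1, 0, 0, 1, 0, 1, 0, 0, 0, 0, 1, 0, 1, 5, 5, 0, 1, 0, 16, 0, 5, 6], [6, 5, 4, 15, 7, 7, 7, 4, 5, 4, 4, 6, 5, 4, 0, 3, 3, 3, 3, 3, 3, 3, 3, 3, 3, 3, 3, 3, 3, 3, 3, 3, 3, 0, 4, 5, 6, 4, 4, 5, 4, 7, 7, 7, 15, 4, 5, 6], [6, 5, 8, 15, 2, 8, 8, 5, 2, 6, 5, 2, 2, 0, 2, 2, 3, 3, 2, 2, 3, 3, 3, 2, 2, 3, 3, 3, 2, 2, 3, 3, 2, 2, 0, 2, 2, 5, 6, 2, 5, 8, 8, 2, 15, 8, 5, 6], [6, 9, 4, 16, 9, 1, 8, 4, 6, 1, 4, 1, 0, 1, 1, 3, 1, 3, 1, 3, 1, 1, 3, 3, 3, 3, 1, 1, 3, 1, 3, 1, 3, 1, 1, 0, 1, 4, 1, 6, 4, 8, 1, 9, 16, 4, 9, 6], [10, 5, 4, 17, 9, 8, 0, 4, 5, 4, 0, 0, 0, 0, 0, 3, 3, 0, 3, 0, 0, 3, 0, 3, 3, 0, 3, 0, 0, 3, 0, 3, 3, 0,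 0, 0, 0, 0, 4, 5, 4, 0, 8, 9, 17, 4, 5, 10], [6, 11, 11, 17, 2, 1, 7, 6, 2, 1, 0, 1, 2, 1, 1, 2, 1, 3, 1, 2, 1, 1, 3, 2, 2, 3, 1, 1, 2, 1, 3, 1, 2, 1, 1, 2, 1, 0, 1, 2, 6, 7, 1, 2, 17, 11, 11, 6], [12, 5, 11, 16, 2, 7, 0, 5, 2, 0, 0, 2, 0, 0, 0, 2, 3, 0, 2, 0, 0, 3, 0, 2, 2, 0, 3, 0, 0, 2, 0, 3, 2, 0, 0, 0, 2, 0, 0, 2, 5, 0, 7, 2, 16, 11, 5, 12], [12, 11, 4, 15, 7, 1, 0, 4, 0, 1, 0, 1, 0, 0, 0, 3, 1, 0, 1, 0, 0, 1, 0, 3, 3, 0, 1, 0, 0, 1, 0, 1, 3, 0, 0, 0, 1, 0, 1, 0, 4, 0, 1, 7, 15, 4, 11, 12], [10, 9, 8, 15, 2, 1, 0, 0, 2, 1, 0, 1, 0, 0, 0, 2, 1, 0, 1, 0, 0, 1, 0, 2, 2, 0, 1, 0, 0, 1, 0, 1, 2, 0, 0, 0, 1, 0, 1, 2, 0, 0, 1, 2, 15, 8, 9, 10], [0, 5, 4, 15, 2, 1, 0, 4, 2, 1, 4, 1, 2, 1, 1, 2, 1, 0, 1, 2, 1, 1, 0, 2, 2, 0, 1, 1, 2, 1, 0, 1, 2, 1, 1, 2, 1, 4, 1, 2, 4, 0, 1, 2, 15, 4, 5, 0], [6, 0, 4, 15, 2, 0, 0, 4, 2, 4, 0, 2, 0, 0, 0, 2, 0, 0, 2, 0, 0, 0, 0, 2, 2, 0, 0, 0, 0, 2, 0, 0, 2, 0, 0, 0, 2, 0, 4, 2, 4, 0, 0, 2, 15, 4, 0, 6], [6, 5, 0, 16, 0, 1,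 0, 5, 5, 1, 0, 1, 0, 0, 0, 0, 1, 0, 1, 0, 0, 1, 0, 0, 0, 0, 1, 0, 0, 1, 0, 1, 0, 0, 0, 0, 1, 0, 1, 5, 5, 0, 1, 0, 16, 0, 5, 6], [6, 5, 4, 0, 2, 1, 0, 4, 2, 1, 0, 1, 0, 0, 0, 2, 1, 0, 1, 0, 0, 1, 0, 2, 2, 0, 1, 0, 0, 1, 0, 1, 2, 0, 0, 0, 1, 0, 1, 2, 4, 0, 1, 2, 0, 4, 5, 6], [6, 5, 0, 16, 0, 1, 0, 5, 5, 1, 0, 1, 0, 0, 0, 0, 1, 0, 1, 0, 0, 1, 0, 0, 0, 0, 1, 0, 0, 1, 0, 1, 0, 0, 0, 0, 1, 0, 1, 5, 5, 0, 1, 0, 16, 0, 5, 6], [6, 0, 4, 15, 2, 0, 0, 4, 2, 4, 0, 2, 0, 0, 0, 2, 0, 0, 2, 0, 0, 0, 0, 2, 2, 0, 0, 0, 0, 2, 0, 0, 2, 0, 0, 0, 2, 0, 4, 2, 4, 0, 0, 2, 15, 4, 0, 6], [0, 5, 4, 15, 2, 1, 0, 4, 2, 1, 4, 1, 2, 1, 1, 2, 1, 0, 1, 2, 1, 1, 0, 2, 2, 0, 1, 1, 2, 1, 0, 1, 2, 1, 1, 2, 1, 4, 1, 2, 4, 0, 1, 2, 15, 4, 5, 0]]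
  wd := [[[], [], [], [], [], [], [], [], [], [], [], [], [], [], [], [], [], [], [], [], [], [], [], [], [3, 2, 1, 2, 0, 1, 2], [], [3, 2, 1, 2, 0, 1], [], [], [1, 2, 3, 0, 1, 2, 1, 0], [], [3, 2, 1, 2, 0], [3, 2, 1, 0], [], [], [], [1, 2, 3, 0, 1, 2, 1], [], [1, 2, 3, 0, 1, 2], [1, 2, 3, 0, 1], [1, 2, 3, 0], [], [3, 2, 1, 2], [3, 2, 1], [1, 2, 3], [3, 2], [3], []], [[], [], [], [], [], [], [], [], [], [], [], [], [], [], [], [], [], [], [], [], [], [], [], [3, 2, 1, 2, 0, 1, 2, 3], [], [3, 2, 1, 2, 0, 1], [], [], [1, 2, 3, 0, 1, 2, 1, 0], [], [3, 2, 1, 2, 0], [], [2, 1, 0], [], [], [1, 2, 3, 0, 1, 2, 1], [], [1, 2, 3, 0, 1, 2], [], [1, 2, 0, 1], [1, 2, 0], [3, 2, 1, 2], [], [2, 1], [1, 2], [2], [], []], [[], [], [], [], [], [], [], [], [], [], [], [], [], [], [], [], [], [], [], [], [], [3, 2, 1, 2, 0, 1, 2, 3], [3, 2, 1, 2, 0, 1, 2], [], [], [], [], [1, 2, 3, 0, 1, 2, 1, 0], [], [], [3, 2, 1, 0], [2, 1, 0], [], [], [1, 2, 3, 0, 1, 2, 1], [], [], [1,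 2, 3, 0, 1], [1, 2, 0, 1], [], [1, 0], [3, 2, 1], [2, 1], [], [1], [], [], []], [[], [], [], [], [], [], [], [], [], [], [], [], [], [], [], [], [], [], [3, 2, 1, 2, 0, 1, 2, 3], [3, 2, 1, 2, 0, 1, 2], [3, 2, 1, 2, 0, 1], [], [], [], [], [], [], [3, 2, 1, 2, 0], [3, 2, 1, 0], [2, 1, 0], [], [], [], [1, 2, 3, 0, 1, 2, 1], [1, 2, 3, 0, 1, 2], [1, 2, 3, 0, 1], [1, 2, 0, 1], [1, 2, 3, 0], [1, 2, 0], [1, 0], [0], [3, 2, 1, 2, 0, 1, 2, 3], [3, 2, 1, 2, 0, 1, 2], [3, 2, 1, 2, 0, 1], [], [3, 2, 1, 2, 0], [3, 2, 1, 0], [2, 1, 0]], [[], [], [], [], [], [], [], [], [], [], [], [], [], [], [], [], [3, 2, 1, 2, 0, 1, 2, 3], [3, 2, 1, 2, 0, 1, 2], [], [], [1, 2, 3, 0, 1, 2, 0, 1, 0], [], [], [], [], [3, 2, 1, 0], [2, 1, 0], [], [], [], [], [], [], [1, 2, 3, 0, 1, 2], [], [1, 2, 3, 0], [1, 2, 0], [], [], [0], [], [3, 2], [2], [], [], [], [], []], [[], [], [], [], [], [], [], [], [], [], [], [], [], [], [], [3, 2, 1, 2, 0, 1, 2, 3], [], [3, 2, 1, 2, 0, 1], [], [1, 2,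 3, 1, 2, 0, 1, 2, 1, 0], [], [], [3, 2, 1, 2, 0], [], [2, 1, 0], [], [], [], [], [], [], [], [], [1, 2, 3, 0, 1], [1, 2, 3, 0], [], [1, 0], [], [0], [], [], [3], [], [], [], [], [], []], [[], [], [], [], [], [], [], [], [], [], [], [], [], [], [], [3, 2, 1, 2, 0, 1, 2], [3, 2, 1, 2, 0, 1], [], [3, 2, 1, 2, 0, 1, 2, 3, 2, 1, 0], [], [], [3, 2, 1, 2, 0], [], [3, 2, 1, 0], [], [], [], [], [], [], [], [], [], [1, 2, 0, 1], [1, 2, 0], [1, 0], [], [0], [], [], [], [], [], [], [], [], [], []], [[], [], [], [], [], [], [], [], [], [], [], [3, 2, 1, 2, 0, 1, 2, 3], [3, 2, 1, 2, 0, 1, 2], [3, 2, 1, 2, 0, 1], [1, 2, 3, 0, 1, 2, 1, 0], [], [], [], [], [], [], [], [], [], [], [], [], [1, 2, 3, 0, 1, 2], [1, 2, 3, 0, 1], [1, 2, 0, 1], [3, 2, 1, 2, 0, 1, 2, 3], [3, 2, 1, 2, 0, 1, 2], [3, 2, 1, 2, 0, 1], [], [3, 2, 1, 2], [3, 2, 1], [2, 1], [1, 2, 3], [1, 2], [1], [], [], [], [], [], [3, 2, 1, 2], [3, 2, 1], [2, 1]], [[], [], [], [], [], [], [], [], [], [3, 2, 1, 2,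 0, 1, 2, 3], [3, 2, 1, 2, 0, 1, 2], [], [], [1, 2, 3, 0, 1, 2, 1, 0], [3, 2, 1, 2, 0], [], [], [], [], [], [1, 2, 3, 0, 1, 2, 1], [], [], [], [], [3, 2, 1, 2, 0, 1, 2, 3], [3, 2, 1, 2, 0, 1, 2], [], [1, 2, 3, 0], [1, 2, 0], [], [], [3, 2, 1, 2, 0], [3, 2, 1, 2], [], [1, 2, 3], [1, 2], [3, 2], [2], [], [], [], [], [3, 2, 1, 2], [], [], [3, 2], [2]], [[], [], [], [], [], [], [], [], [3, 2, 1, 2, 0, 1, 2, 3], [], [3, 2, 1, 2, 0, 1], [], [1, 2, 3, 0, 1, 2, 1, 0], [], [3, 2, 1, 0], [], [], [], [], [1, 2, 3, 0, 1, 2, 1], [], [], [3, 2, 1, 2, 0, 1, 2, 3, 2], [], [3, 2, 1, 2, 0, 1], [], [], [1, 2, 3, 0], [], [1, 0], [], [3, 2, 1, 0], [], [3, 2, 1], [1, 2, 3], [], [1], [3], [], [], [], [], [3, 2, 1], [], [], [3], [], []], [[], [], [], [], [], [], [], [], [3, 2, 1, 2, 0, 1, 2], [3, 2, 1, 2, 0, 1], [], [1, 2, 3, 0, 1, 2, 1, 0], [], [], [2, 1, 0], [], [], [], [1, 2, 3, 0, 1, 2, 1], [], [], [1, 2, 3, 1, 2, 0, 1, 2], [], [1, 2, 3, 1, 2, 0, 1], [], [], [], [1, 2, 0],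 [1, 0], [], [2, 1, 0], [], [], [2, 1], [1, 2], [1], [], [], [], [], [], [2, 1], [], [], [], [], [], []], [[], [], [], [], [], [], [], [3, 2, 1, 2, 0, 1, 2, 3], [], [], [1, 2, 3, 0, 1, 2, 1, 0], [], [3, 2, 1, 2, 0], [3, 2, 1, 0], [], [], [], [3, 2, 1, 2, 0, 1, 2, 3, 2, 1], [], [1, 2, 3, 0, 1, 2], [1, 2, 3, 0, 1], [], [], [], [3, 2, 1, 2, 0], [], [3, 2, 1, 0], [], [], [0], [], [], [], [1, 2, 3], [3, 2], [3], [], [], [], [], [], [], [3, 2], [3], [], [], [], []], [[], [], [], [], [], [], [], [3, 2, 1, 2, 0, 1, 2], [], [1, 2, 3, 0, 1, 2, 1, 0], [], [3, 2, 1, 2, 0], [], [2, 1, 0], [], [], [1, 2, 3, 1, 2, 0, 1, 2, 1], [], [1, 2, 3, 0, 1, 2], [], [1, 2, 0, 1], [], [], [1, 2, 3, 1, 2, 0], [], [2, 1, 0], [], [], [0], [], [], [], [], [1, 2], [2], [], [], [], [], [], [], [2], [], [], [], [], [], []], [[], [], [], [], [], [], [], [3, 2, 1, 2, 0, 1], [1, 2, 3, 0, 1, 2, 1, 0], [], [], [3, 2, 1, 0], [2, 1, 0], [], [], [1, 2, 3, 0, 1, 2, 0, 1], [], [], [1, 2, 3, 0, 1],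 [1, 2, 0, 1], [], [1, 2, 3, 1, 0], [1, 2, 1, 0], [], [], [], [], [0], [], [], [], [], [], [1], [], [], [], [], [], [], [], [], [], [], [], [], [], []], [[], [], [], [], [], [], [], [1, 2, 3, 0, 1, 2, 1, 0], [3, 2, 1, 2, 0], [3, 2, 1, 0], [2, 1, 0], [], [], [], [], [1, 2, 3, 0, 1, 2, 0], [1, 2, 3, 0, 1, 0], [1, 2, 0, 1, 0], [1, 2, 3, 0], [1, 2, 0], [1, 0], [], [], [], [], [], [], [], [], [], [], [], [], [], [], [], [], [], [], [], [], [], [], [], [], [], [], []], [[], [], [], [], [], [3, 2, 1, 2, 0, 1, 2, 3], [3, 2, 1, 2, 0, 1, 2], [], [], [], [], [], [], [1, 2, 3, 0, 1, 2, 0, 1], [1, 2, 3, 0, 1, 2, 0], [], [], [], [], [], [], [], [], [], [], [3, 2, 1], [2, 1], [], [1, 2, 3], [1, 2], [3, 2], [2], [], [], [], [], [], [], [], [], [], [], [], [], [], [], [], []], [[], [], [], [], [3, 2, 1, 2, 0, 1, 2, 3], [], [3, 2, 1, 2, 0, 1], [], [], [], [], [], [1, 2, 3, 1, 2, 0, 1, 2, 1], [], [1, 2, 3, 0, 1, 0], [], [], [], [], [], [], [], [3, 2, 1, 2], [], [2, 1], [],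 [], [1, 2, 3], [], [1], [3], [], [], [], [], [], [], [], [], [], [], [], [], [], [], [], [], []], [[], [], [], [], [3, 2, 1, 2, 0, 1, 2], [3, 2, 1, 2, 0, 1], [], [], [], [], [], [3, 2, 1, 2, 0, 1, 2, 3, 2, 1], [], [], [1, 2, 0, 1, 0], [], [], [], [], [], [], [3, 2, 1, 2], [], [3, 2, 1], [], [], [], [1, 2], [1], [], [], [], [], [], [], [], [], [], [], [], [], [], [], [], [], [], [], []], [[], [], [], [3, 2, 1, 2, 0, 1, 2, 3], [], [], [3, 2, 1, 2, 0, 1, 2, 3, 2, 1, 0], [], [], [], [1, 2, 3, 0, 1, 2, 1], [], [1, 2, 3, 0, 1, 2], [1, 2, 3, 0, 1], [1, 2, 3, 0], [], [], [], [], [3, 2, 1, 2], [3, 2, 1], [], [], [], [3, 2, 1, 2], [], [3, 2, 1], [3, 2], [3], [], [], [3, 2], [3], [], [], [], [], [], [], [], [], [], [], [], [], [], [], []], [[], [], [], [3, 2, 1, 2, 0, 1, 2], [], [1, 2, 3, 1, 2, 0, 1, 2, 1, 0], [], [], [], [1, 2, 3, 0, 1, 2, 1], [], [1, 2, 3, 0, 1, 2], [], [1, 2, 0, 1], [1, 2, 0], [], [], [], [3, 2, 1, 2], [], [2, 1], [], [], [1, 2, 3, 1, 2], [],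 [2, 1], [], [2], [], [], [2], [], [], [], [], [], [], [], [], [], [], [], [], [], [], [], [], []], [[], [], [], [3, 2, 1, 2, 0, 1], [1, 2, 3, 0, 1, 2, 0, 1, 0], [], [], [], [1, 2, 3, 0, 1, 2, 1], [], [], [1, 2, 3, 0, 1], [1, 2, 0, 1], [], [1, 0], [], [], [], [3, 2, 1], [2, 1], [], [1, 2, 3, 1], [1, 2, 1], [], [], [], [], [], [], [], [], [], [], [], [], [], [], [], [], [], [], [], [], [], [], [], [], []], [[], [], [3, 2, 1, 2, 0, 1, 2, 3], [], [], [], [3, 2, 1, 2, 0], [], [], [], [1, 2, 3, 1, 2, 0, 1, 2], [], [], [1, 2, 3, 1, 0], [], [], [], [3, 2, 1, 2], [], [], [1, 2, 3, 1], [], [], [], [2], [3], [], [], [], [], [], [], [], [], [], [], [], [], [], [], [], [], [], [], [], [], [], []], [[], [], [3, 2, 1, 2, 0, 1, 2], [], [], [3, 2, 1, 2, 0], [], [], [], [3, 2, 1, 2, 0, 1, 2, 3, 2], [], [], [], [1, 2, 1, 0], [], [], [3, 2, 1, 2], [], [], [], [1, 2, 1], [], [], [3, 2], [], [], [], [], [], [], [], [], [], [], [], [], [], [], [], [], [], [], [], [], [], [],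 [], []], [[], [3, 2, 1, 2, 0, 1, 2, 3], [], [], [], [], [3, 2, 1, 0], [], [], [], [1, 2, 3, 1, 2, 0, 1], [], [1, 2, 3, 1, 2, 0], [], [], [], [], [3, 2, 1], [], [1, 2, 3, 1, 2], [], [], [3, 2], [], [], [], [], [], [], [], [], [], [], [], [], [], [], [], [], [], [], [], [], [], [], [], [], []], [[3, 2, 1, 2, 0, 1, 2], [], [], [], [], [2, 1, 0], [], [], [], [3, 2, 1, 2, 0, 1], [], [3, 2, 1, 2, 0], [], [], [], [], [2, 1], [], [3, 2, 1, 2], [], [], [2], [], [], [], [], [], [], [], [], [], [], [], [], [], [], [], [], [], [], [], [], [], [], [], [], [], []], [[], [3, 2, 1, 2, 0, 1], [], [], [3, 2, 1, 0], [], [], [], [3, 2, 1, 2, 0, 1, 2, 3], [], [], [], [2, 1, 0], [], [], [3, 2, 1], [], [], [], [2, 1], [], [3], [], [], [], [], [], [], [], [], [], [], [], [], [], [], [], [], [], [], [], [], [], [], [], [], [], []], [[3, 2, 1, 2, 0, 1], [], [], [], [2, 1, 0], [], [], [], [3, 2, 1, 2, 0, 1, 2], [], [], [3, 2, 1, 0], [], [], [], [2, 1], [], [], [3, 2, 1], [], [],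 [], [], [], [], [], [], [], [], [], [], [], [], [], [], [], [], [], [], [], [], [], [], [], [], [], [], []], [[], [], [1, 2, 3, 0, 1, 2, 1, 0], [3, 2, 1, 2, 0], [], [], [], [1, 2, 3, 0, 1, 2], [], [1, 2, 3, 0], [1, 2, 0], [], [], [0], [], [], [1, 2, 3], [1, 2], [3, 2], [2], [], [], [], [], [], [], [], [], [], [], [], [], [], [], [], [], [], [], [], [], [], [], [], [], [], [], [], []], [[], [1, 2, 3, 0, 1, 2, 1, 0], [], [3, 2, 1, 0], [], [], [], [1, 2, 3, 0, 1], [1, 2, 3, 0], [], [1, 0], [], [0], [], [], [1, 2, 3], [], [1], [3], [], [], [], [], [], [], [], [], [], [], [], [], [], [], [], [], [], [], [], [], [], [], [], [], [], [], [], [], []], [[1, 2, 3, 0, 1, 2, 1, 0], [], [], [2, 1, 0], [], [], [], [1, 2, 0, 1], [1, 2, 0], [1, 0], [], [0], [], [], [], [1, 2], [1], [], [], [], [], [], [], [], [], [], [], [], [], [], [], [], [], [], [], [], [], [], [], [], [], [], [], [], [], [], [], []], [[], [3, 2, 1, 2, 0], [3, 2, 1, 0], [], [], [], [], [3, 2, 1, 2,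 0, 1, 2, 3], [], [], [2, 1, 0], [], [], [], [], [3, 2], [3], [], [], [2], [], [], [], [], [], [], [], [], [], [], [], [], [], [], [], [], [], [], [], [], [], [], [], [], [], [], [], []], [[3, 2, 1, 2, 0], [], [2, 1, 0], [], [], [], [], [3, 2, 1, 2, 0, 1, 2], [], [3, 2, 1, 0], [], [], [], [], [], [2], [], [], [3, 2], [], [], [], [], [], [], [], [], [], [], [], [], [], [], [], [], [], [], [], [], [], [], [], [], [], [], [], [], []], [[3, 2, 1, 0], [2, 1, 0], [], [], [], [], [], [3, 2, 1, 2, 0, 1], [3, 2, 1, 2, 0], [], [], [], [], [], [], [], [], [], [3], [], [], [], [], [], [], [], [], [], [], [], [], [], [], [], [], [], [], [], [], [], [], [], [], [], [], [], [], []], [[], [], [], [1, 2, 3, 0, 1, 2, 1], [1, 2, 3, 0, 1, 2], [1, 2, 3, 0, 1], [1, 2, 0, 1], [], [3, 2, 1, 2], [3, 2, 1], [2, 1], [1, 2, 3], [1, 2], [1], [], [], [], [], [], [], [], [], [], [], [], [], [], [], [], [], [], [], [], [], [], [], [], [], [], [], [], [], [], [], [], [], [], []], [[],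 [], [1, 2, 3, 0, 1, 2, 1], [1, 2, 3, 0, 1, 2], [], [1, 2, 3, 0], [1, 2, 0], [3, 2, 1, 2], [], [1, 2, 3], [1, 2], [3, 2], [2], [], [], [], [], [], [], [], [], [], [], [], [], [], [], [], [], [], [], [], [], [], [], [], [], [], [], [], [], [], [], [], [], [], [], []], [[], [1, 2, 3, 0, 1, 2, 1], [], [1, 2, 3, 0, 1], [1, 2, 3, 0], [], [1, 0], [3, 2, 1], [1, 2, 3], [], [1], [3], [], [], [], [], [], [], [], [], [], [], [], [], [], [], [], [], [], [], [], [], [], [], [], [], [], [], [], [], [], [], [], [], [], [], [], []], [[1, 2, 3, 0, 1, 2, 1], [], [], [1, 2, 0, 1], [1, 2, 0], [1, 0], [], [2, 1], [1, 2], [1], [], [], [], [], [], [], [], [], [], [], [], [], [], [], [], [], [], [], [], [], [], [], [], [], [], [], [], [], [], [], [], [], [], [], [], [], [], []], [[], [1, 2, 3, 0, 1, 2], [1, 2, 3, 0, 1], [1, 2, 3, 0], [], [], [0], [1, 2, 3], [3, 2], [3], [], [], [], [], [], [], [], [], [], [], [], [], [], [], [], [], [], [], [], [], [], [], [], [], [], [], [],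 [], [], [], [], [], [], [], [], [], [], []], [[1, 2, 3, 0, 1, 2], [], [1, 2, 0, 1], [1, 2, 0], [], [0], [], [1, 2], [2], [], [], [], [], [], [], [], [], [], [], [], [], [], [], [], [], [], [], [], [], [], [], [], [], [], [], [], [], [], [], [], [], [], [], [], [], [], [], []], [[1, 2, 3, 0, 1], [1, 2, 0, 1], [], [1, 0], [0], [], [], [1], [], [], [], [], [], [], [], [], [], [], [], [], [], [], [], [], [], [], [], [], [], [], [], [], [], [], [], [], [], [], [], [], [], [], [], [], [], [], [], []], [[1, 2, 3, 0], [1, 2, 0], [1, 0], [0], [], [], [], [], [], [], [], [], [], [], [], [], [], [], [], [], [], [], [], [], [], [], [], [], [], [], [], [], [], [], [], [], [], [], [], [], [], [], [], [], [], [], [], []], [[], [3, 2, 1, 2], [3, 2, 1], [3, 2, 1, 2, 0, 1, 2, 3], [3, 2], [3], [], [], [], [], [2, 1], [], [2], [], [], [], [], [], [], [], [], [], [], [], [], [], [], [], [], [], [], [], [], [], [], [], [], [], [], [], [], [], [], [], [], [], [], []], [[3,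 2, 1, 2], [], [2, 1], [3, 2, 1, 2, 0, 1, 2], [2], [], [], [], [], [3, 2, 1], [], [3, 2], [], [], [], [], [], [], [], [], [], [], [], [], [], [], [], [], [], [], [], [], [], [], [], [], [], [], [], [], [], [], [], [], [], [], [], []], [[3, 2, 1], [2, 1], [], [3, 2, 1, 2, 0, 1], [], [], [], [], [3, 2, 1, 2], [], [], [3], [], [], [], [], [], [], [], [], [], [], [], [], [], [], [], [], [], [], [], [], [], [], [], [], [], [], [], [], [], [], [], [], [], [], [], []], [[1, 2, 3], [1, 2], [1], [], [], [], [], [], [], [], [], [], [], [], [], [], [], [], [], [], [], [], [], [], [], [], [], [], [], [], [], [], [], [], [], [], [], [], [], [], [], [], [], [], [], [], [], []], [[3, 2], [2], [], [3, 2, 1, 2, 0], [], [], [], [3, 2, 1, 2], [], [3], [], [], [], [], [], [], [], [], [], [], [], [], [], [], [], [], [], [], [], [], [], [], [], [], [], [], [], [], [], [], [], [], [], [], [], [], [], []], [[3], [], [], [3, 2, 1, 0], [], [], [], [3, 2, 1], [3, 2], [], [], [],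 [], [], [], [], [], [], [], [], [], [], [], [], [], [], [], [], [], [], [], [], [], [], [], [], [], [], [], [], [], [], [], [], [], [], [], []], [[], [], [], [2, 1, 0], [], [], [], [2, 1], [2], [], [], [], [], [], [], [], [], [], [], [], [], [], [], [], [], [], [], [], [], [], [], [], [], [], [], [], [], [], [], [], [], [], [], [], [], [], [], []]]
  gs := [1, 0, 0, 0, 0, 0, 1, 0, 0, 0, 1, 0, 1, 2, 3, 0, 0, 1, 0, 1, 2, 0, 1, 0, 0, 1, 0, 2, 1, 0, 1, 0, 0, 3, 2, 1, 0, 1, 0, 0, 0, 1, 0, 0, 0, 0, 0, 1]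

def zdF4q3 : ZDec where
  dp := [[(0, 0, false), (0, 0, false), (0, 0, false), (0, 0, false), (0, 0, false), (0, 0, false), (7, 11, false), (0, 0, false), (0, 0, false), (0, 0, false), (0, 0, false), (0, 0, false), (0, 0, false), (0, 0, false), (0, 0, false), (0, 0, false), (0, 0, false), (3, 18, false), (0, 0, false), (0, 0, false), (0, 0, false), (0, 0, false), (3, 18, false), (0, 0, false), (0, 0, false), (3, 18, false), (0, 0, false), (0, 0, false), (0, 0, false), (0, 0, false), (3, 18, false), (0, 0, false), (0, 0, false), (0, 0, false), (0, 0, false), (0, 0, false), (0, 0, false), (0, 0, false), (0, 0, false), (0, 0, false), (0, 0, false), (7, 11, false), (0, 0, false), (0, 0, false), (0, 0, false), (0, 0, false), (0, 0, false), (0, 0, false)], [(0, 0, false), (0, 0, false), (0, 0, false), (0, 0, false), (0, 0, false), (7, 12, false), (0, 0, false), (0, 0, false), (0, 0, false), (0, 0, false), (0, 0, false), (0, 0, false), (0, 0, false), (0, 0,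 false), (0, 0, false), (0, 0, false), (3, 19, false), (0, 0, false), (0, 0, false), (0, 0, false), (0, 0, false), (3, 19, false), (0, 0, false), (0, 0, false), (0, 0, false), (0, 0, false), (3, 19, false), (0, 0, false), (0, 0, false), (0, 0, false), (0, 0, false), (3, 19, false), (0, 0, false), (0, 0, false), (0, 0, false), (0, 0, false), (0, 0, false), (0, 0, false), (0, 0, false), (0, 0, false), (0, 0, false), (0, 0, false), (7, 12, false), (0, 0, false), (0, 0, false), (0, 0, false), (0, 0, false), (0, 0, false)], [(0, 0, false), (0, 0, false), (0, 0, false), (0, 0, false), (7, 13, false), (0, 0, false), (0, 0, false), (0, 0, false), (0, 0, false), (0, 0, false), (0, 0, false), (0, 0, false), (0, 0, false), (0, 0, false), (0, 0, false), (3, 20, false), (0, 0, false), (0, 0, false), (0, 0, false), (0, 0, false), (0, 0, false), (0, 0, false), (0, 0, false), (3, 20, false), (3, 20, false), (0, 0, false), (0, 0, false), (0, 0, false), (0, 0, false), (0,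 0, false), (0, 0, false), (0, 0, false), (3, 20, false), (0, 0, false), (0, 0, false), (0, 0, false), (0, 0, false), (0, 0, false), (0, 0, false), (0, 0, false), (0, 0, false), (0, 0, false), (0, 0, false), (7, 13, false), (0, 0, false), (0, 0, false), (0, 0, false), (0, 0, false)], [(0, 0, false), (0, 0, false), (0, 0, false), (0, 0, false), (0, 0, false), (0, 0, false), (0, 0, false), (0, 0, false), (0, 0, false), (0, 0, false), (0, 0, false), (0, 0, false), (0, 0, false), (0, 0, false), (0, 0, false), (0, 0, false), (0, 0, false), (0, 0, false), (0, 0, false), (0, 0, false), (0, 0, false), (0, 0, false), (0, 0, false), (0, 0, false), (0, 0, false), (0, 0, false), (0, 0, false), (0, 0, false), (0, 0, false), (0, 0, false), (0, 0, false), (0, 0, false), (0, 0, false), (0, 0, false), (0, 0, false), (0, 0, false), (0, 0, false), (0, 0, false), (0, 0, false), (0, 0, false), (0, 0, false), (0, 0, false), (0, 0, false), (0, 0, false), (0, 0, false), (0, 0,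 false), (0, 0, false), (0, 0, false)], [(0, 0, false), (0, 0, false), (8, 14, false), (0, 0, false), (0, 0, false), (0, 0, false), (0, 0, false), (0, 0, false), (0, 0, false), (0, 0, false), (0, 0, false), (0, 0, false), (0, 0, false), (0, 0, false), (0, 0, false), (3, 27, false), (0, 0, false), (0, 0, false), (0, 0, false), (0, 0, false), (0, 0, false), (0, 0, false), (0, 0, false), (3, 27, false), (3, 27, false), (0, 0, false), (0, 0, false), (0, 0, false), (0, 0, false), (0, 0, false), (0, 0, false), (0, 0, false), (3, 27, false), (0, 0, false), (0, 0, false), (0, 0, false), (0, 0, false), (0, 0, false), (0, 0, false), (0, 0, false), (0, 0, false), (0, 0, false), (0, 0, false), (0, 0, false), (0, 0, false), (8, 14, false), (0, 0, false), (0, 0, false)], [(0, 0, false), (9, 14, false), (0, 0, false), (0, 0, false), (0, 0, false), (0, 0, false), (0, 0, false), (0, 0, false), (0, 0, false), (0, 0, false), (0, 0, false), (0, 0, false), (0, 0, false), (0,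 0, false), (0, 0, false), (0, 0, false), (3, 28, false), (0, 0, false), (0, 0, false), (0, 0, false), (0, 0, false), (3, 28, false), (0, 0, false), (0, 0, false), (0, 0, false), (0, 0, false), (3, 28, false), (0, 0, false), (0, 0, false), (0, 0, false), (0, 0, false), (3, 28, false), (0, 0, false), (0, 0, false), (0, 0, false), (0, 0, false), (0, 0, false), (0, 0, false), (0, 0, false), (0, 0, false), (0, 0, false), (0, 0, false), (0, 0, false), (0, 0, false), (0, 0, false), (0, 0, false), (9, 14, false), (0, 0, false)], [(10, 14, false), (0, 0, false), (0, 0, false), (0, 0, false), (0, 0, false), (0, 0, false), (0, 0, false), (0, 0, false), (0, 0, false), (0, 0, false), (0, 0, false), (0, 0, false), (0, 0, false), (0, 0, false), (0, 0, false), (0, 0, false), (0, 0, false), (3, 29, false), (0, 0, false), (0, 0, false), (0, 0, false), (0, 0, false), (3, 29, false), (0, 0, false), (0, 0, false), (3, 29, false), (0, 0, false), (0, 0, false), (0, 0, false),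 (0, 0, false), (3, 29, false), (0, 0, false), (0, 0, false), (0, 0, false), (0, 0, false), (0, 0, false), (0, 0, false), (0, 0, false), (0, 0, false), (0, 0, false), (0, 0, false), (0, 0, false), (0, 0, false), (0, 0, false), (0, 0, false), (0, 0, false), (0, 0, false), (10, 14, false)], [(0, 0, false), (0, 0, false), (0, 0, false), (0, 0, false), (0, 0, false), (0, 0, false), (0, 0, false), (0, 0, false), (0, 0, false), (0, 0, false), (0, 0, false), (0, 0, false), (0, 0, false), (0, 0, false), (0, 0, false), (0, 0, false), (0, 0, false), (0, 0, false), (0, 0, false), (0, 0, false), (0, 0, false), (0, 0, false), (0, 0, false), (0, 0, false), (0, 0, false), (0, 0, false), (0, 0, false), (0, 0, false), (0, 0, false), (0, 0, false), (0, 0, false), (0, 0, false), (0, 0, false), (0, 0, false), (0, 0, false), (0, 0, false), (0, 0, false), (0, 0, false), (0, 0, false), (0, 0, false), (0, 0, false), (0, 0, false), (0, 0, false), (0, 0, false), (0, 0, false),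 (0, 0, false), (0, 0, false), (0, 0, false)], [(0, 0, false), (0, 0, false), (0, 0, false), (0, 0, false), (0, 0, false), (0, 0, false), (0, 0, false), (0, 0, false), (0, 0, false), (0, 0, false), (0, 0, false), (0, 0, false), (0, 0, false), (0, 0, false), (0, 0, false), (0, 0, false), (0, 0, false), (0, 0, false), (0, 0, false), (0, 0, false), (0, 0, false), (0, 0, false), (0, 0, false), (0, 0, false), (0, 0, false), (0, 0, false), (0, 0, false), (0, 0, false), (0, 0, false), (0, 0, false), (0, 0, false), (0, 0, false), (0, 0, false), (0, 0, false), (0, 0, false), (0, 0, false), (0, 0, false), (0, 0, false), (0, 0, false), (0, 0, false), (0, 0, false), (0, 0, false), (0, 0, false), (0, 0, false), (0, 0, false), (0, 0, false), (0, 0, false), (0, 0, false)], [(0, 0, false), (0, 0, false), (0, 0, false), (0, 0, false), (0, 0, false), (0, 0, false), (0, 0, false), (0, 0, false), (0, 0, false), (0, 0, false), (0, 0, false), (0, 0, false), (0, 0, false), (0,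 0, false), (0, 0, false), (0, 0, false), (0, 0, false), (0, 0, false), (0, 0, false), (0, 0, false), (0, 0, false), (0, 0, false), (0, 0, false), (0, 0, false), (0, 0, false), (0, 0, false), (0, 0, false), (0, 0, false), (0, 0, false), (0, 0, false), (0, 0, false), (0, 0, false), (0, 0, false), (0, 0, false), (0, 0, false), (0, 0, false), (0, 0, false), (0, 0, false), (0, 0, false), (0, 0, false), (0, 0, false), (0, 0, false), (0, 0, false), (0, 0, false), (0, 0, false), (0, 0, false), (0, 0, false), (0, 0, false)], [(0, 0, false), (0, 0, false), (0, 0, false), (0, 0, false), (0, 0, false), (0, 0, false), (0, 0, false), (0, 0, false), (0, 0, false), (0, 0, false), (0, 0, false), (0, 0, false), (0, 0, false), (0, 0, false), (0, 0, false), (0, 0, false), (0, 0, false), (0, 0, false), (0, 0, false), (0, 0, false), (0, 0, false), (0, 0, false), (0, 0, false), (0, 0, false), (0, 0, false), (0, 0, false), (0, 0, false), (0, 0, false), (0, 0, false), (0, 0,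 false), (0, 0, false), (0, 0, false), (0, 0, false), (0, 0, false), (0, 0, false), (0, 0, false), (0, 0, false), (0, 0, false), (0, 0, false), (0, 0, false), (0, 0, false), (0, 0, false), (0, 0, false), (0, 0, false), (0, 0, false), (0, 0, false), (0, 0, false), (0, 0, false)], [(0, 0, false), (0, 0, false), (0, 0, false), (0, 0, false), (0, 0, false), (0, 0, false), (0, 0, false), (0, 0, false), (0, 0, false), (0, 0, false), (0, 0, false), (0, 0, false), (0, 0, false), (0, 0, false), (0, 0, false), (0, 0, false), (0, 0, false), (0, 0, false), (0, 0, false), (0, 0, false), (0, 0, false), (0, 0, false), (0, 0, false), (0, 0, false), (0, 0, false), (0, 0, false), (0, 0, false), (0, 0, false), (0, 0, false), (0, 0, false), (0, 0, false), (0, 0, false), (0, 0, false), (0, 0, false), (0, 0, false), (0, 0, false), (0, 0, false), (0, 0, false), (0, 0, false), (0, 0, false), (0, 0, false), (0, 0, false), (0, 0, false), (0, 0, false), (0, 0, false), (0, 0, false),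 (0, 0, false), (0, 0, false)], [(0, 0, false), (0, 0, false), (0, 0, false), (0, 0, false), (0, 0, false), (0, 0, false), (0, 0, false), (0, 0, false), (0, 0, false), (0, 0, false), (0, 0, false), (0, 0, false), (0, 0, false), (0, 0, false), (0, 0, false), (0, 0, false), (0, 0, false), (0, 0, false), (0, 0, false), (0, 0, false), (0, 0, false), (0, 0, false), (0, 0, false), (0, 0, false), (0, 0, false), (0, 0, false), (0, 0, false), (0, 0, false), (0, 0, false), (0, 0, false), (0, 0, false), (0, 0, false), (0, 0, false), (0, 0, false), (0, 0, false), (0, 0, false), (0, 0, false), (0, 0, false), (0, 0, false), (0, 0, false), (0, 0, false), (0, 0, false), (0, 0, false), (0, 0, false), (0, 0, false), (0, 0, false), (0, 0, false), (0, 0, false)], [(0, 0, false), (0, 0, false), (0, 0, false), (0, 0, false), (0, 0, false), (0, 0, false), (0, 0, false), (0, 0, false), (0, 0, false), (0, 0, false), (0, 0, false), (0, 0, false), (0, 0, false), (0, 0, false), (0,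 0, false), (0, 0, false), (0, 0, false), (0, 0, false), (0, 0, false), (0, 0, false), (0, 0, false), (0, 0, false), (0, 0, false), (0, 0, false), (0, 0, false), (0, 0, false), (0, 0, false), (0, 0, false), (0, 0, false), (0, 0, false), (0, 0, false), (0, 0, false), (0, 0, false), (0, 0, false), (0, 0, false), (0, 0, false), (0, 0, false), (0, 0, false), (0, 0, false), (0, 0, false), (0, 0, false), (0, 0, false), (0, 0, false), (0, 0, false), (0, 0, false), (0, 0, false), (0, 0, false), (0, 0, false)], [(0, 0, false), (0, 0, false), (0, 0, false), (0, 0, false), (0, 0, false), (0, 0, false), (0, 0, false), (0, 0, false), (0, 0, false), (0, 0, false), (0, 0, false), (0, 0, false), (0, 0, false), (0, 0, false), (0, 0, false), (0, 0, false), (0, 0, false), (0, 0, false), (0, 0, false), (0, 0, false), (0, 0, false), (0, 0, false), (0, 0, false), (0, 0, false), (0, 0, false), (0, 0, false), (0, 0, false), (0, 0, false), (0, 0, false), (0, 0, false), (0, 0,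 false), (0, 0, false), (0, 0, false), (0, 0, false), (0, 0, false), (0, 0, false), (0, 0, false), (0, 0, false), (0, 0, false), (0, 0, false), (0, 0, false), (0, 0, false), (0, 0, false), (0, 0, false), (0, 0, false), (0, 0, false), (0, 0, false), (0, 0, false)], [(0, 0, false), (0, 0, false), (8, 33, false), (0, 0, false), (7, 34, false), (0, 0, false), (0, 0, false), (0, 0, false), (0, 0, false), (0, 0, false), (0, 0, false), (0, 0, false), (0, 0, false), (0, 0, false), (0, 0, false), (0, 0, false), (0, 0, false), (0, 0, false), (0, 0, false), (0, 0, false), (0, 0, false), (0, 0, false), (0, 0, false), (7, 34, false), (7, 34, false), (0, 0, false), (0, 0, false), (0, 0, false), (0, 0, false), (0, 0, false), (0, 0, false), (0, 0, false), (0, 0, false), (0, 0, false), (0, 0, false), (0, 0, false), (0, 0, false), (0, 0, false), (0, 0, false), (0, 0, false), (0, 0, false), (0, 0, false), (0, 0, false), (7, 34, false), (0, 0, false), (8, 33, false), (0,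 0, false), (0, 0, false)], [(0, 0, false), (9, 33, false), (0, 0, false), (0, 0, false), (0, 0, false), (7, 35, false), (0, 0, false), (0, 0, false), (0, 0, false), (0, 0, false), (0, 0, false), (0, 0, false), (0, 0, false), (0, 0, false), (0, 0, false), (0, 0, false), (0, 0, false), (0, 0, false), (0, 0, false), (0, 0, false), (0, 0, false), (7, 35, false), (0, 0, false), (0, 0, false), (0, 0, false), (0, 0, false), (7, 35, false), (0, 0, false), (0, 0, false), (0, 0, false), (0, 0, false), (0, 0, false), (0, 0, false), (0, 0, false), (0, 0, false), (0, 0, false), (0, 0, false), (0, 0, false), (0, 0, false), (0, 0, false), (0, 0, false), (0, 0, false), (7, 35, false), (0, 0, false), (0, 0, false), (0, 0, false), (9, 33, false), (0, 0, false)], [(10, 33, false), (0, 0, false), (0, 0, false), (0, 0, false), (0, 0, false), (0, 0, false), (7, 36, false), (0, 0, false), (0, 0, false), (0, 0, false), (0, 0, false), (0, 0, false), (0, 0, false), (0, 0, false),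 (0, 0, false), (0, 0, false), (0, 0, false), (0, 0, false), (0, 0, false), (0, 0, false), (0, 0, false), (0, 0, false), (7, 36, false), (0, 0, false), (0, 0, false), (7, 36, false), (0, 0, false), (0, 0, false), (0, 0, false), (0, 0, false), (0, 0, false), (0, 0, false), (0, 0, false), (0, 0, false), (0, 0, false), (0, 0, false), (0, 0, false), (0, 0, false), (0, 0, false), (0, 0, false), (0, 0, false), (7, 36, false), (0, 0, false), (0, 0, false), (0, 0, false), (0, 0, false), (0, 0, false), (10, 33, false)], [(0, 0, false), (0, 0, false), (0, 0, false), (0, 0, false), (0, 0, false), (0, 0, false), (0, 0, false), (0, 0, false), (0, 0, false), (0, 0, false), (0, 0, false), (0, 0, false), (0, 0, false), (0, 0, false), (0, 0, false), (0, 0, false), (0, 0, false), (0, 0, false), (0, 0, false), (0, 0, false), (0, 0, false), (0, 0, false), (0, 0, false), (0, 0, false), (0, 0, false), (0, 0, false), (0, 0, false), (0, 0, false), (0, 0, false), (0, 0, false),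 (0, 0, false), (0, 0, false), (0, 0, false), (0, 0, false), (0, 0, false), (0, 0, false), (0, 0, false), (0, 0, false), (0, 0, false), (0, 0, false), (0, 0, false), (0, 0, false), (0, 0, false), (0, 0, false), (0, 0, false), (0, 0, false), (0, 0, false), (0, 0, false)], [(0, 0, false), (0, 0, false), (0, 0, false), (0, 0, false), (0, 0, false), (0, 0, false), (0, 0, false), (0, 0, false), (0, 0, false), (0, 0, false), (0, 0, false), (0, 0, false), (0, 0, false), (0, 0, false), (0, 0, false), (0, 0, false), (0, 0, false), (0, 0, false), (0, 0, false), (0, 0, false), (0, 0, false), (0, 0, false), (0, 0, false), (0, 0, false), (0, 0, false), (0, 0, false), (0, 0, false), (0, 0, false), (0, 0, false), (0, 0, false), (0, 0, false), (0, 0, false), (0, 0, false), (0, 0, false), (0, 0, false), (0, 0, false), (0, 0, false), (0, 0, false), (0, 0, false), (0, 0, false), (0, 0, false), (0, 0, false), (0, 0, false), (0, 0, false), (0, 0, false), (0, 0, false), (0,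 0, false), (0, 0, false)], [(0, 0, false), (0, 0, false), (0, 0, false), (0, 0, false), (0, 0, false), (0, 0, false), (0, 0, false), (0, 0, false), (0, 0, false), (0, 0, false), (0, 0, false), (0, 0, false), (0, 0, false), (0, 0, false), (0, 0, false), (0, 0, false), (0, 0, false), (0, 0, false), (0, 0, false), (0, 0, false), (0, 0, false), (0, 0, false), (0, 0, false), (0, 0, false), (0, 0, false), (0, 0, false), (0, 0, false), (0, 0, false), (0, 0, false), (0, 0, false), (0, 0, false), (0, 0, false), (0, 0, false), (0, 0, false), (0, 0, false), (0, 0, false), (0, 0, false), (0, 0, false), (0, 0, false), (0, 0, false), (0, 0, false), (0, 0, false), (0, 0, false), (0, 0, false), (0, 0, false), (0, 0, false), (0, 0, false), (0, 0, false)], [(0, 0, false), (11, 34, false), (0, 0, false), (0, 0, false), (0, 0, false), (8, 37, false), (0, 0, false), (0, 0, false), (0, 0, false), (0, 0, false), (0, 0, false), (0, 0, false), (0, 0, false), (0, 0, false), (0,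 0, false), (0, 0, false), (8, 37, false), (0, 0, false), (0, 0, false), (0, 0, false), (0, 0, false), (0, 0, false), (0, 0, false), (0, 0, false), (0, 0, false), (0, 0, false), (0, 0, false), (0, 0, false), (0, 0, false), (0, 0, false), (0, 0, false), (8, 37, false), (0, 0, false), (0, 0, false), (0, 0, false), (0, 0, false), (0, 0, false), (0, 0, false), (0, 0, false), (0, 0, false), (0, 0, false), (0, 0, false), (8, 37, false), (0, 0, false), (0, 0, false), (0, 0, false), (11, 34, false), (0, 0, false)], [(12, 34, false), (0, 0, false), (0, 0, false), (0, 0, false), (0, 0, false), (0, 0, false), (8, 38, false), (0, 0, false), (0, 0, false), (0, 0, false), (0, 0, false), (0, 0, false), (0, 0, false), (0, 0, false), (0, 0, false), (0, 0, false), (0, 0, false), (8, 38, false), (0, 0, false), (0, 0, false), (0, 0, false), (0, 0, false), (0, 0, false), (0, 0, false), (0, 0, false), (0, 0, false), (0, 0, false), (0, 0, false), (0, 0, false), (0, 0, false),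 (8, 38, false), (0, 0, false), (0, 0, false), (0, 0, false), (0, 0, false), (0, 0, false), (0, 0, false), (0, 0, false), (0, 0, false), (0, 0, false), (0, 0, false), (8, 38, false), (0, 0, false), (0, 0, false), (0, 0, false), (0, 0, false), (0, 0, false), (12, 34, false)], [(0, 0, false), (0, 0, false), (11, 35, false), (0, 0, false), (9, 37, false), (0, 0, false), (0, 0, false), (0, 0, false), (0, 0, false), (0, 0, false), (0, 0, false), (0, 0, false), (0, 0, false), (0, 0, false), (0, 0, false), (9, 37, false), (0, 0, false), (0, 0, false), (0, 0, false), (0, 0, false), (0, 0, false), (0, 0, false), (0, 0, false), (0, 0, false), (0, 0, false), (0, 0, false), (0, 0, false), (0, 0, false), (0, 0, false), (0, 0, false), (0, 0, false), (0, 0, false), (9, 37, false), (0, 0, false), (0, 0, false), (0, 0, false), (0, 0, false), (0, 0, false), (0, 0, false), (0, 0, false), (0, 0, false), (0, 0, false), (0, 0, false), (9, 37, false), (0, 0, false), (11, 35,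 false), (0, 0, false), (0, 0, false)], [(0, 0, false), (0, 0, false), (12, 36, false), (0, 0, false), (10, 38, false), (0, 0, false), (0, 0, false), (0, 0, false), (0, 0, false), (0, 0, false), (0, 0, false), (0, 0, false), (0, 0, false), (0, 0, false), (0, 0, false), (10, 38, false), (0, 0, false), (0, 0, false), (0, 0, false), (0, 0, false), (0, 0, false), (0, 0, false), (0, 0, false), (0, 0, false), (0, 0, false), (0, 0, false), (0, 0, false), (0, 0, false), (0, 0, false), (0, 0, false), (0, 0, false), (0, 0, false), (10, 38, false), (0, 0, false), (0, 0, false), (0, 0, false), (0, 0, false), (0, 0, false), (0, 0, false), (0, 0, false), (0, 0, false), (0, 0, false), (0, 0, false), (10, 38, false), (0, 0, false), (12, 36, false), (0, 0, false), (0, 0, false)], [(13, 35, false), (0, 0, false), (0, 0, false), (0, 0, false), (0, 0, false), (0, 0, false), (9, 39, false), (0, 0, false), (0, 0, false), (0, 0, false), (0, 0, false), (0, 0, false), (0, 0, false),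 (0, 0, false), (0, 0, false), (0, 0, false), (0, 0, false), (9, 39, false), (0, 0, false), (0, 0, false), (0, 0, false), (0, 0, false), (0, 0, false), (0, 0, false), (0, 0, false), (0, 0, false), (0, 0, false), (0, 0, false), (0, 0, false), (0, 0, false), (9, 39, false), (0, 0, false), (0, 0, false), (0, 0, false), (0, 0, false), (0, 0, false), (0, 0, false), (0, 0, false), (0, 0, false), (0, 0, false), (0, 0, false), (9, 39, false), (0, 0, false), (0, 0, false), (0, 0, false), (0, 0, false), (0, 0, false), (13, 35, false)], [(0, 0, false), (13, 36, false), (0, 0, false), (0, 0, false), (0, 0, false), (10, 39, false), (0, 0, false), (0, 0, false), (0, 0, false), (0, 0, false), (0, 0, false), (0, 0, false), (0, 0, false), (0, 0, false), (0, 0, false), (0, 0, false), (10, 39, false), (0, 0, false), (0, 0, false), (0, 0, false), (0, 0, false), (0, 0, false), (0, 0, false), (0, 0, false), (0, 0, false), (0, 0, false), (0, 0, false), (0, 0, false), (0, 0,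 false), (0, 0, false), (0, 0, false), (10, 39, false), (0, 0, false), (0, 0, false), (0, 0, false), (0, 0, false), (0, 0, false), (0, 0, false), (0, 0, false), (0, 0, false), (0, 0, false), (0, 0, false), (10, 39, false), (0, 0, false), (0, 0, false), (0, 0, false), (13, 36, false), (0, 0, false)], [(0, 0, false), (0, 0, false), (0, 0, false), (0, 0, false), (0, 0, false), (0, 0, false), (0, 0, false), (0, 0, false), (0, 0, false), (0, 0, false), (0, 0, false), (0, 0, false), (0, 0, false), (0, 0, false), (0, 0, false), (0, 0, false), (0, 0, false), (0, 0, false), (0, 0, false), (0, 0, false), (0, 0, false), (0, 0, false), (0, 0, false), (0, 0, false), (0, 0, false), (0, 0, false), (0, 0, false), (0, 0, false), (0, 0, false), (0, 0, false), (0, 0, false), (0, 0, false), (0, 0, false), (0, 0, false), (0, 0, false), (0, 0, false), (0, 0, false), (0, 0, false), (0, 0, false), (0, 0, false), (0, 0, false), (0, 0, false), (0, 0, false), (0, 0, false), (0,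 0, false), (0, 0, false), (0, 0, false), (0, 0, false)], [(0, 0, false), (0, 0, false), (0, 0, false), (0, 0, false), (0, 0, false), (0, 0, false), (0, 0, false), (0, 0, false), (0, 0, false), (0, 0, false), (0, 0, false), (0, 0, false), (0, 0, false), (0, 0, false), (0, 0, false), (0, 0, false), (0, 0, false), (0, 0, false), (0, 0, false), (0, 0, false), (0, 0, false), (0, 0, false), (0, 0, false), (0, 0, false), (0, 0, false), (0, 0, false), (0, 0, false), (0, 0, false), (0, 0, false), (0, 0, false), (0, 0, false), (0, 0, false), (0, 0, false), (0, 0, false), (0, 0, false), (0, 0, false), (0, 0, false), (0, 0, false), (0, 0, false), (0, 0, false), (0, 0, false), (0, 0, false), (0, 0, false), (0, 0, false), (0, 0, false), (0, 0, false), (0, 0, false), (0, 0, false)], [(0, 0, false), (0, 0, false), (0, 0, false), (0, 0, false), (0, 0, false), (0, 0, false), (0, 0, false), (0, 0, false), (0, 0, false), (0, 0, false), (0, 0, false), (0, 0, false), (0, 0,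 false), (0, 0, false), (0, 0, false), (0, 0, false), (0, 0, false), (0, 0, false), (0, 0, false), (0, 0, false), (0, 0, false), (0, 0, false), (0, 0, false), (0, 0, false), (0, 0, false), (0, 0, false), (0, 0, false), (0, 0, false), (0, 0, false), (0, 0, false), (0, 0, false), (0, 0, false), (0, 0, false), (0, 0, false), (0, 0, false), (0, 0, false), (0, 0, false), (0, 0, false), (0, 0, false), (0, 0, false), (0, 0, false), (0, 0, false), (0, 0, false), (0, 0, false), (0, 0, false), (0, 0, false), (0, 0, false), (0, 0, false)], [(14, 37, false), (0, 0, false), (0, 0, false), (0, 0, false), (0, 0, false), (0, 0, false), (11, 40, false), (0, 0, false), (0, 0, false), (0, 0, false), (0, 0, false), (0, 0, false), (0, 0, false), (0, 0, false), (0, 0, false), (0, 0, false), (0, 0, false), (0, 0, false), (0, 0, false), (0, 0, false), (0, 0, false), (0, 0, false), (11, 40, false), (0, 0, false), (0, 0, false), (11, 40, false), (0, 0, false), (0, 0, false), (0,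 0, false), (0, 0, false), (0, 0, false), (0, 0, false), (0, 0, false), (0, 0, false), (0, 0, false), (0, 0, false), (0, 0, false), (0, 0, false), (0, 0, false), (0, 0, false), (0, 0, false), (11, 40, false), (0, 0, false), (0, 0, false), (0, 0, false), (0, 0, false), (0, 0, false), (14, 37, false)], [(0, 0, false), (14, 38, false), (0, 0, false), (0, 0, false), (0, 0, false), (12, 40, false), (0, 0, false), (0, 0, false), (0, 0, false), (0, 0, false), (0, 0, false), (0, 0, false), (0, 0, false), (0, 0, false), (0, 0, false), (0, 0, false), (0, 0, false), (0, 0, false), (0, 0, false), (0, 0, false), (0, 0, false), (12, 40, false), (0, 0, false), (0, 0, false), (0, 0, false), (0, 0, false), (12, 40, false), (0, 0, false), (0, 0, false), (0, 0, false), (0, 0, false), (0, 0, false), (0, 0, false), (0, 0, false), (0, 0, false), (0, 0, false), (0, 0, false), (0, 0, false), (0, 0, false), (0, 0, false), (0, 0, false), (0, 0, false), (12, 40, false), (0, 0, false),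 (0, 0, false), (0, 0, false), (14, 38, false), (0, 0, false)], [(0, 0, false), (0, 0, false), (14, 39, false), (0, 0, false), (13, 40, false), (0, 0, false), (0, 0, false), (0, 0, false), (0, 0, false), (0, 0, false), (0, 0, false), (0, 0, false), (0, 0, false), (0, 0, false), (0, 0, false), (0, 0, false), (0, 0, false), (0, 0, false), (0, 0, false), (0, 0, false), (0, 0, false), (0, 0, false), (0, 0, false), (13, 40, false), (13, 40, false), (0, 0, false), (0, 0, false), (0, 0, false), (0, 0, false), (0, 0, false), (0, 0, false), (0, 0, false), (0, 0, false), (0, 0, false), (0, 0, false), (0, 0, false), (0, 0, false), (0, 0, false), (0, 0, false), (0, 0, false), (0, 0, false), (0, 0, false), (0, 0, false), (13, 40, false), (0, 0, false), (14, 39, false), (0, 0, false), (0, 0, false)], [(0, 0, false), (0, 0, false), (0, 0, false), (0, 0, false), (0, 0, false), (0, 0, false), (0, 0, false), (0, 0, false), (0, 0, false), (0, 0, false), (0, 0, false), (0,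 0, false), (0, 0, false), (0, 0, false), (0, 0, false), (0, 0, false), (0, 0, false), (0, 0, false), (0, 0, false), (0, 0, false), (0, 0, false), (0, 0, false), (0, 0, false), (0, 0, false), (0, 0, false), (0, 0, false), (0, 0, false), (0, 0, false), (0, 0, false), (0, 0, false), (0, 0, false), (0, 0, false), (0, 0, false), (0, 0, false), (0, 0, false), (0, 0, false), (0, 0, false), (0, 0, false), (0, 0, false), (0, 0, false), (0, 0, false), (0, 0, false), (0, 0, false), (0, 0, false), (0, 0, false), (0, 0, false), (0, 0, false), (0, 0, false)], [(0, 0, false), (0, 0, false), (0, 0, false), (0, 0, false), (0, 0, false), (0, 0, false), (0, 0, false), (0, 0, false), (0, 0, false), (0, 0, false), (0, 0, false), (0, 0, false), (0, 0, false), (0, 0, false), (0, 0, false), (0, 0, false), (0, 0, false), (0, 0, false), (0, 0, false), (0, 0, false), (0, 0, false), (0, 0, false), (0, 0, false), (0, 0, false), (0, 0, false), (0, 0, false), (0, 0, false), (0, 0,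 false), (0, 0, false), (0, 0, false), (0, 0, false), (0, 0, false), (0, 0, false), (0, 0, false), (0, 0, false), (0, 0, false), (0, 0, false), (0, 0, false), (0, 0, false), (0, 0, false), (0, 0, false), (0, 0, false), (0, 0, false), (0, 0, false), (0, 0, false), (0, 0, false), (0, 0, false), (0, 0, false)], [(0, 0, false), (0, 0, false), (0, 0, false), (0, 0, false), (0, 0, false), (0, 0, false), (0, 0, false), (0, 0, false), (0, 0, false), (0, 0, false), (0, 0, false), (0, 0, false), (0, 0, false), (0, 0, false), (0, 0, false), (0, 0, false), (0, 0, false), (0, 0, false), (0, 0, false), (0, 0, false), (0, 0, false), (0, 0, false), (0, 0, false), (0, 0, false), (0, 0, false), (0, 0, false), (0, 0, false), (0, 0, false), (0, 0, false), (0, 0, false), (0, 0, false), (0, 0, false), (0, 0, false), (0, 0, false), (0, 0, false), (0, 0, false), (0, 0, false), (0, 0, false), (0, 0, false), (0, 0, false), (0, 0, false), (0, 0, false), (0, 0, false), (0, 0, false),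 (0, 0, false), (0, 0, false), (0, 0, false), (0, 0, false)], [(0, 0, false), (0, 0, false), (0, 0, false), (0, 0, false), (0, 0, false), (0, 0, false), (0, 0, false), (0, 0, false), (0, 0, false), (0, 0, false), (0, 0, false), (0, 0, false), (0, 0, false), (0, 0, false), (0, 0, false), (0, 0, false), (0, 0, false), (0, 0, false), (0, 0, false), (0, 0, false), (0, 0, false), (0, 0, false), (0, 0, false), (0, 0, false), (0, 0, false), (0, 0, false), (0, 0, false), (0, 0, false), (0, 0, false), (0, 0, false), (0, 0, false), (0, 0, false), (0, 0, false), (0, 0, false), (0, 0, false), (0, 0, false), (0, 0, false), (0, 0, false), (0, 0, false), (0, 0, false), (0, 0, false), (0, 0, false), (0, 0, false), (0, 0, false), (0, 0, false), (0, 0, false), (0, 0, false), (0, 0, false)], [(0, 0, false), (0, 0, false), (0, 0, false), (0, 0, false), (0, 0, false), (0, 0, false), (0, 0, false), (0, 0, false), (0, 0, false), (0, 0, false), (0, 0, false), (0, 0, false), (0,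 0, false), (0, 0, false), (0, 0, false), (0, 0, false), (0, 0, false), (0, 0, false), (0, 0, false), (0, 0, false), (0, 0, false), (0, 0, false), (0, 0, false), (0, 0, false), (0, 0, false), (0, 0, false), (0, 0, false), (0, 0, false), (0, 0, false), (0, 0, false), (0, 0, false), (0, 0, false), (0, 0, false), (0, 0, false), (0, 0, false), (0, 0, false), (0, 0, false), (0, 0, false), (0, 0, false), (0, 0, false), (0, 0, false), (0, 0, false), (0, 0, false), (0, 0, false), (0, 0, false), (0, 0, false), (0, 0, false), (0, 0, false)], [(0, 0, false), (0, 0, false), (0, 0, false), (0, 0, false), (0, 0, false), (0, 0, false), (0, 0, false), (0, 0, false), (0, 0, false), (0, 0, false), (0, 0, false), (0, 0, false), (0, 0, false), (0, 0, false), (0, 0, false), (0, 0, false), (0, 0, false), (0, 0, false), (0, 0, false), (0, 0, false), (0, 0, false), (0, 0, false), (0, 0, false), (0, 0, false), (0, 0, false), (0, 0, false), (0, 0, false), (0, 0, false), (0, 0,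 false), (0, 0, false), (0, 0, false), (0, 0, false), (0, 0, false), (0, 0, false), (0, 0, false), (0, 0, false), (0, 0, false), (0, 0, false), (0, 0, false), (0, 0, false), (0, 0, false), (0, 0, false), (0, 0, false), (0, 0, false), (0, 0, false), (0, 0, false), (0, 0, false), (0, 0, false)], [(0, 0, false), (0, 0, false), (0, 0, false), (0, 0, false), (0, 0, false), (0, 0, false), (0, 0, false), (0, 0, false), (0, 0, false), (0, 0, false), (0, 0, false), (0, 0, false), (0, 0, false), (0, 0, false), (0, 0, false), (0, 0, false), (0, 0, false), (0, 0, false), (0, 0, false), (0, 0, false), (0, 0, false), (0, 0, false), (0, 0, false), (0, 0, false), (0, 0, false), (0, 0, false), (0, 0, false), (0, 0, false), (0, 0, false), (0, 0, false), (0, 0, false), (0, 0, false), (0, 0, false), (0, 0, false), (0, 0, false), (0, 0, false), (0, 0, false), (0, 0, false), (0, 0, false), (0, 0, false), (0, 0, false), (0, 0, false), (0, 0, false), (0, 0, false), (0, 0, false),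 (0, 0, false), (0, 0, false), (0, 0, false)], [(0, 0, false), (0, 0, false), (0, 0, false), (0, 0, false), (0, 0, false), (0, 0, false), (0, 0, false), (0, 0, false), (0, 0, false), (0, 0, false), (0, 0, false), (0, 0, false), (0, 0, false), (0, 0, false), (0, 0, false), (0, 0, false), (0, 0, false), (0, 0, false), (0, 0, false), (0, 0, false), (0, 0, false), (0, 0, false), (0, 0, false), (0, 0, false), (0, 0, false), (0, 0, false), (0, 0, false), (0, 0, false), (0, 0, false), (0, 0, false), (0, 0, false), (0, 0, false), (0, 0, false), (0, 0, false), (0, 0, false), (0, 0, false), (0, 0, false), (0, 0, false), (0, 0, false), (0, 0, false), (0, 0, false), (0, 0, false), (0, 0, false), (0, 0, false), (0, 0, false), (0, 0, false), (0, 0, false), (0, 0, false)], [(33, 37, false), (0, 0, false), (0, 0, false), (0, 0, false), (0, 0, false), (0, 0, false), (0, 0, false), (0, 0, false), (0, 0, false), (0, 0, false), (0, 0, false), (0, 0, false), (0, 0, false),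 (0, 0, false), (0, 0, false), (0, 0, false), (0, 0, false), (18, 44, false), (0, 0, false), (0, 0, false), (0, 0, false), (0, 0, false), (18, 44, false), (0, 0, false), (0, 0, false), (18, 44, false), (0, 0, false), (0, 0, false), (0, 0, false), (0, 0, false), (18, 44, false), (0, 0, false), (0, 0, false), (0, 0, false), (0, 0, false), (0, 0, false), (0, 0, false), (0, 0, false), (0, 0, false), (0, 0, false), (0, 0, false), (0, 0, false), (0, 0, false), (0, 0, false), (0, 0, false), (0, 0, false), (0, 0, false), (33, 37, false)], [(0, 0, false), (33, 38, false), (0, 0, false), (0, 0, false), (0, 0, false), (0, 0, false), (0, 0, false), (0, 0, false), (0, 0, false), (0, 0, false), (0, 0, false), (0, 0, false), (0, 0, false), (0, 0, false), (0, 0, false), (0, 0, false), (19, 44, false), (0, 0, false), (0, 0, false), (0, 0, false), (0, 0, false), (19, 44, false), (0, 0, false), (0, 0, false), (0, 0, false), (0, 0, false), (19, 44, false), (0, 0, false),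 (0, 0, false), (0, 0, false), (0, 0, false), (19, 44, false), (0, 0, false), (0, 0, false), (0, 0, false), (0, 0, false), (0, 0, false), (0, 0, false), (0, 0, false), (0, 0, false), (0, 0, false), (0, 0, false), (0, 0, false), (0, 0, false), (0, 0, false), (0, 0, false), (33, 38, false), (0, 0, false)], [(0, 0, false), (0, 0, false), (33, 39, false), (0, 0, false), (0, 0, false), (0, 0, false), (0, 0, false), (0, 0, false), (0, 0, false), (0, 0, false), (0, 0, false), (0, 0, false), (0, 0, false), (0, 0, false), (0, 0, false), (20, 44, false), (0, 0, false), (0, 0, false), (0, 0, false), (0, 0, false), (0, 0, false), (0, 0, false), (0, 0, false), (20, 44, false), (20, 44, false), (0, 0, false), (0, 0, false), (0, 0, false), (0, 0, false), (0, 0, false), (0, 0, false), (0, 0, false), (20, 44, false), (0, 0, false), (0, 0, false), (0, 0, false), (0, 0, false), (0, 0, false), (0, 0, false), (0, 0, false), (0, 0, false), (0, 0, false), (0, 0, false), (0,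 0, false), (0, 0, false), (33, 39, false), (0, 0, false), (0, 0, false)], [(0, 0, false), (0, 0, false), (0, 0, false), (0, 0, false), (0, 0, false), (0, 0, false), (0, 0, false), (0, 0, false), (0, 0, false), (0, 0, false), (0, 0, false), (0, 0, false), (0, 0, false), (0, 0, false), (0, 0, false), (0, 0, false), (0, 0, false), (0, 0, false), (0, 0, false), (0, 0, false), (0, 0, false), (0, 0, false), (0, 0, false), (0, 0, false), (0, 0, false), (0, 0, false), (0, 0, false), (0, 0, false), (0, 0, false), (0, 0, false), (0, 0, false), (0, 0, false), (0, 0, false), (0, 0, false), (0, 0, false), (0, 0, false), (0, 0, false), (0, 0, false), (0, 0, false), (0, 0, false), (0, 0, false), (0, 0, false), (0, 0, false), (0, 0, false), (0, 0, false), (0, 0, false), (0, 0, false), (0, 0, false)], [(0, 0, false), (0, 0, false), (0, 0, false), (0, 0, false), (34, 40, false), (0, 0, false), (0, 0, false), (0, 0, false), (0, 0, false), (0, 0, false), (0, 0, false), (0,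 0, false), (0, 0, false), (0, 0, false), (0, 0, false), (27, 44, false), (0, 0, false), (0, 0, false), (0, 0, false), (0, 0, false), (0, 0, false), (0, 0, false), (0, 0, false), (27, 44, false), (27, 44, false), (0, 0, false), (0, 0, false), (0, 0, false), (0, 0, false), (0, 0, false), (0, 0, false), (0, 0, false), (27, 44, false), (0, 0, false), (0, 0, false), (0, 0, false), (0, 0, false), (0, 0, false), (0, 0, false), (0, 0, false), (0, 0, false), (0, 0, false), (0, 0, false), (34, 40, false), (0, 0, false), (0, 0, false), (0, 0, false), (0, 0, false)], [(0, 0, false), (0, 0, false), (0, 0, false), (0, 0, false), (0, 0, false), (35, 40, false), (0, 0, false), (0, 0, false), (0, 0, false), (0, 0, false), (0, 0, false), (0, 0, false), (0, 0, false), (0, 0, false), (0, 0, false), (0, 0, false), (28, 44, false), (0, 0, false), (0, 0, false), (0, 0, false), (0, 0, false), (28, 44, false), (0, 0, false), (0, 0, false), (0, 0, false), (0, 0, false), (28, 44,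 false), (0, 0, false), (0, 0, false), (0, 0, false), (0, 0, false), (28, 44, false), (0, 0, false), (0, 0, false), (0, 0, false), (0, 0, false), (0, 0, false), (0, 0, false), (0, 0, false), (0, 0, false), (0, 0, false), (0, 0, false), (35, 40, false), (0, 0, false), (0, 0, false), (0, 0, false), (0, 0, false), (0, 0, false)], [(0, 0, false), (0, 0, false), (0, 0, false), (0, 0, false), (0, 0, false), (0, 0, false), (36, 40, false), (0, 0, false), (0, 0, false), (0, 0, false), (0, 0, false), (0, 0, false), (0, 0, false), (0, 0, false), (0, 0, false), (0, 0, false), (0, 0, false), (29, 44, false), (0, 0, false), (0, 0, false), (0, 0, false), (0, 0, false), (29, 44, false), (0, 0, false), (0, 0, false), (29, 44, false), (0, 0, false), (0, 0, false), (0, 0, false), (0, 0, false), (29, 44, false), (0, 0, false), (0, 0, false), (0, 0, false), (0, 0, false), (0, 0, false), (0, 0, false), (0, 0, false), (0, 0, false), (0, 0, false), (0, 0, false), (36, 40, false),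 (0, 0, false), (0, 0, false), (0, 0, false), (0, 0, false), (0, 0, false), (0, 0, false)]]
  de := [(1, 23), (0, 24), (0, 26), (7, 14), (0, 31), (0, 32), (1, 32), (3, 33), (3, 34), (3, 35), (3, 36), (3, 37), (3, 38), (3, 39), (3, 40), (0, 42), (0, 43), (1, 43), (7, 37), (7, 38), (7, 39), (0, 45), (1, 45), (0, 46), (1, 47), (2, 46), (2, 47), (8, 40), (9, 40), (10, 40), (4, 46), (4, 47), (5, 47), (7, 44), (8, 44), (9, 44), (10, 44), (11, 44), (12, 44), (13, 44), (14, 44), (15, 46), (15, 47), (16, 47), (33, 40), (21, 47), (23, 47), (24, 46)]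

set_option maxRecDepth 1000000 in
set_option maxHeartbeats 0 in
theorem fdF4_ChkPair_q3 : ∀ r < fdF4.n, ∀ s < fdF4.n, s ≠ r → s ≠ fdF4.n - 1 - r →
    fdF4.ChkPair fxF4 ztF4q3 zdF4q3 2 true r s := by
  decide +kernel

set_option maxRecDepth 1000000 in
theorem fdF4_gs_q3 : ∀ r < fdF4.n, ztF4q3.gs.getD r 0 < fdF4.n ∧ fdF4.pr r (ztF4q3.gs.getD r 0) % 2 ≠ 0 := by
  decide +kernel

set_option maxRecDepth 1000000 in
theorem fdF4_de_q3 : ∀ r < fdF4.n,
    fdF4.ChkDecP false r r (zdF4q3.de.getD r (0, 0)).1 (zdF4q3.de.getD r (0, 0)).2 := by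
  decide +kernel

set_option maxRecDepth 1000000 in
theorem fdF4_gam_q4 : ∀ r < fdF4.n, ∀ s < fdF4.n, fdF4.pr r (ztF4.gamOf r s) % 3 ≠ 0 ∨ s = r ∨ s = fdF4.n - 1 - r := by
  decide +kernel

set_option maxRecDepth 1000000 in
theorem fdF4_gs_q4 : ∀ r < fdF4.n, ztF4.gs.getD r 0 < fdF4.n ∧ fdF4.pr r (ztF4.gs.getD r 0) % 3 ≠ 0 := by
  decide +kernel

end Cfsg.Agent.Lib.H29.Chev
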