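import Mathlib
import Cfsg.Agent.Lib.H29.ChevTL4
import Cfsg.Agent.Lib.H29.ChevDataG2
import Cfsg.Agent.Lib.H29.ChevDataXG2

/-! Auxiliary roots and Weyl words for the lifting of Steinberg's relations by the torus, type G2 (generated) -/

set_option autoImplicit false

namespace Cfsg.Agent.Lib.H29.Chev

def ztG2 : ZT where
  gam := [[0, 3, 5, 1, 0, 2, 2, 0, 1, 5, 3, 0], [4, 0, 5, 1, 0, 2, 2, 0, 1, 5, 0, 4], [4, 3, 0, 1, 0, 2, 2, 0, 1, 0, 3, 4], [4, 3, 5, 0, 0, 2, 2, 0, 0, 5, 3, 4], [4, 3, 5, 1, 0, 2, 2, 0, 1, 5, 3, 4], [4, 3, 5, 1, 0, 0, 0, 0, 1, 5, 3, 4], [4, 3, 5, 1, 0, 0, 0, 0, 1, 5, 3, 4], [4, 3, 5, 1, 0, 2, 2, 0, 1, 5, 3, 4], [4, 3, 5, 0, 0, 2, 2, 0, 0, 5, 3, 4], [4, 3, 0, 1, 0, 2, 2, 0, 1, 0, 3, 4], [4, 0, 5, 1, 0, 2, 2, 0, 1, 5, 0, 4], [0, 3, 5, 1, 0, 2, 2, 0, 1, 5, 3, 0]]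
  wd := [[[], [], [], [], [], [], [1, 0], [], [0, 1, 0], [0, 1], [1], []], [[], [], [], [], [], [1, 0, 1], [], [0, 1, 0, 1], [], [0], [], []], [[], [], [], [1, 0, 1], [1, 0], [], [], [1, 0, 1], [1, 0], [], [1, 0, 1], [1, 0]], [[], [], [1, 0, 1], [], [1, 0, 1, 0], [], [1, 0, 1, 0], [1], [], [1], [], [1]], [[], [], [1, 0], [1, 0, 1, 0], [], [0, 1, 0, 1, 0], [], [], [], [], [], []], [[], [1, 0, 1], [], [], [0, 1, 0, 1, 0], [], [], [], [], [], [], []], [[1, 0], [], [], [1, 0, 1, 0], [], [], [], [], [], [], [], []], [[], [0, 1, 0, 1], [1, 0, 1], [1], [], [], [], [], [], [], [], []], [[0, 1, 0], [], [1, 0], [], [], [], [], [], [], [], [], []], [[0, 1], [0], [], [1], [], [], [], [], [], [], [], []], [[1], [], [1, 0, 1], [], [], [], [], [], [], [], [], []], [[], [], [1, 0], [1], [], [], [], [], [], [], [], []]]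
  gs := [1, 0, 0, 0, 1, 0, 0, 1, 0, 0, 0, 1]

set_option maxRecDepth 1000000 in
set_option maxHeartbeats 0 in
theorem fdG2_ChkZS : ∀ r < fdG2.n, ∀ s < fdG2.n, s ≠ r → s ≠ fdG2.n - 1 - r → fdG2.ChkZS fxG2 ztG2 r s := by
  decide +kernel

set_option maxRecDepth 1000000 in
theorem fdG2_ChkGS : ∀ r < fdG2.n, fdG2.ChkGS ztG2 r := by decide +kernel

end Cfsg.Agent.Lib.H29.Chev
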