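import Mathlib
import Cfsg.Prelude.Def_LieTwisted
import Cfsg.Prelude.Def_LieExceptional
import Cfsg.Agent.Lib.H29.ChevCox2
import Cfsg.Agent.Lib.H29.ChevTwBN

/-!
# The Weyl groups of the twisted groups of types `D₄` and `E₆`
-/

set_option autoImplicit false
set_option linter.unusedSectionVars false
set_option linter.unusedSimpArgs false
set_option linter.unusedVariables false

namespace Cfsg.Agent.Lib.H29.Chev

open Cfsg.Lie Matrix

set_option maxRecDepth 1000000 in
set_option maxHeartbeats 0 in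
theorem twD4a_cox : fdD4.chkCoxS fxD4 gaD4a 3 [0, 1] [[1, 6], [6, 1]] = true := by decide +kernel

set_option maxRecDepth 1000000 in
set_option maxHeartbeats 0 in
theorem twE6a_cox : fdE6.chkCoxS fxE6 gaE6a 2 [1, 3, 2, 0] [[1, 3, 2, 2], [3, 1, 4, 2], [2, 4, 1, 3], [2, 2, 3, 1]] = true := by
  decide +kernel

theorem weyl_twistedD4 {K : Type*} [Field K] [Fintype K] {q : ℕ} (hq : IsPrimePow q)
    (hK : Fintype.card K = q ^ 3) :
    ∃ φ : ↥(chevD4.monomialSubgroup K ⊓ twistedD4 K q) →* (CoxeterMatrix.G₂).Group, Function.Surjective φ ∧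
      φ.ker = (chevD4.diagonalSubgroup K ⊓ twistedD4 K q).subgroupOf (chevD4.monomialSubgroup K ⊓ twistedD4 K q) := by
  obtain ⟨φ, hφ, _, hφk⟩ := exists_frob hq hK
  have e : twistedD4 K q = Subgroup.closure (cert12_D4.twGen gaD4a 3 φ srD4a) := by
    unfold twistedD4 ChevalleyDatum.genSubgroup
    rw [twGen_D4 q φ hφ]
  rw [e]
  exact cert12_D4.tw_weyl_coxeter twD4a_spec twD4a_spec2 φ (Or.inr rfl) hφk twD4a_chain twD4a_ChkQ (by decide)
    twD4a_scover twD4a_O twD4a_injS [0, 1] (by decide) (fun i => Iff.rfl) rfl CoxeterMatrix.G₂ _ twD4a_cox (by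
      show ∀ ii jj : Fin 2, _
      intro ii jj
      fin_cases ii <;> fin_cases jj <;> rfl)

theorem weyl_twistedE6 {K : Type*} [Field K] [Fintype K] {q : ℕ} (hq : IsPrimePow q)
    (hK : Fintype.card K = q ^ 2) :
    ∃ φ : ↥(chevE6.monomialSubgroup K ⊓ twistedE6 K q) →* (CoxeterMatrix.F₄).Group, Function.Surjective φ ∧
      φ.ker = (chevE6.diagonalSubgroup K ⊓ twistedE6 K q).subgroupOf (chevE6.monomialSubgroup K ⊓ twistedE6 K q) := by
  obtain ⟨φ, hφ, _, hφk⟩ := exists_frob hq hK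
  have e : twistedE6 K q = Subgroup.closure (cert12_E6.twGen gaE6a 2 φ srE6a) := by
    unfold twistedE6 ChevalleyDatum.genSubgroup
    rw [twGen_E6 q φ hφ]
  rw [e]
  exact cert12_E6.tw_weyl_coxeter twE6a_spec twE6a_spec2 φ (Or.inl rfl) hφk twE6a_chain twE6a_ChkQ (by decide)
    twE6a_scover twE6a_O twE6a_injS [1, 3, 2, 0] (by decide) (fun i => by
      simp only [srE6a, List.mem_cons, List.not_mem_nil, or_false]
      omega) rfl CoxeterMatrix.F₄ _ twE6a_cox (by
      show ∀ ii jj : Fin 4, _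
      intro ii jj
      fin_cases ii <;> fin_cases jj <;> rfl)

end Cfsg.Agent.Lib.H29.Chev
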