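import Mathlib

set_option autoImplicit false

namespace Cfsg.Agent.Lib.H29

/-- Transport a lattice complement along an order automorphism of the subgroup lattice. -/
theorem exists_compl_of_orderIso {G : Type*} [Group G] (e : Subgroup G ≃o Subgroup G) (H : Subgroup G)
    (h : ∃ C' : Subgroup G, e H ⊔ C' = ⊤ ∧ e H ⊓ C' = ⊥) :
    ∃ C : Subgroup G, H ⊔ C = ⊤ ∧ H ⊓ C = ⊥ := by
  obtain ⟨C', h1, h2⟩ := h
  refine ⟨e.symm C', ?_, ?_⟩
  · apply e.injective
    rw [e.map_sup, e.apply_symm_apply, h1, e.map_top]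
  · apply e.injective
    rw [e.map_inf, e.apply_symm_apply, h2, e.map_bot]

/-- If a quotient `Q` of the subgroup `X` has a complemented subgroup lattice, then the interval of
subgroups of `G` between the kernel and `X` is (relatively) complemented. -/
theorem interval_compl {G Q : Type*} [Group G] [Group Q] (X : Subgroup G) (π : X →* Q)
    (hπ : Function.Surjective π) (hQ : ComplementedLattice (Subgroup Q)) (Y : Subgroup G)
    (hNY : π.ker.map X.subtype ≤ Y) (hYX : Y ≤ X) :
    ∃ C : Subgroup G, π.ker.map X.subtype ≤ C ∧ C ≤ X ∧ Y ⊔ C = X ∧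
      Y ⊓ C = π.ker.map X.subtype := by
  have hker : π.ker ≤ Y.subgroupOf X := by
    rw [Subgroup.subgroupOf]
    exact Subgroup.map_le_iff_le_comap.mp hNY
  obtain ⟨Cbar, hC⟩ := hQ.exists_isCompl ((Y.subgroupOf X).map π)
  have hYmap : (Y.subgroupOf X).map X.subtype = Y := Subgroup.map_subgroupOf_eq_of_le hYX
  have hcm : ((Y.subgroupOf X).map π).comap π = Y.subgroupOf X :=
    Subgroup.comap_map_eq_self hker
  refine ⟨(Cbar.comap π).map X.subtype, Subgroup.map_mono (MonoidHom.ker_le_comap π Cbar),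
    Subgroup.map_subtype_le _, ?_, ?_⟩
  · conv_lhs => rw [← hYmap]
    rw [← Subgroup.map_sup, ← hcm, Subgroup.comap_sup_eq π _ _ hπ, hC.sup_eq_top,
      Subgroup.comap_top, ← MonoidHom.range_eq_map, Subgroup.range_subtype]
  · conv_lhs => rw [← hYmap]
    rw [← Subgroup.map_inf _ _ _ X.subtype_injective, ← hcm, ← Subgroup.comap_inf,
      hC.inf_eq_bot, MonoidHom.comap_bot]

end Cfsg.Agent.Lib.H29
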