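import Mathlib
import Cfsg.Prelude.Def_ChevStructure
import Cfsg.Prelude.Def_LieTwisted
import Cfsg.Agent.Lib.H29.D4Inv9

/-!
# The group of type `D₄` in characteristic two: a long root element is not conjugate to a product of three
commuting root elements of fundamental roots
-/

set_option autoImplicit false
set_option linter.unusedSectionVars false
set_option linter.unusedSimpArgs false
set_option linter.unusedVariables false

namespace Cfsg.Agent.Lib.H29.Chev

open Cfsg.Lie Matrix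

section D4

variable {K : Type*} [Field K]

local notation "xd" => cert12_D4.c6.c2.xA

theorem d4_ht1 : fdD4.ht fxD4 18 = 1 ∧ fdD4.ht fxD4 13 = 1 := by decide +kernel

/-- the elements of `U` are of level `1` -/
theorem d4_pos_mem_GF (u : GL chevD4.Idx K) (hu : u ∈ chevD4.posUnipotent K) :
    ((u : GL chevD4.Idx K) : Matrix chevD4.Idx chevD4.Idx K) ∈ GF chevD4 K (fdD4.wtA fxD4 chevD4 hwt) 1 := by
  rw [cert12_D4.posUnipotent_eq] at hu
  exact (cert12_D4.Vm_mem_GF twD4a_spec (fun _ => True) cert12_D4.closed_true 1 one_pos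
    (fun s h1 h2 _ => by have := twD4a_spec.htpos s h2 h1; omega) u hu).1

/-- the coordinates at the fundamental roots are invariant under conjugation by `U` -/
theorem d4_coord_conj (r : ℕ) (hr : r < 24) (hrm : fdD4.ht fxD4 r = 1) (u y : GL chevD4.Idx K)
    (hu : u ∈ chevD4.posUnipotent K) (hy : y ∈ chevD4.posUnipotent K) :
    coordM chevD4 fdD4 fzD4 K r ((u⁻¹ * y * u : GL chevD4.Idx K) : Matrix chevD4.Idx chevD4.Idx K) =
      coordM chevD4 fdD4 fzD4 K r (y : Matrix chevD4.Idx chevD4.Idx K) := by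
  have h1 := d4_pos_mem_GF u hu
  have h2 := d4_pos_mem_GF y hy
  have h3 := d4_pos_mem_GF u⁻¹ (inv_mem hu)
  have h4 := GF_mul _ 1 one_pos _ _ h3 h2
  have e0 : coordM chevD4 fdD4 fzD4 K r (((u⁻¹ * u : GL chevD4.Idx K)) : Matrix chevD4.Idx chevD4.Idx K) = 0 := by
    rw [inv_mul_cancel, Units.val_one]
    exact coordM_one r (by rw [cert12_D4.c6.c2.nroots_eq]; exact hr)
  rw [Units.val_mul, cert12_D4.coordM_mul 1 one_pos r hr hrm _ _ h3 h1] at e0
  rw [Units.val_mul, Units.val_mul, cert12_D4.coordM_mul 1 one_pos r hr hrm _ _ h4 h1,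
    cert12_D4.coordM_mul 1 one_pos r hr hrm _ _ h3 h2]
  linear_combination e0

set_option maxRecDepth 100000 in
theorem d4_commT_23 : ∀ r < 23, 12 ≤ r → fdD4.commT r 23 = [] := by decide +kernel

/-- the long root element of the highest root is central in `U` -/
theorem d4_central (t : K) (v : GL chevD4.Idx K) (hv : v ∈ chevD4.posUnipotent K) :
    v * xd 23 t * v⁻¹ = xd 23 t := by
  have h1 : chevD4.posUnipotent K ≤ Subgroup.centralizer {xd 23 t} := by
    unfold ChevalleyDatum.posUnipotent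
    rw [Subgroup.closure_le]
    rintro g ⟨s, t', hs, hg⟩
    obtain ⟨hs1, hs2⟩ := (cert12_D4.c6.isPos_iff s).mp hs
    have hgx : g = xd s t' := gl_ext (by rw [hg, cert12_D4.c6.c2.xA_val])
    rw [SetLike.mem_coe, Subgroup.mem_centralizer_iff]
    intro y hy
    rw [Set.mem_singleton_iff] at hy
    subst hy
    rw [hgx]
    have hn : fdD4.n = 24 := rfl
    rw [hn] at hs1 hs2
    by_cases h23 : s = 23
    · subst h23
      rw [cert12_D4.c6.c2.xA_mul, cert12_D4.c6.c2.xA_mul, add_comm]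
    · exact d4_comm_nil s 23 hs1 (by norm_num) (by omega) (by norm_num) h23
        (d4_commT_23 s (by omega) (by omega)) t' t
  have h2 := Subgroup.mem_centralizer_iff.mp (h1 hv) _ (Set.mem_singleton _)
  rw [← h2]
  group

variable [CharP K 2]

/-- a long root element is not conjugate to a product of three commuting root elements of fundamental roots -/
theorem d4_not_conj (φ : K →+* K) : ¬ ConjS (chevD4.group K) (xd 23 (1 : K)) (d4A φ 1) := by
  rintro ⟨x, hxG, hx⟩
  have hn : fdD4.n = 24 := rfl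
  obtain ⟨b, hb, n, hn', u, hu, rfl⟩ := cert12_D4.c6.canonical_form.1 x hxG
  obtain ⟨u₀, hu₀, h, hh, rfl⟩ := cert12_D4.c6.c2.borel_mem b hb
  have huU := _root_.Cfsg.Agent.Lib.H29.Chev.Uw_le_pos n hu
  have hHN : chevD4.diagonalSubgroup K ≤ chevD4.monomialSubgroup K := le_sup_left
  have hm : h * n ∈ chevD4.monomialSubgroup K := mul_mem (hHN hh) hn'
  obtain ⟨⟨π, hπ⟩, _⟩ := cert12_D4.c6.perm_of_mem (h * n) hm
  obtain ⟨hs, _, c, hc⟩ := hπ 23 (by rw [hn]; norm_num)
  rw [hn] at hs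
  have hA : d4A φ (1 : K) ∈ chevD4.posUnipotent K := by
    rw [d4E_A]
    exact d4E_mem_pos φ _ _ _ _ _ _
  have key : xd (π 23) (c * 1) = u₀⁻¹ * d4A φ 1 * u₀ := by
    rw [← hx, ← hc 1]
    have e : u₀ * h * n * u * xd 23 1 * (u₀ * h * n * u)⁻¹ =
        u₀ * (h * n * (u * xd 23 1 * u⁻¹) * (h * n)⁻¹) * u₀⁻¹ := by group
    rw [e, d4_central 1 u huU]
    group
  have k18 := congrArg (fun g : GL chevD4.Idx K => coordM chevD4 fdD4 fzD4 K 18
    (g : Matrix chevD4.Idx chevD4.Idx K)) key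
  have k13 := congrArg (fun g : GL chevD4.Idx K => coordM chevD4 fdD4 fzD4 K 13
    (g : Matrix chevD4.Idx chevD4.Idx K)) key
  beta_reduce at k18 k13
  rw [cert12_D4.coordM_xA _ _ (by rw [hn]; exact hs) (by rw [hn]; norm_num),
    d4_coord_conj 18 (by norm_num) d4_ht1.1 u₀ _ hu₀ hA] at k18
  rw [cert12_D4.coordM_xA _ _ (by rw [hn]; exact hs) (by rw [hn]; norm_num),
    d4_coord_conj 13 (by norm_num) d4_ht1.2 u₀ _ hu₀ hA] at k13
  -- the coordinates of `x_a(1)`
  have g18 := cert12_D4.xA_mem_GF (F := K) 18 (by rw [hn]; norm_num) 1 one_pos (by rw [d4_ht1.1])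
  have g13 := cert12_D4.xA_mem_GF (F := K) 13 (by rw [hn]; norm_num) 1 one_pos (by rw [d4_ht1.2])
  have g12 := cert12_D4.xA_mem_GF (F := K) 12 (by rw [hn]; norm_num) 1 one_pos (by
    have : fdD4.ht fxD4 12 = 1 := by decide +kernel
    rw [this])
  have c18 : coordM chevD4 fdD4 fzD4 K 18 ((d4A φ (1 : K) : GL chevD4.Idx K) : Matrix chevD4.Idx chevD4.Idx K) = 1 := by
    unfold d4A
    rw [Units.val_mul, Units.val_mul,
      cert12_D4.coordM_mul 1 one_pos 18 (by rw [hn]; norm_num) d4_ht1.1 _ _ (g18 _) (GF_mul _ 1 one_pos _ _ (g13 _) (g12 _)),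
      cert12_D4.coordM_mul 1 one_pos 18 (by rw [hn]; norm_num) d4_ht1.1 _ _ (g13 _) (g12 _),
      cert12_D4.coordM_xA _ _ (by rw [hn]; norm_num) (by rw [hn]; norm_num),
      cert12_D4.coordM_xA _ _ (by rw [hn]; norm_num) (by rw [hn]; norm_num),
      cert12_D4.coordM_xA _ _ (by rw [hn]; norm_num) (by rw [hn]; norm_num)]
    norm_num
  have c13 : coordM chevD4 fdD4 fzD4 K 13 ((d4A φ (1 : K) : GL chevD4.Idx K) : Matrix chevD4.Idx chevD4.Idx K) = 1 := by
    unfold d4A
    rw [Units.val_mul, Units.val_mul,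
      cert12_D4.coordM_mul 1 one_pos 13 (by rw [hn]; norm_num) d4_ht1.2 _ _ (g18 _) (GF_mul _ 1 one_pos _ _ (g13 _) (g12 _)),
      cert12_D4.coordM_mul 1 one_pos 13 (by rw [hn]; norm_num) d4_ht1.2 _ _ (g13 _) (g12 _),
      cert12_D4.coordM_xA _ _ (by rw [hn]; norm_num) (by rw [hn]; norm_num),
      cert12_D4.coordM_xA _ _ (by rw [hn]; norm_num) (by rw [hn]; norm_num),
      cert12_D4.coordM_xA _ _ (by rw [hn]; norm_num) (by rw [hn]; norm_num)]
    norm_num
  rw [c18] at k18
  rw [c13] at k13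
  by_cases e18 : π 23 = 18
  · rw [if_neg (by omega)] at k13
    exact zero_ne_one k13
  · rw [if_neg e18] at k18
    exact zero_ne_one k18

end D4

end Cfsg.Agent.Lib.H29.Chev
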