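import Mathlib
import Cfsg.Prelude.Def_ChevStructure
import Cfsg.Prelude.Def_LieTwisted
import Cfsg.Agent.Lib.H29.D4Inv10

/-!
# The twisted group of type `D₄` in characteristic two has two classes of involutions
-/

set_option autoImplicit false
set_option linter.unusedSectionVars false
set_option linter.unusedSimpArgs false
set_option linter.unusedVariables false

namespace Cfsg.Agent.Lib.H29.Chev

open Cfsg.Lie Matrix

section D4

local notation "xd" => cert12_D4.c6.c2.xA

/-- a number whose cube is a power of two is a power of two -/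
theorem isPrimePow_of_cube {q n : ℕ} (hn : q ^ 3 = 2 ^ n) (h2 : 2 ≤ q) : IsPrimePow q := by
  have h1 : q ∣ 2 ^ n := by
    rw [← hn]
    exact dvd_pow_self q (by norm_num)
  obtain ⟨m, _, rfl⟩ := (Nat.dvd_prime_pow Nat.prime_two).mp h1
  have hm : m ≠ 0 := by
    rintro rfl
    norm_num at h2
  exact ⟨2, m, Nat.prime_two.prime, Nat.pos_of_ne_zero hm, rfl⟩

theorem d4_two_classes {K : Type*} [Field K] [Fintype K] [CharP K 2] (q : ℕ) (hK : Fintype.card K = q ^ 3) :
    (ConjClasses.mk '' {g : ↥(twistedD4 K q) | orderOf g = 2}).ncard = 2 := by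
  have hp : Fact (Nat.Prime 2) := ⟨Nat.prime_two⟩
  have hq : IsPrimePow q := by
    obtain ⟨n, _, hn⟩ := FiniteField.card K 2
    apply isPrimePow_of_cube (n := n) (by rw [← hK, hn])
    by_contra h
    have h1 : q ≤ 1 := by omega
    have h2 : q ^ 3 ≤ 1 := by
      calc q ^ 3 ≤ 1 ^ 3 := Nat.pow_le_pow_left h1 3
        _ = 1 := by norm_num
    have := Fintype.one_lt_card (α := K)
    omega
  obtain ⟨φ, hφ, _, hφk⟩ := exists_frob hq hK
  have hq1 : 1 ≤ q := hq.one_lt.le
  have hKc : Nat.card K = q ^ 3 := by rw [Nat.card_eq_fintype_card, hK]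
  have h3 : ∀ x : K, φ (φ (φ x)) = x := fun x => hφk x
  have e : twistedD4 K q = Subgroup.closure (cert12_D4.twGen gaD4a 3 φ srD4a) := by
    unfold twistedD4 ChevalleyDatum.genSubgroup
    rw [twGen_D4 q φ hφ]
  have W := twPack_D4 q hq1 hKc φ hφ hφk
  have mL : xd 23 (1 : K) ∈ twistedD4 K q := by
    rw [e]
    exact d4F_mem φ W 1 (map_one φ)
  have mS : d4A φ (1 : K) ∈ twistedD4 K q := by
    rw [e]
    exact d4A_mem φ W 1
  have hGle : twistedD4 K q ≤ chevD4.group K := by
    rw [e]
    exact cert12_D4.G1_le_group W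
  -- the two elements are of order `2`
  have oL : orderOf (⟨xd 23 (1 : K), mL⟩ : ↥(twistedD4 K q)) = 2 := by
    apply orderOf_eq_prime
    · apply Subtype.ext
      rw [sq]
      exact xd_sq 23 1
    · intro h
      have h' := congrArg Subtype.val h
      exact one_ne_zero (cert12_D4.c6.xA_eq_one 23 (by decide) (1 : K) h')
  have oS : orderOf (⟨d4A φ (1 : K), mS⟩ : ↥(twistedD4 K q)) = 2 := by
    apply orderOf_eq_prime
    · apply Subtype.ext
      rw [sq]
      exact d4A_sq φ h3 1
    · intro h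
      have h' : d4A φ (1 : K) = 1 := congrArg Subtype.val h
      rw [d4E_A, ← d4E_zero φ] at h'
      exact one_ne_zero (d4E_inj φ W _ _ _ _ _ _ _ _ _ _ _ _ h').2.1
  -- they are not conjugate
  have hne : ConjClasses.mk (⟨xd 23 (1 : K), mL⟩ : ↥(twistedD4 K q)) ≠
      ConjClasses.mk (⟨d4A φ (1 : K), mS⟩ : ↥(twistedD4 K q)) := by
    intro h
    rw [ConjClasses.mk_eq_mk_iff_isConj, isConj_iff] at h
    obtain ⟨c, hc⟩ := h
    apply d4_not_conj (K := K) φ
    refine ⟨c.1, hGle c.2, ?_⟩
    have := congrArg Subtype.val hc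
    simpa using this
  have key : ConjClasses.mk '' {g : ↥(twistedD4 K q) | orderOf g = 2} =
      {ConjClasses.mk (⟨xd 23 (1 : K), mL⟩ : ↥(twistedD4 K q)),
        ConjClasses.mk (⟨d4A φ (1 : K), mS⟩ : ↥(twistedD4 K q))} := by
    apply Set.eq_of_subset_of_subset
    · rintro _ ⟨g, hg, rfl⟩
      have hg2 : g.1 * g.1 = 1 := by
        have : g ^ 2 = 1 := by
          rw [← (show orderOf g = 2 from hg)]
          exact pow_orderOf_eq_one g
        have h' := congrArg Subtype.val this
        rw [sq] at h'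
        exact h'
      have hg1 : g.1 ≠ 1 := by
        intro h
        have : g = 1 := Subtype.ext h
        have hg' : orderOf g = 2 := hg
        rw [this, orderOf_one] at hg'
        norm_num at hg'
      rcases d4_involution_conj hq hK φ hφ hφk g.1 g.2 hg2 hg1 with ⟨x, hx, hc⟩ | ⟨x, hx, hc⟩
      · right
        rw [Set.mem_singleton_iff, ConjClasses.mk_eq_mk_iff_isConj, isConj_iff]
        exact ⟨⟨x, hx⟩, Subtype.ext (by simpa using hc)⟩
      · left
        rw [ConjClasses.mk_eq_mk_iff_isConj, isConj_iff]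
        exact ⟨⟨x, hx⟩, Subtype.ext (by simpa using hc)⟩
    · rintro _ (rfl | rfl)
      · exact ⟨_, oL, rfl⟩
      · exact ⟨_, oS, rfl⟩
  rw [key, Set.ncard_pair hne]

end D4

end Cfsg.Agent.Lib.H29.Chev
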