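import Mathlib
import Cfsg.Prelude.Def_LieTwisted
import Cfsg.Agent.Lib.H29.ChevTwD4d
import Cfsg.Agent.Lib.H29.D4SingA
import Cfsg.Agent.Lib.H29.D4SingB

/-!
# `³D₄(q)`: the tables of the root system `D₄` and the rank one subgroup at the central node
-/

set_option autoImplicit false
set_option linter.unusedSectionVars false
set_option linter.unusedSimpArgs false
set_option linter.unusedVariables false

namespace Cfsg.Agent.Lib.H29.D4Sing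

open Cfsg.Lie Matrix Cfsg.Agent.Lib.H29.Chev Cfsg.Agent.Lib.H12 Cfsg.Agent.Lib.H29.G2Inv

theorem d4_n : fdD4.n = 24 := rfl

theorem d4_l : fdD4.l = 4 := rfl

theorem d4_simples : fdD4.simples.getD 0 0 = 18 ∧ fdD4.simples.getD 1 0 = 14 ∧ fdD4.simples.getD 2 0 = 13 ∧
    fdD4.simples.getD 3 0 = 12 := ⟨rfl, rfl, rfl, rfl⟩

/-- the coordinates of the roots of `D₄` -/
def rcT : List (List ℤ) := [[-1, -2, -1, -1], [-1, -1, -1, -1], [-1, -1, -1, 0], [-1, -1, 0, -1], [-1, -1, 0, 0],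
  [-1, 0, 0, 0], [0, -1, -1, -1], [0, -1, -1, 0], [0, -1, 0, -1], [0, -1, 0, 0], [0, 0, -1, 0], [0, 0, 0, -1],
  [0, 0, 0, 1], [0, 0, 1, 0], [0, 1, 0, 0], [0, 1, 0, 1], [0, 1, 1, 0], [0, 1, 1, 1], [1, 0, 0, 0], [1, 1, 0, 0],
  [1, 1, 0, 1], [1, 1, 1, 0], [1, 1, 1, 1], [1, 2, 1, 1]]

set_option maxRecDepth 100000 in
theorem d4_rc : ∀ r < 24, ∀ j < 4, fdD4.rcZ fxD4 r j = tblGet rcT r j := by decide +kernel

/-- the graph automorphism on the roots -/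
def gT : List ℕ := [0, 1, 6, 2, 7, 10, 3, 8, 4, 9, 11, 5, 18, 12, 14, 19, 15, 20, 13, 16, 21, 17, 22, 23]

set_option maxRecDepth 100000 in
theorem d4_gRoot : ∀ r < 24, fdD4.gRoot gaD4a r = gT.getD r 0 := by decide +kernel

theorem d4_gEps : fdD4.gEps gaD4a 14 = 1 ∧ fdD4.gEps gaD4a 9 = 1 := by decide +kernel

/-- the reflection in the central node -/
def s1T : List ℕ := [1, 0, 2, 3, 5, 4, 6, 10, 11, 14, 7, 8, 15, 16, 9, 12, 13, 17, 19, 18, 20, 21, 23, 22]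

set_option maxRecDepth 100000 in
theorem d4_sw1 : ∀ r < 24, fdD4.sw fxD4 1 r = s1T.getD r 0 := by decide +kernel

/-- the reflection in the node `p₃` -/
def s2T : List ℕ := [0, 3, 4, 1, 2, 5, 8, 9, 6, 7, 13, 11, 12, 10, 16, 17, 14, 15, 18, 21, 22, 19, 20, 23]

set_option maxRecDepth 100000 in
theorem d4_sw2 : ∀ r < 24, fdD4.sw fxD4 2 r = s2T.getD r 0 := by decide +kernel

theorem d4_pr14 : fdD4.pr 18 14 = -1 ∧ fdD4.pr 14 14 = 2 ∧ fdD4.pr 13 14 = -1 ∧ fdD4.pr 12 14 = -1 := by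
  decide +kernel

theorem d4_car18 : fdD4.carZ 0 18 = 2 ∧ fdD4.carZ 1 18 = -1 ∧ fdD4.carZ 2 18 = 0 ∧ fdD4.carZ 3 18 = 0 := by
  decide +kernel

theorem d4_car14 : fdD4.carZ 0 14 = -1 ∧ fdD4.carZ 1 14 = 2 ∧ fdD4.carZ 2 14 = -1 ∧ fdD4.carZ 3 14 = -1 := by
  decide +kernel

theorem d4_car13 : fdD4.carZ 0 13 = 0 ∧ fdD4.carZ 1 13 = -1 ∧ fdD4.carZ 2 13 = 2 ∧ fdD4.carZ 3 13 = 0 := by
  decide +kernel

theorem d4_car12 : fdD4.carZ 0 12 = 0 ∧ fdD4.carZ 1 12 = -1 ∧ fdD4.carZ 2 12 = 0 ∧ fdD4.carZ 3 12 = 2 := by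
  decide +kernel

end Cfsg.Agent.Lib.H29.D4Sing
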