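import Mathlib
import Cfsg.Agent.Lib.H29.ChevTw8
import Cfsg.Agent.Lib.H29.ChevTwF

/-!
# The fields for the torus of order `(q³ - 1)(q + 1)` of `³D₄(q)`
-/

set_option autoImplicit false
set_option linter.unusedSectionVars false
set_option linter.unusedSimpArgs false
set_option linter.unusedVariables false

namespace Cfsg.Agent.Lib.H29.D4Sing

open Cfsg.Agent.Lib.H29.Chev

/-- the field data: `K = 𝔽_{q³}`, `K' = 𝔽_{q⁶}` with their Frobenius maps over `𝔽_q`, an element `ν` of order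
`q² - 1` with trace `tr` and norm `d` over `𝔽_q`, and a generator `u` of `Kˣ` -/
structure D4Field (K K' : Type*) [Field K] [Field K'] (q : ℕ) where
  hq : 2 ≤ q
  φ : K →+* K
  hφ : ∀ x, φ x = x ^ q
  hφk : ∀ x, φ^[3] x = x
  ι : K →+* K'
  φ' : K' →+* K'
  hφ' : ∀ x, φ' x = x ^ q
  ν : K'ˣ
  hν : orderOf ν = q ^ 2 - 1
  tr : K
  d : Kˣ
  htr : φ tr = tr
  hd : φ (d : K) = d
  hιtr : ι tr = (ν : K') + (ν : K') ^ q
  hιd : ι (d : K) = (ν : K') ^ (q + 1)
  u : Kˣ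
  hu : orderOf u = q ^ 3 - 1

theorem fix_descend {K K' : Type*} [Field K] [Field K'] [Finite K] [Finite K'] (q : ℕ) (hq : 1 ≤ q)
    (hK : Nat.card K = q ^ 3) (hK' : Nat.card K' = q ^ 6) (ι : K →+* K') (x : K') (hx : x ^ q = x) :
    ∃ t : K, t ^ q = t ∧ ι t = x := by
  let f : {t : K // t ^ q = t} → {t : K' // t ^ q = t} := fun t => ⟨ι t.val, by rw [← map_pow, t.property]⟩
  have hf : Function.Injective f := by
    intro a b h
    apply Subtype.ext
    exact ι.injective (congrArg Subtype.val h)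
  have hb := hf.bijective_of_nat_card_le (by
    rw [card_pow_eq (K := K) q 3 (by norm_num) hq hK, card_pow_eq (K := K') q 6 (by norm_num) hq hK'])
  obtain ⟨t, ht⟩ := hb.2 ⟨x, hx⟩
  exact ⟨t.val, t.property, congrArg Subtype.val ht⟩

theorem exists_d4Field {K : Type*} [Field K] [Fintype K] (q : ℕ) (hq : IsPrimePow q)
    (hK : Fintype.card K = q ^ 3) :
    ∃ (K' : Type) (_ : Field K') (_ : Fintype K'), Nonempty (D4Field K K' q) := by
  have hq2 : 2 ≤ q := hq.two_le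
  obtain ⟨φ, hφ, _, hφk⟩ := exists_frob hq hK
  obtain ⟨p, hp⟩ := CharP.exists K
  have : Fact p.Prime := ⟨CharP.char_is_prime K p⟩
  let K' := FiniteField.Extension K p 2
  have : Fintype K' := Fintype.ofFinite K'
  have hK' : Fintype.card K' = q ^ 6 := by
    rw [Fintype.card_eq_nat_card, FiniteField.natCard_extension, ← Fintype.card_eq_nat_card, hK, ← pow_mul]
  obtain ⟨φ', hφ', _, _⟩ := exists_frob hq hK'
  refine ⟨K', inferInstance, inferInstance, ?_⟩
  have hKc : Nat.card K = q ^ 3 := by rw [Nat.card_eq_fintype_card, hK]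
  have hKc' : Nat.card K' = q ^ 6 := by rw [Nat.card_eq_fintype_card, hK']
  -- an element of order `q² - 1`
  have h2 : 1 ≤ q ^ 2 := Nat.one_le_pow _ _ (by omega)
  have hfac : q ^ 6 - 1 = (q ^ 2 - 1) * (q ^ 4 + q ^ 2 + 1) := by
    obtain ⟨m, hm⟩ : ∃ m, q ^ 2 = m + 1 := ⟨q ^ 2 - 1, by omega⟩
    have e6 : q ^ 6 = (q ^ 2) ^ 3 := by ring
    have e4 : q ^ 4 = (q ^ 2) ^ 2 := by ring
    rw [e6, e4, hm]
    have : (m + 1) ^ 3 = m * ((m + 1) ^ 2 + (m + 1) + 1) + 1 := by ring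
    rw [this]
    simp
  have hcard' : Nat.card K'ˣ = (q ^ 2 - 1) * (q ^ 4 + q ^ 2 + 1) := by
    rw [Nat.card_units, hKc', hfac]
  obtain ⟨g, hg⟩ := IsCyclic.exists_generator (α := K'ˣ)
  have hog : orderOf g = (q ^ 2 - 1) * (q ^ 4 + q ^ 2 + 1) := by
    rw [orderOf_eq_card_of_forall_mem_zpowers hg, hcard']
  have hq21 : 0 < q ^ 2 - 1 := by
    have : 4 ≤ q ^ 2 := by nlinarith
    omega
  have hν : orderOf (g ^ (q ^ 4 + q ^ 2 + 1)) = q ^ 2 - 1 := by
    rw [orderOf_pow' g (by positivity : q ^ 4 + q ^ 2 + 1 ≠ 0), hog, Nat.gcd_eq_right (Dvd.intro_left _ rfl)]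
    exact Nat.mul_div_cancel _ (by positivity)
  set ν : K'ˣ := g ^ (q ^ 4 + q ^ 2 + 1) with hνdef
  have hνq2 : (ν : K') ^ (q ^ 2) = ν := by
    have h1 : ν ^ (q ^ 2 - 1) = 1 := by rw [← hν]; exact pow_orderOf_eq_one ν
    have h3 : ν ^ (q ^ 2) = ν := by
      have : q ^ 2 = (q ^ 2 - 1) + 1 := by omega
      rw [this, pow_succ, h1, one_mul]
    have := congrArg Units.val h3
    rwa [Units.val_pow_eq_pow_val] at this
  -- the trace and the norm
  have htr : ((ν : K') + (ν : K') ^ q) ^ q = (ν : K') + (ν : K') ^ q := by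
    rw [← hφ', map_add, hφ', hφ', ← pow_mul, ← pow_two, hνq2, add_comm]
  have hnm : ((ν : K') ^ (q + 1)) ^ q = (ν : K') ^ (q + 1) := by
    rw [← pow_mul, add_mul, one_mul, pow_add, ← pow_two, pow_add, pow_one, hνq2, mul_comm]
  obtain ⟨tr, htr1, htr2⟩ := fix_descend q (by omega) hKc hKc' (algebraMap K K') _ htr
  obtain ⟨d, hd1, hd2⟩ := fix_descend q (by omega) hKc hKc' (algebraMap K K') _ hnm
  have hd0 : d ≠ 0 := by
    rintro rfl
    rw [map_zero] at hd2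
    exact (pow_ne_zero _ ν.ne_zero) hd2.symm
  -- a generator of `Kˣ`
  obtain ⟨u, hu⟩ := IsCyclic.exists_generator (α := Kˣ)
  have hou : orderOf u = q ^ 3 - 1 := by
    rw [orderOf_eq_card_of_forall_mem_zpowers hu, Nat.card_units, hKc]
  exact ⟨⟨hq2, φ, hφ, hφk, algebraMap K K', φ', hφ', ν, hν, tr, Units.mk0 d hd0, by rw [hφ]; exact htr1,
    by rw [Units.val_mk0, hφ]; exact hd1, htr2, by rw [Units.val_mk0]; exact hd2, u, hou⟩⟩

end Cfsg.Agent.Lib.H29.D4Sing
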