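import Mathlib

/-!
# Arithmetic for the torus of order `(q³ - 1)(q + 1)`
-/

set_option autoImplicit false
set_option linter.unusedSectionVars false
set_option linter.unusedSimpArgs false
set_option linter.unusedVariables false

namespace Cfsg.Agent.Lib.H29.D4Sing

theorem coprime_aux (q : ℕ) (hq : 2 ≤ q) : Nat.Coprime (q ^ 3 - 1) (q ^ 2 + q - 3) := by
  obtain ⟨k, rfl⟩ := Nat.exists_eq_add_of_le hq
  have e1 : (2 + k) ^ 3 - 1 = k ^ 3 + 6 * k ^ 2 + 12 * k + 7 := by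
    have : (2 + k) ^ 3 = k ^ 3 + 6 * k ^ 2 + 12 * k + 7 + 1 := by ring
    omega
  have e2 : (2 + k) ^ 2 + (2 + k) - 3 = k ^ 2 + 5 * k + 3 := by
    have : (2 + k) ^ 2 + (2 + k) = k ^ 2 + 5 * k + 3 + 3 := by ring
    omega
  rw [e1, e2]
  set g := Nat.gcd (k ^ 3 + 6 * k ^ 2 + 12 * k + 7) (k ^ 2 + 5 * k + 3) with hg
  have h1 : g ∣ k ^ 3 + 6 * k ^ 2 + 12 * k + 7 := Nat.gcd_dvd_left _ _
  have h2 : g ∣ k ^ 2 + 5 * k + 3 := Nat.gcd_dvd_right _ _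
  have h4 : g ∣ 4 := by
    have e : (k + 4) * (k ^ 3 + 6 * k ^ 2 + 12 * k + 7) = (k ^ 2 + 5 * k + 3) * (k ^ 2 + 5 * k + 8) + 4 := by ring
    have h5 : g ∣ (k ^ 2 + 5 * k + 3) * (k ^ 2 + 5 * k + 8) + 4 := by
      rw [← e]; exact Dvd.dvd.mul_left h1 _
    exact (Nat.dvd_add_right (Dvd.dvd.mul_right h2 _)).mp h5
  have hodd : ¬ 2 ∣ k ^ 2 + 5 * k + 3 := by
    have he : 2 ∣ k ^ 2 + 5 * k + 2 := by
      have : k ^ 2 + 5 * k + 2 = k * (k + 1) + 2 * (2 * k + 1) := by ring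
      rw [this]
      exact Dvd.dvd.add (Nat.even_mul_succ_self k).two_dvd (Dvd.intro _ rfl)
    omega
  have hle : g ≤ 4 := Nat.le_of_dvd (by norm_num) h4
  show g = 1
  interval_cases g
  · simp at h4
  · rfl
  · exact absurd h2 hodd
  · omega
  · exact absurd (Dvd.dvd.trans (by norm_num : 2 ∣ 4) h2) hodd

theorem N_dvd_aux (q m : ℕ) (hq : 2 ≤ q) (h1 : q ^ 3 - 1 ∣ m) (h2 : q ^ 2 - 1 ∣ m) :
    (q ^ 3 - 1) * (q + 1) ∣ m := by
  obtain ⟨k, rfl⟩ : ∃ k, q = k + 1 := ⟨q - 1, by omega⟩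
  have hk : 0 < k := by omega
  have e3 : (k + 1) ^ 3 - 1 = k * ((k + 1) ^ 2 + (k + 1) + 1) := by
    have : (k + 1) ^ 3 = k * ((k + 1) ^ 2 + (k + 1) + 1) + 1 := by ring
    omega
  have e2 : (k + 1) ^ 2 - 1 = k * (k + 1 + 1) := by
    have : (k + 1) ^ 2 = k * (k + 1 + 1) + 1 := by ring
    omega
  rw [e3] at h1 ⊢
  rw [e2] at h2
  obtain ⟨m', rfl⟩ : k ∣ m := Dvd.dvd.trans (Dvd.intro _ rfl) h1
  have h1' : (k + 1) ^ 2 + (k + 1) + 1 ∣ m' := Nat.dvd_of_mul_dvd_mul_left hk h1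
  have h2' : k + 1 + 1 ∣ m' := Nat.dvd_of_mul_dvd_mul_left hk h2
  have hcop : Nat.Coprime ((k + 1) ^ 2 + (k + 1) + 1) (k + 1 + 1) := by
    have : (k + 1) ^ 2 + (k + 1) + 1 = 1 + (k + 1 + 1) * (k + 1) := by ring
    rw [this, Nat.coprime_add_mul_left_left]
    exact Nat.coprime_one_left _
  rw [mul_assoc]
  exact Nat.mul_dvd_mul_left k (hcop.mul_dvd_of_dvd_of_dvd h1' h2')

/-- an element of order `(q³ - 1)(q + 1)` in the group generated by elements of orders `q³ - 1` and `q² - 1` -/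
theorem exists_order_N {M : Type*} [CommGroup M] [Finite M] [IsCyclic M] (q : ℕ) (hq : 2 ≤ q) (e1 e2 : M)
    (h1 : orderOf e1 = q ^ 3 - 1) (h2 : orderOf e2 = q ^ 2 - 1) :
    ∃ i j : ℤ, orderOf (e1 ^ i * e2 ^ j) = (q ^ 3 - 1) * (q + 1) := by
  set E : Subgroup M := Subgroup.closure {e1, e2} with hE
  have he1 : e1 ∈ E := Subgroup.subset_closure (by simp)
  have he2 : e2 ∈ E := Subgroup.subset_closure (by simp)
  have hd1 : q ^ 3 - 1 ∣ Nat.card E := by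
    rw [← h1, ← Subgroup.orderOf_mk e1 he1]
    exact orderOf_dvd_natCard _
  have hd2 : q ^ 2 - 1 ∣ Nat.card E := by
    rw [← h2, ← Subgroup.orderOf_mk e2 he2]
    exact orderOf_dvd_natCard _
  have hN := N_dvd_aux q _ hq hd1 hd2
  obtain ⟨c, hc⟩ := hN
  obtain ⟨γ, hγ⟩ := IsCyclic.exists_generator (α := E)
  have hoγ : orderOf γ = Nat.card E := orderOf_eq_card_of_forall_mem_zpowers hγ
  have hNpos : 0 < (q ^ 3 - 1) * (q + 1) := by
    have : 8 ≤ q ^ 3 := by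
      calc 8 = 2 ^ 3 := by norm_num
        _ ≤ q ^ 3 := Nat.pow_le_pow_left hq 3
    have : 0 < q ^ 3 - 1 := by omega
    positivity
  have hcpos : 0 < c := by
    rcases Nat.eq_zero_or_pos c with rfl | h
    · rw [mul_zero] at hc
      have := Nat.card_pos (α := E)
      omega
    · exact h
  have hoe : orderOf (γ ^ c) = (q ^ 3 - 1) * (q + 1) := by
    rw [orderOf_pow' γ hcpos.ne', hoγ, hc, Nat.gcd_eq_right (Dvd.intro_left _ rfl)]
    exact Nat.mul_div_cancel _ hcpos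
  have hmem : ((γ ^ c : E) : M) ∈ Subgroup.closure {e1, e2} := (γ ^ c).property
  rw [Subgroup.mem_closure_pair] at hmem
  obtain ⟨i, j, hij⟩ := hmem
  refine ⟨i, j, ?_⟩
  rw [hij, Subgroup.orderOf_coe, hoe]

end Cfsg.Agent.Lib.H29.D4Sing
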