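import Mathlib
import Cfsg.Agent.Lib.H29.D4SingC

/-!
# `³D₄(q)`: the regularity of the generator of the torus of order `(q³ - 1)(q + 1)` (generated)
-/

set_option autoImplicit false
set_option linter.unusedSectionVars false
set_option linter.unusedSimpArgs false
set_option linter.unusedVariables false

namespace Cfsg.Agent.Lib.H29.D4Sing

open Cfsg.Agent.Lib.H29.Chev

/-- the exponent of the root with coordinates `c₁, …, c₄` -/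
def Ev (q c1 c2 c3 c4 : ℤ) : ℤ := c1 + c2 * (q ^ 3 - 1) + c3 * (1 + q - q ^ 3) + c4 * q ^ 2

/-- the order of the torus -/
def Nq (q : ℤ) : ℤ := (q ^ 3 - 1) * (q + 1)

/-- the exponent of the root `r` -/
def D4E (q : ℤ) (r : ℕ) : ℤ := Ev q (tblGet rcT r 0) (tblGet rcT r 1) (tblGet rcT r 2) (tblGet rcT r 3)

theorem nd_between {n e : ℤ} (c s1 s2 : ℤ) (h1 : e + c * n = s1) (h2 : n - (e + c * n) = s2) (p1 : 0 < s1)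
    (p2 : 0 < s2) : ¬ n ∣ e := by
  intro hd
  have hd' : n ∣ e + c * n := Dvd.dvd.add hd (Dvd.intro_left _ rfl)
  rw [h1] at hd' h2
  have := Int.le_of_dvd p1 hd'
  omega

theorem reg_12 (t : ℕ) : ¬ Nq ((t : ℤ) + 2) ∣ Ev ((t : ℤ) + 2) 0 0 0 1 :=
  nd_between (0) (4 + 4 * (t : ℤ) + 1 * (t : ℤ) ^ 2) (17 + 39 * (t : ℤ) + 29 * (t : ℤ) ^ 2 + 9 * (t : ℤ) ^ 3 + 1 * (t : ℤ) ^ 4) (by unfold Ev Nq; ring) (by unfold Ev Nq; ring)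
    (by positivity) (by positivity)

theorem reg_13 (t : ℕ) : ¬ Nq ((t : ℤ) + 2) ∣ Ev ((t : ℤ) + 2) 0 0 1 0 :=
  nd_between (1) (16 + 32 * (t : ℤ) + 24 * (t : ℤ) ^ 2 + 8 * (t : ℤ) ^ 3 + 1 * (t : ℤ) ^ 4) (5 + 11 * (t : ℤ) + 6 * (t : ℤ) ^ 2 + 1 * (t : ℤ) ^ 3) (by unfold Ev Nq; ring) (by unfold Ev Nq; ring)
    (by positivity) (by positivity)

theorem reg_14 (t : ℕ) : ¬ Nq ((t : ℤ) + 2) ∣ Ev ((t : ℤ) + 2) 0 1 0 0 :=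
  nd_between (0) (7 + 12 * (t : ℤ) + 6 * (t : ℤ) ^ 2 + 1 * (t : ℤ) ^ 3) (14 + 31 * (t : ℤ) + 24 * (t : ℤ) ^ 2 + 8 * (t : ℤ) ^ 3 + 1 * (t : ℤ) ^ 4) (by unfold Ev Nq; ring) (by unfold Ev Nq; ring)
    (by positivity) (by positivity)

theorem reg_15 (t : ℕ) : ¬ Nq ((t : ℤ) + 2) ∣ Ev ((t : ℤ) + 2) 0 1 0 1 :=
  nd_between (0) (11 + 16 * (t : ℤ) + 7 * (t : ℤ) ^ 2 + 1 * (t : ℤ) ^ 3) (10 + 27 * (t : ℤ) + 23 * (t : ℤ) ^ 2 + 8 * (t : ℤ) ^ 3 + 1 * (t : ℤ) ^ 4) (by unfold Ev Nq; ring) (by unfold Ev Nq; ring)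
    (by positivity) (by positivity)

theorem reg_16 (t : ℕ) : ¬ Nq ((t : ℤ) + 2) ∣ Ev ((t : ℤ) + 2) 0 1 1 0 :=
  nd_between (0) (2 + 1 * (t : ℤ)) (19 + 42 * (t : ℤ) + 30 * (t : ℤ) ^ 2 + 9 * (t : ℤ) ^ 3 + 1 * (t : ℤ) ^ 4) (by unfold Ev Nq; ring) (by unfold Ev Nq; ring)
    (by positivity) (by positivity)

theorem reg_17 (t : ℕ) : ¬ Nq ((t : ℤ) + 2) ∣ Ev ((t : ℤ) + 2) 0 1 1 1 :=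
  nd_between (0) (6 + 5 * (t : ℤ) + 1 * (t : ℤ) ^ 2) (15 + 38 * (t : ℤ) + 29 * (t : ℤ) ^ 2 + 9 * (t : ℤ) ^ 3 + 1 * (t : ℤ) ^ 4) (by unfold Ev Nq; ring) (by unfold Ev Nq; ring)
    (by positivity) (by positivity)

theorem reg_18 (t : ℕ) : ¬ Nq ((t : ℤ) + 2) ∣ Ev ((t : ℤ) + 2) 1 0 0 0 :=
  nd_between (0) (1) (20 + 43 * (t : ℤ) + 30 * (t : ℤ) ^ 2 + 9 * (t : ℤ) ^ 3 + 1 * (t : ℤ) ^ 4) (by unfold Ev Nq; ring) (by unfold Ev Nq; ring)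
    (by positivity) (by positivity)

theorem reg_19 (t : ℕ) : ¬ Nq ((t : ℤ) + 2) ∣ Ev ((t : ℤ) + 2) 1 1 0 0 :=
  nd_between (0) (8 + 12 * (t : ℤ) + 6 * (t : ℤ) ^ 2 + 1 * (t : ℤ) ^ 3) (13 + 31 * (t : ℤ) + 24 * (t : ℤ) ^ 2 + 8 * (t : ℤ) ^ 3 + 1 * (t : ℤ) ^ 4) (by unfold Ev Nq; ring) (by unfold Ev Nq; ring)
    (by positivity) (by positivity)

theorem reg_20 (t : ℕ) : ¬ Nq ((t : ℤ) + 2) ∣ Ev ((t : ℤ) + 2) 1 1 0 1 :=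
  nd_between (0) (12 + 16 * (t : ℤ) + 7 * (t : ℤ) ^ 2 + 1 * (t : ℤ) ^ 3) (9 + 27 * (t : ℤ) + 23 * (t : ℤ) ^ 2 + 8 * (t : ℤ) ^ 3 + 1 * (t : ℤ) ^ 4) (by unfold Ev Nq; ring) (by unfold Ev Nq; ring)
    (by positivity) (by positivity)

theorem reg_21 (t : ℕ) : ¬ Nq ((t : ℤ) + 2) ∣ Ev ((t : ℤ) + 2) 1 1 1 0 :=
  nd_between (0) (3 + 1 * (t : ℤ)) (18 + 42 * (t : ℤ) + 30 * (t : ℤ) ^ 2 + 9 * (t : ℤ) ^ 3 + 1 * (t : ℤ) ^ 4) (by unfold Ev Nq; ring) (by unfold Ev Nq; ring)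
    (by positivity) (by positivity)

theorem reg_22 (t : ℕ) : ¬ Nq ((t : ℤ) + 2) ∣ Ev ((t : ℤ) + 2) 1 1 1 1 :=
  nd_between (0) (7 + 5 * (t : ℤ) + 1 * (t : ℤ) ^ 2) (14 + 38 * (t : ℤ) + 29 * (t : ℤ) ^ 2 + 9 * (t : ℤ) ^ 3 + 1 * (t : ℤ) ^ 4) (by unfold Ev Nq; ring) (by unfold Ev Nq; ring)
    (by positivity) (by positivity)

theorem reg_23 (t : ℕ) : ¬ Nq ((t : ℤ) + 2) ∣ Ev ((t : ℤ) + 2) 1 2 1 1 :=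
  nd_between (0) (14 + 17 * (t : ℤ) + 7 * (t : ℤ) ^ 2 + 1 * (t : ℤ) ^ 3) (7 + 26 * (t : ℤ) + 23 * (t : ℤ) ^ 2 + 8 * (t : ℤ) ^ 3 + 1 * (t : ℤ) ^ 4) (by unfold Ev Nq; ring) (by unfold Ev Nq; ring)
    (by positivity) (by positivity)

theorem sep_0_0 (t : ℕ) : ¬ Nq ((t : ℤ) + 2) ∣ Ev ((t : ℤ) + 2) (-1) (-2) (-1) (-1) - Ev ((t : ℤ) + 2) 1 0 0 0 :=
  nd_between (1) (6 + 26 * (t : ℤ) + 23 * (t : ℤ) ^ 2 + 8 * (t : ℤ) ^ 3 + 1 * (t : ℤ) ^ 4) (15 + 17 * (t : ℤ) + 7 * (t : ℤ) ^ 2 + 1 * (t : ℤ) ^ 3) (by unfold Ev Nq; ring) (by unfold Ev Nq; ring)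
    (by positivity) (by positivity)

theorem sep_0_1 (t : ℕ) : ¬ Nq ((t : ℤ) + 2) ∣ Ev ((t : ℤ) + 2) (-1) (-1) 0 (-1) - Ev ((t : ℤ) + 2) 1 0 0 0 :=
  nd_between (1) (8 + 27 * (t : ℤ) + 23 * (t : ℤ) ^ 2 + 8 * (t : ℤ) ^ 3 + 1 * (t : ℤ) ^ 4) (13 + 16 * (t : ℤ) + 7 * (t : ℤ) ^ 2 + 1 * (t : ℤ) ^ 3) (by unfold Ev Nq; ring) (by unfold Ev Nq; ring)
    (by positivity) (by positivity)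

theorem sep_0_2 (t : ℕ) : ¬ Nq ((t : ℤ) + 2) ∣ Ev ((t : ℤ) + 2) (-1) (-1) 0 0 - Ev ((t : ℤ) + 2) 1 0 0 0 :=
  nd_between (1) (12 + 31 * (t : ℤ) + 24 * (t : ℤ) ^ 2 + 8 * (t : ℤ) ^ 3 + 1 * (t : ℤ) ^ 4) (9 + 12 * (t : ℤ) + 6 * (t : ℤ) ^ 2 + 1 * (t : ℤ) ^ 3) (by unfold Ev Nq; ring) (by unfold Ev Nq; ring)
    (by positivity) (by positivity)

theorem sep_0_3 (t : ℕ) : ¬ Nq ((t : ℤ) + 2) ∣ Ev ((t : ℤ) + 2) (-1) (-1) (-1) (-1) - Ev ((t : ℤ) + 2) 1 0 0 0 :=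
  nd_between (1) (13 + 38 * (t : ℤ) + 29 * (t : ℤ) ^ 2 + 9 * (t : ℤ) ^ 3 + 1 * (t : ℤ) ^ 4) (8 + 5 * (t : ℤ) + 1 * (t : ℤ) ^ 2) (by unfold Ev Nq; ring) (by unfold Ev Nq; ring)
    (by positivity) (by positivity)

theorem sep_0_4 (t : ℕ) : ¬ Nq ((t : ℤ) + 2) ∣ Ev ((t : ℤ) + 2) (-1) (-1) (-1) 0 - Ev ((t : ℤ) + 2) 1 0 0 0 :=
  nd_between (1) (17 + 42 * (t : ℤ) + 30 * (t : ℤ) ^ 2 + 9 * (t : ℤ) ^ 3 + 1 * (t : ℤ) ^ 4) (4 + 1 * (t : ℤ)) (by unfold Ev Nq; ring) (by unfold Ev Nq; ring)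
    (by positivity) (by positivity)

theorem sep_0_5 (t : ℕ) : ¬ Nq ((t : ℤ) + 2) ∣ Ev ((t : ℤ) + 2) (-1) 0 0 0 - Ev ((t : ℤ) + 2) 1 0 0 0 :=
  nd_between (1) (19 + 43 * (t : ℤ) + 30 * (t : ℤ) ^ 2 + 9 * (t : ℤ) ^ 3 + 1 * (t : ℤ) ^ 4) (2) (by unfold Ev Nq; ring) (by unfold Ev Nq; ring)
    (by positivity) (by positivity)

theorem sep_0_6 (t : ℕ) : ¬ Nq ((t : ℤ) + 2) ∣ Ev ((t : ℤ) + 2) 0 (-1) 0 (-1) - Ev ((t : ℤ) + 2) 1 0 0 0 :=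
  nd_between (1) (9 + 27 * (t : ℤ) + 23 * (t : ℤ) ^ 2 + 8 * (t : ℤ) ^ 3 + 1 * (t : ℤ) ^ 4) (12 + 16 * (t : ℤ) + 7 * (t : ℤ) ^ 2 + 1 * (t : ℤ) ^ 3) (by unfold Ev Nq; ring) (by unfold Ev Nq; ring)
    (by positivity) (by positivity)

theorem sep_0_7 (t : ℕ) : ¬ Nq ((t : ℤ) + 2) ∣ Ev ((t : ℤ) + 2) 0 (-1) 0 0 - Ev ((t : ℤ) + 2) 1 0 0 0 :=
  nd_between (1) (13 + 31 * (t : ℤ) + 24 * (t : ℤ) ^ 2 + 8 * (t : ℤ) ^ 3 + 1 * (t : ℤ) ^ 4) (8 + 12 * (t : ℤ) + 6 * (t : ℤ) ^ 2 + 1 * (t : ℤ) ^ 3) (by unfold Ev Nq; ring) (by unfold Ev Nq; ring)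
    (by positivity) (by positivity)

theorem sep_0_8 (t : ℕ) : ¬ Nq ((t : ℤ) + 2) ∣ Ev ((t : ℤ) + 2) 0 (-1) (-1) (-1) - Ev ((t : ℤ) + 2) 1 0 0 0 :=
  nd_between (1) (14 + 38 * (t : ℤ) + 29 * (t : ℤ) ^ 2 + 9 * (t : ℤ) ^ 3 + 1 * (t : ℤ) ^ 4) (7 + 5 * (t : ℤ) + 1 * (t : ℤ) ^ 2) (by unfold Ev Nq; ring) (by unfold Ev Nq; ring)
    (by positivity) (by positivity)

theorem sep_0_9 (t : ℕ) : ¬ Nq ((t : ℤ) + 2) ∣ Ev ((t : ℤ) + 2) 0 (-1) (-1) 0 - Ev ((t : ℤ) + 2) 1 0 0 0 :=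
  nd_between (1) (18 + 42 * (t : ℤ) + 30 * (t : ℤ) ^ 2 + 9 * (t : ℤ) ^ 3 + 1 * (t : ℤ) ^ 4) (3 + 1 * (t : ℤ)) (by unfold Ev Nq; ring) (by unfold Ev Nq; ring)
    (by positivity) (by positivity)

theorem sep_0_10 (t : ℕ) : ¬ Nq ((t : ℤ) + 2) ∣ Ev ((t : ℤ) + 2) 0 0 1 0 - Ev ((t : ℤ) + 2) 1 0 0 0 :=
  nd_between (1) (15 + 32 * (t : ℤ) + 24 * (t : ℤ) ^ 2 + 8 * (t : ℤ) ^ 3 + 1 * (t : ℤ) ^ 4) (6 + 11 * (t : ℤ) + 6 * (t : ℤ) ^ 2 + 1 * (t : ℤ) ^ 3) (by unfold Ev Nq; ring) (by unfold Ev Nq; ring)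
    (by positivity) (by positivity)

theorem sep_0_11 (t : ℕ) : ¬ Nq ((t : ℤ) + 2) ∣ Ev ((t : ℤ) + 2) 0 0 0 (-1) - Ev ((t : ℤ) + 2) 1 0 0 0 :=
  nd_between (1) (16 + 39 * (t : ℤ) + 29 * (t : ℤ) ^ 2 + 9 * (t : ℤ) ^ 3 + 1 * (t : ℤ) ^ 4) (5 + 4 * (t : ℤ) + 1 * (t : ℤ) ^ 2) (by unfold Ev Nq; ring) (by unfold Ev Nq; ring)
    (by positivity) (by positivity)

theorem sep_1_0 (t : ℕ) : ¬ Nq ((t : ℤ) + 2) ∣ Ev ((t : ℤ) + 2) (-1) (-2) (-1) (-1) - Ev ((t : ℤ) + 2) 0 1 1 0 :=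
  nd_between (1) (5 + 25 * (t : ℤ) + 23 * (t : ℤ) ^ 2 + 8 * (t : ℤ) ^ 3 + 1 * (t : ℤ) ^ 4) (16 + 18 * (t : ℤ) + 7 * (t : ℤ) ^ 2 + 1 * (t : ℤ) ^ 3) (by unfold Ev Nq; ring) (by unfold Ev Nq; ring)
    (by positivity) (by positivity)

theorem sep_1_1 (t : ℕ) : ¬ Nq ((t : ℤ) + 2) ∣ Ev ((t : ℤ) + 2) (-1) (-1) 0 (-1) - Ev ((t : ℤ) + 2) 0 1 1 0 :=
  nd_between (1) (7 + 26 * (t : ℤ) + 23 * (t : ℤ) ^ 2 + 8 * (t : ℤ) ^ 3 + 1 * (t : ℤ) ^ 4) (14 + 17 * (t : ℤ) + 7 * (t : ℤ) ^ 2 + 1 * (t : ℤ) ^ 3) (by unfold Ev Nq; ring) (by unfold Ev Nq; ring)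
    (by positivity) (by positivity)

theorem sep_1_2 (t : ℕ) : ¬ Nq ((t : ℤ) + 2) ∣ Ev ((t : ℤ) + 2) (-1) (-1) 0 0 - Ev ((t : ℤ) + 2) 0 1 1 0 :=
  nd_between (1) (11 + 30 * (t : ℤ) + 24 * (t : ℤ) ^ 2 + 8 * (t : ℤ) ^ 3 + 1 * (t : ℤ) ^ 4) (10 + 13 * (t : ℤ) + 6 * (t : ℤ) ^ 2 + 1 * (t : ℤ) ^ 3) (by unfold Ev Nq; ring) (by unfold Ev Nq; ring)
    (by positivity) (by positivity)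

theorem sep_1_3 (t : ℕ) : ¬ Nq ((t : ℤ) + 2) ∣ Ev ((t : ℤ) + 2) (-1) (-1) (-1) (-1) - Ev ((t : ℤ) + 2) 0 1 1 0 :=
  nd_between (1) (12 + 37 * (t : ℤ) + 29 * (t : ℤ) ^ 2 + 9 * (t : ℤ) ^ 3 + 1 * (t : ℤ) ^ 4) (9 + 6 * (t : ℤ) + 1 * (t : ℤ) ^ 2) (by unfold Ev Nq; ring) (by unfold Ev Nq; ring)
    (by positivity) (by positivity)

theorem sep_1_4 (t : ℕ) : ¬ Nq ((t : ℤ) + 2) ∣ Ev ((t : ℤ) + 2) (-1) (-1) (-1) 0 - Ev ((t : ℤ) + 2) 0 1 1 0 :=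
  nd_between (1) (16 + 41 * (t : ℤ) + 30 * (t : ℤ) ^ 2 + 9 * (t : ℤ) ^ 3 + 1 * (t : ℤ) ^ 4) (5 + 2 * (t : ℤ)) (by unfold Ev Nq; ring) (by unfold Ev Nq; ring)
    (by positivity) (by positivity)

theorem sep_1_5 (t : ℕ) : ¬ Nq ((t : ℤ) + 2) ∣ Ev ((t : ℤ) + 2) (-1) 0 0 0 - Ev ((t : ℤ) + 2) 0 1 1 0 :=
  nd_between (1) (18 + 42 * (t : ℤ) + 30 * (t : ℤ) ^ 2 + 9 * (t : ℤ) ^ 3 + 1 * (t : ℤ) ^ 4) (3 + 1 * (t : ℤ)) (by unfold Ev Nq; ring) (by unfold Ev Nq; ring)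
    (by positivity) (by positivity)

theorem sep_1_6 (t : ℕ) : ¬ Nq ((t : ℤ) + 2) ∣ Ev ((t : ℤ) + 2) 0 (-1) 0 (-1) - Ev ((t : ℤ) + 2) 0 1 1 0 :=
  nd_between (1) (8 + 26 * (t : ℤ) + 23 * (t : ℤ) ^ 2 + 8 * (t : ℤ) ^ 3 + 1 * (t : ℤ) ^ 4) (13 + 17 * (t : ℤ) + 7 * (t : ℤ) ^ 2 + 1 * (t : ℤ) ^ 3) (by unfold Ev Nq; ring) (by unfold Ev Nq; ring)
    (by positivity) (by positivity)

theorem sep_1_7 (t : ℕ) : ¬ Nq ((t : ℤ) + 2) ∣ Ev ((t : ℤ) + 2) 0 (-1) 0 0 - Ev ((t : ℤ) + 2) 0 1 1 0 :=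
  nd_between (1) (12 + 30 * (t : ℤ) + 24 * (t : ℤ) ^ 2 + 8 * (t : ℤ) ^ 3 + 1 * (t : ℤ) ^ 4) (9 + 13 * (t : ℤ) + 6 * (t : ℤ) ^ 2 + 1 * (t : ℤ) ^ 3) (by unfold Ev Nq; ring) (by unfold Ev Nq; ring)
    (by positivity) (by positivity)

theorem sep_1_8 (t : ℕ) : ¬ Nq ((t : ℤ) + 2) ∣ Ev ((t : ℤ) + 2) 0 (-1) (-1) (-1) - Ev ((t : ℤ) + 2) 0 1 1 0 :=
  nd_between (1) (13 + 37 * (t : ℤ) + 29 * (t : ℤ) ^ 2 + 9 * (t : ℤ) ^ 3 + 1 * (t : ℤ) ^ 4) (8 + 6 * (t : ℤ) + 1 * (t : ℤ) ^ 2) (by unfold Ev Nq; ring) (by unfold Ev Nq; ring)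
    (by positivity) (by positivity)

theorem sep_1_9 (t : ℕ) : ¬ Nq ((t : ℤ) + 2) ∣ Ev ((t : ℤ) + 2) 0 (-1) (-1) 0 - Ev ((t : ℤ) + 2) 0 1 1 0 :=
  nd_between (1) (17 + 41 * (t : ℤ) + 30 * (t : ℤ) ^ 2 + 9 * (t : ℤ) ^ 3 + 1 * (t : ℤ) ^ 4) (4 + 2 * (t : ℤ)) (by unfold Ev Nq; ring) (by unfold Ev Nq; ring)
    (by positivity) (by positivity)

theorem sep_1_10 (t : ℕ) : ¬ Nq ((t : ℤ) + 2) ∣ Ev ((t : ℤ) + 2) 0 0 1 0 - Ev ((t : ℤ) + 2) 0 1 1 0 :=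
  nd_between (1) (14 + 31 * (t : ℤ) + 24 * (t : ℤ) ^ 2 + 8 * (t : ℤ) ^ 3 + 1 * (t : ℤ) ^ 4) (7 + 12 * (t : ℤ) + 6 * (t : ℤ) ^ 2 + 1 * (t : ℤ) ^ 3) (by unfold Ev Nq; ring) (by unfold Ev Nq; ring)
    (by positivity) (by positivity)

theorem sep_1_11 (t : ℕ) : ¬ Nq ((t : ℤ) + 2) ∣ Ev ((t : ℤ) + 2) 0 0 0 (-1) - Ev ((t : ℤ) + 2) 0 1 1 0 :=
  nd_between (1) (15 + 38 * (t : ℤ) + 29 * (t : ℤ) ^ 2 + 9 * (t : ℤ) ^ 3 + 1 * (t : ℤ) ^ 4) (6 + 5 * (t : ℤ) + 1 * (t : ℤ) ^ 2) (by unfold Ev Nq; ring) (by unfold Ev Nq; ring)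
    (by positivity) (by positivity)

theorem sep_2_0 (t : ℕ) : ¬ Nq ((t : ℤ) + 2) ∣ Ev ((t : ℤ) + 2) (-1) (-2) (-1) (-1) - Ev ((t : ℤ) + 2) 0 0 (-1) 0 :=
  nd_between (1) (2 + 15 * (t : ℤ) + 17 * (t : ℤ) ^ 2 + 7 * (t : ℤ) ^ 3 + 1 * (t : ℤ) ^ 4) (19 + 28 * (t : ℤ) + 13 * (t : ℤ) ^ 2 + 2 * (t : ℤ) ^ 3) (by unfold Ev Nq; ring) (by unfold Ev Nq; ring)
    (by positivity) (by positivity)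

theorem sep_2_1 (t : ℕ) : ¬ Nq ((t : ℤ) + 2) ∣ Ev ((t : ℤ) + 2) (-1) (-1) 0 (-1) - Ev ((t : ℤ) + 2) 0 0 (-1) 0 :=
  nd_between (1) (4 + 16 * (t : ℤ) + 17 * (t : ℤ) ^ 2 + 7 * (t : ℤ) ^ 3 + 1 * (t : ℤ) ^ 4) (17 + 27 * (t : ℤ) + 13 * (t : ℤ) ^ 2 + 2 * (t : ℤ) ^ 3) (by unfold Ev Nq; ring) (by unfold Ev Nq; ring)
    (by positivity) (by positivity)

theorem sep_2_2 (t : ℕ) : ¬ Nq ((t : ℤ) + 2) ∣ Ev ((t : ℤ) + 2) (-1) (-1) 0 0 - Ev ((t : ℤ) + 2) 0 0 (-1) 0 :=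
  nd_between (1) (8 + 20 * (t : ℤ) + 18 * (t : ℤ) ^ 2 + 7 * (t : ℤ) ^ 3 + 1 * (t : ℤ) ^ 4) (13 + 23 * (t : ℤ) + 12 * (t : ℤ) ^ 2 + 2 * (t : ℤ) ^ 3) (by unfold Ev Nq; ring) (by unfold Ev Nq; ring)
    (by positivity) (by positivity)

theorem sep_2_3 (t : ℕ) : ¬ Nq ((t : ℤ) + 2) ∣ Ev ((t : ℤ) + 2) (-1) (-1) (-1) (-1) - Ev ((t : ℤ) + 2) 0 0 (-1) 0 :=
  nd_between (1) (9 + 27 * (t : ℤ) + 23 * (t : ℤ) ^ 2 + 8 * (t : ℤ) ^ 3 + 1 * (t : ℤ) ^ 4) (12 + 16 * (t : ℤ) + 7 * (t : ℤ) ^ 2 + 1 * (t : ℤ) ^ 3) (by unfold Ev Nq; ring) (by unfold Ev Nq; ring)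
    (by positivity) (by positivity)

theorem sep_2_4 (t : ℕ) : ¬ Nq ((t : ℤ) + 2) ∣ Ev ((t : ℤ) + 2) (-1) (-1) (-1) 0 - Ev ((t : ℤ) + 2) 0 0 (-1) 0 :=
  nd_between (1) (13 + 31 * (t : ℤ) + 24 * (t : ℤ) ^ 2 + 8 * (t : ℤ) ^ 3 + 1 * (t : ℤ) ^ 4) (8 + 12 * (t : ℤ) + 6 * (t : ℤ) ^ 2 + 1 * (t : ℤ) ^ 3) (by unfold Ev Nq; ring) (by unfold Ev Nq; ring)
    (by positivity) (by positivity)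

theorem sep_2_5 (t : ℕ) : ¬ Nq ((t : ℤ) + 2) ∣ Ev ((t : ℤ) + 2) (-1) 0 0 0 - Ev ((t : ℤ) + 2) 0 0 (-1) 0 :=
  nd_between (1) (15 + 32 * (t : ℤ) + 24 * (t : ℤ) ^ 2 + 8 * (t : ℤ) ^ 3 + 1 * (t : ℤ) ^ 4) (6 + 11 * (t : ℤ) + 6 * (t : ℤ) ^ 2 + 1 * (t : ℤ) ^ 3) (by unfold Ev Nq; ring) (by unfold Ev Nq; ring)
    (by positivity) (by positivity)

theorem sep_2_6 (t : ℕ) : ¬ Nq ((t : ℤ) + 2) ∣ Ev ((t : ℤ) + 2) 0 (-1) 0 (-1) - Ev ((t : ℤ) + 2) 0 0 (-1) 0 :=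
  nd_between (1) (5 + 16 * (t : ℤ) + 17 * (t : ℤ) ^ 2 + 7 * (t : ℤ) ^ 3 + 1 * (t : ℤ) ^ 4) (16 + 27 * (t : ℤ) + 13 * (t : ℤ) ^ 2 + 2 * (t : ℤ) ^ 3) (by unfold Ev Nq; ring) (by unfold Ev Nq; ring)
    (by positivity) (by positivity)

theorem sep_2_7 (t : ℕ) : ¬ Nq ((t : ℤ) + 2) ∣ Ev ((t : ℤ) + 2) 0 (-1) 0 0 - Ev ((t : ℤ) + 2) 0 0 (-1) 0 :=
  nd_between (1) (9 + 20 * (t : ℤ) + 18 * (t : ℤ) ^ 2 + 7 * (t : ℤ) ^ 3 + 1 * (t : ℤ) ^ 4) (12 + 23 * (t : ℤ) + 12 * (t : ℤ) ^ 2 + 2 * (t : ℤ) ^ 3) (by unfold Ev Nq; ring) (by unfold Ev Nq; ring)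
    (by positivity) (by positivity)

theorem sep_2_8 (t : ℕ) : ¬ Nq ((t : ℤ) + 2) ∣ Ev ((t : ℤ) + 2) 0 (-1) (-1) (-1) - Ev ((t : ℤ) + 2) 0 0 (-1) 0 :=
  nd_between (1) (10 + 27 * (t : ℤ) + 23 * (t : ℤ) ^ 2 + 8 * (t : ℤ) ^ 3 + 1 * (t : ℤ) ^ 4) (11 + 16 * (t : ℤ) + 7 * (t : ℤ) ^ 2 + 1 * (t : ℤ) ^ 3) (by unfold Ev Nq; ring) (by unfold Ev Nq; ring)
    (by positivity) (by positivity)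

theorem sep_2_9 (t : ℕ) : ¬ Nq ((t : ℤ) + 2) ∣ Ev ((t : ℤ) + 2) 0 (-1) (-1) 0 - Ev ((t : ℤ) + 2) 0 0 (-1) 0 :=
  nd_between (1) (14 + 31 * (t : ℤ) + 24 * (t : ℤ) ^ 2 + 8 * (t : ℤ) ^ 3 + 1 * (t : ℤ) ^ 4) (7 + 12 * (t : ℤ) + 6 * (t : ℤ) ^ 2 + 1 * (t : ℤ) ^ 3) (by unfold Ev Nq; ring) (by unfold Ev Nq; ring)
    (by positivity) (by positivity)

theorem sep_2_10 (t : ℕ) : ¬ Nq ((t : ℤ) + 2) ∣ Ev ((t : ℤ) + 2) 0 0 1 0 - Ev ((t : ℤ) + 2) 0 0 (-1) 0 :=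
  nd_between (1) (11 + 21 * (t : ℤ) + 18 * (t : ℤ) ^ 2 + 7 * (t : ℤ) ^ 3 + 1 * (t : ℤ) ^ 4) (10 + 22 * (t : ℤ) + 12 * (t : ℤ) ^ 2 + 2 * (t : ℤ) ^ 3) (by unfold Ev Nq; ring) (by unfold Ev Nq; ring)
    (by positivity) (by positivity)

theorem sep_2_11 (t : ℕ) : ¬ Nq ((t : ℤ) + 2) ∣ Ev ((t : ℤ) + 2) 0 0 0 (-1) - Ev ((t : ℤ) + 2) 0 0 (-1) 0 :=
  nd_between (1) (12 + 28 * (t : ℤ) + 23 * (t : ℤ) ^ 2 + 8 * (t : ℤ) ^ 3 + 1 * (t : ℤ) ^ 4) (9 + 15 * (t : ℤ) + 7 * (t : ℤ) ^ 2 + 1 * (t : ℤ) ^ 3) (by unfold Ev Nq; ring) (by unfold Ev Nq; ring)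
    (by positivity) (by positivity)

theorem sep_3_0 (t : ℕ) : ¬ Nq ((t : ℤ) + 2) ∣ Ev ((t : ℤ) + 2) (-1) (-2) (-1) (-1) - Ev ((t : ℤ) + 2) 0 0 0 1 :=
  nd_between (1) (3 + 22 * (t : ℤ) + 22 * (t : ℤ) ^ 2 + 8 * (t : ℤ) ^ 3 + 1 * (t : ℤ) ^ 4) (18 + 21 * (t : ℤ) + 8 * (t : ℤ) ^ 2 + 1 * (t : ℤ) ^ 3) (by unfold Ev Nq; ring) (by unfold Ev Nq; ring)
    (by positivity) (by positivity)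

theorem sep_3_1 (t : ℕ) : ¬ Nq ((t : ℤ) + 2) ∣ Ev ((t : ℤ) + 2) (-1) (-1) 0 (-1) - Ev ((t : ℤ) + 2) 0 0 0 1 :=
  nd_between (1) (5 + 23 * (t : ℤ) + 22 * (t : ℤ) ^ 2 + 8 * (t : ℤ) ^ 3 + 1 * (t : ℤ) ^ 4) (16 + 20 * (t : ℤ) + 8 * (t : ℤ) ^ 2 + 1 * (t : ℤ) ^ 3) (by unfold Ev Nq; ring) (by unfold Ev Nq; ring)
    (by positivity) (by positivity)

theorem sep_3_2 (t : ℕ) : ¬ Nq ((t : ℤ) + 2) ∣ Ev ((t : ℤ) + 2) (-1) (-1) 0 0 - Ev ((t : ℤ) + 2) 0 0 0 1 :=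
  nd_between (1) (9 + 27 * (t : ℤ) + 23 * (t : ℤ) ^ 2 + 8 * (t : ℤ) ^ 3 + 1 * (t : ℤ) ^ 4) (12 + 16 * (t : ℤ) + 7 * (t : ℤ) ^ 2 + 1 * (t : ℤ) ^ 3) (by unfold Ev Nq; ring) (by unfold Ev Nq; ring)
    (by positivity) (by positivity)

theorem sep_3_3 (t : ℕ) : ¬ Nq ((t : ℤ) + 2) ∣ Ev ((t : ℤ) + 2) (-1) (-1) (-1) (-1) - Ev ((t : ℤ) + 2) 0 0 0 1 :=
  nd_between (1) (10 + 34 * (t : ℤ) + 28 * (t : ℤ) ^ 2 + 9 * (t : ℤ) ^ 3 + 1 * (t : ℤ) ^ 4) (11 + 9 * (t : ℤ) + 2 * (t : ℤ) ^ 2) (by unfold Ev Nq; ring) (by unfold Ev Nq; ring)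
    (by positivity) (by positivity)

theorem sep_3_4 (t : ℕ) : ¬ Nq ((t : ℤ) + 2) ∣ Ev ((t : ℤ) + 2) (-1) (-1) (-1) 0 - Ev ((t : ℤ) + 2) 0 0 0 1 :=
  nd_between (1) (14 + 38 * (t : ℤ) + 29 * (t : ℤ) ^ 2 + 9 * (t : ℤ) ^ 3 + 1 * (t : ℤ) ^ 4) (7 + 5 * (t : ℤ) + 1 * (t : ℤ) ^ 2) (by unfold Ev Nq; ring) (by unfold Ev Nq; ring)
    (by positivity) (by positivity)

theorem sep_3_5 (t : ℕ) : ¬ Nq ((t : ℤ) + 2) ∣ Ev ((t : ℤ) + 2) (-1) 0 0 0 - Ev ((t : ℤ) + 2) 0 0 0 1 :=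
  nd_between (1) (16 + 39 * (t : ℤ) + 29 * (t : ℤ) ^ 2 + 9 * (t : ℤ) ^ 3 + 1 * (t : ℤ) ^ 4) (5 + 4 * (t : ℤ) + 1 * (t : ℤ) ^ 2) (by unfold Ev Nq; ring) (by unfold Ev Nq; ring)
    (by positivity) (by positivity)

theorem sep_3_6 (t : ℕ) : ¬ Nq ((t : ℤ) + 2) ∣ Ev ((t : ℤ) + 2) 0 (-1) 0 (-1) - Ev ((t : ℤ) + 2) 0 0 0 1 :=
  nd_between (1) (6 + 23 * (t : ℤ) + 22 * (t : ℤ) ^ 2 + 8 * (t : ℤ) ^ 3 + 1 * (t : ℤ) ^ 4) (15 + 20 * (t : ℤ) + 8 * (t : ℤ) ^ 2 + 1 * (t : ℤ) ^ 3) (by unfold Ev Nq; ring) (by unfold Ev Nq; ring)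
    (by positivity) (by positivity)

theorem sep_3_7 (t : ℕ) : ¬ Nq ((t : ℤ) + 2) ∣ Ev ((t : ℤ) + 2) 0 (-1) 0 0 - Ev ((t : ℤ) + 2) 0 0 0 1 :=
  nd_between (1) (10 + 27 * (t : ℤ) + 23 * (t : ℤ) ^ 2 + 8 * (t : ℤ) ^ 3 + 1 * (t : ℤ) ^ 4) (11 + 16 * (t : ℤ) + 7 * (t : ℤ) ^ 2 + 1 * (t : ℤ) ^ 3) (by unfold Ev Nq; ring) (by unfold Ev Nq; ring)
    (by positivity) (by positivity)

theorem sep_3_8 (t : ℕ) : ¬ Nq ((t : ℤ) + 2) ∣ Ev ((t : ℤ) + 2) 0 (-1) (-1) (-1) - Ev ((t : ℤ) + 2) 0 0 0 1 :=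
  nd_between (1) (11 + 34 * (t : ℤ) + 28 * (t : ℤ) ^ 2 + 9 * (t : ℤ) ^ 3 + 1 * (t : ℤ) ^ 4) (10 + 9 * (t : ℤ) + 2 * (t : ℤ) ^ 2) (by unfold Ev Nq; ring) (by unfold Ev Nq; ring)
    (by positivity) (by positivity)

theorem sep_3_9 (t : ℕ) : ¬ Nq ((t : ℤ) + 2) ∣ Ev ((t : ℤ) + 2) 0 (-1) (-1) 0 - Ev ((t : ℤ) + 2) 0 0 0 1 :=
  nd_between (1) (15 + 38 * (t : ℤ) + 29 * (t : ℤ) ^ 2 + 9 * (t : ℤ) ^ 3 + 1 * (t : ℤ) ^ 4) (6 + 5 * (t : ℤ) + 1 * (t : ℤ) ^ 2) (by unfold Ev Nq; ring) (by unfold Ev Nq; ring)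
    (by positivity) (by positivity)

theorem sep_3_10 (t : ℕ) : ¬ Nq ((t : ℤ) + 2) ∣ Ev ((t : ℤ) + 2) 0 0 1 0 - Ev ((t : ℤ) + 2) 0 0 0 1 :=
  nd_between (1) (12 + 28 * (t : ℤ) + 23 * (t : ℤ) ^ 2 + 8 * (t : ℤ) ^ 3 + 1 * (t : ℤ) ^ 4) (9 + 15 * (t : ℤ) + 7 * (t : ℤ) ^ 2 + 1 * (t : ℤ) ^ 3) (by unfold Ev Nq; ring) (by unfold Ev Nq; ring)
    (by positivity) (by positivity)

theorem sep_3_11 (t : ℕ) : ¬ Nq ((t : ℤ) + 2) ∣ Ev ((t : ℤ) + 2) 0 0 0 (-1) - Ev ((t : ℤ) + 2) 0 0 0 1 :=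
  nd_between (1) (13 + 35 * (t : ℤ) + 28 * (t : ℤ) ^ 2 + 9 * (t : ℤ) ^ 3 + 1 * (t : ℤ) ^ 4) (8 + 8 * (t : ℤ) + 2 * (t : ℤ) ^ 2) (by unfold Ev Nq; ring) (by unfold Ev Nq; ring)
    (by positivity) (by positivity)

theorem d4_reg_all (t : ℕ) : ∀ r, 12 ≤ r → r < 24 → ¬ Nq ((t : ℤ) + 2) ∣ D4E ((t : ℤ) + 2) r := by
  intro r h1 h2
  interval_cases r
  · exact reg_12 t
  · exact reg_13 t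
  · exact reg_14 t
  · exact reg_15 t
  · exact reg_16 t
  · exact reg_17 t
  · exact reg_18 t
  · exact reg_19 t
  · exact reg_20 t
  · exact reg_21 t
  · exact reg_22 t
  · exact reg_23 t

theorem d4_sep_all (t : ℕ) : ∀ i < 4, ∀ s < 12,
    ¬ Nq ((t : ℤ) + 2) ∣ D4E ((t : ℤ) + 2) (s2T.getD s 0) - D4E ((t : ℤ) + 2) (s2T.getD ([18, 14, 13, 12].getD i 0) 0) := by
  intro i hi s hs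
  interval_cases i <;> interval_cases s
  · exact sep_0_0 t
  · exact sep_0_1 t
  · exact sep_0_2 t
  · exact sep_0_3 t
  · exact sep_0_4 t
  · exact sep_0_5 t
  · exact sep_0_6 t
  · exact sep_0_7 t
  · exact sep_0_8 t
  · exact sep_0_9 t
  · exact sep_0_10 t
  · exact sep_0_11 t
  · exact sep_1_0 t
  · exact sep_1_1 t
  · exact sep_1_2 t
  · exact sep_1_3 t
  · exact sep_1_4 t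
  · exact sep_1_5 t
  · exact sep_1_6 t
  · exact sep_1_7 t
  · exact sep_1_8 t
  · exact sep_1_9 t
  · exact sep_1_10 t
  · exact sep_1_11 t
  · exact sep_2_0 t
  · exact sep_2_1 t
  · exact sep_2_2 t
  · exact sep_2_3 t
  · exact sep_2_4 t
  · exact sep_2_5 t
  · exact sep_2_6 t
  · exact sep_2_7 t
  · exact sep_2_8 t
  · exact sep_2_9 t
  · exact sep_2_10 t
  · exact sep_2_11 t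
  · exact sep_3_0 t
  · exact sep_3_1 t
  · exact sep_3_2 t
  · exact sep_3_3 t
  · exact sep_3_4 t
  · exact sep_3_5 t
  · exact sep_3_6 t
  · exact sep_3_7 t
  · exact sep_3_8 t
  · exact sep_3_9 t
  · exact sep_3_10 t
  · exact sep_3_11 t

end Cfsg.Agent.Lib.H29.D4Sing
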