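import Mathlib
import Cfsg.Prelude.Def_LieTwisted
import Cfsg.Agent.Lib.H29.D4SingC
import Cfsg.Agent.Lib.H29.D4SingD

/-!
# `³D₄(q)`: the rational elements of the torus of order `(q³ - 1)(q + 1)`
-/

set_option autoImplicit false
set_option linter.unusedSectionVars false
set_option linter.unusedSimpArgs false
set_option linter.unusedVariables false

namespace Cfsg.Agent.Lib.H29.D4Sing

open Cfsg.Lie Matrix Cfsg.Agent.Lib.H29.Chev Cfsg.Agent.Lib.H12 Cfsg.Agent.Lib.H29.G2Inv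

local notation "xd" => cert12_D4.c6.c2.xA

/-- the rank one homomorphism at the central node -/
noncomputable def phiD (F : Type*) [Field F] : Matrix.SpecialLinearGroup (Fin 2) F →* GL chevD4.Idx F :=
  cert12_D4.phiR F 14

variable {K : Type*} [Field K] (φ : K →+* K)

/-- the group generated by the `σ`-fixed elements -/
def G1 : Subgroup (GL chevD4.Idx K) := Subgroup.closure (cert12_D4.twGen gaD4a 3 φ srD4a)

theorem twistedD4_eq (q : ℕ) (hφ : ∀ x, φ x = x ^ q) : twistedD4 K q = G1 φ := by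
  unfold twistedD4 ChevalleyDatum.genSubgroup G1
  rw [twGen_D4 q φ hφ]

theorem G1_spec (hφk : ∀ x : K, φ^[3] x = x) :
    G1 φ ≤ chevD4.group K ∧ G1 φ ≤ fixS (cert12_D4.c6.c2.sigma twD4a_spec.ginv φ) ∧
    (fixS (sigT fdD4 gaD4a 3 φ)).map (chiHom chevD4 fdD4 K) ≤ G1 φ := by
  obtain ⟨h1, h2, _, h4, _⟩ := cert12_D4.twGen_spec twD4a_spec twD4a_spec2 φ (Or.inr rfl) hφk twD4a_chain twD4a_O
  exact ⟨h1, h2, h4⟩

theorem xS_of_fixed (r : ℕ) (hfix : fdD4.gRoot gaD4a r = r) (t : K) :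
    cert12_D4.xS gaD4a 3 φ r t = xd r t := by
  unfold Cert12.xS FD.os
  rw [if_pos hfix]
  simp only [List.range_one, List.map_cons, List.map_nil, List.prod_cons, List.prod_nil, mul_one]
  exact cert12_D4.aj_zero twD4a_spec φ r t

theorem xA14_mem (t : K) (ht : φ t = t) : xd 14 t ∈ G1 φ := by
  apply Subgroup.subset_closure
  refine ⟨1, by decide, t, fun _ => ht, Or.inl ?_⟩
  exact (xS_of_fixed φ 14 (by decide) t).symm

theorem xA9_mem (t : K) (ht : φ t = t) : xd 9 t ∈ G1 φ := by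
  apply Subgroup.subset_closure
  refine ⟨1, by decide, t, fun _ => ht, Or.inr ?_⟩
  exact (xS_of_fixed φ 9 (by decide) t).symm

/-- the `σ`-fixed elements of the torus -/
noncomputable def hv (s t : Kˣ) : GL chevD4.Idx K := chiHom chevD4 fdD4 K (vecD4 φ s t)

theorem hv_mem_diag (s t : Kˣ) : hv φ s t ∈ chevD4.diagonalSubgroup K := by
  rw [cert12_D4.diag_eq_range]
  exact ⟨_, rfl⟩

theorem hv_mem (hφk : ∀ x : K, φ^[3] x = x) (s t : Kˣ) (hs : φ (s : K) = s) : hv φ s t ∈ G1 φ := by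
  apply (G1_spec φ hφk).2.2
  refine ⟨vecD4 φ s t, vecD4_fix φ hφk s t ?_, rfl⟩
  apply Units.ext
  exact hs

theorem dE_hv (s t : Kˣ) (r : ℕ) (hr : r < 24) :
    dE chevD4 (hv φ s t) r = ((t ^ fdD4.carZ 0 r * s ^ fdD4.carZ 1 r * (Units.map φ.toMonoidHom t) ^ fdD4.carZ 2 r *
      ((Units.map φ.toMonoidHom)^[2] t) ^ fdD4.carZ 3 r : Kˣ) : K) := by
  unfold hv
  rw [cert12_D4.dE_chiHom _ r hr]
  congr 1
  show ∏ i : Fin 4, vecD4 φ s t i ^ fdD4.carZ i.val r = _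
  rw [Fin.prod_univ_four]
  rfl

theorem dE_hv_18 (s t : Kˣ) : dE chevD4 (hv φ s t) 18 = (t : K) ^ 2 * (s : K)⁻¹ := by
  rw [dE_hv φ s t 18 (by norm_num), d4_car18.1, d4_car18.2.1, d4_car18.2.2.1, d4_car18.2.2.2]
  simp

theorem dE_hv_14 (s t : Kˣ) : dE chevD4 (hv φ s t) 14 =
    (s : K) ^ 2 * ((t : K) * φ t * φ (φ t))⁻¹ := by
  rw [dE_hv φ s t 14 (by norm_num), d4_car14.1, d4_car14.2.1, d4_car14.2.2.1, d4_car14.2.2.2]
  simp
  ring

/-- the element `c = [[0, 1], [-1, tr]]` of `SL₂` -/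
def c1M (tr : K) : Matrix.SpecialLinearGroup (Fin 2) K := mk2 0 1 (-1) tr (by ring)

theorem c1M_eq (tr : K) : c1M tr = StPresG.wM 1 one_ne_zero * StPresG.upM (-tr) := by
  apply StPresG.sl2_ext <;>
    simp [c1M, Matrix.SpecialLinearGroup.coe_mul, Matrix.mul_apply, Fin.sum_univ_two]

theorem phiD_c1M_mem (tr : K) (htr : φ tr = tr) : phiD K (c1M tr) ∈ G1 φ := by
  unfold phiD
  rw [c1M_eq, map_mul, cert12_D4.phiR_wM 14 (by decide), cert12_D4.phiR_up 14 (by decide)]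
  unfold ChevSL2.wG
  have e9 : fdD4.n - 1 - 14 = 9 := rfl
  rw [e9]
  refine mul_mem (mul_mem (mul_mem (xA14_mem φ 1 (map_one φ)) (xA9_mem φ _ ?_)) (xA14_mem φ 1 (map_one φ)))
    (xA14_mem φ _ ?_)
  · rw [map_neg, map_inv₀, map_one]
  · rw [map_neg, htr]

end Cfsg.Agent.Lib.H29.D4Sing
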