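import Mathlib
import Cfsg.Prelude.Def_LieTwisted
import Cfsg.Agent.Lib.H29.D4SingG

/-!
# `³D₄(q)`: diagonalising the torus of order `(q³ - 1)(q + 1)` over the field with `q⁶` elements
-/

set_option autoImplicit false
set_option linter.unusedSectionVars false
set_option linter.unusedSimpArgs false
set_option linter.unusedVariables false

namespace Cfsg.Agent.Lib.H29.D4Sing

open Cfsg.Lie Matrix Cfsg.Agent.Lib.H29.Chev Cfsg.Agent.Lib.H12 Cfsg.Agent.Lib.H29.G2Inv

local notation "xd" => cert12_D4.c6.c2.xA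

namespace D4Field

variable {K K' : Type*} [Field K] [Field K'] {q : ℕ} (S : D4Field K K' q)

/-- `ν` -/
def n0 : K' := (S.ν : K')

/-- `ν ^ q` -/
def n1 : K' := (S.ν : K') ^ q

theorem n0_ne : S.n0 ≠ 0 := S.ν.ne_zero

theorem n1_ne : S.n1 ≠ 0 := pow_ne_zero _ S.ν.ne_zero

include S in
theorem q21 : 0 < q ^ 2 - 1 := by
  have := S.hq
  have : 4 ≤ q ^ 2 := by nlinarith
  omega

theorem nu_pow : (S.ν : K') ^ (q ^ 2) = S.ν := by
  have h1 : S.ν ^ (q ^ 2 - 1) = 1 := by rw [← S.hν]; exact pow_orderOf_eq_one S.ν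
  have h3 : S.ν ^ (q ^ 2) = S.ν := by
    have : q ^ 2 = (q ^ 2 - 1) + 1 := by have := S.q21; omega
    rw [this, pow_succ, h1, one_mul]
  have := congrArg Units.val h3
  rwa [Units.val_pow_eq_pow_val] at this

theorem phi'_n0 : S.φ' S.n0 = S.n1 := S.hφ' _

theorem phi'_n1 : S.φ' S.n1 = S.n0 := by
  unfold n1 n0
  rw [S.hφ', ← pow_mul, ← pow_two, S.nu_pow]

/-- `δ = ν ^ q - ν` -/
def delta : K' := S.n1 - S.n0

theorem delta_ne : S.delta ≠ 0 := by
  unfold delta n1 n0
  intro h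
  have h1 : (S.ν : K') ^ q = S.ν := by linear_combination h
  have h2 : S.ν ^ q = S.ν := by
    apply Units.ext
    rw [Units.val_pow_eq_pow_val]
    exact h1
  have hq := S.hq
  have h3 : S.ν ^ (q - 1) = 1 := by
    have : S.ν ^ (q - 1) * S.ν = S.ν := by
      rw [← pow_succ, Nat.sub_add_cancel (by omega)]
      exact h2
    exact mul_eq_right.mp this
  have h4 := orderOf_dvd_of_pow_eq_one h3
  rw [S.hν] at h4
  have h5 := Nat.le_of_dvd (by omega) h4
  have : q ^ 2 = q * q := pow_two q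
  have : 2 * q ≤ q * q := Nat.mul_le_mul_right q hq
  omega

theorem phi'_delta : S.φ' S.delta = -S.delta := by
  unfold delta
  rw [map_sub, S.phi'_n1, S.phi'_n0]
  ring

theorem iota_phi (x : K) : S.ι (S.φ x) = S.φ' (S.ι x) := by
  rw [S.hφ, S.hφ', map_pow]

theorem iota_tr : S.ι S.tr = S.n0 + S.n1 := S.hιtr

theorem iota_d : S.ι (S.d : K) = S.n0 * S.n1 := by
  rw [S.hιd, pow_succ, mul_comm]
  rfl

/-- the matrix of eigenvectors -/
noncomputable def aM : Matrix.SpecialLinearGroup (Fin 2) K' :=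
  mk2 S.delta⁻¹ 1 (S.delta⁻¹ * S.n0) S.n1 (by
    have := S.delta_ne
    have e : S.n1 = S.delta + S.n0 := by unfold delta; ring
    rw [e]
    field_simp
    ring)

theorem aM_sigma : Matrix.SpecialLinearGroup.map S.φ' S.aM = S.aM * StPresG.wM S.delta S.delta_ne := by
  have hd := S.delta_ne
  apply StPresG.sl2_ext <;>
    simp [aM, Matrix.SpecialLinearGroup.map_apply_coe, Matrix.SpecialLinearGroup.coe_mul, Matrix.mul_apply,
      Fin.sum_univ_two, S.phi'_delta, S.phi'_n0, S.phi'_n1, map_inv₀] <;> field_simp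

/-- `ι d` as a unit -/
noncomputable def d' : K'ˣ := Units.map S.ι.toMonoidHom S.d

theorem d'_val : (S.d' : K') = S.n0 * S.n1 := S.iota_d

theorem c1_aM : Matrix.SpecialLinearGroup.map S.ι (c1M S.tr) * dcj S.d' S.aM =
    S.aM * StPresG.dgM S.n1⁻¹ (inv_ne_zero S.n1_ne) := by
  have hd := S.delta_ne
  have h0 := S.n0_ne
  have h1 := S.n1_ne
  apply StPresG.sl2_ext <;>
    simp [aM, c1M, Matrix.SpecialLinearGroup.map_apply_coe, Matrix.SpecialLinearGroup.coe_mul, Matrix.mul_apply,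
      Fin.sum_univ_two, S.iota_tr, S.d'_val] <;> field_simp <;> ring

end D4Field

end Cfsg.Agent.Lib.H29.D4Sing
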