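import Mathlib
import Cfsg.Prelude.Def_LieTwisted
import Cfsg.Agent.Lib.H29.D4SingH

/-!
# `³D₄(q)`: conjugating the rational torus into the diagonal torus over the field with `q⁶` elements
-/

set_option autoImplicit false
set_option linter.unusedSectionVars false
set_option linter.unusedSimpArgs false
set_option linter.unusedVariables false

namespace Cfsg.Agent.Lib.H29.D4Sing

open Cfsg.Lie Matrix Cfsg.Agent.Lib.H29.Chev Cfsg.Agent.Lib.H12 Cfsg.Agent.Lib.H29.G2Inv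

local notation "xd" => cert12_D4.c6.c2.xA

theorem dE_bc {D : ChevalleyDatum} {K F : Type*} [Field K] [Field F] (ι : K →+* F) (g : GL D.Idx K) (r : ℕ) :
    dE D (bc D ι g) r = ι (dE D g r) := by
  unfold dE
  split_ifs
  · rfl
  · rw [map_one]

theorem dcj_one {F : Type*} [Field F] (X : Matrix.SpecialLinearGroup (Fin 2) F) : dcj (1 : Fˣ) X = X := by
  apply StPresG.sl2_ext <;> simp

namespace D4Field

variable {K K' : Type*} [Field K] [Field K'] {q : ℕ} (S : D4Field K K' q)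

/-- the conjugating element -/
noncomputable def A : GL chevD4.Idx K' := phiD K' S.aM

/-- the element of `N` twisting the Frobenius -/
noncomputable def nW : GL chevD4.Idx K' := phiD K' (StPresG.wM S.delta S.delta_ne)

/-- `σ` over the big field -/
noncomputable def sig' : GL chevD4.Idx K' →* GL chevD4.Idx K' := cert12_D4.c6.c2.sigma twD4a_spec.ginv S.φ'

/-- `σ` over the small field -/
noncomputable def sig : GL chevD4.Idx K →* GL chevD4.Idx K := cert12_D4.c6.c2.sigma twD4a_spec.ginv S.φ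

/-- base change followed by conjugation by `A⁻¹` -/
noncomputable def cj : GL chevD4.Idx K →* GL chevD4.Idx K' :=
  (MulAut.conj S.A⁻¹).toMonoidHom.comp (bc chevD4 S.ι)

theorem cj_apply (g : GL chevD4.Idx K) : S.cj g = S.A⁻¹ * bc chevD4 S.ι g * S.A := by
  unfold cj
  simp [MulAut.conj_apply]

theorem cj_injective : Function.Injective S.cj := by
  intro g g' h
  rw [S.cj_apply, S.cj_apply] at h
  apply bc_injective S.ι
  have : bc chevD4 S.ι g = S.A * (S.A⁻¹ * bc chevD4 S.ι g * S.A) * S.A⁻¹ := by group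
  rw [this, h]
  group

theorem A_mem : S.A ∈ chevD4.group K' := cert12_D4.phiR_mem_group 14 (by decide) _

theorem cj_mem_group (g : GL chevD4.Idx K) (hg : g ∈ chevD4.group K) : S.cj g ∈ chevD4.group K' := by
  rw [S.cj_apply]
  exact mul_mem (mul_mem (inv_mem S.A_mem) (cert12_D4.c6.c2.bc_group_le S.ι ⟨g, hg, rfl⟩)) S.A_mem

theorem sigma_A : S.sig' S.A = S.A * S.nW := by
  unfold sig' A nW phiD
  rw [cert12_D4.sigma_phiR twD4a_spec.ginv twD4a_spec.graph S.φ' 14 (by decide) (by decide) d4_gEps.1 (by decide)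
    d4_gEps.2, S.aM_sigma, map_mul]

theorem bc_sig (g : GL chevD4.Idx K) : bc chevD4 S.ι (S.sig g) = S.sig' (bc chevD4 S.ι g) :=
  cert12_D4.c6.c2.bc_sigma S.ι S.φ S.φ' S.iota_phi twD4a_spec.ginv g

/-- the descent relation -/
theorem cj_sigma (g : GL chevD4.Idx K) (hg : S.sig g = g) : S.cj g = S.nW * S.sig' (S.cj g) * S.nW⁻¹ := by
  have e1 : S.sig' (S.cj g) = (S.A * S.nW)⁻¹ * bc chevD4 S.ι g * (S.A * S.nW) := by
    rw [S.cj_apply, map_mul, map_mul, map_inv, S.sigma_A, ← S.bc_sig, hg]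
  rw [e1, S.cj_apply]
  group

theorem nW_perm : cert12_D4.c6.c2.Perm S.nW (fdD4.sw fxD4 1) :=
  cert12_D4.perm_phiR_wM 1 (by decide) S.delta S.delta_ne

theorem nW_mem : S.nW ∈ chevD4.monomialSubgroup K' :=
  cert12_D4.phiR_wM_mem_monomial 1 (by decide) S.delta S.delta_ne

/-- elements of the torus on which the central node vanishes are fixed by `cj` -/
theorem cj_of_dE14 (h : GL chevD4.Idx K) (hh : h ∈ chevD4.diagonalSubgroup K) (h14 : dE chevD4 h 14 = 1) :
    S.cj h = bc chevD4 S.ι h := by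
  have hb : bc chevD4 S.ι h ∈ chevD4.diagonalSubgroup K' := cert12_D4.bc_diag_le S.ι ⟨h, hh, rfl⟩
  have hd : ((1 : K'ˣ) : K') = dE chevD4 (bc chevD4 S.ι h) 14 := by
    rw [dE_bc, h14, map_one, Units.val_one]
  have := cert12_D4.phiR_conj_diag _ hb 14 (by decide) 1 hd S.aM
  rw [dcj_one] at this
  rw [S.cj_apply]
  unfold A phiD
  rw [mul_assoc, this]
  group

/-- the semisimple element `g₀` of the rank one subgroup, twisted by the torus -/
noncomputable def g0 : GL chevD4.Idx K := phiD K (c1M S.tr) * hv S.φ (S.d ^ 2) S.d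

/-- its diagonal form -/
noncomputable def k0 : GL chevD4.Idx K' :=
  phiD K' (StPresG.dgM S.n1⁻¹ (inv_ne_zero S.n1_ne)) * bc chevD4 S.ι (hv S.φ (S.d ^ 2) S.d)

theorem dE_hd_14 : dE chevD4 (hv S.φ (S.d ^ 2) S.d) 14 = (S.d : K) := by
  rw [dE_hv_14, S.hd, S.hd]
  have := S.d.ne_zero
  push_cast
  field_simp

theorem dE_hd_18 : dE chevD4 (hv S.φ (S.d ^ 2) S.d) 18 = 1 := by
  rw [dE_hv_18]
  have := S.d.ne_zero
  push_cast
  field_simp

theorem cj_g0 : S.cj S.g0 = S.k0 := by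
  have hh : hv S.φ (S.d ^ 2) S.d ∈ chevD4.diagonalSubgroup K := hv_mem_diag _ _ _
  have hb : bc chevD4 S.ι (hv S.φ (S.d ^ 2) S.d) ∈ chevD4.diagonalSubgroup K' :=
    cert12_D4.bc_diag_le S.ι ⟨_, hh, rfl⟩
  have hd : (S.d' : K') = dE chevD4 (bc chevD4 S.ι (hv S.φ (S.d ^ 2) S.d)) 14 := by
    rw [dE_bc, S.dE_hd_14]
    rfl
  have e1 := cert12_D4.phiR_conj_diag _ hb 14 (by decide) S.d' hd S.aM
  rw [S.cj_apply]
  unfold g0 k0 A phiD
  rw [map_mul, cert12_D4.bc_phiR S.ι 14 (by decide)]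
  have e2 : (cert12_D4.phiR K' 14 S.aM)⁻¹ *
      (cert12_D4.phiR K' 14 (Matrix.SpecialLinearGroup.map S.ι (c1M S.tr)) * bc chevD4 S.ι (hv S.φ (S.d ^ 2) S.d)) *
        cert12_D4.phiR K' 14 S.aM =
      (cert12_D4.phiR K' 14 S.aM)⁻¹ * cert12_D4.phiR K' 14 (Matrix.SpecialLinearGroup.map S.ι (c1M S.tr)) *
        (bc chevD4 S.ι (hv S.φ (S.d ^ 2) S.d) * cert12_D4.phiR K' 14 S.aM) := by group
  rw [e2, e1, ← mul_assoc, ← map_inv, ← map_mul, ← map_mul, mul_assoc S.aM⁻¹, S.c1_aM, ← mul_assoc, inv_mul_cancel,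
    one_mul]

theorem k0_mem_diag : S.k0 ∈ chevD4.diagonalSubgroup K' := by
  unfold k0 phiD
  exact mul_mem (cert12_D4.phiR_dgM_mem 14 (by decide) _ _)
    (cert12_D4.bc_diag_le S.ι ⟨_, hv_mem_diag _ _ _, rfl⟩)

theorem dE_k0_18 : dE chevD4 S.k0 18 = S.n1 := by
  unfold k0 phiD
  rw [cert12_D4.dE_mul _ _ (cert12_D4.phiR_dgM_mem 14 (by decide) _ _)
    (cert12_D4.bc_diag_le S.ι ⟨_, hv_mem_diag _ _ _, rfl⟩) 18 (by decide),
    cert12_D4.dE_phiR_dgM 14 18 (by decide) (by decide), d4_pr14.1, dE_bc, S.dE_hd_18, map_one, mul_one]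
  simp

end D4Field

end Cfsg.Agent.Lib.H29.D4Sing
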