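import Mathlib
import Cfsg.Prelude.Def_LieTwisted
import Cfsg.Agent.Lib.H29.D4SingI
import Cfsg.Agent.Lib.H29.D4SingF

/-!
# `³D₄(q)`: the descent relations on the diagonal form of the rational torus
-/

set_option autoImplicit false
set_option linter.unusedSectionVars false
set_option linter.unusedSimpArgs false
set_option linter.unusedVariables false

namespace Cfsg.Agent.Lib.H29.D4Sing

open Cfsg.Lie Matrix Cfsg.Agent.Lib.H29.Chev Cfsg.Agent.Lib.H12 Cfsg.Agent.Lib.H29.G2Inv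

/-- the relations between the values at the fundamental roots -/
theorem torus_rel {M : Type*} [CommGroup M] (q : ℕ) (a1 a2 a3 a4 : M) (hinj : ∀ x y : M, x ^ q = y ^ q → x = y)
    (R1 : a2⁻¹ = a2 ^ q) (R2 : a2 * a3 = a1 ^ q) (R3 : a2 * a4 = a3 ^ q) (R4 : a1 * a2 = a4 ^ q) :
    a2 = a1 ^ ((q : ℤ) ^ 3 - 1) ∧ a3 = a1 ^ (1 + (q : ℤ) - (q : ℤ) ^ 3) ∧ a4 = a1 ^ ((q : ℤ) ^ 2) ∧
      a1 ^ (((q : ℤ) ^ 3 - 1) * ((q : ℤ) + 1)) = 1 := by
  have i : a2 ^ (q ^ 2) = a2 := by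
    rw [pow_two, pow_mul, ← R1, inv_pow, ← R1, inv_inv]
  have ii : a3 ^ (q ^ 2) = a1 := by
    rw [pow_two, pow_mul, ← R3, mul_pow, ← R1, ← R4, mul_comm a1, inv_mul_cancel_left]
  have iii : a1 ^ (q ^ 3) = a2 * a1 := by
    have : q ^ 3 = q * q ^ 2 := by ring
    rw [this, pow_mul, ← R2, mul_pow, i, ii]
  have e2 : a2 = a1 ^ (q ^ 3) * a1⁻¹ := by rw [iii, mul_inv_cancel_right]
  have e2z : a2 = a1 ^ ((q : ℤ) ^ 3 - 1) := by
    rw [_root_.zpow_sub, zpow_one, ← Nat.cast_pow, zpow_natCast]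
    exact e2
  have e3 : a3 = a1 ^ q * a2⁻¹ := by rw [← R2, mul_comm a2, mul_inv_cancel_right]
  have e3z : a3 = a1 ^ (1 + (q : ℤ) - (q : ℤ) ^ 3) := by
    rw [e3, e2z, ← zpow_natCast, ← _root_.zpow_neg, ← _root_.zpow_add]
    congr 1
    ring
  have e4 : a4 = a1 ^ (q ^ 2) := by
    apply hinj
    rw [← R4, ← pow_mul, e2, mul_comm (a1 ^ q ^ 3), ← mul_assoc, mul_inv_cancel, one_mul]
    congr 1
  have e4z : a4 = a1 ^ ((q : ℤ) ^ 2) := by
    rw [e4, ← zpow_natCast]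
    push_cast
    rfl
  refine ⟨e2z, e3z, e4z, ?_⟩
  rw [_root_.zpow_mul, ← e2z, _root_.zpow_add, zpow_one, zpow_natCast, ← R1, inv_mul_cancel]

namespace D4Field

variable {K K' : Type*} [Field K] [Field K'] {q : ℕ} (S : D4Field K K' q)

/-- the descent condition on an element of the diagonal torus -/
def Desc (k : GL chevD4.Idx K') : Prop :=
  k ∈ chevD4.diagonalSubgroup K' ∧ k = S.nW * S.sig' k * S.nW⁻¹

theorem desc_dE (k : GL chevD4.Idx K') (hk : S.Desc k) (r : ℕ) (hr : r < 24) :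
    dE chevD4 k (s1T.getD (gT.getD r 0) 0) = (dE chevD4 k r) ^ q := by
  have hσk : S.sig' k ∈ chevD4.diagonalSubgroup K' :=
    cert12_D4.sigma_diag twD4a_spec twD4a_spec2 S.φ' (by norm_num) k hk.1
  have hg : fdD4.gRoot gaD4a r < 24 := twD4a_spec.gRoot_lt r hr
  have h1 := cert12_D4.dE_conj S.nW (S.sig' k) S.nW_mem hσk (fdD4.sw fxD4 1) S.nW_perm (fdD4.gRoot gaD4a r) hg
  rw [← hk.2] at h1
  have h2 := cert12_D4.dE_sigma twD4a_spec twD4a_spec2 S.φ' (by norm_num) k hk.1 r hr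
  rw [d4_sw1 _ hg] at h1
  rw [← d4_gRoot r hr, h1]
  unfold sig'
  rw [h2, S.hφ']

/-- the values of a torus element at the roots in terms of its values at the fundamental roots -/
theorem dE_rc4 (k : GL chevD4.Idx K') (hk : k ∈ chevD4.diagonalSubgroup K') (a1 a2 a3 a4 : K'ˣ)
    (h1 : (a1 : K') = dE chevD4 k 18) (h2 : (a2 : K') = dE chevD4 k 14) (h3 : (a3 : K') = dE chevD4 k 13)
    (h4 : (a4 : K') = dE chevD4 k 12) (r : ℕ) (hr : r < 24) :
    dE chevD4 k r = ((a1 ^ tblGet rcT r 0 * a2 ^ tblGet rcT r 1 * a3 ^ tblGet rcT r 2 * a4 ^ tblGet rcT r 3 : K'ˣ) : K') := by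
  let a : Fin fdD4.l → K'ˣ := fun j =>
    if j.val = 0 then a1 else if j.val = 1 then a2 else if j.val = 2 then a3 else a4
  have ha : ∀ j : Fin fdD4.l, ((a j : K'ˣ) : K') = dE chevD4 k (fdD4.simples.getD j.val 0) := by
    rintro ⟨j, hj⟩
    have hj' : j < 4 := hj
    interval_cases j
    · exact h1
    · exact h2
    · exact h3
    · exact h4
  rw [cert12_D4.dE_rc k hk a ha r hr]
  congr 1
  show ∏ j : Fin 4, a j ^ fdD4.rcZ fxD4 r j.val = _
  rw [Fin.prod_univ_four, ← d4_rc r hr 0 (by norm_num), ← d4_rc r hr 1 (by norm_num), ← d4_rc r hr 2 (by norm_num),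
    ← d4_rc r hr 3 (by norm_num)]
  rfl

include S in
theorem pow_q_inj (x y : K'ˣ) (h : x ^ q = y ^ q) : x = y := by
  apply Units.ext
  apply S.φ'.injective
  rw [S.hφ', S.hφ', ← Units.val_pow_eq_pow_val, ← Units.val_pow_eq_pow_val, h]

/-- **the values of a descended torus element are powers of its value at the first fundamental root** -/
theorem desc_zpow (k : GL chevD4.Idx K') (hk : S.Desc k) (a1 : K'ˣ) (h1 : (a1 : K') = dE chevD4 k 18) :
    (∀ r < 24, dE chevD4 k r = ((a1 ^ D4E (q : ℤ) r : K'ˣ) : K')) ∧ a1 ^ Nq (q : ℤ) = 1 := by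
  have hne : ∀ r < 24, dE chevD4 k r ≠ 0 := fun r hr => cert12_D4.dE_ne_zero k hk.1 r hr
  set a2 : K'ˣ := Units.mk0 _ (hne 14 (by norm_num)) with ha2
  set a3 : K'ˣ := Units.mk0 _ (hne 13 (by norm_num)) with ha3
  set a4 : K'ˣ := Units.mk0 _ (hne 12 (by norm_num)) with ha4
  have h2 : (a2 : K') = dE chevD4 k 14 := rfl
  have h3 : (a3 : K') = dE chevD4 k 13 := rfl
  have h4 : (a4 : K') = dE chevD4 k 12 := rfl
  have hrc := dE_rc4 k hk.1 a1 a2 a3 a4 h1 h2 h3 h4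
  have R1 : a2⁻¹ = a2 ^ q := by
    apply Units.ext
    have e1 := S.desc_dE k hk 14 (by norm_num)
    have e2 := cert12_D4.dE_neg k hk.1 14 (by decide)
    have e3 : s1T.getD (gT.getD 14 0) 0 = fdD4.n - 1 - 14 := rfl
    rw [e3, e2] at e1
    rw [Units.val_inv_eq_inv_val, Units.val_pow_eq_pow_val, h2]
    exact e1
  have R2 : a2 * a3 = a1 ^ q := by
    apply Units.ext
    have e1 := S.desc_dE k hk 18 (by norm_num)
    have e3 : s1T.getD (gT.getD 18 0) 0 = 16 := rfl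
    rw [e3, hrc 16 (by norm_num)] at e1
    rw [Units.val_pow_eq_pow_val, h1, ← e1]
    congr 1
    simp [tblGet, rcT]
  have R3 : a2 * a4 = a3 ^ q := by
    apply Units.ext
    have e1 := S.desc_dE k hk 13 (by norm_num)
    have e3 : s1T.getD (gT.getD 13 0) 0 = 15 := rfl
    rw [e3, hrc 15 (by norm_num)] at e1
    rw [Units.val_pow_eq_pow_val, h3, ← e1]
    congr 1
    simp [tblGet, rcT]
  have R4 : a1 * a2 = a4 ^ q := by
    apply Units.ext
    have e1 := S.desc_dE k hk 12 (by norm_num)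
    have e3 : s1T.getD (gT.getD 12 0) 0 = 19 := rfl
    rw [e3, hrc 19 (by norm_num)] at e1
    rw [Units.val_pow_eq_pow_val, h4, ← e1]
    congr 1
    simp [tblGet, rcT]
  obtain ⟨e2, e3, e4, eN⟩ := torus_rel q a1 a2 a3 a4 S.pow_q_inj R1 R2 R3 R4
  refine ⟨fun r hr => ?_, eN⟩
  rw [hrc r hr]
  congr 1
  rw [e2, e3, e4, ← _root_.zpow_mul, ← _root_.zpow_mul, ← _root_.zpow_mul, ← _root_.zpow_add, ← _root_.zpow_add,
    ← _root_.zpow_add]
  congr 1
  unfold D4E Ev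
  ring

end D4Field

end Cfsg.Agent.Lib.H29.D4Sing
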