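import Mathlib
import Cfsg.Prelude.Def_LieTwisted
import Cfsg.Agent.Lib.H29.D4SingJ
import Cfsg.Agent.Lib.H29.D4SingE
import Cfsg.Agent.Lib.H29.RegCent

/-!
# `³D₄(q)`: a rational element of order `(q³ - 1)(q + 1)` whose centraliser descends to the diagonal torus
-/

set_option autoImplicit false
set_option linter.unusedSectionVars false
set_option linter.unusedSimpArgs false
set_option linter.unusedVariables false

namespace Cfsg.Agent.Lib.H29.Chev

open Cfsg.Lie Matrix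

variable {D : ChevalleyDatum} {fd : FD} {fx : FX} {fc : FC} {fz : FZ} {F : Type*} [Field F]

namespace Cert12

variable (C : Cert12 D fd fx fc fz)
include C

theorem dE_pow (h : GL D.Idx F) (hh : h ∈ D.diagonalSubgroup F) (r : ℕ) (hr : r < fd.n) (n : ℕ) :
    dE D (h ^ n) r = (dE D h r) ^ n := by
  induction n with
  | zero => rw [pow_zero, pow_zero, C.dE_one]
  | succ n ih => rw [pow_succ, pow_succ, C.dE_mul _ _ (pow_mem hh n) hh r hr, ih]

theorem dE_zpow (h : GL D.Idx F) (hh : h ∈ D.diagonalSubgroup F) (r : ℕ) (hr : r < fd.n) (n : ℤ) :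
    dE D (h ^ n) r = (dE D h r) ^ n := by
  cases n with
  | ofNat n => rw [Int.ofNat_eq_natCast, zpow_natCast, zpow_natCast, C.dE_pow h hh r hr]
  | negSucc n => rw [zpow_negSucc, zpow_negSucc, C.dE_inv _ (pow_mem hh _) r hr, C.dE_pow h hh r hr]

end Cert12

end Cfsg.Agent.Lib.H29.Chev

namespace Cfsg.Agent.Lib.H29.D4Sing

open Cfsg.Lie Matrix Cfsg.Agent.Lib.H29.Chev Cfsg.Agent.Lib.H12 Cfsg.Agent.Lib.H29.G2Inv

namespace D4Field

variable {K K' : Type*} [Field K] [Field K'] {q : ℕ} (S : D4Field K K' q)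

/-- a descended torus element with trivial value at the first fundamental root is trivial -/
theorem desc_eq_one (k : GL chevD4.Idx K') (hk : S.Desc k) (h18 : dE chevD4 k 18 = 1) : k = 1 := by
  obtain ⟨hz, _⟩ := S.desc_zpow k hk 1 (by rw [Units.val_one, h18])
  apply cert12_D4.diag_ext k 1 hk.1 (one_mem _)
  intro i hi
  have hs := cert12_D4.c6.c2.simple_lt i hi
  rw [hz _ hs, _root_.one_zpow, Units.val_one, cert12_D4.dE_one]

theorem G1_sig (g : GL chevD4.Idx K) (hg : g ∈ G1 S.φ) : S.sig g = g := (G1_spec S.φ S.hφk).2.1 hg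

theorem desc_of_diag (g : GL chevD4.Idx K) (hg : g ∈ G1 S.φ) (hd : S.cj g ∈ chevD4.diagonalSubgroup K') :
    S.Desc (S.cj g) := ⟨hd, S.cj_sigma g (S.G1_sig g hg)⟩

/-- the norm of `u` -/
noncomputable def uN : Kˣ :=
  S.u * Units.map S.φ.toMonoidHom S.u * Units.map S.φ.toMonoidHom (Units.map S.φ.toMonoidHom S.u)

theorem uN_fix : S.φ (S.uN : K) = S.uN := by
  unfold uN
  have h3 : S.φ (S.φ (S.φ (S.u : K))) = S.u := S.hφk _
  push_cast
  simp only [Units.coe_map, RingHom.toMonoidHom_eq_coe, MonoidHom.coe_coe, map_mul, h3]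
  ring

/-- the element of the torus `H¹` on which the central node vanishes -/
noncomputable def zu : GL chevD4.Idx K := hv S.φ S.uN (S.u ^ 2)

theorem zu_mem : S.zu ∈ G1 S.φ := hv_mem S.φ S.hφk _ _ S.uN_fix

theorem dE_zu_14 : dE chevD4 S.zu 14 = 1 := by
  unfold zu
  rw [dE_hv_14]
  unfold uN
  have := S.u.ne_zero
  have h1 : S.φ (S.u : K) ≠ 0 := by rw [S.hφ]; exact pow_ne_zero _ this
  have h2 : S.φ (S.φ (S.u : K)) ≠ 0 := by rw [S.hφ]; exact pow_ne_zero _ h1
  push_cast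
  simp only [Units.coe_map, RingHom.toMonoidHom_eq_coe, MonoidHom.coe_coe, map_pow]
  field_simp

theorem map_phi_u : Units.map S.φ.toMonoidHom S.u = S.u ^ q := by
  apply Units.ext
  rw [Units.val_pow_eq_pow_val]
  exact S.hφ _

theorem uN_eq : S.uN = S.u ^ (1 + q + q ^ 2) := by
  unfold uN
  rw [S.map_phi_u, map_pow, S.map_phi_u, ← pow_mul, pow_add, pow_add, pow_one, pow_two]

/-- the value of `z_u` at the first fundamental root, as a unit -/
noncomputable def e1K : Kˣ := (S.u ^ 2) ^ 2 * S.uN⁻¹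

theorem dE_zu_18 : dE chevD4 S.zu 18 = (S.e1K : K) := by
  unfold zu e1K
  rw [dE_hv_18]
  push_cast
  rfl

include S in
theorem q3 : 0 < q ^ 3 - 1 := by
  have := S.hq
  have : 8 ≤ q ^ 3 := by
    calc 8 = 2 ^ 3 := by norm_num
      _ ≤ q ^ 3 := Nat.pow_le_pow_left S.hq 3
  omega

theorem orderOf_e1K : orderOf S.e1K = q ^ 3 - 1 := by
  have hq := S.hq
  have hq2 : 4 ≤ q ^ 2 := by nlinarith
  have e : S.e1K = (S.u ^ (q ^ 2 + q - 3))⁻¹ := by
    unfold e1K
    rw [S.uN_eq, ← pow_mul, eq_inv_iff_mul_eq_one, mul_comm (S.u ^ (2 * 2)), mul_assoc, ← pow_add, inv_mul_eq_one]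
    congr 1
    omega
  rw [e, orderOf_inv, (Nat.Coprime.orderOf_pow (by rw [S.hu]; exact coprime_aux q hq)), S.hu]

theorem cj_zu : S.cj S.zu = bc chevD4 S.ι S.zu := S.cj_of_dE14 _ (hv_mem_diag _ _ _) S.dE_zu_14

theorem g0_mem : S.g0 ∈ G1 S.φ := by
  unfold g0
  refine mul_mem (phiD_c1M_mem S.φ S.tr S.htr) (hv_mem S.φ S.hφk _ _ ?_)
  push_cast
  rw [map_pow, S.hd]

/-- `ι (e₁)` -/
noncomputable def e1 : K'ˣ := Units.map S.ι.toMonoidHom S.e1K

/-- `ν ^ q` -/
noncomputable def e2 : K'ˣ := S.ν ^ q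

theorem orderOf_e1 : orderOf S.e1 = q ^ 3 - 1 := by
  unfold e1
  rw [orderOf_injective (Units.map S.ι.toMonoidHom) (Units.map_injective S.ι.injective), S.orderOf_e1K]

theorem orderOf_e2 : orderOf S.e2 = q ^ 2 - 1 := by
  unfold e2
  have hq := S.hq
  have hc : Nat.Coprime (q ^ 2 - 1) q := by
    have h1 : 1 ≤ q ^ 2 := Nat.one_le_pow _ _ (by omega)
    rw [← Nat.isCoprime_iff_coprime]
    refine ⟨-1, q, ?_⟩
    push_cast [Nat.cast_sub h1]
    ring
  rw [(Nat.Coprime.orderOf_pow (by rw [S.hν]; exact hc)), S.hν]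

end D4Field

end Cfsg.Agent.Lib.H29.D4Sing
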