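import Mathlib
import Cfsg.Prelude.Def_LieTwisted
import Cfsg.Agent.Lib.H29.D4SingK

/-!
# `³D₄(q)`: the centraliser of the generator of the torus of order `(q³ - 1)(q + 1)`
-/

set_option autoImplicit false
set_option linter.unusedSectionVars false
set_option linter.unusedSimpArgs false
set_option linter.unusedVariables false

namespace Cfsg.Agent.Lib.H29.D4Sing

open Cfsg.Lie Matrix Cfsg.Agent.Lib.H29.Chev Cfsg.Agent.Lib.H12 Cfsg.Agent.Lib.H29.G2Inv

namespace D4Field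

variable {K K' : Type*} [Field K] [Field K'] {q : ℕ} (S : D4Field K K' q)

/-- a rational element whose diagonal form has a value of order `(q³ - 1)(q + 1)` at the first fundamental root -/
theorem exists_x [Finite K'] : ∃ x ∈ G1 S.φ, S.cj x ∈ chevD4.diagonalSubgroup K' ∧
    ∃ a1 : K'ˣ, (a1 : K') = dE chevD4 (S.cj x) 18 ∧ orderOf a1 = (q ^ 3 - 1) * (q + 1) := by
  obtain ⟨i, j, hij⟩ := exists_order_N q S.hq S.e1 S.e2 S.orderOf_e1 S.orderOf_e2
  have hb : bc chevD4 S.ι S.zu ∈ chevD4.diagonalSubgroup K' :=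
    cert12_D4.bc_diag_le S.ι ⟨_, hv_mem_diag _ _ _, rfl⟩
  have hcj : S.cj (S.zu ^ i * S.g0 ^ j) = (bc chevD4 S.ι S.zu) ^ i * S.k0 ^ j := by
    rw [map_mul, map_zpow, map_zpow, S.cj_zu, S.cj_g0]
  have hd1 : (bc chevD4 S.ι S.zu) ^ i ∈ chevD4.diagonalSubgroup K' := zpow_mem hb i
  have hd2 : S.k0 ^ j ∈ chevD4.diagonalSubgroup K' := zpow_mem S.k0_mem_diag j
  refine ⟨S.zu ^ i * S.g0 ^ j, mul_mem (zpow_mem S.zu_mem i) (zpow_mem S.g0_mem j), ?_, S.e1 ^ i * S.e2 ^ j, ?_, hij⟩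
  · rw [hcj]
    exact mul_mem hd1 hd2
  · rw [hcj, cert12_D4.dE_mul _ _ hd1 hd2 18 (by decide), cert12_D4.dE_zpow _ hb 18 (by decide),
      cert12_D4.dE_zpow _ S.k0_mem_diag 18 (by decide), dE_bc, S.dE_zu_18, S.dE_k0_18]
    push_cast
    rfl

include S in
theorem cast_N : (((q ^ 3 - 1) * (q + 1) : ℕ) : ℤ) = Nq (q : ℤ) := by
  have h1 : 1 ≤ q ^ 3 := Nat.one_le_pow _ _ (by have := S.hq; omega)
  unfold Nq
  push_cast [Nat.cast_sub h1]
  ring

/-- **an element of `³D₄(q)` commuting with `x` is conjugated into the diagonal torus** -/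
theorem cent_desc (x : GL chevD4.Idx K) (hx : x ∈ G1 S.φ) (hxd : S.cj x ∈ chevD4.diagonalSubgroup K')
    (a1 : K'ˣ) (h1 : (a1 : K') = dE chevD4 (S.cj x) 18) (ho : orderOf a1 = (q ^ 3 - 1) * (q + 1))
    (g : GL chevD4.Idx K) (hg : g ∈ G1 S.φ) (hc : x * g = g * x) : S.cj g ∈ chevD4.diagonalSubgroup K' := by
  obtain ⟨t, ht⟩ : ∃ t : ℕ, q = t + 2 := ⟨q - 2, by have := S.hq; omega⟩
  have hqz : (q : ℤ) = (t : ℤ) + 2 := by rw [ht]; push_cast; ring
  obtain ⟨hz, _⟩ := S.desc_zpow (S.cj x) (S.desc_of_diag x hx hxd) a1 h1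
  have hdvd : ∀ e : ℤ, a1 ^ e = 1 → Nq ((t : ℤ) + 2) ∣ e := by
    intro e he
    rw [← hqz, ← S.cast_N, ← ho]
    exact orderOf_dvd_iff_zpow_eq_one.mpr he
  have hπ₀ : cert12_D4.c6.c2.Perm (cert12_D4.wordN K' [2]) (fdD4.wordP fxD4 [2]) := by
    apply cert12_D4.perm_wordN
    intro i hi
    simp only [List.mem_cons, List.not_mem_nil, or_false] at hi
    subst hi
    decide
  have hcc : S.cj x * S.cj g = S.cj g * S.cj x := by rw [← map_mul, ← map_mul, hc]
  apply cert12_D4.cent_regular' (S.cj x) hxd ?_ _ (cert12_D4.wordN_mem [2]) _ hπ₀ ?_ (S.cj g)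
    (S.cj_mem_group g ((G1_spec S.φ S.hφk).1 hg)) hcc
  · intro r hr1 hr2 h
    have hr1' : 12 ≤ r := hr1
    have hr2' : r < 24 := hr2
    rw [hz r hr2', ← Units.val_one] at h
    have h' := hdvd _ (Units.ext h)
    rw [hqz] at h'
    exact d4_reg_all t r hr1' hr2' h'
  · intro i hi s hs h
    have hi' : i < 4 := hi
    have hs' : s < 12 := hs
    have e1 : fdD4.wordP fxD4 [2] s = s2T.getD s 0 := d4_sw2 s (by omega)
    have hsi : fdD4.simples.getD i 0 = [18, 14, 13, 12].getD i 0 := by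
      interval_cases i <;> rfl
    have hsi24 : [18, 14, 13, 12].getD i 0 < 24 := by
      interval_cases i <;> decide
    have e2 : fdD4.wordP fxD4 [2] (fdD4.simples.getD i 0) = s2T.getD ([18, 14, 13, 12].getD i 0) 0 := by
      rw [hsi]
      exact d4_sw2 _ hsi24
    have l1 : s2T.getD s 0 < 24 := by
      rw [← e1]; exact (hπ₀ s (by show s < 24; omega)).1
    have l2 : s2T.getD ([18, 14, 13, 12].getD i 0) 0 < 24 := by
      rw [← e2, hsi]; exact (hπ₀ _ hsi24).1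
    rw [e1, e2, hz _ l1, hz _ l2] at h
    have h2 : a1 ^ (D4E (q : ℤ) (s2T.getD s 0) - D4E (q : ℤ) (s2T.getD ([18, 14, 13, 12].getD i 0) 0)) = 1 := by
      rw [_root_.zpow_sub, Units.ext h, mul_inv_cancel]
    have h' := hdvd _ h2
    rw [hqz] at h'
    exact d4_sep_all t i hi' s hs' h'

end D4Field

end Cfsg.Agent.Lib.H29.D4Sing
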