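import Mathlib
import Cfsg.Agent.Lib.H1.QuotientBasic
import Cfsg.Agent.Lib.H3.PrimSolv

/-!
# S4467 piece MAXSUB (helper29 for helper15)

A maximal subgroup `H` of a finite solvable group `G`: `|G : H| = r^k` and `G / core H` has a self-centralizing
normal abelian subgroup of order `r^k`.
-/

set_option autoImplicit false

namespace Cfsg.Agent.Lib.H29.DX

section corefree

variable {Q : Type*} [Group Q]

/-- a nontrivial finite group has a minimal normal subgroup -/
theorem exists_min_normal_aux [Finite Q] [Nontrivial Q] :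
    ∃ N : Subgroup Q, N.Normal ∧ N ≠ ⊥ ∧
      ∀ K : Subgroup Q, K.Normal → K ≤ N → K = ⊥ ∨ K = N := by
  classical
  have hex : ∃ n : ℕ, ∃ N : Subgroup Q, N.Normal ∧ N ≠ ⊥ ∧ Nat.card N = n :=
    ⟨_, ⊤, inferInstance, top_ne_bot, rfl⟩
  obtain ⟨N, hNn, hNb, hNc⟩ := Nat.find_spec hex
  refine ⟨N, hNn, hNb, ?_⟩
  intro K hKn hKN
  by_cases hKb : K = ⊥
  · exact Or.inl hKb
  · right
    apply Subgroup.eq_of_le_of_card_ge hKN
    rw [hNc]
    exact Nat.find_min' hex ⟨K, hKn, hKb, rfl⟩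

/-- a subgroup of a core-free subgroup `Hb` which is normalized by `Hb` and centralized by a normal subgroup `V`
with `V ⊔ Hb = ⊤` is trivial -/
theorem eq_bot_of_normalized (Hb V D : Subgroup Q) [V.Normal] (hcore : Hb.normalCore = ⊥)
    (hsup : V ⊔ Hb = ⊤) (hDH : D ≤ Hb)
    (hnorm : ∀ h ∈ Hb, ∀ d ∈ D, h * d * h⁻¹ ∈ D)
    (hcent : ∀ v ∈ V, ∀ d ∈ D, v * d = d * v) : D = ⊥ := by
  have hDn : D.Normal := by
    constructor
    intro d hd g
    have hg : g ∈ (↑(V ⊔ Hb) : Set Q) := by rw [hsup]; exact Set.mem_univ g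
    rw [Subgroup.normal_mul] at hg
    obtain ⟨v, hv, h, hh, rfl⟩ := Set.mem_mul.mp hg
    have h1 : h * d * h⁻¹ ∈ D := hnorm h hh d hd
    have h2 : v * (h * d * h⁻¹) = (h * d * h⁻¹) * v := hcent v hv _ h1
    have h3 : v * h * d * (v * h)⁻¹ = h * d * h⁻¹ := by
      calc v * h * d * (v * h)⁻¹ = (v * (h * d * h⁻¹)) * v⁻¹ := by group
        _ = (h * d * h⁻¹) * v * v⁻¹ := by rw [h2]
        _ = h * d * h⁻¹ := by group
    rw [h3]
    exact h1
  have h1 : D ≤ Hb.normalCore := Subgroup.normal_le_normalCore.mpr hDH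
  rw [hcore] at h1
  exact le_bot_iff.mp h1

/-- the structure of a group with a core-free maximal subgroup and an abelian normal subgroup -/
theorem corefree_coatom (Hb V : Subgroup Q) [V.Normal] (hHb : IsCoatom Hb) (hcore : Hb.normalCore = ⊥)
    (hV : V ≠ ⊥) (hcomm : ∀ a ∈ V, ∀ b ∈ V, a * b = b * a) :
    V ⊔ Hb = ⊤ ∧ V ⊓ Hb = ⊥ ∧ Subgroup.centralizer (V : Set Q) ≤ V := by
  -- `V ≰ Hb`
  have hVH : ¬ V ≤ Hb := by
    intro h
    have h1 : V ≤ Hb.normalCore := Subgroup.normal_le_normalCore.mpr h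
    rw [hcore] at h1
    exact hV (le_bot_iff.mp h1)
  have hsup : V ⊔ Hb = ⊤ := by
    by_contra hne
    have hlt : Hb < V ⊔ Hb := lt_of_le_of_ne le_sup_right (fun h => hVH (h ▸ le_sup_left))
    exact hne (hHb.2 _ hlt)
  refine ⟨hsup, ?_, ?_⟩
  · apply eq_bot_of_normalized Hb V (V ⊓ Hb) hcore hsup inf_le_right
    · intro h hh d hd
      have hn : V.Normal := inferInstance
      exact Subgroup.mem_inf.mpr ⟨hn.conj_mem d (Subgroup.mem_inf.mp hd).1 h,
        Hb.mul_mem (Hb.mul_mem hh (Subgroup.mem_inf.mp hd).2) (Hb.inv_mem hh)⟩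
    · intro v hv d hd
      exact hcomm v hv d (Subgroup.mem_inf.mp hd).1
  · -- the centralizer
    have hE : Subgroup.centralizer (V : Set Q) ⊓ Hb = ⊥ := by
      apply eq_bot_of_normalized Hb V _ hcore hsup inf_le_right
      · intro h hh d hd
        refine Subgroup.mem_inf.mpr ⟨?_, Hb.mul_mem (Hb.mul_mem hh (Subgroup.mem_inf.mp hd).2) (Hb.inv_mem hh)⟩
        rw [Subgroup.mem_centralizer_iff]
        intro v hv
        have hn : V.Normal := inferInstance
        have hv' : h⁻¹ * v * h ∈ V := by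
          have := hn.conj_mem v hv h⁻¹
          rwa [inv_inv] at this
        have h1 := (Subgroup.mem_centralizer_iff.mp (Subgroup.mem_inf.mp hd).1) _ hv'
        -- h1 : (h⁻¹ * v * h) * d = d * (h⁻¹ * v * h)
        calc v * (h * d * h⁻¹) = h * ((h⁻¹ * v * h) * d) * h⁻¹ := by group
          _ = h * (d * (h⁻¹ * v * h)) * h⁻¹ := by rw [h1]
          _ = h * d * h⁻¹ * v := by group
      · intro v hv d hd
        exact (Subgroup.mem_centralizer_iff.mp (Subgroup.mem_inf.mp hd).1) v hv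
    intro c hc
    have hg : c ∈ (↑(V ⊔ Hb) : Set Q) := by rw [hsup]; exact Set.mem_univ c
    rw [Subgroup.normal_mul] at hg
    obtain ⟨v, hv, h, hh, rfl⟩ := Set.mem_mul.mp hg
    have hvC : v ∈ Subgroup.centralizer (V : Set Q) := by
      rw [Subgroup.mem_centralizer_iff]
      intro w hw
      exact hcomm w hw v hv
    have hhC : h ∈ Subgroup.centralizer (V : Set Q) := by
      have := (Subgroup.centralizer (V : Set Q)).mul_mem ((Subgroup.centralizer (V : Set Q)).inv_mem hvC) hc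
      rwa [inv_mul_cancel_left] at this
    have h1 : h ∈ Subgroup.centralizer (V : Set Q) ⊓ Hb := Subgroup.mem_inf.mpr ⟨hhC, hh⟩
    rw [hE, Subgroup.mem_bot] at h1
    rw [h1, mul_one]
    exact hv

end corefree

/-- MAXSUB -/
theorem exists_affine_quotient {G : Type*} [Group G] [Finite G] (hs : Group.IsSolvable G)
    (H : Subgroup G) (hH : IsCoatom H) :
    ∃ r k : ℕ, r.Prime ∧ 1 ≤ k ∧ H.index = r ^ k ∧
      ∃ V : Subgroup (G ⧸ H.normalCore), V.Normal ∧ Nat.card V = r ^ k ∧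
        (∀ a ∈ V, ∀ b ∈ V, a * b = b * a) ∧
        Subgroup.centralizer (V : Set (G ⧸ H.normalCore)) ≤ V := by
  classical
  set K : Subgroup G := H.normalCore with hK
  have hKH : K ≤ H := Subgroup.normalCore_le H
  set Hb : Subgroup (G ⧸ K) := H.map (QuotientGroup.mk' K) with hHbdef
  have hHb : IsCoatom Hb := Cfsg.Agent.Lib.H1.isCoatom_map_mk' hKH hH
  have hidx : Hb.index = H.index := Cfsg.Agent.Lib.H1.index_map_mk'_of_le hKH
  have hsurj : Function.Surjective (QuotientGroup.mk' K) := QuotientGroup.mk'_surjective K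
  -- `Hb` is core-free
  have hcore : Hb.normalCore = ⊥ := by
    have hn : (Hb.normalCore.comap (QuotientGroup.mk' K)).Normal := inferInstance
    have h1 : Hb.normalCore.comap (QuotientGroup.mk' K) ≤ H := by
      intro g hg
      have h2 : QuotientGroup.mk' K g ∈ Hb := Subgroup.normalCore_le Hb hg
      obtain ⟨h, hh, he⟩ := h2
      have h3 : h⁻¹ * g ∈ K := by
        rw [← QuotientGroup.eq]
        exact he
      have : g = h * (h⁻¹ * g) := by group
      rw [this]
      exact H.mul_mem hh (hKH h3)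
    have h2 : Hb.normalCore.comap (QuotientGroup.mk' K) ≤ K := Subgroup.normal_le_normalCore.mpr h1
    rw [eq_bot_iff]
    intro x hx
    obtain ⟨g, rfl⟩ := hsurj x
    have h3 : g ∈ K := h2 hx
    rw [Subgroup.mem_bot]
    exact (QuotientGroup.eq_one_iff g).mpr h3
  have hnt : Nontrivial (G ⧸ K) := by
    by_contra hnt
    rw [not_nontrivial_iff_subsingleton] at hnt
    exact hHb.1 (Subsingleton.elim _ _)
  have hsolv : Group.IsSolvable (G ⧸ K) := inferInstance
  obtain ⟨V, hVn, hVb, hVmin⟩ := exists_min_normal_aux (Q := G ⧸ K)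
  have hcomm := Cfsg.Agent.Lib.H3.minNormal_comm_of_isSolvable V hVb hVmin
  obtain ⟨r, k, hr, hk, hcard, -⟩ := Cfsg.Agent.Lib.H3.minNormal_exists_prime_pow V hVb hVmin hcomm
  obtain ⟨hsup, hinf, hcen⟩ := corefree_coatom Hb V hHb hcore hVb hcomm
  refine ⟨r, k, hr, hk, ?_, V, hVn, hcard, hcomm, hcen⟩
  rw [← hidx, ← hcard]
  have hcompl : Subgroup.IsComplement' V Hb :=
    Subgroup.isComplement'_of_disjoint_and_mul_eq_univ (disjoint_iff.mpr hinf) (by
      rw [← Subgroup.normal_mul, hsup, Subgroup.coe_top])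
  exact hcompl.index_eq_card

end Cfsg.Agent.Lib.H29.DX
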