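import Cfsg.Agent.Lib.H9.ExtSpDefs
import Cfsg.Agent.Lib.H1.C3MaxBase

/-!
# S5664-FL: the field lemma (pure algebra in `K / F`, `[K : F]` prime)
-/

set_option autoImplicit false

namespace Cfsg.Agent.Lib.H29.ExtSp

open Module Cfsg.Agent.Lib.H9.ExtSp

variable {F K : Type*} [Field F] [Field K] [Algebra F K]

/-- the form `(x, y) ↦ lam (x * y)` on `K` -/
noncomputable def lamForm (lam : K →ₗ[F] F) : LinearMap.BilinForm F K :=
  (LinearMap.mul F K).compr₂ lam

@[simp] theorem lamForm_apply (lam : K →ₗ[F] F) (x y : K) : lamForm lam x y = lam (x * y) := rfl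

theorem lamForm_isSymm (lam : K →ₗ[F] F) : (lamForm lam).IsSymm := by
  constructor
  intro x y
  simp [mul_comm]

theorem lamForm_nondegenerate {lam : K →ₗ[F] F} (hlam : lam ≠ 0) :
    (lamForm lam).Nondegenerate := by
  constructor
  · intro x hx
    by_contra hx0
    apply hlam
    ext y
    have := hx (x⁻¹ * y)
    rw [lamForm_apply, ← mul_assoc, mul_inv_cancel₀ hx0, one_mul] at this
    simpa using this
  · intro x hx
    by_contra hx0
    apply hlam
    ext y
    have := hx (y * x⁻¹)
    rw [lamForm_apply, mul_assoc, inv_mul_cancel₀ hx0, mul_one] at this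
    simpa using this

/-- **FL** (field lemma, pure algebra in `K/F`). -/
theorem fieldLemma [FiniteDimensional F K] (hr : (finrank F K).Prime) (lam : K →ₗ[F] F)
    (hlam : lam ≠ 0) (D E : Submodule F K)
    (hDE : ∀ d ∈ D, ∀ e ∈ E, lam (d * e) = 0)
    (hD0 : D ≠ ⊥) (hD1 : D ≠ ⊤) (hE0 : E ≠ ⊥)
    (hdich : ∀ a : K, (∃ e ∈ E, ∃ e' ∈ E, lam (a * e * e') ≠ 0) →
      (∀ e ∈ E, a * e ∈ D) ∨
      (finrank F K - finrank F E) + finrank F ↥(E ⊓ D.comap (LinearMap.mulLeft F a))
        ≤ finrank F D) :
    finrank F E = 1 ∧ finrank F D + 1 = finrank F K := by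
  classical
  have hnd := lamForm_nondegenerate hlam
  have hsymm := lamForm_isSymm lam
  -- dimensions
  have hEle : E ≤ (lamForm lam).orthogonal D := by
    intro e he
    rw [LinearMap.BilinForm.mem_orthogonal_iff]
    intro d hd
    exact hDE d hd e he
  have hDle : D ≤ (lamForm lam).orthogonal E := by
    intro d hd
    rw [LinearMap.BilinForm.mem_orthogonal_iff]
    intro e he
    change lam (e * d) = 0
    rw [mul_comm]
    exact hDE d hd e he
  have hoD := LinearMap.BilinForm.finrank_orthogonal hnd D
  have hoE := LinearMap.BilinForm.finrank_orthogonal hnd E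
  have h1 : finrank F E ≤ finrank F K - finrank F D := by
    rw [← hoD]; exact Submodule.finrank_mono hEle
  have hDr : finrank F D < finrank F K := Submodule.finrank_lt hD1
  have hEpos : 0 < finrank F E := by
    rw [Nat.pos_iff_ne_zero]
    intro h0
    exact hE0 (Submodule.finrank_eq_zero.mp h0)
  have hDpos : 0 < finrank F D := by
    rw [Nat.pos_iff_ne_zero]
    intro h0
    exact hD0 (Submodule.finrank_eq_zero.mp h0)
  -- a non-zero element of `E`
  obtain ⟨e₀, he₀, he₀0⟩ := (Submodule.ne_bot_iff E).mp hE0
  -- the subspace `A₀`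
  let A₀ : Submodule F K :=
    { carrier := {a | ∀ e ∈ E, ∀ e' ∈ E, lam (a * e * e') = 0}
      add_mem' := fun {a b} ha hb e he e' he' => by
        rw [add_mul, add_mul, map_add, ha e he e' he', hb e he e' he', add_zero]
      zero_mem' := fun e _ e' _ => by simp
      smul_mem' := fun c a ha e he e' he' => by
        rw [smul_mul_assoc, smul_mul_assoc, map_smul, ha e he e' he', smul_zero] }
  have hA₀ : ∀ a, a ∈ A₀ ↔ ∀ e ∈ E, ∀ e' ∈ E, lam (a * e * e') = 0 := fun a => Iff.rfl
  obtain ⟨a₁, ha₁⟩ : ∃ a₁, a₁ ∉ A₀ := by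
    obtain ⟨x, hx⟩ : ∃ x, lam x ≠ 0 := by
      by_contra hcon
      push Not at hcon
      exact hlam (LinearMap.ext hcon)
    refine ⟨x / (e₀ * e₀), fun h => hx ?_⟩
    have := h e₀ he₀ e₀ he₀
    rwa [mul_assoc, div_mul_cancel₀ _ (mul_ne_zero he₀0 he₀0)] at this
  -- the subspace `G`
  let G : Submodule F K :=
    { carrier := {a | ∀ e ∈ E, a * e ∈ D}
      add_mem' := fun {a b} ha hb e he => by
        rw [add_mul]; exact D.add_mem (ha e he) (hb e he)
      zero_mem' := fun e _ => by simp
      smul_mem' := fun c a ha e he => by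
        rw [smul_mul_assoc]; exact D.smul_mem c (ha e he) }
  have hG : ∀ a, a ∈ G ↔ ∀ e ∈ E, a * e ∈ D := fun a => Iff.rfl
  have hnotA : ∀ a, a ∉ A₀ → ∃ e ∈ E, ∃ e' ∈ E, lam (a * e * e') ≠ 0 := by
    intro a ha
    rw [hA₀] at ha
    push Not at ha
    exact ha
  by_cases hcase : finrank F E + finrank F D < finrank F K
  · -- case 1: impossible
    exfalso
    have hall : ∀ a, a ∉ A₀ → a ∈ G := by
      intro a ha
      rcases hdich a (hnotA a ha) with h | h
      · exact h
      · exfalso
        omega
    have hGtop : ∀ a, a ∈ G := by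
      intro a
      by_cases ha : a ∈ A₀
      · have h2 : a + a₁ ∉ A₀ := by
          intro h
          apply ha₁
          have := A₀.sub_mem h ha
          rwa [add_sub_cancel_left] at this
        have := G.sub_mem (hall _ h2) (hall _ ha₁)
        rwa [add_sub_cancel_right] at this
      · exact hall a ha
    apply hD1
    rw [eq_top_iff]
    intro x _
    have := hGtop (x / e₀) e₀ he₀
    rwa [div_mul_cancel₀ _ he₀0] at this
  · -- case 2
    have hsum : finrank F E + finrank F D = finrank F K := by omega
    have hDeq : D = (lamForm lam).orthogonal E := by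
      apply Submodule.eq_of_le_of_finrank_eq hDle
      rw [hoE]; omega
    have hall : ∀ a, a ∈ G ∨ ∀ e ∈ E, a * e ∈ D → e = 0 := by
      intro a
      by_cases ha : a ∈ A₀
      · left
        intro e he
        rw [hDeq, LinearMap.BilinForm.mem_orthogonal_iff]
        intro e' he'
        change lam (e' * (a * e)) = 0
        have := ha e he e' he'
        rwa [show e' * (a * e) = a * e * e' by ring]
      · rcases hdich a (hnotA a ha) with h | h
        · left; exact h
        · right
          have h0 : finrank F ↥(E ⊓ D.comap (LinearMap.mulLeft F a)) = 0 := by omega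
          have hbot := Submodule.finrank_eq_zero.mp h0
          intro e he hae
          have : e ∈ E ⊓ D.comap (LinearMap.mulLeft F a) := ⟨he, hae⟩
          rw [hbot] at this
          exact (Submodule.mem_bot F).mp this
    have hdiv : ∀ d ∈ D, ∀ e ∈ E, d / e₀ * e ∈ D := by
      intro d hd
      rcases hall (d / e₀) with h | h
      · exact h
      · exfalso
        apply he₀0
        apply h e₀ he₀
        rwa [div_mul_cancel₀ _ he₀0]
    have hE1 : finrank F E ≤ 1 := by
      by_contra hcon
      push Not at hcon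
      obtain ⟨e, he, heS⟩ : ∃ e ∈ E, e ∉ Submodule.span F {e₀} := by
        by_contra hc
        push Not at hc
        have hle : E ≤ Submodule.span F {e₀} := hc
        have := Submodule.finrank_mono hle
        rw [finrank_span_singleton he₀0] at this
        omega
      have hρ : e / e₀ ∉ Set.range (algebraMap F K) := by
        rintro ⟨c, hc⟩
        apply heS
        rw [Submodule.mem_span_singleton]
        refine ⟨c, ?_⟩
        rw [Algebra.smul_def, hc, div_mul_cancel₀ _ he₀0]
      rcases Cfsg.Agent.Lib.H1.C3Max.eq_bot_or_eq_top_of_mul_mem hr D (e / e₀) hρ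
        (fun d hd => by
          have := hdiv d hd e he
          rwa [show e / e₀ * d = d / e₀ * e by ring]) with h | h
      · exact hD0 h
      · exact hD1 h
    constructor <;> omega

end Cfsg.Agent.Lib.H29.ExtSp
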