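import Mathlib
import Cfsg.Prelude.Def_LieTwisted
import Cfsg.Agent.Lib.H29.OctF4e

/-!
# The large Ree groups `²F₄(q)` are generated by two elements

Steinberg's generators: a torus element `h` and `x_8(1, 0) n_w`, where `x_8` is the root element of Suzuki type
at the fundamental root of the octagon and `n_w = n₁ n₂` is a Coxeter element.
-/

set_option autoImplicit false
set_option linter.unusedSectionVars false
set_option linter.unusedSimpArgs false
set_option linter.unusedVariables false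

namespace Cfsg.Agent.Lib.H29.Chev

open Cfsg.Lie Matrix

section abstract

variable {G : Type*} [Group G]

/-- pushing `X` to the right of a product of two factors -/
theorem f4g_push_two (X P Q v w : G) (h1 : X * P = P * X * v) (h2 : X * Q = Q * X * w) (hvQ : v * Q = Q * v) :
    X * (P * Q) = (P * Q) * X * (w * v) := by
  calc X * (P * Q) = (X * P) * Q := (mul_assoc _ _ _).symm
    _ = P * X * v * Q := by rw [h1]
    _ = P * X * (Q * v) := by rw [mul_assoc (P * X), hvQ]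
    _ = P * (X * Q) * v := by simp only [mul_assoc]
    _ = P * (Q * X * w) * v := by rw [h2]
    _ = (P * Q) * X * (w * v) := by simp only [mul_assoc]

/-- pushing a product of two factors to the right of `B` -/
theorem f4g_push_prod (X Y B v w : G) (h1 : X * B = B * X * v) (h2 : Y * B = B * Y * w) (hvY : v * Y = Y * v) :
    (X * Y) * B = B * (X * Y) * (v * w) := by
  calc X * Y * B = X * (Y * B) := mul_assoc _ _ _
    _ = X * (B * Y * w) := by rw [h2]
    _ = (X * B) * Y * w := by simp only [mul_assoc]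
    _ = B * X * v * Y * w := by rw [h1]
    _ = B * X * (Y * v) * w := by rw [mul_assoc (B * X) v Y, hvY]
    _ = B * (X * Y) * (v * w) := by simp only [mul_assoc]

/-- the commutator, from the relation `A B = B A V` with `V` commuting with `A` and `B` -/
theorem f4g_comm_of_push (A B V : G) (h : A * B = B * A * V) (hA : V * A = A * V) (hB : V * B = B * V) :
    A * B * A⁻¹ * B⁻¹ = V := by
  have hA' : V * A⁻¹ = A⁻¹ * V := (Commute.inv_right (show Commute V A from hA)).eq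
  calc A * B * A⁻¹ * B⁻¹ = B * A * (V * A⁻¹) * B⁻¹ := by rw [h]; simp only [mul_assoc]
    _ = B * A * (A⁻¹ * V) * B⁻¹ := by rw [hA']
    _ = (B * V) * B⁻¹ := by simp only [mul_assoc, mul_inv_cancel_left]
    _ = V := by rw [← hB, mul_assoc, mul_inv_cancel, mul_one]

/-- two blocks of two factors: the "diagonal" pairs have commutators `V₀`, `V₁` commuting with everything -/
theorem f4g_push_two_two {A0 A1 B0 B1 V0 V1 : G}
    (c01 : Commute A0 B1) (c10 : Commute A1 B0)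
    (e0 : A0 * B0 = B0 * A0 * V0) (e1 : A1 * B1 = B1 * A1 * V1)
    (v0a1 : Commute V0 A1) (v0b1 : Commute V0 B1) (v1b0 : Commute V1 B0) :
    (A0 * A1) * (B0 * B1) = (B0 * B1) * (A0 * A1) * (V0 * V1) := by
  have p0 : A0 * (B0 * B1) = (B0 * B1) * A0 * V0 := by
    have := f4g_push_two A0 B0 B1 V0 1 e0 (by rw [mul_one]; exact c01.eq) v0b1.eq
    rw [this, one_mul]
  have p1 : A1 * (B0 * B1) = (B0 * B1) * A1 * V1 := by
    have := f4g_push_two A1 B0 B1 1 V1 (by rw [mul_one]; exact c10.eq) e1 (by rw [one_mul, mul_one])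
    rw [this, mul_one]
  exact f4g_push_prod A0 A1 _ V0 V1 p0 p1 v0a1.eq

end abstract

section suzuki

variable {G K : Type*} [Group G] [Field K] [CharP K 2]

/-- a root group of Suzuki type -/
structure SuzRoot (θ : K →+* K) (X : K → K → G) : Prop where
  mul : ∀ t u t' u' : K, X t u * X t' u' = X (t + t') (u + u' + θ t * t')

namespace SuzRoot

variable {θ : K →+* K} {X : K → K → G} (hX : SuzRoot θ X)
include hX

theorem zero : X 0 0 = 1 := by
  have := hX.mul 0 0 0 0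
  simp only [add_zero, map_zero, mul_zero] at this
  exact mul_eq_left.mp this

theorem inv (t u : K) : (X t u)⁻¹ = X t (u + θ t * t) := by
  rw [inv_eq_iff_mul_eq_one, hX.mul, ← hX.zero]
  congr 1
  · exact CharTwo.add_self_eq_zero t
  · have : u + (u + θ t * t) + θ t * t = (u + θ t * t) + (u + θ t * t) := by ring
    rw [this, CharTwo.add_self_eq_zero]

/-- the elements with first coordinate `t` -/
def IsX (_hX : SuzRoot θ X) (t : K) (g : G) : Prop := ∃ u, g = X t u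

theorem isX_mul {t t' : K} {g g' : G} (h : hX.IsX t g) (h' : hX.IsX t' g') : hX.IsX (t + t') (g * g') := by
  obtain ⟨u, rfl⟩ := h
  obtain ⟨u', rfl⟩ := h'
  exact ⟨_, hX.mul t u t' u'⟩

theorem isX_inv {t : K} {g : G} (h : hX.IsX t g) : hX.IsX t g⁻¹ := by
  obtain ⟨u, rfl⟩ := h
  exact ⟨_, hX.inv t u⟩

theorem isX_conj {t : K} {g : G} (k : G) (mu : K)
    (hk : ∀ t u : K, k * X t u * k⁻¹ = X (mu * t) (θ mu * mu * u)) (h : hX.IsX t g) :
    hX.IsX (mu * t) (k * g * k⁻¹) := by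
  obtain ⟨u, rfl⟩ := h
  exact ⟨_, hk t u⟩

/-- Steinberg's double commutator -/
theorem steinberg (h k w : G) (lam mu : K)
    (hh : ∀ t u : K, h * X t u * h⁻¹ = X (lam * t) (θ lam * lam * u))
    (hk : ∀ t u : K, k * X t u * k⁻¹ = X (mu * t) (θ mu * mu * u))
    (hkdef : k = h * w * h⁻¹ * w⁻¹) (hcomm : Commute h k) :
    ∃ u : K, h * (h * (X 1 0 * w) * h⁻¹ * (X 1 0 * w)⁻¹) * h⁻¹ * (h * (X 1 0 * w) * h⁻¹ * (X 1 0 * w)⁻¹)⁻¹ =
      X ((lam + 1) * (lam + mu)) u := by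
  have hc : h * (X 1 0 * w) * h⁻¹ * (X 1 0 * w)⁻¹ = (h * X 1 0 * h⁻¹) * k * (X 1 0)⁻¹ := by
    rw [hkdef]; group
  have hkk : h * k * h⁻¹ = k := by
    rw [hcomm.eq, mul_assoc, mul_inv_cancel, mul_one]
  have hd : h * ((h * X 1 0 * h⁻¹) * k * (X 1 0)⁻¹) * h⁻¹ * ((h * X 1 0 * h⁻¹) * k * (X 1 0)⁻¹)⁻¹ =
      (h * (h * X 1 0 * h⁻¹) * h⁻¹) * (k * ((h * X 1 0 * h⁻¹)⁻¹ * X 1 0) * k⁻¹) * (h * X 1 0 * h⁻¹)⁻¹ := by
    have e : h * ((h * X 1 0 * h⁻¹) * k * (X 1 0)⁻¹) * h⁻¹ =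
        (h * (h * X 1 0 * h⁻¹) * h⁻¹) * (h * k * h⁻¹) * (h * X 1 0 * h⁻¹)⁻¹ := by group
    rw [e, hkk]
    group
  rw [hc, hd]
  have hB : hX.IsX 1 (X 1 0) := ⟨0, rfl⟩
  have hA : hX.IsX (lam * 1) (h * X 1 0 * h⁻¹) := hX.isX_conj h lam hh hB
  have hA2 : hX.IsX (lam * (lam * 1)) (h * (h * X 1 0 * h⁻¹) * h⁻¹) := hX.isX_conj h lam hh hA
  have h1 : hX.IsX (lam * 1 + 1) ((h * X 1 0 * h⁻¹)⁻¹ * X 1 0) := hX.isX_mul (hX.isX_inv hA) hB
  have h2 := hX.isX_conj k mu hk h1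
  obtain ⟨u, hu⟩ := hX.isX_mul (hX.isX_mul hA2 h2) (hX.isX_inv hA)
  refine ⟨u, ?_⟩
  rw [hu]
  congr 1
  ring

/-- a subgroup containing a torus element acting through a generator of `Kˣ` and an element of the root group
with non-zero first coordinate contains the root group -/
theorem fill [Finite K] (hθ : ∀ x : K, θ (θ x) ^ 2 = x) (M : Subgroup G) (h : G) (hM : h ∈ M) (lam : K)
    (hh : ∀ t u : K, h * X t u * h⁻¹ = X (lam * t) (θ lam * lam * u))
    (hgen : ∀ t : K, t ≠ 0 → ∃ n : ℕ, t = lam ^ n) (t0 u0 : K) (ht0 : t0 ≠ 0) (h0 : X t0 u0 ∈ M) (t u : K) :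
    X t u ∈ M := by
  -- the orbit of the torus element
  have S1 : ∀ n : ℕ, ∃ u, X (lam ^ n * t0) u ∈ M := by
    intro n
    induction n with
    | zero => exact ⟨u0, by rwa [pow_zero, one_mul]⟩
    | succ n ih =>
      obtain ⟨u, hu⟩ := ih
      have := mul_mem (mul_mem hM hu) (inv_mem hM)
      rw [hh] at this
      refine ⟨θ lam * lam * u, ?_⟩
      rw [pow_succ, mul_comm (lam ^ n) lam, mul_assoc]
      exact this
  have L1 : ∀ t : K, ∃ u, X t u ∈ M := by
    intro t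
    by_cases ht : t = 0
    · exact ⟨0, by rw [ht, hX.zero]; exact one_mem _⟩
    · obtain ⟨n, hn⟩ := hgen (t / t0) (div_ne_zero ht ht0)
      obtain ⟨u, hu⟩ := S1 n
      refine ⟨u, ?_⟩
      rw [← hn, div_mul_cancel₀ t ht0] at hu
      exact hu
  -- `t ↦ θ(t) t` is a bijection
  have hne1 : ∀ r : K, θ r * r = 1 → r = 1 := by
    intro r h1
    have hr0 : r ≠ 0 := by
      rintro rfl
      rw [mul_zero] at h1
      exact zero_ne_one h1
    have e1 : θ r = r⁻¹ := eq_inv_of_mul_eq_one_left h1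
    have e2 := hθ r
    rw [e1, map_inv₀, e1, inv_inv] at e2
    have : r * (r - 1) = 0 := by rw [mul_sub, mul_one, ← sq, e2, sub_self]
    rcases mul_eq_zero.mp this with h3 | h3
    · exact absurd h3 hr0
    · exact sub_eq_zero.mp h3
  have hinj : Function.Injective (fun r : K => θ r * r) := by
    intro a b hab
    simp only at hab
    by_cases hb : b = 0
    · rw [hb, mul_zero] at hab
      rcases mul_eq_zero.mp hab with h3 | h3
      · rw [hb]; exact (map_eq_zero θ).mp h3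
      · rw [hb]; exact h3
    · have hθb : θ b ≠ 0 := fun h3 => hb ((map_eq_zero θ).mp h3)
      have : θ (a / b) * (a / b) = 1 := by
        rw [map_div₀]
        field_simp
        exact hab
      have := hne1 _ this
      field_simp at this
      exact this
  have hsurj : Function.Surjective (fun r : K => θ r * r) := Finite.surjective_of_injective hinj
  -- the centre
  have L2 : ∀ v : K, X 0 v ∈ M := by
    intro v
    obtain ⟨r, hr⟩ := hsurj v
    simp only at hr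
    obtain ⟨u, hu⟩ := L1 r
    have := mul_mem hu hu
    rw [hX.mul, CharTwo.add_self_eq_zero, CharTwo.add_self_eq_zero, zero_add, hr] at this
    exact this
  obtain ⟨u', hu'⟩ := L1 t
  have := mul_mem hu' (L2 (u + u'))
  rw [hX.mul, add_zero, mul_zero, add_zero] at this
  have e : u' + (u + u') = u := by
    have : u' + (u + u') = u + (u' + u') := by ring
    rw [this, CharTwo.add_self_eq_zero, add_zero]
  rwa [e] at this

end SuzRoot

end suzuki

section F4

variable {K : Type*} [Field K] [CharP K 2]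

/-- the commutator formula with a single term of coefficient `± 1`, in characteristic two -/
theorem f4g_one_term (r s q : ℕ) (c : ℤ) (hr : r < 48) (hs : s < 48) (h1 : s ≠ r) (h2 : s ≠ 47 - r)
    (hc : c = 1 ∨ c = -1) (hT : fdF4.commT r s = [(q, c, 1, 1)]) (t u : K) :
    fX s u * fX r t = fX r t * fX s u * fX q (t * u) := by
  have := cert12_F4.c6.cfg (F := K) r s hr hs h1 h2 t u
  rw [hT] at this
  rw [this]
  unfold Cert2.ctG
  simp only [List.map_cons, List.map_nil, List.prod_cons, List.prod_nil, mul_one, pow_one]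
  congr 2
  rcases hc with rfl | rfl
  · rw [Int.cast_one, one_mul, CharTwo.neg_eq]
  · rw [Int.cast_neg, Int.cast_one]; ring

/-- commuting root elements, from a decidable check -/
theorem f4g_comm_dec (r s : ℕ) (h : r < 48 ∧ s < 48 ∧ s ≠ r ∧ s ≠ 47 - r ∧ fdF4.commT r s = []) (t u : K) :
    Commute (fX r t) (fX s u) :=
  fX_comm_nil r s h.1 h.2.1 h.2.2.1 h.2.2.2.1 h.2.2.2.2 t u

theorem f4g_chk_z : ∀ r ∈ [35, 31, 40, 46, 27, 25, 28, 30], ∀ z ∈ [37, 32],
    z < 48 ∧ r < 48 ∧ r ≠ z ∧ r ≠ 47 - z ∧ fdF4.commT z r = [] := by decide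

theorem f4g_chk_ab : ∀ a ∈ [35, 31, 40, 46], ∀ b ∈ [27, 25, 28, 30], (a = 35 ∧ b = 27) ∨ (a = 31 ∧ b = 25) ∨
    (a < 48 ∧ b < 48 ∧ b ≠ a ∧ b ≠ 47 - a ∧ fdF4.commT a b = []) := by decide

theorem f4g_e1 (a b : K) : fX 35 a * fX 27 b = fX 27 b * fX 35 a * fX 37 (a * b) := by
  rw [mul_comm a b]
  exact f4g_one_term 27 35 37 1 (by decide) (by decide) (by decide) (by decide) (Or.inl rfl) (by decide) b a

theorem f4g_e2 (a b : K) : fX 31 a * fX 25 b = fX 25 b * fX 31 a * fX 32 (a * b) := by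
  rw [mul_comm a b]
  exact f4g_one_term 25 31 32 1 (by decide) (by decide) (by decide) (by decide) (Or.inl rfl) (by decide) b a

/-- the commutator of the root elements of Suzuki type at two consecutive even roots of the octagon -/
theorem f4g_comm_68 (m : ℕ) (t u s v : K) :
    clsEl m 35 31 40 46 t u * clsEl m 27 25 28 30 s v * (clsEl m 35 31 40 46 t u)⁻¹ *
      (clsEl m 27 25 28 30 s v)⁻¹ = pairEl m 37 32 (t * s) := by
  have cz : ∀ r ∈ [35, 31, 40, 46, 27, 25, 28, 30], ∀ z ∈ [37, 32], ∀ x y : K, Commute (fX z x) (fX r y) :=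
    fun r hr z hz x y => f4g_comm_dec z r (f4g_chk_z r hr z hz) x y
  have cab : ∀ a ∈ [35, 31, 40, 46], ∀ b ∈ [27, 25, 28, 30], ¬ (a = 35 ∧ b = 27) → ¬ (a = 31 ∧ b = 25) →
      ∀ x y : K, Commute (fX a x) (fX b y) := by
    intro a ha b hb h1 h2 x y
    rcases f4g_chk_ab a ha b hb with h | h | h
    · exact absurd h h1
    · exact absurd h h2
    · exact f4g_comm_dec a b h x y
  unfold clsEl pairEl
  set a1 := fX 35 (f4Theta K m t) with ha1
  set a2 := fX 31 t with ha2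
  set a3 := fX 40 (f4Theta K m t * t + u) with ha3
  set a4 := fX 46 (f4Theta K m u ^ 2) with ha4
  set b1 := fX 27 (f4Theta K m s) with hb1
  set b2 := fX 25 s with hb2
  set b3 := fX 28 (f4Theta K m s * s + v) with hb3
  set b4 := fX 30 (f4Theta K m v ^ 2) with hb4
  set z1 := fX 37 (f4Theta K m t * f4Theta K m s) with hz1
  set z2 := fX 32 (t * s) with hz2
  have e1 : a1 * b1 = b1 * a1 * z1 := f4g_e1 _ _
  have e2 : a2 * b2 = b2 * a2 * z2 := f4g_e2 _ _
  have c12 : Commute a1 b2 := cab 35 (by simp) 25 (by simp) (by simp) (by simp) _ _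
  have c13 : Commute a1 b3 := cab 35 (by simp) 28 (by simp) (by simp) (by simp) _ _
  have c14 : Commute a1 b4 := cab 35 (by simp) 30 (by simp) (by simp) (by simp) _ _
  have c21 : Commute a2 b1 := cab 31 (by simp) 27 (by simp) (by simp) (by simp) _ _
  have c23 : Commute a2 b3 := cab 31 (by simp) 28 (by simp) (by simp) (by simp) _ _
  have c24 : Commute a2 b4 := cab 31 (by simp) 30 (by simp) (by simp) (by simp) _ _
  have c31 : Commute a3 b1 := cab 40 (by simp) 27 (by simp) (by simp) (by simp) _ _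
  have c32 : Commute a3 b2 := cab 40 (by simp) 25 (by simp) (by simp) (by simp) _ _
  have c33 : Commute a3 b3 := cab 40 (by simp) 28 (by simp) (by simp) (by simp) _ _
  have c34 : Commute a3 b4 := cab 40 (by simp) 30 (by simp) (by simp) (by simp) _ _
  have c41 : Commute a4 b1 := cab 46 (by simp) 27 (by simp) (by simp) (by simp) _ _
  have c42 : Commute a4 b2 := cab 46 (by simp) 25 (by simp) (by simp) (by simp) _ _
  have c43 : Commute a4 b3 := cab 46 (by simp) 28 (by simp) (by simp) (by simp) _ _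
  have c44 : Commute a4 b4 := cab 46 (by simp) 30 (by simp) (by simp) (by simp) _ _
  have z1a1 : Commute z1 a1 := cz 35 (by simp) 37 (by simp) _ _
  have z1a2 : Commute z1 a2 := cz 31 (by simp) 37 (by simp) _ _
  have z1a3 : Commute z1 a3 := cz 40 (by simp) 37 (by simp) _ _
  have z1a4 : Commute z1 a4 := cz 46 (by simp) 37 (by simp) _ _
  have z1b1 : Commute z1 b1 := cz 27 (by simp) 37 (by simp) _ _
  have z1b2 : Commute z1 b2 := cz 25 (by simp) 37 (by simp) _ _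
  have z1b3 : Commute z1 b3 := cz 28 (by simp) 37 (by simp) _ _
  have z1b4 : Commute z1 b4 := cz 30 (by simp) 37 (by simp) _ _
  have z2a1 : Commute z2 a1 := cz 35 (by simp) 32 (by simp) _ _
  have z2a2 : Commute z2 a2 := cz 31 (by simp) 32 (by simp) _ _
  have z2a3 : Commute z2 a3 := cz 40 (by simp) 32 (by simp) _ _
  have z2a4 : Commute z2 a4 := cz 46 (by simp) 32 (by simp) _ _
  have z2b1 : Commute z2 b1 := cz 27 (by simp) 32 (by simp) _ _
  have z2b2 : Commute z2 b2 := cz 25 (by simp) 32 (by simp) _ _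
  have z2b3 : Commute z2 b3 := cz 28 (by simp) 32 (by simp) _ _
  have z2b4 : Commute z2 b4 := cz 30 (by simp) 32 (by simp) _ _
  -- the inner blocks
  have inner : (a1 * a2) * (b1 * b2) = (b1 * b2) * (a1 * a2) * (z1 * z2) :=
    f4g_push_two_two c12 c21 e1 e2 z1a2 z1b2 z2b1
  have outer : ((a1 * a2) * (a3 * a4)) * ((b1 * b2) * (b3 * b4)) =
      ((b1 * b2) * (b3 * b4)) * ((a1 * a2) * (a3 * a4)) * ((z1 * z2) * 1) :=
    f4g_push_two_two ((c13.mul_right c14).mul_left (c23.mul_right c24))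
      ((c31.mul_right c32).mul_left (c41.mul_right c42)) inner
      (by rw [mul_one]; exact (((c33.mul_right c34).mul_left (c43.mul_right c44))).eq)
      ((z1a3.mul_right z1a4).mul_left (z2a3.mul_right z2a4))
      ((z1b3.mul_right z1b4).mul_left (z2b3.mul_right z2b4)) (Commute.one_left _)
  have hA : a1 * a2 * a3 * a4 = (a1 * a2) * (a3 * a4) := mul_assoc _ _ _
  have hB : b1 * b2 * b3 * b4 = (b1 * b2) * (b3 * b4) := mul_assoc _ _ _
  rw [hA, hB, f4g_comm_of_push _ _ _ outer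
    ((((z1a1.mul_right z1a2).mul_right (z1a3.mul_right z1a4)).mul_left
      ((z2a1.mul_right z2a2).mul_right (z2a3.mul_right z2a4))).mul_left (Commute.one_left _)).eq
    ((((z1b1.mul_right z1b2).mul_right (z1b3.mul_right z1b4)).mul_left
      ((z2b1.mul_right z2b2).mul_right (z2b3.mul_right z2b4))).mul_left (Commute.one_left _)).eq, mul_one,
    hz1, hz2, map_mul]

/-- the Coxeter element `n₁ n₂` -/
noncomputable def f4W (K : Type*) [Field K] : GL chevF4.Idx K := fN1 K * fN2 K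

/-- the permutation of the roots induced by the Coxeter element -/
def piW (s : ℕ) : ℕ := fdF4.wordP fxF4 [0, 3] (fdF4.wordP fxF4 [1, 2, 1, 2] s)

/-- the permutation of the roots induced by the inverse of the Coxeter element -/
def piWi (s : ℕ) : ℕ := fdF4.wordP fxF4 [1, 2, 1, 2] (fdF4.wordP fxF4 [0, 3] s)

theorem f4W_mem_tw (m : ℕ) : f4W K ∈ twistedF4 K (2 ^ m) := mul_mem (fN1_mem_tw m) (fN2_mem_tw m)

theorem f4W_conj_fX (s : ℕ) (hs : s < 48) (u : K) : f4W K * fX s u * (f4W K)⁻¹ = fX (piW s) u := by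
  unfold f4W piW
  have e : fN1 K * fN2 K * fX s u * (fN1 K * fN2 K)⁻¹ = fN1 K * (fN2 K * fX s u * (fN2 K)⁻¹) * (fN1 K)⁻¹ := by
    group
  rw [e, fN2_conj_fX s hs, fN1_conj_fX _ (w2_lt s hs)]

theorem f4W_inv_conj_fX (s : ℕ) (hs : s < 48) (u : K) : (f4W K)⁻¹ * fX s u * f4W K = fX (piWi s) u := by
  unfold f4W piWi
  have h1 : (fN1 K)⁻¹ * fX s u * fN1 K = fX (fdF4.wordP fxF4 [0, 3] s) u := by
    have := fN1_conj_fX (K := K) (fdF4.wordP fxF4 [0, 3] s) (w1_lt s hs) u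
    rw [w1_invol s hs] at this
    rw [← this]; group
  have h2 : ∀ r, r < 48 → (fN2 K)⁻¹ * fX r u * fN2 K = fX (fdF4.wordP fxF4 [1, 2, 1, 2] r) u := by
    intro r hr
    have := fN2_conj_fX (K := K) (fdF4.wordP fxF4 [1, 2, 1, 2] r) (w2_lt r hr) u
    rw [w2_invol r hr] at this
    rw [← this]; group
  have e : (fN1 K * fN2 K)⁻¹ * fX s u * (fN1 K * fN2 K) = (fN2 K)⁻¹ * ((fN1 K)⁻¹ * fX s u * fN1 K) * fN2 K := by
    group
  rw [e, h1, h2 _ (w1_lt s hs)]

theorem f4W_conj_pair (m r rbar : ℕ) (hr : r < 48) (hrb : rbar < 48) (t : K) :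
    f4W K * pairEl m r rbar t * (f4W K)⁻¹ = pairEl m (piW r) (piW rbar) t := by
  unfold pairEl
  have e : ∀ n a b : GL chevF4.Idx K, n * (a * b) * n⁻¹ = (n * a * n⁻¹) * (n * b * n⁻¹) := by
    intro n a b; group
  rw [e, f4W_conj_fX r hr, f4W_conj_fX rbar hrb]

theorem f4W_conj_cls (m a b c d : ℕ) (ha : a < 48) (hb : b < 48) (hc : c < 48) (hd : d < 48) (t u : K) :
    f4W K * clsEl m a b c d t u * (f4W K)⁻¹ = clsEl m (piW a) (piW b) (piW c) (piW d) t u := by
  unfold clsEl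
  have e : ∀ n a b c d : GL chevF4.Idx K, n * (a * b * c * d) * n⁻¹ =
      (n * a * n⁻¹) * (n * b * n⁻¹) * (n * c * n⁻¹) * (n * d * n⁻¹) := by
    intro n a b c d; group
  rw [e, f4W_conj_fX a ha, f4W_conj_fX b hb, f4W_conj_fX c hc, f4W_conj_fX d hd]

theorem f4W_inv_conj_cls (m a b c d : ℕ) (ha : a < 48) (hb : b < 48) (hc : c < 48) (hd : d < 48) (t u : K) :
    (f4W K)⁻¹ * clsEl m a b c d t u * f4W K = clsEl m (piWi a) (piWi b) (piWi c) (piWi d) t u := by
  unfold clsEl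
  have e : ∀ n a b c d : GL chevF4.Idx K, n⁻¹ * (a * b * c * d) * n =
      (n⁻¹ * a * n) * (n⁻¹ * b * n) * (n⁻¹ * c * n) * (n⁻¹ * d * n) := by
    intro n a b c d; group
  rw [e, f4W_inv_conj_fX a ha, f4W_inv_conj_fX b hb, f4W_inv_conj_fX c hc, f4W_inv_conj_fX d hd]

/-- a subgroup containing the Coxeter element and a family of pair elements contains the rotated family -/
theorem f4W_pair_step (m : ℕ) (M : Subgroup (GL chevF4.Idx K)) (hw : f4W K ∈ M) (r rbar r' rbar' : ℕ)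
    (h : r < 48 ∧ rbar < 48 ∧ piW r = r' ∧ piW rbar = rbar')
    (hM : ∀ t : K, pairEl m r rbar t ∈ M) (t : K) : pairEl m r' rbar' t ∈ M := by
  obtain ⟨hr, hrb, rfl, rfl⟩ := h
  rw [← f4W_conj_pair m r rbar hr hrb]
  exact mul_mem (mul_mem hw (hM t)) (inv_mem hw)

/-- a subgroup containing the Coxeter element and a family of class elements contains the rotated family -/
theorem f4W_cls_step (m : ℕ) (M : Subgroup (GL chevF4.Idx K)) (hw : f4W K ∈ M) (a b c d a' b' c' d' : ℕ)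
    (h : a < 48 ∧ b < 48 ∧ c < 48 ∧ d < 48 ∧ piW a = a' ∧ piW b = b' ∧ piW c = c' ∧ piW d = d')
    (hM : ∀ t u : K, clsEl m a b c d t u ∈ M) (t u : K) : clsEl m a' b' c' d' t u ∈ M := by
  obtain ⟨ha, hb, hc, hd, rfl, rfl, rfl, rfl⟩ := h
  rw [← f4W_conj_cls m a b c d ha hb hc hd]
  exact mul_mem (mul_mem hw (hM t u)) (inv_mem hw)

variable [Fintype K]

theorem f4g_suz (m : ℕ) (hK : Fintype.card K = 2 ^ (2 * m + 1)) : SuzRoot (f4Theta K m) (cU (K := K) m) where
  mul := clsEl_mul m 27 25 28 30 (f4_theta_theta_sq m hK) fX_b2_27 fX_28_30 fX_27_28 fX_27_30 fX_25_28 fX_25_30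

/-- the action of a fixed element of the torus on the root elements of Suzuki type -/
theorem f4g_fixdiag_conj_cU (m : ℕ) (hK : Fintype.card K = 2 ^ (2 * m + 1)) (h : GL chevF4.Idx K)
    (hd : h ∈ chevF4.diagonalSubgroup K) (hf : h ∈ fixGL (f4Sigma (K := K) m)) (t u : K) :
    h * cU m t u * h⁻¹ =
      cU m (dE chevF4 h 25 * t) (f4Theta K m (dE chevF4 h 25) * dE chevF4 h 25 * u) := by
  obtain ⟨_, e2⟩ := fix_dE m _ hd hf
  have ec : dE chevF4 h 28 = f4Theta K m (dE chevF4 h 25) * dE chevF4 h 25 := by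
    rw [dE_28 _ hd, e2]
  have ed : dE chevF4 h 30 = f4Theta K m (dE chevF4 h 25) ^ 2 * dE chevF4 h 25 := by
    rw [dE_30 _ hd, e2]
  exact clsEl_conj m 27 25 28 30 (by decide) (by decide) (by decide) (by decide) (f4_theta_theta_sq m hK) _ hd e2
    ec ed t u

theorem f4W_mem_monomial : f4W K ∈ chevF4.monomialSubgroup K := mul_mem fN1_mem_monomial fN2_mem_monomial

theorem perm_f4W : cert12_F4.c6.c2.Perm (f4W K) piW := by
  have := cert12_F4.c6.perm_mul (perm_fN1 (K := K)) (perm_fN2 (K := K))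
  exact this

theorem f4g_chk_rot : (48 > 37 ∧ 48 > 32 ∧ piW 37 = 14 ∧ piW 32 = 23) ∧ (48 > 14 ∧ 48 > 23 ∧ piW 14 = 9 ∧ piW 23 = 4) ∧
    (48 > 9 ∧ 48 > 4 ∧ piW 9 = 8 ∧ piW 4 = 2) ∧ (48 > 8 ∧ 48 > 2 ∧ piW 8 = 10 ∧ piW 2 = 15) ∧
    (48 > 10 ∧ 48 > 15 ∧ piW 10 = 33 ∧ piW 15 = 24) := by decide

theorem f4g_chk_rotC :
    (48 > 27 ∧ 48 > 25 ∧ 48 > 28 ∧ 48 > 30 ∧ piW 27 = 13 ∧ piW 25 = 21 ∧ piW 28 = 11 ∧ piW 30 = 5) ∧
    (48 > 13 ∧ 48 > 21 ∧ 48 > 11 ∧ 48 > 5 ∧ piW 13 = 18 ∧ piW 21 = 6 ∧ piW 11 = 3 ∧ piW 5 = 0) ∧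
    (48 > 18 ∧ 48 > 6 ∧ 48 > 3 ∧ 48 > 0 ∧ piW 18 = 12 ∧ piW 6 = 16 ∧ piW 3 = 7 ∧ piW 0 = 1) ∧
    (48 > 12 ∧ 48 > 16 ∧ 48 > 7 ∧ 48 > 1 ∧ piW 12 = 20 ∧ piW 16 = 22 ∧ piW 7 = 19 ∧ piW 1 = 17) := by decide

theorem f4g_chk_rotI : piWi 27 = 35 ∧ piWi 25 = 31 ∧ piWi 28 = 40 ∧ piWi 30 = 46 ∧ piW 31 = 25 := by decide

/-- a subgroup containing a suitable element of the torus and the product of a root element of Suzuki type and
the Coxeter element contains the large Ree group -/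
theorem f4_two_gen_of (m : ℕ) (hK : Fintype.card K = 2 ^ (2 * m + 1)) (h : GL chevF4.Idx K)
    (hd : h ∈ chevF4.diagonalSubgroup K) (htw : h ∈ twistedF4 K (2 ^ m))
    (hgen : ∀ t : K, t ≠ 0 → ∃ n : ℕ, t = dE chevF4 h 25 ^ n)
    (hne1 : dE chevF4 h 25 ≠ 1) (hne2 : dE chevF4 h 31 ≠ 1)
    (G1 : Subgroup (GL chevF4.Idx K)) (hh : h ∈ G1) (hb : cU m 1 0 * f4W K ∈ G1) :
    twistedF4 K (2 ^ m) ≤ G1 := by
  have hX := f4g_suz (K := K) m hK
  have hl0 : dE chevF4 h 25 ≠ 0 := cert12_F4.dE_ne_zero h hd 25 (by decide)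
  have hn0 : dE chevF4 h 31 ≠ 0 := cert12_F4.dE_ne_zero h hd 31 (by decide)
  -- the conjugate of `h` by the Coxeter element
  have hd2 : f4W K * h * (f4W K)⁻¹ ∈ chevF4.diagonalSubgroup K :=
    (Subgroup.mem_normalizer_iff.mp (cert12_F4.c6.c2.monomial_le_normalizer_diag f4W_mem_monomial) h).mp hd
  have htw2 : f4W K * h * (f4W K)⁻¹ ∈ twistedF4 K (2 ^ m) :=
    mul_mem (mul_mem (f4W_mem_tw m) htw) (inv_mem (f4W_mem_tw m))
  have hdE2 : dE chevF4 (f4W K * h * (f4W K)⁻¹) 25 = dE chevF4 h 31 := by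
    have := cert12_F4.conj_diag_dE (f4W K) piW perm_f4W h hd hd2 31 (by decide)
    rwa [f4g_chk_rotI.2.2.2.2] at this
  -- the element `k`
  have hkd : h * (f4W K * h * (f4W K)⁻¹)⁻¹ ∈ chevF4.diagonalSubgroup K := mul_mem hd (inv_mem hd2)
  have hktw : h * (f4W K * h * (f4W K)⁻¹)⁻¹ ∈ twistedF4 K (2 ^ m) := mul_mem htw (inv_mem htw2)
  have hkE : dE chevF4 (h * (f4W K * h * (f4W K)⁻¹)⁻¹) 25 = dE chevF4 h 25 * (dE chevF4 h 31)⁻¹ := by
    rw [cert12_F4.dE_mul h _ hd (inv_mem hd2) 25 (by decide), cert12_F4.dE_inv _ hd2 25 (by decide), hdE2]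
  have hkdef : h * (f4W K * h * (f4W K)⁻¹)⁻¹ = h * f4W K * h⁻¹ * (f4W K)⁻¹ := by group
  have hcomm : Commute h (h * (f4W K * h * (f4W K)⁻¹)⁻¹) := cert12_F4.c6.c2.diag_comm _ _ hd hkd
  have hconj_h := f4g_fixdiag_conj_cU m hK h hd (twistedF4_le_fix m hK htw)
  have hconj_k := f4g_fixdiag_conj_cU m hK _ hkd (twistedF4_le_fix m hK hktw)
  rw [hkE] at hconj_k
  obtain ⟨u0, hu0⟩ := hX.steinberg h _ (f4W K) (dE chevF4 h 25) (dE chevF4 h 25 * (dE chevF4 h 31)⁻¹)
    hconj_h hconj_k hkdef hcomm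
  have hc : h * (cU m 1 0 * f4W K) * h⁻¹ * (cU m 1 0 * f4W K)⁻¹ ∈ G1 :=
    mul_mem (mul_mem (mul_mem hh hb) (inv_mem hh)) (inv_mem hb)
  have hdm : cU m ((dE chevF4 h 25 + 1) * (dE chevF4 h 25 + dE chevF4 h 25 * (dE chevF4 h 31)⁻¹)) u0 ∈ G1 := by
    rw [← hu0]
    exact mul_mem (mul_mem (mul_mem hh hc) (inv_mem hh)) (inv_mem hc)
  have ht0 : (dE chevF4 h 25 + 1) * (dE chevF4 h 25 + dE chevF4 h 25 * (dE chevF4 h 31)⁻¹) ≠ 0 := by
    apply mul_ne_zero (add_one_ne_zero_char2 _ hne1)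
    have e : dE chevF4 h 25 + dE chevF4 h 25 * (dE chevF4 h 31)⁻¹ =
        dE chevF4 h 25 * (dE chevF4 h 31)⁻¹ * (dE chevF4 h 31 + 1) := by
      field_simp
    rw [e]
    exact mul_ne_zero (mul_ne_zero hl0 (inv_ne_zero hn0)) (add_one_ne_zero_char2 _ hne2)
  -- the root group of Suzuki type at the fundamental root
  have hC8 : ∀ t u : K, cU m t u ∈ G1 :=
    hX.fill (f4_theta_theta_sq m hK) G1 h hh (dE chevF4 h 25) hconj_h hgen _ u0 ht0 hdm
  -- the Coxeter element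
  have hw : f4W K ∈ G1 := by
    have := mul_mem (inv_mem (hC8 1 0)) hb
    rwa [inv_mul_cancel_left] at this
  -- the root group at the previous even root
  have hC6 : ∀ t u : K, clsEl m 35 31 40 46 t u ∈ G1 := by
    intro t u
    have := f4W_inv_conj_cls (K := K) m 27 25 28 30 (by decide) (by decide) (by decide) (by decide) t u
    rw [f4g_chk_rotI.1, f4g_chk_rotI.2.1, f4g_chk_rotI.2.2.1, f4g_chk_rotI.2.2.2.1] at this
    rw [← this]
    exact mul_mem (mul_mem (inv_mem hw) (hC8 t u)) hw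
  -- the root groups at the odd roots
  have hP7 : ∀ t : K, pairEl m 37 32 t ∈ G1 := by
    intro t
    have := f4g_comm_68 (K := K) m t 0 1 0
    rw [mul_one] at this
    rw [← this]
    exact mul_mem (mul_mem (mul_mem (hC6 t 0) (hC8 1 0)) (inv_mem (hC6 t 0))) (inv_mem (hC8 1 0))
  have hP9 := f4W_pair_step m G1 hw 37 32 14 23 f4g_chk_rot.1 hP7
  have hP11 := f4W_pair_step m G1 hw 14 23 9 4 f4g_chk_rot.2.1 hP9
  have hP13 := f4W_pair_step m G1 hw 9 4 8 2 f4g_chk_rot.2.2.1 hP11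
  have hP15 := f4W_pair_step m G1 hw 8 2 10 15 f4g_chk_rot.2.2.2.1 hP13
  have hP1 := f4W_pair_step m G1 hw 10 15 33 24 f4g_chk_rot.2.2.2.2 hP15
  -- the root groups at the even roots
  have hC10 := f4W_cls_step m G1 hw 27 25 28 30 13 21 11 5 f4g_chk_rotC.1 hC8
  have hC12 := f4W_cls_step m G1 hw 13 21 11 5 18 6 3 0 f4g_chk_rotC.2.1 hC10
  have hC14 := f4W_cls_step m G1 hw 18 6 3 0 12 16 7 1 f4g_chk_rotC.2.2.1 hC12
  have hC16 := f4W_cls_step m G1 hw 12 16 7 1 20 22 19 17 f4g_chk_rotC.2.2.2 hC14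
  exact twistedF4_le m G1 hP1 hP9 hC8 hC16

theorem dE_31 (h : GL chevF4.Idx K) (hh : h ∈ chevF4.diagonalSubgroup K) :
    dE chevF4 h 31 = dE chevF4 h 30 * dE chevF4 h 24 := by
  have := cert12_F4.dE_of_carZ h hh 31 30 24 (by decide) (by decide) (by decide) 1 1 (by decide)
  rwa [zpow_one, zpow_one] at this

/-- a subgroup containing the torus element `h(1, z)`, `z` a generator of `Kˣ`, and `x_8(1, 0) n_w` contains the
large Ree group -/
theorem f4_two_gen (m : ℕ) (hK : Fintype.card K = 2 ^ (2 * m + 1)) (hm : 1 ≤ m) (z : Kˣ)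
    (hz : ∀ x : Kˣ, x ∈ Subgroup.zpowers z) (G1 : Subgroup (GL chevF4.Idx K)) (hh : f4Tor m ((1 : Kˣ), z) ∈ G1)
    (hb : cU m 1 0 * f4W K ∈ G1) : twistedF4 K (2 ^ m) ≤ G1 := by
  have hd := f4Tor_mem_diag (K := K) m ((1 : Kˣ), z)
  have htw := f4Tor_mem_tw (K := K) m ((1 : Kˣ), z)
  obtain ⟨e24, e25⟩ := dE_f4Tor m hK ((1 : Kˣ), z)
  simp only [Units.val_one] at e24 e25
  have hord : orderOf z = 2 ^ (2 * m + 1) - 1 := by
    rw [orderOf_eq_card_of_forall_mem_zpowers hz, Nat.card_units, Nat.card_eq_fintype_card, hK]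
  have key : ∀ k : ℕ, 0 < k → k < 2 ^ (2 * m + 1) - 1 → (z : K) ^ k ≠ 1 := by
    intro k hk0 hk h
    have h' : z ^ k = 1 := by
      apply Units.ext
      rw [Units.val_pow_eq_pow_val, h]; rfl
    have := orderOf_dvd_of_pow_eq_one h'
    rw [hord] at this
    have := Nat.le_of_dvd hk0 this
    omega
  have hpow : 2 ^ (m + 1) * 2 ^ m = 2 ^ (2 * m + 1) := by
    rw [← pow_add]
    congr 1
    omega
  have h2m : 2 ≤ 2 ^ m := by
    calc 2 = 2 ^ 1 := by norm_num
      _ ≤ 2 ^ m := Nat.pow_le_pow_right (by norm_num) hm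
  have h4 : 4 ≤ 2 ^ (m + 1) := by
    rw [pow_succ]; omega
  have hlt : 2 ^ (m + 1) + 1 < 2 ^ (2 * m + 1) - 1 := by
    have : 2 ^ (m + 1) * 2 ≤ 2 ^ (m + 1) * 2 ^ m := Nat.mul_le_mul_left _ h2m
    omega
  apply f4_two_gen_of m hK _ hd htw _ _ _ G1 hh hb
  · -- every non-zero element is a power of `z`
    intro t ht
    rw [e25]
    have hmem := hz (Units.mk0 t ht)
    rw [← mem_powers_iff_mem_zpowers] at hmem
    obtain ⟨n, hn⟩ := Submonoid.mem_powers_iff _ _ |>.mp hmem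
    refine ⟨n, ?_⟩
    have := congrArg Units.val hn
    rw [Units.val_pow_eq_pow_val, Units.val_mk0] at this
    exact this.symm
  · rw [e25]
    have := key 1 (by norm_num) (by omega)
    rwa [pow_one] at this
  · rw [dE_31 _ hd, dE_30 _ hd, (fix_dE m _ hd (twistedF4_le_fix m hK htw)).2, e24, e25, mul_one, f4Theta_apply,
      ← pow_mul, ← pow_succ, ← pow_succ]
    exact key _ (by omega) hlt

end F4

end Cfsg.Agent.Lib.H29.Chev
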