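import Mathlib
import Cfsg.Prelude.Def_ChevStructure
import Cfsg.Agent.Lib.H29.D4SingA
import Cfsg.Agent.Lib.H29.ChevGen37

/-!
# Conjugating the rank one subgroups by the elements of `N` (generic)

An element `n` of `N` conjugates `X_s` onto `X_{π s}`, multiplying the parameter by a constant `c_s`; the constants
at opposite roots are inverse to each other, so that `n φ_r(X) n⁻¹ = φ_{π r}(d_c X d_c⁻¹)`.
-/

set_option autoImplicit false
set_option linter.unusedSectionVars false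
set_option linter.unusedSimpArgs false
set_option linter.unusedVariables false

namespace Cfsg.Agent.Lib.H29.Chev

open Cfsg.Lie Matrix Cfsg.Agent.Lib.H12 Cfsg.Agent.Lib.H29.G2Inv

variable {D : ChevalleyDatum} {fd : FD} {fx : FX} {fc : FC} {fz : FZ} {F : Type*} [Field F]

namespace Cert12

variable (C : Cert12 D fd fx fc fz)

/-- `n` permutes the root subgroups according to `π`, with inverse constants at opposite roots -/
def Perm2 (n : GL D.Idx F) (π : ℕ → ℕ) : Prop :=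
  ∀ s < fd.n, π s < fd.n ∧ π (fd.n - 1 - s) = fd.n - 1 - π s ∧
    ∃ c : Fˣ, (∀ t, n * C.c6.c2.xA s t * n⁻¹ = C.c6.c2.xA (π s) ((c : F) * t)) ∧
      (∀ t, n * C.c6.c2.xA (fd.n - 1 - s) t * n⁻¹ = C.c6.c2.xA (fd.n - 1 - π s) ((c : F)⁻¹ * t))

include C

theorem Perm2.perm {n : GL D.Idx F} {π : ℕ → ℕ} (h : C.Perm2 n π) : C.c6.c2.Perm n π := by
  intro s hs
  obtain ⟨h1, h2, c, h3, _⟩ := h s hs
  exact ⟨h1, h2, c, h3⟩

theorem perm2_one : C.Perm2 (1 : GL D.Idx F) id := by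
  intro s hs
  exact ⟨hs, rfl, 1, fun t => by simp, fun t => by simp⟩

theorem perm2_mul {a b : GL D.Idx F} {πa πb : ℕ → ℕ} (ha : C.Perm2 a πa) (hb : C.Perm2 b πb) :
    C.Perm2 (a * b) (πa ∘ πb) := by
  intro s hs
  obtain ⟨b1, b2, cb, b3, b4⟩ := hb s hs
  obtain ⟨a1, a2, ca, a3, a4⟩ := ha (πb s) b1
  refine ⟨a1, ?_, ca * cb, fun t => ?_, fun t => ?_⟩
  · simp only [Function.comp]
    rw [b2, a2]
  · have : a * b * C.c6.c2.xA s t * (a * b)⁻¹ = a * (b * C.c6.c2.xA s t * b⁻¹) * a⁻¹ := by group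
    rw [this, b3, a3, Units.val_mul, mul_assoc]
    rfl
  · have : a * b * C.c6.c2.xA (fd.n - 1 - s) t * (a * b)⁻¹ =
        a * (b * C.c6.c2.xA (fd.n - 1 - s) t * b⁻¹) * a⁻¹ := by group
    rw [this, b4, a4]
    have e : (((ca * cb : Fˣ) : Fˣ) : F)⁻¹ * t = (ca : F)⁻¹ * ((cb : F)⁻¹ * t) := by
      rw [Units.val_mul, mul_inv, mul_assoc]
    rw [e]
    rfl

theorem perm2_diag (k : GL D.Idx F) (hk : k ∈ D.diagonalSubgroup F) : C.Perm2 k id := by
  intro s hs
  have hs' : fd.n - 1 - s < fd.n := by omega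
  refine ⟨hs, rfl, Units.mk0 (dE D k s) (C.dE_ne_zero k hk s hs), fun t => ?_, fun t => ?_⟩
  · exact C.diag_conj_xA k hk s hs t
  · rw [C.diag_conj_xA k hk _ hs', C.dE_neg k hk s hs]
    rfl

/-- the constants of the fundamental reflections are `±1` -/
theorem perm2_nG (hη : ∀ i < fd.l, ∀ s < fd.n,
      fd.neta fx (fd.simples.getD i 0) (fd.n - 1 - s) = fd.neta fx (fd.simples.getD i 0) s)
    (i : ℕ) (hi : i < fd.l) :
    C.Perm2 (C.c6.c2.nG (F := F) (fd.simples.getD i 0) (C.c6.c2.simple_lt i hi)) (fd.nw fx (fd.simples.getD i 0)) ∧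
    C.Perm2 (C.c6.c2.nG (F := F) (fd.simples.getD i 0) (C.c6.c2.simple_lt i hi))⁻¹
      (fd.nw fx (fd.simples.getD i 0)) := by
  have hp := C.c6.c2.simple_lt i hi
  have hunit : ∀ s, (((fd.neta fx (fd.simples.getD i 0) s : ℤ) : F)) * ((fd.neta fx (fd.simples.getD i 0) s : ℤ) : F) = 1 := by
    intro s
    rw [← Int.cast_mul, fd.neta_sq, Int.cast_one]
  have hne : ∀ s, (((fd.neta fx (fd.simples.getD i 0) s : ℤ) : F)) ≠ 0 := by
    intro s h0
    have := hunit s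
    rw [h0, zero_mul] at this
    exact zero_ne_one this
  have hinv : ∀ s, (((fd.neta fx (fd.simples.getD i 0) s : ℤ) : F))⁻¹ = ((fd.neta fx (fd.simples.getD i 0) s : ℤ) : F) := by
    intro s
    exact inv_eq_of_mul_eq_one_left (hunit s)
  constructor
  · intro s hs
    have hs' : fd.n - 1 - s < fd.n := by omega
    obtain ⟨h1, _, _⟩ := fd.up_spec C.c6.up i hi s hs
    refine ⟨(fd.nw_spec C.c6.c2.chk.nn _ s hp hs).1, h1, Units.mk0 _ (hne s), fun t => ?_, fun t => ?_⟩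
    · exact C.c6.c2.nG_conj_x _ s hp hs (fd.conj_spec C.c6.c5.c3.conj i s hi hs) t
    · have := C.c6.c2.nG_conj_x (F := F) _ _ hp hs' (fd.conj_spec C.c6.c5.c3.conj i _ hi hs') t
      rw [this, h1, hη i hi s hs]
      congr 1
      show _ = (((fd.neta fx (fd.simples.getD i 0) s : ℤ) : F))⁻¹ * t
      rw [hinv]
  · intro s hs
    have hs' : fd.n - 1 - s < fd.n := by omega
    obtain ⟨h1, h2, _⟩ := fd.up_spec C.c6.up i hi s hs
    obtain ⟨h1', h2', _⟩ := fd.up_spec C.c6.up i hi _ hs'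
    have hw := (fd.nw_spec C.c6.c2.chk.nn _ s hp hs).1
    have hw' : fd.n - 1 - fd.nw fx (fd.simples.getD i 0) s < fd.n := by omega
    refine ⟨hw, h1, Units.mk0 _ (hne (fd.nw fx (fd.simples.getD i 0) s)), fun t => ?_, fun t => ?_⟩
    · have key := C.c6.c2.nG_conj_x (F := F) _ _ hp hw (fd.conj_spec C.c6.c5.c3.conj i _ hi hw)
        (((fd.neta fx (fd.simples.getD i 0) (fd.nw fx (fd.simples.getD i 0) s) : ℤ) : F) * t)
      rw [h2, ← mul_assoc, hunit, one_mul] at key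
      rw [inv_inv]
      exact conj_inv_of_conj key
    · obtain ⟨k1, _, _⟩ := fd.up_spec C.c6.up i hi _ hw
      have key := C.c6.c2.nG_conj_x (F := F) _ _ hp hw' (fd.conj_spec C.c6.c5.c3.conj i _ hi hw')
        (((fd.neta fx (fd.simples.getD i 0) (fd.nw fx (fd.simples.getD i 0) s) : ℤ) : F) * t)
      rw [k1, h2, hη i hi _ hw, ← mul_assoc, hunit, one_mul] at key
      rw [inv_inv]
      have := conj_inv_of_conj key
      rw [this]
      congr 1
      show _ = (((fd.neta fx (fd.simples.getD i 0) (fd.nw fx (fd.simples.getD i 0) s) : ℤ) : F))⁻¹ * t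
      rw [hinv]

/-- every element of `N` permutes the root subgroups with inverse constants at opposite roots -/
theorem perm2_of_mem (hη : ∀ i < fd.l, ∀ s < fd.n,
      fd.neta fx (fd.simples.getD i 0) (fd.n - 1 - s) = fd.neta fx (fd.simples.getD i 0) s)
    (n : GL D.Idx F) (hn : n ∈ D.monomialSubgroup F) :
    (∃ π, C.Perm2 n π) ∧ (∃ π, C.Perm2 n⁻¹ π) := by
  rw [← C.c6.closure_SSet_sup_diag, ← Subgroup.closure_eq (D.diagonalSubgroup F), ← Subgroup.closure_union] at hn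
  induction hn using Subgroup.closure_induction with
  | mem x hx =>
    rcases hx with hx | hx
    · obtain ⟨i, hi, rfl⟩ := C.c6.eq_nG_of_SSet x hx
      exact ⟨⟨_, (C.perm2_nG hη i hi).1⟩, ⟨_, (C.perm2_nG hη i hi).2⟩⟩
    · exact ⟨⟨_, C.perm2_diag x hx⟩, ⟨_, C.perm2_diag x⁻¹ (inv_mem hx)⟩⟩
  | one => exact ⟨⟨_, C.perm2_one⟩, ⟨_, by rw [inv_one]; exact C.perm2_one⟩⟩
  | mul x y _ _ hx hy =>
    obtain ⟨⟨π1, h1⟩, ⟨π1', h1'⟩⟩ := hx
    obtain ⟨⟨π2, h2⟩, ⟨π2', h2'⟩⟩ := hy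
    exact ⟨⟨_, C.perm2_mul h1 h2⟩, ⟨_, by rw [_root_.mul_inv_rev]; exact C.perm2_mul h2' h1'⟩⟩
  | inv x _ hx =>
    obtain ⟨h1, h2⟩ := hx
    exact ⟨h2, by rw [inv_inv]; exact h1⟩

/-- **conjugation of a rank one subgroup by an element of `N`** -/
theorem conj_phiR_of_monomial (hη : ∀ i < fd.l, ∀ s < fd.n,
      fd.neta fx (fd.simples.getD i 0) (fd.n - 1 - s) = fd.neta fx (fd.simples.getD i 0) s)
    (n : GL D.Idx F) (hn : n ∈ D.monomialSubgroup F) (π : ℕ → ℕ) (hπ : C.c6.c2.Perm n π) (r : ℕ) (hr : r < fd.n) :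
    ∃ c : Fˣ, ∀ X : Matrix.SpecialLinearGroup (Fin 2) F,
      n * C.phiR F r X * n⁻¹ = C.phiR F (π r) (dcj c X) := by
  obtain ⟨⟨π2, hπ2⟩, _⟩ := C.perm2_of_mem hη n hn
  have he := C.perm_unique n π2 π (Cert12.Perm2.perm C hπ2) hπ r hr
  obtain ⟨h1, h2, c, h3, h4⟩ := hπ2 r hr
  rw [he] at h1 h3 h4
  refine ⟨c, fun X => ?_⟩
  have key : (MulAut.conj n).toMonoidHom.comp (C.phiR F r) = (C.phiR F (π r)).comp (dcj c) := by
    apply sl2_hom_ext
    · intro t
      simp only [MonoidHom.comp_apply, MulEquiv.coe_toMonoidHom, MulAut.conj_apply]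
      rw [dcj_upM, C.phiR_up r hr, C.phiR_up _ h1, h3]
    · intro t
      simp only [MonoidHom.comp_apply, MulEquiv.coe_toMonoidHom, MulAut.conj_apply]
      rw [dcj_loM, C.phiR_lo r hr, C.phiR_lo _ h1, h4]
  have := congrArg (fun f => f X) key
  simpa using this

end Cert12

end Cfsg.Agent.Lib.H29.Chev
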