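import Mathlib
import Cfsg.Agent.Lib.H29.G2InvD

/-!
# Lang's equation in `SL₂` over an algebraically closed field, for a Frobenius map twisted by a diagonal matrix

For `ψ x = x ^ Q` and `c ≠ 0` there is `a ∈ SL₂(K)` with `d_c ψ(a) d_c⁻¹ = a w(δ)` for some `δ ≠ 0`, where
`w(δ) = [[0, δ], [-δ⁻¹, 0]]`.
-/

set_option autoImplicit false
set_option linter.unusedSectionVars false
set_option linter.unusedSimpArgs false
set_option linter.unusedVariables false

namespace Cfsg.Agent.Lib.H29.F4Sing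

open Matrix Cfsg.Agent.Lib.H12 Cfsg.Agent.Lib.H29.G2Inv

variable {K : Type*} [Field K]

/-- the Frobenius endomorphism twisted by the diagonal matrix `diag(c, 1)` -/
noncomputable def Tw (ψ : K →+* K) (c : Kˣ) :
    Matrix.SpecialLinearGroup (Fin 2) K →* Matrix.SpecialLinearGroup (Fin 2) K :=
  (dcj c).comp (Matrix.SpecialLinearGroup.map ψ)

theorem Tw_apply (ψ : K →+* K) (c : Kˣ) (X : Matrix.SpecialLinearGroup (Fin 2) K) :
    Tw ψ c X = dcj c (Matrix.SpecialLinearGroup.map ψ X) := rfl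

theorem Tw_comp (ψ ψ' : K →+* K) (c c' : Kˣ) (X : Matrix.SpecialLinearGroup (Fin 2) K) :
    Tw ψ c (Tw ψ' c' X) = Tw (ψ.comp ψ') (c * Units.map ψ.toMonoidHom c') X := by
  have hc : (c : K) ≠ 0 := c.ne_zero
  have hc' : (c' : K) ≠ 0 := c'.ne_zero
  have hψc' : ψ (c' : K) ≠ 0 := by
    rw [Ne, map_eq_zero]; exact hc'
  apply StPresG.sl2_ext <;>
    simp [Tw, dcj, Matrix.SpecialLinearGroup.map_apply_coe, map_inv₀] <;> ring

/-- **Lang's equation in `SL₂`** -/
theorem sl2_lang [IsAlgClosed K] (ψ : K →+* K) (Q : ℕ) (hQ : 2 ≤ Q) (hψ : ∀ x, ψ x = x ^ Q) (c : Kˣ) :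
    ∃ (a : Matrix.SpecialLinearGroup (Fin 2) K) (δ : K) (hδ : δ ≠ 0), Tw ψ c a = a * StPresG.wM δ hδ := by
  have hc : (c : K) ≠ 0 := c.ne_zero
  obtain ⟨δ, hδQ⟩ := IsAlgClosed.exists_pow_nat_eq (-(c : K)⁻¹) (show 0 < Q - 1 by omega)
  have hδ : δ ≠ 0 := by
    intro h0
    rw [h0, zero_pow (by omega)] at hδQ
    have : (c : K)⁻¹ = 0 := neg_eq_zero.mp hδQ.symm
    exact hc (inv_eq_zero.mp this)
  have hψδ : ψ δ = -(c : K)⁻¹ * δ := by
    rw [hψ, ← hδQ, ← pow_succ]
    congr 1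
    omega
  -- a root of `X ^ Q + X - 1`
  have hdeg : (Polynomial.X ^ Q + (Polynomial.X - Polynomial.C (1 : K)) : Polynomial K).degree = Q := by
    rw [Polynomial.degree_add_eq_left_of_degree_lt, Polynomial.degree_X_pow]
    rw [Polynomial.degree_X_sub_C, Polynomial.degree_X_pow]
    exact_mod_cast (show 1 < Q by omega)
  obtain ⟨w, hw⟩ := IsAlgClosed.exists_root
    (Polynomial.X ^ Q + (Polynomial.X - Polynomial.C (1 : K)) : Polynomial K) (by
      rw [hdeg]
      intro h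
      have : (Q : WithBot ℕ) = 0 := h
      have : Q = 0 := by exact_mod_cast this
      omega)
  have hw' : w ^ Q + w = 1 := by
    have := hw
    rw [Polynomial.IsRoot.def, Polynomial.eval_add, Polynomial.eval_pow, Polynomial.eval_X, Polynomial.eval_sub,
      Polynomial.eval_X, Polynomial.eval_C] at this
    linear_combination this
  have hψw : ψ w = 1 - w := by rw [hψ]; linear_combination hw'
  have hψψw : ψ (ψ w) = w := by rw [hψw, map_sub, map_one, hψw]; ring
  refine ⟨mk2 1 (-δ) (ψ w / δ) w (by rw [hψw]; field_simp; ring), δ, hδ, ?_⟩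
  apply StPresG.sl2_ext
  · simp [Tw, dcj, Matrix.SpecialLinearGroup.map_apply_coe, Matrix.SpecialLinearGroup.coe_mul, Matrix.mul_apply,
      Fin.sum_univ_two, hδ]
  · simp [Tw, dcj, Matrix.SpecialLinearGroup.map_apply_coe, Matrix.SpecialLinearGroup.coe_mul, Matrix.mul_apply,
      Fin.sum_univ_two, hψδ]
  · simp [Tw, dcj, Matrix.SpecialLinearGroup.map_apply_coe, Matrix.SpecialLinearGroup.coe_mul, Matrix.mul_apply,
      Fin.sum_univ_two, hψδ, hψψw, map_div₀]
    field_simp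
  · simp [Tw, dcj, Matrix.SpecialLinearGroup.map_apply_coe, Matrix.SpecialLinearGroup.coe_mul, Matrix.mul_apply,
      Fin.sum_univ_two, hδ]

end Cfsg.Agent.Lib.H29.F4Sing
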