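import Mathlib
import Cfsg.Prelude.Def_ChevStructure
import Cfsg.Agent.Lib.H29.F4SingA
import Cfsg.Agent.Lib.H29.F4SingB

/-!
# Solving Lang's equation `g⁻¹ σ(g) = n` by rank one steps (generic)

Given `σ(g) = g n` with `n ∈ N` inducing the permutation `π` of the roots, and a `π`-cycle of roots whose rank one
subgroups commute with each other, there is `g'` with `σ(g') = g' φ_r(w(δ)) n`.
-/

set_option autoImplicit false
set_option linter.unusedSectionVars false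
set_option linter.unusedSimpArgs false
set_option linter.unusedVariables false

namespace Cfsg.Agent.Lib.H29.Chev

open Cfsg.Lie Matrix Cfsg.Agent.Lib.H12 Cfsg.Agent.Lib.H29.G2Inv Cfsg.Agent.Lib.H29.F4Sing

variable {D : ChevalleyDatum} {fd : FD} {fx : FX} {fc : FC} {fz : FZ} {K : Type*} [Field K]

namespace Cert12

variable (C : Cert12 D fd fx fc fz)

/-- `σ(g) = g n` with `n ∈ N` inducing the permutation `π` of the roots -/
structure LangData (φ : K →+* K) (g n : GL D.Idx K) (π : ℕ → ℕ) : Prop where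
  hg : g ∈ D.group K
  hn : n ∈ D.monomialSubgroup K
  hπ : C.c6.c2.Perm n π
  hσ : bc D φ g = g * n

include C

theorem langData_one (φ : K →+* K) : C.LangData φ (1 : GL D.Idx K) 1 id :=
  ⟨one_mem _, one_mem _, C.c6.perm_one, by rw [map_one, mul_one]⟩

theorem conj_mul_eq {G : Type*} [Group G] (n x : G) : n * x = (n * x * n⁻¹) * n := by group

/-- a cycle of length one -/
theorem stage1 [IsAlgClosed K] (hη : ∀ i < fd.l, ∀ s < fd.n,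
      fd.neta fx (fd.simples.getD i 0) (fd.n - 1 - s) = fd.neta fx (fd.simples.getD i 0) s)
    (φ : K →+* K) (q : ℕ) (hq : 2 ≤ q) (hφ : ∀ x, φ x = x ^ q) (g n : GL D.Idx K) (π : ℕ → ℕ)
    (L : C.LangData φ g n π) (r : ℕ) (hr : r < fd.n) (hfix : π r = r) (ρ : ℕ → ℕ)
    (hρP : ∀ (t : K) (ht : t ≠ 0), C.c6.c2.Perm (C.phiR K r (StPresG.wM t ht)) ρ)
    (hρN : ∀ (t : K) (ht : t ≠ 0), C.phiR K r (StPresG.wM t ht) ∈ D.monomialSubgroup K) :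
    ∃ g' n', C.LangData φ g' n' (ρ ∘ π) := by
  obtain ⟨c, hc⟩ := C.conj_phiR_of_monomial hη n L.hn π L.hπ r hr
  rw [hfix] at hc
  obtain ⟨a, δ, hδ, ha⟩ := sl2_lang φ q hq hφ c
  refine ⟨g * C.phiR K r a, C.phiR K r (StPresG.wM δ hδ) * n,
    mul_mem L.hg (C.phiR_mem_group r hr a), mul_mem (hρN δ hδ) L.hn, C.c6.perm_mul (hρP δ hδ) L.hπ, ?_⟩
  rw [map_mul, L.hσ, C.bc_phiR φ r hr, mul_assoc g n, C.conj_mul_eq n, hc, ← Tw_apply, ha, map_mul]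
  group

/-- a cycle of length two -/
theorem stage2 [IsAlgClosed K] (hη : ∀ i < fd.l, ∀ s < fd.n,
      fd.neta fx (fd.simples.getD i 0) (fd.n - 1 - s) = fd.neta fx (fd.simples.getD i 0) s)
    (φ : K →+* K) (q : ℕ) (hq : 2 ≤ q) (hφ : ∀ x, φ x = x ^ q) (g n : GL D.Idx K) (π : ℕ → ℕ)
    (L : C.LangData φ g n π) (r0 r1 : ℕ) (hr0 : r0 < fd.n) (hr1 : r1 < fd.n) (h01 : π r0 = r1) (h10 : π r1 = r0)
    (hc01 : ∀ X Y, C.phiR K r0 X * C.phiR K r1 Y = C.phiR K r1 Y * C.phiR K r0 X) (ρ : ℕ → ℕ)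
    (hρP : ∀ (t : K) (ht : t ≠ 0), C.c6.c2.Perm (C.phiR K r0 (StPresG.wM t ht)) ρ)
    (hρN : ∀ (t : K) (ht : t ≠ 0), C.phiR K r0 (StPresG.wM t ht) ∈ D.monomialSubgroup K) :
    ∃ g' n', C.LangData φ g' n' (ρ ∘ π) := by
  obtain ⟨c0, hc0⟩ := C.conj_phiR_of_monomial hη n L.hn π L.hπ r0 hr0
  obtain ⟨c1, hc1⟩ := C.conj_phiR_of_monomial hη n L.hn π L.hπ r1 hr1
  rw [h01] at hc0
  rw [h10] at hc1
  have hψ : ∀ x, (φ.comp φ) x = x ^ (q ^ 2) := by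
    intro x
    simp only [RingHom.comp_apply, hφ]
    rw [← pow_mul, pow_two]
  have hQ : 2 ≤ q ^ 2 := le_trans hq (Nat.le_self_pow (by norm_num) q)
  obtain ⟨a, δ, hδ, ha⟩ := sl2_lang (φ.comp φ) (q ^ 2) hQ hψ (c1 * Units.map φ.toMonoidHom c0)
  rw [← Tw_comp] at ha
  set a1 := Tw φ c0 a with ha1
  refine ⟨g * (C.phiR K r0 a * C.phiR K r1 a1), C.phiR K r0 (StPresG.wM δ hδ) * n,
    mul_mem L.hg (mul_mem (C.phiR_mem_group r0 hr0 a) (C.phiR_mem_group r1 hr1 a1)),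
    mul_mem (hρN δ hδ) L.hn, C.c6.perm_mul (hρP δ hδ) L.hπ, ?_⟩
  have e1 : n * (C.phiR K r0 (Matrix.SpecialLinearGroup.map φ a) * C.phiR K r1 (Matrix.SpecialLinearGroup.map φ a1)) =
      (n * C.phiR K r0 (Matrix.SpecialLinearGroup.map φ a) * n⁻¹) *
        (n * C.phiR K r1 (Matrix.SpecialLinearGroup.map φ a1) * n⁻¹) * n := by group
  rw [map_mul, map_mul, L.hσ, C.bc_phiR φ r0 hr0, C.bc_phiR φ r1 hr1, mul_assoc g n, e1, hc0, hc1, ← Tw_apply,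
    ← Tw_apply, ← ha1, ha, map_mul, ← mul_assoc (C.phiR K r1 a1), ← hc01]
  group

/-- a cycle of length four -/
theorem stage4 [IsAlgClosed K] (hη : ∀ i < fd.l, ∀ s < fd.n,
      fd.neta fx (fd.simples.getD i 0) (fd.n - 1 - s) = fd.neta fx (fd.simples.getD i 0) s)
    (φ : K →+* K) (q : ℕ) (hq : 2 ≤ q) (hφ : ∀ x, φ x = x ^ q) (g n : GL D.Idx K) (π : ℕ → ℕ)
    (L : C.LangData φ g n π) (r0 r1 r2 r3 : ℕ) (hr0 : r0 < fd.n) (hr1 : r1 < fd.n) (hr2 : r2 < fd.n)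
    (hr3 : r3 < fd.n) (h01 : π r0 = r1) (h12 : π r1 = r2) (h23 : π r2 = r3) (h30 : π r3 = r0)
    (hc01 : ∀ X Y, C.phiR K r0 X * C.phiR K r1 Y = C.phiR K r1 Y * C.phiR K r0 X)
    (hc02 : ∀ X Y, C.phiR K r0 X * C.phiR K r2 Y = C.phiR K r2 Y * C.phiR K r0 X)
    (hc03 : ∀ X Y, C.phiR K r0 X * C.phiR K r3 Y = C.phiR K r3 Y * C.phiR K r0 X) (ρ : ℕ → ℕ)
    (hρP : ∀ (t : K) (ht : t ≠ 0), C.c6.c2.Perm (C.phiR K r0 (StPresG.wM t ht)) ρ)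
    (hρN : ∀ (t : K) (ht : t ≠ 0), C.phiR K r0 (StPresG.wM t ht) ∈ D.monomialSubgroup K) :
    ∃ g' n', C.LangData φ g' n' (ρ ∘ π) := by
  obtain ⟨c0, hc0⟩ := C.conj_phiR_of_monomial hη n L.hn π L.hπ r0 hr0
  obtain ⟨c1, hc1⟩ := C.conj_phiR_of_monomial hη n L.hn π L.hπ r1 hr1
  obtain ⟨c2, hc2⟩ := C.conj_phiR_of_monomial hη n L.hn π L.hπ r2 hr2
  obtain ⟨c3, hc3⟩ := C.conj_phiR_of_monomial hη n L.hn π L.hπ r3 hr3
  rw [h01] at hc0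
  rw [h12] at hc1
  rw [h23] at hc2
  rw [h30] at hc3
  have hψ : ∀ x, (φ.comp (φ.comp (φ.comp φ))) x = x ^ (q ^ 4) := by
    intro x
    simp only [RingHom.comp_apply, hφ]
    rw [← pow_mul, ← pow_mul, ← pow_mul]
    congr 1
    ring
  have hQ : 2 ≤ q ^ 4 := le_trans hq (Nat.le_self_pow (by norm_num) q)
  obtain ⟨a, δ, hδ, ha⟩ := sl2_lang (φ.comp (φ.comp (φ.comp φ))) (q ^ 4) hQ hψ
    (c3 * Units.map φ.toMonoidHom (c2 * Units.map φ.toMonoidHom (c1 * Units.map φ.toMonoidHom c0)))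
  rw [← Tw_comp, ← Tw_comp, ← Tw_comp] at ha
  set a1 := Tw φ c0 a with ha1
  set a2 := Tw φ c1 a1 with ha2
  set a3 := Tw φ c2 a2 with ha3
  refine ⟨g * (C.phiR K r0 a * C.phiR K r1 a1 * C.phiR K r2 a2 * C.phiR K r3 a3),
    C.phiR K r0 (StPresG.wM δ hδ) * n,
    mul_mem L.hg (mul_mem (mul_mem (mul_mem (C.phiR_mem_group r0 hr0 a) (C.phiR_mem_group r1 hr1 a1))
      (C.phiR_mem_group r2 hr2 a2)) (C.phiR_mem_group r3 hr3 a3)),
    mul_mem (hρN δ hδ) L.hn, C.c6.perm_mul (hρP δ hδ) L.hπ, ?_⟩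
  have e1 : ∀ x0 x1 x2 x3 : GL D.Idx K, n * (x0 * x1 * x2 * x3) =
      (n * x0 * n⁻¹) * (n * x1 * n⁻¹) * (n * x2 * n⁻¹) * (n * x3 * n⁻¹) * n := by
    intro x0 x1 x2 x3; group
  rw [map_mul, map_mul, map_mul, map_mul, L.hσ, C.bc_phiR φ r0 hr0, C.bc_phiR φ r1 hr1, C.bc_phiR φ r2 hr2,
    C.bc_phiR φ r3 hr3, mul_assoc g n, e1, hc0, hc1, hc2, hc3, ← Tw_apply, ← Tw_apply, ← Tw_apply, ← Tw_apply,
    ← ha1, ← ha2, ← ha3, ha, map_mul]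
  -- move `φ_{r0}(a)` to the front
  have e2 : C.phiR K r1 a1 * C.phiR K r2 a2 * C.phiR K r3 a3 * (C.phiR K r0 a * C.phiR K r0 (StPresG.wM δ hδ)) =
      C.phiR K r0 a * C.phiR K r1 a1 * C.phiR K r2 a2 * C.phiR K r3 a3 * C.phiR K r0 (StPresG.wM δ hδ) := by
    rw [← mul_assoc, mul_assoc (C.phiR K r1 a1 * C.phiR K r2 a2), ← hc03, ← mul_assoc,
      mul_assoc (C.phiR K r1 a1), ← hc02, ← mul_assoc, ← hc01]
  rw [e2]
  group

end Cert12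

end Cfsg.Agent.Lib.H29.Chev
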