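import Mathlib
import Cfsg.Prelude.Def_ChevStructure
import Cfsg.Agent.Lib.H29.F4SingC
import Cfsg.Agent.Lib.H29.ChevCert13

/-!
# `F₄`: an element `g` with `g⁻¹ σ(g)` inducing a Coxeter element of the subsystem `B₄` on the roots

The Coxeter element of `B₄` (of order `8`) is reached by four rank one steps: the short root `e₁`, the long root
`e₃ - e₄`, the pair `e₁ ± e₂` (exchanged by the first two steps) and the frame of four orthogonal long roots
`e₁ + e₃, e₄ - e₂, e₃ - e₁, e₂ + e₄` (permuted cyclically by the first three steps).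
-/

set_option autoImplicit false
set_option linter.unusedSectionVars false
set_option linter.unusedSimpArgs false
set_option linter.unusedVariables false

namespace Cfsg.Agent.Lib.H29.Chev

open Cfsg.Lie Matrix Cfsg.Agent.Lib.H12 Cfsg.Agent.Lib.H29.G2Inv

variable {D : ChevalleyDatum} {fd : FD} {fx : FX} {fc : FC} {fz : FZ} {F : Type*} [Field F]

namespace Cert12

variable (C : Cert12 D fd fx fc fz)
include C

/-- the permutation of `φ_p(w(t))` for an arbitrary root `p` -/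
theorem perm_phiR_wM_gen (p : ℕ) (hp : p < fd.n) (hcj : ∀ s < fd.n, fd.chkConj fx p s = true)
    (hneg : ∀ s < fd.n, fd.nw fx p (fd.n - 1 - s) = fd.n - 1 - fd.nw fx p s) (t : F) (ht : t ≠ 0) :
    C.c6.c2.Perm (C.phiR F p (StPresG.wM t ht)) (fd.nw fx p) := by
  rw [C.phiR_wM _ hp, ChevSL2.wG_eq C.c6.c2 _ hp t ht]
  have h1 : C.c6.c2.Perm (C.c6.c2.nG (F := F) p hp) (fd.nw fx p) := by
    intro s hs
    exact ⟨(fd.nw_spec C.c6.c2.chk.nn p s hp hs).1, hneg s hs, _,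
      fun u => C.c6.c2.nG_conj_x p s hp hs (hcj s hs) u⟩
  exact C.c6.perm_mul (C.c6.perm_diag _ (C.c6.c2.TdG_mem _ hp t ht)) h1

theorem phiR_wM_mem_monomial_gen (p : ℕ) (hp : p < fd.n) (t : F) (ht : t ≠ 0) :
    C.phiR F p (StPresG.wM t ht) ∈ D.monomialSubgroup F := by
  rw [C.phiR_wM _ hp, ChevSL2.wG_eq C.c6.c2 _ hp t ht]
  exact mul_mem (le_sup_left (a := D.diagonalSubgroup F) (C.c6.c2.TdG_mem _ hp t ht))
    (C.c6.c2.nG_mem_monomial _ _)

/-- root elements with no terms in the commutator formula commute -/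
theorem xA_comm_of_empty (r s : ℕ) (hr : r < fd.n) (hs : s < fd.n) (h1 : s ≠ r) (h2 : s ≠ fd.n - 1 - r)
    (he : fd.commT r s = []) (t u : F) : C.c6.c2.xA s u * C.c6.c2.xA r t = C.c6.c2.xA r t * C.c6.c2.xA s u := by
  have := C.c6.cfg (F := F) r s hr hs h1 h2 t u
  rw [he] at this
  rw [this]
  simp [Cert2.ctG]

/-- the rank one subgroups of two strongly orthogonal roots commute -/
theorem phiR_comm_of (r s : ℕ) (hr : r < fd.n) (hs : s < fd.n)
    (h : ∀ a ∈ [r, fd.n - 1 - r], ∀ b ∈ [s, fd.n - 1 - s], b ≠ a ∧ b ≠ fd.n - 1 - a ∧ fd.commT a b = [])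
    (X Y : Matrix.SpecialLinearGroup (Fin 2) F) :
    C.phiR F r X * C.phiR F s Y = C.phiR F s Y * C.phiR F r X := by
  have hr' : fd.n - 1 - r < fd.n := by omega
  have hs' : fd.n - 1 - s < fd.n := by omega
  have hgen : ∀ (a b : ℕ), a ∈ [r, fd.n - 1 - r] → b ∈ [s, fd.n - 1 - s] → ∀ t u : F,
      C.c6.c2.xA a t * C.c6.c2.xA b u = C.c6.c2.xA b u * C.c6.c2.xA a t := by
    intro a b ha hb t u
    obtain ⟨k1, k2, k3⟩ := h a ha b hb
    have ha' : a < fd.n := by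
      simp only [List.mem_cons, List.not_mem_nil, or_false] at ha
      rcases ha with rfl | rfl <;> assumption
    have hb' : b < fd.n := by
      simp only [List.mem_cons, List.not_mem_nil, or_false] at hb
      rcases hb with rfl | rfl <;> assumption
    exact (C.xA_comm_of_empty a b ha' hb' k1 k2 k3 t u).symm
  -- first: generators of the first subgroup against all of the second
  have h1 : ∀ a ∈ [r, fd.n - 1 - r], ∀ t : F, ∀ Y : Matrix.SpecialLinearGroup (Fin 2) F,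
      C.c6.c2.xA a t * C.phiR F s Y = C.phiR F s Y * C.c6.c2.xA a t := by
    intro a ha t Y
    have hY : Y ∈ Subgroup.closure (Set.range (StPresG.upM (K := F)) ∪ Set.range (StPresG.loM (K := F))) := by
      rw [StPresG.closure_up_lo]; trivial
    induction hY using Subgroup.closure_induction with
    | mem y hy =>
      rcases hy with ⟨u, rfl⟩ | ⟨u, rfl⟩
      · rw [C.phiR_up s hs]
        exact hgen a s ha (by simp) t u
      · rw [C.phiR_lo s hs]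
        exact hgen a _ ha (by simp) t u
    | one => rw [map_one, mul_one, one_mul]
    | mul y z _ _ hy hz => rw [map_mul, ← mul_assoc, hy, mul_assoc, hz, ← mul_assoc]
    | inv y _ hy =>
      rw [map_inv]
      have : C.c6.c2.xA a t = (C.phiR F s y)⁻¹ * (C.phiR F s y * C.c6.c2.xA a t) := by group
      rw [← hy] at this
      calc C.c6.c2.xA a t * (C.phiR F s y)⁻¹
          = ((C.phiR F s y)⁻¹ * (C.c6.c2.xA a t * C.phiR F s y)) * (C.phiR F s y)⁻¹ := by rw [← this]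
        _ = (C.phiR F s y)⁻¹ * C.c6.c2.xA a t := by group
  have hX : X ∈ Subgroup.closure (Set.range (StPresG.upM (K := F)) ∪ Set.range (StPresG.loM (K := F))) := by
    rw [StPresG.closure_up_lo]; trivial
  induction hX using Subgroup.closure_induction with
  | mem x hx =>
    rcases hx with ⟨t, rfl⟩ | ⟨t, rfl⟩
    · rw [C.phiR_up r hr]
      exact h1 r (by simp) t Y
    · rw [C.phiR_lo r hr]
      exact h1 _ (by simp) t Y
  | one => rw [map_one, mul_one, one_mul]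
  | mul y z _ _ hy hz => rw [map_mul, mul_assoc, hz, ← mul_assoc, hy, mul_assoc]
  | inv y _ hy =>
    rw [map_inv]
    have : C.phiR F s Y = (C.phiR F r y)⁻¹ * (C.phiR F r y * C.phiR F s Y) := by group
    calc (C.phiR F r y)⁻¹ * C.phiR F s Y
        = (C.phiR F r y)⁻¹ * (C.phiR F r y * C.phiR F s Y) * (C.phiR F r y)⁻¹ := by rw [hy]; group
      _ = C.phiR F s Y * (C.phiR F r y)⁻¹ := by group

end Cert12

end Cfsg.Agent.Lib.H29.Chev

namespace Cfsg.Agent.Lib.H29.F4Sing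

open Cfsg.Lie Matrix Cfsg.Agent.Lib.H29.Chev Cfsg.Agent.Lib.H12 Cfsg.Agent.Lib.H29.G2Inv

/-- the constants of the fundamental reflections at opposite roots agree -/
theorem f4_eta : ∀ i < fdF4.l, ∀ s < fdF4.n,
    fdF4.neta fxF4 (fdF4.simples.getD i 0) (fdF4.n - 1 - s) = fdF4.neta fxF4 (fdF4.simples.getD i 0) s := by
  decide +kernel

theorem f4_n : fdF4.n = 48 := rfl

theorem f4_cj44 : ∀ s < fdF4.n, fdF4.chkConj fxF4 44 s = true := by decide +kernel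
theorem f4_cj25 : ∀ s < fdF4.n, fdF4.chkConj fxF4 25 s = true := by decide +kernel
theorem f4_cj41 : ∀ s < fdF4.n, fdF4.chkConj fxF4 41 s = true := by decide +kernel
theorem f4_cj46 : ∀ s < fdF4.n, fdF4.chkConj fxF4 46 s = true := by decide +kernel

theorem f4_ng44 : ∀ s < fdF4.n, fdF4.nw fxF4 44 (fdF4.n - 1 - s) = fdF4.n - 1 - fdF4.nw fxF4 44 s := by decide +kernel
theorem f4_ng25 : ∀ s < fdF4.n, fdF4.nw fxF4 25 (fdF4.n - 1 - s) = fdF4.n - 1 - fdF4.nw fxF4 25 s := by decide +kernel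
theorem f4_ng41 : ∀ s < fdF4.n, fdF4.nw fxF4 41 (fdF4.n - 1 - s) = fdF4.n - 1 - fdF4.nw fxF4 41 s := by decide +kernel
theorem f4_ng46 : ∀ s < fdF4.n, fdF4.nw fxF4 46 (fdF4.n - 1 - s) = fdF4.n - 1 - fdF4.nw fxF4 46 s := by decide +kernel

/-- the pair `e₁ - e₂`, `-(e₁ + e₂)` -/
theorem f4_comm_41_0 : ∀ a ∈ [41, fdF4.n - 1 - 41], ∀ b ∈ [0, fdF4.n - 1 - 0],
    b ≠ a ∧ b ≠ fdF4.n - 1 - a ∧ fdF4.commT a b = [] := by decide +kernel

theorem f4_comm_46_21 : ∀ a ∈ [46, fdF4.n - 1 - 46], ∀ b ∈ [21, fdF4.n - 1 - 21],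
    b ≠ a ∧ b ≠ fdF4.n - 1 - a ∧ fdF4.commT a b = [] := by decide +kernel

theorem f4_comm_46_5 : ∀ a ∈ [46, fdF4.n - 1 - 46], ∀ b ∈ [5, fdF4.n - 1 - 5],
    b ≠ a ∧ b ≠ fdF4.n - 1 - a ∧ fdF4.commT a b = [] := by decide +kernel

theorem f4_comm_46_31 : ∀ a ∈ [46, fdF4.n - 1 - 46], ∀ b ∈ [31, fdF4.n - 1 - 31],
    b ≠ a ∧ b ≠ fdF4.n - 1 - a ∧ fdF4.commT a b = [] := by decide +kernel

/-- the permutation of the roots induced by the Coxeter element of `B₄` -/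
def pcT : List ℕ :=
  [32, 26, 47, 29, 6, 31, 24, 39, 13, 40, 36, 14, 10, 38, 12, 25, 46, 43, 28, 20, 44, 5, 2, 30, 17, 45, 42, 3, 27,
    19, 4, 1, 22, 35, 9, 37, 33, 11, 7, 34, 8, 23, 16, 41, 18, 0, 21, 15]

/-- the composite of the four reflections -/
def pc4 : ℕ → ℕ := fdF4.nw fxF4 46 ∘ (fdF4.nw fxF4 41 ∘ (fdF4.nw fxF4 25 ∘ (fdF4.nw fxF4 44 ∘ id)))

theorem pc4_eq : ∀ r < 48, pc4 r = pcT.getD r 0 := by decide +kernel

theorem f4_cyc : (fdF4.nw fxF4 44 ∘ id) 25 = 25 ∧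
    (fdF4.nw fxF4 25 ∘ (fdF4.nw fxF4 44 ∘ id)) 41 = 0 ∧ (fdF4.nw fxF4 25 ∘ (fdF4.nw fxF4 44 ∘ id)) 0 = 41 ∧
    (fdF4.nw fxF4 41 ∘ (fdF4.nw fxF4 25 ∘ (fdF4.nw fxF4 44 ∘ id))) 46 = 21 ∧
    (fdF4.nw fxF4 41 ∘ (fdF4.nw fxF4 25 ∘ (fdF4.nw fxF4 44 ∘ id))) 21 = 5 ∧
    (fdF4.nw fxF4 41 ∘ (fdF4.nw fxF4 25 ∘ (fdF4.nw fxF4 44 ∘ id))) 5 = 31 ∧
    (fdF4.nw fxF4 41 ∘ (fdF4.nw fxF4 25 ∘ (fdF4.nw fxF4 44 ∘ id))) 31 = 46 := by decide +kernel

variable {K : Type*} [Field K]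

/-- **Lang's equation for the Coxeter element of `B₄` in `F₄`** -/
theorem f4_lang [IsAlgClosed K] (φ : K →+* K) (q : ℕ) (hq : 2 ≤ q) (hφ : ∀ x, φ x = x ^ q) :
    ∃ g n : GL chevF4.Idx K, cert12_F4.LangData φ g n (fun r => pcT.getD r 0) := by
  obtain ⟨c1, c2, c3, c4, c5, c6, c7⟩ := f4_cyc
  have L0 := cert12_F4.langData_one (K := K) φ
  obtain ⟨g1, n1, L1⟩ := cert12_F4.stage1 f4_eta φ q hq hφ 1 1 id L0 44 (by decide) rfl (fdF4.nw fxF4 44)
    (fun t ht => cert12_F4.perm_phiR_wM_gen 44 (by decide) f4_cj44 f4_ng44 t ht)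
    (fun t ht => cert12_F4.phiR_wM_mem_monomial_gen 44 (by decide) t ht)
  obtain ⟨g2, n2, L2⟩ := cert12_F4.stage1 f4_eta φ q hq hφ g1 n1 _ L1 25 (by decide) c1 (fdF4.nw fxF4 25)
    (fun t ht => cert12_F4.perm_phiR_wM_gen 25 (by decide) f4_cj25 f4_ng25 t ht)
    (fun t ht => cert12_F4.phiR_wM_mem_monomial_gen 25 (by decide) t ht)
  obtain ⟨g3, n3, L3⟩ := cert12_F4.stage2 f4_eta φ q hq hφ g2 n2 _ L2 41 0 (by decide) (by decide) c2 c3
    (cert12_F4.phiR_comm_of 41 0 (by decide) (by decide) f4_comm_41_0) (fdF4.nw fxF4 41)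
    (fun t ht => cert12_F4.perm_phiR_wM_gen 41 (by decide) f4_cj41 f4_ng41 t ht)
    (fun t ht => cert12_F4.phiR_wM_mem_monomial_gen 41 (by decide) t ht)
  obtain ⟨g4, n4, L4⟩ := cert12_F4.stage4 f4_eta φ q hq hφ g3 n3 _ L3 46 21 5 31 (by decide) (by decide) (by decide)
    (by decide) c4 c5 c6 c7
    (cert12_F4.phiR_comm_of 46 21 (by decide) (by decide) f4_comm_46_21)
    (cert12_F4.phiR_comm_of 46 5 (by decide) (by decide) f4_comm_46_5)
    (cert12_F4.phiR_comm_of 46 31 (by decide) (by decide) f4_comm_46_31) (fdF4.nw fxF4 46)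
    (fun t ht => cert12_F4.perm_phiR_wM_gen 46 (by decide) f4_cj46 f4_ng46 t ht)
    (fun t ht => cert12_F4.phiR_wM_mem_monomial_gen 46 (by decide) t ht)
  refine ⟨g4, n4, L4.hg, L4.hn, ?_, L4.hσ⟩
  exact cert12_F4.perm_congr n4 _ _ L4.hπ (fun s hs => pc4_eq s hs)

end Cfsg.Agent.Lib.H29.F4Sing
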