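import Mathlib
import Cfsg.Agent.Lib.H29.ChevCert13
import Cfsg.Agent.Lib.H29.ChevGen46

/-!
# `F₄(q)`: the regularity of the generator of the torus of order `q⁴ + 1` (generated)
-/

set_option autoImplicit false
set_option linter.unusedSectionVars false
set_option linter.unusedSimpArgs false
set_option linter.unusedVariables false

namespace Cfsg.Agent.Lib.H29.F4Sing

open Cfsg.Agent.Lib.H29.Chev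

/-- the coordinates of the roots of `F₄` -/
def rcF : List (List ℤ) := [[-2, -4, -3, -2], [-2, -4, -3, -1], [-2, -4, -2, -1], [-2, -3, -2, -1], [-2, -2, -2, -1], [-2, -2, -1, -1], [-2, -2, -1, 0], [-1, -3, -2, -1], [-1, -2, -2, -1], [-1, -2, -1, -1], [-1, -2, -1, 0], [-1, -1, -1, -1], [-1, -1, -1, 0], [-1, -1, 0, 0], [-1, 0, 0, 0], [0, -2, -2, -1], [0, -2, -1, -1], [0, -2, -1, 0], [0, -1, -1, -1], [0, -1, -1, 0], [0, -1, 0, 0], [0, 0, -1, -1], [0, 0, -1, 0], [0, 0, 0, -1], [0, 0, 0, 1], [0, 0, 1, 0], [0, 0, 1, 1], [0, 1, 0, 0], [0, 1, 1, 0], [0, 1, 1, 1], [0, 2, 1, 0], [0, 2, 1, 1], [0, 2, 2, 1], [1, 0, 0, 0], [1, 1, 0, 0], [1, 1, 1, 0], [1, 1, 1, 1], [1, 2, 1, 0], [1, 2, 1, 1], [1, 2, 2, 1], [1, 3, 2, 1], [2, 2, 1, 0], [2, 2, 1, 1], [2, 2, 2, 1], [2,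 3, 2, 1], [2, 4, 2, 1], [2, 4, 3, 1], [2, 4, 3, 2]]

set_option maxRecDepth 100000 in
theorem f4_rc : ∀ r < 48, ∀ j < 4, fdF4.rcZ fxF4 r j = tblGet rcF r j := by decide +kernel

/-- the chamber used to separate the root values -/
def w0T : List ℕ := [2, 1, 6, 3, 0, 5, 4, 10, 7, 13, 12, 9, 8, 14, 11, 17, 26, 24, 20, 19, 29, 16, 15, 25, 22, 32, 31, 18, 28, 27, 23, 21, 30, 36, 33, 39, 38, 35, 34, 40, 37, 43, 42, 47, 44, 41, 46, 45]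

set_option maxRecDepth 100000 in
theorem f4_w0 : ∀ r < 48, fdF4.wordP fxF4 [2, 3, 2, 1] r = w0T.getD r 0 := by decide +kernel

/-- the exponent of the root with coordinates `c₁, …, c₄` -/
def Ev (q c1 c2 c3 c4 : ℤ) : ℤ :=
  c1 * (-1 - q - q ^ 2) + c2 * (1 + q) + c3 * (-q - q ^ 3) + c4 * (-1 + q ^ 2 + 2 * q ^ 3)

/-- the order of the torus -/
def Nq (q : ℤ) : ℤ := q ^ 4 + 1

/-- the exponent of the root `r` -/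
def F4E (q : ℤ) (r : ℕ) : ℤ := Ev q (tblGet rcF r 0) (tblGet rcF r 1) (tblGet rcF r 2) (tblGet rcF r 3)

theorem nd_between {n e : ℤ} (c s1 s2 : ℤ) (h1 : e + c * n = s1) (h2 : n - (e + c * n) = s2) (p1 : 0 < s1)
    (p2 : 0 < s2) : ¬ n ∣ e := by
  intro hd
  have hd' : n ∣ e + c * n := Dvd.dvd.add hd (Dvd.intro_left _ rfl)
  rw [h1] at hd' h2
  have := Int.le_of_dvd p1 hd'
  omega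

theorem reg_24 (t : ℕ) : ¬ Nq ((t : ℤ) + 4) ∣ Ev ((t : ℤ) + 4) 0 0 0 1 :=
  nd_between (0) (143 + 104 * (t : ℤ) + 25 * (t : ℤ) ^ 2 + 2 * (t : ℤ) ^ 3) (114 + 152 * (t : ℤ) + 71 * (t : ℤ) ^ 2 + 14 * (t : ℤ) ^ 3 + 1 * (t : ℤ) ^ 4) (by unfold Ev Nq; ring) (by unfold Ev Nq; ring)
    (by positivity) (by positivity)

theorem reg_25 (t : ℕ) : ¬ Nq ((t : ℤ) + 4) ∣ Ev ((t : ℤ) + 4) 0 0 1 0 :=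
  nd_between (1) (189 + 207 * (t : ℤ) + 84 * (t : ℤ) ^ 2 + 15 * (t : ℤ) ^ 3 + 1 * (t : ℤ) ^ 4) (68 + 49 * (t : ℤ) + 12 * (t : ℤ) ^ 2 + 1 * (t : ℤ) ^ 3) (by unfold Ev Nq; ring) (by unfold Ev Nq; ring)
    (by positivity) (by positivity)

theorem reg_26 (t : ℕ) : ¬ Nq ((t : ℤ) + 4) ∣ Ev ((t : ℤ) + 4) 0 0 1 1 :=
  nd_between (0) (75 + 55 * (t : ℤ) + 13 * (t : ℤ) ^ 2 + 1 * (t : ℤ) ^ 3) (182 + 201 * (t : ℤ) + 83 * (t : ℤ) ^ 2 + 15 * (t : ℤ) ^ 3 + 1 * (t : ℤ) ^ 4) (by unfold Ev Nq; ring) (by unfold Ev Nq; ring)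
    (by positivity) (by positivity)

theorem reg_27 (t : ℕ) : ¬ Nq ((t : ℤ) + 4) ∣ Ev ((t : ℤ) + 4) 0 1 0 0 :=
  nd_between (0) (5 + 1 * (t : ℤ)) (252 + 255 * (t : ℤ) + 96 * (t : ℤ) ^ 2 + 16 * (t : ℤ) ^ 3 + 1 * (t : ℤ) ^ 4) (by unfold Ev Nq; ring) (by unfold Ev Nq; ring)
    (by positivity) (by positivity)

theorem reg_28 (t : ℕ) : ¬ Nq ((t : ℤ) + 4) ∣ Ev ((t : ℤ) + 4) 0 1 1 0 :=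
  nd_between (1) (194 + 208 * (t : ℤ) + 84 * (t : ℤ) ^ 2 + 15 * (t : ℤ) ^ 3 + 1 * (t : ℤ) ^ 4) (63 + 48 * (t : ℤ) + 12 * (t : ℤ) ^ 2 + 1 * (t : ℤ) ^ 3) (by unfold Ev Nq; ring) (by unfold Ev Nq; ring)
    (by positivity) (by positivity)

theorem reg_29 (t : ℕ) : ¬ Nq ((t : ℤ) + 4) ∣ Ev ((t : ℤ) + 4) 0 1 1 1 :=
  nd_between (0) (80 + 56 * (t : ℤ) + 13 * (t : ℤ) ^ 2 + 1 * (t : ℤ) ^ 3) (177 + 200 * (t : ℤ) + 83 * (t : ℤ) ^ 2 + 15 * (t : ℤ) ^ 3 + 1 * (t : ℤ) ^ 4) (by unfold Ev Nq; ring) (by unfold Ev Nq; ring)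
    (by positivity) (by positivity)

theorem reg_30 (t : ℕ) : ¬ Nq ((t : ℤ) + 4) ∣ Ev ((t : ℤ) + 4) 0 2 1 0 :=
  nd_between (1) (199 + 209 * (t : ℤ) + 84 * (t : ℤ) ^ 2 + 15 * (t : ℤ) ^ 3 + 1 * (t : ℤ) ^ 4) (58 + 47 * (t : ℤ) + 12 * (t : ℤ) ^ 2 + 1 * (t : ℤ) ^ 3) (by unfold Ev Nq; ring) (by unfold Ev Nq; ring)
    (by positivity) (by positivity)

theorem reg_31 (t : ℕ) : ¬ Nq ((t : ℤ) + 4) ∣ Ev ((t : ℤ) + 4) 0 2 1 1 :=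
  nd_between (0) (85 + 57 * (t : ℤ) + 13 * (t : ℤ) ^ 2 + 1 * (t : ℤ) ^ 3) (172 + 199 * (t : ℤ) + 83 * (t : ℤ) ^ 2 + 15 * (t : ℤ) ^ 3 + 1 * (t : ℤ) ^ 4) (by unfold Ev Nq; ring) (by unfold Ev Nq; ring)
    (by positivity) (by positivity)

theorem reg_32 (t : ℕ) : ¬ Nq ((t : ℤ) + 4) ∣ Ev ((t : ℤ) + 4) 0 2 2 1 :=
  nd_between (0) (17 + 8 * (t : ℤ) + 1 * (t : ℤ) ^ 2) (240 + 248 * (t : ℤ) + 95 * (t : ℤ) ^ 2 + 16 * (t : ℤ) ^ 3 + 1 * (t : ℤ) ^ 4) (by unfold Ev Nq; ring) (by unfold Ev Nq; ring)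
    (by positivity) (by positivity)

theorem reg_33 (t : ℕ) : ¬ Nq ((t : ℤ) + 4) ∣ Ev ((t : ℤ) + 4) 1 0 0 0 :=
  nd_between (1) (236 + 247 * (t : ℤ) + 95 * (t : ℤ) ^ 2 + 16 * (t : ℤ) ^ 3 + 1 * (t : ℤ) ^ 4) (21 + 9 * (t : ℤ) + 1 * (t : ℤ) ^ 2) (by unfold Ev Nq; ring) (by unfold Ev Nq; ring)
    (by positivity) (by positivity)

theorem reg_34 (t : ℕ) : ¬ Nq ((t : ℤ) + 4) ∣ Ev ((t : ℤ) + 4) 1 1 0 0 :=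
  nd_between (1) (241 + 248 * (t : ℤ) + 95 * (t : ℤ) ^ 2 + 16 * (t : ℤ) ^ 3 + 1 * (t : ℤ) ^ 4) (16 + 8 * (t : ℤ) + 1 * (t : ℤ) ^ 2) (by unfold Ev Nq; ring) (by unfold Ev Nq; ring)
    (by positivity) (by positivity)

theorem reg_35 (t : ℕ) : ¬ Nq ((t : ℤ) + 4) ∣ Ev ((t : ℤ) + 4) 1 1 1 0 :=
  nd_between (1) (173 + 199 * (t : ℤ) + 83 * (t : ℤ) ^ 2 + 15 * (t : ℤ) ^ 3 + 1 * (t : ℤ) ^ 4) (84 + 57 * (t : ℤ) + 13 * (t : ℤ) ^ 2 + 1 * (t : ℤ) ^ 3) (by unfold Ev Nq; ring) (by unfold Ev Nq; ring)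
    (by positivity) (by positivity)

theorem reg_36 (t : ℕ) : ¬ Nq ((t : ℤ) + 4) ∣ Ev ((t : ℤ) + 4) 1 1 1 1 :=
  nd_between (0) (59 + 47 * (t : ℤ) + 12 * (t : ℤ) ^ 2 + 1 * (t : ℤ) ^ 3) (198 + 209 * (t : ℤ) + 84 * (t : ℤ) ^ 2 + 15 * (t : ℤ) ^ 3 + 1 * (t : ℤ) ^ 4) (by unfold Ev Nq; ring) (by unfold Ev Nq; ring)
    (by positivity) (by positivity)

theorem reg_37 (t : ℕ) : ¬ Nq ((t : ℤ) + 4) ∣ Ev ((t : ℤ) + 4) 1 2 1 0 :=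
  nd_between (1) (178 + 200 * (t : ℤ) + 83 * (t : ℤ) ^ 2 + 15 * (t : ℤ) ^ 3 + 1 * (t : ℤ) ^ 4) (79 + 56 * (t : ℤ) + 13 * (t : ℤ) ^ 2 + 1 * (t : ℤ) ^ 3) (by unfold Ev Nq; ring) (by unfold Ev Nq; ring)
    (by positivity) (by positivity)

theorem reg_38 (t : ℕ) : ¬ Nq ((t : ℤ) + 4) ∣ Ev ((t : ℤ) + 4) 1 2 1 1 :=
  nd_between (0) (64 + 48 * (t : ℤ) + 12 * (t : ℤ) ^ 2 + 1 * (t : ℤ) ^ 3) (193 + 208 * (t : ℤ) + 84 * (t : ℤ) ^ 2 + 15 * (t : ℤ) ^ 3 + 1 * (t : ℤ) ^ 4) (by unfold Ev Nq; ring) (by unfold Ev Nq; ring)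
    (by positivity) (by positivity)

theorem reg_39 (t : ℕ) : ¬ Nq ((t : ℤ) + 4) ∣ Ev ((t : ℤ) + 4) 1 2 2 1 :=
  nd_between (1) (253 + 255 * (t : ℤ) + 96 * (t : ℤ) ^ 2 + 16 * (t : ℤ) ^ 3 + 1 * (t : ℤ) ^ 4) (4 + 1 * (t : ℤ)) (by unfold Ev Nq; ring) (by unfold Ev Nq; ring)
    (by positivity) (by positivity)

theorem reg_40 (t : ℕ) : ¬ Nq ((t : ℤ) + 4) ∣ Ev ((t : ℤ) + 4) 1 3 2 1 :=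
  nd_between (0) (1) (256 + 256 * (t : ℤ) + 96 * (t : ℤ) ^ 2 + 16 * (t : ℤ) ^ 3 + 1 * (t : ℤ) ^ 4) (by unfold Ev Nq; ring) (by unfold Ev Nq; ring)
    (by positivity) (by positivity)

theorem reg_41 (t : ℕ) : ¬ Nq ((t : ℤ) + 4) ∣ Ev ((t : ℤ) + 4) 2 2 1 0 :=
  nd_between (1) (157 + 191 * (t : ℤ) + 82 * (t : ℤ) ^ 2 + 15 * (t : ℤ) ^ 3 + 1 * (t : ℤ) ^ 4) (100 + 65 * (t : ℤ) + 14 * (t : ℤ) ^ 2 + 1 * (t : ℤ) ^ 3) (by unfold Ev Nq; ring) (by unfold Ev Nq; ring)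
    (by positivity) (by positivity)

theorem reg_42 (t : ℕ) : ¬ Nq ((t : ℤ) + 4) ∣ Ev ((t : ℤ) + 4) 2 2 1 1 :=
  nd_between (0) (43 + 39 * (t : ℤ) + 11 * (t : ℤ) ^ 2 + 1 * (t : ℤ) ^ 3) (214 + 217 * (t : ℤ) + 85 * (t : ℤ) ^ 2 + 15 * (t : ℤ) ^ 3 + 1 * (t : ℤ) ^ 4) (by unfold Ev Nq; ring) (by unfold Ev Nq; ring)
    (by positivity) (by positivity)

theorem reg_43 (t : ℕ) : ¬ Nq ((t : ℤ) + 4) ∣ Ev ((t : ℤ) + 4) 2 2 2 1 :=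
  nd_between (1) (232 + 246 * (t : ℤ) + 95 * (t : ℤ) ^ 2 + 16 * (t : ℤ) ^ 3 + 1 * (t : ℤ) ^ 4) (25 + 10 * (t : ℤ) + 1 * (t : ℤ) ^ 2) (by unfold Ev Nq; ring) (by unfold Ev Nq; ring)
    (by positivity) (by positivity)

theorem reg_44 (t : ℕ) : ¬ Nq ((t : ℤ) + 4) ∣ Ev ((t : ℤ) + 4) 2 3 2 1 :=
  nd_between (1) (237 + 247 * (t : ℤ) + 95 * (t : ℤ) ^ 2 + 16 * (t : ℤ) ^ 3 + 1 * (t : ℤ) ^ 4) (20 + 9 * (t : ℤ) + 1 * (t : ℤ) ^ 2) (by unfold Ev Nq; ring) (by unfold Ev Nq; ring)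
    (by positivity) (by positivity)

theorem reg_45 (t : ℕ) : ¬ Nq ((t : ℤ) + 4) ∣ Ev ((t : ℤ) + 4) 2 4 2 1 :=
  nd_between (1) (242 + 248 * (t : ℤ) + 95 * (t : ℤ) ^ 2 + 16 * (t : ℤ) ^ 3 + 1 * (t : ℤ) ^ 4) (15 + 8 * (t : ℤ) + 1 * (t : ℤ) ^ 2) (by unfold Ev Nq; ring) (by unfold Ev Nq; ring)
    (by positivity) (by positivity)

theorem reg_46 (t : ℕ) : ¬ Nq ((t : ℤ) + 4) ∣ Ev ((t : ℤ) + 4) 2 4 3 1 :=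
  nd_between (1) (174 + 199 * (t : ℤ) + 83 * (t : ℤ) ^ 2 + 15 * (t : ℤ) ^ 3 + 1 * (t : ℤ) ^ 4) (83 + 57 * (t : ℤ) + 13 * (t : ℤ) ^ 2 + 1 * (t : ℤ) ^ 3) (by unfold Ev Nq; ring) (by unfold Ev Nq; ring)
    (by positivity) (by positivity)

theorem reg_47 (t : ℕ) : ¬ Nq ((t : ℤ) + 4) ∣ Ev ((t : ℤ) + 4) 2 4 3 2 :=
  nd_between (0) (60 + 47 * (t : ℤ) + 12 * (t : ℤ) ^ 2 + 1 * (t : ℤ) ^ 3) (197 + 209 * (t : ℤ) + 84 * (t : ℤ) ^ 2 + 15 * (t : ℤ) ^ 3 + 1 * (t : ℤ) ^ 4) (by unfold Ev Nq; ring) (by unfold Ev Nq; ring)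
    (by positivity) (by positivity)

theorem sep_0_0 (t : ℕ) : ¬ Nq ((t : ℤ) + 4) ∣ Ev ((t : ℤ) + 4) (-2) (-4) (-2) (-1) - Ev ((t : ℤ) + 4) 1 1 1 1 :=
  nd_between (1) (213 + 217 * (t : ℤ) + 85 * (t : ℤ) ^ 2 + 15 * (t : ℤ) ^ 3 + 1 * (t : ℤ) ^ 4) (44 + 39 * (t : ℤ) + 11 * (t : ℤ) ^ 2 + 1 * (t : ℤ) ^ 3) (by unfold Ev Nq; ring) (by unfold Ev Nq; ring)
    (by positivity) (by positivity)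

theorem sep_0_1 (t : ℕ) : ¬ Nq ((t : ℤ) + 4) ∣ Ev ((t : ℤ) + 4) (-2) (-4) (-3) (-1) - Ev ((t : ℤ) + 4) 1 1 1 1 :=
  nd_between (0) (24 + 10 * (t : ℤ) + 1 * (t : ℤ) ^ 2) (233 + 246 * (t : ℤ) + 95 * (t : ℤ) ^ 2 + 16 * (t : ℤ) ^ 3 + 1 * (t : ℤ) ^ 4) (by unfold Ev Nq; ring) (by unfold Ev Nq; ring)
    (by positivity) (by positivity)

theorem sep_0_2 (t : ℕ) : ¬ Nq ((t : ℤ) + 4) ∣ Ev ((t : ℤ) + 4) (-2) (-2) (-1) 0 - Ev ((t : ℤ) + 4) 1 1 1 1 :=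
  nd_between (0) (41 + 18 * (t : ℤ) + 2 * (t : ℤ) ^ 2) (216 + 238 * (t : ℤ) + 94 * (t : ℤ) ^ 2 + 16 * (t : ℤ) ^ 3 + 1 * (t : ℤ) ^ 4) (by unfold Ev Nq; ring) (by unfold Ev Nq; ring)
    (by positivity) (by positivity)

theorem sep_0_3 (t : ℕ) : ¬ Nq ((t : ℤ) + 4) ∣ Ev ((t : ℤ) + 4) (-2) (-3) (-2) (-1) - Ev ((t : ℤ) + 4) 1 1 1 1 :=
  nd_between (1) (218 + 218 * (t : ℤ) + 85 * (t : ℤ) ^ 2 + 15 * (t : ℤ) ^ 3 + 1 * (t : ℤ) ^ 4) (39 + 38 * (t : ℤ) + 11 * (t : ℤ) ^ 2 + 1 * (t : ℤ) ^ 3) (by unfold Ev Nq; ring) (by unfold Ev Nq; ring)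
    (by positivity) (by positivity)

theorem sep_0_4 (t : ℕ) : ¬ Nq ((t : ℤ) + 4) ∣ Ev ((t : ℤ) + 4) (-2) (-4) (-3) (-2) - Ev ((t : ℤ) + 4) 1 1 1 1 :=
  nd_between (1) (138 + 162 * (t : ℤ) + 72 * (t : ℤ) ^ 2 + 14 * (t : ℤ) ^ 3 + 1 * (t : ℤ) ^ 4) (119 + 94 * (t : ℤ) + 24 * (t : ℤ) ^ 2 + 2 * (t : ℤ) ^ 3) (by unfold Ev Nq; ring) (by unfold Ev Nq; ring)
    (by positivity) (by positivity)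

theorem sep_0_5 (t : ℕ) : ¬ Nq ((t : ℤ) + 4) ∣ Ev ((t : ℤ) + 4) (-2) (-2) (-1) (-1) - Ev ((t : ℤ) + 4) 1 1 1 1 :=
  nd_between (1) (155 + 170 * (t : ℤ) + 73 * (t : ℤ) ^ 2 + 14 * (t : ℤ) ^ 3 + 1 * (t : ℤ) ^ 4) (102 + 86 * (t : ℤ) + 23 * (t : ℤ) ^ 2 + 2 * (t : ℤ) ^ 3) (by unfold Ev Nq; ring) (by unfold Ev Nq; ring)
    (by positivity) (by positivity)

theorem sep_0_6 (t : ℕ) : ¬ Nq ((t : ℤ) + 4) ∣ Ev ((t : ℤ) + 4) (-2) (-2) (-2) (-1) - Ev ((t : ℤ) + 4) 1 1 1 1 :=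
  nd_between (1) (223 + 219 * (t : ℤ) + 85 * (t : ℤ) ^ 2 + 15 * (t : ℤ) ^ 3 + 1 * (t : ℤ) ^ 4) (34 + 37 * (t : ℤ) + 11 * (t : ℤ) ^ 2 + 1 * (t : ℤ) ^ 3) (by unfold Ev Nq; ring) (by unfold Ev Nq; ring)
    (by positivity) (by positivity)

theorem sep_0_7 (t : ℕ) : ¬ Nq ((t : ℤ) + 4) ∣ Ev ((t : ℤ) + 4) (-1) (-2) (-1) 0 - Ev ((t : ℤ) + 4) 1 1 1 1 :=
  nd_between (0) (20 + 9 * (t : ℤ) + 1 * (t : ℤ) ^ 2) (237 + 247 * (t : ℤ) + 95 * (t : ℤ) ^ 2 + 16 * (t : ℤ) ^ 3 + 1 * (t : ℤ) ^ 4) (by unfold Ev Nq; ring) (by unfold Ev Nq; ring)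
    (by positivity) (by positivity)

theorem sep_0_8 (t : ℕ) : ¬ Nq ((t : ℤ) + 4) ∣ Ev ((t : ℤ) + 4) (-1) (-3) (-2) (-1) - Ev ((t : ℤ) + 4) 1 1 1 1 :=
  nd_between (1) (197 + 209 * (t : ℤ) + 84 * (t : ℤ) ^ 2 + 15 * (t : ℤ) ^ 3 + 1 * (t : ℤ) ^ 4) (60 + 47 * (t : ℤ) + 12 * (t : ℤ) ^ 2 + 1 * (t : ℤ) ^ 3) (by unfold Ev Nq; ring) (by unfold Ev Nq; ring)
    (by positivity) (by positivity)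

theorem sep_0_9 (t : ℕ) : ¬ Nq ((t : ℤ) + 4) ∣ Ev ((t : ℤ) + 4) (-1) (-1) 0 0 - Ev ((t : ℤ) + 4) 1 1 1 1 :=
  nd_between (1) (214 + 217 * (t : ℤ) + 85 * (t : ℤ) ^ 2 + 15 * (t : ℤ) ^ 3 + 1 * (t : ℤ) ^ 4) (43 + 39 * (t : ℤ) + 11 * (t : ℤ) ^ 2 + 1 * (t : ℤ) ^ 3) (by unfold Ev Nq; ring) (by unfold Ev Nq; ring)
    (by positivity) (by positivity)

theorem sep_0_10 (t : ℕ) : ¬ Nq ((t : ℤ) + 4) ∣ Ev ((t : ℤ) + 4) (-1) (-1) (-1) 0 - Ev ((t : ℤ) + 4) 1 1 1 1 :=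
  nd_between (0) (25 + 10 * (t : ℤ) + 1 * (t : ℤ) ^ 2) (232 + 246 * (t : ℤ) + 95 * (t : ℤ) ^ 2 + 16 * (t : ℤ) ^ 3 + 1 * (t : ℤ) ^ 4) (by unfold Ev Nq; ring) (by unfold Ev Nq; ring)
    (by positivity) (by positivity)

theorem sep_0_11 (t : ℕ) : ¬ Nq ((t : ℤ) + 4) ∣ Ev ((t : ℤ) + 4) (-1) (-2) (-1) (-1) - Ev ((t : ℤ) + 4) 1 1 1 1 :=
  nd_between (1) (134 + 161 * (t : ℤ) + 72 * (t : ℤ) ^ 2 + 14 * (t : ℤ) ^ 3 + 1 * (t : ℤ) ^ 4) (123 + 95 * (t : ℤ) + 24 * (t : ℤ) ^ 2 + 2 * (t : ℤ) ^ 3) (by unfold Ev Nq; ring) (by unfold Ev Nq; ring)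
    (by positivity) (by positivity)

theorem sep_0_12 (t : ℕ) : ¬ Nq ((t : ℤ) + 4) ∣ Ev ((t : ℤ) + 4) (-1) (-2) (-2) (-1) - Ev ((t : ℤ) + 4) 1 1 1 1 :=
  nd_between (1) (202 + 210 * (t : ℤ) + 84 * (t : ℤ) ^ 2 + 15 * (t : ℤ) ^ 3 + 1 * (t : ℤ) ^ 4) (55 + 46 * (t : ℤ) + 12 * (t : ℤ) ^ 2 + 1 * (t : ℤ) ^ 3) (by unfold Ev Nq; ring) (by unfold Ev Nq; ring)
    (by positivity) (by positivity)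

theorem sep_0_13 (t : ℕ) : ¬ Nq ((t : ℤ) + 4) ∣ Ev ((t : ℤ) + 4) (-1) 0 0 0 - Ev ((t : ℤ) + 4) 1 1 1 1 :=
  nd_between (1) (219 + 218 * (t : ℤ) + 85 * (t : ℤ) ^ 2 + 15 * (t : ℤ) ^ 3 + 1 * (t : ℤ) ^ 4) (38 + 38 * (t : ℤ) + 11 * (t : ℤ) ^ 2 + 1 * (t : ℤ) ^ 3) (by unfold Ev Nq; ring) (by unfold Ev Nq; ring)
    (by positivity) (by positivity)

theorem sep_0_14 (t : ℕ) : ¬ Nq ((t : ℤ) + 4) ∣ Ev ((t : ℤ) + 4) (-1) (-1) (-1) (-1) - Ev ((t : ℤ) + 4) 1 1 1 1 :=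
  nd_between (1) (139 + 162 * (t : ℤ) + 72 * (t : ℤ) ^ 2 + 14 * (t : ℤ) ^ 3 + 1 * (t : ℤ) ^ 4) (118 + 94 * (t : ℤ) + 24 * (t : ℤ) ^ 2 + 2 * (t : ℤ) ^ 3) (by unfold Ev Nq; ring) (by unfold Ev Nq; ring)
    (by positivity) (by positivity)

theorem sep_0_15 (t : ℕ) : ¬ Nq ((t : ℤ) + 4) ∣ Ev ((t : ℤ) + 4) 0 (-2) (-1) 0 - Ev ((t : ℤ) + 4) 1 1 1 1 :=
  nd_between (1) (256 + 256 * (t : ℤ) + 96 * (t : ℤ) ^ 2 + 16 * (t : ℤ) ^ 3 + 1 * (t : ℤ) ^ 4) (1) (by unfold Ev Nq; ring) (by unfold Ev Nq; ring)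
    (by positivity) (by positivity)

theorem sep_0_16 (t : ℕ) : ¬ Nq ((t : ℤ) + 4) ∣ Ev ((t : ℤ) + 4) 0 0 1 1 - Ev ((t : ℤ) + 4) 1 1 1 1 :=
  nd_between (0) (16 + 8 * (t : ℤ) + 1 * (t : ℤ) ^ 2) (241 + 248 * (t : ℤ) + 95 * (t : ℤ) ^ 2 + 16 * (t : ℤ) ^ 3 + 1 * (t : ℤ) ^ 4) (by unfold Ev Nq; ring) (by unfold Ev Nq; ring)
    (by positivity) (by positivity)

theorem sep_0_17 (t : ℕ) : ¬ Nq ((t : ℤ) + 4) ∣ Ev ((t : ℤ) + 4) 0 0 0 1 - Ev ((t : ℤ) + 4) 1 1 1 1 :=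
  nd_between (0) (84 + 57 * (t : ℤ) + 13 * (t : ℤ) ^ 2 + 1 * (t : ℤ) ^ 3) (173 + 199 * (t : ℤ) + 83 * (t : ℤ) ^ 2 + 15 * (t : ℤ) ^ 3 + 1 * (t : ℤ) ^ 4) (by unfold Ev Nq; ring) (by unfold Ev Nq; ring)
    (by positivity) (by positivity)

theorem sep_0_18 (t : ℕ) : ¬ Nq ((t : ℤ) + 4) ∣ Ev ((t : ℤ) + 4) 0 (-1) 0 0 - Ev ((t : ℤ) + 4) 1 1 1 1 :=
  nd_between (1) (193 + 208 * (t : ℤ) + 84 * (t : ℤ) ^ 2 + 15 * (t : ℤ) ^ 3 + 1 * (t : ℤ) ^ 4) (64 + 48 * (t : ℤ) + 12 * (t : ℤ) ^ 2 + 1 * (t : ℤ) ^ 3) (by unfold Ev Nq; ring) (by unfold Ev Nq; ring)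
    (by positivity) (by positivity)

theorem sep_0_19 (t : ℕ) : ¬ Nq ((t : ℤ) + 4) ∣ Ev ((t : ℤ) + 4) 0 (-1) (-1) 0 - Ev ((t : ℤ) + 4) 1 1 1 1 :=
  nd_between (0) (4 + 1 * (t : ℤ)) (253 + 255 * (t : ℤ) + 96 * (t : ℤ) ^ 2 + 16 * (t : ℤ) ^ 3 + 1 * (t : ℤ) ^ 4) (by unfold Ev Nq; ring) (by unfold Ev Nq; ring)
    (by positivity) (by positivity)

theorem sep_0_20 (t : ℕ) : ¬ Nq ((t : ℤ) + 4) ∣ Ev ((t : ℤ) + 4) 0 1 1 1 - Ev ((t : ℤ) + 4) 1 1 1 1 :=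
  nd_between (0) (21 + 9 * (t : ℤ) + 1 * (t : ℤ) ^ 2) (236 + 247 * (t : ℤ) + 95 * (t : ℤ) ^ 2 + 16 * (t : ℤ) ^ 3 + 1 * (t : ℤ) ^ 4) (by unfold Ev Nq; ring) (by unfold Ev Nq; ring)
    (by positivity) (by positivity)

theorem sep_0_21 (t : ℕ) : ¬ Nq ((t : ℤ) + 4) ∣ Ev ((t : ℤ) + 4) 0 (-2) (-1) (-1) - Ev ((t : ℤ) + 4) 1 1 1 1 :=
  nd_between (1) (113 + 152 * (t : ℤ) + 71 * (t : ℤ) ^ 2 + 14 * (t : ℤ) ^ 3 + 1 * (t : ℤ) ^ 4) (144 + 104 * (t : ℤ) + 25 * (t : ℤ) ^ 2 + 2 * (t : ℤ) ^ 3) (by unfold Ev Nq; ring) (by unfold Ev Nq; ring)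
    (by positivity) (by positivity)

theorem sep_0_22 (t : ℕ) : ¬ Nq ((t : ℤ) + 4) ∣ Ev ((t : ℤ) + 4) 0 (-2) (-2) (-1) - Ev ((t : ℤ) + 4) 1 1 1 1 :=
  nd_between (1) (181 + 201 * (t : ℤ) + 83 * (t : ℤ) ^ 2 + 15 * (t : ℤ) ^ 3 + 1 * (t : ℤ) ^ 4) (76 + 55 * (t : ℤ) + 13 * (t : ℤ) ^ 2 + 1 * (t : ℤ) ^ 3) (by unfold Ev Nq; ring) (by unfold Ev Nq; ring)
    (by positivity) (by positivity)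

theorem sep_0_23 (t : ℕ) : ¬ Nq ((t : ℤ) + 4) ∣ Ev ((t : ℤ) + 4) 0 0 1 0 - Ev ((t : ℤ) + 4) 1 1 1 1 :=
  nd_between (1) (130 + 160 * (t : ℤ) + 72 * (t : ℤ) ^ 2 + 14 * (t : ℤ) ^ 3 + 1 * (t : ℤ) ^ 4) (127 + 96 * (t : ℤ) + 24 * (t : ℤ) ^ 2 + 2 * (t : ℤ) ^ 3) (by unfold Ev Nq; ring) (by unfold Ev Nq; ring)
    (by positivity) (by positivity)

theorem sep_1_0 (t : ℕ) : ¬ Nq ((t : ℤ) + 4) ∣ Ev ((t : ℤ) + 4) (-2) (-4) (-2) (-1) - Ev ((t : ℤ) + 4) 0 (-1) (-1) (-1) :=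
  nd_between (0) (95 + 64 * (t : ℤ) + 14 * (t : ℤ) ^ 2 + 1 * (t : ℤ) ^ 3) (162 + 192 * (t : ℤ) + 82 * (t : ℤ) ^ 2 + 15 * (t : ℤ) ^ 3 + 1 * (t : ℤ) ^ 4) (by unfold Ev Nq; ring) (by unfold Ev Nq; ring)
    (by positivity) (by positivity)

theorem sep_1_1 (t : ℕ) : ¬ Nq ((t : ℤ) + 4) ∣ Ev ((t : ℤ) + 4) (-2) (-4) (-3) (-1) - Ev ((t : ℤ) + 4) 0 (-1) (-1) (-1) :=
  nd_between (0) (163 + 113 * (t : ℤ) + 26 * (t : ℤ) ^ 2 + 2 * (t : ℤ) ^ 3) (94 + 143 * (t : ℤ) + 70 * (t : ℤ) ^ 2 + 14 * (t : ℤ) ^ 3 + 1 * (t : ℤ) ^ 4) (by unfold Ev Nq; ring) (by unfold Ev Nq; ring)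
    (by positivity) (by positivity)

theorem sep_1_2 (t : ℕ) : ¬ Nq ((t : ℤ) + 4) ∣ Ev ((t : ℤ) + 4) (-2) (-2) (-1) 0 - Ev ((t : ℤ) + 4) 0 (-1) (-1) (-1) :=
  nd_between (0) (180 + 121 * (t : ℤ) + 27 * (t : ℤ) ^ 2 + 2 * (t : ℤ) ^ 3) (77 + 135 * (t : ℤ) + 69 * (t : ℤ) ^ 2 + 14 * (t : ℤ) ^ 3 + 1 * (t : ℤ) ^ 4) (by unfold Ev Nq; ring) (by unfold Ev Nq; ring)
    (by positivity) (by positivity)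

theorem sep_1_3 (t : ℕ) : ¬ Nq ((t : ℤ) + 4) ∣ Ev ((t : ℤ) + 4) (-2) (-3) (-2) (-1) - Ev ((t : ℤ) + 4) 0 (-1) (-1) (-1) :=
  nd_between (0) (100 + 65 * (t : ℤ) + 14 * (t : ℤ) ^ 2 + 1 * (t : ℤ) ^ 3) (157 + 191 * (t : ℤ) + 82 * (t : ℤ) ^ 2 + 15 * (t : ℤ) ^ 3 + 1 * (t : ℤ) ^ 4) (by unfold Ev Nq; ring) (by unfold Ev Nq; ring)
    (by positivity) (by positivity)

theorem sep_1_4 (t : ℕ) : ¬ Nq ((t : ℤ) + 4) ∣ Ev ((t : ℤ) + 4) (-2) (-4) (-3) (-2) - Ev ((t : ℤ) + 4) 0 (-1) (-1) (-1) :=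
  nd_between (0) (20 + 9 * (t : ℤ) + 1 * (t : ℤ) ^ 2) (237 + 247 * (t : ℤ) + 95 * (t : ℤ) ^ 2 + 16 * (t : ℤ) ^ 3 + 1 * (t : ℤ) ^ 4) (by unfold Ev Nq; ring) (by unfold Ev Nq; ring)
    (by positivity) (by positivity)

theorem sep_1_5 (t : ℕ) : ¬ Nq ((t : ℤ) + 4) ∣ Ev ((t : ℤ) + 4) (-2) (-2) (-1) (-1) - Ev ((t : ℤ) + 4) 0 (-1) (-1) (-1) :=
  nd_between (0) (37 + 17 * (t : ℤ) + 2 * (t : ℤ) ^ 2) (220 + 239 * (t : ℤ) + 94 * (t : ℤ) ^ 2 + 16 * (t : ℤ) ^ 3 + 1 * (t : ℤ) ^ 4) (by unfold Ev Nq; ring) (by unfold Ev Nq; ring)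
    (by positivity) (by positivity)

theorem sep_1_6 (t : ℕ) : ¬ Nq ((t : ℤ) + 4) ∣ Ev ((t : ℤ) + 4) (-2) (-2) (-2) (-1) - Ev ((t : ℤ) + 4) 0 (-1) (-1) (-1) :=
  nd_between (0) (105 + 66 * (t : ℤ) + 14 * (t : ℤ) ^ 2 + 1 * (t : ℤ) ^ 3) (152 + 190 * (t : ℤ) + 82 * (t : ℤ) ^ 2 + 15 * (t : ℤ) ^ 3 + 1 * (t : ℤ) ^ 4) (by unfold Ev Nq; ring) (by unfold Ev Nq; ring)
    (by positivity) (by positivity)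

theorem sep_1_7 (t : ℕ) : ¬ Nq ((t : ℤ) + 4) ∣ Ev ((t : ℤ) + 4) (-1) (-2) (-1) 0 - Ev ((t : ℤ) + 4) 0 (-1) (-1) (-1) :=
  nd_between (0) (159 + 112 * (t : ℤ) + 26 * (t : ℤ) ^ 2 + 2 * (t : ℤ) ^ 3) (98 + 144 * (t : ℤ) + 70 * (t : ℤ) ^ 2 + 14 * (t : ℤ) ^ 3 + 1 * (t : ℤ) ^ 4) (by unfold Ev Nq; ring) (by unfold Ev Nq; ring)
    (by positivity) (by positivity)

theorem sep_1_8 (t : ℕ) : ¬ Nq ((t : ℤ) + 4) ∣ Ev ((t : ℤ) + 4) (-1) (-3) (-2) (-1) - Ev ((t : ℤ) + 4) 0 (-1) (-1) (-1) :=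
  nd_between (0) (79 + 56 * (t : ℤ) + 13 * (t : ℤ) ^ 2 + 1 * (t : ℤ) ^ 3) (178 + 200 * (t : ℤ) + 83 * (t : ℤ) ^ 2 + 15 * (t : ℤ) ^ 3 + 1 * (t : ℤ) ^ 4) (by unfold Ev Nq; ring) (by unfold Ev Nq; ring)
    (by positivity) (by positivity)

theorem sep_1_9 (t : ℕ) : ¬ Nq ((t : ℤ) + 4) ∣ Ev ((t : ℤ) + 4) (-1) (-1) 0 0 - Ev ((t : ℤ) + 4) 0 (-1) (-1) (-1) :=
  nd_between (0) (96 + 64 * (t : ℤ) + 14 * (t : ℤ) ^ 2 + 1 * (t : ℤ) ^ 3) (161 + 192 * (t : ℤ) + 82 * (t : ℤ) ^ 2 + 15 * (t : ℤ) ^ 3 + 1 * (t : ℤ) ^ 4) (by unfold Ev Nq; ring) (by unfold Ev Nq; ring)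
    (by positivity) (by positivity)

theorem sep_1_10 (t : ℕ) : ¬ Nq ((t : ℤ) + 4) ∣ Ev ((t : ℤ) + 4) (-1) (-1) (-1) 0 - Ev ((t : ℤ) + 4) 0 (-1) (-1) (-1) :=
  nd_between (0) (164 + 113 * (t : ℤ) + 26 * (t : ℤ) ^ 2 + 2 * (t : ℤ) ^ 3) (93 + 143 * (t : ℤ) + 70 * (t : ℤ) ^ 2 + 14 * (t : ℤ) ^ 3 + 1 * (t : ℤ) ^ 4) (by unfold Ev Nq; ring) (by unfold Ev Nq; ring)
    (by positivity) (by positivity)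

theorem sep_1_11 (t : ℕ) : ¬ Nq ((t : ℤ) + 4) ∣ Ev ((t : ℤ) + 4) (-1) (-2) (-1) (-1) - Ev ((t : ℤ) + 4) 0 (-1) (-1) (-1) :=
  nd_between (0) (16 + 8 * (t : ℤ) + 1 * (t : ℤ) ^ 2) (241 + 248 * (t : ℤ) + 95 * (t : ℤ) ^ 2 + 16 * (t : ℤ) ^ 3 + 1 * (t : ℤ) ^ 4) (by unfold Ev Nq; ring) (by unfold Ev Nq; ring)
    (by positivity) (by positivity)

theorem sep_1_12 (t : ℕ) : ¬ Nq ((t : ℤ) + 4) ∣ Ev ((t : ℤ) + 4) (-1) (-2) (-2) (-1) - Ev ((t : ℤ) + 4) 0 (-1) (-1) (-1) :=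
  nd_between (0) (84 + 57 * (t : ℤ) + 13 * (t : ℤ) ^ 2 + 1 * (t : ℤ) ^ 3) (173 + 199 * (t : ℤ) + 83 * (t : ℤ) ^ 2 + 15 * (t : ℤ) ^ 3 + 1 * (t : ℤ) ^ 4) (by unfold Ev Nq; ring) (by unfold Ev Nq; ring)
    (by positivity) (by positivity)

theorem sep_1_13 (t : ℕ) : ¬ Nq ((t : ℤ) + 4) ∣ Ev ((t : ℤ) + 4) (-1) 0 0 0 - Ev ((t : ℤ) + 4) 0 (-1) (-1) (-1) :=
  nd_between (0) (101 + 65 * (t : ℤ) + 14 * (t : ℤ) ^ 2 + 1 * (t : ℤ) ^ 3) (156 + 191 * (t : ℤ) + 82 * (t : ℤ) ^ 2 + 15 * (t : ℤ) ^ 3 + 1 * (t : ℤ) ^ 4) (by unfold Ev Nq; ring) (by unfold Ev Nq; ring)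
    (by positivity) (by positivity)

theorem sep_1_14 (t : ℕ) : ¬ Nq ((t : ℤ) + 4) ∣ Ev ((t : ℤ) + 4) (-1) (-1) (-1) (-1) - Ev ((t : ℤ) + 4) 0 (-1) (-1) (-1) :=
  nd_between (0) (21 + 9 * (t : ℤ) + 1 * (t : ℤ) ^ 2) (236 + 247 * (t : ℤ) + 95 * (t : ℤ) ^ 2 + 16 * (t : ℤ) ^ 3 + 1 * (t : ℤ) ^ 4) (by unfold Ev Nq; ring) (by unfold Ev Nq; ring)
    (by positivity) (by positivity)

theorem sep_1_15 (t : ℕ) : ¬ Nq ((t : ℤ) + 4) ∣ Ev ((t : ℤ) + 4) 0 (-2) (-1) 0 - Ev ((t : ℤ) + 4) 0 (-1) (-1) (-1) :=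
  nd_between (0) (138 + 103 * (t : ℤ) + 25 * (t : ℤ) ^ 2 + 2 * (t : ℤ) ^ 3) (119 + 153 * (t : ℤ) + 71 * (t : ℤ) ^ 2 + 14 * (t : ℤ) ^ 3 + 1 * (t : ℤ) ^ 4) (by unfold Ev Nq; ring) (by unfold Ev Nq; ring)
    (by positivity) (by positivity)

theorem sep_1_16 (t : ℕ) : ¬ Nq ((t : ℤ) + 4) ∣ Ev ((t : ℤ) + 4) 0 0 1 1 - Ev ((t : ℤ) + 4) 0 (-1) (-1) (-1) :=
  nd_between (0) (155 + 111 * (t : ℤ) + 26 * (t : ℤ) ^ 2 + 2 * (t : ℤ) ^ 3) (102 + 145 * (t : ℤ) + 70 * (t : ℤ) ^ 2 + 14 * (t : ℤ) ^ 3 + 1 * (t : ℤ) ^ 4) (by unfold Ev Nq; ring) (by unfold Ev Nq; ring)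
    (by positivity) (by positivity)

theorem sep_1_17 (t : ℕ) : ¬ Nq ((t : ℤ) + 4) ∣ Ev ((t : ℤ) + 4) 0 0 0 1 - Ev ((t : ℤ) + 4) 0 (-1) (-1) (-1) :=
  nd_between (0) (223 + 160 * (t : ℤ) + 38 * (t : ℤ) ^ 2 + 3 * (t : ℤ) ^ 3) (34 + 96 * (t : ℤ) + 58 * (t : ℤ) ^ 2 + 13 * (t : ℤ) ^ 3 + 1 * (t : ℤ) ^ 4) (by unfold Ev Nq; ring) (by unfold Ev Nq; ring)
    (by positivity) (by positivity)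

theorem sep_1_18 (t : ℕ) : ¬ Nq ((t : ℤ) + 4) ∣ Ev ((t : ℤ) + 4) 0 (-1) 0 0 - Ev ((t : ℤ) + 4) 0 (-1) (-1) (-1) :=
  nd_between (0) (75 + 55 * (t : ℤ) + 13 * (t : ℤ) ^ 2 + 1 * (t : ℤ) ^ 3) (182 + 201 * (t : ℤ) + 83 * (t : ℤ) ^ 2 + 15 * (t : ℤ) ^ 3 + 1 * (t : ℤ) ^ 4) (by unfold Ev Nq; ring) (by unfold Ev Nq; ring)
    (by positivity) (by positivity)

theorem sep_1_19 (t : ℕ) : ¬ Nq ((t : ℤ) + 4) ∣ Ev ((t : ℤ) + 4) 0 (-1) (-1) 0 - Ev ((t : ℤ) + 4) 0 (-1) (-1) (-1) :=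
  nd_between (0) (143 + 104 * (t : ℤ) + 25 * (t : ℤ) ^ 2 + 2 * (t : ℤ) ^ 3) (114 + 152 * (t : ℤ) + 71 * (t : ℤ) ^ 2 + 14 * (t : ℤ) ^ 3 + 1 * (t : ℤ) ^ 4) (by unfold Ev Nq; ring) (by unfold Ev Nq; ring)
    (by positivity) (by positivity)

theorem sep_1_20 (t : ℕ) : ¬ Nq ((t : ℤ) + 4) ∣ Ev ((t : ℤ) + 4) 0 1 1 1 - Ev ((t : ℤ) + 4) 0 (-1) (-1) (-1) :=
  nd_between (0) (160 + 112 * (t : ℤ) + 26 * (t : ℤ) ^ 2 + 2 * (t : ℤ) ^ 3) (97 + 144 * (t : ℤ) + 70 * (t : ℤ) ^ 2 + 14 * (t : ℤ) ^ 3 + 1 * (t : ℤ) ^ 4) (by unfold Ev Nq; ring) (by unfold Ev Nq; ring)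
    (by positivity) (by positivity)

theorem sep_1_21 (t : ℕ) : ¬ Nq ((t : ℤ) + 4) ∣ Ev ((t : ℤ) + 4) 0 (-2) (-1) (-1) - Ev ((t : ℤ) + 4) 0 (-1) (-1) (-1) :=
  nd_between (1) (252 + 255 * (t : ℤ) + 96 * (t : ℤ) ^ 2 + 16 * (t : ℤ) ^ 3 + 1 * (t : ℤ) ^ 4) (5 + 1 * (t : ℤ)) (by unfold Ev Nq; ring) (by unfold Ev Nq; ring)
    (by positivity) (by positivity)

theorem sep_1_22 (t : ℕ) : ¬ Nq ((t : ℤ) + 4) ∣ Ev ((t : ℤ) + 4) 0 (-2) (-2) (-1) - Ev ((t : ℤ) + 4) 0 (-1) (-1) (-1) :=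
  nd_between (0) (63 + 48 * (t : ℤ) + 12 * (t : ℤ) ^ 2 + 1 * (t : ℤ) ^ 3) (194 + 208 * (t : ℤ) + 84 * (t : ℤ) ^ 2 + 15 * (t : ℤ) ^ 3 + 1 * (t : ℤ) ^ 4) (by unfold Ev Nq; ring) (by unfold Ev Nq; ring)
    (by positivity) (by positivity)

theorem sep_1_23 (t : ℕ) : ¬ Nq ((t : ℤ) + 4) ∣ Ev ((t : ℤ) + 4) 0 0 1 0 - Ev ((t : ℤ) + 4) 0 (-1) (-1) (-1) :=
  nd_between (0) (12 + 7 * (t : ℤ) + 1 * (t : ℤ) ^ 2) (245 + 249 * (t : ℤ) + 95 * (t : ℤ) ^ 2 + 16 * (t : ℤ) ^ 3 + 1 * (t : ℤ) ^ 4) (by unfold Ev Nq; ring) (by unfold Ev Nq; ring)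
    (by positivity) (by positivity)

theorem sep_2_0 (t : ℕ) : ¬ Nq ((t : ℤ) + 4) ∣ Ev ((t : ℤ) + 4) (-2) (-4) (-2) (-1) - Ev ((t : ℤ) + 4) 0 2 2 1 :=
  nd_between (1) (255 + 256 * (t : ℤ) + 96 * (t : ℤ) ^ 2 + 16 * (t : ℤ) ^ 3 + 1 * (t : ℤ) ^ 4) (2) (by unfold Ev Nq; ring) (by unfold Ev Nq; ring)
    (by positivity) (by positivity)

theorem sep_2_1 (t : ℕ) : ¬ Nq ((t : ℤ) + 4) ∣ Ev ((t : ℤ) + 4) (-2) (-4) (-3) (-1) - Ev ((t : ℤ) + 4) 0 2 2 1 :=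
  nd_between (0) (66 + 49 * (t : ℤ) + 12 * (t : ℤ) ^ 2 + 1 * (t : ℤ) ^ 3) (191 + 207 * (t : ℤ) + 84 * (t : ℤ) ^ 2 + 15 * (t : ℤ) ^ 3 + 1 * (t : ℤ) ^ 4) (by unfold Ev Nq; ring) (by unfold Ev Nq; ring)
    (by positivity) (by positivity)

theorem sep_2_2 (t : ℕ) : ¬ Nq ((t : ℤ) + 4) ∣ Ev ((t : ℤ) + 4) (-2) (-2) (-1) 0 - Ev ((t : ℤ) + 4) 0 2 2 1 :=
  nd_between (0) (83 + 57 * (t : ℤ) + 13 * (t : ℤ) ^ 2 + 1 * (t : ℤ) ^ 3) (174 + 199 * (t : ℤ) + 83 * (t : ℤ) ^ 2 + 15 * (t : ℤ) ^ 3 + 1 * (t : ℤ) ^ 4) (by unfold Ev Nq; ring) (by unfold Ev Nq; ring)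
    (by positivity) (by positivity)

theorem sep_2_3 (t : ℕ) : ¬ Nq ((t : ℤ) + 4) ∣ Ev ((t : ℤ) + 4) (-2) (-3) (-2) (-1) - Ev ((t : ℤ) + 4) 0 2 2 1 :=
  nd_between (0) (3 + 1 * (t : ℤ)) (254 + 255 * (t : ℤ) + 96 * (t : ℤ) ^ 2 + 16 * (t : ℤ) ^ 3 + 1 * (t : ℤ) ^ 4) (by unfold Ev Nq; ring) (by unfold Ev Nq; ring)
    (by positivity) (by positivity)

theorem sep_2_4 (t : ℕ) : ¬ Nq ((t : ℤ) + 4) ∣ Ev ((t : ℤ) + 4) (-2) (-4) (-3) (-2) - Ev ((t : ℤ) + 4) 0 2 2 1 :=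
  nd_between (1) (180 + 201 * (t : ℤ) + 83 * (t : ℤ) ^ 2 + 15 * (t : ℤ) ^ 3 + 1 * (t : ℤ) ^ 4) (77 + 55 * (t : ℤ) + 13 * (t : ℤ) ^ 2 + 1 * (t : ℤ) ^ 3) (by unfold Ev Nq; ring) (by unfold Ev Nq; ring)
    (by positivity) (by positivity)

theorem sep_2_5 (t : ℕ) : ¬ Nq ((t : ℤ) + 4) ∣ Ev ((t : ℤ) + 4) (-2) (-2) (-1) (-1) - Ev ((t : ℤ) + 4) 0 2 2 1 :=
  nd_between (1) (197 + 209 * (t : ℤ) + 84 * (t : ℤ) ^ 2 + 15 * (t : ℤ) ^ 3 + 1 * (t : ℤ) ^ 4) (60 + 47 * (t : ℤ) + 12 * (t : ℤ) ^ 2 + 1 * (t : ℤ) ^ 3) (by unfold Ev Nq; ring) (by unfold Ev Nq; ring)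
    (by positivity) (by positivity)

theorem sep_2_6 (t : ℕ) : ¬ Nq ((t : ℤ) + 4) ∣ Ev ((t : ℤ) + 4) (-2) (-2) (-2) (-1) - Ev ((t : ℤ) + 4) 0 2 2 1 :=
  nd_between (0) (8 + 2 * (t : ℤ)) (249 + 254 * (t : ℤ) + 96 * (t : ℤ) ^ 2 + 16 * (t : ℤ) ^ 3 + 1 * (t : ℤ) ^ 4) (by unfold Ev Nq; ring) (by unfold Ev Nq; ring)
    (by positivity) (by positivity)

theorem sep_2_7 (t : ℕ) : ¬ Nq ((t : ℤ) + 4) ∣ Ev ((t : ℤ) + 4) (-1) (-2) (-1) 0 - Ev ((t : ℤ) + 4) 0 2 2 1 :=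
  nd_between (0) (62 + 48 * (t : ℤ) + 12 * (t : ℤ) ^ 2 + 1 * (t : ℤ) ^ 3) (195 + 208 * (t : ℤ) + 84 * (t : ℤ) ^ 2 + 15 * (t : ℤ) ^ 3 + 1 * (t : ℤ) ^ 4) (by unfold Ev Nq; ring) (by unfold Ev Nq; ring)
    (by positivity) (by positivity)

theorem sep_2_8 (t : ℕ) : ¬ Nq ((t : ℤ) + 4) ∣ Ev ((t : ℤ) + 4) (-1) (-3) (-2) (-1) - Ev ((t : ℤ) + 4) 0 2 2 1 :=
  nd_between (1) (239 + 248 * (t : ℤ) + 95 * (t : ℤ) ^ 2 + 16 * (t : ℤ) ^ 3 + 1 * (t : ℤ) ^ 4) (18 + 8 * (t : ℤ) + 1 * (t : ℤ) ^ 2) (by unfold Ev Nq; ring) (by unfold Ev Nq; ring)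
    (by positivity) (by positivity)

theorem sep_2_9 (t : ℕ) : ¬ Nq ((t : ℤ) + 4) ∣ Ev ((t : ℤ) + 4) (-1) (-1) 0 0 - Ev ((t : ℤ) + 4) 0 2 2 1 :=
  nd_between (1) (256 + 256 * (t : ℤ) + 96 * (t : ℤ) ^ 2 + 16 * (t : ℤ) ^ 3 + 1 * (t : ℤ) ^ 4) (1) (by unfold Ev Nq; ring) (by unfold Ev Nq; ring)
    (by positivity) (by positivity)

theorem sep_2_10 (t : ℕ) : ¬ Nq ((t : ℤ) + 4) ∣ Ev ((t : ℤ) + 4) (-1) (-1) (-1) 0 - Ev ((t : ℤ) + 4) 0 2 2 1 :=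
  nd_between (0) (67 + 49 * (t : ℤ) + 12 * (t : ℤ) ^ 2 + 1 * (t : ℤ) ^ 3) (190 + 207 * (t : ℤ) + 84 * (t : ℤ) ^ 2 + 15 * (t : ℤ) ^ 3 + 1 * (t : ℤ) ^ 4) (by unfold Ev Nq; ring) (by unfold Ev Nq; ring)
    (by positivity) (by positivity)

theorem sep_2_11 (t : ℕ) : ¬ Nq ((t : ℤ) + 4) ∣ Ev ((t : ℤ) + 4) (-1) (-2) (-1) (-1) - Ev ((t : ℤ) + 4) 0 2 2 1 :=
  nd_between (1) (176 + 200 * (t : ℤ) + 83 * (t : ℤ) ^ 2 + 15 * (t : ℤ) ^ 3 + 1 * (t : ℤ) ^ 4) (81 + 56 * (t : ℤ) + 13 * (t : ℤ) ^ 2 + 1 * (t : ℤ) ^ 3) (by unfold Ev Nq; ring) (by unfold Ev Nq; ring)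
    (by positivity) (by positivity)

theorem sep_2_12 (t : ℕ) : ¬ Nq ((t : ℤ) + 4) ∣ Ev ((t : ℤ) + 4) (-1) (-2) (-2) (-1) - Ev ((t : ℤ) + 4) 0 2 2 1 :=
  nd_between (1) (244 + 249 * (t : ℤ) + 95 * (t : ℤ) ^ 2 + 16 * (t : ℤ) ^ 3 + 1 * (t : ℤ) ^ 4) (13 + 7 * (t : ℤ) + 1 * (t : ℤ) ^ 2) (by unfold Ev Nq; ring) (by unfold Ev Nq; ring)
    (by positivity) (by positivity)

theorem sep_2_13 (t : ℕ) : ¬ Nq ((t : ℤ) + 4) ∣ Ev ((t : ℤ) + 4) (-1) 0 0 0 - Ev ((t : ℤ) + 4) 0 2 2 1 :=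
  nd_between (0) (4 + 1 * (t : ℤ)) (253 + 255 * (t : ℤ) + 96 * (t : ℤ) ^ 2 + 16 * (t : ℤ) ^ 3 + 1 * (t : ℤ) ^ 4) (by unfold Ev Nq; ring) (by unfold Ev Nq; ring)
    (by positivity) (by positivity)

theorem sep_2_14 (t : ℕ) : ¬ Nq ((t : ℤ) + 4) ∣ Ev ((t : ℤ) + 4) (-1) (-1) (-1) (-1) - Ev ((t : ℤ) + 4) 0 2 2 1 :=
  nd_between (1) (181 + 201 * (t : ℤ) + 83 * (t : ℤ) ^ 2 + 15 * (t : ℤ) ^ 3 + 1 * (t : ℤ) ^ 4) (76 + 55 * (t : ℤ) + 13 * (t : ℤ) ^ 2 + 1 * (t : ℤ) ^ 3) (by unfold Ev Nq; ring) (by unfold Ev Nq; ring)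
    (by positivity) (by positivity)

theorem sep_2_15 (t : ℕ) : ¬ Nq ((t : ℤ) + 4) ∣ Ev ((t : ℤ) + 4) 0 (-2) (-1) 0 - Ev ((t : ℤ) + 4) 0 2 2 1 :=
  nd_between (0) (41 + 39 * (t : ℤ) + 11 * (t : ℤ) ^ 2 + 1 * (t : ℤ) ^ 3) (216 + 217 * (t : ℤ) + 85 * (t : ℤ) ^ 2 + 15 * (t : ℤ) ^ 3 + 1 * (t : ℤ) ^ 4) (by unfold Ev Nq; ring) (by unfold Ev Nq; ring)
    (by positivity) (by positivity)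

theorem sep_2_16 (t : ℕ) : ¬ Nq ((t : ℤ) + 4) ∣ Ev ((t : ℤ) + 4) 0 0 1 1 - Ev ((t : ℤ) + 4) 0 2 2 1 :=
  nd_between (0) (58 + 47 * (t : ℤ) + 12 * (t : ℤ) ^ 2 + 1 * (t : ℤ) ^ 3) (199 + 209 * (t : ℤ) + 84 * (t : ℤ) ^ 2 + 15 * (t : ℤ) ^ 3 + 1 * (t : ℤ) ^ 4) (by unfold Ev Nq; ring) (by unfold Ev Nq; ring)
    (by positivity) (by positivity)

theorem sep_2_17 (t : ℕ) : ¬ Nq ((t : ℤ) + 4) ∣ Ev ((t : ℤ) + 4) 0 0 0 1 - Ev ((t : ℤ) + 4) 0 2 2 1 :=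
  nd_between (0) (126 + 96 * (t : ℤ) + 24 * (t : ℤ) ^ 2 + 2 * (t : ℤ) ^ 3) (131 + 160 * (t : ℤ) + 72 * (t : ℤ) ^ 2 + 14 * (t : ℤ) ^ 3 + 1 * (t : ℤ) ^ 4) (by unfold Ev Nq; ring) (by unfold Ev Nq; ring)
    (by positivity) (by positivity)

theorem sep_2_18 (t : ℕ) : ¬ Nq ((t : ℤ) + 4) ∣ Ev ((t : ℤ) + 4) 0 (-1) 0 0 - Ev ((t : ℤ) + 4) 0 2 2 1 :=
  nd_between (1) (235 + 247 * (t : ℤ) + 95 * (t : ℤ) ^ 2 + 16 * (t : ℤ) ^ 3 + 1 * (t : ℤ) ^ 4) (22 + 9 * (t : ℤ) + 1 * (t : ℤ) ^ 2) (by unfold Ev Nq; ring) (by unfold Ev Nq; ring)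
    (by positivity) (by positivity)

theorem sep_2_19 (t : ℕ) : ¬ Nq ((t : ℤ) + 4) ∣ Ev ((t : ℤ) + 4) 0 (-1) (-1) 0 - Ev ((t : ℤ) + 4) 0 2 2 1 :=
  nd_between (0) (46 + 40 * (t : ℤ) + 11 * (t : ℤ) ^ 2 + 1 * (t : ℤ) ^ 3) (211 + 216 * (t : ℤ) + 85 * (t : ℤ) ^ 2 + 15 * (t : ℤ) ^ 3 + 1 * (t : ℤ) ^ 4) (by unfold Ev Nq; ring) (by unfold Ev Nq; ring)
    (by positivity) (by positivity)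

theorem sep_2_20 (t : ℕ) : ¬ Nq ((t : ℤ) + 4) ∣ Ev ((t : ℤ) + 4) 0 1 1 1 - Ev ((t : ℤ) + 4) 0 2 2 1 :=
  nd_between (0) (63 + 48 * (t : ℤ) + 12 * (t : ℤ) ^ 2 + 1 * (t : ℤ) ^ 3) (194 + 208 * (t : ℤ) + 84 * (t : ℤ) ^ 2 + 15 * (t : ℤ) ^ 3 + 1 * (t : ℤ) ^ 4) (by unfold Ev Nq; ring) (by unfold Ev Nq; ring)
    (by positivity) (by positivity)

theorem sep_2_21 (t : ℕ) : ¬ Nq ((t : ℤ) + 4) ∣ Ev ((t : ℤ) + 4) 0 (-2) (-1) (-1) - Ev ((t : ℤ) + 4) 0 2 2 1 :=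
  nd_between (1) (155 + 191 * (t : ℤ) + 82 * (t : ℤ) ^ 2 + 15 * (t : ℤ) ^ 3 + 1 * (t : ℤ) ^ 4) (102 + 65 * (t : ℤ) + 14 * (t : ℤ) ^ 2 + 1 * (t : ℤ) ^ 3) (by unfold Ev Nq; ring) (by unfold Ev Nq; ring)
    (by positivity) (by positivity)

theorem sep_2_22 (t : ℕ) : ¬ Nq ((t : ℤ) + 4) ∣ Ev ((t : ℤ) + 4) 0 (-2) (-2) (-1) - Ev ((t : ℤ) + 4) 0 2 2 1 :=
  nd_between (1) (223 + 240 * (t : ℤ) + 94 * (t : ℤ) ^ 2 + 16 * (t : ℤ) ^ 3 + 1 * (t : ℤ) ^ 4) (34 + 16 * (t : ℤ) + 2 * (t : ℤ) ^ 2) (by unfold Ev Nq; ring) (by unfold Ev Nq; ring)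
    (by positivity) (by positivity)

theorem sep_2_23 (t : ℕ) : ¬ Nq ((t : ℤ) + 4) ∣ Ev ((t : ℤ) + 4) 0 0 1 0 - Ev ((t : ℤ) + 4) 0 2 2 1 :=
  nd_between (1) (172 + 199 * (t : ℤ) + 83 * (t : ℤ) ^ 2 + 15 * (t : ℤ) ^ 3 + 1 * (t : ℤ) ^ 4) (85 + 57 * (t : ℤ) + 13 * (t : ℤ) ^ 2 + 1 * (t : ℤ) ^ 3) (by unfold Ev Nq; ring) (by unfold Ev Nq; ring)
    (by positivity) (by positivity)

theorem sep_3_0 (t : ℕ) : ¬ Nq ((t : ℤ) + 4) ∣ Ev ((t : ℤ) + 4) (-2) (-4) (-2) (-1) - Ev ((t : ℤ) + 4) 0 0 (-1) 0 :=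
  nd_between (1) (204 + 215 * (t : ℤ) + 85 * (t : ℤ) ^ 2 + 15 * (t : ℤ) ^ 3 + 1 * (t : ℤ) ^ 4) (53 + 41 * (t : ℤ) + 11 * (t : ℤ) ^ 2 + 1 * (t : ℤ) ^ 3) (by unfold Ev Nq; ring) (by unfold Ev Nq; ring)
    (by positivity) (by positivity)

theorem sep_3_1 (t : ℕ) : ¬ Nq ((t : ℤ) + 4) ∣ Ev ((t : ℤ) + 4) (-2) (-4) (-3) (-1) - Ev ((t : ℤ) + 4) 0 0 (-1) 0 :=
  nd_between (0) (15 + 8 * (t : ℤ) + 1 * (t : ℤ) ^ 2) (242 + 248 * (t : ℤ) + 95 * (t : ℤ) ^ 2 + 16 * (t : ℤ) ^ 3 + 1 * (t : ℤ) ^ 4) (by unfold Ev Nq; ring) (by unfold Ev Nq; ring)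
    (by positivity) (by positivity)

theorem sep_3_2 (t : ℕ) : ¬ Nq ((t : ℤ) + 4) ∣ Ev ((t : ℤ) + 4) (-2) (-2) (-1) 0 - Ev ((t : ℤ) + 4) 0 0 (-1) 0 :=
  nd_between (0) (32 + 16 * (t : ℤ) + 2 * (t : ℤ) ^ 2) (225 + 240 * (t : ℤ) + 94 * (t : ℤ) ^ 2 + 16 * (t : ℤ) ^ 3 + 1 * (t : ℤ) ^ 4) (by unfold Ev Nq; ring) (by unfold Ev Nq; ring)
    (by positivity) (by positivity)

theorem sep_3_3 (t : ℕ) : ¬ Nq ((t : ℤ) + 4) ∣ Ev ((t : ℤ) + 4) (-2) (-3) (-2) (-1) - Ev ((t : ℤ) + 4) 0 0 (-1) 0 :=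
  nd_between (1) (209 + 216 * (t : ℤ) + 85 * (t : ℤ) ^ 2 + 15 * (t : ℤ) ^ 3 + 1 * (t : ℤ) ^ 4) (48 + 40 * (t : ℤ) + 11 * (t : ℤ) ^ 2 + 1 * (t : ℤ) ^ 3) (by unfold Ev Nq; ring) (by unfold Ev Nq; ring)
    (by positivity) (by positivity)

theorem sep_3_4 (t : ℕ) : ¬ Nq ((t : ℤ) + 4) ∣ Ev ((t : ℤ) + 4) (-2) (-4) (-3) (-2) - Ev ((t : ℤ) + 4) 0 0 (-1) 0 :=
  nd_between (1) (129 + 160 * (t : ℤ) + 72 * (t : ℤ) ^ 2 + 14 * (t : ℤ) ^ 3 + 1 * (t : ℤ) ^ 4) (128 + 96 * (t : ℤ) + 24 * (t : ℤ) ^ 2 + 2 * (t : ℤ) ^ 3) (by unfold Ev Nq; ring) (by unfold Ev Nq; ring)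
    (by positivity) (by positivity)

theorem sep_3_5 (t : ℕ) : ¬ Nq ((t : ℤ) + 4) ∣ Ev ((t : ℤ) + 4) (-2) (-2) (-1) (-1) - Ev ((t : ℤ) + 4) 0 0 (-1) 0 :=
  nd_between (1) (146 + 168 * (t : ℤ) + 73 * (t : ℤ) ^ 2 + 14 * (t : ℤ) ^ 3 + 1 * (t : ℤ) ^ 4) (111 + 88 * (t : ℤ) + 23 * (t : ℤ) ^ 2 + 2 * (t : ℤ) ^ 3) (by unfold Ev Nq; ring) (by unfold Ev Nq; ring)
    (by positivity) (by positivity)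

theorem sep_3_6 (t : ℕ) : ¬ Nq ((t : ℤ) + 4) ∣ Ev ((t : ℤ) + 4) (-2) (-2) (-2) (-1) - Ev ((t : ℤ) + 4) 0 0 (-1) 0 :=
  nd_between (1) (214 + 217 * (t : ℤ) + 85 * (t : ℤ) ^ 2 + 15 * (t : ℤ) ^ 3 + 1 * (t : ℤ) ^ 4) (43 + 39 * (t : ℤ) + 11 * (t : ℤ) ^ 2 + 1 * (t : ℤ) ^ 3) (by unfold Ev Nq; ring) (by unfold Ev Nq; ring)
    (by positivity) (by positivity)

theorem sep_3_7 (t : ℕ) : ¬ Nq ((t : ℤ) + 4) ∣ Ev ((t : ℤ) + 4) (-1) (-2) (-1) 0 - Ev ((t : ℤ) + 4) 0 0 (-1) 0 :=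
  nd_between (0) (11 + 7 * (t : ℤ) + 1 * (t : ℤ) ^ 2) (246 + 249 * (t : ℤ) + 95 * (t : ℤ) ^ 2 + 16 * (t : ℤ) ^ 3 + 1 * (t : ℤ) ^ 4) (by unfold Ev Nq; ring) (by unfold Ev Nq; ring)
    (by positivity) (by positivity)

theorem sep_3_8 (t : ℕ) : ¬ Nq ((t : ℤ) + 4) ∣ Ev ((t : ℤ) + 4) (-1) (-3) (-2) (-1) - Ev ((t : ℤ) + 4) 0 0 (-1) 0 :=
  nd_between (1) (188 + 207 * (t : ℤ) + 84 * (t : ℤ) ^ 2 + 15 * (t : ℤ) ^ 3 + 1 * (t : ℤ) ^ 4) (69 + 49 * (t : ℤ) + 12 * (t : ℤ) ^ 2 + 1 * (t : ℤ) ^ 3) (by unfold Ev Nq; ring) (by unfold Ev Nq; ring)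
    (by positivity) (by positivity)

theorem sep_3_9 (t : ℕ) : ¬ Nq ((t : ℤ) + 4) ∣ Ev ((t : ℤ) + 4) (-1) (-1) 0 0 - Ev ((t : ℤ) + 4) 0 0 (-1) 0 :=
  nd_between (1) (205 + 215 * (t : ℤ) + 85 * (t : ℤ) ^ 2 + 15 * (t : ℤ) ^ 3 + 1 * (t : ℤ) ^ 4) (52 + 41 * (t : ℤ) + 11 * (t : ℤ) ^ 2 + 1 * (t : ℤ) ^ 3) (by unfold Ev Nq; ring) (by unfold Ev Nq; ring)
    (by positivity) (by positivity)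

theorem sep_3_10 (t : ℕ) : ¬ Nq ((t : ℤ) + 4) ∣ Ev ((t : ℤ) + 4) (-1) (-1) (-1) 0 - Ev ((t : ℤ) + 4) 0 0 (-1) 0 :=
  nd_between (0) (16 + 8 * (t : ℤ) + 1 * (t : ℤ) ^ 2) (241 + 248 * (t : ℤ) + 95 * (t : ℤ) ^ 2 + 16 * (t : ℤ) ^ 3 + 1 * (t : ℤ) ^ 4) (by unfold Ev Nq; ring) (by unfold Ev Nq; ring)
    (by positivity) (by positivity)

theorem sep_3_11 (t : ℕ) : ¬ Nq ((t : ℤ) + 4) ∣ Ev ((t : ℤ) + 4) (-1) (-2) (-1) (-1) - Ev ((t : ℤ) + 4) 0 0 (-1) 0 :=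
  nd_between (1) (125 + 159 * (t : ℤ) + 72 * (t : ℤ) ^ 2 + 14 * (t : ℤ) ^ 3 + 1 * (t : ℤ) ^ 4) (132 + 97 * (t : ℤ) + 24 * (t : ℤ) ^ 2 + 2 * (t : ℤ) ^ 3) (by unfold Ev Nq; ring) (by unfold Ev Nq; ring)
    (by positivity) (by positivity)

theorem sep_3_12 (t : ℕ) : ¬ Nq ((t : ℤ) + 4) ∣ Ev ((t : ℤ) + 4) (-1) (-2) (-2) (-1) - Ev ((t : ℤ) + 4) 0 0 (-1) 0 :=
  nd_between (1) (193 + 208 * (t : ℤ) + 84 * (t : ℤ) ^ 2 + 15 * (t : ℤ) ^ 3 + 1 * (t : ℤ) ^ 4) (64 + 48 * (t : ℤ) + 12 * (t : ℤ) ^ 2 + 1 * (t : ℤ) ^ 3) (by unfold Ev Nq; ring) (by unfold Ev Nq; ring)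
    (by positivity) (by positivity)

theorem sep_3_13 (t : ℕ) : ¬ Nq ((t : ℤ) + 4) ∣ Ev ((t : ℤ) + 4) (-1) 0 0 0 - Ev ((t : ℤ) + 4) 0 0 (-1) 0 :=
  nd_between (1) (210 + 216 * (t : ℤ) + 85 * (t : ℤ) ^ 2 + 15 * (t : ℤ) ^ 3 + 1 * (t : ℤ) ^ 4) (47 + 40 * (t : ℤ) + 11 * (t : ℤ) ^ 2 + 1 * (t : ℤ) ^ 3) (by unfold Ev Nq; ring) (by unfold Ev Nq; ring)
    (by positivity) (by positivity)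

theorem sep_3_14 (t : ℕ) : ¬ Nq ((t : ℤ) + 4) ∣ Ev ((t : ℤ) + 4) (-1) (-1) (-1) (-1) - Ev ((t : ℤ) + 4) 0 0 (-1) 0 :=
  nd_between (1) (130 + 160 * (t : ℤ) + 72 * (t : ℤ) ^ 2 + 14 * (t : ℤ) ^ 3 + 1 * (t : ℤ) ^ 4) (127 + 96 * (t : ℤ) + 24 * (t : ℤ) ^ 2 + 2 * (t : ℤ) ^ 3) (by unfold Ev Nq; ring) (by unfold Ev Nq; ring)
    (by positivity) (by positivity)

theorem sep_3_15 (t : ℕ) : ¬ Nq ((t : ℤ) + 4) ∣ Ev ((t : ℤ) + 4) 0 (-2) (-1) 0 - Ev ((t : ℤ) + 4) 0 0 (-1) 0 :=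
  nd_between (1) (247 + 254 * (t : ℤ) + 96 * (t : ℤ) ^ 2 + 16 * (t : ℤ) ^ 3 + 1 * (t : ℤ) ^ 4) (10 + 2 * (t : ℤ)) (by unfold Ev Nq; ring) (by unfold Ev Nq; ring)
    (by positivity) (by positivity)

theorem sep_3_16 (t : ℕ) : ¬ Nq ((t : ℤ) + 4) ∣ Ev ((t : ℤ) + 4) 0 0 1 1 - Ev ((t : ℤ) + 4) 0 0 (-1) 0 :=
  nd_between (0) (7 + 6 * (t : ℤ) + 1 * (t : ℤ) ^ 2) (250 + 250 * (t : ℤ) + 95 * (t : ℤ) ^ 2 + 16 * (t : ℤ) ^ 3 + 1 * (t : ℤ) ^ 4) (by unfold Ev Nq; ring) (by unfold Ev Nq; ring)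
    (by positivity) (by positivity)

theorem sep_3_17 (t : ℕ) : ¬ Nq ((t : ℤ) + 4) ∣ Ev ((t : ℤ) + 4) 0 0 0 1 - Ev ((t : ℤ) + 4) 0 0 (-1) 0 :=
  nd_between (0) (75 + 55 * (t : ℤ) + 13 * (t : ℤ) ^ 2 + 1 * (t : ℤ) ^ 3) (182 + 201 * (t : ℤ) + 83 * (t : ℤ) ^ 2 + 15 * (t : ℤ) ^ 3 + 1 * (t : ℤ) ^ 4) (by unfold Ev Nq; ring) (by unfold Ev Nq; ring)
    (by positivity) (by positivity)

theorem sep_3_18 (t : ℕ) : ¬ Nq ((t : ℤ) + 4) ∣ Ev ((t : ℤ) + 4) 0 (-1) 0 0 - Ev ((t : ℤ) + 4) 0 0 (-1) 0 :=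
  nd_between (1) (184 + 206 * (t : ℤ) + 84 * (t : ℤ) ^ 2 + 15 * (t : ℤ) ^ 3 + 1 * (t : ℤ) ^ 4) (73 + 50 * (t : ℤ) + 12 * (t : ℤ) ^ 2 + 1 * (t : ℤ) ^ 3) (by unfold Ev Nq; ring) (by unfold Ev Nq; ring)
    (by positivity) (by positivity)

theorem sep_3_19 (t : ℕ) : ¬ Nq ((t : ℤ) + 4) ∣ Ev ((t : ℤ) + 4) 0 (-1) (-1) 0 - Ev ((t : ℤ) + 4) 0 0 (-1) 0 :=
  nd_between (1) (252 + 255 * (t : ℤ) + 96 * (t : ℤ) ^ 2 + 16 * (t : ℤ) ^ 3 + 1 * (t : ℤ) ^ 4) (5 + 1 * (t : ℤ)) (by unfold Ev Nq; ring) (by unfold Ev Nq; ring)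
    (by positivity) (by positivity)

theorem sep_3_20 (t : ℕ) : ¬ Nq ((t : ℤ) + 4) ∣ Ev ((t : ℤ) + 4) 0 1 1 1 - Ev ((t : ℤ) + 4) 0 0 (-1) 0 :=
  nd_between (0) (12 + 7 * (t : ℤ) + 1 * (t : ℤ) ^ 2) (245 + 249 * (t : ℤ) + 95 * (t : ℤ) ^ 2 + 16 * (t : ℤ) ^ 3 + 1 * (t : ℤ) ^ 4) (by unfold Ev Nq; ring) (by unfold Ev Nq; ring)
    (by positivity) (by positivity)

theorem sep_3_21 (t : ℕ) : ¬ Nq ((t : ℤ) + 4) ∣ Ev ((t : ℤ) + 4) 0 (-2) (-1) (-1) - Ev ((t : ℤ) + 4) 0 0 (-1) 0 :=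
  nd_between (1) (104 + 150 * (t : ℤ) + 71 * (t : ℤ) ^ 2 + 14 * (t : ℤ) ^ 3 + 1 * (t : ℤ) ^ 4) (153 + 106 * (t : ℤ) + 25 * (t : ℤ) ^ 2 + 2 * (t : ℤ) ^ 3) (by unfold Ev Nq; ring) (by unfold Ev Nq; ring)
    (by positivity) (by positivity)

theorem sep_3_22 (t : ℕ) : ¬ Nq ((t : ℤ) + 4) ∣ Ev ((t : ℤ) + 4) 0 (-2) (-2) (-1) - Ev ((t : ℤ) + 4) 0 0 (-1) 0 :=
  nd_between (1) (172 + 199 * (t : ℤ) + 83 * (t : ℤ) ^ 2 + 15 * (t : ℤ) ^ 3 + 1 * (t : ℤ) ^ 4) (85 + 57 * (t : ℤ) + 13 * (t : ℤ) ^ 2 + 1 * (t : ℤ) ^ 3) (by unfold Ev Nq; ring) (by unfold Ev Nq; ring)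
    (by positivity) (by positivity)

theorem sep_3_23 (t : ℕ) : ¬ Nq ((t : ℤ) + 4) ∣ Ev ((t : ℤ) + 4) 0 0 1 0 - Ev ((t : ℤ) + 4) 0 0 (-1) 0 :=
  nd_between (1) (121 + 158 * (t : ℤ) + 72 * (t : ℤ) ^ 2 + 14 * (t : ℤ) ^ 3 + 1 * (t : ℤ) ^ 4) (136 + 98 * (t : ℤ) + 24 * (t : ℤ) ^ 2 + 2 * (t : ℤ) ^ 3) (by unfold Ev Nq; ring) (by unfold Ev Nq; ring)
    (by positivity) (by positivity)

theorem f4_reg_all (t : ℕ) : ∀ r, 24 ≤ r → r < 48 → ¬ Nq ((t : ℤ) + 4) ∣ F4E ((t : ℤ) + 4) r := by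
  intro r h1 h2
  interval_cases r
  · exact reg_24 t
  · exact reg_25 t
  · exact reg_26 t
  · exact reg_27 t
  · exact reg_28 t
  · exact reg_29 t
  · exact reg_30 t
  · exact reg_31 t
  · exact reg_32 t
  · exact reg_33 t
  · exact reg_34 t
  · exact reg_35 t
  · exact reg_36 t
  · exact reg_37 t
  · exact reg_38 t
  · exact reg_39 t
  · exact reg_40 t
  · exact reg_41 t
  · exact reg_42 t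
  · exact reg_43 t
  · exact reg_44 t
  · exact reg_45 t
  · exact reg_46 t
  · exact reg_47 t

theorem f4_sep_all (t : ℕ) : ∀ i < 4, ∀ s < 24,
    ¬ Nq ((t : ℤ) + 4) ∣ F4E ((t : ℤ) + 4) (w0T.getD s 0) - F4E ((t : ℤ) + 4) (w0T.getD ([33, 27, 25, 24].getD i 0) 0) := by
  intro i hi s hs
  interval_cases i <;> interval_cases s
  · exact sep_0_0 t
  · exact sep_0_1 t
  · exact sep_0_2 t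
  · exact sep_0_3 t
  · exact sep_0_4 t
  · exact sep_0_5 t
  · exact sep_0_6 t
  · exact sep_0_7 t
  · exact sep_0_8 t
  · exact sep_0_9 t
  · exact sep_0_10 t
  · exact sep_0_11 t
  · exact sep_0_12 t
  · exact sep_0_13 t
  · exact sep_0_14 t
  · exact sep_0_15 t
  · exact sep_0_16 t
  · exact sep_0_17 t
  · exact sep_0_18 t
  · exact sep_0_19 t
  · exact sep_0_20 t
  · exact sep_0_21 t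
  · exact sep_0_22 t
  · exact sep_0_23 t
  · exact sep_1_0 t
  · exact sep_1_1 t
  · exact sep_1_2 t
  · exact sep_1_3 t
  · exact sep_1_4 t
  · exact sep_1_5 t
  · exact sep_1_6 t
  · exact sep_1_7 t
  · exact sep_1_8 t
  · exact sep_1_9 t
  · exact sep_1_10 t
  · exact sep_1_11 t
  · exact sep_1_12 t
  · exact sep_1_13 t
  · exact sep_1_14 t
  · exact sep_1_15 t
  · exact sep_1_16 t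
  · exact sep_1_17 t
  · exact sep_1_18 t
  · exact sep_1_19 t
  · exact sep_1_20 t
  · exact sep_1_21 t
  · exact sep_1_22 t
  · exact sep_1_23 t
  · exact sep_2_0 t
  · exact sep_2_1 t
  · exact sep_2_2 t
  · exact sep_2_3 t
  · exact sep_2_4 t
  · exact sep_2_5 t
  · exact sep_2_6 t
  · exact sep_2_7 t
  · exact sep_2_8 t
  · exact sep_2_9 t
  · exact sep_2_10 t
  · exact sep_2_11 t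
  · exact sep_2_12 t
  · exact sep_2_13 t
  · exact sep_2_14 t
  · exact sep_2_15 t
  · exact sep_2_16 t
  · exact sep_2_17 t
  · exact sep_2_18 t
  · exact sep_2_19 t
  · exact sep_2_20 t
  · exact sep_2_21 t
  · exact sep_2_22 t
  · exact sep_2_23 t
  · exact sep_3_0 t
  · exact sep_3_1 t
  · exact sep_3_2 t
  · exact sep_3_3 t
  · exact sep_3_4 t
  · exact sep_3_5 t
  · exact sep_3_6 t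
  · exact sep_3_7 t
  · exact sep_3_8 t
  · exact sep_3_9 t
  · exact sep_3_10 t
  · exact sep_3_11 t
  · exact sep_3_12 t
  · exact sep_3_13 t
  · exact sep_3_14 t
  · exact sep_3_15 t
  · exact sep_3_16 t
  · exact sep_3_17 t
  · exact sep_3_18 t
  · exact sep_3_19 t
  · exact sep_3_20 t
  · exact sep_3_21 t
  · exact sep_3_22 t
  · exact sep_3_23 t

set_option maxRecDepth 100000 in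
theorem f4_reg_small : ∀ q ∈ [(2 : ℤ), 3], ∀ r, 24 ≤ r → r < 48 → ¬ Nq q ∣ F4E q r := by decide +kernel

set_option maxRecDepth 100000 in
theorem f4_sep_small : ∀ q ∈ [(2 : ℤ), 3], ∀ i < 4, ∀ s < 24,
    ¬ Nq q ∣ F4E q (w0T.getD s 0) - F4E q (w0T.getD ([33, 27, 25, 24].getD i 0) 0) := by decide +kernel

end Cfsg.Agent.Lib.H29.F4Sing
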