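import Mathlib
import Cfsg.Prelude.Def_ChevStructure
import Cfsg.Agent.Lib.H29.F4SingD
import Cfsg.Agent.Lib.H29.F4SingE
import Cfsg.Agent.Lib.H29.D4SingB
import Cfsg.Agent.Lib.H29.ChevFld3
import Cfsg.Agent.Lib.H29.RegCent

/-!
# `F₄(q)`: the elements of the diagonal torus fixed by the Frobenius map twisted by the Coxeter element of `B₄`

Let `n ∈ N` induce the permutation `pcT` of the roots. The elements `k ∈ H` with `k = n σ(k) n⁻¹` are determined by
their value `z` at the short root `40`, which satisfies `z ^ (q⁴ + 1) = 1`: the value of `k` at the root `r` is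
`z ^ F4E q r`. Conversely every such `z` occurs, and when `z` has order `q⁴ + 1` the centraliser of `k` in the
Chevalley group is `H`.
-/

set_option autoImplicit false
set_option linter.unusedSectionVars false
set_option linter.unusedSimpArgs false
set_option linter.unusedVariables false

namespace Cfsg.Agent.Lib.H29.F4Sing

open Cfsg.Lie Matrix Cfsg.Agent.Lib.H29.Chev

theorem dE_bc' {D : ChevalleyDatum} {K F : Type*} [Field K] [Field F] (ι : K →+* F) (g : GL D.Idx K) (r : ℕ) :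
    dE D (bc D ι g) r = ι (dE D g r) := by
  unfold dE
  split_ifs
  · rfl
  · rw [map_one]

theorem torus_rel4 {K : Type*} [Field K] (a1 a2 a3 a4 z0 z1 z2 z3 : Kˣ) (R0 : z0 = a1 * a2 ^ 3 * a3 ^ 2 * a4)
    (R1 : z1 = a1⁻¹ * (a2 ^ 2)⁻¹ * (a3 ^ 2)⁻¹ * a4⁻¹) (R2 : z2 = a1⁻¹ * a2⁻¹) (R3 : z3 = a1 * a2 ^ 2 * a3 * a4) :
    a1 = (z0 * z1 * z2)⁻¹ ∧ a2 = z0 * z1 ∧ a3 = (z1 * z3)⁻¹ ∧ a4 = z0⁻¹ * z2 * z3 ^ 2 := by
  subst R0 R1 R2 R3
  have h1 := a1.ne_zero
  have h2 := a2.ne_zero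
  have h3 := a3.ne_zero
  have h4 := a4.ne_zero
  refine ⟨?_, ?_, ?_, ?_⟩ <;> apply Units.ext <;> push_cast <;> field_simp

theorem f4_l : fdF4.l = 4 := rfl

theorem f4_simples : fdF4.simples.getD 0 0 = 33 ∧ fdF4.simples.getD 1 0 = 27 ∧ fdF4.simples.getD 2 0 = 25 ∧
    fdF4.simples.getD 3 0 = 24 := ⟨rfl, rfl, rfl, rfl⟩

/-- the permutation `pcT` as a function -/
def pcF (r : ℕ) : ℕ := pcT.getD r 0

variable {K : Type*} [Field K]

/-- the values of a torus element at the roots in terms of its values at the fundamental roots -/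
theorem dE_rc4 (k : GL chevF4.Idx K) (hk : k ∈ chevF4.diagonalSubgroup K) (a1 a2 a3 a4 : Kˣ)
    (h1 : (a1 : K) = dE chevF4 k 33) (h2 : (a2 : K) = dE chevF4 k 27) (h3 : (a3 : K) = dE chevF4 k 25)
    (h4 : (a4 : K) = dE chevF4 k 24) (r : ℕ) (hr : r < 48) :
    dE chevF4 k r = ((a1 ^ tblGet rcF r 0 * a2 ^ tblGet rcF r 1 * a3 ^ tblGet rcF r 2 * a4 ^ tblGet rcF r 3 : Kˣ) : K) := by
  let a : Fin fdF4.l → Kˣ := fun j =>
    if j.val = 0 then a1 else if j.val = 1 then a2 else if j.val = 2 then a3 else a4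
  have ha : ∀ j : Fin fdF4.l, ((a j : Kˣ) : K) = dE chevF4 k (fdF4.simples.getD j.val 0) := by
    rintro ⟨j, hj⟩
    have hj' : j < 4 := hj
    interval_cases j
    · exact h1
    · exact h2
    · exact h3
    · exact h4
  rw [cert12_F4.dE_rc k hk a ha r hr]
  congr 1
  show ∏ j : Fin 4, a j ^ fdF4.rcZ fxF4 r j.val = _
  rw [Fin.prod_univ_four, ← f4_rc r hr 0 (by norm_num), ← f4_rc r hr 1 (by norm_num), ← f4_rc r hr 2 (by norm_num),
    ← f4_rc r hr 3 (by norm_num)]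
  rfl

section desc

variable (φ : K →+* K) (q : ℕ) (hφ : ∀ x, φ x = x ^ q) (n : GL chevF4.Idx K) (hn : n ∈ chevF4.monomialSubgroup K)
  (hπ : cert12_F4.c6.c2.Perm n pcF)

/-- the descent condition on an element of the diagonal torus -/
def Desc (k : GL chevF4.Idx K) : Prop :=
  k ∈ chevF4.diagonalSubgroup K ∧ k = n * bc chevF4 φ k * n⁻¹

include hφ hn hπ

theorem desc_dE (k : GL chevF4.Idx K) (hk : Desc φ n k) (r : ℕ) (hr : r < 48) :
    dE chevF4 k (pcF r) = (dE chevF4 k r) ^ q := by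
  have hσk : bc chevF4 φ k ∈ chevF4.diagonalSubgroup K := cert12_F4.bc_diag_le φ ⟨k, hk.1, rfl⟩
  have h1 := cert12_F4.dE_conj n (bc chevF4 φ k) hn hσk pcF hπ r hr
  rw [← hk.2] at h1
  rw [h1, dE_bc', hφ]

theorem pow_q_inj (x y : Kˣ) (h : x ^ q = y ^ q) : x = y := by
  apply Units.ext
  apply φ.injective
  rw [hφ, hφ, ← Units.val_pow_eq_pow_val, ← Units.val_pow_eq_pow_val, h]

/-- **the values of a descended torus element are powers of its value at the short root `40`** -/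
theorem desc_zpow (k : GL chevF4.Idx K) (hk : Desc φ n k) (z : Kˣ) (hz : (z : K) = dE chevF4 k 40) :
    (∀ r < 48, dE chevF4 k r = ((z ^ F4E (q : ℤ) r : Kˣ) : K)) ∧ z ^ Nq (q : ℤ) = 1 := by
  have hne : ∀ r < 48, dE chevF4 k r ≠ 0 := fun r hr => cert12_F4.dE_ne_zero k hk.1 r hr
  set a1 : Kˣ := Units.mk0 _ (hne 33 (by norm_num)) with ha1
  set a2 : Kˣ := Units.mk0 _ (hne 27 (by norm_num)) with ha2
  set a3 : Kˣ := Units.mk0 _ (hne 25 (by norm_num)) with ha3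
  set a4 : Kˣ := Units.mk0 _ (hne 24 (by norm_num)) with ha4
  have hrc := dE_rc4 k hk.1 a1 a2 a3 a4 rfl rfl rfl rfl
  -- the values on the orbit of the root `40`
  have e8 : dE chevF4 k 8 = ((z ^ q : Kˣ) : K) := by
    have := desc_dE φ q hφ n hn hπ k hk 40 (by norm_num)
    rw [Units.val_pow_eq_pow_val, hz, ← this]; rfl
  have e13 : dE chevF4 k 13 = ((z ^ q ^ 2 : Kˣ) : K) := by
    have := desc_dE φ q hφ n hn hπ k hk 8 (by norm_num)
    rw [pow_two, pow_mul, Units.val_pow_eq_pow_val, ← e8, ← this]; rfl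
  have e38 : dE chevF4 k 38 = ((z ^ q ^ 3 : Kˣ) : K) := by
    have := desc_dE φ q hφ n hn hπ k hk 13 (by norm_num)
    rw [pow_succ, pow_mul, Units.val_pow_eq_pow_val, ← e13, ← this]; rfl
  have e7 : dE chevF4 k 7 = ((z ^ q ^ 4 : Kˣ) : K) := by
    have := desc_dE φ q hφ n hn hπ k hk 38 (by norm_num)
    rw [pow_succ, pow_mul, Units.val_pow_eq_pow_val, ← e38, ← this]; rfl
  have e7' : dE chevF4 k 7 = ((z⁻¹ : Kˣ) : K) := by
    have := cert12_F4.dE_neg k hk.1 40 (by decide)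
    rw [Units.val_inv_eq_inv_val, hz, ← this]; rfl
  have hN : z ^ Nq (q : ℤ) = 1 := by
    have h1 : z ^ q ^ 4 = z⁻¹ := Units.ext (by rw [← e7, e7'])
    unfold Nq
    rw [_root_.zpow_add, zpow_one, ← Nat.cast_pow, zpow_natCast, h1, inv_mul_cancel]
  -- the relations
  have R0 : z = a1 * a2 ^ 3 * a3 ^ 2 * a4 := by
    apply Units.ext
    rw [hz, hrc 40 (by norm_num)]
    congr 1
    simp [tblGet, rcF]
  have R1 : z ^ q = a1⁻¹ * (a2 ^ 2)⁻¹ * (a3 ^ 2)⁻¹ * a4⁻¹ := by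
    apply Units.ext
    rw [← e8, hrc 8 (by norm_num)]
    congr 1
    simp [tblGet, rcF]
  have R2 : z ^ q ^ 2 = a1⁻¹ * a2⁻¹ := by
    apply Units.ext
    rw [← e13, hrc 13 (by norm_num)]
    congr 1
    simp [tblGet, rcF]
  have R3 : z ^ q ^ 3 = a1 * a2 ^ 2 * a3 * a4 := by
    apply Units.ext
    rw [← e38, hrc 38 (by norm_num)]
    congr 1
    simp [tblGet, rcF]
  obtain ⟨E1, E2, E3, E4⟩ := torus_rel4 a1 a2 a3 a4 z (z ^ q) (z ^ q ^ 2) (z ^ q ^ 3) R0 R1 R2 R3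
  have E1z : a1 = z ^ (-1 - (q : ℤ) - (q : ℤ) ^ 2) := by
    rw [E1, sub_eq_add_neg, sub_eq_add_neg, _root_.zpow_add, _root_.zpow_add, _root_.zpow_neg, _root_.zpow_neg,
      _root_.zpow_neg, zpow_one, ← Nat.cast_pow, zpow_natCast, zpow_natCast, _root_.mul_inv_rev, _root_.mul_inv_rev]
    rw [mul_comm, mul_comm (z ^ q)⁻¹]
  have E2z : a2 = z ^ (1 + (q : ℤ)) := by
    rw [E2, _root_.zpow_add, zpow_one, zpow_natCast]
  have E3z : a3 = z ^ (-(q : ℤ) - (q : ℤ) ^ 3) := by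
    rw [E3, sub_eq_add_neg, _root_.zpow_add, _root_.zpow_neg, _root_.zpow_neg, ← Nat.cast_pow, zpow_natCast,
      zpow_natCast, _root_.mul_inv_rev, mul_comm]
  have E4z : a4 = z ^ (-1 + (q : ℤ) ^ 2 + 2 * (q : ℤ) ^ 3) := by
    rw [E4, _root_.zpow_add, _root_.zpow_add, _root_.zpow_neg, zpow_one, ← Nat.cast_pow, ← Nat.cast_pow, zpow_natCast,
      mul_comm (2 : ℤ), _root_.zpow_mul, zpow_natCast]
    rfl
  refine ⟨fun r hr => ?_, hN⟩
  rw [hrc r hr]
  congr 1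
  rw [E1z, E2z, E3z, E4z, ← _root_.zpow_mul, ← _root_.zpow_mul, ← _root_.zpow_mul, ← _root_.zpow_mul,
    ← _root_.zpow_add, ← _root_.zpow_add, ← _root_.zpow_add]
  congr 1
  unfold F4E Ev
  ring

/-- a descended torus element with trivial value at the root `40` is trivial -/
theorem desc_eq_one (k : GL chevF4.Idx K) (hk : Desc φ n k) (h40 : dE chevF4 k 40 = 1) : k = 1 := by
  obtain ⟨hz, _⟩ := desc_zpow φ q hφ n hn hπ k hk 1 (by rw [Units.val_one, h40])
  apply cert12_F4.diag_ext k 1 hk.1 (one_mem _)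
  intro i hi
  have hs := cert12_F4.c6.c2.simple_lt i hi
  rw [hz _ hs, _root_.one_zpow, Units.val_one, cert12_F4.dE_one]

end desc

end Cfsg.Agent.Lib.H29.F4Sing
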