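import Mathlib
import Cfsg.Prelude.Def_ChevStructure
import Cfsg.Agent.Lib.H29.F4SingF

/-!
# `F₄(q)`: existence of the descended torus elements, and the centraliser of a generator
-/

set_option autoImplicit false
set_option linter.unusedSectionVars false
set_option linter.unusedSimpArgs false
set_option linter.unusedVariables false

namespace Cfsg.Agent.Lib.H29.F4Sing

open Cfsg.Lie Matrix Cfsg.Agent.Lib.H29.Chev

variable {K : Type*} [Field K]

/-- the inverse of the Cartan matrix of `F₄` -/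
def BcF : Matrix (Fin fdF4.l) (Fin fdF4.l) ℤ := Matrix.of fun i j => tblGet blF4 i.val j.val

theorem cart_mul_BcF : Cert12.cartM fdF4 * BcF = 1 := by
  have := cartB_of_chk blF4 1 cartB_F4
  rw [Nat.cast_one, one_smul] at this
  exact this

theorem BcF_mul_cart : BcF * Cert12.cartM fdF4 = 1 := mul_eq_one_comm.mp cart_mul_BcF

/-- the torus element with prescribed values `d` at the fundamental roots -/
noncomputable def torEl (d : Fin fdF4.l → Kˣ) : GL chevF4.Idx K := chiHom chevF4 fdF4 K (torusHom BcF d)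

theorem torEl_mem (d : Fin fdF4.l → Kˣ) : torEl d ∈ chevF4.diagonalSubgroup K := by
  rw [cert12_F4.diag_eq_range]
  exact ⟨_, rfl⟩

theorem dE_torEl (d : Fin fdF4.l → Kˣ) (j : Fin fdF4.l) :
    dE chevF4 (torEl d) (fdF4.simples.getD j.val 0) = (d j : K) := by
  unfold torEl
  rw [cert12_F4.dE_chiHom _ _ (cert12_F4.c6.c2.simple_lt j.val j.isLt)]
  congr 1
  have h1 : torusHom (Cert12.cartM fdF4) (torusHom BcF d) = d := by
    rw [torusHom_comp, BcF_mul_cart, torusHom_one]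
  have h2 := congrFun h1 j
  rw [torusHom_apply] at h2
  exact h2

/-- the values of the torus element with values `z ^ F4E q (α_j)` at the fundamental roots -/
theorem dE_torEl_z (q : ℤ) (z : Kˣ) (r : ℕ) (hr : r < 48) :
    dE chevF4 (torEl (fun j : Fin fdF4.l => z ^ F4E q (fdF4.simples.getD j.val 0))) r = ((z ^ F4E q r : Kˣ) : K) := by
  set k := torEl (fun j : Fin fdF4.l => z ^ F4E q (fdF4.simples.getD j.val 0)) with hk
  have hkm : k ∈ chevF4.diagonalSubgroup K := torEl_mem _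
  have h1 : ((z ^ F4E q 33 : Kˣ) : K) = dE chevF4 k 33 := (dE_torEl (fun j : Fin fdF4.l => z ^ F4E q (fdF4.simples.getD j.val 0)) (⟨0, by decide⟩ : Fin fdF4.l)).symm
  have h2 : ((z ^ F4E q 27 : Kˣ) : K) = dE chevF4 k 27 := (dE_torEl (fun j : Fin fdF4.l => z ^ F4E q (fdF4.simples.getD j.val 0)) (⟨1, by decide⟩ : Fin fdF4.l)).symm
  have h3 : ((z ^ F4E q 25 : Kˣ) : K) = dE chevF4 k 25 := (dE_torEl (fun j : Fin fdF4.l => z ^ F4E q (fdF4.simples.getD j.val 0)) (⟨2, by decide⟩ : Fin fdF4.l)).symm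
  have h4 : ((z ^ F4E q 24 : Kˣ) : K) = dE chevF4 k 24 := (dE_torEl (fun j : Fin fdF4.l => z ^ F4E q (fdF4.simples.getD j.val 0)) (⟨3, by decide⟩ : Fin fdF4.l)).symm
  rw [dE_rc4 k hkm _ _ _ _ h1 h2 h3 h4 r hr]
  congr 1
  rw [← _root_.zpow_mul, ← _root_.zpow_mul, ← _root_.zpow_mul, ← _root_.zpow_mul,
    ← _root_.zpow_add, ← _root_.zpow_add, ← _root_.zpow_add]
  congr 1
  have e1 : F4E q 33 = Ev q 1 0 0 0 := rfl
  have e2 : F4E q 27 = Ev q 0 1 0 0 := rfl
  have e3 : F4E q 25 = Ev q 0 0 1 0 := rfl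
  have e4 : F4E q 24 = Ev q 0 0 0 1 := rfl
  rw [e1, e2, e3, e4]
  unfold F4E Ev
  ring

section desc

variable (φ : K →+* K) (q : ℕ) (hφ : ∀ x, φ x = x ^ q) (n : GL chevF4.Idx K) (hn : n ∈ chevF4.monomialSubgroup K)
  (hπ : cert12_F4.c6.c2.Perm n pcF)

include hφ hn hπ

/-- **every `z` with `z ^ (q⁴ + 1) = 1` is the value at the root `40` of a descended torus element** -/
theorem exists_desc (z : Kˣ) (hz : z ^ (q ^ 4 + 1) = 1) :
    ∃ k, Desc φ n k ∧ dE chevF4 k 40 = (z : K) := by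
  set k := torEl (fun j : Fin fdF4.l => z ^ F4E (q : ℤ) (fdF4.simples.getD j.val 0)) with hk
  have hkm : k ∈ chevF4.diagonalSubgroup K := torEl_mem _
  have hval : ∀ r < 48, dE chevF4 k r = ((z ^ F4E (q : ℤ) r : Kˣ) : K) := fun r hr => dE_torEl_z (q : ℤ) z r hr
  have hzN : z ^ Nq (q : ℤ) = 1 := by
    unfold Nq
    have : ((q : ℤ) ^ 4 + 1) = ((q ^ 4 + 1 : ℕ) : ℤ) := by push_cast; ring
    rw [this, zpow_natCast, hz]
  have hσk : bc chevF4 φ k ∈ chevF4.diagonalSubgroup K := cert12_F4.bc_diag_le φ ⟨k, hkm, rfl⟩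
  have hk' : n * bc chevF4 φ k * n⁻¹ ∈ chevF4.diagonalSubgroup K :=
    (Subgroup.mem_normalizer_iff.mp (cert12_F4.c6.c2.monomial_le_normalizer_diag hn) _).mp hσk
  -- the values of the twisted conjugate
  have hconj : ∀ r < 48, dE chevF4 (n * bc chevF4 φ k * n⁻¹) (pcF r) = ((z ^ ((q : ℤ) * F4E (q : ℤ) r) : Kˣ) : K) := by
    intro r hr
    rw [cert12_F4.dE_conj n (bc chevF4 φ k) hn hσk pcF hπ r hr, dE_bc', hφ, hval r hr, ← Units.val_pow_eq_pow_val,
      ← zpow_natCast, ← _root_.zpow_mul, mul_comm]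
  refine ⟨k, ⟨hkm, ?_⟩, ?_⟩
  · apply cert12_F4.diag_ext _ _ hkm hk'
    intro i hi
    have hi' : i < 4 := hi
    have key : ∀ (s r : ℕ) (m : ℤ), r < 48 → s < 48 → pcF r = s →
        F4E (q : ℤ) s = (q : ℤ) * F4E (q : ℤ) r + m * Nq (q : ℤ) →
        dE chevF4 k s = dE chevF4 (n * bc chevF4 φ k * n⁻¹) s := by
      intro s r m hr hs hrs hE
      have hm : z ^ (m * Nq (q : ℤ)) = 1 := by rw [mul_comm, _root_.zpow_mul, hzN, _root_.one_zpow]
      rw [← hrs, hconj r hr, hrs, hval s hs, hE, _root_.zpow_add, hm, mul_one]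
    interval_cases i
    · exact key 33 36 (-1) (by norm_num) (by norm_num) rfl (by
        have e1 : F4E (q : ℤ) 33 = Ev q 1 0 0 0 := rfl
        have e2 : F4E (q : ℤ) 36 = Ev q 1 1 1 1 := rfl
        rw [e1, e2]; unfold Ev Nq; ring)
    · exact key 27 28 1 (by norm_num) (by norm_num) rfl (by
        have e1 : F4E (q : ℤ) 27 = Ev q 0 1 0 0 := rfl
        have e2 : F4E (q : ℤ) 28 = Ev q 0 1 1 0 := rfl
        rw [e1, e2]; unfold Ev Nq; ring)
    · exact key 25 15 0 (by norm_num) (by norm_num) rfl (by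
        have e1 : F4E (q : ℤ) 25 = Ev q 0 0 1 0 := rfl
        have e2 : F4E (q : ℤ) 15 = Ev q 0 (-2) (-2) (-1) := rfl
        rw [e1, e2]; unfold Ev Nq; ring)
    · exact key 24 6 (-1) (by norm_num) (by norm_num) rfl (by
        have e1 : F4E (q : ℤ) 24 = Ev q 0 0 0 1 := rfl
        have e2 : F4E (q : ℤ) 6 = Ev q (-2) (-2) (-1) 0 := rfl
        rw [e1, e2]; unfold Ev Nq; ring)
  · rw [hval 40 (by norm_num)]
    have e : F4E (q : ℤ) 40 = 1 := by
      have e1 : F4E (q : ℤ) 40 = Ev q 1 3 2 1 := rfl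
      rw [e1]; unfold Ev; ring
    rw [e, zpow_one]

/-- **an element of `F₄(K)` commuting with a descended torus element of full order lies in the torus** -/
theorem cent_desc (hq : 2 ≤ q) (k0 : GL chevF4.Idx K) (hk0 : Desc φ n k0) (z0 : Kˣ) (h0 : (z0 : K) = dE chevF4 k0 40)
    (ho : orderOf z0 = q ^ 4 + 1) (g : GL chevF4.Idx K) (hg : g ∈ chevF4.group K) (hc : k0 * g = g * k0) :
    g ∈ chevF4.diagonalSubgroup K := by
  obtain ⟨hz, _⟩ := desc_zpow φ q hφ n hn hπ k0 hk0 z0 h0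
  have hNq : (((q ^ 4 + 1 : ℕ)) : ℤ) = Nq (q : ℤ) := by unfold Nq; push_cast; ring
  have hdvd : ∀ e : ℤ, z0 ^ e = 1 → Nq (q : ℤ) ∣ e := by
    intro e he
    rw [← hNq, ← ho]
    exact orderOf_dvd_iff_zpow_eq_one.mpr he
  have hπ₀ : cert12_F4.c6.c2.Perm (cert12_F4.wordN K [2, 3, 2, 1]) (fdF4.wordP fxF4 [2, 3, 2, 1]) := by
    apply cert12_F4.perm_wordN
    intro i hi
    simp only [List.mem_cons, List.not_mem_nil, or_false] at hi
    rcases hi with rfl | rfl | rfl | rfl <;> decide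
  -- the divisibility facts for all `q ≥ 2`
  have hreg : ∀ r, 24 ≤ r → r < 48 → ¬ Nq (q : ℤ) ∣ F4E (q : ℤ) r := by
    intro r h1 h2
    by_cases h4 : 4 ≤ q
    · obtain ⟨t, ht⟩ : ∃ t : ℕ, q = t + 4 := ⟨q - 4, by omega⟩
      have hqz : (q : ℤ) = (t : ℤ) + 4 := by rw [ht]; push_cast; ring
      rw [hqz]
      exact f4_reg_all t r h1 h2
    · have h23 : q = 2 ∨ q = 3 := by omega
      rcases h23 with rfl | rfl
      · exact f4_reg_small 2 (by simp) r h1 h2
      · exact f4_reg_small 3 (by simp) r h1 h2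
  have hsep : ∀ i < 4, ∀ s < 24, ¬ Nq (q : ℤ) ∣
      F4E (q : ℤ) (w0T.getD s 0) - F4E (q : ℤ) (w0T.getD ([33, 27, 25, 24].getD i 0) 0) := by
    intro i hi s hs
    by_cases h4 : 4 ≤ q
    · obtain ⟨t, ht⟩ : ∃ t : ℕ, q = t + 4 := ⟨q - 4, by omega⟩
      have hqz : (q : ℤ) = (t : ℤ) + 4 := by rw [ht]; push_cast; ring
      rw [hqz]
      exact f4_sep_all t i hi s hs
    · have h23 : q = 2 ∨ q = 3 := by omega
      rcases h23 with rfl | rfl
      · exact f4_sep_small 2 (by simp) i hi s hs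
      · exact f4_sep_small 3 (by simp) i hi s hs
  apply cert12_F4.cent_regular' k0 hk0.1 ?_ _ (cert12_F4.wordN_mem [2, 3, 2, 1]) _ hπ₀ ?_ g hg hc
  · intro r hr1 hr2 h
    have hr1' : 24 ≤ r := hr1
    have hr2' : r < 48 := hr2
    rw [hz r hr2', ← Units.val_one] at h
    exact hreg r hr1' hr2' (hdvd _ (Units.ext h))
  · intro i hi s hs h
    have hi' : i < 4 := hi
    have hs' : s < 24 := hs
    have e1 : fdF4.wordP fxF4 [2, 3, 2, 1] s = w0T.getD s 0 := f4_w0 s (by omega)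
    have hsi : fdF4.simples.getD i 0 = [33, 27, 25, 24].getD i 0 := by
      interval_cases i <;> rfl
    have hsi48 : [33, 27, 25, 24].getD i 0 < 48 := by
      interval_cases i <;> decide
    have e2 : fdF4.wordP fxF4 [2, 3, 2, 1] (fdF4.simples.getD i 0) = w0T.getD ([33, 27, 25, 24].getD i 0) 0 := by
      rw [hsi]
      exact f4_w0 _ hsi48
    have l1 : w0T.getD s 0 < 48 := by
      rw [← e1]; exact (hπ₀ s (by show s < 48; omega)).1
    have l2 : w0T.getD ([33, 27, 25, 24].getD i 0) 0 < 48 := by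
      rw [← e2, hsi]; exact (hπ₀ _ hsi48).1
    rw [e1, e2, hz _ l1, hz _ l2] at h
    have h2 : z0 ^ (F4E (q : ℤ) (w0T.getD s 0) - F4E (q : ℤ) (w0T.getD ([33, 27, 25, 24].getD i 0) 0)) = 1 := by
      rw [_root_.zpow_sub, Units.ext h, mul_inv_cancel]
    exact hsep i hi' s hs' (hdvd _ h2)

end desc

end Cfsg.Agent.Lib.H29.F4Sing
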