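import Mathlib
import Cfsg.Prelude.Def_ChevStructure
import Cfsg.Agent.Lib.H29.F4SingG

/-!
# `F₄(q)`: a rational element whose centraliser is the torus of order `q⁴ + 1`

Over the algebraic closure `K` of the field `F` with `q` elements there is `g ∈ F₄(K)` with `σ(g) = g n`, `n`
inducing the Coxeter element of `B₄` on the roots. For a primitive `(q⁴ + 1)`-th root of unity `z₀` the element
`g k₀ g⁻¹`, `k₀` the descended torus element with value `z₀`, is fixed by `σ`, hence lies in `F₄(F)`.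
-/

set_option autoImplicit false
set_option linter.unusedSectionVars false
set_option linter.unusedSimpArgs false
set_option linter.unusedVariables false

namespace Cfsg.Agent.Lib.H29.F4Sing

open Cfsg.Lie Matrix Cfsg.Agent.Lib.H29.Chev

/-- the data of the rational torus of order `q⁴ + 1` of `F₄(q)` -/
structure F4Tor (F : Type*) [Field F] (K : Type*) [Field K] (q : ℕ) where
  hq : 2 ≤ q
  ι : F →+* K
  φ : K →+* K
  hφ : ∀ x, φ x = x ^ q
  hφι : ∀ s, φ (ι s) = ι s
  g : GL chevF4.Idx K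
  n : GL chevF4.Idx K
  L : cert12_F4.LangData φ g n pcF
  X : GL chevF4.Idx F
  hX : X ∈ chevF4.group F
  k0 : GL chevF4.Idx K
  hk0 : Desc φ n k0
  z0 : Kˣ
  hz0 : (z0 : K) = dE chevF4 k0 40
  ho : orderOf z0 = q ^ 4 + 1
  hXk : bc chevF4 ι X = g * k0 * g⁻¹

/-- the fixed field of the Frobenius map of the algebraic closure -/
theorem fix_alg {F : Type*} [Field F] [Fintype F] {K : Type*} [Field K] (ι : F →+* K) (q : ℕ)
    (hF : Fintype.card F = q) (x : K) (hx : x ^ q = x) : ∃ s : F, ι s = x := by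
  classical
  by_contra hne
  have hne' : ∀ s : F, ι s ≠ x := fun s hs => hne ⟨s, hs⟩
  have hq : 1 < q := by rw [← hF]; exact Fintype.one_lt_card
  have hP : (Polynomial.X ^ q - Polynomial.X : Polynomial K) ≠ 0 := FiniteField.X_pow_card_sub_X_ne_zero K hq
  let Z : Finset K := insert x (Finset.univ.image ι)
  have hZ : Z.val ⊆ (Polynomial.X ^ q - Polynomial.X : Polynomial K).roots := by
    intro y hy
    rw [Polynomial.mem_roots hP, Polynomial.IsRoot.def, Polynomial.eval_sub, Polynomial.eval_pow, Polynomial.eval_X]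
    have hy' : y ∈ Z := hy
    rcases Finset.mem_insert.mp hy' with rfl | hy''
    · rw [hx, sub_self]
    · obtain ⟨s, _, rfl⟩ := Finset.mem_image.mp hy''
      rw [← map_pow, ← hF, FiniteField.pow_card, sub_self]
  have h1 := Polynomial.card_le_degree_of_subset_roots hZ
  rw [FiniteField.X_pow_card_sub_X_natDegree_eq K hq] at h1
  have h2 : Z.card = q + 1 := by
    rw [Finset.card_insert_of_notMem, Finset.card_image_of_injective _ ι.injective, Finset.card_univ, hF]
    intro hmem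
    obtain ⟨s, _, hs⟩ := Finset.mem_image.mp hmem
    exact hne' s hs
  omega

theorem exists_f4Tor {F : Type*} [Field F] [Fintype F] (q : ℕ) (hF : Fintype.card F = q) :
    Nonempty (F4Tor F (AlgebraicClosure F) q) := by
  have hq : 2 ≤ q := by rw [← hF]; exact Fintype.one_lt_card
  obtain ⟨p, hp⟩ := CharP.exists F
  have : CharP F p := hp
  obtain ⟨e, hpp, hcard⟩ := FiniteField.card F p
  have : Fact p.Prime := ⟨hpp⟩
  set K := AlgebraicClosure F with hK
  let ι : F →+* K := algebraMap F K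
  have : CharP K p := charP_of_injective_algebraMap ι.injective p
  let φ : K →+* K := iterateFrobenius K p e
  have hqe : q = p ^ (e : ℕ) := by rw [← hF, hcard]
  have hφ : ∀ x, φ x = x ^ q := by
    intro x
    rw [hqe]
    rfl
  have hφι : ∀ s, φ (ι s) = ι s := by
    intro s
    rw [hφ, ← map_pow, ← hF, FiniteField.pow_card]
  obtain ⟨g, n, L⟩ := f4_lang φ q hq hφ
  -- a primitive root of unity of order `q⁴ + 1`
  have hN0 : ((q ^ 4 + 1 : ℕ) : K) ≠ 0 := by
    have hq0 : (q : K) = 0 := by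
      rw [hqe, Nat.cast_pow, CharP.cast_eq_zero K p, zero_pow e.ne_zero]
    push_cast
    rw [hq0, zero_pow (by norm_num), zero_add]
    exact one_ne_zero
  have : NeZero ((q ^ 4 + 1 : ℕ) : K) := ⟨hN0⟩
  obtain ⟨ζ, hζ⟩ := HasEnoughRootsOfUnity.exists_primitiveRoot K (q ^ 4 + 1)
  have hζ0 : ζ ≠ 0 := hζ.ne_zero (by omega)
  set z0 : Kˣ := Units.mk0 ζ hζ0 with hz0
  have ho : orderOf z0 = q ^ 4 + 1 := by
    rw [← orderOf_units, hz0, Units.val_mk0]
    exact hζ.eq_orderOf.symm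
  have hzN : z0 ^ (q ^ 4 + 1) = 1 := by rw [← ho]; exact pow_orderOf_eq_one z0
  obtain ⟨k0, hk0, hk40⟩ := exists_desc φ q hφ n L.hn L.hπ z0 hzN
  -- `g k₀ g⁻¹` is rational
  have hk0G : k0 ∈ chevF4.group K := cert12_F4.c6.c2.diag_le_group hk0.1
  have hxG : g * k0 * g⁻¹ ∈ chevF4.group K := mul_mem (mul_mem L.hg hk0G) (inv_mem L.hg)
  have hxσ : bc chevF4 φ (g * k0 * g⁻¹) = g * k0 * g⁻¹ := by
    have e1 : bc chevF4 φ k0 = n⁻¹ * k0 * n := by
      have := hk0.2
      calc bc chevF4 φ k0 = n⁻¹ * (n * bc chevF4 φ k0 * n⁻¹) * n := by group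
        _ = n⁻¹ * k0 * n := by rw [← this]
    rw [map_mul, map_mul, map_inv, L.hσ, e1]
    group
  have hfix : ∀ t : K, φ t = t → ∃ s : F, ι s = t := by
    intro t ht
    rw [hφ] at ht
    exact fix_alg ι q hF t ht
  obtain ⟨X, hX, hXk⟩ := cert12_F4.fix_group φ ι hfix _ (cartB_of_chk blF4 1 cartB_F4) _ hxG hxσ
  exact ⟨⟨hq, ι, φ, hφ, hφι, g, n, L, X, hX, k0, hk0, z0, hk40.symm, ho, hXk⟩⟩

namespace F4Tor

variable {F K : Type*} [Field F] [Field K] {q : ℕ} (S : F4Tor F K q)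

/-- base change followed by conjugation by `g⁻¹` -/
noncomputable def cj : GL chevF4.Idx F →* GL chevF4.Idx K :=
  (MulAut.conj S.g⁻¹).toMonoidHom.comp (bc chevF4 S.ι)

theorem cj_apply (y : GL chevF4.Idx F) : S.cj y = S.g⁻¹ * bc chevF4 S.ι y * S.g := by
  unfold cj
  simp [MulAut.conj_apply]

theorem cj_injective : Function.Injective S.cj := by
  intro y y' h
  rw [S.cj_apply, S.cj_apply] at h
  apply bc_injective S.ι
  have : bc chevF4 S.ι y = S.g * (S.g⁻¹ * bc chevF4 S.ι y * S.g) * S.g⁻¹ := by group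
  rw [this, h]
  group

theorem cj_mem_group (y : GL chevF4.Idx F) (hy : y ∈ chevF4.group F) : S.cj y ∈ chevF4.group K := by
  rw [S.cj_apply]
  exact mul_mem (mul_mem (inv_mem S.L.hg) (cert12_F4.c6.c2.bc_group_le S.ι ⟨y, hy, rfl⟩)) S.L.hg

theorem cj_X : S.cj S.X = S.k0 := by
  rw [S.cj_apply, S.hXk]
  group

theorem bc_phi_iota (y : GL chevF4.Idx F) : bc chevF4 S.φ (bc chevF4 S.ι y) = bc chevF4 S.ι y := by
  have e : S.φ.comp S.ι = S.ι := RingHom.ext (fun s => S.hφι s)
  rw [← bc_comp, e]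

/-- the descent relation -/
theorem cj_sigma (y : GL chevF4.Idx F) : S.cj y = S.n * bc chevF4 S.φ (S.cj y) * S.n⁻¹ := by
  have e1 : bc chevF4 S.φ (S.cj y) = (S.g * S.n)⁻¹ * bc chevF4 S.ι y * (S.g * S.n) := by
    rw [S.cj_apply, map_mul, map_mul, map_inv, S.L.hσ, S.bc_phi_iota]
  rw [e1, S.cj_apply]
  group

theorem desc_of_diag (y : GL chevF4.Idx F) (hd : S.cj y ∈ chevF4.diagonalSubgroup K) : Desc S.φ S.n (S.cj y) :=
  ⟨hd, S.cj_sigma y⟩

/-- **an element of `F₄(q)` commuting with `X` is conjugated into the diagonal torus** -/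
theorem cent_cj (y : GL chevF4.Idx F) (hy : y ∈ chevF4.group F) (hc : S.X * y = y * S.X) :
    S.cj y ∈ chevF4.diagonalSubgroup K := by
  have hcc : S.k0 * S.cj y = S.cj y * S.k0 := by rw [← S.cj_X, ← map_mul, ← map_mul, hc]
  exact cent_desc S.φ q S.hφ S.n S.L.hn S.L.hπ S.hq S.k0 S.hk0 S.z0 S.hz0 S.ho _ (S.cj_mem_group y hy) hcc

end F4Tor

end Cfsg.Agent.Lib.H29.F4Sing
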