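import Cfsg.Agent.Lib.H29.Fi22MM3Net

/-!
# S2053 piece M3 (helper29): kernel checks for the long words `(dcbdefdhi)¹⁰`, `(abcdefh)⁹`, `(bcdefgh)⁹`
(the value of the period is compared with its own network, then the power of that network is evaluated)
-/

set_option Elab.async false
set_option autoImplicit false
set_option maxRecDepth 100000

namespace Cfsg.Agent.Lib.H29.Fi22M

open Cfsg.Agent.Lib.H11.BitNet

theorem m3cU : chkEq 18 (m3wst [3, 2, 1, 3, 4, 5, 3, 7, 8]) m3sU = true := by decide +kernel

theorem m3cU10 : chkEq 18 (m3rep m3sU 10) m3zs = true := by decide +kernel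

theorem m3cV : chkEq 18 (m3wst [0, 1, 2, 3, 4, 5, 7]) m3sV = true := by decide +kernel

theorem m3cV9 : chkEq 18 (m3rep m3sV 9) [] = true := by decide +kernel

theorem m3cW : chkEq 18 (m3wst [1, 2, 3, 4, 5, 6, 7]) m3sW = true := by decide +kernel

theorem m3cW9 : chkEq 18 (m3rep m3sW 9) [] = true := by decide +kernel

end Cfsg.Agent.Lib.H29.Fi22M
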