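import Cfsg.Agent.Lib.H29.Fi22MM3Net

/-!
# S2053 piece M3 (helper29): the central element: `Z ≠ 1`, `Z ^ 3 = 1`, `Z` commutes with the nine letters
-/

set_option Elab.async false
set_option autoImplicit false
set_option maxRecDepth 100000

namespace Cfsg.Agent.Lib.H29.Fi22M

open Cfsg.Agent.Lib.H11.BitNet

theorem m3cz3 : chkEq 18 (m3rep m3zs 3) [] = true := by decide +kernel

theorem m3cz1 : chkEq 18 m3zs [] = false := by decide +kernel

theorem m3cz_0 : chkEq 18 (m3lst 0 ++ m3zs) (m3zs ++ m3lst 0) = true := by decide +kernel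

theorem m3cz_1 : chkEq 18 (m3lst 1 ++ m3zs) (m3zs ++ m3lst 1) = true := by decide +kernel

theorem m3cz_2 : chkEq 18 (m3lst 2 ++ m3zs) (m3zs ++ m3lst 2) = true := by decide +kernel

theorem m3cz_3 : chkEq 18 (m3lst 3 ++ m3zs) (m3zs ++ m3lst 3) = true := by decide +kernel

theorem m3cz_4 : chkEq 18 (m3lst 4 ++ m3zs) (m3zs ++ m3lst 4) = true := by decide +kernel

theorem m3cz_5 : chkEq 18 (m3lst 5 ++ m3zs) (m3zs ++ m3lst 5) = true := by decide +kernel

theorem m3cz_6 : chkEq 18 (m3lst 6 ++ m3zs) (m3zs ++ m3lst 6) = true := by decide +kernel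

theorem m3cz_7 : chkEq 18 (m3lst 7 ++ m3zs) (m3zs ++ m3lst 7) = true := by decide +kernel

theorem m3cz_8 : chkEq 18 (m3lst 8 ++ m3zs) (m3zs ++ m3lst 8) = true := by decide +kernel

end Cfsg.Agent.Lib.H29.Fi22M
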