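import Cfsg.Agent.Lib.H29.Fi22MM3ChkA
import Cfsg.Agent.Lib.H29.Fi22MM3ChkB
import Cfsg.Agent.Lib.H29.Fi22MM3ChkZ

/-!
# S2053 piece M3 (helper29): `z3 ≠ 1` in the presented triple cover `PC3` of `Fi₂₂`

The model: the nine letters act on `185328 = 3 * 61776` points (data of helper28, `tools/fi22m_h28/perm3.txt.xz`), each as a
product of 35 delta-swap involutions on `2 ^ 18` slots (helper11's `Lib/H11/BitNet`); all words of `covW3` are trivial
(`Fi22MM3ChkA`, `Fi22MM3ChkB`, `Fi22MM3ChkZ`: kernel computations on 18 bit planes), and `(dcbdefdhi)¹⁰` acts as the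
fibre-wise 3-cycle `Z ≠ 1`.  So the model is a quotient of `PC3` in which `z3` is not trivial.
-/

set_option autoImplicit false
set_option maxRecDepth 100000

namespace Cfsg.Agent.Lib.H29.Fi22M

open Cfsg.Agent.Lib.H11.BitNet
open Cfsg.Agent.Lib.H28.Fi22M
open Cfsg.Agent.Lib.H17.Fi22Glue (gen idx rels relW)
open Cfsg.Agent.Lib.H14.SuzM (wv wv_nil wv_cons wv_append map_wv)

/-! ### The central element of the model -/

theorem m3Z_def : m3Z = netPerm m3zs := rfl

theorem m3Z_ne_one : m3Z ≠ 1 := by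
  rw [m3Z_def, ← netPerm_nil]
  exact netPerm_ne_of_chk 18 m3zs [] (fun s hs => (m3zs_good s hs).1)
    (fun _ hs => absurd hs List.not_mem_nil) m3cz1

theorem m3Z_pow_three : m3Z ^ 3 = 1 := by
  rw [m3Z_def, ← netPerm_nil]
  exact m3pow_eq_of_chk m3zs [] 3 m3zs_good m3nil_good m3cz3

theorem m3comm_aux (x : ℕ) (h : chkEq 18 (m3lst x ++ m3zs) (m3zs ++ m3lst x) = true) :
    m3P x * m3Z = m3Z * m3P x := by
  unfold m3P
  rw [m3Z_def, ← netPerm_append, ← netPerm_append]
  exact netPerm_eq_of_chk 18 _ _ (m3append_good (m3lst_good x) m3zs_good)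
    (m3append_good m3zs_good (m3lst_good x)) h

theorem m3P_ge (x : ℕ) : m3P (x + 8) = m3P 8 := rfl

theorem m3comm : ∀ x : ℕ, m3P x * m3Z = m3Z * m3P x
  | 0 => m3comm_aux 0 m3cz_0
  | 1 => m3comm_aux 1 m3cz_1
  | 2 => m3comm_aux 2 m3cz_2
  | 3 => m3comm_aux 3 m3cz_3
  | 4 => m3comm_aux 4 m3cz_4
  | 5 => m3comm_aux 5 m3cz_5
  | 6 => m3comm_aux 6 m3cz_6
  | 7 => m3comm_aux 7 m3cz_7
  | x + 8 => by rw [m3P_ge]; exact m3comm_aux 8 m3cz_8

/-! ### The words -/

/-- the period of `zw3` -/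
def m3U : List ℕ := [3, 2, 1, 3, 4, 5, 3, 7, 8]
/-- the period of the word `(abcdefh)⁹` -/
def m3V : List ℕ := [0, 1, 2, 3, 4, 5, 7]
/-- the period of the word `(bcdefgh)⁹` -/
def m3W : List ℕ := [1, 2, 3, 4, 5, 6, 7]

/-- the ninth power of a word -/
def m3nine (w : List ℕ) : List ℕ := w ++ (w ++ (w ++ (w ++ (w ++ (w ++ (w ++ (w ++ w)))))))

theorem m3zw3_eq : zw3 = m3U ++ m3nine m3U := by decide

theorem m3wv_nine {Γ : Type*} [Group Γ] (g : ℕ → Γ) (w : List ℕ) : wv g (m3nine w) = wv g w ^ 9 := by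
  unfold m3nine
  simp only [wv_append, pow_succ, pow_zero, one_mul, mul_assoc]

theorem m3wv_zw3 : wv m3P zw3 = m3Z := by
  have hU : wv m3P m3U = netPerm m3sU := m3word_eq m3U m3sU m3sU_good m3cU
  have h10 : netPerm m3sU ^ 10 = netPerm m3zs := m3pow_eq_of_chk m3sU m3zs 10 m3sU_good m3zs_good m3cU10
  rw [m3zw3_eq, wv_append, m3wv_nine, hU, m3Z_def, ← h10]
  group

theorem m3wv_V9 : wv m3P (m3nine m3V) = 1 := by
  have hV : wv m3P m3V = netPerm m3sV := m3word_eq m3V m3sV m3sV_good m3cV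
  have h9 : netPerm m3sV ^ 9 = netPerm [] := m3pow_eq_of_chk m3sV [] 9 m3sV_good m3nil_good m3cV9
  rw [m3wv_nine, hV, h9, netPerm_nil]

theorem m3wv_W9 : wv m3P (m3nine m3W) = 1 := by
  have hW : wv m3P m3W = netPerm m3sW := m3word_eq m3W m3sW m3sW_good m3cW
  have h9 : netPerm m3sW ^ 9 = netPerm [] := m3pow_eq_of_chk m3sW [] 9 m3sW_good m3nil_good m3cW9
  rw [m3wv_nine, hW, h9, netPerm_nil]

theorem m3covW3_cases : ∀ w ∈ covW3, w ∈ m3shortL ∨ w = m3nine m3V ∨ w = m3nine m3W ∨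
    (∃ x < 9, w = zw3 ++ [x] ++ zw3.reverse ++ [x]) ∨ w = zw3 ++ zw3 ++ zw3 := by decide

theorem m3sq_mem : ∀ x < 9, [x, x] ∈ m3shortL := by decide

theorem m3P_sq : ∀ x : ℕ, m3P x * m3P x = 1 := by
  have h : ∀ x < 9, m3P x * m3P x = 1 := by
    intro x hx
    have h1 := m3chkW_sound [x, x] (m3short_ok _ (m3sq_mem x hx))
    rw [wv_cons, wv_cons, wv_nil, mul_one] at h1
    exact h1
  intro x
  by_cases hx : x < 9
  · exact h x hx
  · obtain ⟨y, rfl⟩ : ∃ y, x = y + 8 := ⟨x - 8, by omega⟩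
    rw [m3P_ge]
    exact h 8 (by norm_num)

/-- the reversed word gives the inverse when the letters are involutions -/
theorem m3wv_reverse {Γ : Type*} [Group Γ] (g : ℕ → Γ) (hg : ∀ x, g x * g x = 1) (w : List ℕ) :
    wv g w.reverse = (wv g w)⁻¹ := by
  induction w with
  | nil => simp [wv]
  | cons x w ih =>
    have h1 : wv g [x] = g x := by simp [wv]
    rw [List.reverse_cons, wv_append, ih, h1, wv_cons, mul_inv_rev]
    congr 1
    exact (inv_eq_of_mul_eq_one_left (hg x)).symm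

/-- all words of `covW3` are trivial in the model -/
theorem m3covW3_trivial : ∀ w ∈ covW3, wv m3P w = 1 := by
  intro w hw
  rcases m3covW3_cases w hw with h | rfl | rfl | ⟨x, _, rfl⟩ | rfl
  · exact m3chkW_sound w (m3short_ok w h)
  · exact m3wv_V9
  · exact m3wv_W9
  · have h1 : wv m3P [x] = m3P x := by simp [wv]
    rw [wv_append, wv_append, wv_append, m3wv_reverse m3P m3P_sq, m3wv_zw3, h1, ← m3comm x, mul_assoc (m3P x),
      mul_inv_cancel, mul_one]
    exact m3P_sq x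
  · rw [wv_append, wv_append, m3wv_zw3]
    have h3 := m3Z_pow_three
    rw [pow_succ, pow_succ, pow_one] at h3
    exact h3

/-! ### The homomorphism from the presented cover -/

theorem m3mk_word (w : List ℕ) :
    (FreeGroup.mk (w.map fun x => (gen x, true)) : FreeGroup Cfsg.Spor.Fi22.Gen) =
      (w.map fun x => FreeGroup.of (gen x)).prod := by
  induction w with
  | nil => rfl
  | cons x w ih =>
    rw [List.map_cons, List.map_cons, List.prod_cons, ← ih]
    rfl

theorem m3P_idx_gen : ∀ x : ℕ, m3P (idx (gen x)) = m3P x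
  | 0 => rfl
  | 1 => rfl
  | 2 => rfl
  | 3 => rfl
  | 4 => rfl
  | 5 => rfl
  | 6 => rfl
  | 7 => rfl
  | 8 => rfl
  | _ + 9 => rfl

/-- the action of the presented triple cover on the model -/
noncomputable def m3phi : PC3 →* Equiv.Perm ℕ :=
  PresentedGroup.toGroup (f := fun u => m3P (idx u)) (by
    rintro r ⟨w, hw, rfl⟩
    rw [m3mk_word, map_list_prod, List.map_map]
    have h := m3covW3_trivial w hw
    unfold wv at h
    rw [← h]
    congr 1
    apply List.map_congr_left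
    intro x _
    show FreeGroup.lift (fun u => m3P (idx u)) (FreeGroup.of (gen x)) = m3P x
    rw [FreeGroup.lift_apply_of]
    exact m3P_idx_gen x)

theorem m3phi_pc3 (x : ℕ) : m3phi (pc3 x) = m3P x :=
  (PresentedGroup.toGroup.of _).trans (m3P_idx_gen x)

theorem m3phi_z3 : m3phi z3 = m3Z := by
  unfold z3
  rw [map_wv]
  have h : (fun x => m3phi (pc3 x)) = m3P := funext m3phi_pc3
  rw [h]
  exact m3wv_zw3

/-- **M3**: the central element `z3 = (dcbdefdhi)¹⁰` of the presented triple cover is not trivial -/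
theorem z3_ne_one : z3 ≠ 1 := by
  intro h
  have h1 := m3phi_z3
  rw [h, map_one] at h1
  exact m3Z_ne_one h1.symm

end Cfsg.Agent.Lib.H29.Fi22M
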