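import Cfsg.Agent.Lib.H29.Fi22MM3Net

/-!
# S2053 piece M3 (helper29): kernel checks of the 46 short relator words (Coxeter pairs, squares, the empty word)
(one declaration per word and no parallel elaboration)
-/

set_option Elab.async false
set_option autoImplicit false
set_option maxRecDepth 100000

namespace Cfsg.Agent.Lib.H29.Fi22M

open Cfsg.Agent.Lib.H11.BitNet

theorem m3cA0 : m3chkW [0, 1, 0, 1, 0, 1] = true := by decide +kernel

theorem m3cA1 : m3chkW [0, 2, 0, 2] = true := by decide +kernel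

theorem m3cA2 : m3chkW [0, 3, 0, 3] = true := by decide +kernel

theorem m3cA3 : m3chkW [0, 4, 0, 4] = true := by decide +kernel

theorem m3cA4 : m3chkW [0, 5, 0, 5] = true := by decide +kernel

theorem m3cA5 : m3chkW [0, 6, 0, 6] = true := by decide +kernel

theorem m3cA6 : m3chkW [0, 7, 0, 7] = true := by decide +kernel

theorem m3cA7 : m3chkW [0, 8, 0, 8] = true := by decide +kernel

theorem m3cA8 : m3chkW [1, 2, 1, 2, 1, 2] = true := by decide +kernel

theorem m3cA9 : m3chkW [1, 3, 1, 3] = true := by decide +kernel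

theorem m3cA10 : m3chkW [1, 4, 1, 4] = true := by decide +kernel

theorem m3cA11 : m3chkW [1, 5, 1, 5] = true := by decide +kernel

theorem m3cA12 : m3chkW [1, 6, 1, 6] = true := by decide +kernel

theorem m3cA13 : m3chkW [1, 7, 1, 7] = true := by decide +kernel

theorem m3cA14 : m3chkW [1, 8, 1, 8] = true := by decide +kernel

theorem m3cA15 : m3chkW [2, 3, 2, 3, 2, 3] = true := by decide +kernel

theorem m3cA16 : m3chkW [2, 4, 2, 4] = true := by decide +kernel

theorem m3cA17 : m3chkW [2, 5, 2, 5] = true := by decide +kernel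

theorem m3cA18 : m3chkW [2, 6, 2, 6] = true := by decide +kernel

theorem m3cA19 : m3chkW [2, 7, 2, 7] = true := by decide +kernel

theorem m3cA20 : m3chkW [2, 8, 2, 8] = true := by decide +kernel

theorem m3cA21 : m3chkW [3, 4, 3, 4, 3, 4] = true := by decide +kernel

theorem m3cA22 : m3chkW [3, 5, 3, 5] = true := by decide +kernel

theorem m3cA23 : m3chkW [3, 6, 3, 6] = true := by decide +kernel

theorem m3cA24 : m3chkW [3, 7, 3, 7, 3, 7] = true := by decide +kernel

theorem m3cA25 : m3chkW [3, 8, 3, 8] = true := by decide +kernel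

theorem m3cA26 : m3chkW [4, 5, 4, 5, 4, 5] = true := by decide +kernel

theorem m3cA27 : m3chkW [4, 6, 4, 6] = true := by decide +kernel

theorem m3cA28 : m3chkW [4, 7, 4, 7] = true := by decide +kernel

theorem m3cA29 : m3chkW [4, 8, 4, 8] = true := by decide +kernel

theorem m3cA30 : m3chkW [5, 6, 5, 6, 5, 6] = true := by decide +kernel

theorem m3cA31 : m3chkW [5, 7, 5, 7] = true := by decide +kernel

theorem m3cA32 : m3chkW [5, 8, 5, 8] = true := by decide +kernel

theorem m3cA33 : m3chkW [6, 7, 6, 7] = true := by decide +kernel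

theorem m3cA34 : m3chkW [6, 8, 6, 8] = true := by decide +kernel

theorem m3cA35 : m3chkW [7, 8, 7, 8, 7, 8] = true := by decide +kernel

theorem m3cA36 : m3chkW [0, 0] = true := by decide +kernel

theorem m3cA37 : m3chkW [1, 1] = true := by decide +kernel

theorem m3cA38 : m3chkW [2, 2] = true := by decide +kernel

theorem m3cA39 : m3chkW [3, 3] = true := by decide +kernel

theorem m3cA40 : m3chkW [4, 4] = true := by decide +kernel

theorem m3cA41 : m3chkW [5, 5] = true := by decide +kernel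

theorem m3cA42 : m3chkW [6, 6] = true := by decide +kernel

theorem m3cA43 : m3chkW [7, 7] = true := by decide +kernel

theorem m3cA44 : m3chkW [8, 8] = true := by decide +kernel

theorem m3cA45 : m3chkW [] = true := by decide +kernel

/-- the short relator words -/
def m3shortL : List (List ℕ) := [[0, 1, 0, 1, 0, 1], [0, 2, 0, 2], [0, 3, 0, 3], [0, 4, 0, 4], [0, 5, 0, 5], [0, 6, 0, 6], [0, 7, 0, 7], [0, 8, 0, 8], [1, 2, 1, 2, 1, 2], [1, 3, 1, 3], [1, 4, 1, 4], [1, 5, 1, 5], [1, 6, 1, 6], [1, 7, 1, 7], [1, 8, 1, 8], [2, 3, 2, 3, 2, 3], [2, 4, 2, 4], [2, 5, 2, 5], [2, 6, 2, 6], [2, 7, 2, 7], [2, 8, 2, 8], [3, 4, 3, 4, 3, 4], [3, 5, 3, 5], [3, 6, 3, 6], [3, 7, 3, 7, 3, 7], [3, 8, 3, 8], [4, 5, 4, 5, 4, 5], [4, 6, 4, 6], [4, 7, 4, 7], [4, 8, 4, 8], [5, 6, 5, 6, 5, 6], [5, 7, 5, 7], [5, 8, 5, 8], [6, 7, 6, 7], [6, 8, 6, 8], [7, 8, 7, 8, 7, 8], [0, 0], [1, 1], [2, 2], [3, 3], [4, 4], [5, 5], [6, 6], [7, 7], [8, 8], []]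

theorem m3short_ok : ∀ w ∈ m3shortL, m3chkW w = true := by
  intro w hw
  simp only [m3shortL, List.mem_cons, List.not_mem_nil, or_false] at hw
  rcases hw with rfl | rfl | rfl | rfl | rfl | rfl | rfl | rfl | rfl | rfl | rfl | rfl | rfl | rfl | rfl | rfl | rfl | rfl | rfl | rfl | rfl | rfl | rfl | rfl | rfl | rfl | rfl | rfl | rfl | rfl | rfl | rfl | rfl | rfl | rfl | rfl | rfl | rfl | rfl | rfl | rfl | rfl | rfl | rfl | rfl | rfl
  exacts [m3cA0, m3cA1, m3cA2, m3cA3, m3cA4, m3cA5, m3cA6, m3cA7, m3cA8, m3cA9, m3cA10, m3cA11, m3cA12, m3cA13, m3cA14, m3cA15, m3cA16, m3cA17, m3cA18, m3cA19, m3cA20, m3cA21, m3cA22, m3cA23, m3cA24, m3cA25, m3cA26, m3cA27, m3cA28, m3cA29, m3cA30, m3cA31, m3cA32, m3cA33, m3cA34, m3cA35, m3cA36, m3cA37, m3cA38, m3cA39, m3cA40, m3cA41, m3cA42, m3cA43, m3cA44, m3cA45]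

end Cfsg.Agent.Lib.H29.Fi22M
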