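import Mathlib
import Cfsg.Prelude.Def_ChevStructure
import Cfsg.Agent.Lib.H29.G2InvD

/-!
# `G₂(F)`, characteristic not two: the centraliser of `z = h_a(-1)` is `H (L₁ ∘ L₂)`
-/

set_option autoImplicit false
set_option linter.unusedSectionVars false
set_option linter.unusedSimpArgs false
set_option linter.unusedVariables false

namespace Cfsg.Agent.Lib.H29.G2Inv

open Cfsg.Lie Matrix Cfsg.Agent.Lib.H29.Chev Cfsg.Agent.Lib.H12

variable {F : Type*} [Field F]

local notation "xg" => cert12_G2.c6.c2.xA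
local notation "SL2" => Matrix.SpecialLinearGroup (Fin 2) F

/-- the homomorphism `SL₂ × SL₂ → L₁ L₂` -/
noncomputable def psi (F : Type*) [Field F] :
    Matrix.SpecialLinearGroup (Fin 2) F × Matrix.SpecialLinearGroup (Fin 2) F →* GL chevG2.Idx F :=
  MonoidHom.noncommCoprod (phi 7) (phi 11) phi7_comm_phi11

theorem psi_apply (A B : SL2) : psi F (A, B) = phi 7 A * phi 11 B := by
  unfold psi
  rw [MonoidHom.noncommCoprod_apply]

theorem psi_mem_group (P : SL2 × SL2) : psi F P ∈ chevG2.group F := by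
  rcases P with ⟨A, B⟩
  rw [psi_apply]
  exact mul_mem (phi_mem_group 7 (by norm_num) A) (phi_mem_group 11 (by norm_num) B)

/-- the action of the torus on `SL₂ × SL₂` -/
def dcjP (x y : Fˣ) : SL2 × SL2 →* SL2 × SL2 := MonoidHom.prodMap (dcj (chiU x y 7)) (dcj (chiU x y 11))

theorem dcjP_apply (x y : Fˣ) (A B : SL2) : dcjP x y (A, B) = (dcj (chiU x y 7) A, dcj (chiU x y 11) B) := rfl

theorem chiU_7 (x y : Fˣ) : chiU x y 7 = x ^ 2 * y⁻¹ := by
  unfold chiU
  simp [zpow_ofNat]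

theorem chiU_11 (x y : Fˣ) : chiU x y 11 = y := by
  unfold chiU
  simp

theorem hG_mul_psi (x y : Fˣ) (P : SL2 × SL2) : hG x y * psi F P = psi F (dcjP x y P) * hG x y := by
  rcases P with ⟨A, B⟩
  rw [dcjP_apply, psi_apply, psi_apply, ← mul_assoc, hG_mul_phi x y 7 (by norm_num), mul_assoc,
    hG_mul_phi x y 11 (by norm_num), mul_assoc]

theorem hG_conj_psi (x y : Fˣ) (P : SL2 × SL2) : hG x y * psi F P * (hG x y)⁻¹ = psi F (dcjP x y P) := by
  rw [hG_mul_psi]; group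

theorem dcjP_inv (x y : Fˣ) (P : SL2 × SL2) : dcjP x y (dcjP x⁻¹ y⁻¹ P) = P := by
  rcases P with ⟨A, B⟩
  rw [dcjP_apply, dcjP_apply]
  have h7 : chiU x⁻¹ y⁻¹ 7 = (chiU x y 7)⁻¹ := by rw [chiU_7, chiU_7]; simp [mul_comm]
  have h11 : chiU x⁻¹ y⁻¹ 11 = (chiU x y 11)⁻¹ := by rw [chiU_11, chiU_11]
  rw [h7, h11, dcj_dcj_inv, dcj_dcj_inv]

theorem psi_mul_hG (x y : Fˣ) (P : SL2 × SL2) : psi F P * hG x y = hG x y * psi F (dcjP x⁻¹ y⁻¹ P) := by
  rw [hG_mul_psi, dcjP_inv]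

theorem g2_stab11 : (∀ i < fdG2.l, fdG2.sw fxG2 i 11 ≠ 11 → fdG2.rcZ fxG2 (fdG2.sw fxG2 i 11) i < fdG2.rcZ fxG2 11 i) ∧
    (∀ s < fdG2.n, longG2' s = true → ∀ j < fdG2.l, fdG2.rcZ fxG2 s j ≤ fdG2.rcZ fxG2 11 j) ∧
    (∀ i < fdG2.l, fdG2.sw fxG2 i 11 = 11 → i = 0) ∧
    fdG2.simples.getD 0 0 = 7 := by
  decide +kernel

theorem g2_nw11 : (∀ s < 12, fdG2.chkConj fxG2 11 s = true ∧ fdG2.nw fxG2 11 s < 12 ∧
    fdG2.nw fxG2 11 (11 - s) = 11 - fdG2.nw fxG2 11 s) ∧ fdG2.nw fxG2 11 0 = 11 := by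
  decide +kernel

/-- the permutation of `n_{3a+2b}` -/
theorem perm_n11 : cert12_G2.c6.c2.Perm (phi 11 (Jm F)) (fdG2.nw fxG2 11) := by
  have hn := g2_n
  rw [phi_Jm 11 (by norm_num)]
  intro s hs
  obtain ⟨k1, k2, k3⟩ := g2_nw11.1 s (by omega)
  refine ⟨by omega, ?_, _, fun t => cert12_G2.c6.c2.nG_conj_x 11 s (by omega) hs k1 t⟩
  rw [hn]
  exact k3

theorem phi_Jm_mem_monomial (r : ℕ) (hr : r < 12) : phi r (Jm F) ∈ chevG2.monomialSubgroup F := by
  rw [phi_Jm r hr]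
  exact cert12_G2.c6.c2.nG_mem_monomial _ _

/-- the element of `N` of a word in the reflection in `a` -/
theorem wordN_zero (w : List ℕ) (hw : ∀ i ∈ w, i < fdG2.l ∧ fdG2.sw fxG2 i 11 = 11) :
    cert12_G2.wordN F w = phi 7 ((Jm F) ^ w.length) := by
  have hn := g2_n
  induction w with
  | nil => simp [Cert12.wordN]
  | cons i w ih =>
    obtain ⟨hi, hJ⟩ := hw i List.mem_cons_self
    have hi0 : i = 0 := g2_stab11.2.2.1 i hi hJ
    subst hi0
    have hp := cert12_G2.c6.c2.simple_lt 0 hi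
    simp only [Cert12.wordN, dif_pos hi]
    rw [ih (fun j hj => hw j (List.mem_cons_of_mem _ hj)), cert12_G2.c6.c2.nG_eq_xA' _ hp]
    simp only [g2_stab11.2.2.2, hn]
    rw [List.length_cons, pow_succ', map_mul]
    congr 1
    rw [phi_Jm 7 (by norm_num), cert12_G2.c6.c2.nG_eq_xA' 7 (by omega)]
    simp only [hn]

/-- the elements of `N` commuting with `z` -/
theorem monomial_cent_zG (h2 : (2 : F) ≠ 0) (m : GL chevG2.Idx F) (hm : m ∈ chevG2.monomialSubgroup F)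
    (hc : zG F * m = m * zG F) : ∃ (x y : Fˣ) (P : SL2 × SL2), m = hG x y * psi F P := by
  have hn := g2_n
  obtain ⟨sd1, sd2, sd3, sd4⟩ := g2_stab11
  -- the case where the permutation fixes the highest root
  have key : ∀ (m : GL chevG2.Idx F), m ∈ chevG2.monomialSubgroup F → ∀ π, cert12_G2.c6.c2.Perm m π → π 11 = 11 →
      ∃ (x y : Fˣ) (P : SL2 × SL2), m = hG x y * psi F P := by
    intro m hm π hπ hfix
    obtain ⟨w, hw, hws⟩ := cert12_G2.stab_word 11 (by omega) (fun s => longG2' s = true) sd1 (by decide)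
      g2_long_sw sd2 _ m π hm hπ hfix rfl
    have hwd : IsWd fdG2.l w := fun i hi => (hw i hi).1
    have hd := cert12_G2.mul_inv_mem_diag' m (cert12_G2.wordN F w) hm (cert12_G2.wordN_mem w) π _ hπ
      (cert12_G2.perm_wordN w hwd) hws
    obtain ⟨x, y, hxy⟩ := exists_hG _ hd
    refine ⟨x, y, ((Jm F) ^ w.length, 1), ?_⟩
    rw [psi_apply, map_one, mul_one, ← wordN_zero w hw, ← hxy]
    group
  obtain ⟨⟨π, hπ⟩, _⟩ := cert12_G2.c6.perm_of_mem m hm
  obtain ⟨h1, h1', c, h3⟩ := hπ 11 (by omega)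
  have hc0 : c ≠ 0 := by
    intro hc0
    have h4 := h3 1
    rw [hc0, zero_mul, cert12_G2.c6.c2.xA_zero] at h4
    have h5 : xg 11 (1 : F) = 1 := by
      have e : xg 11 (1 : F) = m⁻¹ * (m * xg 11 1 * m⁻¹) * m := by group
      rw [e, h4]; group
    exact one_ne_zero (cert12_G2.c6.xA_eq_one 11 (by omega) (1 : F) h5)
  -- `π 11` is centralised by `z`
  have hcz : zG F * xg (π 11) (c * 1) * (zG F)⁻¹ = xg (π 11) (c * 1) := by
    rw [← h3 1]
    have e : zG F * (m * xg 11 1 * m⁻¹) * (zG F)⁻¹ = (zG F * m) * ((zG F)⁻¹ * (zG F * xg 11 1) * (zG F)⁻¹ * zG F) *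
        (zG F * m)⁻¹ := by group
    rw [e, hc, zG_comm 11 (by norm_num)]
    group
  rw [zG_conj (π 11) (by omega)] at hcz
  have hcz2 := cert12_G2.xA_param_inj' (π 11) h1 _ _ hcz
  have hπ4 : π 11 = 0 ∨ π 11 = 4 ∨ π 11 = 7 ∨ π 11 = 11 := by
    by_contra hne
    rw [if_neg hne, mul_one] at hcz2
    have : (2 : F) * c = 0 := by linear_combination -hcz2
    rcases mul_eq_zero.mp this with h | h
    · exact h2 h
    · exact hc0 h
  obtain ⟨w, hw, hπw⟩ := (cert12_G2.perm_word m hm).1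
  have hlong : longG2' (π 11) = true := by
    rw [cert12_G2.perm_unique m _ _ hπ hπw 11 (by omega)]
    exact cert12_G2.cls_wordP (fun s => longG2' s = true) g2_long_sw w hw 11 (by omega) (by decide)
  have hπ2 : π 11 = 11 ∨ π 11 = 0 := by
    rcases hπ4 with h | h | h | h
    · right; exact h
    · rw [h] at hlong; exact absurd hlong (by decide)
    · rw [h] at hlong; exact absurd hlong (by decide)
    · left; exact h
  rcases hπ2 with hfix | h0
  · exact key m hm π hπ hfix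
  · -- multiply by `n_{11}`
    obtain ⟨_, ⟨ρ, hρ⟩⟩ := cert12_G2.c6.perm_of_mem (phi 11 (Jm F)) (phi_Jm_mem_monomial 11 (by norm_num))
    have hinv := cert12_G2.perm_inv _ _ _ perm_n11 hρ
    have hρ11 : ρ 11 = 0 := by
      have := hinv.1 0 (by omega)
      rwa [g2_nw11.2] at this
    have hπ0 : π 0 = 11 := by
      have : π (fdG2.n - 1 - 11) = fdG2.n - 1 - π 11 := h1'
      rw [h0, hn] at this
      exact this
    have hP := cert12_G2.c6.perm_mul hπ hρ
    obtain ⟨x, y, ⟨A, B⟩, e⟩ := key (m * (phi 11 (Jm F))⁻¹)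
      (mul_mem hm (inv_mem (phi_Jm_mem_monomial 11 (by norm_num)))) _ hP (by
        simp only [Function.comp]
        rw [hρ11, hπ0])
    refine ⟨x, y, (A, B * Jm F), ?_⟩
    have e' : m = m * (phi 11 (Jm F))⁻¹ * phi 11 (Jm F) := by group
    rw [e', e, psi_apply, psi_apply, map_mul]
    group

/-- **the centraliser of `z` is `H L₁ L₂`** -/
theorem cent_zG_coords (h2 : (2 : F) ≠ 0) (g : GL chevG2.Idx F) (hg : g ∈ chevG2.group F)
    (hc : zG F * g = g * zG F) : ∃ (x y : Fˣ) (P : SL2 × SL2), g = hG x y * psi F P := by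
  obtain ⟨s, t, s', t', m, hm, hmc, rfl⟩ := cent_zG_form h2 g hg hc
  obtain ⟨x, y, P, rfl⟩ := monomial_cent_zG h2 m hm hmc
  refine ⟨x, y, dcjP x⁻¹ y⁻¹ (StPresG.upM s, StPresG.upM t) * P * (StPresG.upM s', StPresG.upM t'), ?_⟩
  have e1 : xg 7 s * xg 11 t = psi F (StPresG.upM s, StPresG.upM t) := by
    rw [psi_apply, phi_up 7 (by norm_num), phi_up 11 (by norm_num)]
  have e2 : xg 7 s' * xg 11 t' = psi F (StPresG.upM s', StPresG.upM t') := by
    rw [psi_apply, phi_up 7 (by norm_num), phi_up 11 (by norm_num)]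
  rw [e1, e2, map_mul, map_mul]
  calc psi F (StPresG.upM s, StPresG.upM t) * (hG x y * psi F P) * psi F (StPresG.upM s', StPresG.upM t')
      = (psi F (StPresG.upM s, StPresG.upM t) * hG x y) * psi F P * psi F (StPresG.upM s', StPresG.upM t') := by
        group
    _ = hG x y * (psi F (dcjP x⁻¹ y⁻¹ (StPresG.upM s, StPresG.upM t)) * psi F P *
          psi F (StPresG.upM s', StPresG.upM t')) := by
        rw [psi_mul_hG]; group

end Cfsg.Agent.Lib.H29.G2Inv
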