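import Mathlib
import Cfsg.Prelude.Def_ChevStructure
import Cfsg.Agent.Lib.H29.G2InvE

/-!
# `G₂(F)`: computing in `H (L₁ ∘ L₂)`
-/

set_option autoImplicit false
set_option linter.unusedSectionVars false
set_option linter.unusedSimpArgs false
set_option linter.unusedVariables false

namespace Cfsg.Agent.Lib.H29.G2Inv

open Cfsg.Lie Matrix Cfsg.Agent.Lib.H29.Chev Cfsg.Agent.Lib.H12

variable {F : Type*} [Field F]

local notation "xg" => cert12_G2.c6.c2.xA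
local notation "SL2" => Matrix.SpecialLinearGroup (Fin 2) F

theorem coords_mul (x y x' y' : Fˣ) (P P' : SL2 × SL2) :
    (hG x y * psi F P) * (hG x' y' * psi F P') = hG (x * x') (y * y') * psi F (dcjP x'⁻¹ y'⁻¹ P * P') := by
  rw [map_mul, ← hG_mul]
  calc (hG x y * psi F P) * (hG x' y' * psi F P') = hG x y * (psi F P * hG x' y') * psi F P' := by group
    _ = hG x y * hG x' y' * (psi F (dcjP x'⁻¹ y'⁻¹ P) * psi F P') := by rw [psi_mul_hG]; group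

theorem coords_conj (x y : Fˣ) (P Q : SL2 × SL2) :
    psi F Q * (hG x y * psi F P) * (psi F Q)⁻¹ = hG x y * psi F (dcjP x⁻¹ y⁻¹ Q * P * Q⁻¹) := by
  rw [map_mul, map_mul, map_inv]
  calc psi F Q * (hG x y * psi F P) * (psi F Q)⁻¹ = (psi F Q * hG x y) * psi F P * (psi F Q)⁻¹ := by group
    _ = hG x y * (psi F (dcjP x⁻¹ y⁻¹ Q) * psi F P * (psi F Q)⁻¹) := by rw [psi_mul_hG]; group

theorem chiU_inv (x y : Fˣ) (r : ℕ) : chiU x⁻¹ y⁻¹ r = (chiU x y r)⁻¹ := by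
  unfold chiU
  rw [_root_.inv_zpow, _root_.inv_zpow, mul_inv]

theorem dcjP_inv_apply (x y : Fˣ) (A B : SL2) :
    dcjP x⁻¹ y⁻¹ (A, B) = (dcj (chiU x y 7)⁻¹ A, dcj (chiU x y 11)⁻¹ B) := by
  rw [dcjP_apply, chiU_inv, chiU_inv]

/-- conjugation by an element of `L₁ L₂` on the rank one subgroup `L₂` -/
theorem psi_conj_phi11 (A B X : SL2) :
    psi F (A, B) * phi 11 X * (psi F (A, B))⁻¹ = phi 11 (B * X * B⁻¹) := by
  rw [psi_apply, map_mul, map_mul, map_inv]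
  have h := (phi7_comm_phi11 (F := F) A (B * X * B⁻¹)).eq
  rw [map_mul, map_mul, map_inv] at h
  calc phi 7 A * phi 11 B * phi 11 X * (phi 7 A * phi 11 B)⁻¹
      = (phi 7 A * (phi 11 B * phi 11 X * (phi 11 B)⁻¹)) * (phi 7 A)⁻¹ := by group
    _ = phi 11 B * phi 11 X * (phi 11 B)⁻¹ := by rw [h]; group

theorem psi_conj_phi7 (A B X : SL2) :
    psi F (A, B) * phi 7 X * (psi F (A, B))⁻¹ = phi 7 (A * X * A⁻¹) := by
  rw [psi_apply, map_mul, map_mul, map_inv]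
  have h := (phi7_comm_phi11 (F := F) X B).eq
  calc phi 7 A * phi 11 B * phi 7 X * (phi 7 A * phi 11 B)⁻¹
      = phi 7 A * (phi 11 B * phi 7 X) * (phi 11 B)⁻¹ * (phi 7 A)⁻¹ := by group
    _ = phi 7 A * phi 7 X * (phi 7 A)⁻¹ := by rw [← h]; group

/-- a matrix of `SL₂` acting on `SL₂` as a diagonal matrix is diagonal -/
theorem diag_of_conj (B : SL2) (d : Fˣ) (h : ∀ X : SL2, B * X * B⁻¹ = dcj d X) : B.1 0 1 = 0 ∧ B.1 1 0 = 0 := by
  have hd : (d : F) ≠ 0 := d.ne_zero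
  have h1 : B * StPresG.upM 1 = StPresG.upM ((d : F) * 1) * B := by
    rw [← dcj_upM, ← h]; group
  have h2 : B * StPresG.loM 1 = StPresG.loM ((d : F)⁻¹ * 1) * B := by
    rw [← dcj_loM, ← h]; group
  have e1 := congrArg (fun M : SL2 => M.1 0 0) h1
  have e2 := congrArg (fun M : SL2 => M.1 1 1) h2
  simp [Matrix.SpecialLinearGroup.coe_mul, Matrix.mul_apply, Fin.sum_univ_two] at e1 e2
  exact ⟨e2, e1⟩

/-- an element of `L₁ L₂` lying in `H` comes from diagonal matrices -/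
theorem psi_mem_diag (A B : SL2) (h : psi F (A, B) ∈ chevG2.diagonalSubgroup F) :
    (A.1 0 1 = 0 ∧ A.1 1 0 = 0) ∧ (B.1 0 1 = 0 ∧ B.1 1 0 = 0) := by
  obtain ⟨x, y, hxy⟩ := exists_hG _ h
  constructor
  · apply diag_of_conj A (chiU x y 7)
    intro X
    apply phi7_inj
    rw [← hG_conj_phi x y 7 (by norm_num), ← hxy, psi_conj_phi7]
  · apply diag_of_conj B (chiU x y 11)
    intro X
    apply phi11_inj
    rw [← hG_conj_phi x y 11 (by norm_num), ← hxy, psi_conj_phi11]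

theorem eq_dgM_of_diag (A : SL2) (h : A.1 0 1 = 0 ∧ A.1 1 0 = 0) :
    ∃ a : Fˣ, A = StPresG.dgM (a : F) a.ne_zero := by
  have hd := sl2_det A
  rw [h.1, zero_mul, sub_zero] at hd
  have h0 : A.1 0 0 ≠ 0 := left_ne_zero_of_mul_eq_one hd
  refine ⟨Units.mk0 _ h0, ?_⟩
  apply StPresG.sl2_ext
  · simp
  · simp [h.1]
  · simp [h.2]
  · simp
    exact eq_inv_of_mul_eq_one_right hd

theorem psi_dgM (a b : Fˣ) :
    psi F (StPresG.dgM (a : F) a.ne_zero, StPresG.dgM (b : F) b.ne_zero) = hG (a * b) (b ^ 2) := by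
  rw [psi_apply, phi7_dgM, phi11_dgM, hG_mul, one_mul]

/-- **the square of an element of `H L₁ L₂`** -/
theorem coords_sq (x y : Fˣ) (A B : SL2) (h : (hG x y * psi F (A, B)) * (hG x y * psi F (A, B)) = 1) :
    ∃ a b : Fˣ, dcj (chiU x y 7)⁻¹ A * A = StPresG.dgM (a : F) a.ne_zero ∧
      dcj (chiU x y 11)⁻¹ B * B = StPresG.dgM (b : F) b.ne_zero ∧ x ^ 2 * a * b = 1 ∧ y ^ 2 * b ^ 2 = 1 := by
  rw [coords_mul, dcjP_inv_apply, Prod.mk_mul_mk] at h
  have hmem : psi F (dcj (chiU x y 7)⁻¹ A * A, dcj (chiU x y 11)⁻¹ B * B) ∈ chevG2.diagonalSubgroup F := by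
    have : psi F (dcj (chiU x y 7)⁻¹ A * A, dcj (chiU x y 11)⁻¹ B * B) = (hG (x * x) (y * y))⁻¹ :=
      eq_inv_of_mul_eq_one_right h
    rw [this]
    exact inv_mem (hG_mem_diag _ _)
  obtain ⟨hA, hB⟩ := psi_mem_diag _ _ hmem
  obtain ⟨a, ha⟩ := eq_dgM_of_diag _ hA
  obtain ⟨b, hb⟩ := eq_dgM_of_diag _ hB
  refine ⟨a, b, ha, hb, ?_⟩
  rw [ha, hb, psi_dgM, hG_mul, ← hG_one] at h
  obtain ⟨e1, e2⟩ := hG_inj _ _ _ _ h
  constructor
  · rw [← e1, pow_two, mul_assoc]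
  · rw [← e2, pow_two]

end Cfsg.Agent.Lib.H29.G2Inv
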