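import Mathlib
import Cfsg.Prelude.Def_ChevStructure
import Cfsg.Agent.Lib.H29.G2InvF

/-!
# `G₂(F)`, characteristic not two: the involutions of `C(z)` of split type are conjugate to `z`
-/

set_option autoImplicit false
set_option linter.unusedSectionVars false
set_option linter.unusedSimpArgs false
set_option linter.unusedVariables false

namespace Cfsg.Agent.Lib.H29.G2Inv

open Cfsg.Lie Matrix Cfsg.Agent.Lib.H29.Chev Cfsg.Agent.Lib.H12

variable {F : Type*} [Field F]

local notation "xg" => cert12_G2.c6.c2.xA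
local notation "SL2" => Matrix.SpecialLinearGroup (Fin 2) F

theorem Jm_inv : (Jm F)⁻¹ = StPresG.wM (-1) (neg_ne_zero.mpr one_ne_zero) := by
  apply inv_eq_of_mul_eq_one_right
  unfold Jm
  apply StPresG.sl2_ext <;>
    simp [Matrix.SpecialLinearGroup.coe_mul, Matrix.mul_apply, Fin.sum_univ_two]

/-- `n_r h n_r⁻¹ = h_r(χ_r(h)⁻¹) h` -/
theorem phiJ_conj_hG (r : ℕ) (hr : r < 12) (x y : Fˣ) :
    phi r (Jm F) * hG x y * (phi r (Jm F))⁻¹ =
      phi r (StPresG.dgM (((chiU x y r)⁻¹ : Fˣ) : F) (Units.ne_zero _)) * hG x y := by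
  have h1 : hG x y * (phi r (Jm F))⁻¹ = phi r (dcj (chiU x y r) (Jm F)⁻¹) * hG x y := by
    rw [← map_inv, hG_mul_phi x y r hr]
  have h3 : Jm F * dcj (chiU x y r) (Jm F)⁻¹ = StPresG.dgM (((chiU x y r)⁻¹ : Fˣ) : F) (Units.ne_zero _) := by
    rw [Jm_inv]
    unfold Jm
    apply StPresG.sl2_ext <;>
      simp [Matrix.SpecialLinearGroup.coe_mul, Matrix.mul_apply, Fin.sum_univ_two]
  calc phi r (Jm F) * hG x y * (phi r (Jm F))⁻¹ = phi r (Jm F) * (hG x y * (phi r (Jm F))⁻¹) := by group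
    _ = phi r (Jm F * dcj (chiU x y r) (Jm F)⁻¹) * hG x y := by rw [h1, map_mul]; group
    _ = _ := by rw [h3]

/-- the three involutions of `H` -/
theorem zG_fusion1 : phi 6 (Jm F) * zG F * (phi 6 (Jm F))⁻¹ = hG (-1) (-1) := by
  unfold zG
  rw [phiJ_conj_hG 6 (by norm_num), phi6_dgM, hG_mul]
  congr 1
  · simp
  · unfold chiU
    simp [zpow_ofNat, _root_.zpow_neg]
    exact Odd.neg_one_pow (by decide)

theorem zG_fusion2 : phi 7 (Jm F) * hG (1 : Fˣ) (-1) * (phi 7 (Jm F))⁻¹ = hG (-1) (-1) := by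
  rw [phiJ_conj_hG 7 (by norm_num), phi7_dgM, hG_mul]
  congr 1
  · unfold chiU
    simp [zpow_ofNat, _root_.zpow_neg]
  · simp

theorem conjG_phi (r : ℕ) (hr : r < 12) (X : SL2) (g g' : GL chevG2.Idx F) (h : phi r X * g * (phi r X)⁻¹ = g') :
    ConjG chevG2 F g g' := ⟨_, phi_mem_group r hr X, h⟩

theorem conjG_psi (Q : SL2 × SL2) (g g' : GL chevG2.Idx F) (h : psi F Q * g * (psi F Q)⁻¹ = g') :
    ConjG chevG2 F g g' := ⟨_, psi_mem_group Q, h⟩

theorem unit_sq_eq_one (x : Fˣ) (h : x ^ 2 = 1) : x = 1 ∨ x = -1 := by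
  have h' : ((x : F) - 1) * ((x : F) + 1) = 0 := by
    have := congrArg (fun u : Fˣ => (u : F)) h
    simp only [Units.val_pow_eq_pow_val, Units.val_one] at this
    linear_combination this
  rcases mul_eq_zero.mp h' with k | k
  · left; exact Units.ext (by rw [Units.val_one]; linear_combination k)
  · right; exact Units.ext (by rw [Units.val_neg, Units.val_one]; linear_combination k)

/-- an involution of `H` is conjugate to `z` -/
theorem conjG_zG_of_diag (x y : Fˣ) (hx : x ^ 2 = 1) (hy : y ^ 2 = 1) (hne : (hG x y : GL chevG2.Idx F) ≠ 1) :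
    ConjG chevG2 F (hG x y) (zG F) := by
  have f1 : ConjG chevG2 F (zG F) (hG (-1) (-1)) := conjG_phi 6 (by norm_num) _ _ _ zG_fusion1
  have f2 : ConjG chevG2 F (hG (1 : Fˣ) (-1)) (hG (-1) (-1)) := conjG_phi 7 (by norm_num) _ _ _ zG_fusion2
  rcases unit_sq_eq_one x hx with rfl | rfl <;> rcases unit_sq_eq_one y hy with rfl | rfl
  · exact absurd hG_one hne
  · exact f2.trans f1.symm
  · exact ConjG.refl _ _ _
  · exact f1.symm

theorem upM_conj_half (h2 : (2 : F) ≠ 0) (d : Fˣ) (s : F) (h : ((d⁻¹ : Fˣ) : F) * s + s = 0) :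
    dcj d⁻¹ (StPresG.upM (s / 2)) * StPresG.upM s * (StPresG.upM (s / 2))⁻¹ = 1 := by
  rw [mul_inv_eq_one, dcj_upM]
  apply StPresG.sl2_ext <;>
    simp [Matrix.SpecialLinearGroup.coe_mul, Matrix.mul_apply, Fin.sum_univ_two]
  simp only [Units.val_inv_eq_inv_val] at h
  field_simp
  field_simp at h
  linear_combination h

/-- **an involution of `B ∩ C(z)` is conjugate to `z`** -/
theorem conjG_zG_of_borel (h2 : (2 : F) ≠ 0) (x y : Fˣ) (s t : F)
    (hsq : (hG x y * psi F (StPresG.upM s, StPresG.upM t)) * (hG x y * psi F (StPresG.upM s, StPresG.upM t)) = 1)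
    (hne : hG x y * psi F (StPresG.upM s, StPresG.upM t) ≠ 1) :
    ConjG chevG2 F (hG x y * psi F (StPresG.upM s, StPresG.upM t)) (zG F) := by
  obtain ⟨a, b, ha, hb, e1, e2⟩ := coords_sq x y _ _ hsq
  rw [dcj_upM] at ha hb
  have ha0 := congrArg (fun M : SL2 => M.1 0 0) ha
  have ha1 := congrArg (fun M : SL2 => M.1 0 1) ha
  have hb0 := congrArg (fun M : SL2 => M.1 0 0) hb
  have hb1 := congrArg (fun M : SL2 => M.1 0 1) hb
  simp [Matrix.SpecialLinearGroup.coe_mul, Matrix.mul_apply, Fin.sum_univ_two] at ha0 ha1 hb0 hb1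
  have ha' : a = 1 := Units.ext ha0.symm
  have hb' : b = 1 := Units.ext hb0.symm
  rw [ha', hb'] at e1
  rw [hb'] at e2
  simp only [mul_one, one_pow] at e1 e2
  -- conjugate into `H`
  have hc := coords_conj x y (StPresG.upM s, StPresG.upM t) (StPresG.upM (s / 2), StPresG.upM (t / 2))
  rw [dcjP_inv_apply, Prod.inv_mk, Prod.mk_mul_mk, Prod.mk_mul_mk,
    upM_conj_half h2 _ s (by rw [add_comm]; simpa using ha1),
    upM_conj_half h2 _ t (by rw [add_comm]; simpa using hb1)] at hc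
  have h11 : psi F ((1 : SL2), (1 : SL2)) = 1 := by rw [← Prod.one_eq_mk, map_one]
  rw [h11, mul_one] at hc
  have hne' : (hG x y : GL chevG2.Idx F) ≠ 1 := by
    intro h1
    apply hne
    have : hG x y * psi F (StPresG.upM s, StPresG.upM t) =
        (psi F (StPresG.upM (s / 2), StPresG.upM (t / 2)))⁻¹ * (psi F (StPresG.upM (s / 2), StPresG.upM (t / 2)) *
          (hG x y * psi F (StPresG.upM s, StPresG.upM t)) * (psi F (StPresG.upM (s / 2), StPresG.upM (t / 2)))⁻¹) *
          psi F (StPresG.upM (s / 2), StPresG.upM (t / 2)) := by group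
    rw [this, hc, h1]; group
  exact (conjG_psi _ _ _ hc).trans (conjG_zG_of_diag x y e1 e2 hne')

end Cfsg.Agent.Lib.H29.G2Inv
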