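import Mathlib
import Cfsg.Prelude.Def_ChevStructure
import Cfsg.Agent.Lib.H29.G2InvG

/-!
# `G₂(F)`, characteristic not two: the involutions of `C(z)` of split type are conjugate to `z` (continued)
-/

set_option autoImplicit false
set_option linter.unusedSectionVars false
set_option linter.unusedSimpArgs false
set_option linter.unusedVariables false

namespace Cfsg.Agent.Lib.H29.G2Inv

open Cfsg.Lie Matrix Cfsg.Agent.Lib.H29.Chev Cfsg.Agent.Lib.H12

variable {F : Type*} [Field F]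

local notation "xg" => cert12_G2.c6.c2.xA
local notation "SL2" => Matrix.SpecialLinearGroup (Fin 2) F

/-- the entries of `D⁻¹ A D A` -/
theorem dcj_sq_entries (d : Fˣ) (A : SL2) (a : Fˣ) (h : dcj d⁻¹ A * A = StPresG.dgM (a : F) a.ne_zero) :
    A.1 0 0 ^ 2 + (d : F)⁻¹ * A.1 0 1 * A.1 1 0 = a ∧ A.1 0 0 * A.1 0 1 + (d : F)⁻¹ * A.1 0 1 * A.1 1 1 = 0 ∧
    (d : F) * A.1 1 0 * A.1 0 0 + A.1 1 1 * A.1 1 0 = 0 ∧ (d : F) * A.1 1 0 * A.1 0 1 + A.1 1 1 ^ 2 = (a : F)⁻¹ := by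
  have h00 := congrArg (fun M : SL2 => M.1 0 0) h
  have h01 := congrArg (fun M : SL2 => M.1 0 1) h
  have h10 := congrArg (fun M : SL2 => M.1 1 0) h
  have h11 := congrArg (fun M : SL2 => M.1 1 1) h
  simp [Matrix.SpecialLinearGroup.coe_mul, Matrix.mul_apply, Fin.sum_univ_two] at h00 h01 h10 h11
  refine ⟨?_, ?_, ?_, ?_⟩
  · linear_combination h00
  · linear_combination h01
  · linear_combination h10
  · linear_combination h11

/-- a matrix whose square is a square scalar can be made triangular -/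
theorem tri (d : Fˣ) (A : SL2) (a : Fˣ) (hA : dcj d⁻¹ A * A = StPresG.dgM (a : F) a.ne_zero) (e : F)
    (he : e ^ 2 * (a : F) = 1) : ∃ Y : SL2, (dcj d⁻¹ Y * A * Y⁻¹).1 1 0 = 0 := by
  have hd : (d : F) ≠ 0 := d.ne_zero
  have ha : (a : F) ≠ 0 := a.ne_zero
  by_cases h10 : A.1 1 0 = 0
  · refine ⟨1, ?_⟩
    simp [h10]
  · obtain ⟨e00, e01, e10, e11⟩ := dcj_sq_entries d A a hA
    have h11 : A.1 1 1 = -((d : F) * A.1 0 0) := by
      have : A.1 1 0 * ((d : F) * A.1 0 0 + A.1 1 1) = 0 := by linear_combination e10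
      rcases mul_eq_zero.mp this with h | h
      · exact absurd h h10
      · linear_combination h
    have hee : e ^ 2 = (a : F)⁻¹ := by
      field_simp
      linear_combination he
    let Y : SL2 := mk2 0 (A.1 1 0)⁻¹ (-(A.1 1 0)) ((d : F) * A.1 0 0 + e) (by field_simp; ring)
    let Yi : SL2 := mk2 ((d : F) * A.1 0 0 + e) (-(A.1 1 0)⁻¹) (A.1 1 0) 0 (by field_simp; ring)
    have hYi : Y⁻¹ = Yi := by
      apply inv_eq_of_mul_eq_one_right
      apply StPresG.sl2_ext <;>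
        simp [Y, Yi, Matrix.SpecialLinearGroup.coe_mul, Matrix.mul_apply, Fin.sum_univ_two, h10]
      ring
    refine ⟨Y, ?_⟩
    rw [hYi, Matrix.SpecialLinearGroup.coe_mul, Matrix.SpecialLinearGroup.coe_mul, Matrix.mul_apply,
      Fin.sum_univ_two, Matrix.mul_apply, Matrix.mul_apply, Fin.sum_univ_two, Fin.sum_univ_two]
    simp [Y, Yi]
    rw [h11]
    rw [h11, ← hee] at e11
    linear_combination (-(A.1 1 0)) * e11

theorem conj_sq_one {G : Type*} [Group G] (g c : G) (h : c * c = 1) : (g * c * g⁻¹) * (g * c * g⁻¹) = 1 := by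
  have : (g * c * g⁻¹) * (g * c * g⁻¹) = g * (c * c) * g⁻¹ := by group
  rw [this, h]; group

theorem conj_ne_one {G : Type*} [Group G] (g c : G) (h : c ≠ 1) : g * c * g⁻¹ ≠ 1 := by
  intro h1
  apply h
  have : c = g⁻¹ * (g * c * g⁻¹) * g := by group
  rw [this, h1]; group

/-- **an involution of `C(z)` of split type is conjugate to `z`** -/
theorem conjG_zG_of_split (h2 : (2 : F) ≠ 0) (x y : Fˣ) (A B : SL2)
    (hsq : (hG x y * psi F (A, B)) * (hG x y * psi F (A, B)) = 1) (hne : hG x y * psi F (A, B) ≠ 1)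
    (hT : ∀ b : Fˣ, dcj (chiU x y 11)⁻¹ B * B = StPresG.dgM (b : F) b.ne_zero → IsSquare (b : F)) :
    ConjG chevG2 F (hG x y * psi F (A, B)) (zG F) := by
  obtain ⟨a, b, ha, hb, e1, e2⟩ := coords_sq x y A B hsq
  obtain ⟨f, hf⟩ := hT b hb
  have hb0 : (b : F) ≠ 0 := b.ne_zero
  have hf0 : f ≠ 0 := by
    intro h0
    rw [h0, mul_zero] at hf
    exact hb0 hf
  have e1' : (x : F) ^ 2 * (a : F) * (b : F) = 1 := by
    have := congrArg (fun u : Fˣ => (u : F)) e1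
    simpa using this
  obtain ⟨Y7, hY7⟩ := tri (chiU x y 7) A a ha ((x : F) * f) (by
    rw [hf] at e1'
    linear_combination e1')
  obtain ⟨Y11, hY11⟩ := tri (chiU x y 11) B b hb f⁻¹ (by
    rw [hf]
    field_simp)
  have hc := coords_conj x y (A, B) (Y7, Y11)
  rw [dcjP_inv_apply, Prod.inv_mk, Prod.mk_mul_mk, Prod.mk_mul_mk] at hc
  obtain ⟨k7, E7⟩ := sl2_borel _ hY7
  obtain ⟨k11, E11⟩ := sl2_borel _ hY11
  set A₁ := dcj (chiU x y 7)⁻¹ Y7 * A * Y7⁻¹ with hA₁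
  set B₁ := dcj (chiU x y 11)⁻¹ Y11 * B * Y11⁻¹ with hB₁
  have hsplit : psi F (A₁, B₁) = hG (Units.mk0 _ k7 * Units.mk0 _ k11) (Units.mk0 _ k11 ^ 2) *
      psi F (StPresG.upM (A₁.1 0 1 / A₁.1 0 0), StPresG.upM (B₁.1 0 1 / B₁.1 0 0)) := by
    rw [← psi_dgM, ← map_mul, Prod.mk_mul_mk]
    simp only [Units.val_mk0]
    rw [← E7, ← E11]
  rw [hsplit] at hc
  have hmm : ∀ (u v : Fˣ) (g : GL chevG2.Idx F), hG x y * (hG u v * g) = hG (x * u) (y * v) * g := by
    intro u v g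
    rw [← mul_assoc, hG_mul]
  rw [hmm] at hc
  have hsq' := conj_sq_one (psi F (Y7, Y11)) _ hsq
  have hne' := conj_ne_one (psi F (Y7, Y11)) _ hne
  rw [hc] at hsq' hne'
  exact (conjG_psi _ _ _ hc).trans (conjG_zG_of_borel h2 _ _ _ _ hsq' hne')

end Cfsg.Agent.Lib.H29.G2Inv
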