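import Mathlib
import Cfsg.Prelude.Def_ChevStructure
import Cfsg.Agent.Lib.H29.G2InvH

/-!
# `G₂(F)`, characteristic not two: the involutions `h n₀` of `N`, where `n₀` lifts `-1`
-/

set_option autoImplicit false
set_option linter.unusedSectionVars false
set_option linter.unusedSimpArgs false
set_option linter.unusedVariables false

namespace Cfsg.Agent.Lib.H29.G2Inv

open Cfsg.Lie Matrix Cfsg.Agent.Lib.H29.Chev Cfsg.Agent.Lib.H12

variable {F : Type*} [Field F]

local notation "xg" => cert12_G2.c6.c2.xA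
local notation "SL2" => Matrix.SpecialLinearGroup (Fin 2) F

/-- the element `n₀ = n_a n_{3a+2b}` -/
noncomputable def n0 (F : Type*) [Field F] : GL chevG2.Idx F := psi F (Jm F, Jm F)

theorem Jm_sq : Jm F * Jm F = StPresG.dgM (((-1 : Fˣ) : Fˣ) : F) (Units.ne_zero _) := by
  unfold Jm
  apply StPresG.sl2_ext <;>
    simp [Matrix.SpecialLinearGroup.coe_mul, Matrix.mul_apply, Fin.sum_univ_two]

theorem dcj_Jm_mul (d : Fˣ) : dcj d⁻¹ (Jm F) * Jm F = StPresG.dgM (((-d⁻¹ : Fˣ) : Fˣ) : F) (Units.ne_zero _) := by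
  unfold Jm
  apply StPresG.sl2_ext <;>
    simp [Matrix.SpecialLinearGroup.coe_mul, Matrix.mul_apply, Fin.sum_univ_two]

theorem dcj_neg_one_Jm : dcj (-1 : Fˣ) (Jm F) = StPresG.dgM (((-1 : Fˣ) : Fˣ) : F) (Units.ne_zero _) * Jm F := by
  unfold Jm
  apply StPresG.sl2_ext <;>
    simp [Matrix.SpecialLinearGroup.coe_mul, Matrix.mul_apply, Fin.sum_univ_two]

theorem n0_sq : n0 F * n0 F = 1 := by
  unfold n0
  rw [← map_mul, Prod.mk_mul_mk, Jm_sq, psi_dgM]
  simp [hG_one]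

/-- a torus element with `χ_a = χ_{3a+2b} = -1` commutes with `n₀` -/
theorem hG_comm_n0 (u v : Fˣ) (h7 : chiU u v 7 = -1) (h11 : chiU u v 11 = -1) :
    hG u v * n0 F = n0 F * hG u v := by
  unfold n0
  rw [hG_mul_psi, dcjP_apply, h7, h11, dcj_neg_one_Jm, ← Prod.mk_mul_mk, map_mul, psi_dgM]
  simp [hG_one]

/-- `(h n₀)² = 1` -/
theorem hn0_sq (x y : Fˣ) : (hG x y * n0 F) * (hG x y * n0 F) = 1 := by
  unfold n0
  rw [coords_mul, dcjP_inv_apply, Prod.mk_mul_mk, dcj_Jm_mul, dcj_Jm_mul, psi_dgM, hG_mul, chiU_7, chiU_11,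
    ← hG_one]
  congr 1
  · have hx : (x : F) ≠ 0 := x.ne_zero
    have hy : (y : F) ≠ 0 := y.ne_zero
    apply Units.ext
    push_cast
    field_simp
  · have hy : (y : F) ≠ 0 := y.ne_zero
    apply Units.ext
    push_cast
    field_simp

theorem hn0_ne_one (x y : Fˣ) : hG x y * n0 F ≠ 1 := by
  intro h
  have hmem : n0 F ∈ chevG2.diagonalSubgroup F := by
    have : n0 F = (hG x y)⁻¹ := eq_inv_of_mul_eq_one_right h
    rw [this]
    exact inv_mem (hG_mem_diag _ _)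
  have := (psi_mem_diag _ _ hmem).1.1
  simp [Jm] at this

/-- the split case for `L₂` -/
theorem nn1 (h2 : (2 : F) ≠ 0) (x y : Fˣ) (hk : IsSquare (-(y : F))) :
    ConjG chevG2 F (hG x y * n0 F) (zG F) := by
  apply conjG_zG_of_split h2 x y (Jm F) (Jm F) (hn0_sq x y) (hn0_ne_one x y)
  intro b hb
  rw [dcj_Jm_mul, chiU_11] at hb
  have e := congrArg (fun M : SL2 => M.1 0 0) hb
  simp at e
  obtain ⟨f, hf⟩ := hk
  have hy : (y : F) ≠ 0 := y.ne_zero
  refine ⟨f / y, ?_⟩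
  rw [← e]
  field_simp
  linear_combination hf

end Cfsg.Agent.Lib.H29.G2Inv
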