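import Mathlib
import Cfsg.Prelude.Def_ChevStructure
import Cfsg.Agent.Lib.H29.G2InvI

/-!
# `G₂(F)`, characteristic not two: the involutions `h n₀` that are split with respect to another involution of `H`
-/

set_option autoImplicit false
set_option linter.unusedSectionVars false
set_option linter.unusedSimpArgs false
set_option linter.unusedVariables false

namespace Cfsg.Agent.Lib.H29.G2Inv

open Cfsg.Lie Matrix Cfsg.Agent.Lib.H29.Chev Cfsg.Agent.Lib.H12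

variable {F : Type*} [Field F]

local notation "xg" => cert12_G2.c6.c2.xA
local notation "SL2" => Matrix.SpecialLinearGroup (Fin 2) F

theorem nG_conj_tab (p s s' : ℕ) (ε : ℤ) (hp : p < 12) (hs : s < 12)
    (h : fdG2.chkConj fxG2 p s = true ∧ fdG2.nw fxG2 p s = s' ∧ fdG2.neta fxG2 p s = ε) (u : F) :
    phi p (Jm F) * xg s u * (phi p (Jm F))⁻¹ = xg s' ((ε : F) * u) := by
  have hn := g2_n
  rw [phi_Jm p hp]
  obtain ⟨h1, h2, h3⟩ := h
  rw [cert12_G2.c6.c2.nG_conj_x p s (by omega) (by omega) h1, h2, h3]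

theorem nG_inv_conj_tab (p s s' : ℕ) (ε : ℤ) (hp : p < 12) (hs : s < 12)
    (h : fdG2.chkConj fxG2 p s = true ∧ fdG2.nw fxG2 p s = s' ∧ fdG2.neta fxG2 p s = ε) (hε : ε * ε = 1) (w : F) :
    (phi p (Jm F))⁻¹ * xg s' w * phi p (Jm F) = xg s ((ε : F) * w) := by
  have key := nG_conj_tab p s s' ε hp hs h ((ε : F) * w)
  have e : (ε : F) * ((ε : F) * w) = w := by
    rw [← mul_assoc, ← Int.cast_mul, hε, Int.cast_one, one_mul]
  rw [e] at key
  rw [← key]; group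

theorem g2_tab_nn3 : (fdG2.chkConj fxG2 6 0 = true ∧ fdG2.nw fxG2 6 0 = 1 ∧ fdG2.neta fxG2 6 0 = -1) ∧
    (fdG2.chkConj fxG2 11 1 = true ∧ fdG2.nw fxG2 11 1 = 6 ∧ fdG2.neta fxG2 11 1 = 1) ∧
    (fdG2.chkConj fxG2 7 6 = true ∧ fdG2.nw fxG2 7 6 = 10 ∧ fdG2.neta fxG2 7 6 = 1) ∧
    (fdG2.chkConj fxG2 6 11 = true ∧ fdG2.nw fxG2 6 11 = 10 ∧ fdG2.neta fxG2 6 11 = -1) := by
  decide +kernel

/-- the action of `h n₀` on the root subgroup of `-(3a+b)` -/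
theorem hn0_conj_x1 (x y : Fˣ) (v : F) :
    (hG x y * n0 F) * xg 1 v * (hG x y * n0 F)⁻¹ = xg 10 ((chiU x y 10 : F) * v) := by
  obtain ⟨t1, t2, t3, t4⟩ := g2_tab_nn3
  unfold n0
  rw [psi_apply]
  have e : hG x y * (phi 7 (Jm F) * phi 11 (Jm F)) * xg 1 v * (hG x y * (phi 7 (Jm F) * phi 11 (Jm F)))⁻¹ =
      hG x y * (phi 7 (Jm F) * (phi 11 (Jm F) * xg 1 v * (phi 11 (Jm F))⁻¹) * (phi 7 (Jm F))⁻¹) * (hG x y)⁻¹ := by
    group
  rw [e, nG_conj_tab 11 1 6 1 (by norm_num) (by norm_num) t2, nG_conj_tab 7 6 10 1 (by norm_num) (by norm_num) t3,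
    hG_conj' x y 10 (by norm_num)]
  congr 1
  push_cast
  ring

/-- the second split case: `χ_{3a+b}(h)` is a square -/
theorem nn3 (h2 : (2 : F) ≠ 0) (x y : Fˣ) (hk : IsSquare ((chiU x y 10 : Fˣ) : F)) :
    ConjG chevG2 F (hG x y * n0 F) (zG F) := by
  obtain ⟨t1, t2, t3, t4⟩ := g2_tab_nn3
  have hz3 : zG F = (phi 6 (Jm F))⁻¹ * hG (-1 : Fˣ) (-1) * phi 6 (Jm F) := by
    rw [← zG_fusion1]; group
  set c := hG x y * n0 F with hc
  set nb := phi 6 (Jm F) with hnb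
  have hnbG : nb ∈ chevG2.group F := phi_mem_group 6 (by norm_num) _
  have hcG : c ∈ chevG2.group F :=
    mul_mem (cert12_G2.c6.c2.diag_le_group (hG_mem_diag x y)) (psi_mem_group _)
  -- `c` commutes with `z₃`
  have h7 : chiU (-1 : Fˣ) (-1) 7 = -1 := by rw [chiU_7]; simp
  have h11 : chiU (-1 : Fˣ) (-1) 11 = -1 := by rw [chiU_11]
  have hcz3 : hG (-1 : Fˣ) (-1) * c = c * hG (-1 : Fˣ) (-1) := by
    rw [hc, ← mul_assoc, hG_mul, mul_assoc, ← hG_comm_n0 _ _ h7 h11, ← mul_assoc, hG_mul, mul_comm x, mul_comm y]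
  set c3 := nb⁻¹ * c * nb with hc3
  have hc3G : c3 ∈ chevG2.group F := mul_mem (mul_mem (inv_mem hnbG) hcG) hnbG
  have hc3z : zG F * c3 = c3 * zG F := by
    rw [hz3, hc3]
    calc nb⁻¹ * hG (-1 : Fˣ) (-1) * nb * (nb⁻¹ * c * nb) = nb⁻¹ * (hG (-1 : Fˣ) (-1) * c) * nb := by group
      _ = nb⁻¹ * c * nb * (nb⁻¹ * hG (-1 : Fˣ) (-1) * nb) := by rw [hcz3]; group
  obtain ⟨x3, y3, ⟨A3, B3⟩, e3⟩ := cent_zG_coords h2 c3 hc3G hc3z
  have hsq3 : c3 * c3 = 1 := by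
    have := conj_sq_one nb⁻¹ c (hn0_sq x y)
    rwa [inv_inv] at this
  have hne3 : c3 ≠ 1 := by
    have := conj_ne_one nb⁻¹ c (hn0_ne_one x y)
    rwa [inv_inv] at this
  -- the action of `c3` on the root subgroup of `-(3a+2b)`
  have hkap : ∀ u : F, c3 * xg 0 u * c3⁻¹ = xg 11 ((chiU x y 10 : F) * u) := by
    intro u
    have e : c3 * xg 0 u * c3⁻¹ = nb⁻¹ * (c * (nb * xg 0 u * nb⁻¹) * c⁻¹) * nb := by
      rw [hc3]; group
    rw [e, nG_conj_tab 6 0 1 (-1) (by norm_num) (by norm_num) t1, hn0_conj_x1,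
      nG_inv_conj_tab 6 11 10 (-1) (by norm_num) (by norm_num) t4 (by norm_num)]
    congr 1
    push_cast
    ring
  -- in coordinates
  have hkap2 : ∀ u : F, B3 * StPresG.loM u = StPresG.upM (((chiU x3 y3 11)⁻¹ : Fˣ) * ((chiU x y 10 : F) * u)) * B3 := by
    intro u
    have e1 : c3 * phi 11 (StPresG.loM u) * c3⁻¹ =
        phi 11 (dcj (chiU x3 y3 11) (B3 * StPresG.loM u * B3⁻¹)) := by
      rw [e3, ← hG_conj_phi x3 y3 11 (by norm_num), ← psi_conj_phi11 A3 B3]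
      group
    rw [phi_lo 11 (by norm_num), hkap u, ← phi_up 11 (by norm_num)] at e1
    have e2 := phi11_inj e1
    have e4 : B3 * StPresG.loM u * B3⁻¹ = dcj (chiU x3 y3 11)⁻¹ (StPresG.upM ((chiU x y 10 : F) * u)) := by
      rw [e2, dcj_inv_dcj]
    rw [dcj_upM] at e4
    rw [← e4]; group
  apply (show ConjG chevG2 F c c3 from ⟨nb⁻¹, inv_mem hnbG, by rw [hc3, inv_inv]⟩).trans
  rw [e3] at hsq3 hne3 ⊢
  apply conjG_zG_of_split h2 x3 y3 A3 B3 hsq3 hne3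
  intro b hb
  obtain ⟨e00, e01, e10, e11⟩ := dcj_sq_entries _ _ _ hb
  have k := hkap2 1
  have k10 := congrArg (fun M : SL2 => M.1 1 0) k
  have k00 := congrArg (fun M : SL2 => M.1 0 0) k
  simp [Matrix.SpecialLinearGroup.coe_mul, Matrix.mul_apply, Fin.sum_univ_two] at k10 k00
  obtain ⟨f, hf⟩ := hk
  have hμ : ((chiU x3 y3 11 : Fˣ) : F) ≠ 0 := Units.ne_zero _
  have hb0 : (b : F) ≠ 0 := b.ne_zero
  have key : (b : F)⁻¹ = (f * B3.1 1 0) ^ 2 := by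
    rw [← e11, k10, k00, hf]
    field_simp
    ring
  have hfb : f * B3.1 1 0 ≠ 0 := by
    intro h0
    rw [h0] at key
    simp at key
  refine ⟨(f * B3.1 1 0)⁻¹, ?_⟩
  have : (b : F) = ((b : F)⁻¹)⁻¹ := (inv_inv _).symm
  rw [this, key]
  field_simp

end Cfsg.Agent.Lib.H29.G2Inv
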