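import Mathlib
import Cfsg.Prelude.Def_ChevStructure
import Cfsg.Agent.Lib.H29.G2InvJ

/-!
# `G₂(F)`, `F` finite of odd order: the involutions `h n₀` are conjugate to `z`
-/

set_option autoImplicit false
set_option linter.unusedSectionVars false
set_option linter.unusedSimpArgs false
set_option linter.unusedVariables false

namespace Cfsg.Agent.Lib.H29.G2Inv

open Cfsg.Lie Matrix Cfsg.Agent.Lib.H29.Chev Cfsg.Agent.Lib.H12

variable {F : Type*} [Field F]

local notation "xg" => cert12_G2.c6.c2.xA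
local notation "SL2" => Matrix.SpecialLinearGroup (Fin 2) F

theorem dgM_one : StPresG.dgM (((1 : Fˣ) : Fˣ) : F) (Units.ne_zero _) = 1 := by
  apply StPresG.sl2_ext <;> simp

theorem psi_dgM_left (a : Fˣ) : psi F (StPresG.dgM (a : F) a.ne_zero, 1) = hG a 1 := by
  rw [← dgM_one, psi_dgM]
  simp

theorem wM_eq_dgM_mul (q : Fˣ) : StPresG.wM (q : F) q.ne_zero = StPresG.dgM (q : F) q.ne_zero * Jm F := by
  unfold Jm
  apply StPresG.sl2_ext <;>
    simp [Matrix.SpecialLinearGroup.coe_mul, Matrix.mul_apply, Fin.sum_univ_two]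

theorem dcj_inv_Jm (d : Fˣ) : dcj d⁻¹ (Jm F) = StPresG.dgM (((d⁻¹ : Fˣ) : Fˣ) : F) (Units.ne_zero _) * Jm F := by
  unfold Jm
  apply StPresG.sl2_ext <;>
    simp [Matrix.SpecialLinearGroup.coe_mul, Matrix.mul_apply, Fin.sum_univ_two]

/-- conjugation by `n_a` -/
theorem hn0_conj_n7 (x y : Fˣ) :
    psi F (Jm F, 1) * (hG x y * n0 F) * (psi F (Jm F, 1))⁻¹ = hG (x * (chiU x y 7)⁻¹) y * n0 F := by
  unfold n0
  rw [coords_conj, dcjP_inv_apply, Prod.inv_mk, Prod.mk_mul_mk, Prod.mk_mul_mk, map_one, inv_one, mul_one, one_mul,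
    mul_inv_cancel_right, dcj_inv_Jm]
  have : ((StPresG.dgM (((chiU x y 7)⁻¹ : Fˣ) : F) (Units.ne_zero _) * Jm F, Jm F) : SL2 × SL2) =
      (StPresG.dgM (((chiU x y 7)⁻¹ : Fˣ) : F) (Units.ne_zero _), 1) * (Jm F, Jm F) := by
    rw [Prod.mk_mul_mk, one_mul]
  rw [this, map_mul, psi_dgM_left, ← mul_assoc, hG_mul, mul_one]

theorem chiU_conj_n7 (x y : Fˣ) : chiU (x * (chiU x y 7)⁻¹) y 10 = chiU x y 6 := by
  have hx : (x : F) ≠ 0 := x.ne_zero
  have hy : (y : F) ≠ 0 := y.ne_zero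
  rw [chiU_7]
  unfold chiU
  apply Units.ext
  simp [zpow_ofNat, _root_.zpow_neg]
  field_simp

/-- the third split case: `χ_b(h)` is a square -/
theorem nn2 (h2 : (2 : F) ≠ 0) (x y : Fˣ) (hk : IsSquare ((chiU x y 6 : Fˣ) : F)) :
    ConjG chevG2 F (hG x y * n0 F) (zG F) := by
  apply (conjG_psi _ _ _ (hn0_conj_n7 x y)).trans
  apply nn3 h2
  rw [chiU_conj_n7]
  exact hk

/-- `h n₀` is conjugate to `h z n₀` -/
theorem nnd [Fintype F] (hodd : Fintype.card F % 2 = 1) (x y : Fˣ) :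
    ConjG chevG2 F (hG x y * n0 F) (hG (-x) y * n0 F) := by
  classical
  set lam : F := ((chiU x y 7 : Fˣ) : F) with hlam
  have hl0 : lam ≠ 0 := Units.ne_zero _
  -- a solution of `p² + λ r² = -1`
  obtain ⟨p, r, hpr⟩ := FiniteField.exists_root_sum_quadratic (R := F)
    (f := Polynomial.X ^ 2) (g := Polynomial.C lam * Polynomial.X ^ 2 + Polynomial.C 0 * Polynomial.X + Polynomial.C 1)
    (Polynomial.degree_X_pow 2) (Polynomial.degree_quadratic hl0) hodd
  simp only [Polynomial.eval_pow, Polynomial.eval_X, Polynomial.eval_add, Polynomial.eval_mul, Polynomial.eval_C,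
    zero_mul, add_zero] at hpr
  let Y : SL2 := mk2 p (lam * r) r (-p) (by linear_combination -hpr)
  have hY : dcj (chiU x y 7)⁻¹ Y * Jm F * Y⁻¹ =
      StPresG.dgM (((-1 : Fˣ) : Fˣ) : F) (Units.ne_zero _) * Jm F := by
    rw [mul_inv_eq_iff_eq_mul]
    unfold Jm
    apply StPresG.sl2_ext <;>
      simp [Y, Matrix.SpecialLinearGroup.coe_mul, Matrix.mul_apply, Fin.sum_univ_two, ← hlam, hl0]
  have key : psi F (Y, 1) * (hG x y * n0 F) * (psi F (Y, 1))⁻¹ = hG (-x) y * n0 F := by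
    unfold n0
    rw [coords_conj, dcjP_inv_apply, Prod.inv_mk, Prod.mk_mul_mk, Prod.mk_mul_mk, map_one, inv_one, mul_one, one_mul,
      hY]
    have : ((StPresG.dgM (((-1 : Fˣ) : Fˣ) : F) (Units.ne_zero _) * Jm F, Jm F) : SL2 × SL2) =
        (StPresG.dgM (((-1 : Fˣ) : Fˣ) : F) (Units.ne_zero _), 1) * (Jm F, Jm F) := by
      rw [Prod.mk_mul_mk, one_mul]
    rw [this, map_mul, psi_dgM_left, ← mul_assoc, hG_mul, mul_one, mul_neg, mul_one]
  exact conjG_psi _ _ _ key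

theorem isSquare_mul_of_not [Fintype F] {a b : F} (ha : ¬ IsSquare a) (hb : ¬ IsSquare b) : IsSquare (a * b) := by
  classical
  have ha0 : a ≠ 0 := by rintro rfl; exact ha (IsSquare.zero)
  have hb0 : b ≠ 0 := by rintro rfl; exact hb (IsSquare.zero)
  rw [← quadraticChar_one_iff_isSquare (mul_ne_zero ha0 hb0), map_mul,
    quadraticChar_neg_one_iff_not_isSquare.mpr ha, quadraticChar_neg_one_iff_not_isSquare.mpr hb]
  norm_num

/-- **the involutions `h n₀` are conjugate to `z`** -/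
theorem nn [Fintype F] (hodd : Fintype.card F % 2 = 1) (h2 : (2 : F) ≠ 0) (x y : Fˣ) :
    ConjG chevG2 F (hG x y * n0 F) (zG F) := by
  have hx : (x : F) ≠ 0 := x.ne_zero
  have hy : (y : F) ≠ 0 := y.ne_zero
  by_cases h1 : IsSquare (-(y : F))
  · exact nn1 h2 x y h1
  by_cases h3 : IsSquare ((chiU x y 10 : Fˣ) : F)
  · exact nn3 h2 x y h3
  by_cases h6 : IsSquare ((chiU x y 6 : Fˣ) : F)
  · exact nn2 h2 x y h6
  -- all three are non-squares: then `-1` is not a square, and `h z n₀` is in the second case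
  have e10 : ((chiU x y 10 : Fˣ) : F) = (x : F) ^ 3 * (y : F)⁻¹ := by
    unfold chiU
    simp [zpow_ofNat, _root_.zpow_neg]
  have e6 : ((chiU x y 6 : Fˣ) : F) = ((x : F) ^ 3)⁻¹ * (y : F) ^ 2 := by
    unfold chiU
    simp [zpow_ofNat, _root_.zpow_neg]
  have hysq : IsSquare (y : F) := by
    have := isSquare_mul_of_not h3 h6
    rw [e10, e6] at this
    have e : (x : F) ^ 3 * (y : F)⁻¹ * (((x : F) ^ 3)⁻¹ * (y : F) ^ 2) = y := by field_simp
    rwa [e] at this
  have hm1 : ¬ IsSquare (-1 : F) := by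
    intro h
    apply h1
    have := h.mul hysq
    rwa [neg_one_mul] at this
  apply (nnd hodd x y).trans
  apply nn3 h2
  have e10' : ((chiU (-x) y 10 : Fˣ) : F) = (-1) * ((chiU x y 10 : Fˣ) : F) := by
    rw [e10]
    unfold chiU
    simp [zpow_ofNat, _root_.zpow_neg]
    ring
  rw [e10']
  exact isSquare_mul_of_not hm1 h3

end Cfsg.Agent.Lib.H29.G2Inv
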