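import Mathlib
import Cfsg.Prelude.Def_ChevStructure
import Cfsg.Agent.Lib.H29.G2InvK

/-!
# `G₂(F)`, `F` finite of odd order: all involutions are conjugate
-/

set_option autoImplicit false
set_option linter.unusedSectionVars false
set_option linter.unusedSimpArgs false
set_option linter.unusedVariables false

namespace Cfsg.Agent.Lib.H29.G2Inv

open Cfsg.Lie Matrix Cfsg.Agent.Lib.H29.Chev Cfsg.Agent.Lib.H12

variable {F : Type*} [Field F]

local notation "xg" => cert12_G2.c6.c2.xA
local notation "SL2" => Matrix.SpecialLinearGroup (Fin 2) F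

/-- a matrix with trace-like relation and non-zero lower left entry is conjugate to a monomial matrix -/
theorem anti (d : Fˣ) (A : SL2) (h10 : A.1 1 0 ≠ 0) (h11 : A.1 1 1 = -((d : F) * A.1 0 0)) :
    ∃ (t : F) (q : Fˣ), dcj d⁻¹ (StPresG.upM t) * A * (StPresG.upM t)⁻¹ = StPresG.wM (q : F) q.ne_zero := by
  have hd : (d : F) ≠ 0 := d.ne_zero
  have hdet := sl2_det A
  have hq : -(A.1 1 0)⁻¹ ≠ 0 := neg_ne_zero.mpr (inv_ne_zero h10)
  refine ⟨-((d : F) * A.1 0 0) / A.1 1 0, Units.mk0 _ hq, ?_⟩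
  rw [mul_inv_eq_iff_eq_mul, dcj_upM]
  apply StPresG.sl2_ext
  · simp [Matrix.SpecialLinearGroup.coe_mul, Matrix.mul_apply, Fin.sum_univ_two]
    field_simp
    ring
  · simp [Matrix.SpecialLinearGroup.coe_mul, Matrix.mul_apply, Fin.sum_univ_two]
    rw [h11]
    field_simp
    rw [h11] at hdet
    linear_combination (-1 : F) * hdet
  · simp [Matrix.SpecialLinearGroup.coe_mul, Matrix.mul_apply, Fin.sum_univ_two]
  · simp [Matrix.SpecialLinearGroup.coe_mul, Matrix.mul_apply, Fin.sum_univ_two]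
    rw [h11]
    field_simp

/-- **every involution of `C(z)` is conjugate to `z`** -/
theorem conjG_zG_of_cent [Fintype F] (hodd : Fintype.card F % 2 = 1) (h2 : (2 : F) ≠ 0)
    (c : GL chevG2.Idx F) (hcG : c ∈ chevG2.group F) (hcz : zG F * c = c * zG F) (hsq : c * c = 1) (hne : c ≠ 1) :
    ConjG chevG2 F c (zG F) := by
  obtain ⟨x, y, ⟨A, B⟩, rfl⟩ := cent_zG_coords h2 c hcG hcz
  obtain ⟨a, b, ha, hb, e1, e2⟩ := coords_sq x y A B hsq
  have ha0 : (a : F) ≠ 0 := a.ne_zero
  have hb0 : (b : F) ≠ 0 := b.ne_zero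
  have hx0 : (x : F) ≠ 0 := x.ne_zero
  by_cases hbs : IsSquare (b : F)
  · apply conjG_zG_of_split h2 x y A B hsq hne
    intro b' hb'
    rw [hb] at hb'
    have := congrArg (fun M : SL2 => M.1 0 0) hb'
    simp at this
    rw [← this]
    exact hbs
  · have e1' : (x : F) ^ 2 * (a : F) * (b : F) = 1 := by
      have := congrArg (fun u : Fˣ => (u : F)) e1
      simpa using this
    have has : ¬ IsSquare (a : F) := by
      rintro ⟨f, hf⟩
      apply hbs
      have hf0 : f ≠ 0 := by
        intro h0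
        rw [h0, mul_zero] at hf
        exact ha0 hf
      refine ⟨((x : F) * f)⁻¹, ?_⟩
      rw [hf] at e1'
      field_simp
      linear_combination e1'
    obtain ⟨a00, a01, a10, a11⟩ := dcj_sq_entries _ _ _ ha
    obtain ⟨b00, b01, b10, b11⟩ := dcj_sq_entries _ _ _ hb
    have hA10 : A.1 1 0 ≠ 0 := by
      intro h0
      apply has
      rw [h0, mul_zero, zero_mul, zero_add] at a11
      refine ⟨(A.1 1 1)⁻¹, ?_⟩
      have : (a : F) = ((a : F)⁻¹)⁻¹ := (inv_inv _).symm
      rw [this, ← a11]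
      have : A.1 1 1 ≠ 0 := by
        intro h
        rw [h] at a11
        simp at a11
        exact ha0 a11.symm
      field_simp
    have hB10 : B.1 1 0 ≠ 0 := by
      intro h0
      apply hbs
      rw [h0, mul_zero, zero_mul, zero_add] at b11
      refine ⟨(B.1 1 1)⁻¹, ?_⟩
      have : (b : F) = ((b : F)⁻¹)⁻¹ := (inv_inv _).symm
      rw [this, ← b11]
      have : B.1 1 1 ≠ 0 := by
        intro h
        rw [h] at b11
        simp at b11
        exact hb0 b11.symm
      field_simp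
    have hA11 : A.1 1 1 = -(((chiU x y 7 : Fˣ) : F) * A.1 0 0) := by
      have : A.1 1 0 * (((chiU x y 7 : Fˣ) : F) * A.1 0 0 + A.1 1 1) = 0 := by linear_combination a10
      rcases mul_eq_zero.mp this with h | h
      · exact absurd h hA10
      · linear_combination h
    have hB11 : B.1 1 1 = -(((chiU x y 11 : Fˣ) : F) * B.1 0 0) := by
      have : B.1 1 0 * (((chiU x y 11 : Fˣ) : F) * B.1 0 0 + B.1 1 1) = 0 := by linear_combination b10
      rcases mul_eq_zero.mp this with h | h
      · exact absurd h hB10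
      · linear_combination h
    obtain ⟨t7, q7, E7⟩ := anti (chiU x y 7) A hA10 hA11
    obtain ⟨t11, q11, E11⟩ := anti (chiU x y 11) B hB10 hB11
    have hc := coords_conj x y (A, B) (StPresG.upM t7, StPresG.upM t11)
    rw [dcjP_inv_apply, Prod.inv_mk, Prod.mk_mul_mk, Prod.mk_mul_mk, E7, E11, wM_eq_dgM_mul, wM_eq_dgM_mul] at hc
    have : ((StPresG.dgM (q7 : F) q7.ne_zero * Jm F, StPresG.dgM (q11 : F) q11.ne_zero * Jm F) : SL2 × SL2) =
        (StPresG.dgM (q7 : F) q7.ne_zero, StPresG.dgM (q11 : F) q11.ne_zero) * (Jm F, Jm F) := by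
      rw [Prod.mk_mul_mk]
    rw [this, map_mul, psi_dgM] at hc
    have hmm : ∀ (u v : Fˣ) (g : GL chevG2.Idx F), hG x y * (hG u v * g) = hG (x * u) (y * v) * g := by
      intro u v g
      rw [← mul_assoc, hG_mul]
    rw [hmm] at hc
    exact (conjG_psi _ _ _ hc).trans (nn hodd h2 _ _)

/-- two involutions of a finite group: either a power of their product conjugates one to the other, or a power
of their product is an involution commuting with both -/
theorem dihedral_trick {Γ : Type*} [Group Γ] [Finite Γ] (t z : Γ) (ht : t * t = 1) (hz : z * z = 1) :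
    (∃ k : ℕ, (t * z) ^ k * t * ((t * z) ^ k)⁻¹ = z) ∨
    (∃ k : ℕ, (t * z) ^ k ≠ 1 ∧ (t * z) ^ k * (t * z) ^ k = 1 ∧ (t * z) ^ k * t = t * (t * z) ^ k ∧
      (t * z) ^ k * z = z * (t * z) ^ k) := by
  set d := t * z with hd
  have htd : ∀ k : ℕ, t * d ^ k * t⁻¹ = (d ^ k)⁻¹ := by
    intro k
    have h1 : t * d * t⁻¹ = d⁻¹ := by
      have ti : t⁻¹ = t := inv_eq_of_mul_eq_one_right ht
      have zi : z⁻¹ = z := inv_eq_of_mul_eq_one_right hz
      rw [hd, _root_.mul_inv_rev, ti, zi, ← mul_assoc, ht, one_mul]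
    have : t * d ^ k * t⁻¹ = (t * d * t⁻¹) ^ k := by
      rw [conj_pow]
    rw [this, h1, inv_pow]
  have hzt : z = t * d := by rw [hd, ← mul_assoc, ht, one_mul]
  have ti : t⁻¹ = t := inv_eq_of_mul_eq_one_right ht
  have hn := orderOf_pos d
  rcases Nat.even_or_odd (orderOf d) with ⟨k, hk⟩ | ⟨k, hk⟩
  · right
    refine ⟨k, ?_, ?_, ?_, ?_⟩
    · intro h1
      have := orderOf_dvd_of_pow_eq_one h1
      have := Nat.le_of_dvd (by omega) this
      omega
    · rw [← pow_add, ← hk, pow_orderOf_eq_one]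
    · have h1 := htd k
      have h2 : (d ^ k)⁻¹ = d ^ k := by
        apply inv_eq_of_mul_eq_one_right
        rw [← pow_add, ← hk, pow_orderOf_eq_one]
      rw [h2] at h1
      calc d ^ k * t = (t * d ^ k * t⁻¹) * t := by rw [h1]
        _ = t * d ^ k := by group
    · have h1 := htd k
      have h2 : (d ^ k)⁻¹ = d ^ k := by
        apply inv_eq_of_mul_eq_one_right
        rw [← pow_add, ← hk, pow_orderOf_eq_one]
      rw [h2] at h1
      have h3 : d ^ k * t = t * d ^ k := by
        calc d ^ k * t = (t * d ^ k * t⁻¹) * t := by rw [h1]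
          _ = t * d ^ k := by group
      rw [hzt, ← mul_assoc, h3, mul_assoc, mul_assoc, ← pow_succ, ← pow_succ']
  · left
    refine ⟨k, ?_⟩
    have h1 := htd k
    have h1' : t * (d ^ k)⁻¹ * t⁻¹ = d ^ k := by
      have := congrArg (fun g => g⁻¹) h1
      simp only [_root_.mul_inv_rev, inv_inv] at this
      rw [mul_assoc]; exact this
    have h2 : d ^ k * t = t * (d ^ k)⁻¹ := by
      calc d ^ k * t = (t * (d ^ k)⁻¹ * t⁻¹) * t := by rw [h1']
        _ = t * (d ^ k)⁻¹ := by group
    have h3 : (d ^ k)⁻¹ * (d ^ k)⁻¹ = d := by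
      have h4 : d ^ k * d ^ k * d = 1 := by
        rw [← pow_add, ← pow_succ, ← two_mul, ← hk, pow_orderOf_eq_one]
      have h5 : d = (d ^ k * d ^ k)⁻¹ := eq_inv_of_mul_eq_one_right h4
      rw [_root_.mul_inv_rev] at h5
      exact h5.symm
    rw [h2, mul_assoc, h3, ← hzt]

end Cfsg.Agent.Lib.H29.G2Inv
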