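import Mathlib
import Cfsg.Prelude.Def_ChevStructure
import Cfsg.Agent.Lib.H29.G2InvL

/-!
# `G₂(F)`, `F` finite of odd order: all involutions are conjugate (the theorem)
-/

set_option autoImplicit false
set_option linter.unusedSectionVars false
set_option linter.unusedSimpArgs false
set_option linter.unusedVariables false

namespace Cfsg.Agent.Lib.H29.G2Inv

open Cfsg.Lie Matrix Cfsg.Agent.Lib.H29.Chev Cfsg.Agent.Lib.H12

variable {F : Type*} [Field F]

theorem zG_mem_group : zG F ∈ chevG2.group F := cert12_G2.c6.c2.diag_le_group zG_mem_diag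

theorem two_ne_zero_of_odd [Fintype F] (hF : Odd (Fintype.card F)) : (2 : F) ≠ 0 := by
  intro h
  have : CharP F 2 := CharTwo.of_one_ne_zero_of_two_eq_zero one_ne_zero h
  have h2 : ringChar F = 2 := ringChar.eq F 2
  have := FiniteField.even_card_iff_char_two.mp h2
  rcases hF with ⟨k, hk⟩
  omega

/-- **every involution of `G₂(F)` is conjugate to `z = h_a(-1)`** -/
theorem conjG_zG_of_inv [Fintype F] (hF : Odd (Fintype.card F)) (t : GL chevG2.Idx F) (htG : t ∈ chevG2.group F)
    (ht : t * t = 1) (hne : t ≠ 1) : ConjG chevG2 F t (zG F) := by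
  classical
  have h2 := two_ne_zero_of_odd hF
  have hodd : Fintype.card F % 2 = 1 := Nat.odd_iff.mp hF
  have hfin : Finite (GL chevG2.Idx F) := inferInstance
  have hdG : ∀ k : ℕ, (t * zG F) ^ k ∈ chevG2.group F := fun k => pow_mem (mul_mem htG zG_mem_group) k
  rcases dihedral_trick t (zG F) ht zG_sq with ⟨k, hk⟩ | ⟨k, hk1, hk2, hk3, hk4⟩
  · exact ⟨_, hdG k, hk⟩
  · obtain ⟨g, hg, hge⟩ := conjG_zG_of_cent hodd h2 _ (hdG k) hk4.symm hk2 hk1
    have ht'G : g * t * g⁻¹ ∈ chevG2.group F := mul_mem (mul_mem hg htG) (inv_mem hg)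
    have hcomm : zG F * (g * t * g⁻¹) = (g * t * g⁻¹) * zG F := by
      rw [← hge]
      calc g * (t * zG F) ^ k * g⁻¹ * (g * t * g⁻¹) = g * ((t * zG F) ^ k * t) * g⁻¹ := by group
        _ = g * t * g⁻¹ * (g * (t * zG F) ^ k * g⁻¹) := by rw [hk3]; group
    have h3 := conjG_zG_of_cent hodd h2 _ ht'G hcomm (conj_sq_one g t ht) (conj_ne_one g t hne)
    exact (show ConjG chevG2 F t (g * t * g⁻¹) from ⟨g, hg, rfl⟩).trans h3

end Cfsg.Agent.Lib.H29.G2Inv
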