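import Mathlib
import Cfsg.Prelude.Def_ChevStructure
import Cfsg.Agent.Lib.H29.G2InvM
import Cfsg.Agent.Lib.H12.CardSL

/-!
# `G₂(F)`, characteristic not two: the structure of the centraliser of `z = h_a(-1)`
-/

set_option autoImplicit false
set_option linter.unusedSectionVars false
set_option linter.unusedSimpArgs false
set_option linter.unusedVariables false

namespace Cfsg.Agent.Lib.H29.G2Inv

open Cfsg.Lie Matrix Cfsg.Agent.Lib.H29.Chev Cfsg.Agent.Lib.H12

variable {F : Type*} [Field F]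

local notation "xg" => cert12_G2.c6.c2.xA
local notation "SL2" => Matrix.SpecialLinearGroup (Fin 2) F

/-- the central element `(-1, -1)` of `SL₂ × SL₂` -/
noncomputable def zetaP (F : Type*) [Field F] :
    Matrix.SpecialLinearGroup (Fin 2) F × Matrix.SpecialLinearGroup (Fin 2) F :=
  (StPresG.dgM (((-1 : Fˣ) : Fˣ) : F) (Units.ne_zero _), StPresG.dgM (((-1 : Fˣ) : Fˣ) : F) (Units.ne_zero _))

theorem zG_eq_phi7 : zG F = phi 7 (StPresG.dgM (((-1 : Fˣ) : Fˣ) : F) (Units.ne_zero _)) := by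
  rw [phi7_dgM]; rfl

theorem zG_eq_phi11 : zG F = phi 11 (StPresG.dgM (((-1 : Fˣ) : Fˣ) : F) (Units.ne_zero _)) := by
  rw [phi11_dgM]
  unfold zG
  congr 1
  simp

theorem psi_zetaP : psi F (zetaP F) = 1 := by
  unfold zetaP
  rw [psi_dgM]
  simp [hG_one]

theorem zetaP_sq : zetaP F * zetaP F = 1 := by
  unfold zetaP
  rw [Prod.mk_mul_mk]
  have : StPresG.dgM (((-1 : Fˣ) : Fˣ) : F) (Units.ne_zero _) * StPresG.dgM (((-1 : Fˣ) : Fˣ) : F) (Units.ne_zero _)
      = 1 := by
    apply StPresG.sl2_ext <;>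
      simp [Matrix.SpecialLinearGroup.coe_mul, Matrix.mul_apply, Fin.sum_univ_two]
  rw [this]
  rfl

theorem zetaP_ne_one (h2 : (2 : F) ≠ 0) : zetaP F ≠ 1 := by
  intro h
  have := congrArg (fun P : SL2 × SL2 => P.1.1 0 0) h
  simp [zetaP] at this
  apply h2
  linear_combination -this

/-- the kernel of `SL₂ × SL₂ → L₁ L₂` -/
theorem psi_eq_one_iff (P : SL2 × SL2) : psi F P = 1 ↔ P = 1 ∨ P = zetaP F := by
  constructor
  · intro h
    rcases P with ⟨A, B⟩
    have hmem : psi F (A, B) ∈ chevG2.diagonalSubgroup F := by rw [h]; exact one_mem _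
    obtain ⟨hA, hB⟩ := psi_mem_diag A B hmem
    obtain ⟨a, rfl⟩ := eq_dgM_of_diag A hA
    obtain ⟨b, rfl⟩ := eq_dgM_of_diag B hB
    rw [psi_dgM, ← hG_one] at h
    obtain ⟨e1, e2⟩ := hG_inj _ _ _ _ h
    rcases unit_sq_eq_one b e2 with rfl | rfl
    · left
      rw [mul_one] at e1
      rw [e1, dgM_one]
      rfl
    · right
      have : a = -1 := by
        have := congrArg (fun u => u * (-1 : Fˣ)) e1
        simpa using this
      rw [this]
      rfl
  · rintro (rfl | rfl)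
    · exact map_one _
    · exact psi_zetaP

theorem chiU_zG : chiU (-1 : Fˣ) 1 7 = 1 ∧ chiU (-1 : Fˣ) 1 11 = 1 := by
  rw [chiU_7, chiU_11]
  simp

theorem dcj_one (X : SL2) : dcj (1 : Fˣ) X = X := by
  apply StPresG.sl2_ext <;> simp

theorem zG_comm_psi (P : SL2 × SL2) : zG F * psi F P = psi F P * zG F := by
  rcases P with ⟨A, B⟩
  unfold zG
  rw [hG_mul_psi, dcjP_apply, chiU_zG.1, chiU_zG.2, dcj_one, dcj_one]

theorem zG_comm_hG (x y : Fˣ) : zG F * hG x y = hG x y * zG F := by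
  unfold zG
  rw [hG_mul, hG_mul, mul_comm x, mul_comm y]

theorem zG_comm_coords (x y : Fˣ) (P : SL2 × SL2) : zG F * (hG x y * psi F P) = hG x y * psi F P * zG F := by
  rw [← mul_assoc, zG_comm_hG, mul_assoc, zG_comm_psi, mul_assoc]

/-- an element of `H L₁ L₂` lies in `L₁ L₂` iff its character value at `3a+2b` is a square -/
theorem coords_mem_range_iff (x y : Fˣ) (P : SL2 × SL2) :
    hG x y * psi F P ∈ (psi F).range ↔ IsSquare (y : F) := by
  have hP : psi F P ∈ (psi F).range := ⟨P, rfl⟩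
  constructor
  · intro h
    have h1 : hG x y ∈ (psi F).range := by
      have := mul_mem h (inv_mem hP)
      rwa [mul_inv_cancel_right] at this
    obtain ⟨⟨A, B⟩, hAB⟩ := h1
    have hmem : psi F (A, B) ∈ chevG2.diagonalSubgroup F := by rw [hAB]; exact hG_mem_diag _ _
    obtain ⟨hA, hB⟩ := psi_mem_diag A B hmem
    obtain ⟨a, rfl⟩ := eq_dgM_of_diag A hA
    obtain ⟨b, rfl⟩ := eq_dgM_of_diag B hB
    rw [psi_dgM] at hAB
    obtain ⟨e1, e2⟩ := hG_inj _ _ _ _ hAB
    rw [← e2]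
    exact ⟨b, by push_cast; ring⟩
  · rintro ⟨f, hf⟩
    have hf0 : f ≠ 0 := by
      intro h0
      rw [h0, mul_zero] at hf
      exact y.ne_zero hf
    have e : hG x y = psi F (StPresG.dgM ((x * (Units.mk0 f hf0)⁻¹ : Fˣ) : F) (Units.ne_zero _),
        StPresG.dgM ((Units.mk0 f hf0 : Fˣ) : F) (Units.ne_zero _)) := by
      rw [psi_dgM]
      congr 1
      · simp
      · apply Units.ext
        simp [hf, pow_two]
    rw [e]
    exact mul_mem ⟨_, rfl⟩ hP

end Cfsg.Agent.Lib.H29.G2Inv
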