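import Mathlib
import Cfsg.Prelude.Def_ChevStructure
import Cfsg.Agent.Lib.H29.G2InvN

/-!
# `G₂(F)`, `F` finite of odd order: the centraliser of the involution `z = h_a(-1)`
-/

set_option autoImplicit false
set_option linter.unusedSectionVars false
set_option linter.unusedSimpArgs false
set_option linter.unusedVariables false

namespace Cfsg.Agent.Lib.H29.G2Inv

open Cfsg.Lie Matrix Cfsg.Agent.Lib.H29.Chev Cfsg.Agent.Lib.H12

variable {F : Type*} [Field F]

local notation "SL2" => Matrix.SpecialLinearGroup (Fin 2) F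

/-- `SL₂ × SL₂ → G` -/
noncomputable def psiS (F : Type*) [Field F] :
    Matrix.SpecialLinearGroup (Fin 2) F × Matrix.SpecialLinearGroup (Fin 2) F →* ↥(chevG2.group F) :=
  (psi F).codRestrict (chevG2.group F) psi_mem_group

/-- `SL₂ → G` -/
noncomputable def phiS (F : Type*) [Field F] (r : ℕ) (hr : r < 12) :
    Matrix.SpecialLinearGroup (Fin 2) F →* ↥(chevG2.group F) :=
  (phi r).codRestrict (chevG2.group F) (phi_mem_group r hr)

/-- the involution `z` of `G` -/
noncomputable def zS (F : Type*) [Field F] : ↥(chevG2.group F) := ⟨zG F, zG_mem_group⟩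

theorem psiS_val (P : SL2 × SL2) : ((psiS F P : ↥(chevG2.group F)) : GL chevG2.Idx F) = psi F P := rfl

theorem phiS_val (r : ℕ) (hr : r < 12) (X : SL2) :
    ((phiS F r hr X : ↥(chevG2.group F)) : GL chevG2.Idx F) = phi r X := rfl

theorem mem_cent_zS (g : ↥(chevG2.group F)) :
    g ∈ Subgroup.centralizer ({zS F} : Set ↥(chevG2.group F)) ↔ zG F * (g : GL chevG2.Idx F) = g * zG F := by
  rw [Subgroup.mem_centralizer_iff]
  constructor
  · intro h
    have := h (zS F) (Set.mem_singleton _)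
    exact congrArg Subtype.val this
  · intro h k hk
    rw [Set.mem_singleton_iff] at hk
    subst hk
    exact Subtype.ext h

theorem sup_eq_range : (phiS F 7 (by norm_num)).range ⊔ (phiS F 11 (by norm_num)).range = (psiS F).range := by
  apply le_antisymm
  · apply sup_le
    · rintro _ ⟨X, rfl⟩
      exact ⟨(X, 1), Subtype.ext (by rw [psiS_val, phiS_val, psi_apply, map_one, mul_one])⟩
    · rintro _ ⟨X, rfl⟩
      exact ⟨(1, X), Subtype.ext (by rw [psiS_val, phiS_val, psi_apply, map_one, one_mul])⟩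
  · rintro _ ⟨⟨A, B⟩, rfl⟩
    have : psiS F (A, B) = phiS F 7 (by norm_num) A * phiS F 11 (by norm_num) B := Subtype.ext (psi_apply A B)
    rw [this]
    exact mul_mem (Subgroup.mem_sup_left ⟨A, rfl⟩) (Subgroup.mem_sup_right ⟨B, rfl⟩)

theorem mem_range_psiS (g : ↥(chevG2.group F)) : g ∈ (psiS F).range ↔ (g : GL chevG2.Idx F) ∈ (psi F).range := by
  constructor
  · rintro ⟨P, rfl⟩
    exact ⟨P, rfl⟩
  · rintro ⟨P, hP⟩
    exact ⟨P, Subtype.ext hP⟩

theorem inf_eq_zpowers : (phiS F 7 (by norm_num)).range ⊓ (phiS F 11 (by norm_num)).range = Subgroup.zpowers (zS F) := by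
  apply le_antisymm
  · rintro g ⟨⟨X, hX⟩, ⟨Y, hY⟩⟩
    have h1 : phi 7 X = (g : GL chevG2.Idx F) := congrArg Subtype.val hX
    have h2 : phi 11 Y = (g : GL chevG2.Idx F) := congrArg Subtype.val hY
    have h3 : psi F (X, Y⁻¹) = 1 := by
      rw [psi_apply, map_inv, h1, h2, mul_inv_cancel]
    rcases (psi_eq_one_iff _).mp h3 with h | h
    · have hX1 : X = 1 := congrArg Prod.fst h
      have : g = 1 := Subtype.ext (by rw [← h1, hX1, map_one]; rfl)
      rw [this]
      exact one_mem _
    · have hX1 : X = StPresG.dgM (((-1 : Fˣ) : Fˣ) : F) (Units.ne_zero _) := congrArg Prod.fst h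
      have : g = zS F := Subtype.ext (by rw [← h1, hX1, ← zG_eq_phi7]; rfl)
      rw [this]
      exact Subgroup.mem_zpowers _
  · rw [Subgroup.zpowers_le]
    exact ⟨⟨_, Subtype.ext zG_eq_phi7.symm⟩, ⟨_, Subtype.ext zG_eq_phi11.symm⟩⟩

theorem ker_psiS : (psiS F).ker = Subgroup.zpowers (zetaP F) := by
  apply le_antisymm
  · intro P hP
    rw [MonoidHom.mem_ker] at hP
    have : psi F P = 1 := congrArg Subtype.val hP
    rcases (psi_eq_one_iff P).mp this with rfl | rfl
    · exact one_mem _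
    · exact Subgroup.mem_zpowers _
  · rw [Subgroup.zpowers_le, MonoidHom.mem_ker]
    exact Subtype.ext psi_zetaP

theorem card_range_psiS [Fintype F] (h2 : (2 : F) ≠ 0) :
    2 * Nat.card (psiS F).range = (Fintype.card F * (Fintype.card F ^ 2 - 1)) ^ 2 := by
  have h1 := Subgroup.card_mul_index (psiS F).ker
  rw [Subgroup.index_ker, ker_psiS, Nat.card_zpowers,
    orderOf_eq_prime (by rw [pow_two]; exact zetaP_sq) (zetaP_ne_one h2), Nat.card_prod, card_SL2] at h1
  rw [h1, pow_two (Fintype.card F * (Fintype.card F ^ 2 - 1))]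

/-- **the centraliser of `z`** -/
theorem cent_zS_struct [Fintype F] (hF : Odd (Fintype.card F)) :
    Nat.card (Subgroup.centralizer ({zS F} : Set ↥(chevG2.group F))) =
      Fintype.card F ^ 2 * (Fintype.card F ^ 2 - 1) ^ 2 ∧
    ∃ L₁ L₂ : Subgroup ↥(chevG2.group F), Nonempty (L₁ ≃* Matrix.SpecialLinearGroup (Fin 2) F) ∧
      Nonempty (L₂ ≃* Matrix.SpecialLinearGroup (Fin 2) F) ∧ (∀ x ∈ L₁, ∀ y ∈ L₂, x * y = y * x) ∧
      L₁ ⊓ L₂ = Subgroup.zpowers (zS F) ∧
      L₁ ⊔ L₂ ≤ Subgroup.centralizer ({zS F} : Set ↥(chevG2.group F)) ∧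
      (L₁ ⊔ L₂).relIndex (Subgroup.centralizer ({zS F} : Set ↥(chevG2.group F))) = 2 := by
  classical
  have h2 := two_ne_zero_of_odd hF
  have hle : (psiS F).range ≤ Subgroup.centralizer ({zS F} : Set ↥(chevG2.group F)) := by
    rintro _ ⟨P, rfl⟩
    rw [mem_cent_zS, psiS_val]
    exact zG_comm_psi P
  -- the index
  have hidx : (psiS F).range.relIndex (Subgroup.centralizer ({zS F} : Set ↥(chevG2.group F))) = 2 := by
    rw [Subgroup.relIndex_eq_two_iff]
    have hchar : ringChar F ≠ 2 := by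
      intro h
      have := (FiniteField.even_card_iff_char_two.mp h)
      rcases hF with ⟨k, hk⟩
      omega
    obtain ⟨ν, hν⟩ := FiniteField.exists_nonsquare hchar
    have hν0 : ν ≠ 0 := by rintro rfl; exact hν IsSquare.zero
    refine ⟨⟨hG 1 (Units.mk0 ν hν0), cert12_G2.c6.c2.diag_le_group (hG_mem_diag _ _)⟩, ?_, ?_⟩
    · rw [mem_cent_zS]
      exact zG_comm_hG _ _
    · intro b hb
      rw [mem_cent_zS] at hb
      obtain ⟨x, y, P, hxy⟩ := cent_zG_coords h2 _ b.2 hb
      rw [mem_range_psiS, mem_range_psiS]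
      have e1 : ((b * ⟨hG 1 (Units.mk0 ν hν0), cert12_G2.c6.c2.diag_le_group (hG_mem_diag _ _)⟩ :
          ↥(chevG2.group F)) : GL chevG2.Idx F) =
          hG x (y * Units.mk0 ν hν0) * psi F (dcjP (1 : Fˣ)⁻¹ (Units.mk0 ν hν0)⁻¹ P) := by
        show (b : GL chevG2.Idx F) * hG 1 (Units.mk0 ν hν0) = _
        rw [hxy, mul_assoc, psi_mul_hG, ← mul_assoc, hG_mul, mul_one]
      rw [e1, hxy, coords_mem_range_iff, coords_mem_range_iff]
      have hy0 : (y : F) ≠ 0 := y.ne_zero
      by_cases hy : IsSquare (y : F)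
      · right
        refine ⟨hy, ?_⟩
        rintro ⟨f, hf⟩
        obtain ⟨e, he⟩ := hy
        apply hν
        have he0 : e ≠ 0 := by
          intro h0
          rw [h0, mul_zero] at he
          exact hy0 he
        refine ⟨f / e, ?_⟩
        simp only [Units.val_mul, Units.val_mk0] at hf
        rw [he] at hf
        field_simp
        linear_combination hf
      · left
        refine ⟨?_, hy⟩
        simp only [Units.val_mul, Units.val_mk0]
        exact isSquare_mul_of_not hy hν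
  refine ⟨?_, (phiS F 7 (by norm_num)).range, (phiS F 11 (by norm_num)).range, ?_, ?_, ?_, inf_eq_zpowers, ?_, ?_⟩
  · -- the order
    have h3 := Subgroup.relIndex_mul_relIndex (⊥ : Subgroup ↥(chevG2.group F)) _ _ bot_le hle
    rw [Subgroup.relIndex_bot_left, Subgroup.relIndex_bot_left, hidx] at h3
    rw [← h3, mul_comm, card_range_psiS h2, mul_pow]
  · refine ⟨(MonoidHom.ofInjective ?_).symm⟩
    intro X Y h
    exact phi7_inj (congrArg Subtype.val h)
  · refine ⟨(MonoidHom.ofInjective ?_).symm⟩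
    intro X Y h
    exact phi11_inj (congrArg Subtype.val h)
  · rintro _ ⟨X, rfl⟩ _ ⟨Y, rfl⟩
    exact Subtype.ext (phi7_comm_phi11 X Y).eq
  · rw [sup_eq_range]
    exact hle
  · rw [sup_eq_range]
    exact hidx

end Cfsg.Agent.Lib.H29.G2Inv
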