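import Mathlib

/-!
# Transport of the structure of a centraliser along an automorphism
-/

set_option autoImplicit false

namespace Cfsg.Agent.Lib.H29.G2Inv

theorem cent_struct_transport {Γ : Type*} [Group Γ] {S : Type*} [Group S] (z : Γ) (N : ℕ)
    (h : Nat.card (Subgroup.centralizer ({z} : Set Γ)) = N ∧
      ∃ L₁ L₂ : Subgroup Γ, Nonempty (L₁ ≃* S) ∧ Nonempty (L₂ ≃* S) ∧ (∀ x ∈ L₁, ∀ y ∈ L₂, x * y = y * x) ∧
        L₁ ⊓ L₂ = Subgroup.zpowers z ∧ L₁ ⊔ L₂ ≤ Subgroup.centralizer ({z} : Set Γ) ∧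
        (L₁ ⊔ L₂).relIndex (Subgroup.centralizer ({z} : Set Γ)) = 2) (e : Γ ≃* Γ) :
    Nat.card (Subgroup.centralizer ({e z} : Set Γ)) = N ∧
      ∃ L₁ L₂ : Subgroup Γ, Nonempty (L₁ ≃* S) ∧ Nonempty (L₂ ≃* S) ∧ (∀ x ∈ L₁, ∀ y ∈ L₂, x * y = y * x) ∧
        L₁ ⊓ L₂ = Subgroup.zpowers (e z) ∧ L₁ ⊔ L₂ ≤ Subgroup.centralizer ({e z} : Set Γ) ∧
        (L₁ ⊔ L₂).relIndex (Subgroup.centralizer ({e z} : Set Γ)) = 2 := by
  obtain ⟨hN, L₁, L₂, ⟨i₁⟩, ⟨i₂⟩, hcomm, hinf, hle, hidx⟩ := h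
  have hinj : Function.Injective (e : Γ →* Γ) := e.injective
  have hC : Subgroup.centralizer ({e z} : Set Γ) = (Subgroup.centralizer ({z} : Set Γ)).map (e : Γ →* Γ) := by
    ext x
    rw [Subgroup.mem_map, Subgroup.mem_centralizer_iff]
    constructor
    · intro hx
      refine ⟨e.symm x, ?_, by simp⟩
      rw [Subgroup.mem_centralizer_iff]
      intro k hk
      rw [Set.mem_singleton_iff] at hk
      subst hk
      have := hx (e k) (Set.mem_singleton _)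
      apply e.injective
      simpa using this
    · rintro ⟨y, hy, rfl⟩ k hk
      rw [Set.mem_singleton_iff] at hk
      subst hk
      rw [Subgroup.mem_centralizer_iff] at hy
      have := hy z (Set.mem_singleton _)
      have h2 := congrArg e this
      simpa using h2
  refine ⟨?_, L₁.map (e : Γ →* Γ), L₂.map (e : Γ →* Γ), ⟨(e.subgroupMap L₁).symm.trans i₁⟩,
    ⟨(e.subgroupMap L₂).symm.trans i₂⟩, ?_, ?_, ?_, ?_⟩
  · rw [hC, ← hN]
    exact Nat.card_congr (e.subgroupMap _).symm.toEquiv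
  · rintro _ ⟨x, hx, rfl⟩ _ ⟨y, hy, rfl⟩
    have := congrArg e (hcomm x hx y hy)
    simpa using this
  · rw [← Subgroup.map_inf _ _ _ hinj, hinf, MonoidHom.map_zpowers]
    rfl
  · rw [← Subgroup.map_sup, hC]
    exact Subgroup.map_mono hle
  · rw [← Subgroup.map_sup, hC, Subgroup.relIndex_map_map_of_injective _ _ hinj, hidx]

end Cfsg.Agent.Lib.H29.G2Inv
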