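import Mathlib
import Cfsg.Prelude.Def_ChevStructure
import Cfsg.Agent.Lib.H29.G2InvC

/-!
# `SL₃(F) → G₂(F)` on the long roots: the model `gl₃ ⊕ V ⊕ V*` of the adjoint module
-/

set_option autoImplicit false
set_option linter.unusedSectionVars false
set_option linter.unusedSimpArgs false
set_option linter.unusedVariables false

namespace Cfsg.Agent.Lib.H29.G2Sing

open Cfsg.Lie Matrix Cfsg.Agent.Lib.H29.Chev
open scoped Kronecker

/-- the index set of `gl₃ ⊕ V ⊕ V*` -/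
abbrev M0 := (Fin 3 × Fin 3) ⊕ (Fin 3 ⊕ Fin 3)

def codeM : M0 → ℕ
  | Sum.inl (a, b) => 3 * a.val + b.val
  | Sum.inr (Sum.inl a) => 9 + a.val
  | Sum.inr (Sum.inr a) => 12 + a.val

def codeI : chevG2.Idx → ℕ
  | Sum.inl i => i.val
  | Sum.inr r => 2 + r.val

def emT : List (List (ℕ × ℤ)) :=
  [[(0, -1), (4, 2), (8, -1)], [(0, 1), (4, -1)], [(6, 1)], [(7, 1)], [(11, 1)], [(12, 1)], [(13, 1)], [(3, 1)],
    [(1, 1)], [(10, 1)], [(9, 1)], [(14, 1)], [(5, 1)], [(2, 1)]]

def pmT : List (List (ℕ × ℤ)) :=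
  [[(8, -1)], [(0, 1), (8, -1)], [(6, 1)], [(7, 1)], [(11, 1)], [(12, 1)], [(13, 1)], [(3, 1)],
    [(1, 1)], [(10, 1)], [(9, 1)], [(14, 1)], [(5, 1)], [(2, 1)]]

def lk (T : List (List (ℕ × ℤ))) (i a : ℕ) : ℤ :=
  (((T.getD i []).filter fun p => p.1 = a).map fun p => p.2).sum

/-- the embedding of the adjoint module of `G₂` into `gl₃ ⊕ V ⊕ V*` -/
def EmZ : Matrix M0 chevG2.Idx ℤ := Matrix.of fun a j => lk emT (codeI j) (codeM a)

/-- the coordinates -/
def PmZ : Matrix chevG2.Idx M0 ℤ := Matrix.of fun i a => lk pmT (codeI i) (codeM a)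

/-- the trace functional -/
def tauZ : Matrix Unit M0 ℤ := Matrix.of fun _ x =>
  match x with
  | Sum.inl (a, b) => if a = b then 1 else 0
  | Sum.inr _ => 0

/-- the vector `E₂₂` -/
def cvZ : Matrix M0 Unit ℤ := Matrix.of fun x _ =>
  match x with
  | Sum.inl (a, b) => if a = 1 ∧ b = 1 then 1 else 0
  | Sum.inr _ => 0

set_option maxRecDepth 1000000 in
theorem PmZ_mul_EmZ : PmZ * EmZ = 1 := by decide +kernel

set_option maxRecDepth 1000000 in
theorem EmZ_mul_PmZ : EmZ * PmZ = 1 - cvZ * tauZ := by decide +kernel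

set_option maxRecDepth 1000000 in
theorem tauZ_mul_EmZ : tauZ * EmZ = 0 := by decide +kernel


section ring

variable {R : Type*} [CommRing R] {S : Type*} [CommRing S]

/-- the action of `(g, g⁻¹)` on `gl₃ ⊕ V ⊕ V*` -/
def PiM (g gi : Matrix (Fin 3) (Fin 3) R) : Matrix M0 M0 R :=
  Matrix.fromBlocks (g ⊗ₖ giᵀ) 0 0 (Matrix.fromBlocks g 0 0 giᵀ)

theorem PiM_mul (g gi h hi : Matrix (Fin 3) (Fin 3) R) : PiM g gi * PiM h hi = PiM (g * h) (hi * gi) := by
  unfold PiM
  rw [Matrix.fromBlocks_multiply, Matrix.fromBlocks_multiply]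
  simp only [Matrix.mul_zero, Matrix.zero_mul, add_zero, zero_add, Matrix.transpose_mul]
  rw [← Matrix.mul_kronecker_mul]

theorem PiM_one : PiM (1 : Matrix (Fin 3) (Fin 3) R) 1 = 1 := by
  unfold PiM
  rw [Matrix.transpose_one, Matrix.one_kronecker_one, Matrix.fromBlocks_one, Matrix.fromBlocks_one]

theorem PiM_map (f : R →+* S) (g gi : Matrix (Fin 3) (Fin 3) R) :
    (PiM g gi).map f = PiM (g.map f) (gi.map f) := by
  unfold PiM
  rw [Matrix.fromBlocks_map, Matrix.fromBlocks_map]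
  congr 1
  · ext ⟨a, b⟩ ⟨c, d⟩
    simp [Matrix.kronecker_apply]
  · ext a b; simp
  · ext a b; simp
  · congr 1
    · ext a b; simp
    · ext a b; simp

def Em (R : Type*) [CommRing R] : Matrix M0 chevG2.Idx R := EmZ.map (Int.castRingHom R)

def Pm (R : Type*) [CommRing R] : Matrix chevG2.Idx M0 R := PmZ.map (Int.castRingHom R)

def tau (R : Type*) [CommRing R] : Matrix Unit M0 R := tauZ.map (Int.castRingHom R)

def cv (R : Type*) [CommRing R] : Matrix M0 Unit R := cvZ.map (Int.castRingHom R)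

theorem Pm_mul_Em : Pm R * Em R = 1 := by
  unfold Pm Em
  rw [← Matrix.map_mul, PmZ_mul_EmZ]
  ext a b
  simp [Matrix.one_apply]

theorem Em_mul_Pm : Em R * Pm R = 1 - cv R * tau R := by
  unfold Pm Em cv tau
  rw [← Matrix.map_mul, EmZ_mul_PmZ, ← Matrix.map_mul]
  ext a b
  simp [Matrix.one_apply]

theorem tau_mul_Em : tau R * Em R = 0 := by
  unfold tau Em
  rw [← Matrix.map_mul, tauZ_mul_EmZ]
  ext a b
  simp

theorem tau_mul_PiM (g gi : Matrix (Fin 3) (Fin 3) R) (h : gi * g = 1) : tau R * PiM g gi = tau R := by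
  ext u y
  rw [Matrix.mul_apply, Fintype.sum_sum_type, Fintype.sum_prod_type]
  rcases y with ⟨c, d⟩ | y
  · have e : (gi * g) d c = (1 : Matrix (Fin 3) (Fin 3) R) d c := by rw [h]
    rw [Matrix.mul_apply, Fin.sum_univ_three] at e
    simp only [tau, tauZ, PiM, Matrix.map_apply, Matrix.of_apply, Matrix.fromBlocks_apply₁₁,
      Matrix.fromBlocks_apply₂₁, Matrix.kronecker_apply, Matrix.transpose_apply, Fin.sum_univ_three]
    simp only [Fin.isValue, eq_intCast, Int.cast_ite, Int.cast_one, Int.cast_zero]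
    simp only [Matrix.zero_apply, mul_zero, Finset.sum_const_zero, add_zero]
    have : (1 : Matrix (Fin 3) (Fin 3) R) d c = if c = d then 1 else 0 := by
      rw [Matrix.one_apply]
      simp [eq_comm]
    rw [this] at e
    rw [← e]
    simp
    ring
  · simp [tau, tauZ, PiM]

/-- the matrix of `(g, g⁻¹)` on the adjoint module of `G₂` -/
def rhoM (g gi : Matrix (Fin 3) (Fin 3) R) : Matrix chevG2.Idx chevG2.Idx R := Pm R * PiM g gi * Em R

theorem rhoM_one : rhoM (1 : Matrix (Fin 3) (Fin 3) R) 1 = 1 := by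
  unfold rhoM
  rw [PiM_one, Matrix.mul_one, Pm_mul_Em]

theorem rhoM_mul (g gi h hi : Matrix (Fin 3) (Fin 3) R) (hh : hi * h = 1) :
    rhoM g gi * rhoM h hi = rhoM (g * h) (hi * gi) := by
  unfold rhoM
  have e : Pm R * PiM g gi * Em R * (Pm R * PiM h hi * Em R) =
      Pm R * PiM g gi * (Em R * Pm R) * PiM h hi * Em R := by
    simp only [Matrix.mul_assoc]
  rw [e, Em_mul_Pm, Matrix.mul_sub, Matrix.sub_mul, Matrix.sub_mul, Matrix.mul_one]
  have e2 : Pm R * PiM g gi * (cv R * tau R) * PiM h hi * Em R =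
      Pm R * PiM g gi * cv R * ((tau R * PiM h hi) * Em R) := by
    simp only [Matrix.mul_assoc]
  rw [e2, tau_mul_PiM h hi hh, tau_mul_Em, Matrix.mul_zero, sub_zero, Matrix.mul_assoc (Pm R), PiM_mul]

theorem rhoM_map (f : R →+* S) (g gi : Matrix (Fin 3) (Fin 3) R) :
    (rhoM g gi).map f = rhoM (g.map f) (gi.map f) := by
  unfold rhoM
  rw [Matrix.map_mul, Matrix.map_mul, PiM_map]
  congr 1
  · congr 1
    unfold Pm
    ext a b
    simp
  · unfold Em
    ext a b
    simp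

end ring

end Cfsg.Agent.Lib.H29.G2Sing
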