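import Mathlib
import Cfsg.Prelude.Def_ChevStructure
import Cfsg.Agent.Lib.H29.G2SingA

/-!
# `SL₃(F) → G₂(F)` on the long roots: the images of the transvections are the long root elements
-/

set_option autoImplicit false
set_option linter.unusedSectionVars false
set_option linter.unusedSimpArgs false
set_option linter.unusedVariables false

namespace Cfsg.Agent.Lib.H29.G2Sing

open Cfsg.Lie Matrix Cfsg.Agent.Lib.H29.Chev
open scoped Kronecker

section ring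

variable {R : Type*} [CommRing R] {S : Type*} [CommRing S]

/-- the linear term of `PiM (1 + tE) (1 - tE)` -/
def Pi1 (E : Matrix (Fin 3) (Fin 3) R) : Matrix M0 M0 R :=
  Matrix.fromBlocks (E ⊗ₖ (1 : Matrix (Fin 3) (Fin 3) R) - (1 : Matrix (Fin 3) (Fin 3) R) ⊗ₖ Eᵀ) 0 0
    (Matrix.fromBlocks E 0 0 (-Eᵀ))

/-- the quadratic term of `PiM (1 + tE) (1 - tE)` -/
def Pi2 (E : Matrix (Fin 3) (Fin 3) R) : Matrix M0 M0 R :=
  Matrix.fromBlocks (-(E ⊗ₖ Eᵀ)) 0 0 (Matrix.fromBlocks 0 0 0 0)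

theorem PiM_expand (E : Matrix (Fin 3) (Fin 3) R) (t : R) :
    PiM (1 + t • E) (1 - t • E) = 1 + t • Pi1 E + t ^ 2 • Pi2 E := by
  unfold PiM Pi1 Pi2
  rw [Matrix.fromBlocks_smul, Matrix.fromBlocks_smul, Matrix.fromBlocks_smul, Matrix.fromBlocks_smul,
    ← Matrix.fromBlocks_one (l := Fin 3 × Fin 3) (m := Fin 3 ⊕ Fin 3),
    ← Matrix.fromBlocks_one (l := Fin 3) (m := Fin 3), Matrix.fromBlocks_add, Matrix.fromBlocks_add,
    Matrix.fromBlocks_add, Matrix.fromBlocks_add]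
  congr 1
  · have e1 : (1 - t • E)ᵀ = 1 + (-t) • Eᵀ := by
      rw [Matrix.transpose_sub, Matrix.transpose_one, Matrix.transpose_smul, neg_smul, sub_eq_add_neg]
    have e2 : E ⊗ₖ (1 : Matrix (Fin 3) (Fin 3) R) - (1 : Matrix (Fin 3) (Fin 3) R) ⊗ₖ Eᵀ =
        E ⊗ₖ (1 : Matrix (Fin 3) (Fin 3) R) + (-1 : R) • ((1 : Matrix (Fin 3) (Fin 3) R) ⊗ₖ Eᵀ) := by
      rw [neg_one_smul, sub_eq_add_neg]
    rw [e1, e2, Matrix.add_kronecker, Matrix.kronecker_add, Matrix.kronecker_add, Matrix.one_kronecker_one,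
      Matrix.smul_kronecker, Matrix.smul_kronecker, Matrix.kronecker_smul, Matrix.kronecker_smul, smul_add,
      smul_smul, smul_smul]
    have e3 : t * -t = -(t ^ 2) := by ring
    rw [e3, neg_smul, mul_neg_one, neg_smul, smul_neg, neg_smul]
    abel
  · simp
  · simp
  · congr 1
    · simp
    · simp
    · simp
    · rw [Matrix.transpose_sub, Matrix.transpose_one, Matrix.transpose_smul]
      simp
      abel

theorem Pi1_map (f : R →+* S) (E : Matrix (Fin 3) (Fin 3) R) : (Pi1 E).map f = Pi1 (E.map f) := by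
  unfold Pi1
  rw [Matrix.fromBlocks_map, Matrix.fromBlocks_map]
  congr 1
  · ext ⟨a, b⟩ ⟨c, d⟩
    simp [Matrix.kronecker_apply, Matrix.one_apply]
    split_ifs <;> simp
  · ext a b; simp
  · ext a b; simp
  · congr 1
    · ext a b; simp
    · ext a b; simp
    · ext a b; simp

theorem Pi2_map (f : R →+* S) (E : Matrix (Fin 3) (Fin 3) R) : (Pi2 E).map f = Pi2 (E.map f) := by
  unfold Pi2
  rw [Matrix.fromBlocks_map, Matrix.fromBlocks_map]
  congr 1
  · ext ⟨a, b⟩ ⟨c, d⟩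
    simp [Matrix.kronecker_apply]
  · ext a b; simp
  · ext a b; simp
  · congr 1 <;> (ext a b; simp)

/-- the integer coefficient matrices of the image of a transvection -/
def B1Z (i j : Fin 3) : Matrix chevG2.Idx chevG2.Idx ℤ := PmZ * Pi1 (Matrix.single i j (1 : ℤ)) * EmZ

def B2Z (i j : Fin 3) : Matrix chevG2.Idx chevG2.Idx ℤ := PmZ * Pi2 (Matrix.single i j (1 : ℤ)) * EmZ

theorem single_map_cast (i j : Fin 3) :
    (Matrix.single i j (1 : ℤ)).map (Int.castRingHom R) = Matrix.single i j (1 : R) := by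
  ext a b
  simp [Matrix.single_apply]

theorem rhoM_transvection (i j : Fin 3) (t : R) :
    rhoM (1 + Matrix.single i j t) (1 - Matrix.single i j t) =
      1 + t • (B1Z i j).map (Int.castRingHom R) + t ^ 2 • (B2Z i j).map (Int.castRingHom R) := by
  have e : Matrix.single i j t = t • Matrix.single i j (1 : R) := by
    rw [Matrix.smul_single, smul_eq_mul, mul_one]
  rw [e]
  unfold rhoM
  rw [PiM_expand, Matrix.mul_add, Matrix.mul_add, Matrix.add_mul, Matrix.add_mul, Matrix.mul_one, Pm_mul_Em,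
    Matrix.mul_smul, Matrix.mul_smul, Matrix.smul_mul, Matrix.smul_mul]
  unfold B1Z B2Z Pm Em
  rw [Matrix.map_mul, Matrix.map_mul, Matrix.map_mul, Matrix.map_mul, Pi1_map, Pi2_map, single_map_cast]

end ring

set_option maxRecDepth 1000000 in
theorem B1Z_eq : B1Z 0 1 = Ak chevG2 6 1 ∧ B1Z 1 2 = Ak chevG2 10 1 ∧ B1Z 0 2 = Ak chevG2 11 1 ∧
    B1Z 1 0 = Ak chevG2 5 1 ∧ B1Z 2 1 = Ak chevG2 1 1 ∧ B1Z 2 0 = Ak chevG2 0 1 := by
  decide +kernel

set_option maxRecDepth 1000000 in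
theorem B2Z_eq : B2Z 0 1 = Ak chevG2 6 2 ∧ B2Z 1 2 = Ak chevG2 10 2 ∧ B2Z 0 2 = Ak chevG2 11 2 ∧
    B2Z 1 0 = Ak chevG2 5 2 ∧ B2Z 2 1 = Ak chevG2 1 2 ∧ B2Z 2 0 = Ak chevG2 0 2 := by
  decide +kernel

set_option maxRecDepth 1000000 in
theorem A3Z_eq : Ak chevG2 6 3 = 0 ∧ Ak chevG2 10 3 = 0 ∧ Ak chevG2 11 3 = 0 ∧
    Ak chevG2 5 3 = 0 ∧ Ak chevG2 1 3 = 0 ∧ Ak chevG2 0 3 = 0 := by
  decide +kernel

end Cfsg.Agent.Lib.H29.G2Sing
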