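import Mathlib
import Cfsg.Prelude.Def_ChevStructure
import Cfsg.Agent.Lib.H29.G2SingB
import Cfsg.Agent.Lib.H29.ChevFld2
import Cfsg.Agent.Lib.H2.SLGen

/-!
# The homomorphism `SL₃(F) → G₂(F)` on the long roots
-/

set_option autoImplicit false
set_option linter.unusedSectionVars false
set_option linter.unusedSimpArgs false
set_option linter.unusedVariables false

namespace Cfsg.Agent.Lib.H29.G2Sing

open Cfsg.Lie Matrix Cfsg.Agent.Lib.H29.Chev Cfsg.Agent.Lib.H29.G2Inv

variable {F : Type*} [Field F] {K : Type*} [Field K]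

local notation "xg" => cert12_G2.c6.c2.xA

theorem sl3_inv_mul (g : SpecialLinearGroup (Fin 3) F) : (g⁻¹).1 * g.1 = 1 :=
  congrArg Subtype.val (inv_mul_cancel g)

theorem sl3_mul_inv (g : SpecialLinearGroup (Fin 3) F) : g.1 * (g⁻¹).1 = 1 :=
  congrArg Subtype.val (mul_inv_cancel g)

/-- the homomorphism `SL₃(F) → GL₁₄(F)` -/
noncomputable def rho (F : Type*) [Field F] : SpecialLinearGroup (Fin 3) F →* GL chevG2.Idx F where
  toFun g := ⟨rhoM g.1 (g⁻¹).1, rhoM (g⁻¹).1 g.1, by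
    rw [rhoM_mul _ _ _ _ (sl3_mul_inv g), sl3_mul_inv, rhoM_one], by
    rw [rhoM_mul _ _ _ _ (sl3_inv_mul g), sl3_inv_mul, rhoM_one]⟩
  map_one' := by
    apply Units.ext
    show rhoM (1 : SpecialLinearGroup (Fin 3) F).1 ((1 : SpecialLinearGroup (Fin 3) F)⁻¹).1 = 1
    rw [inv_one]
    exact rhoM_one
  map_mul' := by
    intro g h
    apply Units.ext
    show rhoM (g * h).1 ((g * h)⁻¹).1 = rhoM g.1 (g⁻¹).1 * rhoM h.1 (h⁻¹).1
    rw [rhoM_mul _ _ _ _ (sl3_inv_mul h), _root_.mul_inv_rev]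
    rfl

theorem rho_val (g : SpecialLinearGroup (Fin 3) F) :
    ((rho F g : GL chevG2.Idx F) : Matrix chevG2.Idx chevG2.Idx F) = rhoM g.1 (g⁻¹).1 := rfl

theorem g2_agrees_n : fdG2.n = 12 := g2_n

/-- the value of `rho` on a transvection -/
theorem rho_transvection_aux (i j : Fin 3) (hij : i ≠ j) (r : ℕ) (hr : r < 12)
    (h1 : B1Z i j = Ak chevG2 r 1) (h2 : B2Z i j = Ak chevG2 r 2) (h3 : Ak chevG2 r 3 = 0) (t : F) :
    rho F (SpecialLinearGroup.transvection hij t) = xg r t := by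
  apply Units.ext
  rw [rho_val, SpecialLinearGroup.transvection_inv]
  have e1 : (SpecialLinearGroup.transvection hij t).1 = 1 + Matrix.single i j t := rfl
  have e2 : (SpecialLinearGroup.transvection hij (-t)).1 = 1 - Matrix.single i j t := by
    show (1 : Matrix (Fin 3) (Fin 3) F) + Matrix.single i j (-t) = 1 - Matrix.single i j t
    rw [sub_eq_add_neg, ← Matrix.single_neg]
  rw [e1, e2, rhoM_transvection,
    cert12_G2.c6.c2.xA_val, x_eq_XR cert12_G2.c6.c2.agrees r (by rw [g2_n]; exact hr)]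
  unfold XR aR
  rw [h1, h2, h3]
  simp

theorem rho_t01 (t : F) : rho F (SpecialLinearGroup.transvection (i := (0 : Fin 3)) (j := 1) (by decide) t) = xg 6 t :=
  rho_transvection_aux 0 1 _ 6 (by norm_num) B1Z_eq.1 B2Z_eq.1 A3Z_eq.1 t

theorem rho_t12 (t : F) : rho F (SpecialLinearGroup.transvection (i := (1 : Fin 3)) (j := 2) (by decide) t) = xg 10 t :=
  rho_transvection_aux 1 2 _ 10 (by norm_num) B1Z_eq.2.1 B2Z_eq.2.1 A3Z_eq.2.1 t

theorem rho_t02 (t : F) : rho F (SpecialLinearGroup.transvection (i := (0 : Fin 3)) (j := 2) (by decide) t) = xg 11 t :=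
  rho_transvection_aux 0 2 _ 11 (by norm_num) B1Z_eq.2.2.1 B2Z_eq.2.2.1 A3Z_eq.2.2.1 t

theorem rho_t10 (t : F) : rho F (SpecialLinearGroup.transvection (i := (1 : Fin 3)) (j := 0) (by decide) t) = xg 5 t :=
  rho_transvection_aux 1 0 _ 5 (by norm_num) B1Z_eq.2.2.2.1 B2Z_eq.2.2.2.1 A3Z_eq.2.2.2.1 t

theorem rho_t21 (t : F) : rho F (SpecialLinearGroup.transvection (i := (2 : Fin 3)) (j := 1) (by decide) t) = xg 1 t :=
  rho_transvection_aux 2 1 _ 1 (by norm_num) B1Z_eq.2.2.2.2.1 B2Z_eq.2.2.2.2.1 A3Z_eq.2.2.2.2.1 t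

theorem rho_t20 (t : F) : rho F (SpecialLinearGroup.transvection (i := (2 : Fin 3)) (j := 0) (by decide) t) = xg 0 t :=
  rho_transvection_aux 2 0 _ 0 (by norm_num) B1Z_eq.2.2.2.2.2 B2Z_eq.2.2.2.2.2 A3Z_eq.2.2.2.2.2 t

/-- the image of `rho` lies in `G₂(F)` -/
theorem rho_mem_group (g : SpecialLinearGroup (Fin 3) F) : rho F g ∈ chevG2.group F := by
  refine Cfsg.Agent.Lib.H2.SL_transvection_induction (fun g => rho F g ∈ chevG2.group F) ?_ ?_ g
  · intro i j hij c
    fin_cases i <;> fin_cases j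
    · exact absurd rfl hij
    · show rho F (SpecialLinearGroup.transvection (i := (0 : Fin 3)) (j := 1) _ c) ∈ _
      rw [rho_t01]; exact cert12_G2.c6.c2.xA_mem_group _ _
    · show rho F (SpecialLinearGroup.transvection (i := (0 : Fin 3)) (j := 2) _ c) ∈ _
      rw [rho_t02]; exact cert12_G2.c6.c2.xA_mem_group _ _
    · show rho F (SpecialLinearGroup.transvection (i := (1 : Fin 3)) (j := 0) _ c) ∈ _
      rw [rho_t10]; exact cert12_G2.c6.c2.xA_mem_group _ _
    · exact absurd rfl hij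
    · show rho F (SpecialLinearGroup.transvection (i := (1 : Fin 3)) (j := 2) _ c) ∈ _
      rw [rho_t12]; exact cert12_G2.c6.c2.xA_mem_group _ _
    · show rho F (SpecialLinearGroup.transvection (i := (2 : Fin 3)) (j := 0) _ c) ∈ _
      rw [rho_t20]; exact cert12_G2.c6.c2.xA_mem_group _ _
    · show rho F (SpecialLinearGroup.transvection (i := (2 : Fin 3)) (j := 1) _ c) ∈ _
      rw [rho_t21]; exact cert12_G2.c6.c2.xA_mem_group _ _
    · exact absurd rfl hij
  · intro A B hA hB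
    rw [map_mul]
    exact mul_mem hA hB

/-- `rho` commutes with base change -/
theorem bc_rho (ι : F →+* K) (g : SpecialLinearGroup (Fin 3) F) :
    bc chevG2 ι (rho F g) = rho K (SpecialLinearGroup.map ι g) := by
  apply Units.ext
  rw [bc_val, rho_val, rho_val, rhoM_map, ← map_inv]
  rfl

end Cfsg.Agent.Lib.H29.G2Sing
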