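import Mathlib
import Cfsg.Prelude.Def_ChevStructure
import Cfsg.Agent.Lib.H29.G2SingC
import Cfsg.Agent.Lib.H29.G2InvD

/-!
# The torus of `SL₃(F)` inside `G₂(F)`

`rho (diag(d₁,d₂,d₃)) = h_a(d₁ d₂) h_b(d₁² d₂)`.
-/

set_option autoImplicit false
set_option linter.unusedSectionVars false
set_option linter.unusedSimpArgs false
set_option linter.unusedVariables false

namespace Cfsg.Agent.Lib.H29.G2Sing

open Cfsg.Lie Matrix Cfsg.Agent.Lib.H29.Chev Cfsg.Agent.Lib.H29.G2Inv Cfsg.Agent.Lib.H12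

variable {F : Type*} [Field F] {K : Type*} [Field K]

local notation "xg" => cert12_G2.c6.c2.xA
local notation "SL2" => Matrix.SpecialLinearGroup (Fin 2) F
local notation "SL3" => Matrix.SpecialLinearGroup (Fin 3) F

/-- the upper left block embedding as a matrix -/
def emb12M (A : Matrix (Fin 2) (Fin 2) F) : Matrix (Fin 3) (Fin 3) F :=
  !![A 0 0, A 0 1, 0; A 1 0, A 1 1, 0; 0, 0, 1]

/-- the lower right block embedding as a matrix -/
def emb23M (A : Matrix (Fin 2) (Fin 2) F) : Matrix (Fin 3) (Fin 3) F :=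
  !![1, 0, 0; 0, A 0 0, A 0 1; 0, A 1 0, A 1 1]

theorem emb12M_det (A : Matrix (Fin 2) (Fin 2) F) : (emb12M A).det = A.det := by
  rw [Matrix.det_fin_three, Matrix.det_fin_two]
  simp [emb12M]

theorem emb23M_det (A : Matrix (Fin 2) (Fin 2) F) : (emb23M A).det = A.det := by
  rw [Matrix.det_fin_three, Matrix.det_fin_two]
  simp [emb23M]

theorem emb12M_mul (A B : Matrix (Fin 2) (Fin 2) F) : emb12M (A * B) = emb12M A * emb12M B := by
  ext i j
  fin_cases i <;> fin_cases j <;>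
    simp [emb12M, Matrix.mul_apply, Fin.sum_univ_three, Fin.sum_univ_two]

theorem emb23M_mul (A B : Matrix (Fin 2) (Fin 2) F) : emb23M (A * B) = emb23M A * emb23M B := by
  ext i j
  fin_cases i <;> fin_cases j <;>
    simp [emb23M, Matrix.mul_apply, Fin.sum_univ_three, Fin.sum_univ_two]

theorem emb12M_one : emb12M (1 : Matrix (Fin 2) (Fin 2) F) = 1 := by
  ext i j
  fin_cases i <;> fin_cases j <;> simp [emb12M]

theorem emb23M_one : emb23M (1 : Matrix (Fin 2) (Fin 2) F) = 1 := by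
  ext i j
  fin_cases i <;> fin_cases j <;> simp [emb23M]

/-- the upper left block embedding `SL₂ → SL₃` -/
def emb12 (F : Type*) [Field F] : Matrix.SpecialLinearGroup (Fin 2) F →* Matrix.SpecialLinearGroup (Fin 3) F where
  toFun A := ⟨emb12M A.1, by rw [emb12M_det]; exact A.2⟩
  map_one' := Subtype.ext emb12M_one
  map_mul' A B := Subtype.ext (emb12M_mul A.1 B.1)

/-- the lower right block embedding `SL₂ → SL₃` -/
def emb23 (F : Type*) [Field F] : Matrix.SpecialLinearGroup (Fin 2) F →* Matrix.SpecialLinearGroup (Fin 3) F where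
  toFun A := ⟨emb23M A.1, by rw [emb23M_det]; exact A.2⟩
  map_one' := Subtype.ext emb23M_one
  map_mul' A B := Subtype.ext (emb23M_mul A.1 B.1)

theorem emb12_val (A : SL2) : (emb12 F A).1 = emb12M A.1 := rfl

theorem emb23_val (A : SL2) : (emb23 F A).1 = emb23M A.1 := rfl

theorem emb12_upM (t : F) :
    emb12 F (StPresG.upM t) = SpecialLinearGroup.transvection (i := (0 : Fin 3)) (j := 1) (by decide) t := by
  apply Subtype.ext
  rw [emb12_val]
  show emb12M _ = 1 + Matrix.single (0 : Fin 3) 1 t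
  ext i j
  fin_cases i <;> fin_cases j <;> simp [emb12M, Matrix.single]

theorem emb12_loM (t : F) :
    emb12 F (StPresG.loM t) = SpecialLinearGroup.transvection (i := (1 : Fin 3)) (j := 0) (by decide) t := by
  apply Subtype.ext
  rw [emb12_val]
  show emb12M _ = 1 + Matrix.single (1 : Fin 3) 0 t
  ext i j
  fin_cases i <;> fin_cases j <;> simp [emb12M, Matrix.single]

theorem emb23_upM (t : F) :
    emb23 F (StPresG.upM t) = SpecialLinearGroup.transvection (i := (1 : Fin 3)) (j := 2) (by decide) t := by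
  apply Subtype.ext
  rw [emb23_val]
  show emb23M _ = 1 + Matrix.single (1 : Fin 3) 2 t
  ext i j
  fin_cases i <;> fin_cases j <;> simp [emb23M, Matrix.single]

theorem emb23_loM (t : F) :
    emb23 F (StPresG.loM t) = SpecialLinearGroup.transvection (i := (2 : Fin 3)) (j := 1) (by decide) t := by
  apply Subtype.ext
  rw [emb23_val]
  show emb23M _ = 1 + Matrix.single (2 : Fin 3) 1 t
  ext i j
  fin_cases i <;> fin_cases j <;> simp [emb23M, Matrix.single]

theorem rho_comp_emb12 : (rho F).comp (emb12 F) = phi 6 := by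
  apply sl2_hom_ext
  · intro t
    rw [MonoidHom.comp_apply, emb12_upM, rho_t01, phi_up 6 (by norm_num)]
  · intro t
    rw [MonoidHom.comp_apply, emb12_loM, rho_t10, phi_lo 6 (by norm_num)]

theorem rho_comp_emb23 : (rho F).comp (emb23 F) = phi 10 := by
  apply sl2_hom_ext
  · intro t
    rw [MonoidHom.comp_apply, emb23_upM, rho_t12, phi_up 10 (by norm_num)]
  · intro t
    rw [MonoidHom.comp_apply, emb23_loM, rho_t21, phi_lo 10 (by norm_num)]

theorem g2_pr_vals10 : fdG2.pr 7 10 = 1 ∧ fdG2.pr 6 10 = -1 := by decide +kernel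

/-- `h_{3a+b}(t)` -/
theorem phi10_dgM (t : Fˣ) : phi 10 (StPresG.dgM (t : F) t.ne_zero) = hG t t := by
  obtain ⟨p1, p2⟩ := g2_pr_vals10
  apply eq_hG_of_dE _ (phi_dgM_mem 10 (by norm_num) _ _)
  · rw [dE_phi_dgM 10 7 (by norm_num) (by norm_num), p1]
    have : (t : F) ≠ 0 := t.ne_zero
    rw [zpow_one]
    field_simp
  · rw [dE_phi_dgM 10 6 (by norm_num) (by norm_num), p2]
    have : (t : F) ≠ 0 := t.ne_zero
    simp
    field_simp

/-- the diagonal matrix `diag(d₁, d₂, (d₁ d₂)⁻¹)` of `SL₃(F)` -/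
def dg3 (d1 d2 : Fˣ) : SL3 :=
  ⟨!![(d1 : F), 0, 0; 0, (d2 : F), 0; 0, 0, ((d1 * d2)⁻¹ : Fˣ)], by
    rw [Matrix.det_fin_three]
    have h1 : (d1 : F) ≠ 0 := d1.ne_zero
    have h2 : (d2 : F) ≠ 0 := d2.ne_zero
    simp
    field_simp⟩

theorem dg3_val (d1 d2 : Fˣ) :
    (dg3 d1 d2).1 = !![(d1 : F), 0, 0; 0, (d2 : F), 0; 0, 0, ((d1 * d2)⁻¹ : Fˣ)] := rfl

theorem dg3_eq (d1 d2 : Fˣ) :
    dg3 d1 d2 = emb12 F (StPresG.dgM (d1 : F) d1.ne_zero) *
      emb23 F (StPresG.dgM ((d1 * d2 : Fˣ) : F) (d1 * d2).ne_zero) := by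
  apply Subtype.ext
  show (dg3 d1 d2).1 = (emb12 F (StPresG.dgM (d1 : F) d1.ne_zero)).1 *
      (emb23 F (StPresG.dgM ((d1 * d2 : Fˣ) : F) (d1 * d2).ne_zero)).1
  rw [emb12_val, emb23_val, dg3_val]
  have h1 : (d1 : F) ≠ 0 := d1.ne_zero
  have h2 : (d2 : F) ≠ 0 := d2.ne_zero
  ext i j
  fin_cases i <;> fin_cases j <;>
    simp [emb12M, emb23M, Matrix.mul_apply, Fin.sum_univ_three]

/-- the image of the torus of `SL₃(F)` -/
theorem rho_dg3 (d1 d2 : Fˣ) : rho F (dg3 d1 d2) = hG (d1 * d2) (d1 ^ 2 * d2) := by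
  rw [dg3_eq, map_mul]
  have e1 : rho F (emb12 F (StPresG.dgM (d1 : F) d1.ne_zero)) = phi 6 (StPresG.dgM (d1 : F) d1.ne_zero) := by
    rw [← rho_comp_emb12]; rfl
  have e2 : rho F (emb23 F (StPresG.dgM ((d1 * d2 : Fˣ) : F) (d1 * d2).ne_zero)) =
      phi 10 (StPresG.dgM ((d1 * d2 : Fˣ) : F) (d1 * d2).ne_zero) := by
    rw [← rho_comp_emb23]; rfl
  rw [e1, e2, phi6_dgM, phi10_dgM, hG_mul]
  congr 1
  · rw [one_mul]
  · rw [pow_two, mul_assoc]

end Cfsg.Agent.Lib.H29.G2Sing
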