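import Mathlib
import Cfsg.Prelude.Def_ChevStructure
import Cfsg.Agent.Lib.H29.G2SingE

/-!
# Regular torus elements of `G₂(F)`: the centraliser is the torus
-/

set_option autoImplicit false
set_option linter.unusedSectionVars false
set_option linter.unusedSimpArgs false
set_option linter.unusedVariables false

namespace Cfsg.Agent.Lib.H29.G2Sing

open Cfsg.Lie Matrix Cfsg.Agent.Lib.H29.Chev Cfsg.Agent.Lib.H29.G2Inv

variable {F : Type*} [Field F]

local notation "xg" => cert12_G2.c6.c2.xA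

theorem g2_simples_vals : fdG2.simples.getD 0 0 = 7 ∧ fdG2.simples.getD 1 0 = 6 ∧ fdG2.l = 2 ∧ fdG2.n = 12 := by
  decide +kernel

/-- a monomial element commuting with `h` permutes the roots preserving the root values of `h` -/
theorem perm_chiU (x y : Fˣ) (m : GL chevG2.Idx F) (hc : hG x y * m = m * hG x y) (π : ℕ → ℕ)
    (hπ : cert12_G2.c6.c2.Perm m π) (r : ℕ) (hr : r < 12) : chiU x y (π r) = chiU x y r := by
  have hn := g2_n
  obtain ⟨h1, h1', c, h3⟩ := hπ r (by omega)
  have hc0 : c ≠ 0 := by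
    intro hc0
    have h4 := h3 1
    rw [hc0, zero_mul, cert12_G2.c6.c2.xA_zero] at h4
    have h5 : xg r (1 : F) = 1 := by
      have e : xg r (1 : F) = m⁻¹ * (m * xg r 1 * m⁻¹) * m := by group
      rw [e, h4]; group
    exact one_ne_zero (cert12_G2.c6.xA_eq_one r (by omega) (1 : F) h5)
  have hcz : hG x y * xg (π r) (c * 1) * (hG x y)⁻¹ = xg (π r) (c * ((chiU x y r : F) * 1)) := by
    rw [← h3 1, ← h3]
    have e : hG x y * (m * xg r 1 * m⁻¹) * (hG x y)⁻¹ =
        (hG x y * m) * ((hG x y)⁻¹ * (hG x y * xg r 1 * (hG x y)⁻¹) * hG x y) * (hG x y * m)⁻¹ := by group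
    rw [e, hc, hG_conj' x y r hr]
    group
  rw [hG_conj' x y (π r) (by omega)] at hcz
  have hcz2 := cert12_G2.xA_param_inj' (π r) h1 _ _ hcz
  apply Units.ext
  have : c * ((chiU x y (π r) : F) - (chiU x y r : F)) = 0 := by linear_combination hcz2
  rcases mul_eq_zero.mp this with h | h
  · exact absurd h hc0
  · linear_combination h

/-- an element of `N` commuting with a torus element whose values on the two fundamental roots
are not taken on negative roots lies in `H` -/
theorem cent_monomial_regular (x y : Fˣ)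
    (hsep : ∀ s < 6, chiU x y s ≠ chiU x y 7 ∧ chiU x y s ≠ chiU x y 6)
    (m : GL chevG2.Idx F) (hm : m ∈ chevG2.monomialSubgroup F) (hc : hG x y * m = m * hG x y) :
    m ∈ chevG2.diagonalSubgroup F := by
  obtain ⟨s0, s1, hl, hn⟩ := g2_simples_vals
  obtain ⟨⟨π, hπ⟩, _⟩ := cert12_G2.c6.perm_of_mem m hm
  apply cert12_G2.mem_diag_of_pos m hm π hπ
  intro i hi
  rw [hl] at hi
  rw [hn]
  have : i = 0 ∨ i = 1 := by omega
  rcases this with rfl | rfl
  · rw [s0]
    by_contra hlt
    exact (hsep (π 7) (by omega)).1 (perm_chiU x y m hc π hπ 7 (by norm_num))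
  · rw [s1]
    by_contra hlt
    exact (hsep (π 6) (by omega)).2 (perm_chiU x y m hc π hπ 6 (by norm_num))

/-- the centraliser in `G₂(F)` of a regular torus element is contained in the torus -/
theorem cent_regular (x y : Fˣ) (hreg : ∀ r, 6 ≤ r → r < 12 → chiU x y r ≠ 1)
    (hsep : ∀ s < 6, chiU x y s ≠ chiU x y 7 ∧ chiU x y s ≠ chiU x y 6)
    (g : GL chevG2.Idx F) (hg : g ∈ chevG2.group F) (hc : hG x y * g = g * hG x y) :
    g ∈ chevG2.diagonalSubgroup F := by
  obtain ⟨u₁, hu₁, m, hm, u₂, hu₂, e1, e2, e3, rfl⟩ :=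
    cert12_G2.cent_diag_form (hG x y) (hG_mem_diag x y) g hg hc
  rw [cent_pos_regular x y hreg u₁ hu₁ e1, cent_pos_regular x y hreg u₂ hu₂ e3, one_mul, mul_one]
  exact cent_monomial_regular x y hsep m hm e2

end Cfsg.Agent.Lib.H29.G2Sing
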