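import Mathlib

/-!
# A cubic extension of a finite field, its Frobenius and an element of order `q² + q + 1`
-/

set_option autoImplicit false
set_option linter.unusedSectionVars false
set_option linter.unusedSimpArgs false
set_option linter.unusedVariables false

namespace Cfsg.Agent.Lib.H29.G2Sing

/-- a cubic extension of a finite field with its Frobenius -/
theorem exists_cubic_ext (F : Type*) [Field F] [Fintype F] :
    ∃ (K : Type) (_ : Field K) (_ : Fintype K) (ι : F →+* K) (σ : K →+* K),
      Fintype.card K = (Fintype.card F) ^ 3 ∧ (∀ x, σ x = x ^ Fintype.card F) ∧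
        (∀ x, σ x = x → x ∈ ι.range) := by
  obtain ⟨p, hp⟩ := CharP.exists F
  have : Fact p.Prime := ⟨CharP.char_is_prime F p⟩
  let K := FiniteField.Extension F p 3
  have : Fintype K := Fintype.ofFinite K
  let frob : K ≃ₐ[F] K := FiniteField.Extension.frob F p 3
  refine ⟨K, inferInstance, inferInstance, algebraMap F K, (frob : K →+* K), ?_, ?_, ?_⟩
  · rw [Fintype.card_eq_nat_card, Fintype.card_eq_nat_card, FiniteField.natCard_extension]
  · intro x
    show frob x = _
    rw [FiniteField.Extension.frob_apply, Fintype.card_eq_nat_card]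
  · intro x hx
    have hx' : frob x = x := hx
    have hpow : ∀ i : ℕ, (frob ^ i) x = x := by
      intro i
      induction i with
      | zero => simp
      | succ i ih =>
        rw [pow_succ, AlgEquiv.mul_apply, hx']
        exact ih
    have hall : ∀ g : K ≃ₐ[F] K, g x = x := by
      intro g
      obtain ⟨i, _, rfl⟩ := FiniteField.Extension.exists_frob_pow_eq F p 3 g
      exact hpow i
    exact (IsGalois.mem_range_algebraMap_iff_fixed x).mpr hall

/-- the data of the cubic extension `K` of `F = 𝔽_q` with an element of order `q² + q + 1` -/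
structure SingerData (F K : Type*) [Field F] [Field K] (q : ℕ) where
  /-- the inclusion -/
  ι : F →+* K
  /-- the Frobenius -/
  σ : K →+* K
  /-- an element of order `q² + q + 1` -/
  lam : Kˣ
  hσ : ∀ x, σ x = x ^ q
  hι : ∀ x, σ (ι x) = ι x
  hfix : ∀ x, σ x = x → x ∈ ι.range
  hcube : ∀ x : K, x ^ (q ^ 3) = x
  hlam : orderOf lam = q ^ 2 + q + 1

theorem exists_singerData (F : Type*) [Field F] [Fintype F] (q : ℕ) (hF : Fintype.card F = q) (hq : 2 ≤ q) :
    ∃ (K : Type) (_ : Field K), Nonempty (SingerData F K q) := by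
  obtain ⟨K, iK, fK, ι, σ, hK, hσ, hfix⟩ := exists_cubic_ext F
  rw [hF] at hK hσ
  refine ⟨K, iK, ?_⟩
  -- an element of order `q² + q + 1`
  have hcard : Nat.card Kˣ = (q - 1) * (q ^ 2 + q + 1) := by
    rw [Nat.card_units, Nat.card_eq_fintype_card, hK]
    have h1 : 1 ≤ q := by omega
    obtain ⟨k, rfl⟩ : ∃ k, q = k + 1 := ⟨q - 1, by omega⟩
    have : (k + 1) ^ 3 = k * ((k + 1) ^ 2 + (k + 1) + 1) + 1 := by ring
    rw [this]
    simp
  obtain ⟨g, hg⟩ := IsCyclic.exists_generator (α := Kˣ)
  have hog : orderOf g = (q - 1) * (q ^ 2 + q + 1) := by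
    rw [orderOf_eq_card_of_forall_mem_zpowers hg, hcard]
  have hlam : orderOf (g ^ (q - 1)) = q ^ 2 + q + 1 := by
    rw [orderOf_pow' g (by omega : q - 1 ≠ 0), hog, Nat.gcd_eq_right (Dvd.intro _ rfl)]
    exact Nat.mul_div_cancel_left _ (by omega)
  refine ⟨⟨ι, σ, g ^ (q - 1), hσ, ?_, hfix, ?_, hlam⟩⟩
  · intro x
    rw [hσ, ← map_pow, ← hF, FiniteField.pow_card]
  · intro x
    rw [← hK, FiniteField.pow_card]

end Cfsg.Agent.Lib.H29.G2Sing
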