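import Mathlib
import Cfsg.Agent.Lib.H29.G2SingG
import Cfsg.Agent.Lib.H29.G2SingD

/-!
# The Singer element of `SL₃(F)` and its diagonalisation over the cubic extension
-/

set_option autoImplicit false
set_option linter.unusedSectionVars false
set_option linter.unusedSimpArgs false
set_option linter.unusedVariables false

namespace Cfsg.Agent.Lib.H29.G2Sing

open Matrix

namespace SingerData

variable {F K : Type*} [Field F] [Field K] {q : ℕ} (S : SingerData F K q)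

/-- the three conjugates of `λ` -/
def l0 : K := (S.lam : K)

/-- the three conjugates of `λ` -/
def l1 : K := S.l0 ^ q

/-- the three conjugates of `λ` -/
def l2 : K := S.l1 ^ q

theorem l0_ne : S.l0 ≠ 0 := S.lam.ne_zero

theorem sig_l0 : S.σ S.l0 = S.l1 := S.hσ _

theorem sig_l1 : S.σ S.l1 = S.l2 := S.hσ _

theorem sig_l2 : S.σ S.l2 = S.l0 := by
  rw [S.hσ]
  unfold l2 l1
  rw [← pow_mul, ← pow_mul]
  have : q * (q * q) = q ^ 3 := by ring
  rw [this]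
  exact S.hcube _

theorem l_prod : S.l0 * S.l1 * S.l2 = 1 := by
  unfold l2 l1 l0
  rw [← pow_mul, ← pow_succ', ← pow_add]
  have : q + 1 + q * q = q ^ 2 + q + 1 := by ring
  rw [this, ← S.hlam, ← Units.val_pow_eq_pow_val, pow_orderOf_eq_one]
  rfl

theorem lam_pow_ne (k : ℕ) (h0 : 0 < k) (hk : k < q ^ 2 + q + 1) : S.lam ^ k ≠ 1 := by
  intro h
  have := orderOf_dvd_of_pow_eq_one h
  rw [S.hlam] at this
  exact absurd (Nat.le_of_dvd h0 this) (by omega)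

theorem l0_ne_l1 (hq : 2 ≤ q) : S.l0 ≠ S.l1 := by
  intro h
  unfold l1 l0 at h
  have hlt : q - 1 < q ^ 2 + q + 1 := by
    have h1 : q - 1 < q := by omega
    have h2 : q ≤ q ^ 2 + q := Nat.le_add_left _ _
    omega
  apply S.lam_pow_ne (q - 1) (by omega) hlt
  apply Units.ext
  rw [Units.val_pow_eq_pow_val, Units.val_one]
  have h0 : (S.lam : K) ≠ 0 := S.lam.ne_zero
  have : (S.lam : K) * (S.lam : K) ^ (q - 1) = (S.lam : K) * 1 := by
    rw [← pow_succ', mul_one]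
    have : q - 1 + 1 = q := by omega
    rw [this]
    exact h.symm
  exact mul_left_cancel₀ h0 this

theorem l1_ne_l2 (hq : 2 ≤ q) : S.l1 ≠ S.l2 := by
  intro h
  rw [← S.sig_l0, ← S.sig_l1] at h
  exact S.l0_ne_l1 hq (S.σ.injective h)

theorem l2_ne_l0 (hq : 2 ≤ q) : S.l2 ≠ S.l0 := by
  intro h
  rw [← S.sig_l1, ← S.sig_l2] at h
  exact S.l1_ne_l2 hq (S.σ.injective h)

/-- the Vandermonde determinant -/
def delta : K := (S.l1 - S.l0) * (S.l2 - S.l0) * (S.l2 - S.l1)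

theorem delta_ne (hq : 2 ≤ q) : S.delta ≠ 0 := by
  unfold delta
  refine mul_ne_zero (mul_ne_zero ?_ ?_) ?_
  · exact sub_ne_zero.mpr (S.l0_ne_l1 hq).symm
  · exact sub_ne_zero.mpr (S.l2_ne_l0 hq)
  · exact sub_ne_zero.mpr (S.l1_ne_l2 hq).symm

theorem sig_delta : S.σ S.delta = S.delta := by
  unfold delta
  rw [map_mul, map_mul, map_sub, map_sub, map_sub, S.sig_l0, S.sig_l1, S.sig_l2]
  ring

theorem exists_c2 : ∃ c : F, S.ι c = S.l0 + S.l1 + S.l2 := by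
  have := S.hfix (S.l0 + S.l1 + S.l2) (by
    rw [map_add, map_add, S.sig_l0, S.sig_l1, S.sig_l2]; ring)
  obtain ⟨c, hc⟩ := this
  exact ⟨c, hc⟩

theorem exists_c1 : ∃ c : F, S.ι c = -(S.l0 * S.l1 + S.l0 * S.l2 + S.l1 * S.l2) := by
  have := S.hfix (-(S.l0 * S.l1 + S.l0 * S.l2 + S.l1 * S.l2)) (by
    rw [map_neg, map_add, map_add, map_mul, map_mul, map_mul, S.sig_l0, S.sig_l1, S.sig_l2]; ring)
  obtain ⟨c, hc⟩ := this
  exact ⟨c, hc⟩

/-- the matrix of the Singer element -/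
def cM (c1 c2 : F) : Matrix (Fin 3) (Fin 3) F := !![0, 1, 0; 0, 0, 1; 1, c1, c2]

theorem cM_det (c1 c2 : F) : (cM c1 c2).det = 1 := by
  rw [Matrix.det_fin_three]
  simp [cM]

/-- the matrix of eigenvectors, of determinant one -/
def aM : Matrix (Fin 3) (Fin 3) K :=
  !![S.delta⁻¹, 1, 1; S.delta⁻¹ * S.l0, S.l1, S.l2; S.delta⁻¹ * S.l0 ^ 2, S.l1 ^ 2, S.l2 ^ 2]

theorem aM_det (hq : 2 ≤ q) : S.aM.det = 1 := by
  rw [Matrix.det_fin_three]
  have hd := S.delta_ne hq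
  simp [aM]
  have : S.delta⁻¹ * S.delta = 1 := inv_mul_cancel₀ hd
  have e : S.delta = (S.l1 - S.l0) * (S.l2 - S.l0) * (S.l2 - S.l1) := rfl
  linear_combination this - S.delta⁻¹ * e

/-- the monomial matrix of the Frobenius -/
def qM : Matrix (Fin 3) (Fin 3) K := !![0, 0, S.delta; S.delta⁻¹, 0, 0; 0, 1, 0]

theorem qM_det (hq : 2 ≤ q) : S.qM.det = 1 := by
  rw [Matrix.det_fin_three]
  have hd := S.delta_ne hq
  simp [qM, hd]

theorem aM_sigma (hq : 2 ≤ q) : S.aM.map S.σ = S.aM * S.qM := by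
  have hd : S.σ S.delta⁻¹ = S.delta⁻¹ := by rw [map_inv₀, S.sig_delta]
  have hd0 := S.delta_ne hq
  ext i j
  fin_cases i <;> fin_cases j <;>
    simp [aM, qM, Matrix.mul_apply, Fin.sum_univ_three, hd, S.sig_l0, S.sig_l1, S.sig_l2]
  all_goals first | ring1 | field_simp

theorem cM_aM (c1 c2 : F) (h1 : S.ι c1 = -(S.l0 * S.l1 + S.l0 * S.l2 + S.l1 * S.l2))
    (h2 : S.ι c2 = S.l0 + S.l1 + S.l2) :
    (cM c1 c2).map S.ι * S.aM = S.aM * !![S.l0, 0, 0; 0, S.l1, 0; 0, 0, S.l2] := by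
  have hp := S.l_prod
  ext i j
  fin_cases i <;> fin_cases j <;>
    simp [aM, cM, Matrix.mul_apply, Fin.sum_univ_three, h1, h2]
  all_goals first | ring1 | linear_combination (-S.delta⁻¹) * hp | linear_combination (-1 : K) * hp

theorem l2_eq : (((S.lam * S.lam ^ q)⁻¹ : Kˣ) : K) = S.l2 := by
  have hp := S.l_prod
  unfold l1 l0 at hp
  rw [Units.val_inv_eq_inv_val, Units.val_mul, Units.val_pow_eq_pow_val]
  exact (eq_inv_of_mul_eq_one_right hp).symm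

/-- the Singer element, its matrix of eigenvectors, and the monomial matrix of the Frobenius -/
theorem exists_singer_matrices (hq : 2 ≤ q) :
    ∃ (c : SpecialLinearGroup (Fin 3) F) (a Q : SpecialLinearGroup (Fin 3) K),
      SpecialLinearGroup.map S.ι c = a * dg3 S.lam (S.lam ^ q) * a⁻¹ ∧
      SpecialLinearGroup.map S.σ a = a * Q ∧
      ∀ e1 e2 : Kˣ, Q * dg3 e1 e2 * Q⁻¹ = dg3 (e1 * e2)⁻¹ e1 := by
  obtain ⟨c1, h1⟩ := S.exists_c1
  obtain ⟨c2, h2⟩ := S.exists_c2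
  refine ⟨⟨cM c1 c2, cM_det c1 c2⟩, ⟨S.aM, S.aM_det hq⟩, ⟨S.qM, S.qM_det hq⟩, ?_, ?_, ?_⟩
  · apply eq_mul_inv_of_mul_eq
    apply Subtype.ext
    show (cM c1 c2).map S.ι * S.aM = S.aM * (dg3 S.lam (S.lam ^ q)).1
    rw [S.cM_aM c1 c2 h1 h2, dg3_val, S.l2_eq]
    rfl
  · apply Subtype.ext
    exact S.aM_sigma hq
  · intro e1 e2
    apply mul_inv_eq_of_eq_mul
    apply Subtype.ext
    show S.qM * (dg3 e1 e2).1 = (dg3 (e1 * e2)⁻¹ e1).1 * S.qM
    rw [dg3_val, dg3_val]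
    have e3 : ((e1 * e2)⁻¹ * e1)⁻¹ = e2 := by group
    rw [e3]
    ext i j
    fin_cases i <;> fin_cases j <;>
      simp [qM, Matrix.mul_apply, Fin.sum_univ_three]
    all_goals ring1

theorem map_sigma_dg3 (hq : 2 ≤ q) (e1 e2 : Kˣ) :
    SpecialLinearGroup.map S.σ (dg3 e1 e2) = dg3 (e1 ^ q) (e2 ^ q) := by
  apply Subtype.ext
  show (dg3 e1 e2).1.map S.σ = (dg3 (e1 ^ q) (e2 ^ q)).1
  rw [dg3_val, dg3_val]
  ext i j
  have hq0 : q ≠ 0 := by omega
  fin_cases i <;> fin_cases j <;> simp [S.hσ, mul_pow, hq0]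

end SingerData

end Cfsg.Agent.Lib.H29.G2Sing
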