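import Mathlib
import Cfsg.Agent.Lib.H29.G2SingH
import Cfsg.Agent.Lib.H29.G2SingF

/-!
# The image of the Singer element in `G₂(K)` is a regular torus element
-/

set_option autoImplicit false
set_option linter.unusedSectionVars false
set_option linter.unusedSimpArgs false
set_option linter.unusedVariables false

namespace Cfsg.Agent.Lib.H29.G2Sing

open Cfsg.Lie Matrix Cfsg.Agent.Lib.H29.Chev Cfsg.Agent.Lib.H29.G2Inv

namespace SingerData

variable {F K : Type*} [Field F] [Field K] {q : ℕ} (S : SingerData F K q)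

theorem lam_zpow_ne (e : ℤ) (he0 : e ≠ 0) (hlt : |e| < ((q : ℤ) ^ 2 + q + 1)) : S.lam ^ e ≠ 1 := by
  intro h
  have h1 := orderOf_dvd_iff_zpow_eq_one.mpr h
  rw [S.hlam] at h1
  push_cast at h1
  exact he0 (Int.eq_zero_of_abs_lt_dvd h1 hlt)

/-- the exponent of `λ` in the value of the root `r` -/
def rootExp (q : ℕ) (r : ℕ) : ℤ :=
  (1 + (q : ℤ)) * ([0, -3, -1, 1, -2, 3, -3, 2, -1, 1, 3, 0].getD r 0 : ℤ) +
    (2 + (q : ℤ)) * ([-1, 1, 0, -1, 1, -2, 2, -1, 1, 0, -1, 1].getD r 0 : ℤ)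

theorem chiU_lam (r : ℕ) :
    chiU (S.lam * S.lam ^ q) (S.lam ^ 2 * S.lam ^ q) r = S.lam ^ (rootExp q r) := by
  unfold chiU rootExp
  have e1 : S.lam * S.lam ^ q = S.lam ^ (1 + (q : ℤ)) := by
    rw [_root_.zpow_add, zpow_one, zpow_natCast]
  have e2 : S.lam ^ 2 * S.lam ^ q = S.lam ^ (2 + (q : ℤ)) := by
    rw [_root_.zpow_add, zpow_natCast]
    rfl
  rw [e1, e2, ← _root_.zpow_mul, ← _root_.zpow_mul, ← _root_.zpow_add]

theorem rootExp_vals (q : ℕ) : rootExp q 0 = -q - 2 ∧ rootExp q 1 = -2 * q - 1 ∧ rootExp q 2 = -q - 1 ∧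
    rootExp q 3 = -1 ∧ rootExp q 4 = -q ∧ rootExp q 5 = q - 1 ∧ rootExp q 6 = 1 - q ∧ rootExp q 7 = q ∧
    rootExp q 8 = 1 ∧ rootExp q 9 = 1 + q ∧ rootExp q 10 = 2 * q + 1 ∧ rootExp q 11 = 2 + q := by
  unfold rootExp
  refine ⟨?_, ?_, ?_, ?_, ?_, ?_, ?_, ?_, ?_, ?_, ?_, ?_⟩ <;> simp <;> ring

theorem chiU_reg (hq : 3 ≤ q) (r : ℕ) (h6 : 6 ≤ r) (h12 : r < 12) :
    chiU (S.lam * S.lam ^ q) (S.lam ^ 2 * S.lam ^ q) r ≠ 1 := by
  obtain ⟨v0, v1, v2, v3, v4, v5, v6, v7, v8, v9, v10, v11⟩ := rootExp_vals q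
  have hQ : (3 : ℤ) ≤ (q : ℤ) := by exact_mod_cast hq
  have hQ2 : 3 * (q : ℤ) ≤ (q : ℤ) ^ 2 := by nlinarith
  rw [S.chiU_lam]
  apply S.lam_zpow_ne
  · interval_cases r
    · rw [v6]; omega
    · rw [v7]; omega
    · rw [v8]; omega
    · rw [v9]; omega
    · rw [v10]; omega
    · rw [v11]; omega
  · rw [abs_lt]
    interval_cases r
    · rw [v6]; constructor <;> linarith
    · rw [v7]; constructor <;> linarith
    · rw [v8]; constructor <;> linarith
    · rw [v9]; constructor <;> linarith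
    · rw [v10]; constructor <;> linarith
    · rw [v11]; constructor <;> linarith

theorem chiU_sep (hq : 3 ≤ q) (s : ℕ) (h6 : s < 6) :
    chiU (S.lam * S.lam ^ q) (S.lam ^ 2 * S.lam ^ q) s ≠ chiU (S.lam * S.lam ^ q) (S.lam ^ 2 * S.lam ^ q) 7 ∧
    chiU (S.lam * S.lam ^ q) (S.lam ^ 2 * S.lam ^ q) s ≠ chiU (S.lam * S.lam ^ q) (S.lam ^ 2 * S.lam ^ q) 6 := by
  obtain ⟨v0, v1, v2, v3, v4, v5, v6, v7, v8, v9, v10, v11⟩ := rootExp_vals q
  have hQ : (3 : ℤ) ≤ (q : ℤ) := by exact_mod_cast hq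
  have hQ2 : 3 * (q : ℤ) ≤ (q : ℤ) ^ 2 := by nlinarith
  have key : ∀ r : ℕ, rootExp q s - rootExp q r ≠ 0 →
      |rootExp q s - rootExp q r| < ((q : ℤ) ^ 2 + q + 1) →
      chiU (S.lam * S.lam ^ q) (S.lam ^ 2 * S.lam ^ q) s ≠ chiU (S.lam * S.lam ^ q) (S.lam ^ 2 * S.lam ^ q) r := by
    intro r h0 hlt h
    rw [S.chiU_lam, S.chiU_lam] at h
    apply S.lam_zpow_ne _ h0 hlt
    rw [_root_.zpow_sub, h, mul_inv_cancel]
  constructor
  · apply key
    · interval_cases s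
      · rw [v0, v7]; omega
      · rw [v1, v7]; omega
      · rw [v2, v7]; omega
      · rw [v3, v7]; omega
      · rw [v4, v7]; omega
      · rw [v5, v7]; omega
    · rw [abs_lt]
      interval_cases s
      · rw [v0, v7]; constructor <;> linarith
      · rw [v1, v7]; constructor <;> linarith
      · rw [v2, v7]; constructor <;> linarith
      · rw [v3, v7]; constructor <;> linarith
      · rw [v4, v7]; constructor <;> linarith
      · rw [v5, v7]; constructor <;> linarith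
  · apply key
    · interval_cases s
      · rw [v0, v6]; omega
      · rw [v1, v6]; omega
      · rw [v2, v6]; omega
      · rw [v3, v6]; omega
      · rw [v4, v6]; omega
      · rw [v5, v6]; omega
    · rw [abs_lt]
      interval_cases s
      · rw [v0, v6]; constructor <;> linarith
      · rw [v1, v6]; constructor <;> linarith
      · rw [v2, v6]; constructor <;> linarith
      · rw [v3, v6]; constructor <;> linarith
      · rw [v4, v6]; constructor <;> linarith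
      · rw [v5, v6]; constructor <;> linarith

end SingerData

end Cfsg.Agent.Lib.H29.G2Sing
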