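import Mathlib
import Cfsg.Agent.Lib.H29.G2SingI

/-!
# The centraliser of the Singer element of `G₂(F)`
-/

set_option autoImplicit false
set_option linter.unusedSectionVars false
set_option linter.unusedSimpArgs false
set_option linter.unusedVariables false

namespace Cfsg.Agent.Lib.H29.G2Sing

open Cfsg.Lie Matrix Cfsg.Agent.Lib.H29.Chev Cfsg.Agent.Lib.H29.G2Inv

variable {F K : Type*} [Field F] [Field K]

theorem dg3_mul (a b a' b' : Fˣ) : dg3 a b * dg3 a' b' = dg3 (a * a') (b * b') := by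
  apply Subtype.ext
  show (dg3 a b).1 * (dg3 a' b').1 = (dg3 (a * a') (b * b')).1
  rw [dg3_val, dg3_val, dg3_val]
  ext i j
  fin_cases i <;> fin_cases j <;> simp [Matrix.mul_apply, Fin.sum_univ_three]
  ring

theorem dg3_one : dg3 (1 : Fˣ) 1 = 1 := by
  apply Subtype.ext
  show (dg3 (1 : Fˣ) 1).1 = 1
  rw [dg3_val]
  ext i j
  fin_cases i <;> fin_cases j <;> simp

/-- the torus `{diag(e, e^q, e^{q²})}` -/
def torHom (F : Type*) [Field F] (q : ℕ) : Fˣ →* SpecialLinearGroup (Fin 3) F where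
  toFun e := dg3 e (e ^ q)
  map_one' := by rw [one_pow, dg3_one]
  map_mul' a b := by rw [dg3_mul, mul_pow]

theorem torHom_apply (q : ℕ) (e : Fˣ) : torHom F q e = dg3 e (e ^ q) := rfl

theorem rho_dg3_inj (e1 e2 f1 f2 : Fˣ) (h : rho F (dg3 e1 e2) = rho F (dg3 f1 f2)) : e1 = f1 ∧ e2 = f2 := by
  rw [rho_dg3, rho_dg3] at h
  obtain ⟨h1, h2⟩ := hG_inj _ _ _ _ h
  have e : e1 = f1 := by
    have k1 : e1 = (e1 ^ 2 * e2) * (e1 * e2)⁻¹ := by
      rw [pow_two, _root_.mul_inv_rev]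
      group
    have k2 : f1 = (f1 ^ 2 * f2) * (f1 * f2)⁻¹ := by
      rw [pow_two, _root_.mul_inv_rev]
      group
    rw [k1, k2, h1, h2]
  refine ⟨e, ?_⟩
  rw [e] at h1
  exact mul_left_cancel h1

theorem rho_torHom_injective (q : ℕ) : Function.Injective ((rho F).comp (torHom F q)) := by
  intro e f h
  exact (rho_dg3_inj _ _ _ _ h).1

namespace SingerData

variable {q : ℕ} (S : SingerData F K q)

theorem sigma_comp_iota : S.σ.comp S.ι = S.ι := RingHom.ext S.hι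

/-- the Bruhat--Galois description of an element commuting with the Singer element -/
theorem cent_form (hq : 3 ≤ q) (c : SpecialLinearGroup (Fin 3) F) (a Q : SpecialLinearGroup (Fin 3) K)
    (h1 : SpecialLinearGroup.map S.ι c = a * dg3 S.lam (S.lam ^ q) * a⁻¹)
    (h2 : SpecialLinearGroup.map S.σ a = a * Q)
    (h3 : ∀ e1 e2 : Kˣ, Q * dg3 e1 e2 * Q⁻¹ = dg3 (e1 * e2)⁻¹ e1)
    (g : GL chevG2.Idx F) (hg : g ∈ chevG2.group F) (hc : g * rho F c = rho F c * g) :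
    ∃ e : Kˣ, e ^ (q ^ 2 + q + 1) = 1 ∧
      bc chevG2 S.ι g = rho K a * rho K (torHom K q e) * (rho K a)⁻¹ := by
  have hq2 : 2 ≤ q := by omega
  set A := rho K a with hA
  have hAG : A ∈ chevG2.group K := rho_mem_group a
  have hh : rho K (dg3 S.lam (S.lam ^ q)) = hG (S.lam * S.lam ^ q) (S.lam ^ 2 * S.lam ^ q) := rho_dg3 _ _
  have key0 : bc chevG2 S.ι (rho F c) = A * hG (S.lam * S.lam ^ q) (S.lam ^ 2 * S.lam ^ q) * A⁻¹ := by
    rw [bc_rho, h1, map_mul, map_mul, map_inv, hh]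
  have hgK : bc chevG2 S.ι g ∈ chevG2.group K :=
    cert12_G2.c6.c2.bc_group_le S.ι (Subgroup.mem_map_of_mem _ hg)
  set g' := A⁻¹ * bc chevG2 S.ι g * A with hg'
  have hg'G : g' ∈ chevG2.group K := mul_mem (mul_mem (inv_mem hAG) hgK) hAG
  have hc' : bc chevG2 S.ι g * (A * hG (S.lam * S.lam ^ q) (S.lam ^ 2 * S.lam ^ q) * A⁻¹) =
      (A * hG (S.lam * S.lam ^ q) (S.lam ^ 2 * S.lam ^ q) * A⁻¹) * bc chevG2 S.ι g := by
    rw [← key0, ← map_mul, ← map_mul, hc]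
  have hcomm : hG (S.lam * S.lam ^ q) (S.lam ^ 2 * S.lam ^ q) * g' =
      g' * hG (S.lam * S.lam ^ q) (S.lam ^ 2 * S.lam ^ q) := by
    have e1 : hG (S.lam * S.lam ^ q) (S.lam ^ 2 * S.lam ^ q) * g' =
        A⁻¹ * ((A * hG (S.lam * S.lam ^ q) (S.lam ^ 2 * S.lam ^ q) * A⁻¹) * bc chevG2 S.ι g) * A := by
      rw [hg']; group
    have e2 : g' * hG (S.lam * S.lam ^ q) (S.lam ^ 2 * S.lam ^ q) =
        A⁻¹ * (bc chevG2 S.ι g * (A * hG (S.lam * S.lam ^ q) (S.lam ^ 2 * S.lam ^ q) * A⁻¹)) * A := by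
      rw [hg']; group
    rw [e1, e2, hc']
  have hd := cent_regular _ _ (fun r h6 h12 => S.chiU_reg hq r h6 h12) (fun s hs => S.chiU_sep hq s hs)
    g' hg'G hcomm
  obtain ⟨x, y, hxy⟩ := exists_hG g' hd
  -- `g' = rho (dg3 e1 e2)`
  have hT : g' = rho K (dg3 (y * x⁻¹) (x ^ 2 * y⁻¹)) := by
    rw [hxy, rho_dg3]
    congr 1
    · rw [pow_two]
      have : y * x⁻¹ * (x * x * y⁻¹) = x * (y * y⁻¹) * (x⁻¹ * x) := by
        simp only [mul_comm, mul_left_comm, mul_assoc]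
      rw [this, mul_inv_cancel, inv_mul_cancel, mul_one, mul_one]
    · rw [pow_two, pow_two]
      have : y * x⁻¹ * (y * x⁻¹) * (x * x * y⁻¹) = y * (y * y⁻¹) * (x⁻¹ * x) * (x⁻¹ * x) := by
        simp only [mul_comm, mul_left_comm, mul_assoc]
      rw [this, mul_inv_cancel, inv_mul_cancel, mul_one, mul_one, mul_one]
  set e1 := y * x⁻¹ with he1
  set e2 := x ^ 2 * y⁻¹ with he2
  have hgA : bc chevG2 S.ι g = A * rho K (dg3 e1 e2) * A⁻¹ := by
    rw [← hT, hg']; group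
  -- apply the Frobenius
  have hfix : bc chevG2 S.σ (bc chevG2 S.ι g) = bc chevG2 S.ι g := by
    rw [← bc_comp, S.sigma_comp_iota]
  have hsA : bc chevG2 S.σ A = A * rho K Q := by
    rw [hA, bc_rho, h2, map_mul]
  have hsT : bc chevG2 S.σ (rho K (dg3 e1 e2)) = rho K (dg3 (e1 ^ q) (e2 ^ q)) := by
    rw [bc_rho, S.map_sigma_dg3 hq2]
  have hfin : rho K (dg3 e1 e2) = rho K (dg3 (e1 ^ q * e2 ^ q)⁻¹ (e1 ^ q)) := by
    have e3 : bc chevG2 S.σ (bc chevG2 S.ι g) =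
        A * rho K (Q * dg3 (e1 ^ q) (e2 ^ q) * Q⁻¹) * A⁻¹ := by
      rw [hgA, map_mul, map_mul, map_inv, hsA, hsT, map_mul, map_mul, map_inv]
      group
    rw [hfix, hgA, h3] at e3
    have : rho K (dg3 e1 e2) = A⁻¹ * (A * rho K (dg3 e1 e2) * A⁻¹) * A := by group
    rw [this, e3]
    group
  obtain ⟨k1, k2⟩ := rho_dg3_inj _ _ _ _ hfin
  refine ⟨e1, ?_, ?_⟩
  · have : e1 ^ (q ^ 2 + q + 1) = e1 * (e1 ^ q * e2 ^ q) := by
      rw [k2, ← pow_mul]
      have : q ^ 2 + q + 1 = 1 + (q + q * q) := by ring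
      rw [this, pow_add, pow_add, pow_one]
    rw [this]
    nth_rewrite 1 [k1]
    exact inv_mul_cancel _
  · rw [hgA, torHom_apply, ← k2]

end SingerData

end Cfsg.Agent.Lib.H29.G2Sing
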