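import Mathlib
import Cfsg.Agent.Lib.H25.GsDefs

/-!
# S5665 piece (SF2) (helper29, for helper25): an element outside the normaliser of `K = F + F J` conjugates `J`
outside `K` (itself or its inverse).  General index type version of helper10's `exists_conj_not_mem`.
-/

set_option autoImplicit false

namespace Cfsg.Agent.Lib.H29.Gs

open Matrix Module
open Cfsg Cfsg.Geo

/-- general index type: if every element of `H` conjugates `J` into `K = F + F J`, then `H ≤ N(K)` -/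
theorem exists_conj_not_mem_gen {F : Type*} [Field F] {ι : Type} [Fintype ι] [DecidableEq ι]
    {J : Matrix ι ι F} (K : Subalgebra F (Matrix ι ι F)) (hJK : J ∈ K)
    (hKJ : ∀ k ∈ K, ∃ α β : F, k = α • (1 : Matrix ι ι F) + β • J)
    {H : Subgroup (GL ι F)} (g : GL ι F) (hgH : g ∈ H) (hg : g ∉ subalgebraNormalizer K) :
    ∃ g₁ ∈ H, ¬ ∃ α β : F, ((g₁⁻¹ : GL ι F) : Matrix ι ι F) * J * (g₁ : Matrix ι ι F) =
      α • (1 : Matrix ι ι F) + β • J := by
  have hmemK : ∀ α β : F, α • (1 : Matrix ι ι F) + β • J ∈ K := fun α β =>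
    K.add_mem (K.smul_mem K.one_mem α) (K.smul_mem hJK β)
  -- conjugation by `x` maps `K` into `K` as soon as it maps `J` into `K`
  have key : ∀ x : GL ι F,
      (∃ α β : F, ((x⁻¹ : GL ι F) : Matrix ι ι F) * J * (x : Matrix ι ι F) =
          α • (1 : Matrix ι ι F) + β • J) →
      ∀ k ∈ K, ((x⁻¹ : GL ι F) : Matrix ι ι F) * k * (x : Matrix ι ι F) ∈ K := by
    rintro x ⟨α, β, hx⟩ k hk
    obtain ⟨a, b, rfl⟩ := hKJ k hk
    have hinv : ((x⁻¹ : GL ι F) : Matrix ι ι F) * (x : Matrix ι ι F) = 1 := by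
      rw [← Units.val_mul, inv_mul_cancel, Units.val_one]
    rw [mul_add, add_mul, Matrix.mul_smul, Matrix.smul_mul, Matrix.mul_smul, Matrix.smul_mul,
      mul_one, hinv, hx]
    exact K.add_mem (K.smul_mem K.one_mem a) (K.smul_mem (hmemK α β) b)
  by_contra hcon
  push Not at hcon
  apply hg
  have h1 := key g (hcon g hgH)
  have h2 := key g⁻¹ (hcon g⁻¹ (H.inv_mem hgH))
  rw [inv_inv] at h2
  have hinv : (g : Matrix ι ι F) * ((g⁻¹ : GL ι F) : Matrix ι ι F) = 1 := by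
    rw [← Units.val_mul, mul_inv_cancel, Units.val_one]
  have hinv' : ((g⁻¹ : GL ι F) : Matrix ι ι F) * (g : Matrix ι ι F) = 1 := by
    rw [← Units.val_mul, inv_mul_cancel, Units.val_one]
  intro k
  constructor
  · exact h2 k
  · intro hk
    have h3 := h1 _ hk
    have e : ((g⁻¹ : GL ι F) : Matrix ι ι F) *
        ((g : Matrix ι ι F) * k * ((g⁻¹ : GL ι F) : Matrix ι ι F)) * (g : Matrix ι ι F) = k := by
      rw [← mul_assoc, ← mul_assoc, hinv', one_mul, mul_assoc, hinv', mul_one]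
    rwa [e] at h3

/-- **(SF2)** -/
theorem exists_conj_not_mem_s {F : Type*} [Field F] {m : ℕ} {J : Matrix (Fin m ⊕ Fin m) (Fin m ⊕ Fin m) F}
    (K : Subalgebra F (Matrix (Fin m ⊕ Fin m) (Fin m ⊕ Fin m) F))
    (hJK : J ∈ K)
    (hKJ : ∀ k ∈ K, ∃ α β : F, k = α • (1 : Matrix (Fin m ⊕ Fin m) (Fin m ⊕ Fin m) F) + β • J)
    {H : Subgroup (GL (Fin m ⊕ Fin m) F)} (g : GL (Fin m ⊕ Fin m) F) (hgH : g ∈ H)
    (hg : g ∉ subalgebraNormalizer K) :
    ∃ g₁ ∈ H, ¬ ∃ α β : F,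
      ((g₁⁻¹ : GL (Fin m ⊕ Fin m) F) : Matrix (Fin m ⊕ Fin m) (Fin m ⊕ Fin m) F) * J *
        (g₁ : Matrix (Fin m ⊕ Fin m) (Fin m ⊕ Fin m) F) =
          α • (1 : Matrix (Fin m ⊕ Fin m) (Fin m ⊕ Fin m) F) + β • J :=
  exists_conj_not_mem_gen K hJK hKJ g hgH hg

end Cfsg.Agent.Lib.H29.Gs
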