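/-
S4221 (architect helper21), piece **CARD** (helper29): orbit–stabilizer for `G` on `Fin 4 ↪ α`.
-/
import Mathlib
import Cfsg.Agent.Lib.H21.Hall4Defs

set_option autoImplicit false
set_option linter.unusedSectionVars false

namespace Cfsg.Agent.Lib.H29.Hall4

open Equiv Cfsg.Agent.Lib.H21.Hall4

variable {α : Type*} [Fintype α] [DecidableEq α] {G : Subgroup (Perm α)}

/-- the stabilizer of `s` in `↥G` (acting on embeddings) is `st G s` -/
theorem mem_stabilizer_iff_st (s : Fin 4 ↪ α) (g : ↥G) :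
    g ∈ MulAction.stabilizer (↥G) s ↔ (g : Perm α) ∈ st G s := by
  rw [MulAction.mem_stabilizer_iff, mem_st]
  constructor
  · intro h
    refine ⟨g.2, fun i => ?_⟩
    have h1 : (g • s) i = s i := congrArg (fun f : Fin 4 ↪ α => f i) h
    exact h1
  · rintro ⟨_, h⟩
    ext i
    exact h i

theorem card_stabilizer_eq_st (s : Fin 4 ↪ α) :
    Nat.card (MulAction.stabilizer (↥G) s) = Nat.card (st G s) := by
  refine Nat.card_congr
    { toFun := fun g => ⟨(g.1 : Perm α), (mem_stabilizer_iff_st s g.1).1 g.2⟩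
      invFun := fun g => ⟨⟨g.1, st_le G s g.2⟩, (mem_stabilizer_iff_st s _).2 g.2⟩
      left_inv := fun g => rfl
      right_inv := fun g => rfl }

/-- Orbit–stabilizer for `G` on `Fin 4 ↪ α`. -/
theorem card_G (hG : Hyp G) (s : Fin 4 ↪ α) :
    Nat.card G = (Fintype.card α).descFactorial 4 * Nat.card (st G s) := by
  have horb : MulAction.orbit (↥G) s = Set.univ := by
    ext s'
    simp only [Set.mem_univ, iff_true]
    obtain ⟨g, hg, hgs⟩ := hG.trans s s'
    refine ⟨⟨g, hg⟩, ?_⟩
    ext i
    exact hgs i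
  have h1 : Nat.card G = Nat.card (↥G ⧸ MulAction.stabilizer (↥G) s) *
      Nat.card (MulAction.stabilizer (↥G) s) :=
    Subgroup.card_eq_card_quotient_mul_card_subgroup _
  have h2 : Nat.card (↥G ⧸ MulAction.stabilizer (↥G) s) = Nat.card (MulAction.orbit (↥G) s) :=
    Nat.card_congr (MulAction.orbitEquivQuotientStabilizer (↥G) s).symm
  have h3 : Nat.card (MulAction.orbit (↥G) s) = (Fintype.card α).descFactorial 4 := by
    rw [horb, Nat.card_congr (Equiv.Set.univ _), Nat.card_eq_fintype_card,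
      Fintype.card_embedding_eq, Fintype.card_fin]
  rw [h1, h2, h3, card_stabilizer_eq_st]

end Cfsg.Agent.Lib.H29.Hall4
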