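/-
S4221 (architect helper21), piece **CUBE** (helper29): for `n = 11` the 4-point stabilizer embeds in `Sym(7)`,
and an odd cube dividing `5040` is `1`.
-/
import Mathlib
import Cfsg.Agent.Lib.H21.Hall4Defs

set_option autoImplicit false
set_option linter.unusedSectionVars false

namespace Cfsg.Agent.Lib.H29.Hall4

open Equiv Cfsg.Agent.Lib.H21.Hall4

variable {α : Type*} [Fintype α] [DecidableEq α] {G : Subgroup (Perm α)}

/-- `st G s` lies in the image of `Perm {x // x ∉ range s}` -/
theorem st_le_range_ofSubtype (s : Fin 4 ↪ α) :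
    st G s ≤ (Perm.ofSubtype : Perm {x // x ∉ Set.range s} →* Perm α).range := by
  intro g hg
  have hfix : ∀ i, g (s i) = s i := hg.2
  have h1 : ∀ x, g x ∉ Set.range s ↔ x ∉ Set.range s := by
    intro x
    constructor
    · rintro hx ⟨i, hi⟩
      apply hx
      refine ⟨i, ?_⟩
      rw [← hi, hfix]
    · rintro hx ⟨i, hi⟩
      apply hx
      refine ⟨i, ?_⟩
      apply g.injective
      rw [hfix, hi]
  have h2 : ∀ x, g x ≠ x → x ∉ Set.range s := by
    rintro x hx ⟨i, hi⟩
    apply hx
    rw [← hi, hfix]
  exact ⟨Perm.subtypePerm g h1, Perm.ofSubtype_subtypePerm h1 h2⟩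

theorem card_st_dvd_factorial (s : Fin 4 ↪ α) :
    Nat.card (st G s) ∣ (Fintype.card α - 4).factorial := by
  have h1 : Nat.card (st G s) ∣
      Nat.card ((Perm.ofSubtype : Perm {x // x ∉ Set.range s} →* Perm α).range) :=
    Subgroup.card_dvd_of_le (st_le_range_ofSubtype s)
  have h2 : Nat.card ((Perm.ofSubtype : Perm {x // x ∉ Set.range s} →* Perm α).range) =
      Nat.card (Perm {x // x ∉ Set.range s}) :=
    (Nat.card_congr (MonoidHom.ofInjective Perm.ofSubtype_injective).toEquiv).symm
  have h3 : Fintype.card {x // x ∉ Set.range s} = Fintype.card α - 4 := by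
    rw [Fintype.card_subtype_compl, ← Set.toFinset_card, Set.toFinset_range,
      Finset.card_image_of_injective _ s.injective, Finset.card_univ, Fintype.card_fin]
  have h4 : Nat.card (Perm {x // x ∉ Set.range s}) = (Fintype.card α - 4).factorial := by
    rw [Nat.card_eq_fintype_card, Fintype.card_perm, h3]
  rw [h2, h4] at h1
  exact h1

/-- `st G s` acts faithfully on the 7 other points, so its order divides `7! = 5040`; an odd cube
dividing `5040 = 2^4 3^2 5 7` is `1`. -/
theorem st_trivial_of_cube (hG : Hyp G) (h11 : Fintype.card α = 11) (s : Fin 4 ↪ α) (k : ℕ)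
    (hk : Nat.card (st G s) = k ^ 3) : Nat.card (st G s) = 1 := by
  have hd : Nat.card (st G s) ∣ 5040 := by
    have := card_st_dvd_factorial (G := G) s
    rw [h11] at this
    exact this
  have hodd : Odd (Nat.card (st G s)) := hG.odd s
  rw [hk] at hd hodd ⊢
  have hk17 : k ≤ 17 := by
    by_contra hlt
    rw [not_le] at hlt
    have h18 : 18 ^ 3 ≤ k ^ 3 := Nat.pow_le_pow_left hlt 3
    have hle : k ^ 3 ≤ 5040 := Nat.le_of_dvd (by norm_num) hd
    omega
  have hkodd : Odd k := by
    rcases Nat.even_or_odd k with he | ho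
    · exact absurd ((Nat.even_pow.2 ⟨he, by norm_num⟩ : Even (k ^ 3))) (Nat.not_even_iff_odd.2 hodd)
    · exact ho
  interval_cases k <;> first | rfl | (exfalso; revert hd; decide) | (exfalso; revert hkodd; decide)

end Cfsg.Agent.Lib.H29.Hall4
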