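/-
S4221 (architect helper21), piece **SMALL** (helper29): degrees `n ≤ 7`.
-/
import Mathlib
import Cfsg.Agent.Lib.H21.Hall4Defs
import Cfsg.Agent.Lib.H29.Hall4CARD
import Cfsg.Agent.Lib.H29.Hall4CUBE

set_option autoImplicit false
set_option linter.unusedSectionVars false

namespace Cfsg.Agent.Lib.H29.Hall4

open Equiv Cfsg.Agent.Lib.H21.Hall4

variable {α : Type*} [Fintype α] [DecidableEq α] {G : Subgroup (Perm α)}

/-- `Sym(7)` has no subgroup of order `840` (index `6`): `A₇` is simple. -/
theorem no_card_840 (h7 : Fintype.card α = 7) (hc : Nat.card G = 840) : False := by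
  have hnt : Nontrivial α := by
    rw [← Fintype.one_lt_card_iff_nontrivial, h7]
    norm_num
  have hperm : Nat.card (Perm α) = 5040 := by
    rw [Nat.card_eq_fintype_card, Fintype.card_perm, h7]
    rfl
  have hA : Nat.card (alternatingGroup α) = 2520 := by
    have := two_mul_nat_card_alternatingGroup (α := α)
    rw [hperm] at this
    omega
  have hidx : G.index = 6 := by
    have := G.index_mul_card
    rw [hc, hperm] at this
    omega
  have hsimple : IsSimpleGroup (alternatingGroup α) :=
    alternatingGroup.isSimpleGroup (by rw [Nat.card_eq_fintype_card, h7]; norm_num)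
  let φ : ↥(alternatingGroup α) →* Perm (Perm α ⧸ G) :=
    (MulAction.toPermHom (Perm α) (Perm α ⧸ G)).comp (alternatingGroup α).subtype
  rcases (MonoidHom.normal_ker φ).eq_bot_or_eq_top with hk | hk
  · -- injective: 2520 ≤ 6!
    have hinj : Function.Injective φ := (MonoidHom.ker_eq_bot_iff φ).1 hk
    have h1 := Nat.card_le_card_of_injective φ hinj
    rw [Nat.card_perm, hA] at h1
    have h2 : Nat.card (Perm α ⧸ G) = 6 := hidx
    rw [h2] at h1
    revert h1
    decide
  · -- trivial action: A₇ ≤ G
    have hle : alternatingGroup α ≤ G := by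
      intro a ha
      have h1 : (⟨a, ha⟩ : ↥(alternatingGroup α)) ∈ φ.ker := by
        rw [hk]
        exact Subgroup.mem_top _
      rw [MonoidHom.mem_ker] at h1
      have h2 := congrArg (fun f : Perm (Perm α ⧸ G) => f ((1 : Perm α) : Perm α ⧸ G)) h1
      have h3 : ((a * 1 : Perm α) : Perm α ⧸ G) = ((1 : Perm α) : Perm α ⧸ G) := h2
      rw [mul_one, QuotientGroup.eq] at h3
      have h4 : a⁻¹ * 1 ∈ G := h3
      rw [mul_one] at h4
      have := G.inv_mem h4
      rw [inv_inv] at this
      exact this
    have := Subgroup.card_dvd_of_le hle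
    rw [hA, hc] at this
    revert this
    decide

theorem eq_top_of_card (h : Nat.card G = Nat.card (Perm α)) : G = ⊤ :=
  Subgroup.eq_top_of_card_eq G h

theorem eq_alt_of_card (h : 2 * Nat.card G = Nat.card (Perm α)) : G = alternatingGroup α := by
  apply Equiv.Perm.eq_alternatingGroup_of_index_eq_two
  have h1 := G.index_mul_card
  rw [← h] at h1
  have hpos : 0 < Nat.card G := Nat.card_pos
  have : G.index * Nat.card G = 2 * Nat.card G := h1
  exact Nat.eq_of_mul_eq_mul_right hpos this

/-- `n = 4, 5`: `|G| ≥ n!/(n-4)! = n!`.  `n = 6`: `st G s` has odd order and embeds in `Sym(2)`, so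
`|G| = 360`, index 2, `G = A₆`.  `n = 7`: `|st G s| ∈ {1, 3}`; `3` gives index 2; `1` gives index 6,
impossible since `A₇` is simple (`G ⊓ A₇` has index `≤ 6` in `A₇`, coset action). -/
theorem small (hG : Hyp G) (x : Fin 4 ↪ α) (h : Fintype.card α ≤ 7) :
    ((Fintype.card α = 4 ∨ Fintype.card α = 5) ∧ G = ⊤) ∨
      ((Fintype.card α = 6 ∨ Fintype.card α = 7) ∧ G = alternatingGroup α) := by
  have h4 : 4 ≤ Fintype.card α := by
    have := Fintype.card_le_of_embedding x
    rw [Fintype.card_fin] at this
    exact this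
  have hcard := card_G hG x
  have hdvd := card_st_dvd_factorial (G := G) x
  have hodd : Odd (Nat.card (st G x)) := hG.odd x
  have hperm : Nat.card (Perm α) = (Fintype.card α).factorial := by
    rw [Nat.card_eq_fintype_card, Fintype.card_perm]
  obtain ⟨n, hn⟩ : ∃ n, Fintype.card α = n := ⟨_, rfl⟩
  obtain ⟨c, hcdef⟩ : ∃ c, Nat.card (st G x) = c := ⟨_, rfl⟩
  rw [hn] at h h4 hcard hdvd hperm ⊢
  rw [hcdef] at hcard hdvd hodd
  interval_cases n
  · -- n = 4
    left
    refine ⟨Or.inl rfl, ?_⟩
    have hc1 : c = 1 := by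
      have : c ∣ 1 := hdvd
      exact Nat.dvd_one.1 this
    apply eq_top_of_card
    rw [hcard, hperm, hc1]
    rfl
  · -- n = 5
    left
    refine ⟨Or.inr rfl, ?_⟩
    have hc1 : c = 1 := by
      have : c ∣ 1 := hdvd
      exact Nat.dvd_one.1 this
    apply eq_top_of_card
    rw [hcard, hperm, hc1]
    rfl
  · -- n = 6
    right
    refine ⟨Or.inl rfl, ?_⟩
    have hc1 : c = 1 := by
      have h2 : c ∣ 2 := hdvd
      have hle : c ≤ 2 := Nat.le_of_dvd (by norm_num) h2
      interval_cases c
      · exact absurd hodd (by decide)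
      · rfl
      · exact absurd hodd (by decide)
    apply eq_alt_of_card
    rw [hcard, hperm, hc1]
    rfl
  · -- n = 7
    right
    refine ⟨Or.inr rfl, ?_⟩
    have hc13 : c = 1 ∨ c = 3 := by
      have h6 : c ∣ 6 := hdvd
      have hle : c ≤ 6 := Nat.le_of_dvd (by norm_num) h6
      interval_cases c
      · exact absurd hodd (by decide)
      · exact Or.inl rfl
      · exact absurd hodd (by decide)
      · exact Or.inr rfl
      · exact absurd hodd (by decide)
      · exact absurd h6 (by decide)
      · exact absurd hodd (by decide)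
    rcases hc13 with hc1 | hc3
    · exfalso
      apply no_card_840 (G := G) hn
      rw [hcard, hc1]
      rfl
    · apply eq_alt_of_card
      rw [hcard, hperm, hc3]
      rfl

end Cfsg.Agent.Lib.H29.Hall4
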