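/-
S3050 (architect helper15), piece **FIN2** (helper29): from equivariant coordinates `Q ≃ (K²)^k` to the direct
decomposition of `Q` into natural modules.
-/
import Mathlib
import Cfsg.Agent.Lib.H15.HigBasic
import Cfsg.Agent.Lib.H15.Nat2
import Cfsg.Agent.Lib.H15.Nat5
import Cfsg.Prelude.Def_BaumannBlocks

set_option autoImplicit false
set_option linter.unusedSectionVars false

namespace Cfsg.Agent.Lib.H29.Hig

open Matrix Cfsg.Agent.Lib.H2.SL2 Cfsg.Agent.Lib.H15.Nat Cfsg.Agent.Lib.H15.Hig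
open scoped IsMulCommutative

section fin2
variable {K : Type*} [Field K] {G : Type*} [Group G] {Q : Subgroup G} {k : ℕ}

/-- the elements of `Q` supported on the coordinate `i` -/
def coordSub (Φ : ↥Q ≃* Multiplicative (Fin k → Fin 2 → K)) (i : Fin k) : Subgroup ↥Q where
  carrier := {q | ∀ j, j ≠ i → Multiplicative.toAdd (Φ q) j = 0}
  one_mem' := by
    intro j _
    rw [map_one]
    rfl
  mul_mem' := by
    intro a b ha hb j hj
    rw [map_mul, toAdd_mul, Pi.add_apply, ha j hj, hb j hj, add_zero]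
  inv_mem' := by
    intro a ha j hj
    rw [map_inv, toAdd_inv, Pi.neg_apply, ha j hj, neg_zero]

/-- the elements of `Q` vanishing at the coordinate `i` -/
def coordKer (Φ : ↥Q ≃* Multiplicative (Fin k → Fin 2 → K)) (i : Fin k) : Subgroup ↥Q where
  carrier := {q | Multiplicative.toAdd (Φ q) i = 0}
  one_mem' := by
    show Multiplicative.toAdd (Φ 1) i = 0
    rw [map_one]
    rfl
  mul_mem' := by
    intro a b ha hb
    show Multiplicative.toAdd (Φ (a * b)) i = 0
    rw [map_mul, toAdd_mul, Pi.add_apply, ha, hb, add_zero]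
  inv_mem' := by
    intro a ha
    show Multiplicative.toAdd (Φ a⁻¹) i = 0
    rw [map_inv, toAdd_inv, Pi.neg_apply, ha, neg_zero]

theorem mem_coordSub {Φ : ↥Q ≃* Multiplicative (Fin k → Fin 2 → K)} {i : Fin k} {q : ↥Q} :
    q ∈ coordSub Φ i ↔ ∀ j, j ≠ i → Multiplicative.toAdd (Φ q) j = 0 := Iff.rfl

theorem mem_coordKer {Φ : ↥Q ≃* Multiplicative (Fin k → Fin 2 → K)} {i : Fin k} {q : ↥Q} :
    q ∈ coordKer Φ i ↔ Multiplicative.toAdd (Φ q) i = 0 := Iff.rfl

theorem coordSub_le_coordKer (Φ : ↥Q ≃* Multiplicative (Fin k → Fin 2 → K)) {i j : Fin k}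
    (h : i ≠ j) : coordSub Φ j ≤ coordKer Φ i := fun _ hq => hq i h

theorem eq_one_of_mem_both (Φ : ↥Q ≃* Multiplicative (Fin k → Fin 2 → K)) {i : Fin k} {q : ↥Q}
    (h1 : q ∈ coordSub Φ i) (h2 : q ∈ coordKer Φ i) : q = 1 := by
  apply Φ.injective
  rw [map_one]
  apply Multiplicative.toAdd.injective
  funext j
  by_cases hj : j = i
  · rw [hj]
    exact h2
  · exact h1 j hj

theorem single_mem_coordSub (Φ : ↥Q ≃* Multiplicative (Fin k → Fin 2 → K)) (i : Fin k)
    (y : Fin 2 → K) : Φ.symm (Multiplicative.ofAdd (Pi.single i y)) ∈ coordSub Φ i := by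
  intro j hj
  rw [MulEquiv.apply_symm_apply, toAdd_ofAdd, Pi.single_eq_of_ne hj]

end fin2

theorem sections_of_coords {K : Type*} [Field K] {G : Type*} [Group G]
    (π : G →* SpecialLinearGroup (Fin 2) K) (hπ : Function.Surjective π)
    (Q : Subgroup G) [Q.Normal] {k : ℕ} (Φ : ↥Q ≃* Multiplicative (Fin k → Fin 2 → K))
    (hΦ : ∀ (g : G) (q q' : ↥Q), (q' : G) = g * q * g⁻¹ → ∀ i,
        Multiplicative.toAdd (Φ q') i =
          ((π g : SpecialLinearGroup (Fin 2) K) : Matrix (Fin 2) (Fin 2) K).mulVec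
            (Multiplicative.toAdd (Φ q) i)) :
    ∃ Vs : Fin k → Subgroup G, (∀ i, Vs i ≤ Q ∧ (Vs i).Normal ∧
        Cfsg.ActsAsSL2OnSection K ⊤ ⊤ (Vs i) ⊥) ∧ iSupIndep Vs ∧ ⨆ i, Vs i = Q := by
  classical
  have hQn : ∀ (g : G) {x : G}, x ∈ Q → g * x * g⁻¹ ∈ Q := fun g x hx =>
    (inferInstance : Q.Normal).conj_mem x hx g
  let Vs : Fin k → Subgroup G := fun i => (coordSub Φ i).map Q.subtype
  have hle : ∀ i, Vs i ≤ Q := fun i => Subgroup.map_subtype_le _
  -- membership in `Vs i`
  have hmem : ∀ i (x : G) (hx : x ∈ Q), x ∈ Vs i ↔ (⟨x, hx⟩ : ↥Q) ∈ coordSub Φ i := by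
    intro i x hx
    constructor
    · rintro ⟨q, hq, rfl⟩
      exact hq
    · intro h
      exact ⟨⟨x, hx⟩, h, rfl⟩
  -- conjugation invariance
  have hconj : ∀ i (g : G) (x : G), x ∈ Vs i → g * x * g⁻¹ ∈ Vs i := by
    intro i g x hx
    have hxQ : x ∈ Q := hle i hx
    rw [hmem i _ (hQn g hxQ)]
    intro j hj
    rw [hΦ g ⟨x, hxQ⟩ ⟨g * x * g⁻¹, hQn g hxQ⟩ rfl j, ((hmem i x hxQ).1 hx) j hj, Matrix.mulVec_zero]
  have hnormal : ∀ i, (Vs i).Normal := fun i => ⟨fun x hx g => hconj i g x hx⟩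
  refine ⟨Vs, fun i => ⟨hle i, hnormal i, ?_⟩, ?_, ?_⟩
  · -- the natural module structure
    refine ⟨?_, bot_le, ?_⟩
    · intro g _
      have := hnormal i
      rw [Subgroup.normalizer_eq_top]
      exact Subgroup.mem_top g
    · let ρ : ↥(⊤ : Subgroup G) →* SpecialLinearGroup (Fin 2) K :=
        π.comp (⊤ : Subgroup G).subtype
      let ψ : ↥(Vs i) →* Multiplicative (Fin 2 → K) :=
        { toFun := fun u => Multiplicative.ofAdd
            (Multiplicative.toAdd (Φ (Subgroup.inclusion (hle i) u)) i)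
          map_one' := by
            rw [map_one, map_one]
            rfl
          map_mul' := by
            intro u v
            rw [map_mul, map_mul, toAdd_mul, Pi.add_apply, ofAdd_add] }
      have hψ : ∀ u : ↥(Vs i), Multiplicative.toAdd (ψ u) =
          Multiplicative.toAdd (Φ (Subgroup.inclusion (hle i) u)) i := fun u => rfl
      refine ⟨ρ, ψ, ?_, ?_, ?_, ?_⟩
      · rw [MonoidHom.range_eq_top]
        intro s
        obtain ⟨g, hg⟩ := hπ s
        exact ⟨⟨g, Subgroup.mem_top g⟩, hg⟩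
      · intro y
        have hq := single_mem_coordSub Φ i (Multiplicative.toAdd y)
        refine ⟨⟨(Φ.symm (Multiplicative.ofAdd (Pi.single i (Multiplicative.toAdd y))) : ↥Q),
          ⟨_, hq, rfl⟩⟩, ?_⟩
        apply Multiplicative.toAdd.injective
        rw [hψ]
        have h1 : Subgroup.inclusion (hle i)
            ⟨(Φ.symm (Multiplicative.ofAdd (Pi.single i (Multiplicative.toAdd y))) : ↥Q),
              ⟨_, hq, rfl⟩⟩ = Φ.symm (Multiplicative.ofAdd (Pi.single i (Multiplicative.toAdd y))) :=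
          Subtype.ext rfl
        rw [h1, MulEquiv.apply_symm_apply, toAdd_ofAdd, Pi.single_eq_same]
      · intro u
        rw [Subgroup.mem_bot]
        constructor
        · intro h
          have h1 : Subgroup.inclusion (hle i) u ∈ coordSub Φ i :=
            (hmem i u.1 (hle i u.2)).1 u.2
          have h2 : Subgroup.inclusion (hle i) u ∈ coordKer Φ i := by
            rw [mem_coordKer, ← hψ, h]
            rfl
          have h3 := eq_one_of_mem_both Φ h1 h2
          have h4 := congrArg (fun q : ↥Q => (q : G)) h3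
          exact h4
        · intro h
          have h1 : u = 1 := Subtype.ext h
          rw [h1, map_one]
      · intro e u
        refine ⟨⟨(e : G) * (u : G) * (e : G)⁻¹, hconj i e u u.2⟩, rfl, ?_⟩
        rw [hψ, hψ]
        exact hΦ (e : G) (Subgroup.inclusion (hle i) u)
          (Subgroup.inclusion (hle i) ⟨(e : G) * (u : G) * (e : G)⁻¹, hconj i e u u.2⟩) rfl i
  · -- independence
    intro i
    have hsup : (⨆ (j : Fin k) (_ : j ≠ i), Vs j) ≤ (coordKer Φ i).map Q.subtype := by
      refine iSup₂_le fun j hj => ?_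
      exact Subgroup.map_mono (coordSub_le_coordKer Φ (Ne.symm hj))
    rw [Subgroup.disjoint_def]
    intro x hx1 hx2
    obtain ⟨q, hq, rfl⟩ := hx1
    obtain ⟨q', hq', hqq⟩ := hsup hx2
    have : q' = q := Subtype.ext hqq
    rw [this] at hq'
    rw [eq_one_of_mem_both Φ hq hq']
    rfl
  · -- the sum is everything
    apply le_antisymm (iSup_le hle)
    intro x hx
    let θ : Multiplicative (Fin k → Fin 2 → K) →* G := Q.subtype.comp Φ.symm.toMonoidHom
    let S : Subgroup (Multiplicative (Fin k → Fin 2 → K)) := (⨆ i, Vs i).comap θ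
    have hsingle : ∀ i (y : Fin 2 → K), Multiplicative.ofAdd (Pi.single i y) ∈ S := by
      intro i y
      show θ (Multiplicative.ofAdd (Pi.single i y)) ∈ ⨆ i, Vs i
      apply (le_iSup Vs i)
      exact ⟨_, single_mem_coordSub Φ i y, rfl⟩
    have hall : ∀ f : Fin k → Fin 2 → K, Multiplicative.ofAdd f ∈ S := by
      intro f
      have h1 : Multiplicative.ofAdd f =
          ∏ i, Multiplicative.ofAdd (Pi.single i (f i) : Fin k → Fin 2 → K) := by
        rw [← ofAdd_sum, Finset.univ_sum_single]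
      rw [h1]
      exact Subgroup.prod_mem S fun i _ => hsingle i (f i)
    have h2 := hall (Multiplicative.toAdd (Φ ⟨x, hx⟩))
    have h3 : θ (Multiplicative.ofAdd (Multiplicative.toAdd (Φ ⟨x, hx⟩))) = x := by
      show ((Φ.symm (Multiplicative.ofAdd (Multiplicative.toAdd (Φ ⟨x, hx⟩))) : ↥Q) : G) = x
      rw [ofAdd_toAdd, MulEquiv.symm_apply_apply]
    have h4 : θ (Multiplicative.ofAdd (Multiplicative.toAdd (Φ ⟨x, hx⟩))) ∈ ⨆ i, Vs i := h2
    rw [h3] at h4
    exact h4

end Cfsg.Agent.Lib.H29.Hig
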