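import Mathlib
import Cfsg.Prelude.Def_Local
import Cfsg.Prelude.Def_Solvable
import Cfsg.Agent.Lib.H10.PSolvable
import Cfsg.Agent.Lib.H10.PSolvable2
import Cfsg.Agent.Lib.H9.PPrimeCore
import Cfsg.Agent.Lib.H22.PPrimeCore
import Cfsg.Agent.Lib.H1.PCore

/-!
# S4439 piece GRP (architect helper23): the preimage of `Z(O_p(G / O_{p'}(G)))`.

For `G` `p`-solvable, `K = O_{p'}(G)`, take `L` := the preimage in `G` of
`C_{G/K}(O_p(G/K))` (which is `Z(O_p(G/K))` by Hall–Higman 1.2.3).  Then `L ⊴ G`, `K ≤ L`, `L/K` is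
an abelian `p`-group, and `ν_p |G : L| ≤ ν_p |P : Z(P)|` for a Sylow `p`-subgroup `P`.
-/

set_option autoImplicit false

namespace Cfsg.Agent.Lib.H29.HtZ

open Cfsg

theorem exists_center_preimage {G : Type*} [Group G] [Finite G] (p : ℕ) [hp : Fact p.Prime]
    (hps : IsPSolvable p G) (P : Sylow p G) :
    ∃ L : Subgroup G, L.Normal ∧ pPrimeCore p G ≤ L ∧
      (∃ k : ℕ, (pPrimeCore p G).relIndex L = p ^ k) ∧
      (∀ a ∈ L, ∀ b ∈ L, a * b * a⁻¹ * b⁻¹ ∈ pPrimeCore p G) ∧
      L.index.factorization p ≤
        ((Subgroup.center (P : Subgroup G)).index).factorization p := by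
  classical
  have hKn : (pPrimeCore p G).Normal := Cfsg.Agent.Lib.H22.pPrimeCore_normal p
  set K := pPrimeCore p G with hK
  set f := QuotientGroup.mk' K with hf
  have hfs : Function.Surjective f := QuotientGroup.mk'_surjective K
  have hker : f.ker = K := QuotientGroup.ker_mk' K
  have hQn : (pCore p (G ⧸ K)).Normal := Cfsg.Agent.Lib.H1.pCore_normal p (G ⧸ K)
  have hQp : IsPGroup p (pCore p (G ⧸ K)) := Cfsg.Agent.Lib.H1.pCore_isPGroup p (G ⧸ K)
  set Q := pCore p (G ⧸ K) with hQ
  -- Hall–Higman 1.2.3 in `G/K`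
  have hHH : Subgroup.centralizer (Q : Set (G ⧸ K)) ≤ Q :=
    Cfsg.Agent.Lib.H10.centralizer_pCore_le_of_isPSolvable p
      (Cfsg.Agent.Lib.H10.isPSolvable_quotient hps K)
      (Cfsg.Agent.Lib.H9.pPrimeCore_quotient_eq_bot p)
  set Z := Subgroup.centralizer (Q : Set (G ⧸ K)) with hZ
  have hZn : Z.Normal := Subgroup.normal_centralizer
  set L := Z.comap f with hL
  have hLn : L.Normal := hZn.comap f
  have hKL : K ≤ L := by
    intro x hx
    rw [hL, Subgroup.mem_comap]
    have h1 : f x = 1 := by
      rw [← MonoidHom.mem_ker, hker]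
      exact hx
    rw [h1]
    exact Subgroup.one_mem _
  have hmapL : L.map f = Z := Subgroup.map_comap_eq_self_of_surjective hfs _
  refine ⟨L, hLn, hKL, ?_, ?_, ?_⟩
  · -- `L/K ≅ Z ≤ Q` is a `p`-group
    have h1 : K.relIndex L = Nat.card Z := by
      have h2 := Subgroup.relIndex_comap (⊥ : Subgroup (G ⧸ K)) f L
      rw [MonoidHom.comap_bot, hker, Subgroup.relIndex_bot_left, hmapL] at h2
      exact h2
    rw [h1]
    exact IsPGroup.iff_card.1 (hQp.to_le hHH)
  · -- `L/K` is abelian
    intro a ha b hb
    have ha' : f a ∈ Z := ha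
    have hb' : f b ∈ Z := hb
    have hbQ : f b ∈ Q := hHH hb'
    have hcomm : f b * f a = f a * f b := Subgroup.mem_centralizer_iff.1 ha' (f b) hbQ
    rw [← hker, MonoidHom.mem_ker, map_mul, map_mul, map_mul, map_inv, map_inv]
    calc f a * f b * (f a)⁻¹ * (f b)⁻¹ = f b * f a * (f a)⁻¹ * (f b)⁻¹ := by rw [hcomm]
      _ = 1 := by group
  · -- counting
    set ZP : Subgroup G := (Subgroup.center (P : Subgroup G)).map (P : Subgroup G).subtype with hZP
    have hZPL : ZP ≤ L := by
      intro x hx
      obtain ⟨z, hz, rfl⟩ := hx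
      rw [hL, Subgroup.mem_comap, hZ, Subgroup.mem_centralizer_iff]
      intro y hy
      have hyP : y ∈ ((P.mapSurjective hfs : Sylow p (G ⧸ K)) : Subgroup (G ⧸ K)) :=
        Cfsg.Agent.Lib.H1.pCore_le_sylow (P.mapSurjective hfs) hy
      rw [Sylow.coe_mapSurjective] at hyP
      obtain ⟨d, hd, rfl⟩ := hyP
      have h1 : (⟨d, hd⟩ : (P : Subgroup G)) * z = z * ⟨d, hd⟩ :=
        Subgroup.mem_center_iff.1 hz ⟨d, hd⟩
      have h2 : d * (z : G) = (z : G) * d := by
        have := congrArg (fun t : (P : Subgroup G) => (t : G)) h1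
        simpa using this
      show f d * f ((P : Subgroup G).subtype z) = f ((P : Subgroup G).subtype z) * f d
      rw [← map_mul, ← map_mul]
      exact congrArg f h2
    have hcZP : Nat.card ZP = Nat.card (Subgroup.center (P : Subgroup G)) :=
      Subgroup.card_map_of_injective (Subgroup.subtype_injective _)
    have hdvd : Nat.card (Subgroup.center (P : Subgroup G)) ∣ Nat.card L := by
      rw [← hcZP]
      exact Subgroup.card_dvd_of_le hZPL
    have hG : Nat.card L * L.index = Nat.card G := Subgroup.card_mul_index L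
    have hPc : Nat.card (Subgroup.center (P : Subgroup G)) *
        (Subgroup.center (P : Subgroup G)).index = Nat.card (P : Subgroup G) :=
      Subgroup.card_mul_index _
    have hPG : Nat.card (P : Subgroup G) = p ^ (Nat.card G).factorization p :=
      Sylow.card_eq_multiplicity P
    have hLpos : Nat.card L ≠ 0 := Nat.card_pos.ne'
    have hLi : L.index ≠ 0 := Subgroup.index_ne_zero_of_finite
    have hcpos : Nat.card (Subgroup.center (P : Subgroup G)) ≠ 0 := Nat.card_pos.ne'
    have hci : (Subgroup.center (P : Subgroup G)).index ≠ 0 := Subgroup.index_ne_zero_of_finite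
    have e1 : (Nat.card G).factorization p =
        (Nat.card L).factorization p + L.index.factorization p := by
      rw [← hG, Nat.factorization_mul hLpos hLi]
      rfl
    have e2 : (Nat.card (P : Subgroup G)).factorization p =
        (Nat.card (Subgroup.center (P : Subgroup G))).factorization p +
          (Subgroup.center (P : Subgroup G)).index.factorization p := by
      rw [← hPc, Nat.factorization_mul hcpos hci]
      rfl
    have e3 : (Nat.card (P : Subgroup G)).factorization p = (Nat.card G).factorization p := by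
      rw [hPG, Nat.Prime.factorization_pow hp.out]
      simp
    have e4 : (Nat.card (Subgroup.center (P : Subgroup G))).factorization p ≤
        (Nat.card L).factorization p :=
      (Nat.factorization_le_iff_dvd hcpos hLpos).2 hdvd p
    omega

end Cfsg.Agent.Lib.H29.HtZ
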