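import Mathlib
import Cfsg.Agent.Lib.H7.K4Defs
import Cfsg.Agent.S4062

/-!
# S3805 (helper7 blueprint), piece GRPB: a group of order 36 with the right generators is `S₃ × S₃`
-/

set_option autoImplicit false

namespace Cfsg.Agent.Lib.H29.K4

open Cfsg Cfsg.Agent.Lib.H7.K4

section d3

variable {Γ : Type*} [Group Γ]

theorem pow_val_add3 (a : Γ) (ha : a ^ 3 = 1) (i j : ZMod 3) :
    a ^ (i + j).val = a ^ i.val * a ^ j.val := by
  rw [ZMod.val_add, ← pow_add, ← pow_eq_pow_mod _ ha]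

theorem pow_val_neg3 (a : Γ) (ha : a ^ 3 = 1) (i : ZMod 3) :
    a ^ (-i).val = (a ^ i.val)⁻¹ := by
  rw [eq_inv_iff_mul_eq_one, ← pow_val_add3 a ha, neg_add_cancel, ZMod.val_zero, pow_zero]

theorem pow_mul_inv3 (a b : Γ) (hab : b * a * b⁻¹ = a⁻¹) (k : ℕ) :
    a ^ k * b = b * (a ^ k)⁻¹ := by
  have h1 : b * a ^ k * b⁻¹ = (a ^ k)⁻¹ := by
    rw [← conj_pow, hab, inv_pow]
  have h2 : b * (a ^ k)⁻¹ * b⁻¹ = a ^ k := by
    calc b * (a ^ k)⁻¹ * b⁻¹ = (b * a ^ k * b⁻¹)⁻¹ := by group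
      _ = a ^ k := by rw [h1, inv_inv]
  calc a ^ k * b = (b * (a ^ k)⁻¹ * b⁻¹) * b := by rw [h2]
    _ = b * (a ^ k)⁻¹ := by group

/-- the underlying map of the hom `D₃ → Γ`, `r ↦ a`, `s ↦ b` -/
def d3Fun (a b : Γ) : DihedralGroup 3 → Γ
  | DihedralGroup.r i => a ^ i.val
  | DihedralGroup.sr i => b * a ^ i.val

theorem d3Fun_mul (a b : Γ) (ha : a ^ 3 = 1) (hb : b * b = 1) (hab : b * a * b⁻¹ = a⁻¹)
    (s t : DihedralGroup 3) : d3Fun a b (s * t) = d3Fun a b s * d3Fun a b t := by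
  rcases s with i | i <;> rcases t with j | j
  · rw [DihedralGroup.r_mul_r]
    show a ^ (i + j).val = a ^ i.val * a ^ j.val
    exact pow_val_add3 a ha i j
  · rw [DihedralGroup.r_mul_sr]
    show b * a ^ (j - i).val = a ^ i.val * (b * a ^ j.val)
    rw [sub_eq_add_neg, pow_val_add3 a ha, pow_val_neg3 a ha]
    have h1 : a ^ i.val * (b * a ^ j.val) = b * ((a ^ i.val)⁻¹ * a ^ j.val) := by
      rw [← mul_assoc, pow_mul_inv3 a b hab, mul_assoc]
    rw [h1]
    congr 1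
    have hc : Commute (a ^ j.val) ((a ^ i.val)⁻¹) :=
      ((Commute.refl a).pow_pow _ _).inv_right
    exact hc.eq
  · rw [DihedralGroup.sr_mul_r]
    show b * a ^ (i + j).val = b * a ^ i.val * a ^ j.val
    rw [pow_val_add3 a ha, mul_assoc]
  · rw [DihedralGroup.sr_mul_sr]
    show a ^ (j - i).val = b * a ^ i.val * (b * a ^ j.val)
    rw [sub_eq_add_neg, pow_val_add3 a ha, pow_val_neg3 a ha]
    have h1 : b * a ^ i.val * (b * a ^ j.val) = b * (a ^ i.val * b) * a ^ j.val := by group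
    rw [h1, pow_mul_inv3 a b hab, ← mul_assoc, hb, one_mul]
    have hc : Commute (a ^ j.val) ((a ^ i.val)⁻¹) :=
      ((Commute.refl a).pow_pow _ _).inv_right
    exact hc.eq

/-- the hom `D₃ → Γ`, `r ↦ a`, `s ↦ b` -/
def d3Hom (a b : Γ) (ha : a ^ 3 = 1) (hb : b * b = 1) (hab : b * a * b⁻¹ = a⁻¹) :
    DihedralGroup 3 →* Γ :=
  MonoidHom.mk' (d3Fun a b) (d3Fun_mul a b ha hb hab)

theorem d3Hom_r (a b : Γ) (ha : a ^ 3 = 1) (hb : b * b = 1) (hab : b * a * b⁻¹ = a⁻¹) (i : ZMod 3) :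
    d3Hom a b ha hb hab (DihedralGroup.r i) = a ^ i.val := rfl

theorem d3Hom_sr (a b : Γ) (ha : a ^ 3 = 1) (hb : b * b = 1) (hab : b * a * b⁻¹ = a⁻¹) (i : ZMod 3) :
    d3Hom a b ha hb hab (DihedralGroup.sr i) = b * a ^ i.val := rfl

end d3

theorem d3_iso_s3 : Nonempty (DihedralGroup 3 ≃* S3) := by
  apply Cfsg.Agent.S4062.s3_iso
  · rw [DihedralGroup.nat_card]
  · intro h
    have := h (DihedralGroup.r 1) (DihedralGroup.sr 0)
    revert this
    decide

set_option maxRecDepth 100000 in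
theorem d33_comm_trick : ∀ s : DihedralGroup 3 × DihedralGroup 3, s ≠ 1 →
    ∃ g : DihedralGroup 3 × DihedralGroup 3,
      s * g * s⁻¹ * g⁻¹ = (DihedralGroup.r 1, 1) ∨ s * g * s⁻¹ * g⁻¹ = (DihedralGroup.r 2, 1) ∨
      s * g * s⁻¹ * g⁻¹ = (1, DihedralGroup.r 1) ∨ s * g * s⁻¹ * g⁻¹ = (1, DihedralGroup.r 2) := by
  decide

/-- GRPB. -/
theorem iso_of_gens {N : Type*} [Group N] [Finite N] (hN : Nat.card N = 36) (x y u v : N)
    (hx3 : x ^ 3 = 1) (hy3 : y ^ 3 = 1) (hxy : x * y = y * x) (hx : x ≠ 1) (hy : y ≠ 1)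
    (hu : u ^ 2 = 1) (hv : v ^ 2 = 1) (huv : u * v = v * u)
    (hux : u * x * u⁻¹ = x⁻¹) (huy : u * y * u⁻¹ = y) (hvx : v * x * v⁻¹ = x)
    (hvy : v * y * v⁻¹ = y⁻¹) : Nonempty (N ≃* S33) := by
  have hu' : u * u = 1 := by rw [← sq]; exact hu
  have hv' : v * v = 1 := by rw [← sq]; exact hv
  set ψ₁ := d3Hom x u hx3 hu' hux with hψ₁
  set ψ₂ := d3Hom y v hy3 hv' hvy with hψ₂
  -- commutation
  have cxy : Commute x y := hxy
  have cxv : Commute x v := by
    have : v * x = x * v := by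
      calc v * x = (v * x * v⁻¹) * v := by group
        _ = x * v := by rw [hvx]
    exact this.symm
  have cuy : Commute u y := by
    have : u * y = y * u := by
      calc u * y = (u * y * u⁻¹) * u := by group
        _ = y * u := by rw [huy]
    exact this
  have cuv : Commute u v := huv
  have hcomm : ∀ a b : DihedralGroup 3, Commute (ψ₁ a) (ψ₂ b) := by
    intro a b
    rcases a with i | i <;> rcases b with j | j
    · rw [hψ₁, hψ₂, d3Hom_r, d3Hom_r]
      exact cxy.pow_pow _ _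
    · rw [hψ₁, hψ₂, d3Hom_r, d3Hom_sr]
      exact (cxv.pow_left _).mul_right (cxy.pow_pow _ _)
    · rw [hψ₁, hψ₂, d3Hom_sr, d3Hom_r]
      exact (cuy.pow_right _).mul_left (cxy.pow_pow _ _)
    · rw [hψ₁, hψ₂, d3Hom_sr, d3Hom_sr]
      exact (cuv.mul_right (cuy.pow_right _)).mul_left
        ((cxv.pow_left _).mul_right (cxy.pow_pow _ _))
  set ψ : DihedralGroup 3 × DihedralGroup 3 →* N := MonoidHom.noncommCoprod ψ₁ ψ₂ hcomm with hψ
  have hx2 : x ^ 2 ≠ 1 := by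
    intro h
    apply hx
    have : x ^ 3 = x ^ 2 * x := pow_succ x 2
    rw [hx3, h, one_mul] at this
    exact this.symm
  have hy2 : y ^ 2 ≠ 1 := by
    intro h
    apply hy
    have : y ^ 3 = y ^ 2 * y := pow_succ y 2
    rw [hy3, h, one_mul] at this
    exact this.symm
  have v1 : (1 : ZMod 3).val = 1 := rfl
  have v2 : (2 : ZMod 3).val = 2 := rfl
  have e1 : ψ (DihedralGroup.r 1, 1) = x := by
    rw [hψ, MonoidHom.noncommCoprod_apply, map_one, mul_one, hψ₁, d3Hom_r, v1, pow_one]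
  have e2 : ψ (DihedralGroup.r 2, 1) = x ^ 2 := by
    rw [hψ, MonoidHom.noncommCoprod_apply, map_one, mul_one, hψ₁, d3Hom_r, v2]
  have e3 : ψ (1, DihedralGroup.r 1) = y := by
    rw [hψ, MonoidHom.noncommCoprod_apply, map_one, one_mul, hψ₂, d3Hom_r, v1, pow_one]
  have e4 : ψ (1, DihedralGroup.r 2) = y ^ 2 := by
    rw [hψ, MonoidHom.noncommCoprod_apply, map_one, one_mul, hψ₂, d3Hom_r, v2]
  have hinj : Function.Injective ψ := by
    rw [injective_iff_map_eq_one]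
    intro s hs
    by_contra hs1
    obtain ⟨g, hg⟩ := d33_comm_trick s hs1
    have h1 : ψ (s * g * s⁻¹ * g⁻¹) = 1 := by
      rw [map_mul, map_mul, map_mul, map_inv, map_inv, hs]
      group
    rcases hg with hg | hg | hg | hg
    · rw [hg, e1] at h1; exact hx h1
    · rw [hg, e2] at h1; exact hx2 h1
    · rw [hg, e3] at h1; exact hy h1
    · rw [hg, e4] at h1; exact hy2 h1
  have hcard : Nat.card (DihedralGroup 3 × DihedralGroup 3) = Nat.card N := by
    rw [Nat.card_prod, DihedralGroup.nat_card, hN]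
  have hbij : Function.Bijective ψ :=
    (Nat.bijective_iff_injective_and_card ψ).2 ⟨hinj, hcard⟩
  obtain ⟨e₀⟩ := d3_iso_s3
  exact ⟨(MulEquiv.ofBijective ψ hbij).symm.trans (MulEquiv.prodCongr e₀ e₀)⟩

end Cfsg.Agent.Lib.H29.K4
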