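import Mathlib

/-!
# S4539, piece LAT (helper29): integer coordinates for a rank-2 family with integral Gram matrix
-/

set_option autoImplicit false

namespace Cfsg.Agent.Lib.H29.KB

open scoped ComplexConjugate

section ip

variable {E : Type*} [AddCommGroup E] [Module ℂ E] (ip : E → E → ℂ)
  (hadd : ∀ u v w : E, ip (u + v) w = ip u w + ip v w)
  (hsmul : ∀ (r : ℂ) (u w : E), ip (r • u) w = r * ip u w)
  (hconj : ∀ u w : E, conj (ip u w) = ip w u)

omit [Module ℂ E] in
include hadd hconj in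
theorem lat_add_right (u v w : E) : ip u (v + w) = ip u v + ip u w := by
  rw [← hconj (v + w) u, hadd, map_add, hconj, hconj]

include hsmul hconj in
theorem lat_smul_right (r : ℂ) (u w : E) : ip u (r • w) = conj r * ip u w := by
  rw [← hconj (r • w) u, hsmul, map_mul, hconj]

include hsmul in
theorem lat_zero_left (w : E) : ip 0 w = 0 := by
  have := hsmul 0 0 w
  simpa using this

include hsmul hconj in
theorem lat_zero_right (u : E) : ip u 0 = 0 := by
  have := lat_smul_right ip hsmul hconj 0 u 0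
  simpa using this

include hsmul in
theorem lat_zsmul_left (n : ℤ) (u w : E) : ip (n • u) w = (n : ℂ) * ip u w := by
  rw [← Int.cast_smul_eq_zsmul ℂ n u, hsmul]

include hsmul hconj in
theorem lat_zsmul_right (n : ℤ) (u w : E) : ip u (n • w) = (n : ℂ) * ip u w := by
  rw [← Int.cast_smul_eq_zsmul ℂ n w, lat_smul_right ip hsmul hconj]
  simp

include hadd hsmul in
theorem lat_sum_left {ι : Type*} (s : Finset ι) (c : ι → ℂ) (e : ι → E) (w : E) :
    ip (∑ k ∈ s, c k • e k) w = ∑ k ∈ s, c k * ip (e k) w := by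
  classical
  induction s using Finset.induction_on with
  | empty => simp [lat_zero_left ip hsmul]
  | insert a s ha ih => rw [Finset.sum_insert ha, Finset.sum_insert ha, hadd, hsmul, ih]

include hadd hsmul hconj in
theorem lat_sum_right {ι : Type*} (s : Finset ι) (c : ι → ℂ) (e : ι → E) (w : E) :
    ip w (∑ k ∈ s, c k • e k) = ∑ k ∈ s, conj (c k) * ip w (e k) := by
  rw [← hconj, lat_sum_left ip hadd hsmul, map_sum]
  refine Finset.sum_congr rfl fun k _ => ?_
  rw [map_mul, hconj]

/-- integrality of `N * ip` on the `ℤ`-span -/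
theorem lat_int_on_span {I : Type*} (f : I → E) (N : ℕ)
    (hadd : ∀ u v w : E, ip (u + v) w = ip u w + ip v w)
    (hsmul : ∀ (r : ℂ) (u w : E), ip (r • u) w = r * ip u w)
    (hconj : ∀ u w : E, conj (ip u w) = ip w u)
    (hint : ∀ i j : I, ∃ n : ℤ, (N : ℂ) * ip (f i) (f j) = n) :
    ∀ u ∈ Submodule.span ℤ (Set.range f), ∀ w ∈ Submodule.span ℤ (Set.range f),
      ∃ n : ℤ, (N : ℂ) * ip u w = n := by
  have h1 : ∀ i : I, ∀ w ∈ Submodule.span ℤ (Set.range f), ∃ n : ℤ, (N : ℂ) * ip (f i) w = n := by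
    intro i w hw
    induction hw using Submodule.span_induction with
    | mem x hx =>
      obtain ⟨j, rfl⟩ := hx
      exact hint i j
    | zero => exact ⟨0, by simp [lat_zero_right ip hsmul hconj]⟩
    | add x y _ _ hx hy =>
      obtain ⟨a, ha⟩ := hx
      obtain ⟨b, hb⟩ := hy
      exact ⟨a + b, by rw [lat_add_right ip hadd hconj, mul_add, ha, hb]; push_cast; ring⟩
    | smul c x _ hx =>
      obtain ⟨a, ha⟩ := hx
      exact ⟨c * a, by rw [lat_zsmul_right ip hsmul hconj, mul_left_comm, ha]; push_cast; ring⟩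
  intro u hu w hw
  induction hu using Submodule.span_induction with
  | mem x hx =>
    obtain ⟨i, rfl⟩ := hx
    exact h1 i w hw
  | zero => exact ⟨0, by simp [lat_zero_left ip hsmul]⟩
  | add x y _ _ hx hy =>
    obtain ⟨a, ha⟩ := hx
    obtain ⟨b, hb⟩ := hy
    exact ⟨a + b, by rw [hadd, mul_add, ha, hb]; push_cast; ring⟩
  | smul c x _ hx =>
    obtain ⟨a, ha⟩ := hx
    exact ⟨c * a, by rw [lat_zsmul_left ip hsmul, mul_left_comm, ha]; push_cast; ring⟩

end ip

theorem lat_sum_two {ι : Type*} [Fintype ι] (σ : ι ≃ Fin 2) {M : Type*} [AddCommMonoid M]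
    (g : ι → M) : ∑ k, g k = g (σ.symm 0) + g (σ.symm 1) := by
  rw [← Equiv.sum_comp σ.symm g, Fin.sum_univ_two]

open Module in
/-- (LAT) integer coordinates for a rank-2 family with integral Gram matrix. -/
theorem exists_int_coords {E : Type*} [AddCommGroup E] [Module ℂ E] {I : Type*} [Finite I]
    (ip : E → E → ℂ)
    (hadd : ∀ u v w : E, ip (u + v) w = ip u w + ip v w)
    (hsmul : ∀ (r : ℂ) (u w : E), ip (r • u) w = r * ip u w)
    (hconj : ∀ u w : E, conj (ip u w) = ip w u)
    (hpos : ∀ u : E, u ≠ 0 → 0 < (ip u u).re)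
    (f : I → E) (N : ℕ) (hN : 0 < N)
    (hint : ∀ i j : I, ∃ n : ℤ, (N : ℂ) * ip (f i) (f j) = n)
    (hrank : Module.finrank ℂ (Submodule.span ℂ (Set.range f)) = 2) :
    ∃ (D₁ D₂ : I → ℤ) (a b c : ℤ),
      (∀ x y : ℤ, (x ≠ 0 ∨ y ≠ 0) → 0 < a * x * x + 2 * b * x * y + c * y * y) ∧
      ∀ i j : I, (N : ℂ) * ip (f i) (f j) =
        ((a * D₁ i * D₁ j + b * (D₁ i * D₂ j + D₂ i * D₁ j) + c * D₂ i * D₂ j : ℤ) : ℂ) := by
  classical
  set L : Submodule ℤ E := Submodule.span ℤ (Set.range f) with hL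
  have : Module.Finite ℤ L := Module.Finite.span_of_finite ℤ (Set.finite_range f)
  have : Module.IsTorsionFree ℤ L := Module.IsTorsionFree.of_smul_eq_zero (by
    intro n m h
    have h' : (n : ℂ) • (m : E) = 0 := by
      rw [Int.cast_smul_eq_zsmul]
      have := congrArg Subtype.val h
      simpa using this
    rcases smul_eq_zero.1 h' with h1 | h1
    · left; exact_mod_cast h1
    · right; exact Subtype.ext h1)
  have : Module.Free ℤ L := Module.free_of_finite_type_torsion_free'
  let ι := Module.Free.ChooseBasisIndex ℤ L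
  let B : Basis ι ℤ L := Module.Free.chooseBasis ℤ L
  let e : ι → E := fun k => (B k : E)
  -- the integral Gram matrix
  have hG : ∀ k l : ι, ∃ n : ℤ, (N : ℂ) * ip (e k) (e l) = n := fun k l =>
    lat_int_on_span ip f N hadd hsmul hconj hint _ (B k).2 _ (B l).2
  choose G hGe using hG
  -- `ℤ`-combinations inside `E`
  have hcomb : ∀ v : ι → ℤ, ((∑ k, v k • B k : L) : E) = ∑ k, (v k : ℂ) • e k := by
    intro v
    rw [Submodule.coe_sum]
    refine Finset.sum_congr rfl fun k _ => ?_
    rw [Submodule.coe_smul_of_tower, Int.cast_smul_eq_zsmul]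
  -- the quadratic form
  have hquad : ∀ v : ι → ℤ, (N : ℂ) * ip (∑ k, (v k : ℂ) • e k) (∑ k, (v k : ℂ) • e k) =
      ((∑ k, v k * ∑ l, G k l * v l : ℤ) : ℂ) := by
    intro v
    rw [lat_sum_left ip hadd hsmul, Finset.mul_sum]
    push_cast
    refine Finset.sum_congr rfl fun k _ => ?_
    rw [lat_sum_right ip hadd hsmul hconj, mul_left_comm, Finset.mul_sum]
    congr 1
    refine Finset.sum_congr rfl fun l _ => ?_
    rw [map_intCast (starRingEnd ℂ), mul_left_comm, hGe]
    ring
  have hposv : ∀ v : ι → ℤ, v ≠ 0 → 0 < ∑ k, v k * ∑ l, G k l * v l := by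
    intro v hv
    have hu : (∑ k, (v k : ℂ) • e k) ≠ 0 := by
      intro h0
      apply hv
      have h1 : (∑ k, v k • B k : L) = 0 := by
        apply Subtype.ext
        rw [hcomb v, h0]; rfl
      funext k
      exact Fintype.linearIndependent_iff.1 B.linearIndependent v h1 k
    have h2 := hpos _ hu
    have h3 := hquad v
    have h4 : (0 : ℝ) < ((N : ℂ) * ip (∑ k, (v k : ℂ) • e k) (∑ k, (v k : ℂ) • e k)).re := by
      have h5 : ((N : ℂ) * ip (∑ k, (v k : ℂ) • e k) (∑ k, (v k : ℂ) • e k)).re =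
          (N : ℝ) * (ip (∑ k, (v k : ℂ) • e k) (∑ k, (v k : ℂ) • e k)).re := by
        simp [Complex.mul_re]
      rw [h5]
      exact mul_pos (by exact_mod_cast hN) h2
    rw [h3, Complex.intCast_re] at h4
    exact_mod_cast h4
  -- the Gram determinant is nonzero
  have hdet : (Matrix.of G).det ≠ 0 := by
    intro h0
    obtain ⟨v, hv, hv0⟩ := Matrix.exists_mulVec_eq_zero_iff.2 h0
    have := hposv v hv
    have h1 : ∀ k, ∑ l, G k l * v l = 0 := by
      intro k
      have := congrFun hv0 k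
      simpa [Matrix.mulVec, dotProduct] using this
    simp [h1] at this
  -- `ℂ`-linear independence of the basis
  have hli : LinearIndependent ℂ e := by
    rw [Fintype.linearIndependent_iff]
    intro c hc
    have h1 : ∀ l, ∑ k, c k * (G k l : ℂ) = 0 := by
      intro l
      have h2 : (N : ℂ) * ip (∑ k, c k • e k) (e l) = 0 := by
        rw [hc, lat_zero_left ip hsmul, mul_zero]
      rw [lat_sum_left ip hadd hsmul, Finset.mul_sum] at h2
      rw [← h2]
      refine Finset.sum_congr rfl fun k _ => ?_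
      rw [mul_left_comm, hGe]
    have hdetC : ((Matrix.of G).map (Int.castRingHom ℂ)).det ≠ 0 := by
      rw [← RingHom.mapMatrix_apply, ← RingHom.map_det]
      simpa using hdet
    have h3 : Matrix.vecMul c ((Matrix.of G).map (Int.castRingHom ℂ)) = 0 := by
      funext l
      simpa [Matrix.vecMul, dotProduct] using h1 l
    have := Matrix.eq_zero_of_vecMul_eq_zero hdetC h3
    intro k
    exact congrFun this k
  -- exactly two basis vectors
  have hspan : Submodule.span ℂ (Set.range e) = Submodule.span ℂ (Set.range f) := by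
    apply le_antisymm
    · rw [Submodule.span_le]
      rintro _ ⟨k, rfl⟩
      exact Submodule.span_subset_span ℤ ℂ _ (B k).2
    · rw [Submodule.span_le]
      rintro _ ⟨i, rfl⟩
      have hfi : f i ∈ L := Submodule.subset_span ⟨i, rfl⟩
      have h1 := hcomb (fun k => B.repr ⟨f i, hfi⟩ k)
      rw [B.sum_repr] at h1
      change f i = _ at h1
      rw [h1]
      exact Submodule.sum_mem _ fun k _ =>
        Submodule.smul_mem _ _ (Submodule.subset_span ⟨k, rfl⟩)
  have hcard : Fintype.card ι = 2 := by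
    rw [← finrank_span_eq_card hli, hspan, hrank]
  let σ : ι ≃ Fin 2 := Fintype.equivFinOfCardEq hcard
  set k0 : ι := σ.symm 0 with hk0
  set k1 : ι := σ.symm 1 with hk1
  have hsymm : G k1 k0 = G k0 k1 := by
    have h1 : ((G k1 k0 : ℤ) : ℂ) = ((G k0 k1 : ℤ) : ℂ) := by
      have h2 := congrArg (starRingEnd ℂ) (hGe k0 k1)
      rw [map_mul, map_natCast, hconj, hGe, map_intCast] at h2
      exact h2
    exact_mod_cast h1
  have hfL : ∀ i, f i ∈ L := fun i => Submodule.subset_span ⟨i, rfl⟩
  refine ⟨fun i => B.repr ⟨f i, hfL i⟩ k0, fun i => B.repr ⟨f i, hfL i⟩ k1,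
    G k0 k0, G k0 k1, G k1 k1, ?_, ?_⟩
  · intro x y hxy
    have hv : (fun k => if k = k0 then x else y) ≠ (0 : ι → ℤ) := by
      intro h
      have hk01 : k1 ≠ k0 := by
        intro h'
        have := σ.symm.injective h'
        exact absurd this (by decide)
      have h0 := congrFun h k0
      have h1 := congrFun h k1
      simp only [if_true, Pi.zero_apply] at h0
      simp only [if_neg hk01, Pi.zero_apply] at h1
      rcases hxy with h' | h'
      · exact h' h0
      · exact h' h1
    have := hposv _ hv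
    have hk01 : k1 ≠ k0 := by
      intro h'
      have := σ.symm.injective h'
      exact absurd this (by decide)
    rw [lat_sum_two σ] at this
    simp only [lat_sum_two σ, ← hk0, ← hk1, if_true, if_neg hk01, hsymm] at this
    linarith
  · intro i j
    have hi := hcomb (fun k => B.repr ⟨f i, hfL i⟩ k)
    have hj := hcomb (fun k => B.repr ⟨f j, hfL j⟩ k)
    rw [B.sum_repr] at hi hj
    change f i = _ at hi
    change f j = _ at hj
    rw [lat_sum_two σ, ← hk0, ← hk1] at hi hj
    rw [hi, hj]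
    simp only [hadd, hsmul, lat_add_right ip hadd hconj, lat_smul_right ip hsmul hconj,
      map_intCast (starRingEnd ℂ)]
    have e00 := hGe k0 k0
    have e01 := hGe k0 k1
    have e10 := hGe k1 k0
    have e11 := hGe k1 k1
    rw [hsymm] at e10
    push_cast
    linear_combination
      ((B.repr ⟨f i, hfL i⟩ k0 : ℤ) : ℂ) * ((B.repr ⟨f j, hfL j⟩ k0 : ℤ) : ℂ) * e00 +
      ((B.repr ⟨f i, hfL i⟩ k0 : ℤ) : ℂ) * ((B.repr ⟨f j, hfL j⟩ k1 : ℤ) : ℂ) * e01 +
      ((B.repr ⟨f i, hfL i⟩ k1 : ℤ) : ℂ) * ((B.repr ⟨f j, hfL j⟩ k0 : ℤ) : ℂ) * e10 +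
      ((B.repr ⟨f i, hfL i⟩ k1 : ℤ) : ℂ) * ((B.repr ⟨f j, hfL j⟩ k1 : ℤ) : ℂ) * e11

end Cfsg.Agent.Lib.H29.KB
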