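import Mathlib

set_option autoImplicit false
open scoped MatrixGroups
open Matrix

namespace Cfsg.Agent.Lib.H29.L27Tab

/-- the ring `𝔽₃[i]` -/
abbrev Z9 := QuadraticAlgebra (ZMod 3) (-1) 0

abbrev M9 := Matrix (Fin 3) (Fin 3) Z9

def O9 : M9 := 0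

def cj (z : Z9) : Z9 := ⟨z.re, -z.im⟩

/-- the table of a 3-dimensional unitary representation of `SL₃(2)` over `𝔽₉` -/
def tab : Fin 2 → Fin 2 → Fin 2 → Fin 2 → Fin 2 → Fin 2 → Fin 2 → Fin 2 → Fin 2 → M9 :=
![![![(fun _ _ _ _ _ _ => O9),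
 ![![(fun _ _ _ _ => O9),
 ![![(fun _ _ => O9),
 ![![!![⟨1,0⟩, ⟨1,0⟩, ⟨2,2⟩; ⟨1,0⟩, ⟨1,0⟩, ⟨1,1⟩; ⟨2,1⟩, ⟨1,2⟩, ⟨0,0⟩],
 !![⟨2,0⟩, ⟨1,1⟩, ⟨2,0⟩; ⟨2,0⟩, ⟨2,2⟩, ⟨2,0⟩; ⟨1,2⟩, ⟨0,0⟩, ⟨2,1⟩]],
 ![!![⟨1,2⟩, ⟨0,0⟩, ⟨2,1⟩; ⟨1,0⟩, ⟨1,1⟩, ⟨1,0⟩; ⟨2,0⟩, ⟨1,1⟩, ⟨2,0⟩],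
 !![⟨2,1⟩, ⟨1,2⟩, ⟨0,0⟩; ⟨2,0⟩, ⟨2,0⟩, ⟨2,2⟩; ⟨1,0⟩, ⟨1,0⟩, ⟨2,2⟩]]]],
 ![(fun _ _ => O9),
 ![![!![⟨2,0⟩, ⟨2,2⟩, ⟨1,0⟩; ⟨2,0⟩, ⟨1,1⟩, ⟨1,0⟩; ⟨1,2⟩, ⟨0,0⟩, ⟨1,2⟩],
 !![⟨1,0⟩, ⟨2,0⟩, ⟨1,1⟩; ⟨1,0⟩, ⟨2,0⟩, ⟨2,2⟩; ⟨2,1⟩, ⟨2,1⟩, ⟨0,0⟩]],
 ![!![⟨1,2⟩, ⟨0,0⟩, ⟨1,2⟩; ⟨1,0⟩, ⟨2,2⟩, ⟨2,0⟩; ⟨2,0⟩, ⟨2,2⟩, ⟨1,0⟩],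
 !![⟨2,1⟩, ⟨2,1⟩, ⟨0,0⟩; ⟨2,0⟩, ⟨1,0⟩, ⟨1,1⟩; ⟨1,0⟩, ⟨2,0⟩, ⟨1,1⟩]]]]]],
 ![![![![(fun _ => O9),
 ![!![⟨2,0⟩, ⟨1,0⟩, ⟨1,1⟩; ⟨2,0⟩, ⟨1,0⟩, ⟨2,2⟩; ⟨1,2⟩, ⟨1,2⟩, ⟨0,0⟩],
 !![⟨1,0⟩, ⟨1,1⟩, ⟨1,0⟩; ⟨1,0⟩, ⟨2,2⟩, ⟨1,0⟩; ⟨2,1⟩, ⟨0,0⟩, ⟨1,2⟩]]],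
 ![(fun _ => O9),
 ![!![⟨2,1⟩, ⟨0,0⟩, ⟨1,2⟩; ⟨2,0⟩, ⟨1,1⟩, ⟨2,0⟩; ⟨1,0⟩, ⟨1,1⟩, ⟨1,0⟩],
 !![⟨1,2⟩, ⟨1,2⟩, ⟨0,0⟩; ⟨1,0⟩, ⟨2,0⟩, ⟨1,1⟩; ⟨2,0⟩, ⟨1,0⟩, ⟨1,1⟩]]]],
 ![![(fun _ => O9),
 ![!![⟨1,0⟩, ⟨2,2⟩, ⟨2,0⟩; ⟨1,0⟩, ⟨1,1⟩, ⟨2,0⟩; ⟨2,1⟩, ⟨0,0⟩, ⟨2,1⟩],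
 !![⟨2,0⟩, ⟨2,0⟩, ⟨2,2⟩; ⟨2,0⟩, ⟨2,0⟩, ⟨1,1⟩; ⟨1,2⟩, ⟨2,1⟩, ⟨0,0⟩]]],
 ![(fun _ => O9),
 ![!![⟨2,1⟩, ⟨0,0⟩, ⟨2,1⟩; ⟨2,0⟩, ⟨2,2⟩, ⟨1,0⟩; ⟨1,0⟩, ⟨2,2⟩, ⟨2,0⟩],
 !![⟨1,2⟩, ⟨2,1⟩, ⟨0,0⟩; ⟨1,0⟩, ⟨1,0⟩, ⟨2,2⟩; ⟨2,0⟩, ⟨2,0⟩, ⟨2,2⟩]]]]],
 ![![![(fun _ => O9),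
 ![!![⟨1,0⟩, ⟨2,0⟩, ⟨2,2⟩; ⟨1,2⟩, ⟨1,2⟩, ⟨0,0⟩; ⟨2,0⟩, ⟨1,0⟩, ⟨2,2⟩],
 !![⟨1,0⟩, ⟨1,0⟩, ⟨1,1⟩; ⟨1,2⟩, ⟨2,1⟩, ⟨0,0⟩; ⟨2,0⟩, ⟨2,0⟩, ⟨1,1⟩]]],
 ![![!![⟨2,0⟩, ⟨2,0⟩, ⟨1,1⟩; ⟨2,1⟩, ⟨1,2⟩, ⟨0,0⟩; ⟨1,0⟩, ⟨1,0⟩, ⟨1,1⟩],
 !![⟨2,0⟩, ⟨1,0⟩, ⟨2,2⟩; ⟨2,1⟩, ⟨2,1⟩, ⟨0,0⟩; ⟨1,0⟩, ⟨2,0⟩, ⟨2,2⟩]],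
 (fun _ => O9)]],
 ![![(fun _ => O9),
 ![!![⟨2,0⟩, ⟨1,1⟩, ⟨1,0⟩; ⟨2,1⟩, ⟨0,0⟩, ⟨2,1⟩; ⟨1,0⟩, ⟨1,1⟩, ⟨2,0⟩],
 !![⟨2,0⟩, ⟨2,2⟩, ⟨2,0⟩; ⟨2,1⟩, ⟨0,0⟩, ⟨1,2⟩; ⟨1,0⟩, ⟨2,2⟩, ⟨1,0⟩]]],
 ![![!![⟨1,0⟩, ⟨1,1⟩, ⟨2,0⟩; ⟨1,2⟩, ⟨0,0⟩, ⟨1,2⟩; ⟨2,0⟩, ⟨1,1⟩, ⟨1,0⟩],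
 !![⟨1,0⟩, ⟨2,2⟩, ⟨1,0⟩; ⟨1,2⟩, ⟨0,0⟩, ⟨2,1⟩; ⟨2,0⟩, ⟨2,2⟩, ⟨2,0⟩]],
 (fun _ => O9)]]]]]],
 ![![![![(fun _ _ _ => O9),
 ![(fun _ _ => O9),
 ![![!![⟨2,0⟩, ⟨2,0⟩, ⟨1,1⟩; ⟨1,0⟩, ⟨1,0⟩, ⟨1,1⟩; ⟨1,2⟩, ⟨2,1⟩, ⟨0,0⟩],
 !![⟨1,0⟩, ⟨2,2⟩, ⟨1,0⟩; ⟨2,0⟩, ⟨2,2⟩, ⟨2,0⟩; ⟨2,1⟩, ⟨0,0⟩, ⟨1,2⟩]],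
 ![!![⟨2,1⟩, ⟨0,0⟩, ⟨1,2⟩; ⟨1,0⟩, ⟨1,1⟩, ⟨1,0⟩; ⟨1,0⟩, ⟨2,2⟩, ⟨1,0⟩],
 !![⟨1,2⟩, ⟨2,1⟩, ⟨0,0⟩; ⟨2,0⟩, ⟨2,0⟩, ⟨2,2⟩; ⟨2,0⟩, ⟨2,0⟩, ⟨1,1⟩]]]]],
 ![(fun _ _ _ => O9),
 ![(fun _ _ => O9),
 ![![!![⟨2,2⟩, ⟨2,0⟩, ⟨1,0⟩; ⟨0,0⟩, ⟨1,2⟩, ⟨1,2⟩; ⟨1,1⟩, ⟨2,0⟩, ⟨1,0⟩],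
 !![⟨1,1⟩, ⟨2,0⟩, ⟨1,0⟩; ⟨0,0⟩, ⟨2,1⟩, ⟨2,1⟩; ⟨2,2⟩, ⟨2,0⟩, ⟨1,0⟩]],
 ![!![⟨0,0⟩, ⟨2,0⟩, ⟨0,0⟩; ⟨1,0⟩, ⟨0,0⟩, ⟨0,0⟩; ⟨0,0⟩, ⟨0,0⟩, ⟨1,0⟩],
 !![⟨0,0⟩, ⟨0,0⟩, ⟨1,0⟩; ⟨2,0⟩, ⟨0,0⟩, ⟨0,0⟩; ⟨0,0⟩, ⟨2,0⟩, ⟨0,0⟩]]]]]],
 ![![![![![O9,
 !![⟨2,0⟩, ⟨0,0⟩, ⟨0,0⟩; ⟨0,0⟩, ⟨1,0⟩, ⟨0,0⟩; ⟨0,0⟩, ⟨0,0⟩, ⟨2,0⟩]],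
 ![O9,
 !![⟨2,0⟩, ⟨2,2⟩, ⟨2,0⟩; ⟨1,2⟩, ⟨0,0⟩, ⟨2,1⟩; ⟨2,0⟩, ⟨1,1⟩, ⟨2,0⟩]]],
 ![![O9,
 !![⟨2,0⟩, ⟨1,1⟩, ⟨2,0⟩; ⟨2,1⟩, ⟨0,0⟩, ⟨1,2⟩; ⟨2,0⟩, ⟨2,2⟩, ⟨2,0⟩]],
 ![O9,
 !![⟨0,0⟩, ⟨0,0⟩, ⟨2,0⟩; ⟨0,0⟩, ⟨2,0⟩, ⟨0,0⟩; ⟨2,0⟩, ⟨0,0⟩, ⟨0,0⟩]]]],
 ![![![O9,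
 !![⟨1,0⟩, ⟨0,0⟩, ⟨0,0⟩; ⟨0,0⟩, ⟨0,0⟩, ⟨2,0⟩; ⟨0,0⟩, ⟨1,0⟩, ⟨0,0⟩]],
 ![O9,
 !![⟨1,0⟩, ⟨1,0⟩, ⟨1,1⟩; ⟨2,1⟩, ⟨1,2⟩, ⟨0,0⟩; ⟨1,0⟩, ⟨1,0⟩, ⟨2,2⟩]]],
 ![![!![⟨1,0⟩, ⟨1,0⟩, ⟨2,2⟩; ⟨1,2⟩, ⟨2,1⟩, ⟨0,0⟩; ⟨1,0⟩, ⟨1,0⟩, ⟨1,1⟩],
 O9],
 ![!![⟨0,0⟩, ⟨1,0⟩, ⟨0,0⟩; ⟨0,0⟩, ⟨0,0⟩, ⟨1,0⟩; ⟨1,0⟩, ⟨0,0⟩, ⟨0,0⟩],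
 O9]]]],
 ![![![![O9,
 !![⟨0,0⟩, ⟨2,1⟩, ⟨2,1⟩; ⟨1,1⟩, ⟨1,0⟩, ⟨2,0⟩; ⟨2,2⟩, ⟨1,0⟩, ⟨2,0⟩]],
 ![O9,
 !![⟨2,0⟩, ⟨2,0⟩, ⟨2,2⟩; ⟨1,0⟩, ⟨1,0⟩, ⟨2,2⟩; ⟨2,1⟩, ⟨1,2⟩, ⟨0,0⟩]]],
 ![![O9,
 !![⟨2,2⟩, ⟨1,0⟩, ⟨2,0⟩; ⟨2,2⟩, ⟨2,0⟩, ⟨1,0⟩; ⟨0,0⟩, ⟨2,1⟩, ⟨2,1⟩]],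
 ![O9,
 !![⟨2,1⟩, ⟨1,2⟩, ⟨0,0⟩; ⟨2,0⟩, ⟨2,0⟩, ⟨1,1⟩; ⟨2,0⟩, ⟨2,0⟩, ⟨2,2⟩]]]],
 ![![![O9,
 !![⟨0,0⟩, ⟨1,2⟩, ⟨1,2⟩; ⟨2,2⟩, ⟨1,0⟩, ⟨2,0⟩; ⟨1,1⟩, ⟨1,0⟩, ⟨2,0⟩]],
 ![O9,
 !![⟨1,0⟩, ⟨1,1⟩, ⟨1,0⟩; ⟨2,0⟩, ⟨1,1⟩, ⟨2,0⟩; ⟨1,2⟩, ⟨0,0⟩, ⟨2,1⟩]]],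
 ![![!![⟨1,1⟩, ⟨1,0⟩, ⟨2,0⟩; ⟨1,1⟩, ⟨2,0⟩, ⟨1,0⟩; ⟨0,0⟩, ⟨1,2⟩, ⟨1,2⟩],
 O9],
 ![!![⟨1,2⟩, ⟨0,0⟩, ⟨2,1⟩; ⟨1,0⟩, ⟨2,2⟩, ⟨1,0⟩; ⟨1,0⟩, ⟨1,1⟩, ⟨1,0⟩],
 O9]]]]]],
 ![![![(fun _ _ _ => O9),
 ![(fun _ _ => O9),
 ![![!![⟨1,0⟩, ⟨1,1⟩, ⟨2,0⟩; ⟨2,0⟩, ⟨1,1⟩, ⟨1,0⟩; ⟨2,1⟩, ⟨0,0⟩, ⟨2,1⟩],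
 !![⟨2,0⟩, ⟨1,0⟩, ⟨2,2⟩; ⟨1,0⟩, ⟨2,0⟩, ⟨2,2⟩; ⟨1,2⟩, ⟨1,2⟩, ⟨0,0⟩]],
 ![!![⟨2,1⟩, ⟨0,0⟩, ⟨2,1⟩; ⟨1,0⟩, ⟨2,2⟩, ⟨2,0⟩; ⟨1,0⟩, ⟨1,1⟩, ⟨2,0⟩],
 !![⟨1,2⟩, ⟨1,2⟩, ⟨0,0⟩; ⟨2,0⟩, ⟨1,0⟩, ⟨1,1⟩; ⟨2,0⟩, ⟨1,0⟩, ⟨2,2⟩]]]]],
 ![![(fun _ _ => O9),
 ![![!![⟨1,1⟩, ⟨1,0⟩, ⟨2,0⟩; ⟨0,0⟩, ⟨1,2⟩, ⟨1,2⟩; ⟨2,2⟩, ⟨1,0⟩, ⟨2,0⟩],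
 !![⟨2,2⟩, ⟨1,0⟩, ⟨2,0⟩; ⟨0,0⟩, ⟨2,1⟩, ⟨2,1⟩; ⟨1,1⟩, ⟨1,0⟩, ⟨2,0⟩]],
 ![!![⟨0,0⟩, ⟨1,0⟩, ⟨0,0⟩; ⟨1,0⟩, ⟨0,0⟩, ⟨0,0⟩; ⟨0,0⟩, ⟨0,0⟩, ⟨2,0⟩],
 !![⟨0,0⟩, ⟨0,0⟩, ⟨2,0⟩; ⟨2,0⟩, ⟨0,0⟩, ⟨0,0⟩; ⟨0,0⟩, ⟨1,0⟩, ⟨0,0⟩]]]],
 (fun _ _ _ => O9)]],
 ![![![![![O9,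
 !![⟨1,0⟩, ⟨0,0⟩, ⟨0,0⟩; ⟨0,0⟩, ⟨0,0⟩, ⟨1,0⟩; ⟨0,0⟩, ⟨2,0⟩, ⟨0,0⟩]],
 ![!![⟨1,0⟩, ⟨2,0⟩, ⟨2,2⟩; ⟨2,1⟩, ⟨2,1⟩, ⟨0,0⟩; ⟨1,0⟩, ⟨2,0⟩, ⟨1,1⟩],
 O9]],
 ![![O9,
 !![⟨1,0⟩, ⟨2,0⟩, ⟨1,1⟩; ⟨1,2⟩, ⟨1,2⟩, ⟨0,0⟩; ⟨1,0⟩, ⟨2,0⟩, ⟨2,2⟩]],
 ![!![⟨0,0⟩, ⟨2,0⟩, ⟨0,0⟩; ⟨0,0⟩, ⟨0,0⟩, ⟨2,0⟩; ⟨1,0⟩, ⟨0,0⟩, ⟨0,0⟩],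
 O9]]],
 ![![![O9,
 !![⟨2,0⟩, ⟨0,0⟩, ⟨0,0⟩; ⟨0,0⟩, ⟨2,0⟩, ⟨0,0⟩; ⟨0,0⟩, ⟨0,0⟩, ⟨1,0⟩]],
 ![!![⟨2,0⟩, ⟨1,1⟩, ⟨1,0⟩; ⟨1,2⟩, ⟨0,0⟩, ⟨1,2⟩; ⟨2,0⟩, ⟨2,2⟩, ⟨1,0⟩],
 O9]],
 ![![!![⟨2,0⟩, ⟨2,2⟩, ⟨1,0⟩; ⟨2,1⟩, ⟨0,0⟩, ⟨2,1⟩; ⟨2,0⟩, ⟨1,1⟩, ⟨1,0⟩],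
 O9],
 ![O9,
 !![⟨0,0⟩, ⟨0,0⟩, ⟨1,0⟩; ⟨0,0⟩, ⟨1,0⟩, ⟨0,0⟩; ⟨2,0⟩, ⟨0,0⟩, ⟨0,0⟩]]]]],
 ![![![![O9,
 !![⟨0,0⟩, ⟨1,2⟩, ⟨1,2⟩; ⟨1,1⟩, ⟨2,0⟩, ⟨1,0⟩; ⟨2,2⟩, ⟨2,0⟩, ⟨1,0⟩]],
 ![!![⟨2,0⟩, ⟨1,0⟩, ⟨1,1⟩; ⟨1,0⟩, ⟨2,0⟩, ⟨1,1⟩; ⟨2,1⟩, ⟨2,1⟩, ⟨0,0⟩],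
 O9]],
 ![![!![⟨2,2⟩, ⟨2,0⟩, ⟨1,0⟩; ⟨2,2⟩, ⟨1,0⟩, ⟨2,0⟩; ⟨0,0⟩, ⟨1,2⟩, ⟨1,2⟩],
 O9],
 ![O9,
 !![⟨2,1⟩, ⟨2,1⟩, ⟨0,0⟩; ⟨2,0⟩, ⟨1,0⟩, ⟨2,2⟩; ⟨2,0⟩, ⟨1,0⟩, ⟨1,1⟩]]]],
 ![![![O9,
 !![⟨0,0⟩, ⟨2,1⟩, ⟨2,1⟩; ⟨2,2⟩, ⟨2,0⟩, ⟨1,0⟩; ⟨1,1⟩, ⟨2,0⟩, ⟨1,0⟩]],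
 ![!![⟨1,0⟩, ⟨2,2⟩, ⟨2,0⟩; ⟨2,0⟩, ⟨2,2⟩, ⟨1,0⟩; ⟨1,2⟩, ⟨0,0⟩, ⟨1,2⟩],
 O9]],
 ![![O9,
 !![⟨1,1⟩, ⟨2,0⟩, ⟨1,0⟩; ⟨1,1⟩, ⟨1,0⟩, ⟨2,0⟩; ⟨0,0⟩, ⟨2,1⟩, ⟨2,1⟩]],
 ![!![⟨1,2⟩, ⟨0,0⟩, ⟨1,2⟩; ⟨1,0⟩, ⟨1,1⟩, ⟨2,0⟩; ⟨1,0⟩, ⟨2,2⟩, ⟨2,0⟩],
 O9]]]]]]]],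
 ![![![![![(fun _ _ _ => O9),
 ![![(fun _ => O9),
 ![!![⟨1,0⟩, ⟨2,0⟩, ⟨2,2⟩; ⟨2,0⟩, ⟨1,0⟩, ⟨2,2⟩; ⟨2,1⟩, ⟨2,1⟩, ⟨0,0⟩],
 !![⟨2,0⟩, ⟨2,2⟩, ⟨2,0⟩; ⟨1,0⟩, ⟨2,2⟩, ⟨1,0⟩; ⟨1,2⟩, ⟨0,0⟩, ⟨2,1⟩]]],
 ![(fun _ => O9),
 ![!![⟨1,2⟩, ⟨0,0⟩, ⟨2,1⟩; ⟨2,0⟩, ⟨1,1⟩, ⟨2,0⟩; ⟨2,0⟩, ⟨2,2⟩, ⟨2,0⟩],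
 !![⟨2,1⟩, ⟨2,1⟩, ⟨0,0⟩; ⟨1,0⟩, ⟨2,0⟩, ⟨1,1⟩; ⟨1,0⟩, ⟨2,0⟩, ⟨2,2⟩]]]]],
 ![![![![O9,
 !![⟨1,0⟩, ⟨0,0⟩, ⟨0,0⟩; ⟨0,0⟩, ⟨1,0⟩, ⟨0,0⟩; ⟨0,0⟩, ⟨0,0⟩, ⟨1,0⟩]],
 ![O9,
 !![⟨1,0⟩, ⟨1,1⟩, ⟨1,0⟩; ⟨1,2⟩, ⟨0,0⟩, ⟨2,1⟩; ⟨1,0⟩, ⟨2,2⟩, ⟨1,0⟩]]],
 ![![O9,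
 !![⟨1,0⟩, ⟨2,2⟩, ⟨1,0⟩; ⟨2,1⟩, ⟨0,0⟩, ⟨1,2⟩; ⟨1,0⟩, ⟨1,1⟩, ⟨1,0⟩]],
 ![O9,
 !![⟨0,0⟩, ⟨0,0⟩, ⟨1,0⟩; ⟨0,0⟩, ⟨2,0⟩, ⟨0,0⟩; ⟨1,0⟩, ⟨0,0⟩, ⟨0,0⟩]]]],
 ![![![O9,
 !![⟨2,0⟩, ⟨0,0⟩, ⟨0,0⟩; ⟨0,0⟩, ⟨0,0⟩, ⟨1,0⟩; ⟨0,0⟩, ⟨1,0⟩, ⟨0,0⟩]],
 ![!![⟨2,0⟩, ⟨1,0⟩, ⟨1,1⟩; ⟨2,1⟩, ⟨2,1⟩, ⟨0,0⟩; ⟨2,0⟩, ⟨1,0⟩, ⟨2,2⟩],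
 O9]],
 ![![O9,
 !![⟨2,0⟩, ⟨1,0⟩, ⟨2,2⟩; ⟨1,2⟩, ⟨1,2⟩, ⟨0,0⟩; ⟨2,0⟩, ⟨1,0⟩, ⟨1,1⟩]],
 ![!![⟨0,0⟩, ⟨1,0⟩, ⟨0,0⟩; ⟨0,0⟩, ⟨0,0⟩, ⟨2,0⟩; ⟨2,0⟩, ⟨0,0⟩, ⟨0,0⟩],
 O9]]]]],
 ![![(fun _ _ _ => O9),
 ![![(fun _ => O9),
 ![!![⟨1,1⟩, ⟨2,0⟩, ⟨2,0⟩; ⟨0,0⟩, ⟨1,2⟩, ⟨2,1⟩; ⟨2,2⟩, ⟨2,0⟩, ⟨2,0⟩],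
 !![⟨2,2⟩, ⟨2,0⟩, ⟨2,0⟩; ⟨0,0⟩, ⟨2,1⟩, ⟨1,2⟩; ⟨1,1⟩, ⟨2,0⟩, ⟨2,0⟩]]],
 ![(fun _ => O9),
 ![!![⟨0,0⟩, ⟨2,0⟩, ⟨0,0⟩; ⟨2,0⟩, ⟨0,0⟩, ⟨0,0⟩; ⟨0,0⟩, ⟨0,0⟩, ⟨2,0⟩],
 !![⟨0,0⟩, ⟨0,0⟩, ⟨2,0⟩; ⟨1,0⟩, ⟨0,0⟩, ⟨0,0⟩; ⟨0,0⟩, ⟨2,0⟩, ⟨0,0⟩]]]]],
 ![![![![O9,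
 !![⟨0,0⟩, ⟨2,1⟩, ⟨1,2⟩; ⟨2,2⟩, ⟨1,0⟩, ⟨1,0⟩; ⟨1,1⟩, ⟨1,0⟩, ⟨1,0⟩]],
 ![O9,
 !![⟨1,1⟩, ⟨1,0⟩, ⟨1,0⟩; ⟨1,1⟩, ⟨2,0⟩, ⟨2,0⟩; ⟨0,0⟩, ⟨2,1⟩, ⟨1,2⟩]]],
 ![![O9,
 !![⟨1,0⟩, ⟨2,0⟩, ⟨1,1⟩; ⟨2,0⟩, ⟨1,0⟩, ⟨1,1⟩; ⟨1,2⟩, ⟨1,2⟩, ⟨0,0⟩]],
 ![O9,
 !![⟨1,2⟩, ⟨1,2⟩, ⟨0,0⟩; ⟨1,0⟩, ⟨2,0⟩, ⟨2,2⟩; ⟨1,0⟩, ⟨2,0⟩, ⟨1,1⟩]]]],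
 ![![![O9,
 !![⟨0,0⟩, ⟨1,2⟩, ⟨2,1⟩; ⟨1,1⟩, ⟨1,0⟩, ⟨1,0⟩; ⟨2,2⟩, ⟨1,0⟩, ⟨1,0⟩]],
 ![!![⟨2,2⟩, ⟨1,0⟩, ⟨1,0⟩; ⟨2,2⟩, ⟨2,0⟩, ⟨2,0⟩; ⟨0,0⟩, ⟨1,2⟩, ⟨2,1⟩],
 O9]],
 ![![O9,
 !![⟨2,0⟩, ⟨1,1⟩, ⟨2,0⟩; ⟨1,0⟩, ⟨1,1⟩, ⟨1,0⟩; ⟨2,1⟩, ⟨0,0⟩, ⟨1,2⟩]],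
 ![!![⟨2,1⟩, ⟨0,0⟩, ⟨1,2⟩; ⟨2,0⟩, ⟨2,2⟩, ⟨2,0⟩; ⟨2,0⟩, ⟨1,1⟩, ⟨2,0⟩],
 O9]]]]]],
 ![![![(fun _ _ _ => O9),
 ![![(fun _ => O9),
 ![!![⟨2,0⟩, ⟨1,1⟩, ⟨1,0⟩; ⟨1,0⟩, ⟨1,1⟩, ⟨2,0⟩; ⟨1,2⟩, ⟨0,0⟩, ⟨1,2⟩],
 !![⟨1,0⟩, ⟨1,0⟩, ⟨1,1⟩; ⟨2,0⟩, ⟨2,0⟩, ⟨1,1⟩; ⟨2,1⟩, ⟨1,2⟩, ⟨0,0⟩]]],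
 ![(fun _ => O9),
 ![!![⟨1,2⟩, ⟨0,0⟩, ⟨1,2⟩; ⟨2,0⟩, ⟨2,2⟩, ⟨1,0⟩; ⟨2,0⟩, ⟨1,1⟩, ⟨1,0⟩],
 !![⟨2,1⟩, ⟨1,2⟩, ⟨0,0⟩; ⟨1,0⟩, ⟨1,0⟩, ⟨2,2⟩; ⟨1,0⟩, ⟨1,0⟩, ⟨1,1⟩]]]]],
 ![![![![O9,
 !![⟨2,0⟩, ⟨0,0⟩, ⟨0,0⟩; ⟨0,0⟩, ⟨0,0⟩, ⟨2,0⟩; ⟨0,0⟩, ⟨2,0⟩, ⟨0,0⟩]],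
 ![O9,
 !![⟨2,0⟩, ⟨2,0⟩, ⟨2,2⟩; ⟨2,1⟩, ⟨1,2⟩, ⟨0,0⟩; ⟨2,0⟩, ⟨2,0⟩, ⟨1,1⟩]]],
 ![![!![⟨2,0⟩, ⟨2,0⟩, ⟨1,1⟩; ⟨1,2⟩, ⟨2,1⟩, ⟨0,0⟩; ⟨2,0⟩, ⟨2,0⟩, ⟨2,2⟩],
 O9],
 ![!![⟨0,0⟩, ⟨2,0⟩, ⟨0,0⟩; ⟨0,0⟩, ⟨0,0⟩, ⟨1,0⟩; ⟨2,0⟩, ⟨0,0⟩, ⟨0,0⟩],
 O9]]],
 ![![![O9,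
 !![⟨1,0⟩, ⟨0,0⟩, ⟨0,0⟩; ⟨0,0⟩, ⟨2,0⟩, ⟨0,0⟩; ⟨0,0⟩, ⟨0,0⟩, ⟨2,0⟩]],
 ![!![⟨1,0⟩, ⟨2,2⟩, ⟨2,0⟩; ⟨1,2⟩, ⟨0,0⟩, ⟨1,2⟩; ⟨1,0⟩, ⟨1,1⟩, ⟨2,0⟩],
 O9]],
 ![![!![⟨1,0⟩, ⟨1,1⟩, ⟨2,0⟩; ⟨2,1⟩, ⟨0,0⟩, ⟨2,1⟩; ⟨1,0⟩, ⟨2,2⟩, ⟨2,0⟩],
 O9],
 ![O9,
 !![⟨0,0⟩, ⟨0,0⟩, ⟨2,0⟩; ⟨0,0⟩, ⟨1,0⟩, ⟨0,0⟩; ⟨1,0⟩, ⟨0,0⟩, ⟨0,0⟩]]]]]],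
 ![![![![(fun _ => O9),
 ![!![⟨2,2⟩, ⟨1,0⟩, ⟨1,0⟩; ⟨0,0⟩, ⟨1,2⟩, ⟨2,1⟩; ⟨1,1⟩, ⟨1,0⟩, ⟨1,0⟩],
 !![⟨1,1⟩, ⟨1,0⟩, ⟨1,0⟩; ⟨0,0⟩, ⟨2,1⟩, ⟨1,2⟩; ⟨2,2⟩, ⟨1,0⟩, ⟨1,0⟩]]],
 ![(fun _ => O9),
 ![!![⟨0,0⟩, ⟨1,0⟩, ⟨0,0⟩; ⟨2,0⟩, ⟨0,0⟩, ⟨0,0⟩; ⟨0,0⟩, ⟨0,0⟩, ⟨1,0⟩],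
 !![⟨0,0⟩, ⟨0,0⟩, ⟨1,0⟩; ⟨1,0⟩, ⟨0,0⟩, ⟨0,0⟩; ⟨0,0⟩, ⟨1,0⟩, ⟨0,0⟩]]]],
 (fun _ _ _ => O9)],
 ![![![![O9,
 !![⟨0,0⟩, ⟨1,2⟩, ⟨2,1⟩; ⟨2,2⟩, ⟨2,0⟩, ⟨2,0⟩; ⟨1,1⟩, ⟨2,0⟩, ⟨2,0⟩]],
 ![!![⟨1,1⟩, ⟨2,0⟩, ⟨2,0⟩; ⟨1,1⟩, ⟨1,0⟩, ⟨1,0⟩; ⟨0,0⟩, ⟨1,2⟩, ⟨2,1⟩],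
 O9]],
 ![![!![⟨1,0⟩, ⟨1,0⟩, ⟨2,2⟩; ⟨2,0⟩, ⟨2,0⟩, ⟨2,2⟩; ⟨1,2⟩, ⟨2,1⟩, ⟨0,0⟩],
 O9],
 ![O9,
 !![⟨1,2⟩, ⟨2,1⟩, ⟨0,0⟩; ⟨1,0⟩, ⟨1,0⟩, ⟨1,1⟩; ⟨1,0⟩, ⟨1,0⟩, ⟨2,2⟩]]]],
 ![![![O9,
 !![⟨0,0⟩, ⟨2,1⟩, ⟨1,2⟩; ⟨1,1⟩, ⟨2,0⟩, ⟨2,0⟩; ⟨2,2⟩, ⟨2,0⟩, ⟨2,0⟩]],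
 ![O9,
 !![⟨2,2⟩, ⟨2,0⟩, ⟨2,0⟩; ⟨2,2⟩, ⟨1,0⟩, ⟨1,0⟩; ⟨0,0⟩, ⟨2,1⟩, ⟨1,2⟩]]],
 ![![!![⟨2,0⟩, ⟨2,2⟩, ⟨1,0⟩; ⟨1,0⟩, ⟨2,2⟩, ⟨2,0⟩; ⟨2,1⟩, ⟨0,0⟩, ⟨2,1⟩],
 O9],
 ![!![⟨2,1⟩, ⟨0,0⟩, ⟨2,1⟩; ⟨2,0⟩, ⟨1,1⟩, ⟨1,0⟩; ⟨2,0⟩, ⟨2,2⟩, ⟨1,0⟩],
 O9]]]]]]],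
 ![![![![(fun _ _ _ => O9),
 ![![(fun _ => O9),
 ![!![⟨2,0⟩, ⟨1,0⟩, ⟨1,1⟩; ⟨1,2⟩, ⟨1,2⟩, ⟨0,0⟩; ⟨1,0⟩, ⟨2,0⟩, ⟨1,1⟩],
 !![⟨2,0⟩, ⟨2,0⟩, ⟨2,2⟩; ⟨1,2⟩, ⟨2,1⟩, ⟨0,0⟩; ⟨1,0⟩, ⟨1,0⟩, ⟨2,2⟩]]],
 ![![!![⟨1,0⟩, ⟨1,0⟩, ⟨2,2⟩; ⟨2,1⟩, ⟨1,2⟩, ⟨0,0⟩; ⟨2,0⟩, ⟨2,0⟩, ⟨2,2⟩],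
 !![⟨1,0⟩, ⟨2,0⟩, ⟨1,1⟩; ⟨2,1⟩, ⟨2,1⟩, ⟨0,0⟩; ⟨2,0⟩, ⟨1,0⟩, ⟨1,1⟩]],
 (fun _ => O9)]]],
 ![![![![O9,
 !![⟨0,0⟩, ⟨1,2⟩, ⟨1,2⟩; ⟨1,1⟩, ⟨1,0⟩, ⟨2,0⟩; ⟨1,1⟩, ⟨2,0⟩, ⟨1,0⟩]],
 ![O9,
 !![⟨1,0⟩, ⟨1,0⟩, ⟨1,1⟩; ⟨1,0⟩, ⟨1,0⟩, ⟨2,2⟩; ⟨1,2⟩, ⟨2,1⟩, ⟨0,0⟩]]],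
 ![![O9,
 !![⟨1,1⟩, ⟨2,0⟩, ⟨1,0⟩; ⟨2,2⟩, ⟨2,0⟩, ⟨1,0⟩; ⟨0,0⟩, ⟨1,2⟩, ⟨1,2⟩]],
 ![O9,
 !![⟨1,2⟩, ⟨2,1⟩, ⟨0,0⟩; ⟨2,0⟩, ⟨2,0⟩, ⟨1,1⟩; ⟨1,0⟩, ⟨1,0⟩, ⟨1,1⟩]]]],
 ![![![O9,
 !![⟨0,0⟩, ⟨2,1⟩, ⟨2,1⟩; ⟨1,1⟩, ⟨2,0⟩, ⟨1,0⟩; ⟨1,1⟩, ⟨1,0⟩, ⟨2,0⟩]],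
 ![!![⟨1,0⟩, ⟨2,0⟩, ⟨2,2⟩; ⟨1,0⟩, ⟨2,0⟩, ⟨1,1⟩; ⟨1,2⟩, ⟨1,2⟩, ⟨0,0⟩],
 O9]],
 ![![!![⟨1,1⟩, ⟨1,0⟩, ⟨2,0⟩; ⟨2,2⟩, ⟨1,0⟩, ⟨2,0⟩; ⟨0,0⟩, ⟨2,1⟩, ⟨2,1⟩],
 O9],
 ![O9,
 !![⟨1,2⟩, ⟨1,2⟩, ⟨0,0⟩; ⟨2,0⟩, ⟨1,0⟩, ⟨2,2⟩; ⟨1,0⟩, ⟨2,0⟩, ⟨2,2⟩]]]]]],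
 ![![![![![O9,
 !![⟨0,0⟩, ⟨1,2⟩, ⟨2,1⟩; ⟨2,2⟩, ⟨1,0⟩, ⟨1,0⟩; ⟨2,2⟩, ⟨2,0⟩, ⟨2,0⟩]],
 ![O9,
 !![⟨2,2⟩, ⟨2,0⟩, ⟨2,0⟩; ⟨1,1⟩, ⟨2,0⟩, ⟨2,0⟩; ⟨0,0⟩, ⟨1,2⟩, ⟨2,1⟩]]],
 ![![O9,
 !![⟨2,0⟩, ⟨1,0⟩, ⟨2,2⟩; ⟨2,0⟩, ⟨1,0⟩, ⟨1,1⟩; ⟨2,1⟩, ⟨2,1⟩, ⟨0,0⟩]],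
 ![O9,
 !![⟨2,1⟩, ⟨2,1⟩, ⟨0,0⟩; ⟨1,0⟩, ⟨2,0⟩, ⟨2,2⟩; ⟨2,0⟩, ⟨1,0⟩, ⟨2,2⟩]]]],
 ![![![O9,
 !![⟨0,0⟩, ⟨2,1⟩, ⟨1,2⟩; ⟨2,2⟩, ⟨2,0⟩, ⟨2,0⟩; ⟨2,2⟩, ⟨1,0⟩, ⟨1,0⟩]],
 ![!![⟨2,2⟩, ⟨1,0⟩, ⟨1,0⟩; ⟨1,1⟩, ⟨1,0⟩, ⟨1,0⟩; ⟨0,0⟩, ⟨2,1⟩, ⟨1,2⟩],
 O9]],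
 ![![!![⟨2,0⟩, ⟨2,0⟩, ⟨1,1⟩; ⟨2,0⟩, ⟨2,0⟩, ⟨2,2⟩; ⟨2,1⟩, ⟨1,2⟩, ⟨0,0⟩],
 O9],
 ![O9,
 !![⟨2,1⟩, ⟨1,2⟩, ⟨0,0⟩; ⟨1,0⟩, ⟨1,0⟩, ⟨1,1⟩; ⟨2,0⟩, ⟨2,0⟩, ⟨1,1⟩]]]]],
 ![(fun _ _ _ => O9),
 ![![(fun _ => O9),
 ![!![⟨1,1⟩, ⟨2,0⟩, ⟨2,0⟩; ⟨0,0⟩, ⟨2,1⟩, ⟨1,2⟩; ⟨1,1⟩, ⟨1,0⟩, ⟨1,0⟩],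
 !![⟨1,1⟩, ⟨1,0⟩, ⟨1,0⟩; ⟨0,0⟩, ⟨1,2⟩, ⟨2,1⟩; ⟨1,1⟩, ⟨2,0⟩, ⟨2,0⟩]]],
 ![![!![⟨2,2⟩, ⟨2,0⟩, ⟨1,0⟩; ⟨0,0⟩, ⟨2,1⟩, ⟨2,1⟩; ⟨2,2⟩, ⟨1,0⟩, ⟨2,0⟩],
 !![⟨2,2⟩, ⟨1,0⟩, ⟨2,0⟩; ⟨0,0⟩, ⟨1,2⟩, ⟨1,2⟩; ⟨2,2⟩, ⟨2,0⟩, ⟨1,0⟩]],
 (fun _ => O9)]]]]],
 ![![![(fun _ _ _ => O9),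
 ![![(fun _ => O9),
 ![!![⟨1,0⟩, ⟨2,2⟩, ⟨2,0⟩; ⟨2,1⟩, ⟨0,0⟩, ⟨2,1⟩; ⟨2,0⟩, ⟨2,2⟩, ⟨1,0⟩],
 !![⟨1,0⟩, ⟨1,1⟩, ⟨1,0⟩; ⟨2,1⟩, ⟨0,0⟩, ⟨1,2⟩; ⟨2,0⟩, ⟨1,1⟩, ⟨2,0⟩]]],
 ![![!![⟨2,0⟩, ⟨2,2⟩, ⟨1,0⟩; ⟨1,2⟩, ⟨0,0⟩, ⟨1,2⟩; ⟨1,0⟩, ⟨2,2⟩, ⟨2,0⟩],
 !![⟨2,0⟩, ⟨1,1⟩, ⟨2,0⟩; ⟨1,2⟩, ⟨0,0⟩, ⟨2,1⟩; ⟨1,0⟩, ⟨1,1⟩, ⟨1,0⟩]],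
 (fun _ => O9)]]],
 ![![![![O9,
 !![⟨0,0⟩, ⟨2,1⟩, ⟨2,1⟩; ⟨2,2⟩, ⟨1,0⟩, ⟨2,0⟩; ⟨2,2⟩, ⟨2,0⟩, ⟨1,0⟩]],
 ![O9,
 !![⟨2,0⟩, ⟨2,2⟩, ⟨2,0⟩; ⟨2,0⟩, ⟨1,1⟩, ⟨2,0⟩; ⟨2,1⟩, ⟨0,0⟩, ⟨1,2⟩]]],
 ![![!![⟨2,2⟩, ⟨2,0⟩, ⟨1,0⟩; ⟨1,1⟩, ⟨2,0⟩, ⟨1,0⟩; ⟨0,0⟩, ⟨2,1⟩, ⟨2,1⟩],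
 O9],
 ![!![⟨2,1⟩, ⟨0,0⟩, ⟨1,2⟩; ⟨1,0⟩, ⟨2,2⟩, ⟨1,0⟩; ⟨2,0⟩, ⟨2,2⟩, ⟨2,0⟩],
 O9]]],
 ![![![O9,
 !![⟨0,0⟩, ⟨1,2⟩, ⟨1,2⟩; ⟨2,2⟩, ⟨2,0⟩, ⟨1,0⟩; ⟨2,2⟩, ⟨1,0⟩, ⟨2,0⟩]],
 ![!![⟨2,0⟩, ⟨1,1⟩, ⟨1,0⟩; ⟨2,0⟩, ⟨2,2⟩, ⟨1,0⟩; ⟨2,1⟩, ⟨0,0⟩, ⟨2,1⟩],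
 O9]],
 ![![O9,
 !![⟨2,2⟩, ⟨1,0⟩, ⟨2,0⟩; ⟨1,1⟩, ⟨1,0⟩, ⟨2,0⟩; ⟨0,0⟩, ⟨1,2⟩, ⟨1,2⟩]],
 ![!![⟨2,1⟩, ⟨0,0⟩, ⟨2,1⟩; ⟨1,0⟩, ⟨1,1⟩, ⟨2,0⟩; ⟨2,0⟩, ⟨1,1⟩, ⟨1,0⟩],
 O9]]]]],
 ![![![![![O9,
 !![⟨0,0⟩, ⟨2,1⟩, ⟨1,2⟩; ⟨1,1⟩, ⟨1,0⟩, ⟨1,0⟩; ⟨1,1⟩, ⟨2,0⟩, ⟨2,0⟩]],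
 ![!![⟨1,1⟩, ⟨2,0⟩, ⟨2,0⟩; ⟨2,2⟩, ⟨2,0⟩, ⟨2,0⟩; ⟨0,0⟩, ⟨2,1⟩, ⟨1,2⟩],
 O9]],
 ![![O9,
 !![⟨1,0⟩, ⟨2,2⟩, ⟨1,0⟩; ⟨1,0⟩, ⟨1,1⟩, ⟨1,0⟩; ⟨1,2⟩, ⟨0,0⟩, ⟨2,1⟩]],
 ![!![⟨1,2⟩, ⟨0,0⟩, ⟨2,1⟩; ⟨2,0⟩, ⟨2,2⟩, ⟨2,0⟩; ⟨1,0⟩, ⟨2,2⟩, ⟨1,0⟩],
 O9]]],
 ![![![O9,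
 !![⟨0,0⟩, ⟨1,2⟩, ⟨2,1⟩; ⟨1,1⟩, ⟨2,0⟩, ⟨2,0⟩; ⟨1,1⟩, ⟨1,0⟩, ⟨1,0⟩]],
 ![O9,
 !![⟨1,1⟩, ⟨1,0⟩, ⟨1,0⟩; ⟨2,2⟩, ⟨1,0⟩, ⟨1,0⟩; ⟨0,0⟩, ⟨1,2⟩, ⟨2,1⟩]]],
 ![![!![⟨1,0⟩, ⟨1,1⟩, ⟨2,0⟩; ⟨1,0⟩, ⟨2,2⟩, ⟨2,0⟩; ⟨1,2⟩, ⟨0,0⟩, ⟨1,2⟩],
 O9],
 ![!![⟨1,2⟩, ⟨0,0⟩, ⟨1,2⟩; ⟨2,0⟩, ⟨1,1⟩, ⟨1,0⟩; ⟨1,0⟩, ⟨1,1⟩, ⟨2,0⟩],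
 O9]]]],
 ![![![(fun _ => O9),
 ![!![⟨2,2⟩, ⟨1,0⟩, ⟨1,0⟩; ⟨0,0⟩, ⟨2,1⟩, ⟨1,2⟩; ⟨2,2⟩, ⟨2,0⟩, ⟨2,0⟩],
 !![⟨2,2⟩, ⟨2,0⟩, ⟨2,0⟩; ⟨0,0⟩, ⟨1,2⟩, ⟨2,1⟩; ⟨2,2⟩, ⟨1,0⟩, ⟨1,0⟩]]],
 ![![!![⟨1,1⟩, ⟨1,0⟩, ⟨2,0⟩; ⟨0,0⟩, ⟨2,1⟩, ⟨2,1⟩; ⟨1,1⟩, ⟨2,0⟩, ⟨1,0⟩],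
 !![⟨1,1⟩, ⟨2,0⟩, ⟨1,0⟩; ⟨0,0⟩, ⟨1,2⟩, ⟨1,2⟩; ⟨1,1⟩, ⟨1,0⟩, ⟨2,0⟩]],
 (fun _ => O9)]],
 (fun _ _ _ => O9)]]]]]]

def mk (a b c d e f g h k : ZMod 2) : Matrix (Fin 3) (Fin 3) (ZMod 2) := !![a, b, c; d, e, f; g, h, k]

def rho0 (M : Matrix (Fin 3) (Fin 3) (ZMod 2)) : M9 :=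
  tab (M 0 0) (M 0 1) (M 0 2) (M 1 0) (M 1 1) (M 1 2) (M 2 0) (M 2 1) (M 2 2)

def det3 {R : Type*} [CommRing R] (M : Matrix (Fin 3) (Fin 3) R) : R :=
  M 0 0 * M 1 1 * M 2 2 - M 0 0 * M 1 2 * M 2 1 - M 0 1 * M 1 0 * M 2 2 + M 0 1 * M 1 2 * M 2 0 +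
    M 0 2 * M 1 0 * M 2 1 - M 0 2 * M 1 1 * M 2 0

theorem det3_eq {R : Type*} [CommRing R] (M : Matrix (Fin 3) (Fin 3) R) : det3 M = M.det := by
  rw [Matrix.det_fin_three, det3]

theorem mk_eta (M : Matrix (Fin 3) (Fin 3) (ZMod 2)) :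
    M = mk (M 0 0) (M 0 1) (M 0 2) (M 1 0) (M 1 1) (M 1 2) (M 2 0) (M 2 1) (M 2 2) := by
  ext i j
  fin_cases i <;> fin_cases j <;> rfl

set_option maxRecDepth 100000 in
theorem check_mul : ∀ a b c d e f g h k : ZMod 2, det3 (mk a b c d e f g h k) = 1 →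
    ∀ i j : Fin 3, i ≠ j → ∀ t : ZMod 2,
      rho0 (mk a b c d e f g h k * Matrix.transvection i j t) =
        rho0 (mk a b c d e f g h k) * rho0 (Matrix.transvection i j t) := by
  decide +kernel

set_option maxRecDepth 100000 in
theorem check_unit : ∀ a b c d e f g h k : ZMod 2, det3 (mk a b c d e f g h k) = 1 →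
    (rho0 (mk a b c d e f g h k))ᵀ * (rho0 (mk a b c d e f g h k)).map cj = 1 ∧
    det3 (rho0 (mk a b c d e f g h k)) = 1 ∧
    (rho0 (mk a b c d e f g h k) = 1 → mk a b c d e f g h k = 1) := by
  decide +kernel

set_option maxRecDepth 100000 in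
theorem check_center : ∀ a b c d e f g h k : ZMod 2, det3 (mk a b c d e f g h k) = 1 →
    (∀ i j : Fin 3, i ≠ j → mk a b c d e f g h k * Matrix.transvection i j 1 =
      Matrix.transvection i j 1 * mk a b c d e f g h k) → mk a b c d e f g h k = 1 := by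
  decide +kernel

theorem rho0_one : rho0 1 = 1 := by decide +kernel

end Cfsg.Agent.Lib.H29.L27Tab
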