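import Mathlib

/-!
# LC-PACK (helper29, for helper27's S0406 farm-out)

A binary linear code of length 24 and minimum weight `≥ 8` has at most `759` words of weight `8`:
two distinct words of weight `8` meet in at most `4` points, so every `5`-subset of the `24`
points lies in the support of at most one of them, and `56 * N ≤ Nat.choose 24 5 = 42504`.
-/

set_option autoImplicit false

namespace Cfsg.Agent.Lib.H29.LC

/-- The support of a binary word. -/
def lcSupp (w : Fin 24 → ZMod 2) : Finset (Fin 24) := Finset.univ.filter (fun i => w i ≠ 0)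

theorem lcSupp_card (w : Fin 24 → ZMod 2) : (lcSupp w).card = hammingNorm w := rfl

theorem mem_lcSupp (w : Fin 24 → ZMod 2) (i : Fin 24) : i ∈ lcSupp w ↔ w i ≠ 0 := by
  simp [lcSupp]

theorem lc_zmod2_add_ne (a b : ZMod 2) : a + b ≠ 0 ↔ (a ≠ 0 ∧ b = 0) ∨ (a = 0 ∧ b ≠ 0) := by
  revert a b; decide

theorem lcSupp_add (v w : Fin 24 → ZMod 2) :
    lcSupp (v + w) = (lcSupp v \ lcSupp w) ∪ (lcSupp w \ lcSupp v) := by
  ext i
  simp only [Finset.mem_union, Finset.mem_sdiff, mem_lcSupp, Pi.add_apply, lc_zmod2_add_ne,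
    not_not]
  tauto

theorem lc_inter_card_le (C : Submodule (ZMod 2) (Fin 24 → ZMod 2))
    (hmin : ∀ w ∈ C, w ≠ 0 → 8 ≤ hammingNorm w) {v w : Fin 24 → ZMod 2} (hv : v ∈ C) (hw : w ∈ C)
    (hv8 : hammingNorm v = 8) (hw8 : hammingNorm w = 8) (hne : v ≠ w) :
    (lcSupp v ∩ lcSupp w).card ≤ 4 := by
  have hsum : v + w ∈ C := C.add_mem hv hw
  have hne0 : v + w ≠ 0 := by
    intro h
    apply hne
    have h2 : v = -w := eq_neg_of_add_eq_zero_left h
    rw [h2]
    funext i
    have : ∀ a : ZMod 2, -a = a := by decide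
    exact this (w i)
  have h8 := hmin _ hsum hne0
  rw [← lcSupp_card, lcSupp_add, Finset.card_union_of_disjoint] at h8
  · have h1 := Finset.card_sdiff_add_card_inter (lcSupp v) (lcSupp w)
    have h2 := Finset.card_sdiff_add_card_inter (lcSupp w) (lcSupp v)
    rw [lcSupp_card, hv8] at h1
    rw [lcSupp_card, hw8, Finset.inter_comm] at h2
    omega
  · rw [Finset.disjoint_left]
    intro i hi hi'
    rw [Finset.mem_sdiff] at hi hi'
    exact hi.2 hi'.1

theorem ncard_weight_eight_le (C : Submodule (ZMod 2) (Fin 24 → ZMod 2))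
    (hmin : ∀ w ∈ C, w ≠ 0 → 8 ≤ hammingNorm w) :
    {w : Fin 24 → ZMod 2 | w ∈ C ∧ hammingNorm w = 8}.ncard ≤ 759 := by
  classical
  set W : Finset (Fin 24 → ZMod 2) :=
    Finset.univ.filter (fun w => w ∈ C ∧ hammingNorm w = 8) with hW
  have hset : {w : Fin 24 → ZMod 2 | w ∈ C ∧ hammingNorm w = 8} = (W : Set (Fin 24 → ZMod 2)) := by
    ext w
    simp [hW]
  rw [hset, Set.ncard_coe_finset]
  have hmemW : ∀ w, w ∈ W ↔ w ∈ C ∧ hammingNorm w = 8 := by
    intro w
    simp [hW]
  -- the family of 5-subsets of the supports is pairwise disjoint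
  have hdisj : ∀ v ∈ W, ∀ w ∈ W, v ≠ w →
      Disjoint (Finset.powersetCard 5 (lcSupp v)) (Finset.powersetCard 5 (lcSupp w)) := by
    intro v hv w hw hne
    rw [Finset.disjoint_left]
    intro T hTv hTw
    rw [Finset.mem_powersetCard] at hTv hTw
    have hsub : T ⊆ lcSupp v ∩ lcSupp w := Finset.subset_inter hTv.1 hTw.1
    have h1 := Finset.card_le_card hsub
    have h2 := lc_inter_card_le C hmin ((hmemW v).1 hv).1 ((hmemW w).1 hw).1
      ((hmemW v).1 hv).2 ((hmemW w).1 hw).2 hne
    omega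
  have hcard : (W.biUnion (fun w => Finset.powersetCard 5 (lcSupp w))).card = 56 * W.card := by
    rw [Finset.card_biUnion hdisj]
    rw [Finset.sum_congr rfl (g := fun _ => 56)]
    · rw [Finset.sum_const, smul_eq_mul, mul_comm]
    · intro w hw
      rw [Finset.card_powersetCard, lcSupp_card, ((hmemW w).1 hw).2]
      rfl
  have hsub : W.biUnion (fun w => Finset.powersetCard 5 (lcSupp w)) ⊆
      Finset.powersetCard 5 (Finset.univ : Finset (Fin 24)) := by
    intro T hT
    rw [Finset.mem_biUnion] at hT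
    obtain ⟨w, _, hTw⟩ := hT
    rw [Finset.mem_powersetCard] at hTw ⊢
    exact ⟨Finset.subset_univ _, hTw.2⟩
  have hle := Finset.card_le_card hsub
  rw [hcard, Finset.card_powersetCard, Finset.card_univ, Fintype.card_fin] at hle
  have h24 : Nat.choose 24 5 = 42504 := by decide
  rw [h24] at hle
  omega

end Cfsg.Agent.Lib.H29.LC
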