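import Mathlib

/-!
# S0420, piece ABS: the purely combinatorial core (a rank 3 graph on 55 points)
-/

set_option autoImplicit false

namespace Cfsg.Agent.Lib.H29.M11

open Finset

/-- The hypotheses of `abs_graph`, bundled. -/
structure AbsHyp {Ω : Type*} [Fintype Ω] [DecidableEq Ω] (adj : Ω → Ω → Prop) [DecidableRel adj]
    (μ : ℕ) (P : Ω) (D1 D2 : Finset Ω) (m : Ω → Ω) : Prop where
  symm : ∀ x y, adj x y → adj y x
  irr : ∀ x, ¬ adj x x
  card : Fintype.card Ω = 55
  deg : ∀ x, (Finset.univ.filter (fun y => adj x y)).card = 18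
  mu : ∀ x y, x ≠ y → ¬ adj x y →
      (Finset.univ.filter (fun w => adj x w ∧ adj y w)).card = μ
  cD1 : D1.card = 9
  cD2 : D2.card = 9
  disj : Disjoint D1 D2
  delta : ∀ x, adj P x ↔ x ∈ D1 ∨ x ∈ D2
  mm : ∀ x ∈ D1, m x ∈ D2
  minj : ∀ x ∈ D1, ∀ y ∈ D1, m x = m y → x = y
  madj : ∀ x ∈ D1, adj x (m x)
  ha : ∀ x ∈ D1, ∀ y ∈ D1, ∀ x' ∈ D1, ∀ y' ∈ D1, x ≠ y → x' ≠ y' → (adj x y ↔ adj x' y')
  ha' : ∀ x ∈ D1, ∀ y ∈ D1, ∀ x' ∈ D2, ∀ y' ∈ D2, x ≠ y → x' ≠ y' → (adj x y ↔ adj x' y')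
  hb : ∀ x ∈ D1, ∀ y ∈ D2, ∀ x' ∈ D1, ∀ y' ∈ D2, y ≠ m x → y' ≠ m x' → (adj x y ↔ adj x' y')
  hG : ∀ w w', w ≠ P → ¬ adj P w → w' ≠ P → ¬ adj P w' →
        ((D1.filter (fun x => adj w x)).card = (D1.filter (fun x => adj w' x)).card ∧
         (D2.filter (fun x => adj w x)).card = (D2.filter (fun x => adj w' x)).card) ∨
        ((D1.filter (fun x => adj w x)).card = (D2.filter (fun x => adj w' x)).card ∧
         (D2.filter (fun x => adj w x)).card = (D1.filter (fun x => adj w' x)).card)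

section

variable {Ω : Type*} [Fintype Ω] [DecidableEq Ω] {adj : Ω → Ω → Prop} [DecidableRel adj]
  {μ : ℕ} {P : Ω} {D1 D2 : Finset Ω} {m : Ω → Ω}

/-- The non-neighbours of `P` other than `P`. -/
def gam (adj : Ω → Ω → Prop) [DecidableRel adj] (P : Ω) : Finset Ω :=
  Finset.univ.filter (fun w => w ≠ P ∧ ¬ adj P w)

theorem mem_gam {w : Ω} : w ∈ gam adj P ↔ w ≠ P ∧ ¬ adj P w := by
  simp [gam]

namespace AbsHyp

variable (h : AbsHyp adj μ P D1 D2 m)
include h

theorem P_notMem_D1 : P ∉ D1 := fun hP => h.irr P ((h.delta P).2 (Or.inl hP))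

theorem P_notMem_D2 : P ∉ D2 := fun hP => h.irr P ((h.delta P).2 (Or.inr hP))

theorem notMem_D2_of_mem_D1 {x : Ω} (hx : x ∈ D1) : x ∉ D2 :=
  fun hx2 => (Finset.disjoint_left.1 h.disj hx) hx2

/-- Splitting a count along the partition `{P} ⊔ D1 ⊔ D2 ⊔ Γ`. -/
theorem card_filter_split (q : Ω → Prop) [DecidablePred q] :
    (Finset.univ.filter q).card = (if q P then 1 else 0) + (D1.filter q).card +
      (D2.filter q).card + ((gam adj P).filter q).card := by
  have e0 : (if q P then 1 else 0) = ∑ w : Ω, if (w = P ∧ q w) then 1 else 0 := by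
    rw [← Finset.card_filter]
    split_ifs with hq
    · have : Finset.univ.filter (fun w => w = P ∧ q w) = {P} := by
        ext w; simp only [mem_filter, mem_univ, true_and, mem_singleton]
        constructor
        · exact fun hw => hw.1
        · rintro rfl; exact ⟨rfl, hq⟩
      rw [this, Finset.card_singleton]
    · have : Finset.univ.filter (fun w => w = P ∧ q w) = ∅ := by
        ext w; simp only [mem_filter, mem_univ, true_and, notMem_empty, iff_false]
        rintro ⟨rfl, hw⟩; exact hq hw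
      rw [this, Finset.card_empty]
  have e1 : (D1.filter q).card = ∑ w : Ω, if (w ∈ D1 ∧ q w) then 1 else 0 := by
    rw [← Finset.card_filter]; congr 1; ext w; simp
  have e2 : (D2.filter q).card = ∑ w : Ω, if (w ∈ D2 ∧ q w) then 1 else 0 := by
    rw [← Finset.card_filter]; congr 1; ext w; simp
  have e3 : ((gam adj P).filter q).card = ∑ w : Ω, if (w ∈ gam adj P ∧ q w) then 1 else 0 := by
    rw [← Finset.card_filter]; congr 1; ext w; simp
  rw [e0, e1, e2, e3, Finset.card_filter, ← Finset.sum_add_distrib, ← Finset.sum_add_distrib,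
    ← Finset.sum_add_distrib]
  refine Finset.sum_congr rfl fun w _ => ?_
  have hP1 := h.P_notMem_D1
  have hP2 := h.P_notMem_D2
  by_cases hq : q w
  · by_cases hwP : w = P
    · subst hwP
      simp [hq, hP1, hP2, mem_gam]
    · by_cases h1 : w ∈ D1
      · have h2 := h.notMem_D2_of_mem_D1 h1
        have h3 : adj P w := (h.delta w).2 (Or.inl h1)
        simp [hq, hwP, h1, h2, h3, mem_gam]
      · by_cases h2 : w ∈ D2
        · have h3 : adj P w := (h.delta w).2 (Or.inr h2)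
          simp [hq, hwP, h1, h2, h3, mem_gam]
        · have h3 : ¬ adj P w := fun h3 => by
            rcases (h.delta w).1 h3 with h4 | h4
            · exact h1 h4
            · exact h2 h4
          simp [hq, hwP, h1, h2, h3, mem_gam]
  · simp [hq]

theorem card_gam : (gam adj P).card = 36 := by
  have := h.card_filter_split (fun _ => True)
  simp only [Finset.filter_true, if_true, Finset.card_univ, h.card, h.cD1, h.cD2] at this
  omega

/-- `m` maps `D1` onto `D2`. -/
theorem image_m : D1.image m = D2 := by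
  apply Finset.eq_of_subset_of_card_le
  · intro y hy
    obtain ⟨x, hx, rfl⟩ := Finset.mem_image.1 hy
    exact h.mm x hx
  · rw [Finset.card_image_of_injOn (fun x hx y hy hxy => h.minj x hx y hy hxy), h.cD1, h.cD2]

theorem exists_pair_D1 : ∃ x ∈ D1, ∃ y ∈ D1, x ≠ y := by
  have : 1 < D1.card := by rw [h.cD1]; norm_num
  exact Finset.one_lt_card.1 this

theorem exists_ne_D2 (a : Ω) : ∃ y ∈ D2, y ≠ a := by
  have : 1 < D2.card := by rw [h.cD2]; norm_num
  exact Finset.exists_mem_ne this a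

/-- The bit `a`. -/
theorem bitA : (∀ x ∈ D1, ∀ y ∈ D1, x ≠ y → adj x y) ∨ (∀ x ∈ D1, ∀ y ∈ D1, x ≠ y → ¬ adj x y) := by
  obtain ⟨x0, hx0, y0, hy0, hne⟩ := h.exists_pair_D1
  by_cases h0 : adj x0 y0
  · left; intro x hx y hy hxy
    exact (h.ha x0 hx0 y0 hy0 x hx y hy hne hxy).1 h0
  · right; intro x hx y hy hxy hadj
    exact h0 ((h.ha x0 hx0 y0 hy0 x hx y hy hne hxy).2 hadj)

theorem bitA_D2 (hA : ∀ x ∈ D1, ∀ y ∈ D1, x ≠ y → adj x y) :
    ∀ x ∈ D2, ∀ y ∈ D2, x ≠ y → adj x y := by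
  obtain ⟨x0, hx0, y0, hy0, hne⟩ := h.exists_pair_D1
  intro x hx y hy hxy
  exact (h.ha' x0 hx0 y0 hy0 x hx y hy hne hxy).1 (hA x0 hx0 y0 hy0 hne)

theorem bitA0_D2 (hA : ∀ x ∈ D1, ∀ y ∈ D1, x ≠ y → ¬ adj x y) :
    ∀ x ∈ D2, ∀ y ∈ D2, x ≠ y → ¬ adj x y := by
  obtain ⟨x0, hx0, y0, hy0, hne⟩ := h.exists_pair_D1
  intro x hx y hy hxy hadj
  exact hA x0 hx0 y0 hy0 hne ((h.ha' x0 hx0 y0 hy0 x hx y hy hne hxy).2 hadj)

/-- The bit `b`. -/
theorem bitB : (∀ x ∈ D1, ∀ y ∈ D2, y ≠ m x → adj x y) ∨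
    (∀ x ∈ D1, ∀ y ∈ D2, y ≠ m x → ¬ adj x y) := by
  obtain ⟨x0, hx0, -, -, -⟩ := h.exists_pair_D1
  obtain ⟨y0, hy0, hne⟩ := h.exists_ne_D2 (m x0)
  by_cases h0 : adj x0 y0
  · left; intro x hx y hy hxy
    exact (h.hb x0 hx0 y0 hy0 x hx y hy hne hxy).1 h0
  · right; intro x hx y hy hxy hadj
    exact h0 ((h.hb x0 hx0 y0 hy0 x hx y hy hne hxy).2 hadj)

theorem adj_P_of_mem_D1 {x : Ω} (hx : x ∈ D1) : adj x P := h.symm _ _ ((h.delta x).2 (Or.inl hx))

theorem adj_P_of_mem_D2 {x : Ω} (hx : x ∈ D2) : adj x P := h.symm _ _ ((h.delta x).2 (Or.inr hx))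

/-! ### neighbours inside `D1 ∪ D2` -/

theorem card_D1_nbr_of_A (hA : ∀ x ∈ D1, ∀ y ∈ D1, x ≠ y → adj x y) {x : Ω} (hx : x ∈ D1) :
    (D1.filter (fun y => adj x y)).card = 8 := by
  have : D1.filter (fun y => adj x y) = D1.erase x := by
    ext y
    simp only [mem_filter, mem_erase]
    constructor
    · rintro ⟨hy, hxy⟩
      refine ⟨?_, hy⟩
      rintro rfl; exact h.irr _ hxy
    · rintro ⟨hne, hy⟩
      exact ⟨hy, hA x hx y hy (Ne.symm hne)⟩
  rw [this, Finset.card_erase_of_mem hx, h.cD1]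

theorem card_D1_nbr_of_A0 (hA : ∀ x ∈ D1, ∀ y ∈ D1, x ≠ y → ¬ adj x y) {x : Ω} (hx : x ∈ D1) :
    (D1.filter (fun y => adj x y)).card = 0 := by
  rw [Finset.card_eq_zero, Finset.filter_eq_empty_iff]
  intro y hy hxy
  by_cases hne : x = y
  · subst hne; exact h.irr _ hxy
  · exact hA x hx y hy hne hxy

theorem card_D2_nbr_of_A (hA : ∀ x ∈ D2, ∀ y ∈ D2, x ≠ y → adj x y) {x : Ω} (hx : x ∈ D2) :
    (D2.filter (fun y => adj x y)).card = 8 := by
  have : D2.filter (fun y => adj x y) = D2.erase x := by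
    ext y
    simp only [mem_filter, mem_erase]
    constructor
    · rintro ⟨hy, hxy⟩
      refine ⟨?_, hy⟩
      rintro rfl; exact h.irr _ hxy
    · rintro ⟨hne, hy⟩
      exact ⟨hy, hA x hx y hy (Ne.symm hne)⟩
  rw [this, Finset.card_erase_of_mem hx, h.cD2]

theorem card_D2_nbr_of_A0 (hA : ∀ x ∈ D2, ∀ y ∈ D2, x ≠ y → ¬ adj x y) {x : Ω} (hx : x ∈ D2) :
    (D2.filter (fun y => adj x y)).card = 0 := by
  rw [Finset.card_eq_zero, Finset.filter_eq_empty_iff]
  intro y hy hxy
  by_cases hne : x = y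
  · subst hne; exact h.irr _ hxy
  · exact hA x hx y hy hne hxy

/-- `x ∈ D1`, bit `b = 1`: all of `D2` is adjacent to `x`. -/
theorem card_D2_nbr_of_B (hB : ∀ x ∈ D1, ∀ y ∈ D2, y ≠ m x → adj x y) {x : Ω} (hx : x ∈ D1) :
    (D2.filter (fun y => adj x y)).card = 9 := by
  have : D2.filter (fun y => adj x y) = D2 := by
    rw [Finset.filter_eq_self]
    intro y hy
    by_cases hne : y = m x
    · subst hne; exact h.madj x hx
    · exact hB x hx y hy hne
  rw [this, h.cD2]

/-- `x ∈ D1`, bit `b = 0`: only `m x` in `D2` is adjacent to `x`. -/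
theorem card_D2_nbr_of_B0 (hB : ∀ x ∈ D1, ∀ y ∈ D2, y ≠ m x → ¬ adj x y) {x : Ω} (hx : x ∈ D1) :
    (D2.filter (fun y => adj x y)).card = 1 := by
  have : D2.filter (fun y => adj x y) = {m x} := by
    ext y
    simp only [mem_filter, mem_singleton]
    constructor
    · rintro ⟨hy, hxy⟩
      by_contra hne
      exact hB x hx y hy hne hxy
    · rintro rfl
      exact ⟨h.mm x hx, h.madj x hx⟩
  rw [this, Finset.card_singleton]

/-- `y ∈ D2`, bit `b = 1`: all of `D1` is adjacent to `y`. -/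
theorem card_D1_nbr_of_B (hB : ∀ x ∈ D1, ∀ y ∈ D2, y ≠ m x → adj x y) {y : Ω} (hy : y ∈ D2) :
    (D1.filter (fun x => adj y x)).card = 9 := by
  have : D1.filter (fun x => adj y x) = D1 := by
    rw [Finset.filter_eq_self]
    intro x hx
    apply h.symm
    by_cases hne : y = m x
    · subst hne; exact h.madj x hx
    · exact hB x hx y hy hne
  rw [this, h.cD1]

/-- `y ∈ D2`, bit `b = 0`: only the `m`-preimage of `y` in `D1` is adjacent to `y`. -/
theorem card_D1_nbr_of_B0 (hB : ∀ x ∈ D1, ∀ y ∈ D2, y ≠ m x → ¬ adj x y) {y : Ω} (hy : y ∈ D2) :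
    (D1.filter (fun x => adj y x)).card = 1 := by
  have hy' := hy
  rw [← h.image_m, Finset.mem_image] at hy'
  obtain ⟨x0, hx0, rfl⟩ := hy'
  have : D1.filter (fun x => adj (m x0) x) = {x0} := by
    ext x
    simp only [mem_filter, mem_singleton]
    constructor
    · rintro ⟨hx, hxy⟩
      by_contra hne
      have h1 : m x0 ≠ m x := fun he => hne (h.minj x hx x0 hx0 he.symm)
      exact hB x hx (m x0) hy h1 (h.symm _ _ hxy)
    · rintro rfl
      exact ⟨hx0, h.symm _ _ (h.madj x hx0)⟩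
  rw [this, Finset.card_singleton]

/-- The number of neighbours in `Γ` of a vertex. -/
theorem card_gam_nbr (x : Ω) :
    (if adj x P then 1 else 0) + (D1.filter (fun y => adj x y)).card +
      (D2.filter (fun y => adj x y)).card + ((gam adj P).filter (fun y => adj x y)).card = 18 := by
  rw [← h.card_filter_split (fun y => adj x y), h.deg x]

/-! ### double counting between `D1 ∪ D2` and `Γ` -/

theorem card_D1_add_card_D2_of_mem_gam {w : Ω} (hw : w ∈ gam adj P) :
    (D1.filter (fun x => adj w x)).card + (D2.filter (fun x => adj w x)).card = μ := by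
  rw [mem_gam] at hw
  have h1 := h.mu P w (Ne.symm hw.1) hw.2
  rw [h.card_filter_split (fun v => adj P v ∧ adj w v)] at h1
  have e0 : ¬ (adj P P ∧ adj w P) := fun hc => h.irr P hc.1
  have e1 : D1.filter (fun v => adj P v ∧ adj w v) = D1.filter (fun x => adj w x) := by
    apply Finset.filter_congr
    intro v hv
    exact ⟨fun hc => hc.2, fun hc => ⟨(h.delta v).2 (Or.inl hv), hc⟩⟩
  have e2 : D2.filter (fun v => adj P v ∧ adj w v) = D2.filter (fun x => adj w x) := by
    apply Finset.filter_congr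
    intro v hv
    exact ⟨fun hc => hc.2, fun hc => ⟨(h.delta v).2 (Or.inr hv), hc⟩⟩
  have e3 : (gam adj P).filter (fun v => adj P v ∧ adj w v) = ∅ := by
    rw [Finset.filter_eq_empty_iff]
    intro v hv hc
    exact (mem_gam.1 hv).2 hc.1
  rw [if_neg e0, e1, e2, e3] at h1
  simpa using h1

omit h in
theorem sum_swap (hsymm : ∀ x y, adj x y → adj y x) (S T : Finset Ω) :
    ∑ x ∈ S, (T.filter (fun y => adj x y)).card = ∑ w ∈ T, (S.filter (fun x => adj w x)).card := by
  have := Finset.sum_card_bipartiteAbove_eq_sum_card_bipartiteBelow (s := S) (t := T) adj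
  simp only [Finset.bipartiteAbove, Finset.bipartiteBelow] at this
  rw [this]
  refine Finset.sum_congr rfl fun w _ => ?_
  congr 1
  apply Finset.filter_congr
  intro x _
  exact ⟨hsymm _ _, hsymm _ _⟩

theorem edge_count :
    ∑ x ∈ D1, ((gam adj P).filter (fun y => adj x y)).card +
      ∑ x ∈ D2, ((gam adj P).filter (fun y => adj x y)).card = 36 * μ := by
  rw [sum_swap h.symm D1 (gam adj P), sum_swap h.symm D2 (gam adj P), ← Finset.sum_add_distrib,
    Finset.sum_congr rfl (fun w hw => h.card_D1_add_card_D2_of_mem_gam hw), Finset.sum_const,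
    h.card_gam, smul_eq_mul]

/-- If every vertex of `D1` has `g1` neighbours in `Γ` and every vertex of `D2` has `g2`, then
`9 g1 + 9 g2 = 36 μ`. -/
theorem edge_count' (g1 g2 : ℕ)
    (h1 : ∀ x ∈ D1, ((gam adj P).filter (fun y => adj x y)).card = g1)
    (h2 : ∀ x ∈ D2, ((gam adj P).filter (fun y => adj x y)).card = g2) :
    9 * g1 + 9 * g2 = 36 * μ := by
  have := h.edge_count
  rw [Finset.sum_congr rfl h1, Finset.sum_congr rfl h2, Finset.sum_const, Finset.sum_const,
    h.cD1, h.cD2, smul_eq_mul, smul_eq_mul] at this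
  exact this

/-! ### the case `(a, b) = (0, 1)` -/

theorem not_case01 (hA : ∀ x ∈ D1, ∀ y ∈ D1, x ≠ y → ¬ adj x y)
    (hB : ∀ x ∈ D1, ∀ y ∈ D2, y ≠ m x → adj x y) : False := by
  have hμ : μ = 4 := by
    have := h.edge_count' 8 8 (fun x hx => by
      have h1 := h.card_gam_nbr x
      rw [if_pos (h.adj_P_of_mem_D1 hx), h.card_D1_nbr_of_A0 hA hx, h.card_D2_nbr_of_B hB hx] at h1
      omega) (fun x hx => by
      have h1 := h.card_gam_nbr x
      rw [if_pos (h.adj_P_of_mem_D2 hx), h.card_D1_nbr_of_B hB hx,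
        h.card_D2_nbr_of_A0 (h.bitA0_D2 hA) hx] at h1
      omega)
    omega
  obtain ⟨x0, hx0, y0, hy0, hne⟩ := h.exists_pair_D1
  have h1 := h.mu x0 y0 hne (hA x0 hx0 y0 hy0 hne)
  have h2 : D2 ⊆ Finset.univ.filter (fun w => adj x0 w ∧ adj y0 w) := by
    intro w hw
    simp only [mem_filter, mem_univ, true_and]
    constructor
    · by_cases he : w = m x0
      · subst he; exact h.madj x0 hx0
      · exact hB x0 hx0 w hw he
    · by_cases he : w = m y0
      · subst he; exact h.madj y0 hy0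
      · exact hB y0 hy0 w hw he
  have h3 := Finset.card_le_card h2
  rw [h1, h.cD2, hμ] at h3
  omega

/-! ### the case `(a, b) = (1, 1)` -/

omit h in
/-- Closed neighbourhoods. -/
theorem card_insert_nbr (hirr : ∀ x, ¬ adj x x)
    (hdeg : ∀ x, (Finset.univ.filter (fun y => adj x y)).card = 18) (x : Ω) :
    (insert x (Finset.univ.filter (fun y => adj x y))).card = 19 := by
  rw [Finset.card_insert_of_notMem, hdeg x]
  simp only [mem_filter, mem_univ, true_and]
  exact hirr x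

theorem disjoint_cl (hμ : μ = 0) {x y : Ω} (hne : x ≠ y) (hxy : ¬ adj x y) :
    Disjoint (insert x (Finset.univ.filter (fun v => adj x v)))
      (insert y (Finset.univ.filter (fun v => adj y v))) := by
  rw [Finset.disjoint_left]
  intro v hv1 hv2
  simp only [mem_insert, mem_filter, mem_univ, true_and] at hv1 hv2
  have h0 := h.mu x y hne hxy
  rw [hμ, Finset.card_eq_zero, Finset.filter_eq_empty_iff] at h0
  rcases hv1 with rfl | hv1
  · rcases hv2 with rfl | hv2
    · exact hne rfl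
    · exact hxy (h.symm _ _ hv2)
  · rcases hv2 with rfl | hv2
    · exact hxy hv1
    · exact h0 (Finset.mem_univ v) ⟨hv1, hv2⟩

theorem not_case11 (hA : ∀ x ∈ D1, ∀ y ∈ D1, x ≠ y → adj x y)
    (hB : ∀ x ∈ D1, ∀ y ∈ D2, y ≠ m x → adj x y) : False := by
  have hμ : μ = 0 := by
    have := h.edge_count' 0 0 (fun x hx => by
      have h1 := h.card_gam_nbr x
      rw [if_pos (h.adj_P_of_mem_D1 hx), h.card_D1_nbr_of_A hA hx, h.card_D2_nbr_of_B hB hx] at h1
      omega) (fun x hx => by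
      have h1 := h.card_gam_nbr x
      rw [if_pos (h.adj_P_of_mem_D2 hx), h.card_D1_nbr_of_B hB hx,
        h.card_D2_nbr_of_A (h.bitA_D2 hA) hx] at h1
      omega)
    omega
  set cl : Ω → Finset Ω := fun x => insert x (Finset.univ.filter (fun v => adj x v)) with hcl
  have hc : ∀ x, (cl x).card = 19 := fun x => card_insert_nbr h.irr h.deg x
  have hself : ∀ x, x ∈ cl x := fun x => Finset.mem_insert_self _ _
  have hout : ∀ x w, w ∉ cl x → x ≠ w ∧ ¬ adj x w := by
    intro x w hw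
    simp only [hcl, mem_insert, mem_filter, mem_univ, true_and, not_or] at hw
    exact ⟨fun he => hw.1 he.symm, hw.2⟩
  -- a vertex outside `cl P`
  obtain ⟨w, hw⟩ : ∃ w, w ∉ cl P := by
    by_contra hcon
    push Not at hcon
    have : cl P = Finset.univ := Finset.eq_univ_iff_forall.2 hcon
    have h1 := hc P
    rw [this, Finset.card_univ, h.card] at h1
    omega
  have hd1 : Disjoint (cl P) (cl w) := h.disjoint_cl hμ (hout P w hw).1 (hout P w hw).2
  obtain ⟨w', hw'⟩ : ∃ w', w' ∉ cl P ∪ cl w := by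
    by_contra hcon
    push Not at hcon
    have : cl P ∪ cl w = Finset.univ := Finset.eq_univ_iff_forall.2 hcon
    have h1 := Finset.card_union_of_disjoint hd1
    rw [this, Finset.card_univ, h.card, hc, hc] at h1
    omega
  rw [Finset.mem_union, not_or] at hw'
  have hd2 : Disjoint (cl P) (cl w') := h.disjoint_cl hμ (hout P w' hw'.1).1 (hout P w' hw'.1).2
  have hd3 : Disjoint (cl w) (cl w') := h.disjoint_cl hμ (hout w w' hw'.2).1 (hout w w' hw'.2).2
  have hd4 : Disjoint (cl P ∪ cl w) (cl w') := Finset.disjoint_union_left.2 ⟨hd2, hd3⟩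
  have h1 := Finset.card_union_of_disjoint hd4
  rw [Finset.card_union_of_disjoint hd1, hc, hc, hc] at h1
  have h2 := Finset.card_le_univ (cl P ∪ cl w ∪ cl w')
  rw [h1, h.card] at h2
  omega

/-! ### the case `(a, b) = (0, 0)` -/

theorem not_case00 (hA : ∀ x ∈ D1, ∀ y ∈ D1, x ≠ y → ¬ adj x y)
    (hB : ∀ x ∈ D1, ∀ y ∈ D2, y ≠ m x → ¬ adj x y) : False := by
  have hg1 : ∀ x ∈ D1, ((gam adj P).filter (fun y => adj x y)).card = 16 := fun x hx => by
    have h1 := h.card_gam_nbr x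
    rw [if_pos (h.adj_P_of_mem_D1 hx), h.card_D1_nbr_of_A0 hA hx, h.card_D2_nbr_of_B0 hB hx] at h1
    omega
  have hg2 : ∀ x ∈ D2, ((gam adj P).filter (fun y => adj x y)).card = 16 := fun x hx => by
    have h1 := h.card_gam_nbr x
    rw [if_pos (h.adj_P_of_mem_D2 hx), h.card_D1_nbr_of_B0 hB hx,
      h.card_D2_nbr_of_A0 (h.bitA0_D2 hA) hx] at h1
    omega
  have hμ : μ = 8 := by
    have := h.edge_count' 16 16 hg1 hg2
    omega
  -- `a w` = number of neighbours of `w` in `D1`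
  obtain ⟨a, ha⟩ : ∃ a : Ω → ℕ, ∀ w, a w = (D1.filter (fun x => adj w x)).card := ⟨_, fun _ => rfl⟩
  have hs1 : ∑ w ∈ gam adj P, a w = 144 := by
    rw [Finset.sum_congr rfl (fun w _ => ha w), ← sum_swap h.symm D1 (gam adj P),
      Finset.sum_congr rfl hg1, Finset.sum_const, h.cD1]
    rfl
  have hs2 : ∑ w ∈ gam adj P, (a w * a w - a w) = 504 := by
    have e1 : ∀ w, a w * a w - a w =
        (D1.offDiag.filter (fun p : Ω × Ω => adj w p.1 ∧ adj w p.2)).card := by
      intro w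
      rw [ha w, ← Finset.offDiag_card]
      congr 1
      ext ⟨x, y⟩
      simp only [Finset.mem_offDiag, mem_filter]
      tauto
    rw [Finset.sum_congr rfl (fun w _ => e1 w)]
    have hsw := Finset.sum_card_bipartiteAbove_eq_sum_card_bipartiteBelow (s := gam adj P)
      (t := D1.offDiag) (fun (w : Ω) (p : Ω × Ω) => adj w p.1 ∧ adj w p.2)
    simp only [Finset.bipartiteAbove, Finset.bipartiteBelow] at hsw
    rw [hsw]
    have e2 : ∀ p ∈ D1.offDiag,
        ((gam adj P).filter (fun w => adj w p.1 ∧ adj w p.2)).card = 7 := by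
      rintro ⟨x, y⟩ hp
      rw [Finset.mem_offDiag] at hp
      obtain ⟨hx, hy, hne⟩ := hp
      have h1 := h.mu x y hne (hA x hx y hy hne)
      rw [h.card_filter_split (fun w => adj x w ∧ adj y w), hμ] at h1
      have c0 : adj x P ∧ adj y P := ⟨h.adj_P_of_mem_D1 hx, h.adj_P_of_mem_D1 hy⟩
      have c1 : D1.filter (fun w => adj x w ∧ adj y w) = ∅ := by
        rw [Finset.filter_eq_empty_iff]
        intro w hw hc
        by_cases he : x = w
        · subst he; exact h.irr _ hc.1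
        · exact hA x hx w hw he hc.1
      have c2 : D2.filter (fun w => adj x w ∧ adj y w) = ∅ := by
        rw [Finset.filter_eq_empty_iff]
        intro w hw hc
        have e1 : w = m x := by
          by_contra hne'; exact hB x hx w hw hne' hc.1
        have e2 : w = m y := by
          by_contra hne'; exact hB y hy w hw hne' hc.2
        exact hne (h.minj x hx y hy (e1.symm.trans e2))
      rw [if_pos c0, c1, c2] at h1
      simp only [Finset.card_empty, add_zero] at h1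
      have c3 : (gam adj P).filter (fun w => adj w x ∧ adj w y) =
          (gam adj P).filter (fun w => adj x w ∧ adj y w) := by
        apply Finset.filter_congr
        intro w _
        exact ⟨fun hc => ⟨h.symm _ _ hc.1, h.symm _ _ hc.2⟩,
          fun hc => ⟨h.symm _ _ hc.1, h.symm _ _ hc.2⟩⟩
      show ((gam adj P).filter (fun w => adj w x ∧ adj w y)).card = 7
      rw [c3]
      omega
    rw [Finset.sum_congr rfl e2, Finset.sum_const, Finset.offDiag_card, h.cD1]
    rfl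
  -- the two possible values of `a w`
  obtain ⟨w0, hw0⟩ : (gam adj P).Nonempty := by
    rw [← Finset.card_pos, h.card_gam]; norm_num
  obtain ⟨α, hα⟩ : ∃ α : ℕ, α = a w0 := ⟨_, rfl⟩
  obtain ⟨β, hβ⟩ : ∃ β : ℕ, β = (D2.filter (fun x => adj w0 x)).card := ⟨_, rfl⟩
  have hαβ : α + β = 8 := by
    have := h.card_D1_add_card_D2_of_mem_gam hw0
    rw [hμ, ← ha w0, ← hα, ← hβ] at this
    exact this
  have hval : ∀ w ∈ gam adj P, a w = α ∨ a w = β := by
    intro w hw
    have hw' := mem_gam.1 hw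
    have hw0' := mem_gam.1 hw0
    rcases h.hG w w0 hw'.1 hw'.2 hw0'.1 hw0'.2 with hc | hc
    · left; rw [ha w, hα, ha w0]; exact hc.1
    · right; rw [ha w, hβ]; exact hc.1
  have key : ∀ w ∈ gam adj P, ((a w : ℤ) - 4) ^ 2 = ((α : ℤ) - 4) ^ 2 := by
    intro w hw
    rcases hval w hw with hc | hc
    · rw [hc]
    · rw [hc]
      have : (β : ℤ) = 8 - α := by omega
      rw [this]; ring
  have hsq : ∀ w, (a w * a w - a w) + a w = a w * a w :=
    fun w => Nat.sub_add_cancel (Nat.le_mul_self (a w))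
  have hs3 : ∑ w ∈ gam adj P, (a w * a w) = 648 := by
    rw [← Finset.sum_congr rfl (fun w _ => hsq w), Finset.sum_add_distrib, hs1, hs2]
  have hZ : ∑ w ∈ gam adj P, ((a w : ℤ) - 4) ^ 2 = 72 := by
    have e : ∀ w ∈ gam adj P, ((a w : ℤ) - 4) ^ 2 =
        ((a w * a w : ℕ) : ℤ) - 8 * ((a w : ℕ) : ℤ) + 16 := by
      intro w _; push_cast; ring
    rw [Finset.sum_congr rfl e, Finset.sum_add_distrib, Finset.sum_sub_distrib, ← Finset.mul_sum,
      ← Nat.cast_sum, ← Nat.cast_sum, hs3, hs1, Finset.sum_const, h.card_gam]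
    norm_num
  rw [Finset.sum_congr rfl key, Finset.sum_const, h.card_gam] at hZ
  have h2 : ((α : ℤ) - 4) ^ 2 = 2 := by
    simp only [nsmul_eq_mul] at hZ
    push_cast at hZ
    linarith
  have hα8 : α ≤ 8 := by omega
  clear hα key hval hαβ
  interval_cases α <;> norm_num at h2

end AbsHyp

end

/-- (ABS) the purely combinatorial core of S0420. -/
theorem abs_graph {Ω : Type*} [Fintype Ω] [DecidableEq Ω] (adj : Ω → Ω → Prop) [DecidableRel adj]
    (hsymm : ∀ x y, adj x y → adj y x) (hirr : ∀ x, ¬ adj x x)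
    (hcard : Fintype.card Ω = 55)
    (hdeg : ∀ x, (Finset.univ.filter (fun y => adj x y)).card = 18)
    (μ : ℕ) (hμ : ∀ x y, x ≠ y → ¬ adj x y →
      (Finset.univ.filter (fun w => adj x w ∧ adj y w)).card = μ)
    (P : Ω) (D1 D2 : Finset Ω) (hD1 : D1.card = 9) (hD2 : D2.card = 9) (hdisj : Disjoint D1 D2)
    (hΔ : ∀ x, adj P x ↔ x ∈ D1 ∨ x ∈ D2)
    (m : Ω → Ω) (hm : ∀ x ∈ D1, m x ∈ D2) (hminj : ∀ x ∈ D1, ∀ y ∈ D1, m x = m y → x = y)
    (hmadj : ∀ x ∈ D1, adj x (m x))
    (ha : ∀ x ∈ D1, ∀ y ∈ D1, ∀ x' ∈ D1, ∀ y' ∈ D1, x ≠ y → x' ≠ y' → (adj x y ↔ adj x' y'))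
    (ha' : ∀ x ∈ D1, ∀ y ∈ D1, ∀ x' ∈ D2, ∀ y' ∈ D2, x ≠ y → x' ≠ y' → (adj x y ↔ adj x' y'))
    (hb : ∀ x ∈ D1, ∀ y ∈ D2, ∀ x' ∈ D1, ∀ y' ∈ D2, y ≠ m x → y' ≠ m x' → (adj x y ↔ adj x' y'))
    (hΓ : ∀ w w', w ≠ P → ¬ adj P w → w' ≠ P → ¬ adj P w' →
        ((D1.filter (fun x => adj w x)).card = (D1.filter (fun x => adj w' x)).card ∧
         (D2.filter (fun x => adj w x)).card = (D2.filter (fun x => adj w' x)).card) ∨
        ((D1.filter (fun x => adj w x)).card = (D2.filter (fun x => adj w' x)).card ∧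
         (D2.filter (fun x => adj w x)).card = (D1.filter (fun x => adj w' x)).card)) :
    (∀ x ∈ D1, ∀ y ∈ D1, x ≠ y → adj x y) ∧ (∀ x ∈ D1, ∀ y ∈ D2, y ≠ m x → ¬ adj x y) := by
  have h : AbsHyp adj μ P D1 D2 m :=
    ⟨hsymm, hirr, hcard, hdeg, hμ, hD1, hD2, hdisj, hΔ, hm, hminj, hmadj, ha, ha', hb, hΓ⟩
  rcases h.bitA with hA | hA
  · rcases h.bitB with hB | hB
    · exact (h.not_case11 hA hB).elim
    · exact ⟨hA, hB⟩
  · rcases h.bitB with hB | hB
    · exact (h.not_case01 hA hB).elim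
    · exact (h.not_case00 hA hB).elim

end Cfsg.Agent.Lib.H29.M11
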