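import Mathlib
import Cfsg.Prelude.Def_Characters
import Cfsg.Prelude.Def_Blocks
import Cfsg.Agent.Lib.H23.CentralChar
import Cfsg.Agent.Lib.H23.ClassBound
import Cfsg.Agent.Lib.H24.CharOrth
import Cfsg.Agent.Lib.H24.CharConj
import Cfsg.Agent.Lib.H12.M7920VAL3
import Cfsg.Agent.Lib.H11.M7920NOMIX
import Cfsg.Agent.Lib.H28.M7920ARITH3
import Cfsg.Agent.Lib.H28.M7920SUM10

/-!
# S0434 piece (T3): every element of order 3 of a simple group of order 7920 has centralizer of order 18 (helper29)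

Assembly of the pieces (VAL3), (NOMIX3), (ARITH3), (SUM10) of `tools/blueprints/S0434_sigs.lean` (architect helper14,
route of helper7), on the hypothesis block of the S4429 structure data.
-/

set_option autoImplicit false

namespace Cfsg.Agent.Lib.H29.M7920

open Cfsg
open scoped BigOperators ComplexConjugate
universe u

/-- A rational algebraic integer `z / n` forces `n ∣ z`. -/
theorem t3_int_dvd_of_isIntegral_div {z : ℤ} {n : ℕ} (hn : n ≠ 0)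
    (h : IsIntegral ℤ ((z : ℂ) / (n : ℂ))) : (n : ℤ) ∣ z := by
  have h3 : IsIntegral ℤ ((z : ℚ) / (n : ℚ)) := by
    rw [← isIntegral_algebraMap_iff (algebraMap ℚ ℂ).injective]
    convert h using 1
    simp
  obtain ⟨y, hy⟩ := IsIntegrallyClosed.isIntegral_iff.mp h3
  simp only [algebraMap_int_eq, eq_intCast] at hy
  refine ⟨y, ?_⟩
  have hn' : (n : ℚ) ≠ 0 := Nat.cast_ne_zero.2 hn
  have : (z : ℚ) = (n : ℚ) * (y : ℚ) := by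
    rw [hy]; field_simp
  exact_mod_cast this

/-- Conjugate elements have the same order. -/
theorem t3_orderOf_eq_of_isConj {G : Type u} [Group G] {a b : G} (h : IsConj a b) :
    orderOf a = orderOf b := by
  obtain ⟨c, hc⟩ := isConj_iff.mp h
  rw [← hc]
  have := orderOf_injective (MulAut.conj c).toMonoidHom (MulAut.conj c).injective a
  simpa [MulAut.conj_apply] using this.symm

/-- The complex conjugate of an irreducible character, as an irreducible character. -/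
noncomputable def t3_conjIrr {G : Type u} [Group G] [Finite G] (ξ : IrrCharacter G) : IrrCharacter G :=
  ⟨fun g => conj ((ξ : G → ℂ) g), Cfsg.Agent.Lib.H24.isIrrCharacter_conj ξ.2⟩

theorem t3_conjIrr_apply {G : Type u} [Group G] [Finite G] (ξ : IrrCharacter G) (g : G) :
    (t3_conjIrr ξ : G → ℂ) g = conj ((ξ : G → ℂ) g) := rfl

/-- Realness from the degree census: if `ξ` has degree `D` and every listed character of degree `D` takes at `t` the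
value `ξ t`, then `ξ t` is real. -/
theorem t3_real_of_census {G : Type u} [Group G] [Finite G]
    (ψ : Fin 3 → IrrCharacter G) (ψ₄ χ₁ χ₂ θ θ' φ : IrrCharacter G)
    (hall : ∀ ξ : IrrCharacter G, (ξ : G → ℂ) = 1 ∨ (∃ i, ξ = ψ i) ∨ ξ = ψ₄ ∨ ξ = χ₁ ∨ ξ = χ₂ ∨ ξ = θ ∨
      ξ = θ' ∨ ξ = φ)
    (hdeg : (∀ i, (ψ i : G → ℂ) 1 = 10) ∧ (ψ₄ : G → ℂ) 1 = 45 ∧ (χ₁ : G → ℂ) 1 = 16 ∧
      (χ₂ : G → ℂ) 1 = 16 ∧ (θ : G → ℂ) 1 = 11 ∧ (θ' : G → ℂ) 1 = 44 ∧ (φ : G → ℂ) 1 = 55)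
    (t : G) (h12 : (χ₁ : G → ℂ) t = (χ₂ : G → ℂ) t) :
    conj ((χ₁ : G → ℂ) t) = (χ₁ : G → ℂ) t ∧ conj ((θ : G → ℂ) t) = (θ : G → ℂ) t ∧
    conj ((θ' : G → ℂ) t) = (θ' : G → ℂ) t ∧ conj ((φ : G → ℂ) t) = (φ : G → ℂ) t := by
  obtain ⟨hψdeg, hψ₄deg, hχ₁deg, hχ₂deg, hθdeg, hθ'deg, hφdeg⟩ := hdeg
  have key : ∀ (ξ : IrrCharacter G) (D : ℂ), (ξ : G → ℂ) 1 = D → conj D = D → D ≠ 1 →
      (D = 10 ∧ ∃ i, conj ((ξ : G → ℂ) t) = (ψ i : G → ℂ) t) ∨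
      (D = 45 ∧ conj ((ξ : G → ℂ) t) = (ψ₄ : G → ℂ) t) ∨
      (D = 16 ∧ (conj ((ξ : G → ℂ) t) = (χ₁ : G → ℂ) t ∨ conj ((ξ : G → ℂ) t) = (χ₂ : G → ℂ) t)) ∨
      (D = 11 ∧ conj ((ξ : G → ℂ) t) = (θ : G → ℂ) t) ∨
      (D = 44 ∧ conj ((ξ : G → ℂ) t) = (θ' : G → ℂ) t) ∨
      (D = 55 ∧ conj ((ξ : G → ℂ) t) = (φ : G → ℂ) t) := by
    intro ξ D hD hcD hD1
    have h1 : (t3_conjIrr ξ : G → ℂ) 1 = D := by rw [t3_conjIrr_apply, hD, hcD]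
    have ht : (t3_conjIrr ξ : G → ℂ) t = conj ((ξ : G → ℂ) t) := t3_conjIrr_apply ξ t
    rcases hall (t3_conjIrr ξ) with h | ⟨i, h⟩ | h | h | h | h | h | h
    · exfalso; apply hD1; rw [← h1, h]; rfl
    · exact Or.inl ⟨by rw [← h1, h, hψdeg i], i, by rw [← ht, h]⟩
    · exact Or.inr (Or.inl ⟨by rw [← h1, h, hψ₄deg], by rw [← ht, h]⟩)
    · exact Or.inr (Or.inr (Or.inl ⟨by rw [← h1, h, hχ₁deg], Or.inl (by rw [← ht, h])⟩))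
    · exact Or.inr (Or.inr (Or.inl ⟨by rw [← h1, h, hχ₂deg], Or.inr (by rw [← ht, h])⟩))
    · exact Or.inr (Or.inr (Or.inr (Or.inl ⟨by rw [← h1, h, hθdeg], by rw [← ht, h]⟩)))
    · exact Or.inr (Or.inr (Or.inr (Or.inr (Or.inl ⟨by rw [← h1, h, hθ'deg], by rw [← ht, h]⟩))))
    · exact Or.inr (Or.inr (Or.inr (Or.inr (Or.inr ⟨by rw [← h1, h, hφdeg], by rw [← ht, h]⟩))))
  have c16 : conj (16 : ℂ) = 16 := map_ofNat _ 16
  have c11 : conj (11 : ℂ) = 11 := map_ofNat _ 11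
  have c44 : conj (44 : ℂ) = 44 := map_ofNat _ 44
  have c55 : conj (55 : ℂ) = 55 := map_ofNat _ 55
  refine ⟨?_, ?_, ?_, ?_⟩
  · rcases key χ₁ 16 hχ₁deg c16 (by norm_num) with ⟨h, _⟩ | ⟨h, _⟩ | ⟨_, h | h⟩ | ⟨h, _⟩ | ⟨h, _⟩ | ⟨h, _⟩
    · norm_num at h
    · norm_num at h
    · exact h
    · rw [h, h12]
    · norm_num at h
    · norm_num at h
    · norm_num at h
  · rcases key θ 11 hθdeg c11 (by norm_num) with ⟨h, _⟩ | ⟨h, _⟩ | ⟨h, _⟩ | ⟨_, h⟩ | ⟨h, _⟩ | ⟨h, _⟩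
    · norm_num at h
    · norm_num at h
    · norm_num at h
    · exact h
    · norm_num at h
    · norm_num at h
  · rcases key θ' 44 hθ'deg c44 (by norm_num) with ⟨h, _⟩ | ⟨h, _⟩ | ⟨h, _⟩ | ⟨h, _⟩ | ⟨_, h⟩ | ⟨h, _⟩
    · norm_num at h
    · norm_num at h
    · norm_num at h
    · norm_num at h
    · exact h
    · norm_num at h
  · rcases key φ 55 hφdeg c55 (by norm_num) with ⟨h, _⟩ | ⟨h, _⟩ | ⟨h, _⟩ | ⟨h, _⟩ | ⟨h, _⟩ | ⟨_, h⟩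
    · norm_num at h
    · norm_num at h
    · norm_num at h
    · norm_num at h
    · norm_num at h
    · exact h

/-- (T3) every element of order 3 has centralizer of order 18. -/
theorem card_centralizer_order3 {G : Type u} [Group G] [Fintype G] (hG : Nat.card G = 7920)
    (x y : G) (hx : ¬ IsConj x x⁻¹) (hCx : Nat.card (Subgroup.centralizer ({x} : Set G)) = 11)
    (hCy : Nat.card (Subgroup.centralizer ({y} : Set G)) = 5)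
    (ψ : Fin 3 → IrrCharacter G) (ψ₄ χ₁ χ₂ θ θ' φ : IrrCharacter G)
    (hall : ∀ ξ : IrrCharacter G, (ξ : G → ℂ) = 1 ∨ (∃ i, ξ = ψ i) ∨ ξ = ψ₄ ∨ ξ = χ₁ ∨ ξ = χ₂ ∨ ξ = θ ∨
      ξ = θ' ∨ ξ = φ)
    (hinj : Function.Injective ψ)
    (hdist : (∀ i, ψ i ≠ ψ₄ ∧ ψ i ≠ χ₁ ∧ ψ i ≠ χ₂ ∧ ψ i ≠ θ ∧ ψ i ≠ θ' ∧ ψ i ≠ φ) ∧
      ψ₄ ≠ χ₁ ∧ ψ₄ ≠ χ₂ ∧ ψ₄ ≠ θ ∧ ψ₄ ≠ θ' ∧ ψ₄ ≠ φ ∧ χ₁ ≠ χ₂ ∧ χ₁ ≠ θ ∧ χ₁ ≠ θ' ∧ χ₁ ≠ φ ∧
      χ₂ ≠ θ ∧ χ₂ ≠ θ' ∧ χ₂ ≠ φ ∧ θ ≠ θ' ∧ θ ≠ φ ∧ θ' ≠ φ)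
    (hne1 : (∀ i, (ψ i : G → ℂ) ≠ 1) ∧ (ψ₄ : G → ℂ) ≠ 1 ∧ (χ₁ : G → ℂ) ≠ 1 ∧ (χ₂ : G → ℂ) ≠ 1 ∧
      (θ : G → ℂ) ≠ 1 ∧ (θ' : G → ℂ) ≠ 1 ∧ (φ : G → ℂ) ≠ 1)
    (hdeg : (∀ i, (ψ i : G → ℂ) 1 = 10) ∧ (ψ₄ : G → ℂ) 1 = 45 ∧ (χ₁ : G → ℂ) 1 = 16 ∧
      (χ₂ : G → ℂ) 1 = 16 ∧ (θ : G → ℂ) 1 = 11 ∧ (θ' : G → ℂ) 1 = 44 ∧ (φ : G → ℂ) 1 = 55)
    (hvalx : (∀ i, (ψ i : G → ℂ) x = -1) ∧ (ψ₄ : G → ℂ) x = 1 ∧
      (χ₁ : G → ℂ) x⁻¹ + (χ₂ : G → ℂ) x⁻¹ = -1 ∧ (θ : G → ℂ) x = 0 ∧ (θ' : G → ℂ) x = 0 ∧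
      (φ : G → ℂ) x = 0)
    (hF5 : ∀ g : G, ¬ IsConj g x → ¬ IsConj g x⁻¹ → (χ₁ : G → ℂ) g = (χ₂ : G → ℂ) g ∧
      1 - ∑ i, (ψ i : G → ℂ) g + (ψ₄ : G → ℂ) g - (χ₁ : G → ℂ) g = 0)
    (hvaly : (∀ i, (ψ i : G → ℂ) y = 0) ∧ (ψ₄ : G → ℂ) y = 0 ∧ (χ₁ : G → ℂ) y = 1 ∧
      (χ₂ : G → ℂ) y = 1 ∧ (θ : G → ℂ) y = 1 ∧ (θ' : G → ℂ) y = -1 ∧ (φ : G → ℂ) y = 0)
    (t : G) (ht : orderOf t = 3) :
    Nat.card (Subgroup.centralizer ({t} : Set G)) = 18 := by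
  classical
  have : Fintype (IrrCharacter G) := Fintype.ofFinite _
  have ht3 : t ^ 3 = 1 := by rw [← ht]; exact pow_orderOf_eq_one t
  -- orders of `x`, `y`
  have hx1 : x ≠ 1 := by
    rintro rfl
    exact hx (by rw [inv_one])
  have hox : orderOf x = 11 := by
    have hxmem : x ∈ Subgroup.centralizer ({x} : Set G) := Subgroup.mem_centralizer_singleton_iff.mpr rfl
    have h1 : orderOf x ∣ 11 := by
      have h2 : orderOf (⟨x, hxmem⟩ : Subgroup.centralizer ({x} : Set G)) ∣ 11 := by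
        rw [← hCx]; exact orderOf_dvd_natCard _
      rwa [Subgroup.orderOf_mk] at h2
    rcases (Nat.dvd_prime (by norm_num)).mp h1 with h | h
    · exact absurd (orderOf_eq_one_iff.mp h) hx1
    · exact h
  have hoy : orderOf y ∣ 5 := by
    have hymem : y ∈ Subgroup.centralizer ({y} : Set G) := Subgroup.mem_centralizer_singleton_iff.mpr rfl
    have h2 : orderOf (⟨y, hymem⟩ : Subgroup.centralizer ({y} : Set G)) ∣ 5 := by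
      rw [← hCy]; exact orderOf_dvd_natCard _
    rwa [Subgroup.orderOf_mk] at h2
  have htx : ¬ IsConj t x := fun h => by
    have := t3_orderOf_eq_of_isConj h
    rw [ht, hox] at this
    norm_num at this
  have htx' : ¬ IsConj t x⁻¹ := fun h => by
    have := t3_orderOf_eq_of_isConj h
    rw [ht, orderOf_inv, hox] at this
    norm_num at this
  have hty : ¬ IsConj t y := fun h => by
    have := t3_orderOf_eq_of_isConj h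
    rw [ht] at this
    rw [← this] at hoy
    norm_num at hoy
  obtain ⟨h12, -⟩ := hF5 t htx htx'
  obtain ⟨hrχ, hrθ, hrθ', hrφ⟩ := t3_real_of_census ψ ψ₄ χ₁ χ₂ θ θ' φ hall hdeg t h12
  obtain ⟨hψdeg, hψ₄deg, hχ₁deg, hχ₂deg, hθdeg, hθ'deg, hφdeg⟩ := hdeg
  obtain ⟨hψy, hψ₄y, hχ₁y, hχ₂y, hθy, hθ'y, hφy⟩ := hvaly
  -- integer values
  obtain ⟨u, hu, hu3⟩ := (Cfsg.Agent.Lib.H12.M7920.values_order3 χ₁ t ht3 16 (by rw [hχ₁deg]; norm_num)).1 hrχ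
  obtain ⟨b, hb, hb3⟩ := (Cfsg.Agent.Lib.H12.M7920.values_order3 θ t ht3 11 (by rw [hθdeg]; norm_num)).1 hrθ
  obtain ⟨d, hd, hd3⟩ := (Cfsg.Agent.Lib.H12.M7920.values_order3 θ' t ht3 44 (by rw [hθ'deg]; norm_num)).1 hrθ'
  obtain ⟨f, hf, hf3⟩ := (Cfsg.Agent.Lib.H12.M7920.values_order3 φ t ht3 55 (by rw [hφdeg]; norm_num)).1 hrφ
  have hn : ∀ i, 1 ≤ ‖(ψ i : G → ℂ) t‖ ^ 2 := fun i =>
    (Cfsg.Agent.Lib.H12.M7920.values_order3 (ψ i) t ht3 10 (by rw [hψdeg i]; norm_num)).2 (by norm_num)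
  -- the centralizer order
  obtain ⟨m, hm, hcard⟩ := Cfsg.Agent.Lib.H11.M7920.card_centralizer_order3_form hG x y hCx hCy t ht
  have hmpos : 0 < m := Nat.pos_of_dvd_of_pos hm (by norm_num)
  -- SUM10
  obtain ⟨τ, hτ, hsum⟩ := Cfsg.Agent.Lib.H28.M7920.sum_irr_eq ψ ψ₄ χ₁ χ₂ θ θ' φ hall hinj hdist hne1
  have hu2 : (χ₂ : G → ℂ) t = u := by rw [← h12, hu]
  -- column t / t
  have hcol : ((9 * m : ℕ) : ℝ) =
      1 + ∑ i, ‖(ψ i : G → ℂ) t‖ ^ 2 + ‖(ψ₄ : G → ℂ) t‖ ^ 2 + 2 * (u : ℝ) ^ 2 + (b : ℝ) ^ 2 + (d : ℝ) ^ 2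
        + (f : ℝ) ^ 2 := by
    have h1 := Cfsg.Agent.Lib.H23.sum_normSq_irr_eq_card_centralizer t
    rw [hcard] at h1
    have h2 := hsum (fun ξ => ((‖(ξ : G → ℂ) t‖ ^ 2 : ℝ) : ℂ))
    have h3 : (∑ ξ : IrrCharacter G, ((‖(ξ : G → ℂ) t‖ ^ 2 : ℝ) : ℂ)) = (((9 * m : ℕ) : ℝ) : ℂ) := by
      rw [← h1]; push_cast; rfl
    rw [h3] at h2
    simp only [hτ, hu, hu2, hb, hd, hf, Pi.one_apply] at h2
    have h4 : ((9 * m : ℕ) : ℝ) = ‖(1 : ℂ)‖ ^ 2 + ∑ i, ‖(ψ i : G → ℂ) t‖ ^ 2 + ‖(ψ₄ : G → ℂ) t‖ ^ 2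
        + ‖(u : ℂ)‖ ^ 2 + ‖(u : ℂ)‖ ^ 2 + ‖(b : ℂ)‖ ^ 2 + ‖(d : ℂ)‖ ^ 2 + ‖(f : ℂ)‖ ^ 2 := by
      exact_mod_cast h2
    rw [h4]
    simp only [Complex.norm_intCast, norm_one, sq_abs]
    ring
  -- column t / y
  have hy : 1 + 2 * u + b - d = 0 := by
    have h1 := Cfsg.Agent.Lib.H24.second_orthogonality t y
    rw [if_neg hty] at h1
    have h2 := hsum (fun ξ => (ξ : G → ℂ) t * conj ((ξ : G → ℂ) y))
    rw [h1] at h2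
    simp only [hτ, hψy, hψ₄y, hχ₁y, hχ₂y, hθy, hθ'y, hφy, hu, hu2, hb, hd, hf, Pi.one_apply, map_zero, map_one,
      map_neg, mul_zero, mul_one, Finset.sum_const_zero, add_zero] at h2
    have h3 : ((1 + 2 * u + b - d : ℤ) : ℂ) = 0 := by
      push_cast
      rw [h2]; ring
    exact_mod_cast h3
  -- central character of χ₁
  have hcc : (16 : ℤ) ∣ ((880 / m : ℕ) : ℤ) * u := by
    have hidx : (Subgroup.centralizer ({t} : Set G)).index = 880 / m := by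
      have h1 := Subgroup.index_mul_card (Subgroup.centralizer ({t} : Set G))
      rw [hcard, hG] at h1
      have h2 : (Subgroup.centralizer ({t} : Set G)).index * m = 880 := by
        have : (Subgroup.centralizer ({t} : Set G)).index * m * 9 = 880 * 9 := by
          calc (Subgroup.centralizer ({t} : Set G)).index * m * 9
              = (Subgroup.centralizer ({t} : Set G)).index * (9 * m) := by ring
            _ = 7920 := h1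
            _ = 880 * 9 := by norm_num
        exact Nat.eq_of_mul_eq_mul_right (by norm_num) this
      rw [← h2, Nat.mul_div_cancel _ hmpos]
    have h1 := Cfsg.Agent.Lib.H23.isIntegral_centralChar (χ₁ : G → ℂ) χ₁.2 t
    unfold Cfsg.centralChar at h1
    rw [hidx, hu, hχ₁deg] at h1
    have h2 : IsIntegral ℤ (((((880 / m : ℕ) : ℤ) * u : ℤ) : ℂ) / ((16 : ℕ) : ℂ)) := by
      convert h1 using 1
      simp only [Int.cast_mul, Int.cast_natCast, Nat.cast_ofNat]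
    exact_mod_cast t3_int_dvd_of_isIntegral_div (by norm_num) h2
  have hm2 : m = 2 := Cfsg.Agent.Lib.H28.M7920.arith_m2 m hm u b d f (fun i => ‖(ψ i : G → ℂ) t‖ ^ 2) (‖(ψ₄ : G → ℂ) t‖ ^ 2)
    (hu3.trans (by decide)) (hb3.trans (by decide)) (hd3.trans (by decide)) (hf3.trans (by decide))
    hn (by positivity) hcc hcol hy
  rw [hcard, hm2]

end Cfsg.Agent.Lib.H29.M7920
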