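import Mathlib

/-!
# Computing with subgroups of `GL₂(ZMod p)` generated by explicit matrices

`M2 p` is a computable model of `2 × 2` matrices over `ZMod p` (4-tuples).

* `closure_subset`: if a list `L` contains `1` and is closed under right multiplication by the
  generators and their inverses, every element of the closure has its matrix in `L`.
* `closure_superset`: a breadth-first certificate shows every member of `L` is realised.
* `card_closure`: the closure then has `L.length` elements.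
* `regular_of_free`: a subgroup of order `p² - 1` in which no non-identity element has eigenvalue
  `1` acts regularly on the non-zero vectors.
-/

set_option autoImplicit false

namespace Cfsg.Agent.Lib.H29.Mat2

/-- `2 × 2` matrices over `ZMod p` as 4-tuples. -/
structure M2 (p : ℕ) where
  a : ZMod p
  b : ZMod p
  c : ZMod p
  d : ZMod p
deriving DecidableEq

variable {p : ℕ}

/-- matrix product -/
def M2.mul (x y : M2 p) : M2 p :=
  ⟨x.a * y.a + x.b * y.c, x.a * y.b + x.b * y.d, x.c * y.a + x.d * y.c, x.c * y.b + x.d * y.d⟩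

/-- identity matrix -/
def M2.one : M2 p := ⟨1, 0, 0, 1⟩

/-- scalar multiple -/
def M2.smul (k : ZMod p) (x : M2 p) : M2 p := ⟨k * x.a, k * x.b, k * x.c, k * x.d⟩

/-- the matrix -/
def M2.toMat (x : M2 p) : Matrix (Fin 2) (Fin 2) (ZMod p) := !![x.a, x.b; x.c, x.d]

/-- `det (x - 1)` -/
def M2.det1 (x : M2 p) : ZMod p := (x.a - 1) * (x.d - 1) - x.b * x.c

theorem toMat_mul (x y : M2 p) : (x.mul y).toMat = x.toMat * y.toMat := by
  simp [M2.mul, M2.toMat]

theorem toMat_one : (M2.one : M2 p).toMat = 1 := by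
  simp [M2.one, M2.toMat, Matrix.one_fin_two]

theorem toMat_smul (k : ZMod p) (x : M2 p) : (M2.smul k x).toMat = k • x.toMat := by
  simp [M2.smul, M2.toMat, Matrix.smul_of]

theorem toMat_injective : Function.Injective (M2.toMat : M2 p → Matrix (Fin 2) (Fin 2) (ZMod p)) := by
  intro x y h
  cases x; cases y
  simp only [M2.toMat] at h
  have h00 := congrFun (congrFun h 0) 0
  have h01 := congrFun (congrFun h 0) 1
  have h10 := congrFun (congrFun h 1) 0
  have h11 := congrFun (congrFun h 1) 1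
  simp at h00 h01 h10 h11
  simp [h00, h01, h10, h11]

theorem det1_eq (x : M2 p) : (x.toMat - 1).det = x.det1 := by
  simp [M2.toMat, M2.det1, Matrix.det_fin_two, Matrix.one_fin_two]

/-- The group `GL₂(ZMod p)`. -/
abbrev GL2 (p : ℕ) := Matrix.GeneralLinearGroup (Fin 2) (ZMod p)

theorem inv_val_eq (y : GL2 p) (m m' : M2 p)
    (hym : (y : Matrix (Fin 2) (Fin 2) (ZMod p)) = m.toMat) (hmm' : m.mul m' = M2.one) :
    ((y⁻¹ : GL2 p) : Matrix (Fin 2) (Fin 2) (ZMod p)) = m'.toMat := by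
  have h3 : (y : Matrix (Fin 2) (Fin 2) (ZMod p)) * m'.toMat = 1 := by
    rw [hym, ← toMat_mul, hmm', toMat_one]
  calc ((y⁻¹ : GL2 p) : Matrix (Fin 2) (Fin 2) (ZMod p))
      = ((y⁻¹ : GL2 p) : Matrix (Fin 2) (Fin 2) (ZMod p)) *
          ((y : Matrix (Fin 2) (Fin 2) (ZMod p)) * m'.toMat) := by rw [h3, mul_one]
    _ = m'.toMat := by
        rw [← mul_assoc, ← Units.val_mul, inv_mul_cancel, Units.val_one, one_mul]

/-- Every element of the closure has its matrix in `L`. -/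
theorem closure_subset (S : Set (GL2 p)) (L gens : List (M2 p))
    (h1 : M2.one ∈ L)
    (hS : ∀ g ∈ S, ∃ m ∈ gens, ∃ m' ∈ gens,
      (g : Matrix (Fin 2) (Fin 2) (ZMod p)) = m.toMat ∧ m.mul m' = M2.one)
    (hmul : ∀ s ∈ L, ∀ m ∈ gens, s.mul m ∈ L) :
    ∀ x ∈ Subgroup.closure S, ∃ s ∈ L, (x : Matrix (Fin 2) (Fin 2) (ZMod p)) = s.toMat := by
  intro x hx
  induction hx using Subgroup.closure_induction_right with
  | one => exact ⟨M2.one, h1, by rw [toMat_one]; rfl⟩
  | mul_right x hx y hy ih =>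
    obtain ⟨s, hs, hxs⟩ := ih
    obtain ⟨m, hm, _, _, hym, _⟩ := hS y hy
    exact ⟨s.mul m, hmul s hs m hm, by rw [Units.val_mul, hxs, hym, toMat_mul]⟩
  | mul_inv_cancel x hx y hy ih =>
    obtain ⟨s, hs, hxs⟩ := ih
    obtain ⟨m, _, m', hm', hym, hmm'⟩ := hS y hy
    refine ⟨s.mul m', hmul s hs m' hm', ?_⟩
    have h2 : ((y⁻¹ : GL2 p) : Matrix (Fin 2) (Fin 2) (ZMod p)) = m'.toMat := by
      have h3 : (y : Matrix (Fin 2) (Fin 2) (ZMod p)) * m'.toMat = 1 := by
        rw [hym, ← toMat_mul, hmm', toMat_one]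
      calc ((y⁻¹ : GL2 p) : Matrix (Fin 2) (Fin 2) (ZMod p))
          = ((y⁻¹ : GL2 p) : Matrix (Fin 2) (Fin 2) (ZMod p)) *
              ((y : Matrix (Fin 2) (Fin 2) (ZMod p)) * m'.toMat) := by rw [h3, mul_one]
        _ = m'.toMat := by
            rw [← mul_assoc, ← Units.val_mul, inv_mul_cancel, Units.val_one, one_mul]
    rw [Units.val_mul, hxs, h2, toMat_mul]

/-- Every member of `L` is realised in the closure, given a breadth-first certificate. -/
theorem closure_superset (S : Set (GL2 p)) (L gens : List (M2 p))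
    (hgens : ∀ m ∈ gens, ∃ g ∈ Subgroup.closure S, (g : Matrix (Fin 2) (Fin 2) (ZMod p)) = m.toMat)
    (hbfs : ∀ i : Fin L.length, L.get i = M2.one ∨
      ∃ j : Fin L.length, j < i ∧ ∃ m ∈ gens, L.get i = (L.get j).mul m) :
    ∀ s ∈ L, ∃ x ∈ Subgroup.closure S, (x : Matrix (Fin 2) (Fin 2) (ZMod p)) = s.toMat := by
  have key : ∀ n : ℕ, ∀ i : Fin L.length, i.val = n →
      ∃ x ∈ Subgroup.closure S, (x : Matrix (Fin 2) (Fin 2) (ZMod p)) = (L.get i).toMat := by
    intro n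
    induction n using Nat.strong_induction_on with
    | _ n ih =>
      intro i hi
      rcases hbfs i with h | ⟨j, hji, m, hm, hij⟩
      · exact ⟨1, Subgroup.one_mem _, by rw [h, toMat_one]; rfl⟩
      · obtain ⟨x, hx, hxj⟩ := ih j.val (by rw [← hi]; exact hji) j rfl
        obtain ⟨g, hg, hgm⟩ := hgens m hm
        exact ⟨x * g, Subgroup.mul_mem _ hx hg, by rw [Units.val_mul, hxj, hgm, hij, toMat_mul]⟩
  intro s hs
  obtain ⟨i, rfl⟩ := List.get_of_mem hs
  exact key i.val i rfl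

/-- The closure has exactly `L.length` elements. -/
theorem card_closure (G : Subgroup (GL2 p)) (L : List (M2 p)) (hnd : L.Nodup)
    (hsub : ∀ x ∈ G, ∃ s ∈ L, (x : Matrix (Fin 2) (Fin 2) (ZMod p)) = s.toMat)
    (hsup : ∀ s ∈ L, ∃ x ∈ G, (x : Matrix (Fin 2) (Fin 2) (ZMod p)) = s.toMat) :
    Nat.card G = L.length := by
  classical
  have hf : ∀ x : G, ∃ s : {s // s ∈ L.toFinset},
      ((x : GL2 p) : Matrix (Fin 2) (Fin 2) (ZMod p)) = s.1.toMat := by
    intro x
    obtain ⟨s, hs, hxs⟩ := hsub x.1 x.2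
    exact ⟨⟨s, List.mem_toFinset.mpr hs⟩, hxs⟩
  choose f hf using hf
  have hinj : Function.Injective f := by
    intro x y hxy
    apply Subtype.ext
    apply Units.ext
    rw [hf x, hf y, hxy]
  have hsurj : Function.Surjective f := by
    intro s
    obtain ⟨x, hx, hxs⟩ := hsup s.1 (List.mem_toFinset.mp s.2)
    refine ⟨⟨x, hx⟩, ?_⟩
    apply Subtype.ext
    apply toMat_injective
    rw [← hf ⟨x, hx⟩, hxs]
  rw [Nat.card_congr (Equiv.ofBijective f ⟨hinj, hsurj⟩), Nat.card_eq_fintype_card,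
    Fintype.card_coe, List.toFinset_card_of_nodup hnd]

theorem mulVec_ne_zero (h : GL2 p) (v : Fin 2 → ZMod p) (hv : v ≠ 0) :
    Matrix.mulVec (h : Matrix (Fin 2) (Fin 2) (ZMod p)) v ≠ 0 := by
  intro h0
  apply hv
  have := congrArg (Matrix.mulVec ((h⁻¹ : GL2 p) : Matrix (Fin 2) (Fin 2) (ZMod p))) h0
  rw [Matrix.mulVec_mulVec, ← Units.val_mul, inv_mul_cancel, Units.val_one, Matrix.one_mulVec,
    Matrix.mulVec_zero] at this
  exact this

/-- The orbit map of a non-zero vector. -/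
def orbitMap (G : Subgroup (GL2 p)) (v : Fin 2 → ZMod p) (hv : v ≠ 0) :
    G → {u : Fin 2 → ZMod p // u ≠ 0} :=
  fun h => ⟨Matrix.mulVec ((h : GL2 p) : Matrix (Fin 2) (Fin 2) (ZMod p)) v, mulVec_ne_zero _ v hv⟩

theorem orbitMap_injective [Fact p.Prime] (G : Subgroup (GL2 p))
    (hfree : ∀ x ∈ G, x ≠ 1 → ((x : Matrix (Fin 2) (Fin 2) (ZMod p)) - 1).det ≠ 0)
    (v : Fin 2 → ZMod p) (hv : v ≠ 0) : Function.Injective (orbitMap G v hv) := by
  classical
  intro h₁ h₂ h12
  have h12' : Matrix.mulVec ((h₁ : GL2 p) : Matrix (Fin 2) (Fin 2) (ZMod p)) v =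
      Matrix.mulVec ((h₂ : GL2 p) : Matrix (Fin 2) (Fin 2) (ZMod p)) v :=
    congrArg Subtype.val h12
  by_contra hne12
  have hx : (h₂⁻¹ * h₁ : G) ≠ 1 := by
    intro h
    apply hne12
    have := congrArg (fun t => h₂ * t) h
    simpa using this
  have hx' : ((h₂⁻¹ * h₁ : G) : GL2 p) ≠ 1 := by
    intro h
    apply hx
    exact Subtype.ext h
  have hdet := hfree _ (h₂⁻¹ * h₁ : G).2 hx'
  apply hdet
  rw [← Matrix.exists_mulVec_eq_zero_iff]
  refine ⟨v, hv, ?_⟩
  rw [Matrix.sub_mulVec, Matrix.one_mulVec, sub_eq_zero]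
  have e : (((h₂⁻¹ * h₁ : G) : GL2 p) : Matrix (Fin 2) (Fin 2) (ZMod p)) =
      (((h₂ : GL2 p)⁻¹ : GL2 p) : Matrix (Fin 2) (Fin 2) (ZMod p)) *
        ((h₁ : GL2 p) : Matrix (Fin 2) (Fin 2) (ZMod p)) := by
    rw [← Units.val_mul]; rfl
  rw [e, ← Matrix.mulVec_mulVec, h12', Matrix.mulVec_mulVec, ← Units.val_mul, inv_mul_cancel,
    Units.val_one, Matrix.one_mulVec]

theorem card_nonzero [Fact p.Prime] : Nat.card {u : Fin 2 → ZMod p // u ≠ 0} = p ^ 2 - 1 := by
  classical
  have : NeZero p := ⟨(Fact.out : p.Prime).ne_zero⟩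
  rw [Nat.card_eq_fintype_card, Fintype.card_subtype_compl, Fintype.card_subtype_eq]
  simp [ZMod.card]

/-- A subgroup acting freely on the non-zero vectors has order at most `p² - 1`. -/
theorem card_le_of_free [Fact p.Prime] (G : Subgroup (GL2 p))
    (hfree : ∀ x ∈ G, x ≠ 1 → ((x : Matrix (Fin 2) (Fin 2) (ZMod p)) - 1).det ≠ 0) :
    Nat.card G ≤ p ^ 2 - 1 := by
  classical
  have : NeZero p := ⟨(Fact.out : p.Prime).ne_zero⟩
  have hv : (fun _ => 1 : Fin 2 → ZMod p) ≠ 0 := by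
    intro h
    have := congrFun h 0
    simp at this
  rw [← card_nonzero]
  exact Nat.card_le_card_of_injective _ (orbitMap_injective G hfree _ hv)

/-- A subgroup of `GL₂(p)` of order `p² - 1` whose non-identity elements have no eigenvalue `1`
acts regularly on the non-zero vectors. -/
theorem regular_of_free [Fact p.Prime] (G : Subgroup (GL2 p))
    (hfree : ∀ x ∈ G, x ≠ 1 → ((x : Matrix (Fin 2) (Fin 2) (ZMod p)) - 1).det ≠ 0)
    (hcard : Nat.card G = p ^ 2 - 1) (v w : Fin 2 → ZMod p) (hv : v ≠ 0) (hw : w ≠ 0) :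
    ∃! h : G, Matrix.mulVec ((h : GL2 p) : Matrix (Fin 2) (Fin 2) (ZMod p)) v = w := by
  classical
  have : NeZero p := ⟨(Fact.out : p.Prime).ne_zero⟩
  have hinj := orbitMap_injective G hfree v hv
  have hbij := hinj.bijective_of_nat_card_le (by rw [card_nonzero, hcard])
  obtain ⟨h, hh⟩ := hbij.2 ⟨w, hw⟩
  refine ⟨h, congrArg Subtype.val hh, ?_⟩
  intro h' hh'
  apply hinj
  apply Subtype.ext
  change Matrix.mulVec ((h' : GL2 p) : Matrix (Fin 2) (Fin 2) (ZMod p)) v =
    Matrix.mulVec ((h : GL2 p) : Matrix (Fin 2) (Fin 2) (ZMod p)) v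
  rw [hh']
  exact (congrArg Subtype.val hh).symm

/-- Combined statement: order and regular action of a subgroup generated by explicit matrices. -/
theorem main [Fact p.Prime] (S : Set (GL2 p)) (L gens : List (M2 p))
    (h1 : M2.one ∈ L)
    (hS : ∀ g ∈ S, ∃ m ∈ gens, ∃ m' ∈ gens,
      (g : Matrix (Fin 2) (Fin 2) (ZMod p)) = m.toMat ∧ m.mul m' = M2.one)
    (hgens : ∀ m ∈ gens, ∃ g ∈ Subgroup.closure S, (g : Matrix (Fin 2) (Fin 2) (ZMod p)) = m.toMat)
    (hmul : ∀ s ∈ L, ∀ m ∈ gens, s.mul m ∈ L)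
    (hbfs : ∀ i : Fin L.length, L.get i = M2.one ∨
      ∃ j : Fin L.length, j < i ∧ ∃ m ∈ gens, L.get i = (L.get j).mul m)
    (hnd : L.Nodup) (hlen : L.length = p ^ 2 - 1)
    (hfree : ∀ s ∈ L, s ≠ M2.one → s.det1 ≠ 0) :
    Nat.card (Subgroup.closure S) = p ^ 2 - 1 ∧
      ∀ v w : Fin 2 → ZMod p, v ≠ 0 → w ≠ 0 → ∃! h : Subgroup.closure S,
        Matrix.mulVec ((h : GL2 p) : Matrix (Fin 2) (Fin 2) (ZMod p)) v = w := by
  have hsub := closure_subset S L gens h1 hS hmul
  have hsup := closure_superset S L gens hgens hbfs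
  have hcard : Nat.card (Subgroup.closure S) = p ^ 2 - 1 := by
    rw [card_closure (Subgroup.closure S) L hnd hsub hsup, hlen]
  refine ⟨hcard, fun v w hv hw => regular_of_free (Subgroup.closure S) ?_ hcard v w hv hw⟩
  intro x hx hx1
  obtain ⟨s, hs, hxs⟩ := hsub x hx
  rw [hxs, det1_eq]
  apply hfree s hs
  intro hs1
  apply hx1
  apply Units.ext
  rw [hxs, hs1, toMat_one]
  rfl

end Cfsg.Agent.Lib.H29.Mat2
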