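import Mathlib
import Cfsg.Agent.Lib.H29.B2Def

/-!
# The five-dimensional module of `Sp₄`: integer data

`U` is the space of alternating `4 × 4` matrices `A` orthogonal to the symplectic form, with `g`
acting by `A ↦ g A gᵀ`; the Pfaffian restricts to the quadratic form `x₀² + x₁y₁ + x₂y₂` on `U`.
-/

set_option autoImplicit false

namespace Cfsg.Agent.Lib.H29.O5

open Matrix Cfsg.Agent.Lib.H29.B2

/-- index set of the five-dimensional quadratic space, in the order `x₀; x₁, x₂; y₁, y₂` -/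
abbrev I5 : Type := Unit ⊕ (Fin 2 ⊕ Fin 2)

/-- position of an index of `I5` in `0..4` -/
def idx5 : I5 → Fin 5 := Sum.elim (fun _ => 0) (Sum.elim ![1, 2] ![3, 4])

/-- alternating elementary matrix -/
def al (p q : ℕ) : Matrix K K ℤ := el p q - el q p

/-- the basis of `U` -/
def Uint : I5 → Matrix K K ℤ :=
  Sum.elim (fun _ => al 0 2 - al 1 3) (Sum.elim ![al 0 1, al 0 3] ![al 2 3, al 1 2])

/-- coordinates on `U` -/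
def coord5 {R : Type*} [CommRing R] (A : Matrix K K R) : I5 → R :=
  Sum.elim (fun _ => - A (Sum.inl 1) (Sum.inr 1))
    (Sum.elim ![A (Sum.inl 0) (Sum.inl 1), A (Sum.inl 0) (Sum.inr 1)]
      ![A (Sum.inr 0) (Sum.inr 1), A (Sum.inl 1) (Sum.inr 0)])

/-- the matrix of `U` with given coordinates (over `ℤ`) -/
def synth5Z (c : I5 → ℤ) : Matrix K K ℤ := ∑ i, c i • Uint i

def Ytab1 : Fin 8 → Fin 5 → Fin 5 → ℤ :=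
  ![![![0, 0, 0, 0, 0], ![0, 0, 0, 0, 0], ![0, 0, 0, 0, 0], ![0, 0, 1, 0, 0], ![0, -1, 0, 0, 0]],
    ![![0, 1, 0, 0, 0], ![0, 0, 0, 0, 0], ![0, 0, 0, 0, 0], ![-2, 0, 0, 0, 0], ![0, 0, 0, 0, 0]],
    ![![0, 0, -1, 0, 0], ![0, 0, 0, 0, 0], ![0, 0, 0, 0, 0], ![0, 0, 0, 0, 0], ![2, 0, 0, 0, 0]],
    ![![0, 0, 0, 0, 0], ![0, 0, 0, 0, 0], ![0, -1, 0, 0, 0], ![0, 0, 0, 0, 1], ![0, 0, 0, 0, 0]],
    ![![0, 0, 0, 0, 0], ![0, 0, -1, 0, 0], ![0, 0, 0, 0, 0], ![0, 0, 0, 0, 0], ![0, 0, 0, 1, 0]],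
    ![![0, 0, 0, 0, 1], ![0, 0, 0, 0, 0], ![-2, 0, 0, 0, 0], ![0, 0, 0, 0, 0], ![0, 0, 0, 0, 0]],
    ![![0, 0, 0, -1, 0], ![2, 0, 0, 0, 0], ![0, 0, 0, 0, 0], ![0, 0, 0, 0, 0], ![0, 0, 0, 0, 0]],
    ![![0, 0, 0, 0, 0], ![0, 0, 0, 0, -1], ![0, 0, 0, 1, 0], ![0, 0, 0, 0, 0], ![0, 0, 0, 0, 0]]]
def Ytab2 : Fin 8 → Fin 5 → Fin 5 → ℤ :=
  ![![![0, 0, 0, 0, 0], ![0, 0, 0, 0, 0], ![0, 0, 0, 0, 0], ![0, 0, 0, 0, 0], ![0, 0, 0, 0, 0]],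
    ![![0, 0, 0, 0, 0], ![0, 0, 0, 0, 0], ![0, 0, 0, 0, 0], ![0, -1, 0, 0, 0], ![0, 0, 0, 0, 0]],
    ![![0, 0, 0, 0, 0], ![0, 0, 0, 0, 0], ![0, 0, 0, 0, 0], ![0, 0, 0, 0, 0], ![0, 0, -1, 0, 0]],
    ![![0, 0, 0, 0, 0], ![0, 0, 0, 0, 0], ![0, 0, 0, 0, 0], ![0, 0, 0, 0, 0], ![0, 0, 0, 0, 0]],
    ![![0, 0, 0, 0, 0], ![0, 0, 0, 0, 0], ![0, 0, 0, 0, 0], ![0, 0, 0, 0, 0], ![0, 0, 0, 0, 0]],
    ![![0, 0, 0, 0, 0], ![0, 0, 0, 0, 0], ![0, 0, 0, 0, -1], ![0, 0, 0, 0, 0], ![0, 0, 0, 0, 0]],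
    ![![0, 0, 0, 0, 0], ![0, 0, 0, -1, 0], ![0, 0, 0, 0, 0], ![0, 0, 0, 0, 0], ![0, 0, 0, 0, 0]],
    ![![0, 0, 0, 0, 0], ![0, 0, 0, 0, 0], ![0, 0, 0, 0, 0], ![0, 0, 0, 0, 0], ![0, 0, 0, 0, 0]]]

/-- coefficient of `t` in the action of `1 + t e_r` on `U` -/
def Y1 (r : Fin 8) : Matrix I5 I5 ℤ := Matrix.of fun i j => Ytab1 r (idx5 i) (idx5 j)

/-- coefficient of `t²` in the action of `1 + t e_r` on `U` -/
def Y2 (r : Fin 8) : Matrix I5 I5 ℤ := Matrix.of fun i j => Ytab2 r (idx5 i) (idx5 j)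

theorem coord5_Uint : ∀ i j : I5, coord5 (Uint j) i = if i = j then 1 else 0 := by decide +kernel

theorem act1 : ∀ (r : Fin 8) (j : I5),
    Eint r * Uint j + Uint j * (Eint r)ᵀ = synth5Z (fun i => Y1 r i j) := by decide +kernel

theorem act2 : ∀ (r : Fin 8) (j : I5),
    Eint r * Uint j * (Eint r)ᵀ = synth5Z (fun i => Y2 r i j) := by decide +kernel

end Cfsg.Agent.Lib.H29.O5
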