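import Mathlib
import Cfsg.Agent.Lib.H29.O5Def
import Cfsg.Agent.Lib.H29.B2Gen

/-!
# The five-dimensional representation of `Sp₄(F)`
-/

set_option autoImplicit false

namespace Cfsg.Agent.Lib.H29.O5

open Matrix Cfsg.Agent.Lib.H29.B2

variable {F : Type*} [Field F]

/-- the basis of `U` over `F` -/
def UF (F : Type*) [Field F] (i : I5) : Matrix K K F := (Uint i).map (Int.castRingHom F)

/-- the matrix of `U` with given coordinates -/
def synth5 (c : I5 → F) : Matrix K K F := ∑ i, c i • UF F i

/-- membership in `U` -/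
def IsU (A : Matrix K K F) : Prop := synth5 (coord5 A) = A

theorem coord5_map {R S : Type*} [CommRing R] [CommRing S] (f : R →+* S) (X : Matrix K K R)
    (i : I5) : coord5 (X.map f) i = f (coord5 X i) := by
  rcases i with i | i | i
  · simp [coord5]
  · fin_cases i <;> simp [coord5]
  · fin_cases i <;> simp [coord5]

theorem coord5_add {R : Type*} [CommRing R] (X Y : Matrix K K R) :
    coord5 (X + Y) = coord5 X + coord5 Y := by
  ext i
  rcases i with i | i | i
  · simp [coord5]; ring
  · fin_cases i <;> simp [coord5]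
  · fin_cases i <;> simp [coord5]

theorem coord5_smul {R : Type*} [CommRing R] (c : R) (X : Matrix K K R) :
    coord5 (c • X) = c • coord5 X := by
  ext i
  rcases i with i | i | i
  · simp [coord5]
  · fin_cases i <;> simp [coord5]
  · fin_cases i <;> simp [coord5]

/-- `coord5` as a linear map -/
def coord5L (F : Type*) [Field F] : Matrix K K F →ₗ[F] (I5 → F) where
  toFun := coord5
  map_add' := coord5_add
  map_smul' c X := by simp [coord5_smul]

theorem coord5L_apply (X : Matrix K K F) : coord5L F X = coord5 X := rfl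

theorem coord5_UF (i j : I5) : coord5 (UF F j) i = if i = j then 1 else 0 := by
  unfold UF
  rw [coord5_map, coord5_Uint]
  split_ifs <;> simp

theorem coord5_synth5 (c : I5 → F) : coord5 (synth5 c) = c := by
  unfold synth5
  rw [← coord5L_apply, map_sum]
  ext i
  simp only [map_smul, coord5L_apply, Finset.sum_apply, Pi.smul_apply, coord5_UF, smul_eq_mul,
    mul_ite, mul_one, mul_zero]
  rw [Finset.sum_ite_eq]
  simp

theorem isU_synth5 (c : I5 → F) : IsU (synth5 c) := by
  unfold IsU
  rw [coord5_synth5]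

theorem synth5_add (c d : I5 → F) : synth5 (c + d) = synth5 c + synth5 d := by
  unfold synth5
  rw [← Finset.sum_add_distrib]
  apply Finset.sum_congr rfl
  intro i _
  rw [Pi.add_apply, add_smul]

theorem synth5_smul (a : F) (c : I5 → F) : synth5 (a • c) = a • synth5 c := by
  unfold synth5
  rw [Finset.smul_sum]
  apply Finset.sum_congr rfl
  intro i _
  rw [Pi.smul_apply, smul_eq_mul, mul_smul]

theorem synth5_single (j : I5) : synth5 (Pi.single j (1 : F)) = UF F j := by
  unfold synth5
  rw [Finset.sum_eq_single j]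
  · simp
  · intro i _ hij
    simp [hij]
  · intro h; exact absurd (Finset.mem_univ j) h

theorem isU_UF (j : I5) : IsU (UF F j) := by
  rw [← synth5_single]; exact isU_synth5 _

theorem synth5Z_map (c : I5 → ℤ) :
    (synth5Z c).map (Int.castRingHom F) = synth5 (fun i => ((c i : ℤ) : F)) := by
  unfold synth5Z synth5 UF
  rw [← RingHom.mapMatrix_apply, map_sum]
  apply Finset.sum_congr rfl
  intro i _
  ext a b
  simp only [RingHom.mapMatrix_apply, Matrix.map_apply, Matrix.smul_apply, smul_eq_mul,
    eq_intCast, Int.cast_mul]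

/-- the matrix of `A ↦ g A gᵀ` on `U` -/
def M5 (g : Matrix K K F) : Matrix I5 I5 F :=
  Matrix.of fun i j => coord5 (g * UF F j * gᵀ) i

theorem M5_apply (g : Matrix K K F) (i j : I5) : M5 g i j = coord5 (g * UF F j * gᵀ) i := rfl

/-- `g` stabilises `U` -/
def Stab (g : Matrix K K F) : Prop := ∀ j, IsU (g * UF F j * gᵀ)

theorem conj_synth5 {g : Matrix K K F} (hg : Stab g) (c : I5 → F) :
    g * synth5 c * gᵀ = synth5 (M5 g *ᵥ c) := by
  have h1 : g * synth5 c * gᵀ = ∑ j, c j • (g * UF F j * gᵀ) := by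
    unfold synth5
    rw [Matrix.mul_sum, Matrix.sum_mul]
    apply Finset.sum_congr rfl
    intro j _
    rw [Matrix.mul_smul, Matrix.smul_mul]
  have h2 : ∀ j, g * UF F j * gᵀ = synth5 (fun i => M5 g i j) := by
    intro j
    have := hg j
    unfold IsU at this
    rw [← this]
    rfl
  rw [h1]
  simp only [h2]
  unfold synth5
  simp only [Finset.smul_sum, smul_smul]
  rw [Finset.sum_comm]
  apply Finset.sum_congr rfl
  intro i _
  rw [← Finset.sum_smul]
  congr 1
  simp only [Matrix.mulVec, dotProduct]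
  apply Finset.sum_congr rfl
  intro j _
  ring

theorem Stab.one : Stab (1 : Matrix K K F) := by
  intro j
  rw [Matrix.one_mul, Matrix.transpose_one, Matrix.mul_one]
  exact isU_UF j

theorem M5_one : M5 (1 : Matrix K K F) = 1 := by
  ext i j
  rw [M5_apply, Matrix.one_mul, Matrix.transpose_one, Matrix.mul_one, coord5_UF, Matrix.one_apply]

theorem conj_mul (g h A : Matrix K K F) : g * h * A * (g * h)ᵀ = g * (h * A * hᵀ) * gᵀ := by
  rw [Matrix.transpose_mul]
  simp only [Matrix.mul_assoc]

theorem Stab.mul {g h : Matrix K K F} (hg : Stab g) (hh : Stab h) : Stab (g * h) := by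
  intro j
  rw [conj_mul]
  have := hh j
  unfold IsU at this
  rw [← this, conj_synth5 hg]
  exact isU_synth5 _

theorem M5_mul {g h : Matrix K K F} (hg : Stab g) (hh : Stab h) : M5 (g * h) = M5 g * M5 h := by
  ext i j
  rw [M5_apply, conj_mul]
  have := hh j
  unfold IsU at this
  rw [← this, conj_synth5 hg, coord5_synth5]
  simp only [Matrix.mulVec, dotProduct, Matrix.mul_apply, M5_apply]

/-- the matrix by which `1 + t e_r` acts on `U` -/
def YF (r : Fin 8) (t : F) : Matrix I5 I5 F :=
  1 + t • (Y1 r).map (Int.castRingHom F) + t ^ 2 • (Y2 r).map (Int.castRingHom F)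

theorem act1F (r : Fin 8) (j : I5) :
    EF F r * UF F j + UF F j * (EF F r)ᵀ = synth5 (fun i => ((Y1 r i j : ℤ) : F)) := by
  rw [← synth5Z_map, ← act1]
  unfold EF UF
  rw [← RingHom.mapMatrix_apply, ← RingHom.mapMatrix_apply, ← RingHom.mapMatrix_apply, map_add,
    map_mul, map_mul]
  rfl

theorem act2F (r : Fin 8) (j : I5) :
    EF F r * UF F j * (EF F r)ᵀ = synth5 (fun i => ((Y2 r i j : ℤ) : F)) := by
  rw [← synth5Z_map, ← act2]
  unfold EF UF
  rw [← RingHom.mapMatrix_apply, ← RingHom.mapMatrix_apply, ← RingHom.mapMatrix_apply,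
    map_mul, map_mul]
  rfl

theorem root_conj (r : Fin 8) (t : F) (j : I5) :
    (1 + t • EF F r) * UF F j * (1 + t • EF F r)ᵀ = synth5 (fun i => YF r t i j) := by
  have h1 : (1 + t • EF F r) * UF F j * (1 + t • EF F r)ᵀ =
      UF F j + t • (EF F r * UF F j + UF F j * (EF F r)ᵀ) +
        t ^ 2 • (EF F r * UF F j * (EF F r)ᵀ) := by
    rw [Matrix.transpose_add, Matrix.transpose_one, Matrix.transpose_smul, Matrix.add_mul,
      Matrix.one_mul, Matrix.mul_add, Matrix.mul_one, Matrix.add_mul,
      Matrix.smul_mul, Matrix.mul_smul, Matrix.mul_smul, Matrix.smul_mul, smul_smul]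
    module
  rw [h1, act1F, act2F, ← synth5_single, ← synth5_smul, ← synth5_smul, ← synth5_add,
    ← synth5_add]
  congr 1
  ext i
  simp only [YF, Pi.add_apply, Pi.smul_apply, smul_eq_mul, Matrix.add_apply, Matrix.smul_apply,
    Matrix.map_apply, Matrix.one_apply, Pi.single_apply, eq_intCast]

theorem Stab.root (r : Fin 8) (t : F) : Stab (1 + t • EF F r) := by
  intro j
  rw [root_conj]
  exact isU_synth5 _

theorem M5_root (r : Fin 8) (t : F) : M5 (1 + t • EF F r) = YF r t := by
  ext i j
  rw [M5_apply, root_conj, coord5_synth5]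

theorem Stab.sp (g : Sp4 F) : Stab (g : Matrix K K F) ∧ Stab ((g⁻¹ : Sp4 F) : Matrix K K F) := by
  have hg : g ∈ RootGen F := by rw [RootGen_eq_top]; exact Subgroup.mem_top _
  unfold RootGen at hg
  induction hg using Subgroup.closure_induction with
  | mem x hx =>
    obtain ⟨r, t, rfl⟩ := hx
    rw [uEl_inv, uEl_coe, uEl_coe]
    exact ⟨Stab.root r t, Stab.root r (-t)⟩
  | one =>
    rw [inv_one]
    exact ⟨Stab.one, Stab.one⟩
  | mul x y _ _ hx hy =>
    rw [_root_.mul_inv_rev, Submonoid.coe_mul, Submonoid.coe_mul]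
    exact ⟨hx.1.mul hy.1, hy.2.mul hx.2⟩
  | inv x _ hx =>
    rw [inv_inv]
    exact ⟨hx.2, hx.1⟩

/-- the five-dimensional representation as a monoid homomorphism into matrices -/
def rho5M (F : Type*) [Field F] : Sp4 F →* Matrix I5 I5 F where
  toFun g := M5 (g : Matrix K K F)
  map_one' := M5_one
  map_mul' g h := by
    rw [Submonoid.coe_mul]
    exact M5_mul (Stab.sp g).1 (Stab.sp h).1

/-- the five-dimensional representation `Sp₄(F) → GL₅(F)` -/
def rho5G (F : Type*) [Field F] : Sp4 F →* GL I5 F := (rho5M F).toHomUnits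

theorem rho5G_coe (g : Sp4 F) : ((rho5G F g : GL I5 F) : Matrix I5 I5 F) = M5 (g : Matrix K K F) := rfl

theorem rho5G_uEl (r : Fin 8) (t : F) :
    ((rho5G F (uEl r t) : GL I5 F) : Matrix I5 I5 F) = YF r t := by
  rw [rho5G_coe, uEl_coe, M5_root]

end Cfsg.Agent.Lib.H29.O5
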