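import Mathlib
import Cfsg.Agent.Lib.H29.O5Rep
import Cfsg.Prelude.Def_Classical

/-!
# Explicit action of the root elements on the five-dimensional quadratic space
-/

set_option autoImplicit false

namespace Cfsg.Agent.Lib.H29.O5

open Matrix Cfsg.Agent.Lib.H29.B2

variable {F : Type*} [Field F]

/-- the vector with coordinates `x₀; x₁, x₂; y₁, y₂` -/
def V5 (a b c d e : F) : I5 → F := Sum.elim (fun _ => a) (Sum.elim ![b, c] ![d, e])

omit [Field F] in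
theorem V5_eta (x : I5 → F) : x = V5 (x (Sum.inl ())) (x (Sum.inr (Sum.inl 0)))
    (x (Sum.inr (Sum.inl 1))) (x (Sum.inr (Sum.inr 0))) (x (Sum.inr (Sum.inr 1))) := by
  ext i
  rcases i with i | i | i
  · rfl
  · fin_cases i <;> rfl
  · fin_cases i <;> rfl

omit [Field F] in
theorem V5_inj {a b c d e a' b' c' d' e' : F} (h : V5 a b c d e = V5 a' b' c' d' e') :
    a = a' ∧ b = b' ∧ c = c' ∧ d = d' ∧ e = e' :=
  ⟨congrFun h (Sum.inl ()), congrFun h (Sum.inr (Sum.inl 0)), congrFun h (Sum.inr (Sum.inl 1)),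
    congrFun h (Sum.inr (Sum.inr 0)), congrFun h (Sum.inr (Sum.inr 1))⟩

/-- the quadratic form `x₀² + x₁y₁ + x₂y₂` -/
abbrev Q5 (F : Type*) [Field F] : (I5 → F) → F := Cfsg.quadFormOdd 2 F

theorem Q5_V5 (a b c d e : F) : Q5 F (V5 a b c d e) = a ^ 2 + b * d + c * e := by
  simp [Q5, Cfsg.quadFormOdd, V5, Fin.sum_univ_two]
  ring

theorem mulVec_V5 (M : Matrix I5 I5 F) (a b c d e : F) (i : I5) :
    (M *ᵥ V5 a b c d e) i = M i (Sum.inl ()) * a + (M i (Sum.inr (Sum.inl 0)) * b +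
      M i (Sum.inr (Sum.inl 1)) * c + (M i (Sum.inr (Sum.inr 0)) * d +
      M i (Sum.inr (Sum.inr 1)) * e)) := by
  simp [Matrix.mulVec, dotProduct, Fintype.sum_sum_type, Fin.sum_univ_two, V5]

theorem YF_act0 (t a b c d e : F) : YF 0 t *ᵥ V5 a b c d e = V5 a b c (d + t * c) (e - t * b) := by
  ext i
  rw [mulVec_V5]
  rcases i with i | i | i
  · simp [YF, Y1, Y2, Ytab1, Ytab2, idx5, V5]
  · fin_cases i <;> simp [YF, Y1, Y2, Ytab1, Ytab2, idx5, V5]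
  · fin_cases i <;> simp [YF, Y1, Y2, Ytab1, Ytab2, idx5, V5] <;> ring


theorem YF_act1 (t a b c d e : F) : YF 1 t *ᵥ V5 a b c d e = V5 (a + t * b) b c (d - 2 * t * a - t ^ 2 * b) e := by
  ext i
  rw [mulVec_V5]
  rcases i with i | i | i
  · simp [YF, Y1, Y2, Ytab1, Ytab2, idx5, V5] <;> ring
  · fin_cases i <;> simp [YF, Y1, Y2, Ytab1, Ytab2, idx5, V5] <;> ring
  · fin_cases i <;> simp [YF, Y1, Y2, Ytab1, Ytab2, idx5, V5] <;> ring

theorem YF_act2 (t a b c d e : F) : YF 2 t *ᵥ V5 a b c d e = V5 (a - t * c) b c d (e + 2 * t * a - t ^ 2 * c) := by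
  ext i
  rw [mulVec_V5]
  rcases i with i | i | i
  · simp [YF, Y1, Y2, Ytab1, Ytab2, idx5, V5] <;> ring
  · fin_cases i <;> simp [YF, Y1, Y2, Ytab1, Ytab2, idx5, V5] <;> ring
  · fin_cases i <;> simp [YF, Y1, Y2, Ytab1, Ytab2, idx5, V5] <;> ring

theorem YF_act3 (t a b c d e : F) : YF 3 t *ᵥ V5 a b c d e = V5 a b (c - t * b) (d + t * e) e := by
  ext i
  rw [mulVec_V5]
  rcases i with i | i | i
  · simp [YF, Y1, Y2, Ytab1, Ytab2, idx5, V5] <;> ring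
  · fin_cases i <;> simp [YF, Y1, Y2, Ytab1, Ytab2, idx5, V5] <;> ring
  · fin_cases i <;> simp [YF, Y1, Y2, Ytab1, Ytab2, idx5, V5] <;> ring

theorem YF_act4 (t a b c d e : F) : YF 4 t *ᵥ V5 a b c d e = V5 a (b - t * c) c d (e + t * d) := by
  ext i
  rw [mulVec_V5]
  rcases i with i | i | i
  · simp [YF, Y1, Y2, Ytab1, Ytab2, idx5, V5] <;> ring
  · fin_cases i <;> simp [YF, Y1, Y2, Ytab1, Ytab2, idx5, V5] <;> ring
  · fin_cases i <;> simp [YF, Y1, Y2, Ytab1, Ytab2, idx5, V5] <;> ring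

theorem YF_act5 (t a b c d e : F) : YF 5 t *ᵥ V5 a b c d e = V5 (a + t * e) b (c - 2 * t * a - t ^ 2 * e) d e := by
  ext i
  rw [mulVec_V5]
  rcases i with i | i | i
  · simp [YF, Y1, Y2, Ytab1, Ytab2, idx5, V5] <;> ring
  · fin_cases i <;> simp [YF, Y1, Y2, Ytab1, Ytab2, idx5, V5] <;> ring
  · fin_cases i <;> simp [YF, Y1, Y2, Ytab1, Ytab2, idx5, V5] <;> ring

theorem YF_act6 (t a b c d e : F) : YF 6 t *ᵥ V5 a b c d e = V5 (a - t * d) (b + 2 * t * a - t ^ 2 * d) c d e := by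
  ext i
  rw [mulVec_V5]
  rcases i with i | i | i
  · simp [YF, Y1, Y2, Ytab1, Ytab2, idx5, V5] <;> ring
  · fin_cases i <;> simp [YF, Y1, Y2, Ytab1, Ytab2, idx5, V5] <;> ring
  · fin_cases i <;> simp [YF, Y1, Y2, Ytab1, Ytab2, idx5, V5] <;> ring

theorem YF_act7 (t a b c d e : F) : YF 7 t *ᵥ V5 a b c d e = V5 a (b - t * e) (c + t * d) d e := by
  ext i
  rw [mulVec_V5]
  rcases i with i | i | i
  · simp [YF, Y1, Y2, Ytab1, Ytab2, idx5, V5] <;> ring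
  · fin_cases i <;> simp [YF, Y1, Y2, Ytab1, Ytab2, idx5, V5] <;> ring
  · fin_cases i <;> simp [YF, Y1, Y2, Ytab1, Ytab2, idx5, V5] <;> ring

theorem Q5_YF (r : Fin 8) (t : F) (x : I5 → F) : Q5 F (YF r t *ᵥ x) = Q5 F x := by
  rw [V5_eta x]
  fin_cases r
  · show Q5 F (YF 0 t *ᵥ _) = _
    rw [YF_act0, Q5_V5, Q5_V5]; ring
  · show Q5 F (YF 1 t *ᵥ _) = _
    rw [YF_act1, Q5_V5, Q5_V5]; ring
  · show Q5 F (YF 2 t *ᵥ _) = _
    rw [YF_act2, Q5_V5, Q5_V5]; ring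
  · show Q5 F (YF 3 t *ᵥ _) = _
    rw [YF_act3, Q5_V5, Q5_V5]; ring
  · show Q5 F (YF 4 t *ᵥ _) = _
    rw [YF_act4, Q5_V5, Q5_V5]; ring
  · show Q5 F (YF 5 t *ᵥ _) = _
    rw [YF_act5, Q5_V5, Q5_V5]; ring
  · show Q5 F (YF 6 t *ᵥ _) = _
    rw [YF_act6, Q5_V5, Q5_V5]; ring
  · show Q5 F (YF 7 t *ᵥ _) = _
    rw [YF_act7, Q5_V5, Q5_V5]; ring

end Cfsg.Agent.Lib.H29.O5
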