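import Mathlib
import Cfsg.Agent.Lib.H29.O5Act

/-!
# The image of `Sp₄(F)` in `O₅(F)`: basic definitions
-/

set_option autoImplicit false

namespace Cfsg.Agent.Lib.H29.O5

open Matrix Cfsg.Agent.Lib.H29.B2

variable {F : Type*} [Field F]

/-- the isometry group of `x₀² + x₁y₁ + x₂y₂` -/
abbrev GO5 (F : Type*) [Field F] : Subgroup (GL I5 F) := Cfsg.isometryGroup F (Q5 F)

theorem mem_GO5 (g : GL I5 F) : g ∈ GO5 F ↔ ∀ x, Q5 F ((g : Matrix I5 I5 F) *ᵥ x) = Q5 F x := by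
  constructor
  · intro h x
    exact h x x
  · intro h x _
    exact h x

theorem rho5G_mem (g : Sp4 F) : rho5G F g ∈ GO5 F := by
  have h : RootGen F ≤ (GO5 F).comap (rho5G F) := by
    unfold RootGen
    rw [Subgroup.closure_le]
    rintro _ ⟨r, t, rfl⟩
    rw [SetLike.mem_coe, Subgroup.mem_comap, mem_GO5]
    intro x
    rw [rho5G_uEl]
    exact Q5_YF r t x
  rw [RootGen_eq_top] at h
  exact h (Subgroup.mem_top g)

/-- the five-dimensional representation `Sp₄(F) → O₅(F)` -/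
def rho5 (F : Type*) [Field F] : Sp4 F →* ↥(GO5 F) := (rho5G F).codRestrict (GO5 F) rho5G_mem

/-- the action of `O₅(F)` on vectors -/
def act (g : ↥(GO5 F)) (x : I5 → F) : I5 → F := ((g : GL I5 F) : Matrix I5 I5 F) *ᵥ x

theorem act_mul (g h : ↥(GO5 F)) (x : I5 → F) : act (g * h) x = act g (act h x) := by
  unfold act
  rw [Subgroup.coe_mul, Units.val_mul, Matrix.mulVec_mulVec]

theorem act_one (x : I5 → F) : act (1 : ↥(GO5 F)) x = x := by
  unfold act
  simp

theorem act_inv_act (g : ↥(GO5 F)) (x : I5 → F) : act g⁻¹ (act g x) = x := by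
  rw [← act_mul, inv_mul_cancel, act_one]

theorem act_act_inv (g : ↥(GO5 F)) (x : I5 → F) : act g (act g⁻¹ x) = x := by
  rw [← act_mul, mul_inv_cancel, act_one]

theorem Q5_act (g : ↥(GO5 F)) (x : I5 → F) : Q5 F (act g x) = Q5 F x :=
  (mem_GO5 _).1 g.2 x

theorem act_add (g : ↥(GO5 F)) (x y : I5 → F) : act g (x + y) = act g x + act g y :=
  Matrix.mulVec_add _ _ _

theorem act_smul (g : ↥(GO5 F)) (a : F) (x : I5 → F) : act g (a • x) = a • act g x :=
  Matrix.mulVec_smul _ _ _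

theorem ext_act {g h : ↥(GO5 F)} (hgh : ∀ x, act g x = act h x) : g = h := by
  apply Subtype.ext
  apply Units.ext
  rw [Matrix.ext_iff_mulVec]
  exact hgh

/-- the image of a root element -/
def yEl (r : Fin 8) (t : F) : ↥(GO5 F) := rho5 F (uEl r t)

theorem act_yEl (r : Fin 8) (t : F) (x : I5 → F) : act (yEl r t) x = YF r t *ᵥ x := by
  unfold act yEl
  congr 1
  exact rho5G_uEl r t

/-- the image of `Sp₄(F)` in `O₅(F)` -/
def N5 (F : Type*) [Field F] : Subgroup ↥(GO5 F) := (rho5 F).range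

theorem yEl_mem (r : Fin 8) (t : F) : yEl r t ∈ N5 F := ⟨uEl r t, rfl⟩

theorem N5_eq_closure : N5 F = Subgroup.closure {g | ∃ (r : Fin 8) (t : F), g = yEl r t} := by
  unfold N5
  rw [MonoidHom.range_eq_map, ← RootGen_eq_top, RootGen, MonoidHom.map_closure]
  congr 1
  ext g
  constructor
  · rintro ⟨_, ⟨r, t, rfl⟩, rfl⟩
    exact ⟨r, t, rfl⟩
  · rintro ⟨r, t, rfl⟩
    exact ⟨uEl r t, ⟨r, t, rfl⟩, rfl⟩

/-- the polar form of `Q5` -/
def B5 (x y : I5 → F) : F := Q5 F (x + y) - Q5 F x - Q5 F y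

theorem B5_act (g : ↥(GO5 F)) (x y : I5 → F) : B5 (act g x) (act g y) = B5 x y := by
  unfold B5
  rw [← act_add, Q5_act, Q5_act, Q5_act]

theorem V5_add (a b c d e a' b' c' d' e' : F) :
    V5 a b c d e + V5 a' b' c' d' e' = V5 (a + a') (b + b') (c + c') (d + d') (e + e') := by
  ext i
  rcases i with i | i | i
  · rfl
  · fin_cases i <;> rfl
  · fin_cases i <;> rfl

theorem B5_V5 (a b c d e a' b' c' d' e' : F) :
    B5 (V5 a b c d e) (V5 a' b' c' d' e') = 2 * a * a' + b * d' + d * b' + c * e' + e * c' := by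
  unfold B5
  rw [V5_add, Q5_V5, Q5_V5, Q5_V5]
  ring

end Cfsg.Agent.Lib.H29.O5
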