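import Mathlib
import Cfsg.Agent.Lib.H29.O5Grp

/-!
# Torus elements of `Sp₄(F)` acting on the five-dimensional space, and the diagonal elements
`τ(c)` and `-1` of `O₅(F)`
-/

set_option autoImplicit false

namespace Cfsg.Agent.Lib.H29.O5

open Matrix Cfsg.Agent.Lib.H29.B2

variable {F : Type*} [Field F]

/-- diagonal vector of a torus element of `Sp₄` -/
def dVec (a b : Fˣ) : K → F := Sum.elim ![(a : F), (b : F)] ![((a⁻¹ : Fˣ) : F), ((b⁻¹ : Fˣ) : F)]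

theorem dEl_mem (a b : Fˣ) : Matrix.diagonal (dVec a b) ∈ Matrix.symplecticGroup (Fin 2) F := by
  rw [SymplecticGroup.mem_iff, Matrix.diagonal_transpose]
  ext i j
  rw [Matrix.mul_diagonal, Matrix.diagonal_mul]
  rcases i with i | i <;> rcases j with j | j <;> fin_cases i <;> fin_cases j <;>
    simp [Matrix.J, dVec]

/-- the torus element `diag(a, b, a⁻¹, b⁻¹)` of `Sp₄(F)` -/
def dEl (a b : Fˣ) : Sp4 F := ⟨Matrix.diagonal (dVec a b), dEl_mem a b⟩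

theorem act_dEl (a b : Fˣ) (x₀ x₁ x₂ y₁ y₂ : F) :
    act (rho5 F (dEl a b)) (V5 x₀ x₁ x₂ y₁ y₂) =
      V5 x₀ (a * b * x₁) (a * (b⁻¹ : Fˣ) * x₂) ((a⁻¹ : Fˣ) * (b⁻¹ : Fˣ) * y₁)
        ((a⁻¹ : Fˣ) * b * y₂) := by
  ext i
  show (M5 (Matrix.diagonal (dVec a b)) *ᵥ _) i = _
  rw [mulVec_V5]
  simp only [M5_apply, Matrix.diagonal_transpose]
  rcases i with i | i | i
  · simp [coord5, UF, Uint, al, el, kn, dVec, V5]
  · fin_cases i <;> simp [coord5, UF, Uint, al, el, kn, dVec, V5]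
  · fin_cases i <;> simp [coord5, UF, Uint, al, el, kn, dVec, V5] <;> left <;> ring

/-- the diagonal of `τ(c)` -/
def tauVec (c : Fˣ) : I5 → F := V5 1 1 (c : F) 1 ((c⁻¹ : Fˣ) : F)

theorem tauVec_mul (c d : Fˣ) : tauVec (c * d) = tauVec c * tauVec d := by
  ext i
  rcases i with i | i | i
  · simp [tauVec, V5]
  · fin_cases i <;> simp [tauVec, V5]
  · fin_cases i <;> simp [tauVec, V5, mul_comm]

theorem tauVec_one : tauVec (1 : Fˣ) = (1 : I5 → F) := by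
  ext i
  rcases i with i | i | i
  · simp [tauVec, V5]
  · fin_cases i <;> simp [tauVec, V5]
  · fin_cases i <;> simp [tauVec, V5]

/-- `τ(c)` as an invertible matrix -/
def tauGL : Fˣ →* GL I5 F where
  toFun c := ⟨Matrix.diagonal (tauVec c), Matrix.diagonal (tauVec c⁻¹),
    by rw [Matrix.diagonal_mul_diagonal, ← Matrix.diagonal_one]; congr 1; rw [← Pi.mul_def, ← tauVec_mul, mul_inv_cancel, tauVec_one]; rfl,
    by rw [Matrix.diagonal_mul_diagonal, ← Matrix.diagonal_one]; congr 1; rw [← Pi.mul_def, ← tauVec_mul, inv_mul_cancel, tauVec_one]; rfl⟩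
  map_one' := by
    apply Units.ext
    show Matrix.diagonal (tauVec 1) = 1
    rw [tauVec_one]; exact Matrix.diagonal_one
  map_mul' c d := by
    apply Units.ext
    show Matrix.diagonal (tauVec (c * d)) = Matrix.diagonal (tauVec c) * Matrix.diagonal (tauVec d)
    rw [Matrix.diagonal_mul_diagonal, tauVec_mul]; rfl

theorem tauGL_mulVec (c : Fˣ) (x₀ x₁ x₂ y₁ y₂ : F) :
    ((tauGL c : GL I5 F) : Matrix I5 I5 F) *ᵥ V5 x₀ x₁ x₂ y₁ y₂ =
      V5 x₀ x₁ (c * x₂) y₁ ((c⁻¹ : Fˣ) * y₂) := by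
  ext i
  show (Matrix.diagonal (tauVec c) *ᵥ _) i = _
  rw [Matrix.mulVec_diagonal]
  rcases i with i | i | i
  · simp [tauVec, V5]
  · fin_cases i <;> simp [tauVec, V5]
  · fin_cases i <;> simp [tauVec, V5]

theorem tauGL_mem (c : Fˣ) : tauGL c ∈ GO5 F := by
  rw [mem_GO5]
  intro x
  rw [V5_eta x, tauGL_mulVec, Q5_V5, Q5_V5]
  have : (c : F) * ((c⁻¹ : Fˣ) : F) = 1 := by simp
  linear_combination (x (Sum.inr (Sum.inl 1)) * x (Sum.inr (Sum.inr 1))) * this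

/-- `τ(c) = diag(1; 1, c; 1, c⁻¹)` as an element of `O₅(F)` -/
def tau : Fˣ →* ↥(GO5 F) := tauGL.codRestrict (GO5 F) tauGL_mem

theorem act_tau (c : Fˣ) (x₀ x₁ x₂ y₁ y₂ : F) :
    act (tau c) (V5 x₀ x₁ x₂ y₁ y₂) = V5 x₀ x₁ (c * x₂) y₁ ((c⁻¹ : Fˣ) * y₂) :=
  tauGL_mulVec c x₀ x₁ x₂ y₁ y₂

theorem negOne_mem : (-1 : GL I5 F) ∈ GO5 F := by
  rw [mem_GO5]
  intro x
  rw [V5_eta x]
  have : ((-1 : GL I5 F) : Matrix I5 I5 F) = -1 := by simp
  rw [this, Matrix.neg_mulVec, Matrix.one_mulVec]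
  have h2 : ∀ a b c d e : F, - V5 a b c d e = V5 (-a) (-b) (-c) (-d) (-e) := by
    intro a b c d e
    ext i
    rcases i with i | i | i
    · rfl
    · fin_cases i <;> rfl
    · fin_cases i <;> rfl
  rw [h2, Q5_V5, Q5_V5]
  ring

/-- `-1` as an element of `O₅(F)` -/
def zEl : ↥(GO5 F) := ⟨-1, negOne_mem⟩

theorem act_zEl (x : I5 → F) : act (zEl : ↥(GO5 F)) x = -x := by
  unfold act zEl
  have : ((-1 : GL I5 F) : Matrix I5 I5 F) = -1 := by simp
  simp [this, Matrix.neg_mulVec]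

theorem zEl_comm (g : ↥(GO5 F)) : zEl * g = g * zEl := by
  apply ext_act
  intro x
  rw [act_mul, act_mul, act_zEl, act_zEl]
  unfold act
  rw [Matrix.mulVec_neg]

end Cfsg.Agent.Lib.H29.O5
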