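import Mathlib
import Cfsg.Agent.Lib.H29.O5Tor

/-!
# Transitivity of the image of `Sp₄(F)` on singular vectors of the five-dimensional space
-/

set_option autoImplicit false

namespace Cfsg.Agent.Lib.H29.O5

open Matrix Cfsg.Agent.Lib.H29.B2

variable {F : Type*} [Field F]

theorem V5_ne_zero {a b c d e : F} (h : V5 a b c d e ≠ 0) :
    a ≠ 0 ∨ b ≠ 0 ∨ c ≠ 0 ∨ d ≠ 0 ∨ e ≠ 0 := by
  by_contra hcon
  push Not at hcon
  obtain ⟨rfl, rfl, rfl, rfl, rfl⟩ := hcon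
  apply h
  ext i
  rcases i with i | i | i
  · rfl
  · fin_cases i <;> rfl
  · fin_cases i <;> rfl

omit [Field F] in
theorem V5_x1 (a b c d e : F) : V5 a b c d e (Sum.inr (Sum.inl 0)) = b := rfl

theorem stepA (a b c d e : F) (hx : V5 a b c d e ≠ 0) (hQ : a ^ 2 + b * d + c * e = 0) :
    ∃ n ∈ N5 F, act n (V5 a b c d e) (Sum.inr (Sum.inl 0)) ≠ 0 := by
  by_cases hb : b = 0
  · by_cases hc : c = 0
    · by_cases he : e = 0
      · subst hb hc he
        have ha : a = 0 := by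
          have : a ^ 2 = 0 := by linear_combination hQ
          exact pow_eq_zero_iff (two_ne_zero) |>.1 this
        subst ha
        have hd : d ≠ 0 := by
          rcases V5_ne_zero hx with h | h | h | h | h
          · exact absurd rfl h
          · exact absurd rfl h
          · exact absurd rfl h
          · exact h
          · exact absurd rfl h
        refine ⟨yEl 6 1, yEl_mem _ _, ?_⟩
        rw [act_yEl, YF_act6, V5_x1]
        simpa using hd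
      · refine ⟨yEl 7 (-1), yEl_mem _ _, ?_⟩
        rw [act_yEl, YF_act7, V5_x1, hb]
        simpa using he
    · refine ⟨yEl 4 (-1), yEl_mem _ _, ?_⟩
      rw [act_yEl, YF_act4, V5_x1, hb]
      simpa using hc
  · exact ⟨1, Subgroup.one_mem _, by rw [act_one, V5_x1]; exact hb⟩

theorem stepB (a b c d e : F) (hb : b ≠ 0) (hQ : a ^ 2 + b * d + c * e = 0) :
    ∃ n ∈ N5 F, act n (V5 a b c d e) = V5 0 b 0 0 0 := by
  have h1 : ∃ n ∈ N5 F, ∃ D : F, act n (V5 a b c d e) = V5 0 b 0 D 0 := by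
    refine ⟨yEl 1 (-a / b) * yEl 0 (e / b) * yEl 3 (c / b),
      mul_mem (mul_mem (yEl_mem _ _) (yEl_mem _ _)) (yEl_mem _ _), ?_⟩
    rw [act_mul, act_mul, act_yEl 3, YF_act3, act_yEl 0, YF_act0, act_yEl 1, YF_act1]
    refine ⟨d + c / b * e + e / b * (c - c / b * b) - 2 * (-a / b) * a - (-a / b) ^ 2 * b, ?_⟩
    congr 1
    · field_simp; ring
    · field_simp; ring
    · field_simp; ring
  obtain ⟨n, hn, D, hD⟩ := h1
  refine ⟨n, hn, ?_⟩
  have h2 := Q5_act n (V5 a b c d e)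
  rw [hD, Q5_V5, Q5_V5, hQ] at h2
  have hD0 : D = 0 := by
    have : b * D = 0 := by linear_combination h2
    rcases mul_eq_zero.1 this with h | h
    · exact absurd h hb
    · exact h
  rw [hD, hD0]

theorem stepC (b : F) (hb : b ≠ 0) :
    ∃ n ∈ N5 F, act n (V5 0 b 0 0 0) = V5 0 1 0 0 0 := by
  refine ⟨rho5 F (dEl (Units.mk0 b hb)⁻¹ 1), ⟨_, rfl⟩, ?_⟩
  rw [act_dEl]
  congr 1 <;> simp [hb]

theorem trans1 (x : I5 → F) (hx : x ≠ 0) (hQ : Q5 F x = 0) :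
    ∃ n ∈ N5 F, act n x = V5 0 1 0 0 0 := by
  have hx' := hx
  have hQ' := hQ
  rw [V5_eta x] at hx' hQ'
  rw [Q5_V5] at hQ'
  obtain ⟨n₁, hn₁, h₁⟩ := stepA _ _ _ _ _ hx' hQ'
  rw [← V5_eta x] at h₁
  have hQ₁ : Q5 F (act n₁ x) = 0 := by rw [Q5_act, hQ]
  rw [V5_eta (act n₁ x), Q5_V5] at hQ₁
  obtain ⟨n₂, hn₂, h₂⟩ := stepB _ _ _ _ _ h₁ hQ₁
  rw [← V5_eta (act n₁ x)] at h₂
  obtain ⟨n₃, hn₃, h₃⟩ := stepC _ h₁
  refine ⟨n₃ * n₂ * n₁, mul_mem (mul_mem hn₃ hn₂) hn₁, ?_⟩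
  rw [act_mul, act_mul, h₂, h₃]

end Cfsg.Agent.Lib.H29.O5
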