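import Mathlib
import Cfsg.Agent.Lib.H29.O5Trans

/-!
# Transitivity on hyperbolic pairs
-/

set_option autoImplicit false

namespace Cfsg.Agent.Lib.H29.O5

open Matrix Cfsg.Agent.Lib.H29.B2

variable {F : Type*} [Field F]

/-- move a singular vector with `B(e_{x₁}, v) = 1` to `e_{y₁}`, fixing `e_{x₁}` -/
theorem trans2 (a b c e : F) (hQ : a ^ 2 + b * 1 + c * e = 0) :
    ∃ n ∈ N5 F, act n (V5 0 1 0 0 0) = V5 0 1 0 0 0 ∧ act n (V5 a b c 1 e) = V5 0 0 0 1 0 := by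
  have h1 : ∃ n ∈ N5 F, act n (V5 0 1 0 0 0) = V5 0 1 0 0 0 ∧
      ∃ B : F, act n (V5 a b c 1 e) = V5 0 B 0 1 0 := by
    refine ⟨yEl 6 a * yEl 4 (-e) * yEl 7 (-c),
      mul_mem (mul_mem (yEl_mem _ _) (yEl_mem _ _)) (yEl_mem _ _), ?_, ?_⟩
    · rw [act_mul, act_mul, act_yEl 7, YF_act7, act_yEl 4, YF_act4, act_yEl 6, YF_act6]
      congr 1 <;> ring
    · rw [act_mul, act_mul, act_yEl 7, YF_act7, act_yEl 4, YF_act4, act_yEl 6, YF_act6]
      refine ⟨b - -c * e - -e * (c + -c * 1) + 2 * a * a - a ^ 2 * 1, ?_⟩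
      congr 1 <;> ring
  obtain ⟨n, hn, hfix, B, hB⟩ := h1
  refine ⟨n, hn, hfix, ?_⟩
  have h2 := Q5_act n (V5 a b c 1 e)
  rw [hB, Q5_V5, Q5_V5, hQ] at h2
  have hB0 : B = 0 := by linear_combination h2
  rw [hB, hB0]

/-- move a singular vector of `⟨e_{x₀}, e_{x₂}, e_{y₂}⟩` to `e_{x₂}` fixing `e_{x₁}` and `e_{y₁}`,
inside any subgroup containing the image of `Sp₄` and the `τ(c)` -/
theorem trans3 (H : Subgroup ↥(GO5 F)) (hN : N5 F ≤ H) (hτ : ∀ c : Fˣ, tau c ∈ H)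
    (a c e : F) (hx : V5 a 0 c 0 e ≠ 0) (hQ : a ^ 2 + 0 * 0 + c * e = 0) :
    ∃ m ∈ H, act m (V5 0 1 0 0 0) = V5 0 1 0 0 0 ∧ act m (V5 0 0 0 1 0) = V5 0 0 0 1 0 ∧
      act m (V5 a 0 c 0 e) = V5 0 0 1 0 0 := by
  -- the case `c ≠ 0`
  have key : ∀ a c e : F, c ≠ 0 → a ^ 2 + 0 * 0 + c * e = 0 →
      ∃ m ∈ H, act m (V5 0 1 0 0 0) = V5 0 1 0 0 0 ∧ act m (V5 0 0 0 1 0) = V5 0 0 0 1 0 ∧
        act m (V5 a 0 c 0 e) = V5 0 0 1 0 0 := by
    intro a c e hc hQ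
    have h1 : act (yEl 2 (a / c)) (V5 a 0 c 0 e) = V5 0 0 c 0 (e + 2 * (a / c) * a - (a / c) ^ 2 * c) := by
      rw [act_yEl, YF_act2]
      congr 1
      field_simp; ring
    have h2 := Q5_act (yEl 2 (a / c)) (V5 a 0 c 0 e)
    rw [h1, Q5_V5, Q5_V5, hQ] at h2
    have h3 : e + 2 * (a / c) * a - (a / c) ^ 2 * c = 0 := by
      have : c * (e + 2 * (a / c) * a - (a / c) ^ 2 * c) = 0 := by linear_combination h2
      rcases mul_eq_zero.1 this with h | h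
      · exact absurd h hc
      · exact h
    rw [h3] at h1
    refine ⟨tau (Units.mk0 c hc)⁻¹ * yEl 2 (a / c), mul_mem (hτ _) (hN (yEl_mem _ _)), ?_, ?_, ?_⟩
    · rw [act_mul, act_yEl, YF_act2, act_tau]
      congr 1 <;> simp
    · rw [act_mul, act_yEl, YF_act2, act_tau]
      congr 1 <;> simp
    · rw [act_mul, h1, act_tau]
      congr 1 <;> simp [hc]
  by_cases hc : c = 0
  · subst hc
    have ha : a = 0 := by
      have : a ^ 2 = 0 := by linear_combination hQ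
      exact pow_eq_zero_iff (two_ne_zero) |>.1 this
    subst ha
    have he : e ≠ 0 := by
      rcases V5_ne_zero hx with h | h | h | h | h
      · exact absurd rfl h
      · exact absurd rfl h
      · exact absurd rfl h
      · exact absurd rfl h
      · exact h
    have h1 : act (yEl 5 1) (V5 0 0 0 0 e) = V5 e 0 (-e) 0 e := by
      rw [act_yEl, YF_act5]
      congr 1 <;> ring
    obtain ⟨m, hm, hm1, hm2, hm3⟩ := key e (-e) e (neg_ne_zero.2 he) (by ring)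
    refine ⟨m * yEl 5 1, mul_mem hm (hN (yEl_mem _ _)), ?_, ?_, ?_⟩
    · rw [act_mul, act_yEl, YF_act5]
      have : V5 (0 + 1 * 0) 1 (0 - 2 * 1 * 0 - 1 ^ 2 * 0) 0 (0 : F) = V5 0 1 0 0 0 := by
        congr 1 <;> ring
      rw [this, hm1]
    · rw [act_mul, act_yEl, YF_act5]
      have : V5 (0 + 1 * 0) 0 (0 - 2 * 1 * 0 - 1 ^ 2 * 0) 1 (0 : F) = V5 0 0 0 1 0 := by
        congr 1 <;> ring
      rw [this, hm2]
    · rw [act_mul, h1, hm3]
  · exact key a c e hc hQ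

/-- move a singular vector with `B(e_{x₂}, v) = 1` of `⟨e_{x₀}, e_{x₂}, e_{y₂}⟩` to `e_{y₂}` -/
theorem trans4 (a c : F) (hQ : a ^ 2 + 0 * 0 + c * 1 = 0) :
    ∃ n ∈ N5 F, act n (V5 0 1 0 0 0) = V5 0 1 0 0 0 ∧ act n (V5 0 0 0 1 0) = V5 0 0 0 1 0 ∧
      act n (V5 0 0 1 0 0) = V5 0 0 1 0 0 ∧ act n (V5 a 0 c 0 1) = V5 0 0 0 0 1 := by
  refine ⟨yEl 5 (-a), yEl_mem _ _, ?_, ?_, ?_, ?_⟩
  · rw [act_yEl, YF_act5]; congr 1 <;> ring
  · rw [act_yEl, YF_act5]; congr 1 <;> ring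
  · rw [act_yEl, YF_act5]; congr 1 <;> ring
  · rw [act_yEl, YF_act5]
    congr 1
    · ring
    · linear_combination hQ

end Cfsg.Agent.Lib.H29.O5
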