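import Mathlib
import Cfsg.Agent.Lib.H29.O5Trans2

/-!
# `O₅(F)` is generated by the image of `Sp₄(F)`, the elements `τ(c)` and `-1`
-/

set_option autoImplicit false

namespace Cfsg.Agent.Lib.H29.O5

open Matrix Cfsg.Agent.Lib.H29.B2

variable {F : Type*} [Field F]

theorem V5_smul (t a b c d e : F) : t • V5 a b c d e = V5 (t * a) (t * b) (t * c) (t * d) (t * e) := by
  ext i
  rcases i with i | i | i
  · rfl
  · fin_cases i <;> rfl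
  · fin_cases i <;> rfl

theorem V5_decomp (a b c d e : F) : V5 a b c d e =
    a • V5 1 0 0 0 0 + b • V5 0 1 0 0 0 + c • V5 0 0 1 0 0 + d • V5 0 0 0 1 0 + e • V5 0 0 0 0 1 := by
  simp only [V5_smul, V5_add]
  congr 1 <;> ring

theorem act_V5 (g : ↥(GO5 F)) (a b c d e : F) : act g (V5 a b c d e) =
    a • act g (V5 1 0 0 0 0) + b • act g (V5 0 1 0 0 0) + c • act g (V5 0 0 1 0 0) +
      d • act g (V5 0 0 0 1 0) + e • act g (V5 0 0 0 0 1) := by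
  conv_lhs => rw [V5_decomp]
  simp only [act_add, act_smul]

theorem V5_zero : V5 (0 : F) 0 0 0 0 = 0 := by
  ext i
  rcases i with i | i | i
  · rfl
  · fin_cases i <;> rfl
  · fin_cases i <;> rfl

theorem act_ne_zero (g : ↥(GO5 F)) (x : I5 → F) (hx : x ≠ 0) : act g x ≠ 0 := by
  intro h
  apply hx
  have := act_inv_act g x
  rw [h] at this
  rw [← this]
  unfold act
  simp

theorem B5_ex1 (w : I5 → F) : B5 (V5 0 1 0 0 0) w = w (Sum.inr (Sum.inr 0)) := by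
  conv_lhs => rw [V5_eta w]
  rw [B5_V5]; ring

theorem B5_ey1 (w : I5 → F) : B5 (V5 0 0 0 1 0) w = w (Sum.inr (Sum.inl 0)) := by
  conv_lhs => rw [V5_eta w]
  rw [B5_V5]; ring

theorem B5_ex2 (w : I5 → F) : B5 (V5 0 0 1 0 0) w = w (Sum.inr (Sum.inr 1)) := by
  conv_lhs => rw [V5_eta w]
  rw [B5_V5]; ring

theorem B5_ey2 (w : I5 → F) : B5 (V5 0 0 0 0 1) w = w (Sum.inr (Sum.inl 1)) := by
  conv_lhs => rw [V5_eta w]
  rw [B5_V5]; ring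

theorem fix_ex1 (g : ↥(GO5 F)) (y : I5 → F) (h : act g (V5 0 1 0 0 0) = V5 0 1 0 0 0) :
    act g y (Sum.inr (Sum.inr 0)) = y (Sum.inr (Sum.inr 0)) := by
  rw [← B5_ex1 (act g y), ← B5_ex1 y]
  conv_lhs => rw [← h]
  exact B5_act g _ _

theorem fix_ey1 (g : ↥(GO5 F)) (y : I5 → F) (h : act g (V5 0 0 0 1 0) = V5 0 0 0 1 0) :
    act g y (Sum.inr (Sum.inl 0)) = y (Sum.inr (Sum.inl 0)) := by
  rw [← B5_ey1 (act g y), ← B5_ey1 y]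
  conv_lhs => rw [← h]
  exact B5_act g _ _

theorem fix_ex2 (g : ↥(GO5 F)) (y : I5 → F) (h : act g (V5 0 0 1 0 0) = V5 0 0 1 0 0) :
    act g y (Sum.inr (Sum.inr 1)) = y (Sum.inr (Sum.inr 1)) := by
  rw [← B5_ex2 (act g y), ← B5_ex2 y]
  conv_lhs => rw [← h]
  exact B5_act g _ _

theorem fix_ey2 (g : ↥(GO5 F)) (y : I5 → F) (h : act g (V5 0 0 0 0 1) = V5 0 0 0 0 1) :
    act g y (Sum.inr (Sum.inl 1)) = y (Sum.inr (Sum.inl 1)) := by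
  rw [← B5_ey2 (act g y), ← B5_ey2 y]
  conv_lhs => rw [← h]
  exact B5_act g _ _

theorem trans2' (v : I5 → F) (hQ : Q5 F v = 0) (hd : v (Sum.inr (Sum.inr 0)) = 1) :
    ∃ n ∈ N5 F, act n (V5 0 1 0 0 0) = V5 0 1 0 0 0 ∧ act n v = V5 0 0 0 1 0 := by
  rw [V5_eta v, hd] at hQ ⊢
  rw [Q5_V5] at hQ
  exact trans2 _ _ _ _ hQ

theorem trans3' (H : Subgroup ↥(GO5 F)) (hN : N5 F ≤ H) (hτ : ∀ c : Fˣ, tau c ∈ H)
    (x : I5 → F) (hx : x ≠ 0) (hQ : Q5 F x = 0) (hb : x (Sum.inr (Sum.inl 0)) = 0)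
    (hd : x (Sum.inr (Sum.inr 0)) = 0) :
    ∃ m ∈ H, act m (V5 0 1 0 0 0) = V5 0 1 0 0 0 ∧ act m (V5 0 0 0 1 0) = V5 0 0 0 1 0 ∧
      act m x = V5 0 0 1 0 0 := by
  rw [V5_eta x, hb, hd] at hx hQ ⊢
  rw [Q5_V5] at hQ
  exact trans3 H hN hτ _ _ _ hx hQ

theorem trans4' (v : I5 → F) (hQ : Q5 F v = 0) (hb : v (Sum.inr (Sum.inl 0)) = 0)
    (hd : v (Sum.inr (Sum.inr 0)) = 0) (he : v (Sum.inr (Sum.inr 1)) = 1) :
    ∃ n ∈ N5 F, act n (V5 0 1 0 0 0) = V5 0 1 0 0 0 ∧ act n (V5 0 0 0 1 0) = V5 0 0 0 1 0 ∧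
      act n (V5 0 0 1 0 0) = V5 0 0 1 0 0 ∧ act n v = V5 0 0 0 0 1 := by
  rw [V5_eta v, hb, hd, he] at hQ ⊢
  rw [Q5_V5] at hQ
  exact trans4 _ _ hQ

/-- a subgroup of `O₅(F)` containing the image of `Sp₄(F)`, the `τ(c)` and `-1` is everything -/
theorem gen_top (H : Subgroup ↥(GO5 F)) (hN : N5 F ≤ H) (hτ : ∀ c : Fˣ, tau c ∈ H)
    (hz : zEl ∈ H) : H = ⊤ := by
  rw [eq_top_iff]
  intro g _
  have h10 : V5 (0 : F) 1 0 0 0 ≠ 0 := by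
    intro h
    have := congrFun h (Sum.inr (Sum.inl 0))
    simp [V5] at this
  have h20 : V5 (0 : F) 0 1 0 0 ≠ 0 := by
    intro h
    have := congrFun h (Sum.inr (Sum.inl 1))
    simp [V5] at this
  -- step 1
  obtain ⟨n₁, hn₁, h₁⟩ := trans1 (act g (V5 0 1 0 0 0)) (act_ne_zero g _ h10)
    (by rw [Q5_act, Q5_V5]; ring)
  rw [← act_mul] at h₁
  -- step 2
  obtain ⟨n₂, hn₂, h₂a, h₂b⟩ := trans2' (act (n₁ * g) (V5 0 0 0 1 0))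
    (by rw [Q5_act, Q5_V5]; ring)
    (by rw [fix_ex1 _ _ h₁]; rfl)
  rw [← act_mul] at h₂b
  have h₂a' : act (n₂ * (n₁ * g)) (V5 0 1 0 0 0) = V5 0 1 0 0 0 := by
    rw [act_mul, h₁, h₂a]
  -- step 3
  obtain ⟨m₃, hm₃, h₃a, h₃b, h₃c⟩ := trans3' H hN hτ (act (n₂ * (n₁ * g)) (V5 0 0 1 0 0))
    (act_ne_zero _ _ h20) (by rw [Q5_act, Q5_V5]; ring)
    (by rw [fix_ey1 _ _ h₂b]; rfl)
    (by rw [fix_ex1 _ _ h₂a']; rfl)
  rw [← act_mul] at h₃c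
  have h₃a' : act (m₃ * (n₂ * (n₁ * g))) (V5 0 1 0 0 0) = V5 0 1 0 0 0 := by
    rw [act_mul, h₂a', h₃a]
  have h₃b' : act (m₃ * (n₂ * (n₁ * g))) (V5 0 0 0 1 0) = V5 0 0 0 1 0 := by
    rw [act_mul, h₂b, h₃b]
  -- step 4
  obtain ⟨n₄, hn₄, h₄a, h₄b, h₄c, h₄d⟩ := trans4' (act (m₃ * (n₂ * (n₁ * g))) (V5 0 0 0 0 1))
    (by rw [Q5_act, Q5_V5]; ring)
    (by rw [fix_ey1 _ _ h₃b']; rfl)
    (by rw [fix_ex1 _ _ h₃a']; rfl)
    (by rw [fix_ex2 _ _ h₃c]; rfl)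
  rw [← act_mul] at h₄d
  set g₄ := n₄ * (m₃ * (n₂ * (n₁ * g))) with hg₄
  have e1 : act g₄ (V5 0 1 0 0 0) = V5 0 1 0 0 0 := by rw [hg₄, act_mul, h₃a', h₄a]
  have e2 : act g₄ (V5 0 0 0 1 0) = V5 0 0 0 1 0 := by rw [hg₄, act_mul, h₃b', h₄b]
  have e3 : act g₄ (V5 0 0 1 0 0) = V5 0 0 1 0 0 := by rw [hg₄, act_mul, h₃c, h₄c]
  have e4 : act g₄ (V5 0 0 0 0 1) = V5 0 0 0 0 1 := h₄d
  -- step 5: the image of `e_{x₀}`
  have c1 : act g₄ (V5 1 0 0 0 0) (Sum.inr (Sum.inr 0)) = 0 := by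
    rw [fix_ex1 _ _ e1]; rfl
  have c2 : act g₄ (V5 1 0 0 0 0) (Sum.inr (Sum.inl 0)) = 0 := by
    rw [fix_ey1 _ _ e2]; rfl
  have c3 : act g₄ (V5 1 0 0 0 0) (Sum.inr (Sum.inr 1)) = 0 := by
    rw [fix_ex2 _ _ e3]; rfl
  have c4 : act g₄ (V5 1 0 0 0 0) (Sum.inr (Sum.inl 1)) = 0 := by
    rw [fix_ey2 _ _ e4]; rfl
  have e0 : act g₄ (V5 1 0 0 0 0) = V5 (act g₄ (V5 1 0 0 0 0) (Sum.inl ())) 0 0 0 0 := by
    conv_lhs => rw [V5_eta (act g₄ (V5 1 0 0 0 0)), c1, c2, c3, c4]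
  have hsq : (act g₄ (V5 1 0 0 0 0) (Sum.inl ())) ^ 2 = 1 := by
    have := Q5_act g₄ (V5 1 0 0 0 0)
    rw [e0, Q5_V5, Q5_V5] at this
    linear_combination this
  have hg₄H : g₄ ∈ H := by
    have : (act g₄ (V5 1 0 0 0 0) (Sum.inl ()) - 1) * (act g₄ (V5 1 0 0 0 0) (Sum.inl ()) + 1) = 0 := by
      linear_combination hsq
    rcases mul_eq_zero.1 this with h | h
    · have h1 : act g₄ (V5 1 0 0 0 0) (Sum.inl ()) = 1 := by linear_combination h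
      rw [h1] at e0
      have : g₄ = 1 := by
        apply ext_act
        intro x
        rw [V5_eta x, act_V5, e0, e1, e2, e3, e4, ← V5_decomp, act_one]
      rw [this]; exact Subgroup.one_mem _
    · have h1 : act g₄ (V5 1 0 0 0 0) (Sum.inl ()) = -1 := by linear_combination h
      rw [h1] at e0
      have : g₄ = zEl * rho5 F (dEl 1 (-1)) := by
        apply ext_act
        intro x
        rw [V5_eta x, act_V5, e0, e1, e2, e3, e4, act_mul, act_dEl, act_zEl]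
        simp only [V5_smul, V5_add]
        ext i
        rcases i with i | i | i
        · simp [V5]
        · fin_cases i <;> simp [V5]
        · fin_cases i <;> simp [V5]
      rw [this]
      exact mul_mem hz (hN ⟨_, rfl⟩)
  have hg : g = n₁⁻¹ * (n₂⁻¹ * (m₃⁻¹ * (n₄⁻¹ * g₄))) := by
    rw [hg₄]; group
  rw [hg]
  exact mul_mem (inv_mem (hN hn₁)) (mul_mem (inv_mem (hN hn₂)) (mul_mem (inv_mem hm₃)
    (mul_mem (inv_mem (hN hn₄)) hg₄H)))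

end Cfsg.Agent.Lib.H29.O5
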