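import Mathlib
import Cfsg.Agent.Lib.H29.O5Gen

/-!
# The image of `Sp₄(F)` is normal in `O₅(F)`
-/

set_option autoImplicit false

namespace Cfsg.Agent.Lib.H29.O5

open Matrix Cfsg.Agent.Lib.H29.B2

variable {F : Type*} [Field F]

theorem tau_conj_yEl (c : Fˣ) (r : Fin 8) (t : F) :
    ∃ t' : F, tau c * yEl r t * (tau c)⁻¹ = yEl r t' := by
  have hc0 : (c : F) ≠ 0 := Units.ne_zero c
  fin_cases r
  · refine ⟨(c : F)⁻¹ * t, ?_⟩
    apply ext_act
    intro x
    rw [V5_eta x, act_mul, act_mul, ← map_inv, act_tau, act_yEl, act_yEl]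
    show act (tau c) (YF 0 t *ᵥ _) = YF 0 _ *ᵥ _
    rw [YF_act0, YF_act0, act_tau, inv_inv]
    simp only [Units.val_inv_eq_inv_val]
    congr 1 <;> field_simp
  · refine ⟨t, ?_⟩
    apply ext_act
    intro x
    rw [V5_eta x, act_mul, act_mul, ← map_inv, act_tau, act_yEl, act_yEl]
    show act (tau c) (YF 1 t *ᵥ _) = YF 1 _ *ᵥ _
    rw [YF_act1, YF_act1, act_tau, inv_inv]
    simp only [Units.val_inv_eq_inv_val]
    congr 1 <;> field_simp
  · refine ⟨(c : F)⁻¹ * t, ?_⟩
    apply ext_act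
    intro x
    rw [V5_eta x, act_mul, act_mul, ← map_inv, act_tau, act_yEl, act_yEl]
    show act (tau c) (YF 2 t *ᵥ _) = YF 2 _ *ᵥ _
    rw [YF_act2, YF_act2, act_tau, inv_inv]
    simp only [Units.val_inv_eq_inv_val]
    congr 1 <;> field_simp
  · refine ⟨(c : F) * t, ?_⟩
    apply ext_act
    intro x
    rw [V5_eta x, act_mul, act_mul, ← map_inv, act_tau, act_yEl, act_yEl]
    show act (tau c) (YF 3 t *ᵥ _) = YF 3 _ *ᵥ _
    rw [YF_act3, YF_act3, act_tau, inv_inv]
    simp only [Units.val_inv_eq_inv_val]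
    congr 1 <;> field_simp
  · refine ⟨(c : F)⁻¹ * t, ?_⟩
    apply ext_act
    intro x
    rw [V5_eta x, act_mul, act_mul, ← map_inv, act_tau, act_yEl, act_yEl]
    show act (tau c) (YF 4 t *ᵥ _) = YF 4 _ *ᵥ _
    rw [YF_act4, YF_act4, act_tau, inv_inv]
    simp only [Units.val_inv_eq_inv_val]
    congr 1 <;> field_simp
  · refine ⟨(c : F) * t, ?_⟩
    apply ext_act
    intro x
    rw [V5_eta x, act_mul, act_mul, ← map_inv, act_tau, act_yEl, act_yEl]
    show act (tau c) (YF 5 t *ᵥ _) = YF 5 _ *ᵥ _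
    rw [YF_act5, YF_act5, act_tau, inv_inv]
    simp only [Units.val_inv_eq_inv_val]
    congr 1 <;> field_simp
  · refine ⟨t, ?_⟩
    apply ext_act
    intro x
    rw [V5_eta x, act_mul, act_mul, ← map_inv, act_tau, act_yEl, act_yEl]
    show act (tau c) (YF 6 t *ᵥ _) = YF 6 _ *ᵥ _
    rw [YF_act6, YF_act6, act_tau, inv_inv]
    simp only [Units.val_inv_eq_inv_val]
    congr 1 <;> field_simp
  · refine ⟨(c : F) * t, ?_⟩
    apply ext_act
    intro x
    rw [V5_eta x, act_mul, act_mul, ← map_inv, act_tau, act_yEl, act_yEl]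
    show act (tau c) (YF 7 t *ᵥ _) = YF 7 _ *ᵥ _
    rw [YF_act7, YF_act7, act_tau, inv_inv]
    simp only [Units.val_inv_eq_inv_val]
    congr 1 <;> field_simp

theorem tau_conj_mem (c : Fˣ) (n : ↥(GO5 F)) (hn : n ∈ N5 F) : tau c * n * (tau c)⁻¹ ∈ N5 F := by
  rw [N5_eq_closure] at hn
  induction hn using Subgroup.closure_induction with
  | mem x hx =>
    obtain ⟨r, t, rfl⟩ := hx
    obtain ⟨t', ht'⟩ := tau_conj_yEl c r t
    rw [ht']
    exact yEl_mem r t'
  | one =>
    rw [mul_one, mul_inv_cancel]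
    exact Subgroup.one_mem _
  | mul x y _ _ hx hy =>
    have : tau c * (x * y) * (tau c)⁻¹ = (tau c * x * (tau c)⁻¹) * (tau c * y * (tau c)⁻¹) := by
      group
    rw [this]
    exact mul_mem hx hy
  | inv x _ hx =>
    have : tau c * x⁻¹ * (tau c)⁻¹ = (tau c * x * (tau c)⁻¹)⁻¹ := by group
    rw [this]
    exact inv_mem hx

theorem N5_normal : (N5 F).Normal := by
  rw [← Subgroup.normalizer_eq_top_iff]
  apply gen_top
  · exact Subgroup.le_normalizer
  · intro c
    rw [Subgroup.mem_normalizer_iff]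
    intro h
    constructor
    · exact tau_conj_mem c h
    · intro hh
      have := tau_conj_mem c⁻¹ _ hh
      rw [map_inv] at this
      have e : (tau c)⁻¹ * (tau c * h * (tau c)⁻¹) * (tau c)⁻¹⁻¹ = h := by group
      rw [e] at this
      exact this
  · rw [Subgroup.mem_normalizer_iff]
    intro h
    have e : zEl * h * zEl⁻¹ = h := by
      rw [zEl_comm, mul_assoc, mul_inv_cancel, mul_one]
    rw [e]

end Cfsg.Agent.Lib.H29.O5
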