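import Mathlib
import Cfsg.Agent.Lib.H29.O5Norm
import Cfsg.Agent.Lib.H2.SpSimple

/-!
# `Ω₅(F)` is the image of `Sp₄(F)`, and `PSp₄(F) ≅ Ω₅(F)`
-/

set_option autoImplicit false

namespace Cfsg.Agent.Lib.H29.O5

open Matrix Cfsg.Agent.Lib.H29.B2

variable {F : Type*} [Field F]

theorem quot_comm (x y : ↥(GO5 F) ⧸ N5 F) (hnorm : (N5 F).Normal) : x * y = y * x := by
  have := hnorm
  -- every element of the quotient commutes with the images of `τ(c)`
  have h1 : ∀ (c : Fˣ) (q : ↥(GO5 F) ⧸ N5 F),
      q * (QuotientGroup.mk' (N5 F) (tau c)) = (QuotientGroup.mk' (N5 F) (tau c)) * q := by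
    intro c q
    obtain ⟨g, rfl⟩ := QuotientGroup.mk'_surjective (N5 F) q
    have hH : (Subgroup.centralizer {QuotientGroup.mk' (N5 F) (tau c)}).comap
        (QuotientGroup.mk' (N5 F)) = ⊤ := by
      apply gen_top
      · intro n hn
        rw [Subgroup.mem_comap, Subgroup.mem_centralizer_iff]
        intro z hz
        rw [Set.mem_singleton_iff] at hz
        subst hz
        have : QuotientGroup.mk' (N5 F) n = 1 := (QuotientGroup.eq_one_iff n).2 hn
        rw [this, one_mul, mul_one]
      · intro c'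
        rw [Subgroup.mem_comap, Subgroup.mem_centralizer_iff]
        intro z hz
        rw [Set.mem_singleton_iff] at hz
        subst hz
        rw [← map_mul, ← map_mul, ← map_mul, ← map_mul, mul_comm]
      · rw [Subgroup.mem_comap, Subgroup.mem_centralizer_iff]
        intro z hz
        rw [Set.mem_singleton_iff] at hz
        subst hz
        rw [← map_mul, ← map_mul, zEl_comm]
    have hg : g ∈ (Subgroup.centralizer {QuotientGroup.mk' (N5 F) (tau c)}).comap
        (QuotientGroup.mk' (N5 F)) := by rw [hH]; exact Subgroup.mem_top g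
    rw [Subgroup.mem_comap, Subgroup.mem_centralizer_iff] at hg
    exact (hg _ rfl).symm
  have h2 : (Subgroup.center (↥(GO5 F) ⧸ N5 F)).comap (QuotientGroup.mk' (N5 F)) = ⊤ := by
    apply gen_top
    · intro n hn
      rw [Subgroup.mem_comap]
      have : QuotientGroup.mk' (N5 F) n = 1 := (QuotientGroup.eq_one_iff n).2 hn
      rw [this]
      exact Subgroup.one_mem _
    · intro c
      rw [Subgroup.mem_comap, Subgroup.mem_center_iff]
      intro q
      exact h1 c q
    · rw [Subgroup.mem_comap, Subgroup.mem_center_iff]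
      intro q
      obtain ⟨g, rfl⟩ := QuotientGroup.mk'_surjective (N5 F) q
      rw [← map_mul, ← map_mul, zEl_comm]
  obtain ⟨g, rfl⟩ := QuotientGroup.mk'_surjective (N5 F) x
  have hg : g ∈ (Subgroup.center (↥(GO5 F) ⧸ N5 F)).comap (QuotientGroup.mk' (N5 F)) := by
    rw [h2]; exact Subgroup.mem_top g
  rw [Subgroup.mem_comap, Subgroup.mem_center_iff] at hg
  exact (hg y).symm

theorem commutator_le_N5 : commutator ↥(GO5 F) ≤ N5 F := by
  have := N5_normal (F := F)
  rw [commutator_def, Subgroup.commutator_le]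
  intro g _ h _
  rw [← QuotientGroup.eq_one_iff, commutatorElement_def]
  simp only [QuotientGroup.mk_mul, QuotientGroup.mk_inv]
  rw [quot_comm (g : ↥(GO5 F) ⧸ N5 F) (h : ↥(GO5 F) ⧸ N5 F) N5_normal]
  group

theorem N5_le_commutator (hperf : commutator (Sp4 F) = ⊤) : N5 F ≤ commutator ↥(GO5 F) := by
  unfold N5
  rw [MonoidHom.range_eq_map, ← hperf, commutator_def, Subgroup.map_commutator, commutator_def]
  exact Subgroup.commutator_mono le_top le_top

theorem commutator_eq_N5 (hperf : commutator (Sp4 F) = ⊤) : commutator ↥(GO5 F) = N5 F :=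
  le_antisymm commutator_le_N5 (N5_le_commutator hperf)

theorem rho5_negOne : rho5 F (Cfsg.Agent.Lib.H2.Sp.negOne 2) = 1 := by
  apply Subtype.ext
  apply Units.ext
  show M5 (-1 : Matrix K K F) = 1
  rw [← M5_one]
  ext i j
  rw [M5_apply, M5_apply, Matrix.transpose_neg, Matrix.neg_mul, Matrix.mul_neg, Matrix.neg_mul,
    neg_neg]

theorem rho5_ne_one : rho5 F (uEl 0 1) ≠ 1 := by
  intro h
  have h1 := congrArg (fun g : ↥(GO5 F) => act g (V5 0 1 0 0 0) (Sum.inr (Sum.inr 1))) h
  simp only [act_one] at h1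
  have h2 : act (rho5 F (uEl 0 1)) (V5 0 1 0 0 0) = YF 0 1 *ᵥ V5 0 1 0 0 0 := act_yEl 0 1 _
  rw [h2, YF_act0] at h1
  simp [V5] at h1

theorem ker_rho5 (hperf : commutator (Sp4 F) = ⊤) :
    (rho5 F).ker = Subgroup.center (Sp4 F) := by
  apply le_antisymm
  · rcases Cfsg.Agent.Lib.H2.Sp.normal_dichotomy (le_refl 2) hperf (rho5 F).ker with h | h
    · exact h
    · exfalso
      apply rho5_ne_one (F := F)
      have : uEl 0 1 ∈ (rho5 F).ker := by rw [h]; exact Subgroup.mem_top _
      exact MonoidHom.mem_ker.1 this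
  · intro g hg
    rw [← SetLike.mem_coe, Cfsg.Agent.Lib.H2.Sp.center_eq 2 (by norm_num)] at hg
    rw [MonoidHom.mem_ker]
    rcases hg with rfl | hg
    · exact map_one _
    · rw [Set.mem_singleton_iff] at hg
      subst hg
      exact rho5_negOne

/-- `PSp₄(F) ≅ Ω₅(F)` when `Sp₄(F)` is perfect -/
noncomputable def isoOmega (hperf : commutator (Sp4 F) = ⊤) :
    Cfsg.PSp 2 F ≃* ↥(commutator ↥(GO5 F)) :=
  ((QuotientGroup.quotientMulEquivOfEq (ker_rho5 hperf).symm).trans
    (QuotientGroup.quotientKerEquivRange (rho5 F))).trans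
    (MulEquiv.subgroupCongr (commutator_eq_N5 hperf).symm)

end Cfsg.Agent.Lib.H29.O5
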