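import Mathlib

/-!
# S3999 piece P4 HALL: a normal Hall subgroup from normal Sylow subgroups (helper29, for helper13)
-/

set_option autoImplicit false

namespace Cfsg.Agent.Lib.H29.OT

universe u

/-- the order of the join of two subgroups of coprime orders, one of them normal -/
theorem ot_card_sup_of_coprime {G : Type u} [Group G] [Finite G] (H K : Subgroup G) [K.Normal]
    (h : (Nat.card H).Coprime (Nat.card K)) : Nat.card (H ⊔ K : Subgroup G) = Nat.card H * Nat.card K := by
  have h1 : K.relIndex (H ⊔ K) = K.relIndex H := Subgroup.relIndex_sup_right H K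
  have h2 : K.relIndex H = Nat.card H := by
    rw [← Subgroup.inf_relIndex_right, (Subgroup.disjoint_of_coprime_natCard h.symm).eq_bot,
      Subgroup.relIndex_bot_left]
  have h3 : Nat.card K * K.relIndex (H ⊔ K) = Nat.card (H ⊔ K : Subgroup G) := by
    have := Subgroup.relIndex_mul_relIndex (⊥ : Subgroup G) K (H ⊔ K) bot_le le_sup_right
    rwa [Subgroup.relIndex_bot_left, Subgroup.relIndex_bot_left] at this
  rw [← h3, h1, h2, mul_comm]

theorem exists_normal_hall {G : Type u} [Group G] [Finite G] (n m : ℕ) (hnm : n.Coprime m)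
    (hcard : Nat.card G = n * m)
    (h : ∀ (q : ℕ) [Fact q.Prime], q ∣ n → ∀ Q : Sylow q G, (Q : Subgroup G).Normal) :
    ∃ N : Subgroup G, N.Normal ∧ Nat.card N = n := by
  classical
  have hG0 : Nat.card G ≠ 0 := Nat.card_pos.ne'
  have hn0 : n ≠ 0 := by
    rintro rfl
    rw [zero_mul] at hcard
    exact hG0 hcard
  have hm0 : m ≠ 0 := by
    rintro rfl
    rw [mul_zero] at hcard
    exact hG0 hcard
  have key : ∀ s : Finset ℕ, s ⊆ n.primeFactors →
      ∃ N : Subgroup G, N.Normal ∧ Nat.card N = ∏ q ∈ s, q ^ n.factorization q := by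
    intro s
    induction s using Finset.induction_on with
    | empty =>
      intro _
      exact ⟨⊥, Subgroup.normal_bot, by rw [Finset.prod_empty, Subgroup.card_bot]⟩
    | insert q s hq ih =>
      intro hs
      obtain ⟨N, hN, hNc⟩ := ih (fun x hx => hs (Finset.mem_insert_of_mem hx))
      have hqn : q ∈ n.primeFactors := hs (Finset.mem_insert_self q s)
      have hqp : q.Prime := Nat.prime_of_mem_primeFactors hqn
      have hqd : q ∣ n := Nat.dvd_of_mem_primeFactors hqn
      have : Fact q.Prime := ⟨hqp⟩
      obtain ⟨Q⟩ : Nonempty (Sylow q G) := inferInstance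
      have hQn : (Q : Subgroup G).Normal := h q hqd Q
      have hqm : ¬ q ∣ m := fun hd => hqp.one_lt.ne' (Nat.eq_one_of_dvd_coprimes hnm hqd hd)
      have hQc : Nat.card (Q : Subgroup G) = q ^ n.factorization q := by
        rw [Sylow.card_eq_multiplicity, hcard, Nat.factorization_mul hn0 hm0, Finsupp.add_apply,
          Nat.factorization_eq_zero_of_not_dvd hqm, add_zero]
      refine ⟨N ⊔ Q, Subgroup.sup_normal N Q, ?_⟩
      have hcop : (Nat.card N).Coprime (Nat.card (Q : Subgroup G)) := by
        rw [hNc, hQc]
        apply Nat.Coprime.pow_right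
        apply Nat.Coprime.prod_left
        intro r hr
        apply Nat.Coprime.pow_left
        have hrp : r.Prime := Nat.prime_of_mem_primeFactors (hs (Finset.mem_insert_of_mem hr))
        rw [Nat.coprime_primes hrp hqp]
        rintro rfl
        exact hq hr
      rw [ot_card_sup_of_coprime N Q hcop, hNc, hQc, Finset.prod_insert hq, mul_comm]
  obtain ⟨N, hN, hNc⟩ := key n.primeFactors (Finset.Subset.refl _)
  refine ⟨N, hN, ?_⟩
  rw [hNc]
  exact Nat.prod_factorization_pow_eq_self hn0

end Cfsg.Agent.Lib.H29.OT
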