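import Mathlib
import Cfsg.Prelude.Def_LieExceptional
import Cfsg.Agent.Lib.H12.OddF4Defs
import Cfsg.Agent.Lib.H29.CentDiagF4

/-!
# `F₄(q)`, `q` odd: the orders of the centralisers of the involutions `s = h_{33}(-1)` and `t = h_{24}(-1)`
-/

set_option autoImplicit false
set_option linter.unusedSectionVars false
set_option linter.unusedSimpArgs false
set_option linter.unusedVariables false

namespace Cfsg.Agent.Lib.H29.OddCent

open Cfsg.Lie Matrix Cfsg.Agent.Lib.H12 Cfsg.Agent.Lib.H29.Chev Cfsg.Agent.Lib.H12.OddInv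

variable {D : ChevalleyDatum} {fd : FD} {fx : FX} {fc : FC} {fz : FZ} {F : Type*} [Field F]

/-- the labelling of the root values of an element `z` of the torus with `χ_r(z) = (-1)^{e r}` -/
theorem val_of_neg_one_zpow (h2 : (2 : F) ≠ 0) (z : GL D.Idx F) (e : ℕ → ℤ)
    (he : ∀ r < fd.n, dE D z r = (-1 : F) ^ (e r)) (val : ℕ → ℕ)
    (hv : ∀ r < fd.n, (e r).natAbs % 2 = val r) :
    (∀ r < fd.n, ∀ s < fd.n, (dE D z r = dE D z s ↔ val r = val s)) ∧
      (∀ r < fd.n, (dE D z r = 1 ↔ val r = 0)) := by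
  have hne : (-1 : F) ≠ 1 := by
    intro h
    apply h2
    linear_combination -h
  have key : ∀ r < fd.n, dE D z r = if val r = 0 then 1 else -1 := by
    intro r hr
    rw [he r hr, ← hv r hr]
    rcases Int.even_or_odd (e r) with he' | ho
    · rw [he'.neg_one_zpow]
      have : (e r).natAbs % 2 = 0 := Nat.even_iff.mp (Int.natAbs_even.mpr he')
      rw [if_pos this]
    · rw [ho.neg_one_zpow]
      have : (e r).natAbs % 2 ≠ 0 := by
        have := Nat.odd_iff.mp (Int.natAbs_odd.mpr ho)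
        omega
      rw [if_neg this]
  have hv2 : ∀ r < fd.n, val r = 0 ∨ val r = 1 := by
    intro r hr
    rw [← hv r hr]
    omega
  constructor
  · intro r hr s hs
    rw [key r hr, key s hs]
    rcases hv2 r hr with h | h <;> rcases hv2 s hs with h' | h' <;> simp [h, h', hne, hne.symm]
  · intro r hr
    rw [key r hr]
    rcases hv2 r hr with h | h <;> simp [h, hne]

/-- the labelling of the root values of `s = h_{33}(-1)` in `F₄` -/
def valF4S0 (r : ℕ) : ℕ := [0, 0, 0, 1, 0, 0, 0, 1, 0, 0, 0, 1, 1, 1, 0, 0, 0, 0, 1, 1, 1, 0, 0, 0, 0, 0, 0, 1, 1, 1, 0, 0, 0, 0,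
  1, 1, 1, 0, 0, 0, 1, 0, 0, 0, 1, 0, 0, 0].getD r 0

theorem valF4S0_spec : ∀ r < fdF4.n, (fdF4.pr r 33).natAbs % 2 = valF4S0 r := by decide +kernel

theorem valF4T_spec' : ∀ r < fdF4.n, (fdF4.pr r 24).natAbs % 2 = valF4T r := by decide +kernel

set_option maxRecDepth 1000000 in
set_option maxHeartbeats 0 in
theorem histF4S0 : fdF4.histW fpsF4 fdF4.l (fdF4.gz valF4S0) [] = polyD [2, 4, 6, 8] := by decide +kernel

theorem countF4S0 : (List.range' (fdF4.n / 2) (fdF4.n - fdF4.n / 2)).countP (fun r => valF4S0 r == 0) = 16 := by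
  decide +kernel

theorem two_ne_zero_of_odd [Fintype F] (hF : Odd (Fintype.card F)) : (2 : F) ≠ 0 := by
  intro h
  have : CharP F 2 := CharTwo.of_one_ne_zero_of_two_eq_zero one_ne_zero h
  have h2 : ringChar F = 2 := ringChar.eq F 2
  have := FiniteField.even_card_iff_char_two.mp h2
  rcases hF with ⟨k, hk⟩
  omega

theorem card_cent_sF4 {F : Type*} [Field F] [Fintype F] (hF : Odd (Fintype.card F)) :
    Nat.card (Subgroup.centralizer ({⟨sF4 F, sF4_mem_group⟩} : Set ↥(chevF4.group F))) =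
      Fintype.card F ^ 16 * (Fintype.card F ^ 2 - 1) * (Fintype.card F ^ 4 - 1) * (Fintype.card F ^ 6 - 1) *
        (Fintype.card F ^ 8 - 1) := by
  have h2 := two_ne_zero_of_odd hF
  obtain ⟨hval, h1⟩ := val_of_neg_one_zpow (fd := fdF4) h2 (sF4 F) (fun r => fdF4.pr r 33)
    (fun r hr => dE_sF4 r hr) valF4S0 valF4S0_spec
  have hq : 1 ≤ Nat.card F := Nat.card_pos
  rw [← Nat.card_eq_fintype_card]
  change Nat.card (Subgroup.centralizer ({(⟨sF4 F, cert12_F4.c6.c2.diag_le_group sF4_mem_diag⟩ : chevF4.group F)} :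
      Set (chevF4.group F))) = _
  rw [cert12_F4.card_centralizer_enum fpsF4 fpsF4_chk (sF4 F) sF4_mem_diag valF4S0 hval h1, histF4S0, countF4S0,
    evalN_polyD, card_diag_F4]
  have key := sub_one_pow_mul_prod [2, 4, 6, 8] (Nat.card F) hq
  generalize (List.map (fun d => ∑ i ∈ Finset.range d, Nat.card F ^ i) [2, 4, 6, 8]).prod = P at key ⊢
  simp only [List.length_cons, List.length_nil, List.map_cons, List.map_nil, List.prod_cons, List.prod_nil,
    mul_one] at key
  have key' : (Nat.card F - 1) ^ 4 * P =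
      (Nat.card F ^ 2 - 1) * ((Nat.card F ^ 4 - 1) * ((Nat.card F ^ 6 - 1) * (Nat.card F ^ 8 - 1))) := key
  calc (Nat.card F - 1) ^ 4 * Nat.card F ^ 16 * P = Nat.card F ^ 16 * ((Nat.card F - 1) ^ 4 * P) := by ring
    _ = _ := by rw [key']; ring

theorem card_cent_tF4 {F : Type*} [Field F] [Fintype F] (hF : Odd (Fintype.card F)) :
    Nat.card (Subgroup.centralizer ({⟨tF4 F, tF4_mem_group⟩} : Set ↥(chevF4.group F))) =
      Fintype.card F ^ 10 * (Fintype.card F ^ 2 - 1) ^ 2 * (Fintype.card F ^ 4 - 1) * (Fintype.card F ^ 6 - 1) := by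
  have h2 := two_ne_zero_of_odd hF
  obtain ⟨hval, h1⟩ := val_of_neg_one_zpow (fd := fdF4) h2 (tF4 F) (fun r => fdF4.pr r 24)
    (fun r hr => dE_tF4 r hr) valF4T valF4T_spec'
  have hq : 1 ≤ Nat.card F := Nat.card_pos
  rw [← Nat.card_eq_fintype_card]
  change Nat.card (Subgroup.centralizer ({(⟨tF4 F, cert12_F4.c6.c2.diag_le_group tF4_mem_diag⟩ : chevF4.group F)} :
      Set (chevF4.group F))) = _
  rw [cert12_F4.card_centralizer_enum fpsF4 fpsF4_chk (tF4 F) tF4_mem_diag valF4T hval h1, histF4T, countF4T,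
    evalN_polyD, card_diag_F4]
  have key := sub_one_pow_mul_prod [2, 4, 6, 2] (Nat.card F) hq
  generalize (List.map (fun d => ∑ i ∈ Finset.range d, Nat.card F ^ i) [2, 4, 6, 2]).prod = P at key ⊢
  simp only [List.length_cons, List.length_nil, List.map_cons, List.map_nil, List.prod_cons, List.prod_nil,
    mul_one] at key
  have key' : (Nat.card F - 1) ^ 4 * P =
      (Nat.card F ^ 2 - 1) * ((Nat.card F ^ 4 - 1) * ((Nat.card F ^ 6 - 1) * (Nat.card F ^ 2 - 1))) := key
  calc (Nat.card F - 1) ^ 4 * Nat.card F ^ 10 * P = Nat.card F ^ 10 * ((Nat.card F - 1) ^ 4 * P) := by ring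
    _ = _ := by rw [key']; ring

end Cfsg.Agent.Lib.H29.OddCent
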