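import Cfsg.Agent.Lib.H29.Orth

/-!
# The stabiliser of a hyperbolic plane in `Ω(Q)` is not maximal when `q ≤ 3` (helper29)
-/

set_option autoImplicit false

namespace Cfsg.Agent.Lib.H29.Orth

open Matrix QuadraticMap Module

variable {ι : Type} [Fintype ι] [DecidableEq ι] {F : Type*} [Field F]

theorem sq_eq_one_of_card_le_three [Fintype F] (hq : Fintype.card F ≤ 3) (α : F) (hα : α ≠ 0) :
    α * α = 1 := by
  have h1 := FiniteField.pow_card_sub_one_eq_one α hα
  have h2 : 1 < Fintype.card F := Fintype.one_lt_card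
  have h3 : Fintype.card F = 2 ∨ Fintype.card F = 3 := by omega
  rcases h3 with h | h
  · rw [h] at h1
    have h1' : α = 1 := by simpa using h1
    rw [h1', mul_one]
  · rw [h] at h1
    rw [← pow_two]
    exact h1

theorem two_or_three_eq_zero [Fintype F] (hq : Fintype.card F ≤ 3) :
    (2 : F) = 0 ∨ (3 : F) = 0 := by
  have h2 : 1 < Fintype.card F := Fintype.one_lt_card
  have h3 : Fintype.card F = 2 ∨ Fintype.card F = 3 := by omega
  have := Nat.cast_card_eq_zero F
  rcases h3 with h | h
  · left
    rw [h] at this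
    exact_mod_cast this
  · right
    rw [h] at this
    exact_mod_cast this

theorem plane_not_maximal [Fintype F] (Q : QuadraticForm F (ι → F))
    (hQ : (polarBilin Q).Nondegenerate) (hq : Fintype.card F ≤ 3) (hcard : 5 ≤ Fintype.card ι)
    (W : Submodule F (ι → F)) (hdim : finrank F W = 2)
    (hW : Cfsg.Geo.IsNondegenerateOn (polar (⇑Q)) W) (hplus : Cfsg.Geo.IsPlusTypeOn (⇑Q) W) :
    ∃ K : Subgroup (GL ι F), Cfsg.Geo.subspaceStabilizer W ⊓ Cfsg.Geo.omegaGL (⇑Q) < K ∧
      K < Cfsg.Geo.omegaGL (⇑Q) := by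
  obtain ⟨u, v, huW, hvW, hu, hv, huv, hspan⟩ := exists_hyperbolic_basis Q W hdim hW hplus
  obtain ⟨u₂, v₂, hu₂, hv₂, huv₂, h13, h23, h14, h24⟩ :=
    exists_hyperbolic_pair_orth Q hQ u v hu hv huv hcard
  -- all values of the polar form on the four vectors
  have p11 : polar Q u u = 0 := by rw [polar_self', hu, mul_zero]
  have p22 : polar Q v v = 0 := by rw [polar_self', hv, mul_zero]
  have p33 : polar Q u₂ u₂ = 0 := by rw [polar_self', hu₂, mul_zero]
  have p44 : polar Q v₂ v₂ = 0 := by rw [polar_self', hv₂, mul_zero]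
  have p21 : polar Q v u = 1 := by rw [polar_comm, huv]
  have p43 : polar Q v₂ u₂ = 1 := by rw [polar_comm, huv₂]
  have p31 : polar Q u₂ u = 0 := by rw [polar_comm, h13]
  have p32 : polar Q u₂ v = 0 := by rw [polar_comm, h23]
  have p41 : polar Q v₂ u = 0 := by rw [polar_comm, h14]
  have p42 : polar Q v₂ v = 0 := by rw [polar_comm, h24]
  -- norms
  have Qadd : ∀ x y : ι → F, Q (x + y) = Q x + Q y + polar Q x y := QuadraticMap.map_add (⇑Q)
  have Qsub : ∀ x y : ι → F, Q (x - y) = Q x + Q y - polar Q x y := by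
    intro x y
    rw [sub_eq_add_neg, Qadd, QuadraticMap.map_neg, polar_neg_right]
    ring
  have hQw : Q (u + v) = 1 := by rw [Qadd, hu, hv, huv]; ring
  have hQc : Q (u₂ + v₂) = 1 := by rw [Qadd, hu₂, hv₂, huv₂]; ring
  -- elements of `W` are orthogonal to `u₂`
  have hWu₂ : ∀ x ∈ W, polar Q x u₂ = 0 := by
    intro x hx
    obtain ⟨α, β, rfl⟩ := hspan x hx
    rw [polar_add_left, polar_smul_left, polar_smul_left, h13, h23]
    simp
  have hsq := sq_eq_one_of_card_le_three hq
  -- the stabiliser of `W` stabilises the line spanned by `u + v`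
  have hline : ∀ g : GL ι F, g ∈ Cfsg.Geo.subspaceStabilizer W ⊓ Cfsg.Geo.omegaGL (⇑Q) →
      ∀ x ∈ Submodule.span F {u + v}, (g : Matrix ι ι F) *ᵥ x ∈ Submodule.span F {u + v} := by
    intro g hg x hx
    obtain ⟨hgW, hgΩ⟩ := Subgroup.mem_inf.mp hg
    have hgI := (mem_isometryGroup_iff Q g).mp (omegaGL_le_isometryGroup Q hgΩ)
    obtain ⟨t, rfl⟩ := Submodule.mem_span_singleton.mp hx
    rw [Matrix.mulVec_smul]
    apply Submodule.smul_mem
    have hgw : (g : Matrix ι ι F) *ᵥ (u + v) ∈ W :=
      mulVec_mem_of_mem_subspaceStabilizer hgW (W.add_mem huW hvW)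
    obtain ⟨α, β, hαβ⟩ := hspan _ hgw
    have hQ1 : Q (α • u + β • v) = 1 := by rw [← hαβ, hgI, hQw]
    rw [Qadd, QuadraticMap.map_smul, QuadraticMap.map_smul, hu, hv, polar_smul_left,
      polar_smul_right, huv] at hQ1
    simp only [smul_eq_mul, mul_zero, zero_add, mul_one] at hQ1
    have hα : α ≠ 0 := by
      rintro rfl
      rw [zero_mul] at hQ1
      exact zero_ne_one hQ1
    have hβ : β = α := by
      have := hsq α hα
      calc β = (α * α) * β := by rw [this, one_mul]
        _ = α * (α * β) := by ring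
        _ = α := by rw [hQ1, mul_one]
    rw [hαβ, hβ, ← smul_add]
    exact Submodule.smul_mem _ _ (Submodule.mem_span_singleton_self _)
  have hle : Cfsg.Geo.subspaceStabilizer W ⊓ Cfsg.Geo.omegaGL (⇑Q)
      ≤ Cfsg.Geo.subspaceStabilizer (Submodule.span F {u + v}) ⊓ Cfsg.Geo.omegaGL (⇑Q) := by
    intro g hg
    refine Subgroup.mem_inf.mpr ⟨?_, (Subgroup.mem_inf.mp hg).2⟩
    exact mem_subspaceStabilizer_of _ g (hline g hg) (hline g⁻¹ (inv_mem hg))
  -- an element of `Ω` fixing `u + v` stabilises the line
  have hfix : ∀ g : GL ι F, (g : Matrix ι ι F) *ᵥ (u + v) = u + v →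
      g ∈ Cfsg.Geo.subspaceStabilizer (Submodule.span F {u + v}) := by
    intro g hg
    have hg' : ((g⁻¹ : GL ι F) : Matrix ι ι F) *ᵥ (u + v) = u + v := by
      conv_lhs => rw [← hg]
      exact gl_inv_mulVec g _
    apply mem_subspaceStabilizer_of
    · intro x hx
      obtain ⟨t, rfl⟩ := Submodule.mem_span_singleton.mp hx
      rw [Matrix.mulVec_smul, hg]
      exact Submodule.smul_mem _ _ (Submodule.mem_span_singleton_self _)
    · intro x hx
      obtain ⟨t, rfl⟩ := Submodule.mem_span_singleton.mp hx
      rw [Matrix.mulVec_smul, hg']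
      exact Submodule.smul_mem _ _ (Submodule.mem_span_singleton_self _)
  refine ⟨Cfsg.Geo.subspaceStabilizer (Submodule.span F {u + v}) ⊓ Cfsg.Geo.omegaGL (⇑Q), ?_, ?_⟩
  · -- the stabiliser of `W` is properly contained
    rw [SetLike.lt_iff_le_and_exists]
    refine ⟨hle, ?_⟩
    rcases two_or_three_eq_zero hq with h2 | h3
    · -- characteristic two
      have hQb : Q (u₂ + (u + v)) = 1 := by
        rw [Qadd, hu₂, hQw, polar_add_right, p31, p32]; ring
      have hb0 : Q (u₂ + (u + v)) ≠ 0 := by rw [hQb]; exact one_ne_zero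
      have hc0 : Q (u₂ + v₂) ≠ 0 := by rw [hQc]; exact one_ne_zero
      have hd : Q (u₂ + v₂ - (u₂ + (u + v))) ≠ 0 := by
        have : u₂ + v₂ - (u₂ + (u + v)) = v₂ - (u + v) := by abel
        rw [this, Qsub, hv₂, hQw, polar_add_right, p41, p42]
        simp
      have hmem := refl_mul_refl_mem_omega Q (u₂ + v₂) (u₂ + (u + v)) hc0 hb0 (by rw [hQc, hQb]) hd
      refine ⟨refl Q (u₂ + v₂) hc0 * refl Q (u₂ + (u + v)) hb0, Subgroup.mem_inf.mpr ⟨?_, hmem⟩, ?_⟩
      · apply hfix
        rw [gl_mul_mulVec, refl_mulVec_of_one Q _ hb0 hQb, refl_mulVec_of_one Q _ hc0 hQc]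
        have e1 : polar Q (u + v) (u₂ + (u + v)) = 0 := by
          simp only [polar_add_left, polar_add_right, p11, p22, huv, p21, h13, h23]
          linear_combination h2
        rw [e1, zero_smul, sub_zero]
        have e2 : polar Q (u + v) (u₂ + v₂) = 0 := by
          simp only [polar_add_left, polar_add_right, h13, h23, h14, h24]
          ring
        rw [e2, zero_smul, sub_zero]
      · intro hcon
        have hst := (Subgroup.mem_inf.mp hcon).1
        have himg := mulVec_mem_of_mem_subspaceStabilizer hst huW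
        rw [gl_mul_mulVec, refl_mulVec_of_one Q _ hb0 hQb] at himg
        have e1 : polar Q u (u₂ + (u + v)) = 1 := by
          simp only [polar_add_right, p11, huv, h13]
          ring
        rw [e1, one_smul] at himg
        have e2 : u - (u₂ + (u + v)) = -(u₂ + v) := by abel
        rw [e2, refl_mulVec_of_one Q _ hc0 hQc] at himg
        have e3 : polar Q (-(u₂ + v)) (u₂ + v₂) = -1 := by
          simp only [polar_neg_left, polar_add_left, polar_add_right, p33, huv₂, h23, h24]
          ring
        rw [e3] at himg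
        have e4 := hWu₂ _ himg
        simp only [polar_sub_left, polar_neg_left, polar_add_left, polar_smul_left, p33, p43, h23,
          smul_eq_mul] at e4
        have : (1 : F) = 0 := by linear_combination e4
        exact one_ne_zero this
    · -- characteristic three
      have hQw' : Q (u - v) = -1 := by rw [Qsub, hu, hv, huv]; ring
      have hQc' : Q (u₂ - v₂) = -1 := by rw [Qsub, hu₂, hv₂, huv₂]; ring
      have hQa : Q ((u - v) + (u₂ - v₂)) = 1 := by
        rw [Qadd, hQw', hQc']
        simp only [polar_sub_left, polar_sub_right, h13, h14, h23, h24]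
        linear_combination -h3
      have ha0 : Q ((u - v) + (u₂ - v₂)) ≠ 0 := by rw [hQa]; exact one_ne_zero
      have hc0 : Q (u₂ + v₂) ≠ 0 := by rw [hQc]; exact one_ne_zero
      have hpab : polar Q ((u - v) + (u₂ - v₂)) (u₂ + v₂) = 0 := by
        simp only [polar_add_left, polar_sub_left, polar_add_right, h13, h14, h23, h24, p33, p44,
          huv₂, p43]
        ring
      have hd : Q ((u - v) + (u₂ - v₂) - (u₂ + v₂)) ≠ 0 := by
        rw [Qsub, hQa, hQc, hpab]
        intro h0
        have : (1 : F) = 0 := by linear_combination h3 - h0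
        exact one_ne_zero this
      have hmem := refl_mul_refl_mem_omega Q _ _ ha0 hc0 (by rw [hQa, hQc]) hd
      refine ⟨refl Q _ ha0 * refl Q _ hc0, Subgroup.mem_inf.mpr ⟨?_, hmem⟩, ?_⟩
      · apply hfix
        rw [gl_mul_mulVec, refl_mulVec_of_one Q _ hc0 hQc, refl_mulVec_of_one Q _ ha0 hQa]
        have e2 : polar Q (u + v) (u₂ + v₂) = 0 := by
          simp only [polar_add_left, polar_add_right, h13, h23, h14, h24]
          ring
        rw [e2, zero_smul, sub_zero]
        have e1 : polar Q (u + v) ((u - v) + (u₂ - v₂)) = 0 := by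
          simp only [polar_add_left, polar_add_right, polar_sub_right, p11, p22, huv, p21, h13,
            h23, h14, h24]
          ring
        rw [e1, zero_smul, sub_zero]
      · intro hcon
        have hst := (Subgroup.mem_inf.mp hcon).1
        have himg := mulVec_mem_of_mem_subspaceStabilizer hst (W.sub_mem huW hvW)
        rw [gl_mul_mulVec, refl_mulVec_of_one Q _ hc0 hQc] at himg
        have e1 : polar Q (u - v) (u₂ + v₂) = 0 := by
          simp only [polar_sub_left, polar_add_right, h13, h14, h23, h24]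
          ring
        rw [e1, zero_smul, sub_zero, refl_mulVec_of_one Q _ ha0 hQa] at himg
        have e3 : polar Q (u - v) ((u - v) + (u₂ - v₂)) = 1 := by
          simp only [polar_sub_left, polar_add_right, polar_sub_right, p11, p22, huv, p21, h13,
            h14, h23, h24]
          linear_combination -h3
        rw [e3, one_smul] at himg
        have e4 := hWu₂ _ himg
        simp only [polar_sub_left, polar_add_left, p11, p21, p33, p43, h13, h23] at e4
        have : (1 : F) = 0 := by linear_combination e4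
        exact one_ne_zero this
  · -- `K` is a proper subgroup of `Ω`
    rw [SetLike.lt_iff_le_and_exists]
    refine ⟨inf_le_right, ?_⟩
    have hQb : Q (u + (u₂ + v₂)) = 1 := by
      rw [Qadd, hu, hQc, polar_add_right, h13, h14]; ring
    have hb0 : Q (u + (u₂ + v₂)) ≠ 0 := by rw [hQb]; exact one_ne_zero
    have hw0 : Q (u + v) ≠ 0 := by rw [hQw]; exact one_ne_zero
    have hd : Q (u + v - (u + (u₂ + v₂))) ≠ 0 := by
      have : u + v - (u + (u₂ + v₂)) = v - (u₂ + v₂) := by abel
      rw [this, Qsub, hv, hQc, polar_add_right, h23, h24]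
      simp
    have hmem := refl_mul_refl_mem_omega Q _ _ hw0 hb0 (by rw [hQw, hQb]) hd
    refine ⟨refl Q _ hw0 * refl Q _ hb0, hmem, ?_⟩
    intro hcon
    have hst := (Subgroup.mem_inf.mp hcon).1
    have himg := mulVec_mem_of_mem_subspaceStabilizer hst
      (Submodule.mem_span_singleton_self (u + v))
    rw [gl_mul_mulVec, refl_mulVec_of_one Q _ hb0 hQb] at himg
    have e1 : polar Q (u + v) (u + (u₂ + v₂)) = 1 := by
      simp only [polar_add_left, polar_add_right, p11, p21, h13, h14, h23, h24]
      ring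
    rw [e1, one_smul] at himg
    have e2 : u + v - (u + (u₂ + v₂)) = v - (u₂ + v₂) := by abel
    rw [e2, refl_mulVec_of_one Q _ hw0 hQw] at himg
    have e3 : polar Q (v - (u₂ + v₂)) (u + v) = 1 := by
      simp only [polar_sub_left, polar_add_left, polar_add_right, p21, p22, p31, p32, p41, p42]
      ring
    rw [e3, one_smul] at himg
    obtain ⟨t, ht⟩ := Submodule.mem_span_singleton.mp himg
    have e4 := congrArg (fun x => polar Q x u₂) ht
    simp only [polar_smul_left, polar_sub_left, polar_add_left, h13, h23, p33, p43, smul_eq_mul]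
      at e4
    have : (1 : F) = 0 := by linear_combination e4
    exact one_ne_zero this

end Cfsg.Agent.Lib.H29.Orth
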