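import Cfsg.Agent.Lib.H29.SymmF3

/-!
# `O₃(3) ⊗ O_{n₂}(3)` is not maximal in `Ω` (helper29)
-/

set_option autoImplicit false

namespace Cfsg.Agent.Lib.H29.SymmF3

open Cfsg.Geo Matrix QuadraticMap Module Cfsg.Agent.Lib.H29.Orth Cfsg.Agent.Lib.H29.Tensor

variable {ι : Type} [Fintype ι] [DecidableEq ι] {F : Type*} [Field F]

theorem tensor_three_not_maximal [Fintype F] (hq : Fintype.card F = 3)
    (Q : QuadraticForm F (ι → F)) (n₂ : ℕ) (hn₂ : 3 ≤ n₂) (e : ι ≃ Fin 3 × Fin n₂) (P : GL ι F)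
    (f₁ : (Fin 3 → F) → (Fin 3 → F) → F) (f₂ : (Fin n₂ → F) → (Fin n₂ → F) → F)
    (hf₁ : IsSymmetricForm f₁) (hf₂ : IsSymmetricForm f₂)
    (hT : IsTensorFormStructure id (polar (⇑Q)) f₁ f₂ e P) :
    ∃ K : Subgroup (GL ι F), tensorProductSubgroup 3 n₂ e P ⊓ omegaGL (⇑Q) < K ∧
      K < omegaGL (⇑Q) := by
  classical
  have h3 := f3_three (F := F) hq
  have h2 := f3_two_ne (F := F) hq
  obtain ⟨c, hc, hT⟩ := hT
  have B1 := hf₁.bilinear
  have B2 := hf₂.bilinear
  -- the form on pure tensors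
  have ht : ∀ (u u' : Fin 3 → F) (z z' : Fin n₂ → F),
      polar Q (tau e P u z) (tau e P u' z') = c * (f₁ u u' * f₂ z z') :=
    form_tau e P B1 B2 c hT
  have hQt : ∀ (u : Fin 3 → F) (z : Fin n₂ → F),
      Q (tau e P u z) = -(c * (f₁ u u * f₂ z z)) := by
    intro u z
    have h := ht u u z z
    rw [polar_self'] at h
    linear_combination (-1 : F) * h + Q (tau e P u z) * h3
  have Qadd : ∀ x y : ι → F, Q (x + y) = Q x + Q y + polar Q x y := QuadraticMap.map_add (⇑Q)
  have Qsub : ∀ x y : ι → F, Q (x - y) = Q x + Q y - polar Q x y := by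
    intro x y
    rw [sub_eq_add_neg, Qadd, QuadraticMap.map_neg, polar_neg_right]
    ring
  -- frames
  obtain ⟨b, d, hd, hbo, hbQ, hbS⟩ := exists_frame_three hq f₁ hf₁
  obtain ⟨z₁, z₂, z₃, δ, δ₃, hδ, hδ₃, hz11, hz22, hz33, hz12, hz13, hz23⟩ :=
    exists_three_vectors hq hn₂ f₂ hf₂
  have hz21 : f₂ z₂ z₁ = 0 := by rw [hf₂.symm, hz12]
  have hz31 : f₂ z₃ z₁ = 0 := by rw [hf₂.symm, hz13]
  have hz32 : f₂ z₃ z₂ = 0 := by rw [hf₂.symm, hz23]
  have b01 : f₁ (b 0) (b 1) = 0 := hbo 0 1 (by decide)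
  have b10 : f₁ (b 1) (b 0) = 0 := hbo 1 0 (by decide)
  -- the set of pure tensors with first factor a frame vector
  set S : Set (ι → F) := {v | ∃ j z, v = tau e P (b j) z} with hSdef
  -- reflections in such tensors stabilise `S`
  have hrefl : ∀ j₀ z₀ (hx : Q (tau e P (b j₀) z₀) ≠ 0), refl Q _ hx ∈ setStab S := by
    intro j₀ z₀ hx
    have key : ∀ v ∈ S, ((refl Q _ hx : GL ι F) : Matrix ι ι F) *ᵥ v ∈ S := by
      rintro v ⟨j, z, rfl⟩
      rw [refl_mulVec, ht]
      by_cases hj : j = j₀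
      · subst hj
        refine ⟨j, z - ((Q (tau e P (b j) z₀))⁻¹ * (c * (f₁ (b j) (b j) * f₂ z z₀))) • z₀, ?_⟩
        rw [tau_sub_right, tau_smul_right]
      · rw [hbo j j₀ hj, zero_mul, mul_zero, mul_zero, zero_smul, sub_zero]
        exact ⟨j, z, rfl⟩
    apply mem_setStab_of S _ key
    rw [refl_inv]
    exact key
  refine ⟨setStab S ⊓ omegaGL (⇑Q), ?_, ?_⟩
  · rw [SetLike.lt_iff_le_and_exists]
    refine ⟨?_, ?_⟩
    · -- the tensor product subgroup stabilises `S`
      refine le_inf (le_setStab S _ ?_) inf_le_right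
      rintro g hg v ⟨j, z, rfl⟩
      obtain ⟨hgT, hgΩ⟩ := Subgroup.mem_inf.mp hg
      have hgI := omegaGL_le_isometryGroup Q hgΩ
      obtain ⟨A, B, hAB⟩ := tensor_apply e P g hgT
      have hinv : ∀ (u u' : Fin 3 → F) (z z' : Fin n₂ → F),
          f₁ ((A : Matrix (Fin 3) (Fin 3) F) *ᵥ u) ((A : Matrix (Fin 3) (Fin 3) F) *ᵥ u')
            * f₂ ((B : Matrix (Fin n₂) (Fin n₂) F) *ᵥ z) ((B : Matrix (Fin n₂) (Fin n₂) F) *ᵥ z')
          = f₁ u u' * f₂ z z' := by
        intro u u' z z'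
        have := polar_isometry Q hgI (tau e P u z) (tau e P u' z')
        rw [hAB, hAB, ht, ht] at this
        exact mul_left_cancel₀ hc this
      set μ := f₂ ((B : Matrix (Fin n₂) (Fin n₂) F) *ᵥ z₁) ((B : Matrix (Fin n₂) (Fin n₂) F) *ᵥ z₁)
        with hμ
      have hμ0 : μ ≠ 0 := by
        intro h0
        have := hinv (b 0) (b 0) z₁ z₁
        rw [← hμ, h0, mul_zero, hbQ, hz11] at this
        exact mul_ne_zero hd hδ this.symm
      have hsim : ∀ u u', f₁ ((A : Matrix (Fin 3) (Fin 3) F) *ᵥ u)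
          ((A : Matrix (Fin 3) (Fin 3) F) *ᵥ u') = (δ * μ⁻¹) * f₁ u u' := by
        intro u u'
        have := hinv u u' z₁ z₁
        rw [← hμ, hz11] at this
        field_simp
        linear_combination this
      have hlam := similitude_three hq f₁ hf₁ A _ hsim
      have hAb : f₁ ((A : Matrix (Fin 3) (Fin 3) F) *ᵥ b j) ((A : Matrix (Fin 3) (Fin 3) F) *ᵥ b j)
          = d := by
        rw [hsim, hlam, one_mul, hbQ]
      obtain ⟨a, ha | ha⟩ := hbS _ hAb
      · exact ⟨a, _, by rw [hAB, ha]⟩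
      · refine ⟨a, -((B : Matrix (Fin n₂) (Fin n₂) F) *ᵥ z), ?_⟩
        rw [hAB, ha, tau_neg_left, tau_neg_right]
    · -- an element of `K` outside the tensor product subgroup
      have hQx : Q (tau e P (b 0) z₁) = -(c * (d * δ)) := by rw [hQt, hbQ, hz11]
      have hQy : Q (tau e P (b 0) z₂) = -(c * (d * δ)) := by rw [hQt, hbQ, hz22]
      have hq0 : -(c * (d * δ)) ≠ 0 := neg_ne_zero.mpr (mul_ne_zero hc (mul_ne_zero hd hδ))
      have hx0 : Q (tau e P (b 0) z₁) ≠ 0 := by rw [hQx]; exact hq0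
      have hy0 : Q (tau e P (b 0) z₂) ≠ 0 := by rw [hQy]; exact hq0
      have hxy : Q (tau e P (b 0) z₁ - tau e P (b 0) z₂) ≠ 0 := by
        rw [Qsub, hQx, hQy, ht, hz12, mul_zero, mul_zero, sub_zero]
        intro h0
        apply hq0
        linear_combination (-1 : F) * h0 + (-(c * (d * δ))) * h3
      have hΩ := refl_mul_refl_mem_omega Q _ _ hx0 hy0 (by rw [hQx, hQy]) hxy
      refine ⟨refl Q _ hx0 * refl Q _ hy0,
        Subgroup.mem_inf.mpr ⟨mul_mem (hrefl 0 z₁ hx0) (hrefl 0 z₂ hy0), hΩ⟩, ?_⟩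
      intro hcon
      obtain ⟨A, B, hAB⟩ := tensor_apply e P _ (Subgroup.mem_inf.mp hcon).1
      -- the action on some pure tensors
      have fix1 : ∀ z, ((refl Q _ hx0 * refl Q _ hy0 : GL ι F) : Matrix ι ι F) *ᵥ tau e P (b 1) z
          = tau e P (b 1) z := by
        intro z
        have inner : ((refl Q _ hy0 : GL ι F) : Matrix ι ι F) *ᵥ tau e P (b 1) z
            = tau e P (b 1) z := by
          rw [refl_mulVec, ht, b10, zero_mul, mul_zero, mul_zero, zero_smul, sub_zero]
        rw [gl_mul_mulVec, inner, refl_mulVec, ht, b10, zero_mul, mul_zero, mul_zero, zero_smul,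
          sub_zero]
      have neg0 : ((refl Q _ hx0 * refl Q _ hy0 : GL ι F) : Matrix ι ι F) *ᵥ tau e P (b 0) z₁
          = -tau e P (b 0) z₁ := by
        have inner : ((refl Q _ hy0 : GL ι F) : Matrix ι ι F) *ᵥ tau e P (b 0) z₁
            = tau e P (b 0) z₁ := by
          rw [refl_mulVec, ht, hz12, mul_zero, mul_zero, mul_zero, zero_smul, sub_zero]
        rw [gl_mul_mulVec, inner, refl_mulVec, polar_self']
        have : (Q (tau e P (b 0) z₁))⁻¹ * (2 * Q (tau e P (b 0) z₁)) = 2 := by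
          field_simp
        rw [this]
        module
      have fix0 : ((refl Q _ hx0 * refl Q _ hy0 : GL ι F) : Matrix ι ι F) *ᵥ tau e P (b 0) z₃
          = tau e P (b 0) z₃ := by
        have inner : ((refl Q _ hy0 : GL ι F) : Matrix ι ι F) *ᵥ tau e P (b 0) z₃
            = tau e P (b 0) z₃ := by
          rw [refl_mulVec, ht, hz32, mul_zero, mul_zero, mul_zero, zero_smul, sub_zero]
        rw [gl_mul_mulVec, inner, refl_mulVec, ht, hz31, mul_zero, mul_zero, mul_zero, zero_smul,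
          sub_zero]
      set κ := f₁ ((A : Matrix (Fin 3) (Fin 3) F) *ᵥ b 1) (b 1) with hκ
      set a := f₁ ((A : Matrix (Fin 3) (Fin 3) F) *ᵥ b 0) (b 0) with ha
      set p := f₂ ((B : Matrix (Fin n₂) (Fin n₂) F) *ᵥ z₁) z₁ with hp
      set r := f₂ ((B : Matrix (Fin n₂) (Fin n₂) F) *ᵥ z₃) z₃ with hr
      have E2a : κ * p = d * δ := by
        have := congrArg (fun v => polar Q v (tau e P (b 1) z₁)) (fix1 z₁)
        simp only [hAB, ht, hbQ, hz11] at this
        exact mul_left_cancel₀ hc this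
      have E2b : κ * r = d * δ₃ := by
        have := congrArg (fun v => polar Q v (tau e P (b 1) z₃)) (fix1 z₃)
        simp only [hAB, ht, hbQ, hz33] at this
        exact mul_left_cancel₀ hc this
      have E1a : a * p = -(d * δ) := by
        have := congrArg (fun v => polar Q v (tau e P (b 0) z₁)) neg0
        simp only [hAB, ht, polar_neg_left, hbQ, hz11] at this
        have h' : c * (a * p) = c * (-(d * δ)) := by rw [this]; ring
        exact mul_left_cancel₀ hc h'
      have E1b : a * r = d * δ₃ := by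
        have := congrArg (fun v => polar Q v (tau e P (b 0) z₃)) fix0
        simp only [hAB, ht, hbQ, hz33] at this
        exact mul_left_cancel₀ hc this
      have hp0 : p ≠ 0 := by
        rintro h0
        rw [h0, mul_zero] at E2a
        exact mul_ne_zero hd hδ E2a.symm
      have hr0 : r ≠ 0 := by
        rintro h0
        rw [h0, mul_zero] at E2b
        exact mul_ne_zero hd hδ₃ E2b.symm
      have e1 : κ = -a := by
        have : κ * p = (-a) * p := by rw [E2a, neg_mul, E1a, neg_neg]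
        exact mul_right_cancel₀ hp0 this
      have e2 : κ = a := by
        have : κ * r = a * r := by rw [E2b, E1b]
        exact mul_right_cancel₀ hr0 this
      have ha0 : a = 0 := by
        have : 2 * a = 0 := by linear_combination e1 - e2
        rcases mul_eq_zero.mp this with h | h
        · exact absurd h h2
        · exact h
      rw [ha0, zero_mul] at E1b
      exact mul_ne_zero hd hδ₃ E1b.symm
  · rw [SetLike.lt_iff_le_and_exists]
    refine ⟨inf_le_right, ?_⟩
    have f1p : f₁ (b 0 + b 1) (b 0 + b 1) = 2 * d := by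
      simp only [B1.add_left, B1.add_right, hbQ, b01, b10]; ring
    have f1m : f₁ (b 0 - b 1) (b 0 - b 1) = 2 * d := by
      have hsub : b 0 - b 1 = b 0 + (-1 : F) • b 1 := by module
      rw [hsub]
      simp only [B1.add_left, B1.add_right, B1.smul_left, B1.smul_right, hbQ, b01, b10]; ring
    have f1pm : f₁ (b 0 + b 1) (b 0 - b 1) = 0 := by
      have hsub : b 0 - b 1 = b 0 + (-1 : F) • b 1 := by module
      rw [hsub]
      simp only [B1.add_left, B1.add_right, B1.smul_right, hbQ, b01, b10]; ring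
    have f10p : f₁ (b 0) (b 0 + b 1) = d := by
      simp only [B1.add_right, hbQ, b01]; ring
    have f10m : f₁ (b 0) (b 0 - b 1) = d := by
      have hsub : b 0 - b 1 = b 0 + (-1 : F) • b 1 := by module
      rw [hsub]
      simp only [B1.add_right, B1.smul_right, hbQ, b01]; ring
    have hQx : Q (tau e P (b 0 + b 1) z₁) = c * (d * δ) := by
      rw [hQt, f1p, hz11]; linear_combination (-(c * d * δ)) * h3
    have hQy : Q (tau e P (b 0 - b 1) z₂) = c * (d * δ) := by
      rw [hQt, f1m, hz22]; linear_combination (-(c * d * δ)) * h3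
    have hq0 : c * (d * δ) ≠ 0 := mul_ne_zero hc (mul_ne_zero hd hδ)
    have hx0 : Q (tau e P (b 0 + b 1) z₁) ≠ 0 := by rw [hQx]; exact hq0
    have hy0 : Q (tau e P (b 0 - b 1) z₂) ≠ 0 := by rw [hQy]; exact hq0
    have hxy : Q (tau e P (b 0 + b 1) z₁ - tau e P (b 0 - b 1) z₂) ≠ 0 := by
      rw [Qsub, hQx, hQy, ht, hz12, mul_zero, mul_zero, sub_zero, ← two_mul]
      exact mul_ne_zero h2 hq0
    have hΩ := refl_mul_refl_mem_omega Q _ _ hx0 hy0 (by rw [hQx, hQy]) hxy
    refine ⟨refl Q _ hx0 * refl Q _ hy0, hΩ, ?_⟩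
    intro hcon
    have hst := (Subgroup.mem_inf.mp hcon).1
    have hvS : tau e P (b 0) (z₁ + z₃) ∈ S := ⟨0, _, rfl⟩
    have himg := mulVec_mem_of_mem_setStab hst hvS
    have e1 : f₂ (z₁ + z₃) z₂ = 0 := by rw [B2.add_left, hz12, hz32, add_zero]
    have inner : ((refl Q _ hy0 : GL ι F) : Matrix ι ι F) *ᵥ tau e P (b 0) (z₁ + z₃)
        = tau e P (b 0) (z₁ + z₃) := by
      rw [refl_mulVec, ht, e1, mul_zero, mul_zero, mul_zero, zero_smul, sub_zero]
    rw [gl_mul_mulVec, inner, refl_mulVec, ht, f10p, hQx] at himg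
    have e2 : f₂ (z₁ + z₃) z₁ = δ := by rw [B2.add_left, hz11, hz31, add_zero]
    rw [e2, inv_mul_cancel₀ hq0, one_smul] at himg
    obtain ⟨j, z, hjz⟩ := himg
    have p0 := congrArg (fun v => polar Q v (tau e P (b 0) z₃)) hjz
    have p1 := congrArg (fun v => polar Q v (tau e P (b 1) z₁)) hjz
    simp only [polar_sub_left, ht, B1.add_left, B2.add_left, hbQ, b01, b10, hz11, hz13, hz31, hz33]
      at p0 p1
    have hj0 : j = 0 := by
      by_contra hne
      rw [hbo j 0 hne] at p0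
      have : c * (d * δ₃) = 0 := by linear_combination p0
      exact mul_ne_zero hc (mul_ne_zero hd hδ₃) this
    have hj1 : j = 1 := by
      by_contra hne
      rw [hbo j 1 hne] at p1
      have : c * (d * δ) = 0 := by linear_combination -p1
      exact hq0 this
    rw [hj0] at hj1
    exact absurd hj1 (by decide)

end Cfsg.Agent.Lib.H29.SymmF3
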