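import Mathlib

set_option autoImplicit false

namespace Cfsg.Agent.Lib.H29

open MulAction

/-- If every primitive subgroup of `Perm (Fin n)` contains the alternating group, then a primitive
action of `G` on a type with `n` elements induces every even permutation. -/
theorem exists_smul_eq_of_sign_eq_one {G Ω : Type*} [Group G] [MulAction G Ω] [Fintype Ω]
    [DecidableEq Ω] [IsPreprimitive G Ω] (n : ℕ) (hcard : Fintype.card Ω = n)
    (hA : ∀ P : Subgroup (Equiv.Perm (Fin n)), IsPreprimitive P (Fin n) →
      alternatingGroup (Fin n) ≤ P)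
    (σ : Equiv.Perm Ω) (hσ : Equiv.Perm.sign σ = 1) : ∃ g : G, ∀ ω, g • ω = σ ω := by
  classical
  let e : Ω ≃ Fin n := Fintype.equivFinOfCardEq hcard
  let φ : G →* Equiv.Perm (Fin n) :=
    (e.permCongrHom.toMonoidHom).comp (MulAction.toPermHom G Ω)
  let f : Ω →ₑ[φ.rangeRestrict] Fin n :=
    { toFun := e
      map_smul' := by
        intro g ω
        show e (g • ω) = (φ g) (e ω)
        simp [φ, Equiv.permCongrHom, Equiv.permCongr_apply] }
  have hprim : IsPreprimitive φ.range (Fin n) :=
    IsPreprimitive.of_surjective (f := f) e.surjective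
  have hle := hA φ.range hprim
  have hmem : e.permCongr σ ∈ alternatingGroup (Fin n) := by
    rw [Equiv.Perm.mem_alternatingGroup, Equiv.Perm.sign_permCongr, hσ]
  obtain ⟨g, hg⟩ := hle hmem
  refine ⟨g, fun ω => ?_⟩
  have h1 := congrArg (fun τ : Equiv.Perm (Fin n) => e.symm (τ (e ω))) hg
  simpa [φ, Equiv.permCongrHom, Equiv.permCongr_apply] using h1

end Cfsg.Agent.Lib.H29
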