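import Mathlib
import Cfsg.Prelude.Def_ChevStructure
import Cfsg.Prelude.Def_LieTwisted
import Cfsg.Prelude.Def_LieExceptional
import Cfsg.Agent.Lib.H29.ChevRee25

/-!
# The Ree groups `²G₂(3^(2m+1))`, `m ≥ 1`, are generated by two elements

The two elements are a generator `h` of the torus and `u n₀` with `u = u(1,0,0)`.
-/

set_option autoImplicit false
set_option linter.unusedSectionVars false
set_option linter.unusedSimpArgs false
set_option linter.unusedVariables false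

namespace Cfsg.Agent.Lib.H29.Chev

open Cfsg.Lie Matrix

section Ree

variable {K : Type*} [Field K] [CharP K 3] [Fintype K]

/-- `x y (y x)⁻¹` for two elements of `U¹` -/
theorem uR_comm_coord (m : ℕ) (hK : Fintype.card K = 3 ^ (2 * m + 1)) (t u v t' u' v' : K) :
    ∃ w : K, uR m t u v * uR m t' u' v' * (uR m t' u' v' * uR m t u v)⁻¹ =
      uR m 0 (reeTheta K m t ^ 3 * t' - reeTheta K m t' ^ 3 * t) w := by
  rw [uR_mul m hK, uR_mul m hK, uR_inv m hK, uR_mul m hK]
  refine ⟨v + v' - t' * u - (reeTheta K m) t' ^ 3 * t ^ 2 + (reeTheta K m) t' ^ 3 * t * t' +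
            (-(v' + v - t * u' - (reeTheta K m) t ^ 3 * t' ^ 2 + (reeTheta K m) t ^ 3 * t' * t) -
                (t' + t) * (u' + u - (reeTheta K m) t ^ 3 * t') +
              (reeTheta K m) (t' + t) ^ 3 * (t' + t) ^ 2) -
          -(t' + t) * (u + u' - (reeTheta K m) t' ^ 3 * t) -
        (reeTheta K m) (-(t' + t)) ^ 3 * (t + t') ^ 2 +
      (reeTheta K m) (-(t' + t)) ^ 3 * (t + t') * -(t' + t), ?_⟩
  congr 1
  · ring
  · rw [map_neg]; ring

/-- `x y (y x)⁻¹` for an element of `U¹` and an element of its derived group -/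
theorem uR_comm_coord' (m : ℕ) (hK : Fintype.card K = 3 ^ (2 * m + 1)) (t u v u' v' : K) :
    uR m t u v * uR m 0 u' v' * (uR m 0 u' v' * uR m t u v)⁻¹ = uR m 0 0 (t * u') := by
  rw [uR_mul m hK, uR_mul m hK, uR_inv m hK, uR_mul m hK]
  have h3 : (3 : K) = 0 := by
    have := CharP.cast_eq_zero K 3
    exact_mod_cast this
  simp only [map_zero, map_neg, map_add]
  congr 1
  · ring
  · ring
  · linear_combination (reeTheta K m t ^ 3 * t ^ 2) * h3

/-- the squares are values of the second character of the torus -/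
theorem chi2_sq (m : ℕ) (hK : Fintype.card K = 3 ^ (2 * m + 1)) (y : K) (hy : y ≠ 0) :
    ∃ w : Kˣ, reeTheta K m (w : K) ^ 3 * w = y ^ 2 := by
  have hθ : reeTheta K m y ≠ 0 := by
    intro h
    exact hy ((map_eq_zero (reeTheta K m)).mp h)
  refine ⟨Units.mk0 (reeTheta K m y ^ 3 / y) (div_ne_zero (pow_ne_zero 3 hθ) hy), ?_⟩
  rw [Units.val_mk0, map_div₀, map_pow]
  have hc := theta_theta_cube m hK y
  have e : (reeTheta K m (reeTheta K m y) ^ 3 / reeTheta K m y) ^ 3 * (reeTheta K m y ^ 3 / y) =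
      (reeTheta K m (reeTheta K m y) ^ 3) ^ 3 / y := by
    field_simp
  rw [e, hc]
  field_simp

/-- a subgroup containing a generator of the torus and the element `u(1,0,0) n₀` contains the Ree group -/
theorem ree_two_gen (m : ℕ) (hK : Fintype.card K = 3 ^ (2 * m + 1)) (hm : 1 ≤ m) (z : Kˣ)
    (hz : ∀ x : Kˣ, x ∈ Subgroup.zpowers z) (G1 : Subgroup (GL chevG2.Idx K)) (hh : hR K m z ∈ G1)
    (hb : uR m 1 0 0 * n0R K ∈ G1) : twistedG2 K (3 ^ m) ≤ G1 := by
  have h3 : (3 : K) = 0 := by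
    have := CharP.cast_eq_zero K 3
    exact_mod_cast this
  have hH : ∀ w : Kˣ, hR K m w ∈ G1 := by
    intro w
    obtain ⟨k, rfl⟩ := hz w
    rw [map_zpow]
    exact zpow_mem hh k
  have hord : orderOf z = 3 ^ (2 * m + 1) - 1 := by
    rw [orderOf_eq_card_of_forall_mem_zpowers hz, Nat.card_units, Nat.card_eq_fintype_card, hK]
  have key : ∀ k : ℕ, 0 < k → k < 3 ^ (2 * m + 1) - 1 → (z : K) ^ k ≠ 1 := by
    intro k hk0 hk h
    have h' : z ^ k = 1 := by
      apply Units.ext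
      rw [Units.val_pow_eq_pow_val, h]; rfl
    have := orderOf_dvd_of_pow_eq_one h'
    rw [hord] at this
    have := Nat.le_of_dvd hk0 this
    omega
  have hpow : 3 ^ (m + 1) * 3 ≤ 3 ^ (2 * m + 1) := by
    rw [← pow_succ]
    apply Nat.pow_le_pow_right (by norm_num)
    omega
  have h9 : 9 ≤ 3 ^ (m + 1) := by
    calc 9 = 3 ^ 2 := by norm_num
      _ ≤ 3 ^ (m + 1) := Nat.pow_le_pow_right (by norm_num) (by omega)
  have hz1 : (z : K) - 1 ≠ 0 := by
    rw [sub_ne_zero]
    have := key 1 (by norm_num) (by omega)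
    rwa [pow_one] at this
  have hinv : n0R K * hR K m z * (n0R K)⁻¹ = (hR K m z)⁻¹ :=
    cert12_G2.conj_diag_inv (n0R K) n0R_mem_monomial perm_n0R _ (hR_mem_diag m z)
  -- a first element of `U¹`
  have d0 : ∃ a b : K, uR m ((z : K) - 1) a b ∈ G1 := by
    have h1 : hR K m z * (uR m 1 0 0 * n0R K * hR K m z * (uR m 1 0 0 * n0R K)⁻¹) ∈ G1 :=
      mul_mem hh (mul_mem (mul_mem hb hh) (inv_mem hb))
    have e1 : hR K m z * (uR m 1 0 0 * n0R K * hR K m z * (uR m 1 0 0 * n0R K)⁻¹) =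
        hR K m z * uR m 1 0 0 * (hR K m z)⁻¹ * (uR m 1 0 0)⁻¹ := by
      have : uR m 1 0 0 * n0R K * hR K m z * (uR m 1 0 0 * n0R K)⁻¹ =
          uR m 1 0 0 * (n0R K * hR K m z * (n0R K)⁻¹) * (uR m (1 : K) 0 0)⁻¹ := by group
      rw [this, hinv]
      group
    rw [e1, hR_conj_uR m hK, uR_inv m hK, uR_mul m hK] at h1
    have e2 : (z : K) * 1 + -1 = (z : K) - 1 := by ring
    rw [e2] at h1
    exact ⟨_, _, h1⟩
  -- the first layer
  have L1 : ∀ t : K, ∃ a b : K, uR m t a b ∈ G1 := by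
    intro t
    by_cases ht : t = 0
    · exact ⟨0, 0, by rw [ht, uR_zero]; exact one_mem _⟩
    · obtain ⟨a, b, hab⟩ := d0
      have hw : t / ((z : K) - 1) ≠ 0 := div_ne_zero ht hz1
      have := mul_mem (mul_mem (hH (Units.mk0 _ hw)) hab) (inv_mem (hH (Units.mk0 _ hw)))
      rw [hR_conj_uR m hK, Units.val_mk0] at this
      have e : t / ((z : K) - 1) * ((z : K) - 1) = t := by field_simp
      rw [e] at this
      exact ⟨_, _, this⟩
  -- the second layer
  have T2add : ∀ u u' : K, (∃ v, uR m 0 u v ∈ G1) → (∃ v, uR m 0 u' v ∈ G1) → ∃ v, uR m 0 (u + u') v ∈ G1 := by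
    rintro u u' ⟨v, hv⟩ ⟨v', hv'⟩
    have := mul_mem hv hv'
    rw [uR_mul_zero m hK] at this
    exact ⟨_, this⟩
  have T2neg : ∀ u : K, (∃ v, uR m 0 u v ∈ G1) → ∃ v, uR m 0 (-u) v ∈ G1 := by
    rintro u ⟨v, hv⟩
    have := inv_mem hv
    rw [uR_inv_zero m hK] at this
    exact ⟨_, this⟩
  have T2sq : ∀ y u : K, (∃ v, uR m 0 u v ∈ G1) → ∃ v, uR m 0 (y ^ 2 * u) v ∈ G1 := by
    rintro y u ⟨v, hv⟩
    by_cases hy : y = 0
    · exact ⟨0, by rw [hy]; simp only [ne_eq, OfNat.ofNat_ne_zero, not_false_eq_true, zero_pow, zero_mul]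
                   rw [uR_zero]; exact one_mem _⟩
    · obtain ⟨w, hw⟩ := chi2_sq m hK y hy
      have := mul_mem (mul_mem (hH w) hv) (inv_mem (hH w))
      rw [hR_conj_uR m hK, hw, mul_zero] at this
      exact ⟨_, this⟩
  have T2mul : ∀ x u : K, (∃ v, uR m 0 u v ∈ G1) → ∃ v, uR m 0 (x * u) v ∈ G1 := by
    intro x u hu
    have h1 := T2sq (x + 1) u hu
    have h2 := T2neg _ (T2sq (x - 1) u hu)
    obtain ⟨v, hv⟩ := T2add _ _ h1 h2
    have e : (x + 1) ^ 2 * u + -((x - 1) ^ 2 * u) = x * u := by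
      linear_combination (x * u) * h3
    rw [e] at hv
    exact ⟨v, hv⟩
  have g0 : ∃ v, uR m 0 (reeTheta K m (z : K) ^ 3 - z) v ∈ G1 := by
    obtain ⟨a, b, hab⟩ := L1 (z : K)
    obtain ⟨a', b', hab'⟩ := L1 1
    obtain ⟨w, hw⟩ := uR_comm_coord m hK (z : K) a b 1 a' b'
    have := mul_mem (mul_mem hab hab') (inv_mem (mul_mem hab' hab))
    rw [hw, map_one, one_pow, mul_one, one_mul] at this
    exact ⟨w, this⟩
  have hg0 : reeTheta K m (z : K) ^ 3 - z ≠ 0 := by
    rw [sub_ne_zero, reeTheta_apply, ← pow_mul, ← pow_succ]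
    intro h
    have hk : (z : K) ^ (3 ^ (m + 1) - 1) = 1 := by
      have h1 : (z : K) ^ (3 ^ (m + 1) - 1) * z = 1 * z := by
        rw [← pow_succ, Nat.sub_add_cancel (by omega), one_mul]
        exact h
      exact mul_right_cancel₀ z.ne_zero h1
    exact key _ (by omega) (by omega) hk
  have L2 : ∀ u : K, ∃ v, uR m 0 u v ∈ G1 := by
    intro u
    have := T2mul (u / (reeTheta K m (z : K) ^ 3 - z)) _ g0
    have e : u / (reeTheta K m (z : K) ^ 3 - z) * (reeTheta K m (z : K) ^ 3 - z) = u := by field_simp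
    rwa [e] at this
  -- the third layer
  have L3 : ∀ w : K, uR m 0 0 w ∈ G1 := by
    intro w
    obtain ⟨a, b, hab⟩ := L1 1
    obtain ⟨v', hv'⟩ := L2 w
    have := mul_mem (mul_mem hab hv') (inv_mem (mul_mem hv' hab))
    rwa [uR_comm_coord' m hK, one_mul] at this
  have hU : ∀ t u v : K, uR m t u v ∈ G1 := by
    intro t u v
    obtain ⟨a, b, hab⟩ := L1 t
    obtain ⟨c, hc⟩ := L2 (u - a)
    have := mul_mem (mul_mem hab hc) (L3 (v - b - c))
    rw [uR_mul_zero m hK, uR_mul_zero m hK] at this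
    convert this using 2 <;> ring
  have hn : n0R K ∈ G1 := by
    have := mul_mem (inv_mem (hU 1 0 0)) hb
    rwa [inv_mul_cancel_left] at this
  have hV : ∀ t u v : K, vR m t u v ∈ G1 := by
    intro t u v
    obtain ⟨t', u', v', h⟩ := n0R_conj_vR m hK t u v
    have := mul_mem (mul_mem (inv_mem hn) (hU t' u' v')) hn
    rw [← h] at this
    convert this using 1
    group
  unfold twistedG2 ChevalleyDatum.genSubgroup
  rw [Subgroup.closure_le]
  rintro g ⟨w, ⟨t, u, v, rfl | rfl⟩, hg⟩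
  · have : g = uR m t u v := gl_ext (by rw [hg, uR_val])
    rw [this]; exact hU t u v
  · have : g = vR m t u v := gl_ext (by rw [hg, vR_val])
    rw [this]; exact hV t u v

end Ree

end Cfsg.Agent.Lib.H29.Chev
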