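import Cfsg.Agent.Lib.H29.S3571ChainDefs

/-! helper29: S3571 SS11 prime chain, chunk 1 (generated): primes from 11 to 33493. -/

set_option autoImplicit false

namespace Cfsg.Agent.Lib.H29.S3571Chain

theorem chunk1 : Good 11 33493 := by
  have h0 : Good 11 13 := Good.step (by norm_num) (by norm_num)
  have h1 : Good 11 17 := h0.trans (Good.step (q := 13) (q' := 17) (by norm_num) (by norm_num))
  have h2 : Good 11 23 := h1.trans (Good.step (q := 17) (q' := 23) (by norm_num) (by norm_num))
  have h3 : Good 11 31 := h2.trans (Good.step (q := 23) (q' := 31) (by norm_num) (by norm_num))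
  have h4 : Good 11 37 := h3.trans (Good.step (q := 31) (q' := 37) (by norm_num) (by norm_num))
  have h5 : Good 11 47 := h4.trans (Good.step (q := 37) (q' := 47) (by norm_num) (by norm_num))
  have h6 : Good 11 59 := h5.trans (Good.step (q := 47) (q' := 59) (by norm_num) (by norm_num))
  have h7 : Good 11 73 := h6.trans (Good.step (q := 59) (q' := 73) (by norm_num) (by norm_num))
  have h8 : Good 11 89 := h7.trans (Good.step (q := 73) (q' := 89) (by norm_num) (by norm_num))
  have h9 : Good 11 107 := h8.trans (Good.step (q := 89) (q' := 107) (by norm_num) (by norm_num))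
  have h10 : Good 11 127 := h9.trans (Good.step (q := 107) (q' := 127) (by norm_num) (by norm_num))
  have h11 : Good 11 151 := h10.trans (Good.step (q := 127) (q' := 151) (by norm_num) (by norm_num))
  have h12 : Good 11 179 := h11.trans (Good.step (q := 151) (q' := 179) (by norm_num) (by norm_num))
  have h13 : Good 11 199 := h12.trans (Good.step (q := 179) (q' := 199) (by norm_num) (by norm_num))
  have h14 : Good 11 233 := h13.trans (Good.step (q := 199) (q' := 233) (by norm_num) (by norm_num))
  have h15 : Good 11 269 := h14.trans (Good.step (q := 233) (q' := 269) (by norm_num) (by norm_num))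
  have h16 : Good 11 307 := h15.trans (Good.step (q := 269) (q' := 307) (by norm_num) (by norm_num))
  have h17 : Good 11 349 := h16.trans (Good.step (q := 307) (q' := 349) (by norm_num) (by norm_num))
  have h18 : Good 11 397 := h17.trans (Good.step (q := 349) (q' := 397) (by norm_num) (by norm_num))
  have h19 : Good 11 449 := h18.trans (Good.step (q := 397) (q' := 449) (by norm_num) (by norm_num))
  have h20 : Good 11 503 := h19.trans (Good.step (q := 449) (q' := 503) (by norm_num) (by norm_num))
  have h21 : Good 11 563 := h20.trans (Good.step (q := 503) (q' := 563) (by norm_num) (by norm_num))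
  have h22 : Good 11 631 := h21.trans (Good.step (q := 563) (q' := 631) (by norm_num) (by norm_num))
  have h23 : Good 11 701 := h22.trans (Good.step (q := 631) (q' := 701) (by norm_num) (by norm_num))
  have h24 : Good 11 773 := h23.trans (Good.step (q := 701) (q' := 773) (by norm_num) (by norm_num))
  have h25 : Good 11 857 := h24.trans (Good.step (q := 773) (q' := 857) (by norm_num) (by norm_num))
  have h26 : Good 11 947 := h25.trans (Good.step (q := 857) (q' := 947) (by norm_num) (by norm_num))
  have h27 : Good 11 1039 := h26.trans (Good.step (q := 947) (q' := 1039) (by norm_num) (by norm_num))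
  have h28 : Good 11 1129 := h27.trans (Good.step (q := 1039) (q' := 1129) (by norm_num) (by norm_num))
  have h29 : Good 11 1237 := h28.trans (Good.step (q := 1129) (q' := 1237) (by norm_num) (by norm_num))
  have h30 : Good 11 1327 := h29.trans (Good.step (q := 1237) (q' := 1327) (by norm_num) (by norm_num))
  have h31 : Good 11 1447 := h30.trans (Good.step (q := 1327) (q' := 1447) (by norm_num) (by norm_num))
  have h32 : Good 11 1571 := h31.trans (Good.step (q := 1447) (q' := 1571) (by norm_num) (by norm_num))
  have h33 : Good 11 1699 := h32.trans (Good.step (q := 1571) (q' := 1699) (by norm_num) (by norm_num))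
  have h34 : Good 11 1831 := h33.trans (Good.step (q := 1699) (q' := 1831) (by norm_num) (by norm_num))
  have h35 : Good 11 1979 := h34.trans (Good.step (q := 1831) (q' := 1979) (by norm_num) (by norm_num))
  have h36 : Good 11 2131 := h35.trans (Good.step (q := 1979) (q' := 2131) (by norm_num) (by norm_num))
  have h37 : Good 11 2293 := h36.trans (Good.step (q := 2131) (q' := 2293) (by norm_num) (by norm_num))
  have h38 : Good 11 2459 := h37.trans (Good.step (q := 2293) (q' := 2459) (by norm_num) (by norm_num))
  have h39 : Good 11 2633 := h38.trans (Good.step (q := 2459) (q' := 2633) (by norm_num) (by norm_num))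
  have h40 : Good 11 2819 := h39.trans (Good.step (q := 2633) (q' := 2819) (by norm_num) (by norm_num))
  have h41 : Good 11 3011 := h40.trans (Good.step (q := 2819) (q' := 3011) (by norm_num) (by norm_num))
  have h42 : Good 11 3217 := h41.trans (Good.step (q := 3011) (q' := 3217) (by norm_num) (by norm_num))
  have h43 : Good 11 3433 := h42.trans (Good.step (q := 3217) (q' := 3433) (by norm_num) (by norm_num))
  have h44 : Good 11 3659 := h43.trans (Good.step (q := 3433) (q' := 3659) (by norm_num) (by norm_num))
  have h45 : Good 11 3889 := h44.trans (Good.step (q := 3659) (q' := 3889) (by norm_num) (by norm_num))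
  have h46 : Good 11 4133 := h45.trans (Good.step (q := 3889) (q' := 4133) (by norm_num) (by norm_num))
  have h47 : Good 11 4373 := h46.trans (Good.step (q := 4133) (q' := 4373) (by norm_num) (by norm_num))
  have h48 : Good 11 4639 := h47.trans (Good.step (q := 4373) (q' := 4639) (by norm_num) (by norm_num))
  have h49 : Good 11 4909 := h48.trans (Good.step (q := 4639) (q' := 4909) (by norm_num) (by norm_num))
  have h50 : Good 11 5197 := h49.trans (Good.step (q := 4909) (q' := 5197) (by norm_num) (by norm_num))
  have h51 : Good 11 5483 := h50.trans (Good.step (q := 5197) (q' := 5483) (by norm_num) (by norm_num))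
  have h52 : Good 11 5791 := h51.trans (Good.step (q := 5483) (q' := 5791) (by norm_num) (by norm_num))
  have h53 : Good 11 6113 := h52.trans (Good.step (q := 5791) (q' := 6113) (by norm_num) (by norm_num))
  have h54 : Good 11 6427 := h53.trans (Good.step (q := 6113) (q' := 6427) (by norm_num) (by norm_num))
  have h55 : Good 11 6763 := h54.trans (Good.step (q := 6427) (q' := 6763) (by norm_num) (by norm_num))
  have h56 : Good 11 7109 := h55.trans (Good.step (q := 6763) (q' := 7109) (by norm_num) (by norm_num))
  have h57 : Good 11 7477 := h56.trans (Good.step (q := 7109) (q' := 7477) (by norm_num) (by norm_num))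
  have h58 : Good 11 7853 := h57.trans (Good.step (q := 7477) (q' := 7853) (by norm_num) (by norm_num))
  have h59 : Good 11 8243 := h58.trans (Good.step (q := 7853) (q' := 8243) (by norm_num) (by norm_num))
  have h60 : Good 11 8647 := h59.trans (Good.step (q := 8243) (q' := 8647) (by norm_num) (by norm_num))
  have h61 : Good 11 9067 := h60.trans (Good.step (q := 8647) (q' := 9067) (by norm_num) (by norm_num))
  have h62 : Good 11 9497 := h61.trans (Good.step (q := 9067) (q' := 9497) (by norm_num) (by norm_num))
  have h63 : Good 11 9941 := h62.trans (Good.step (q := 9497) (q' := 9941) (by norm_num) (by norm_num))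
  have h64 : Good 11 10399 := h63.trans (Good.step (q := 9941) (q' := 10399) (by norm_num) (by norm_num))
  have h65 : Good 11 10867 := h64.trans (Good.step (q := 10399) (q' := 10867) (by norm_num) (by norm_num))
  have h66 : Good 11 11353 := h65.trans (Good.step (q := 10867) (q' := 11353) (by norm_num) (by norm_num))
  have h67 : Good 11 11839 := h66.trans (Good.step (q := 11353) (q' := 11839) (by norm_num) (by norm_num))
  have h68 : Good 11 12347 := h67.trans (Good.step (q := 11839) (q' := 12347) (by norm_num) (by norm_num))
  have h69 : Good 11 12853 := h68.trans (Good.step (q := 12347) (q' := 12853) (by norm_num) (by norm_num))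
  have h70 : Good 11 13399 := h69.trans (Good.step (q := 12853) (q' := 13399) (by norm_num) (by norm_num))
  have h71 : Good 11 13963 := h70.trans (Good.step (q := 13399) (q' := 13963) (by norm_num) (by norm_num))
  have h72 : Good 11 14537 := h71.trans (Good.step (q := 13963) (q' := 14537) (by norm_num) (by norm_num))
  have h73 : Good 11 15131 := h72.trans (Good.step (q := 14537) (q' := 15131) (by norm_num) (by norm_num))
  have h74 : Good 11 15739 := h73.trans (Good.step (q := 15131) (q' := 15739) (by norm_num) (by norm_num))
  have h75 : Good 11 16363 := h74.trans (Good.step (q := 15739) (q' := 16363) (by norm_num) (by norm_num))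
  have h76 : Good 11 16993 := h75.trans (Good.step (q := 16363) (q' := 16993) (by norm_num) (by norm_num))
  have h77 : Good 11 17627 := h76.trans (Good.step (q := 16993) (q' := 17627) (by norm_num) (by norm_num))
  have h78 : Good 11 18301 := h77.trans (Good.step (q := 17627) (q' := 18301) (by norm_num) (by norm_num))
  have h79 : Good 11 18979 := h78.trans (Good.step (q := 18301) (q' := 18979) (by norm_num) (by norm_num))
  have h80 : Good 11 19687 := h79.trans (Good.step (q := 18979) (q' := 19687) (by norm_num) (by norm_num))
  have h81 : Good 11 20411 := h80.trans (Good.step (q := 19687) (q' := 20411) (by norm_num) (by norm_num))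
  have h82 : Good 11 21157 := h81.trans (Good.step (q := 20411) (q' := 21157) (by norm_num) (by norm_num))
  have h83 : Good 11 21911 := h82.trans (Good.step (q := 21157) (q' := 21911) (by norm_num) (by norm_num))
  have h84 : Good 11 22691 := h83.trans (Good.step (q := 21911) (q' := 22691) (by norm_num) (by norm_num))
  have h85 : Good 11 23473 := h84.trans (Good.step (q := 22691) (q' := 23473) (by norm_num) (by norm_num))
  have h86 : Good 11 24281 := h85.trans (Good.step (q := 23473) (q' := 24281) (by norm_num) (by norm_num))
  have h87 : Good 11 25117 := h86.trans (Good.step (q := 24281) (q' := 25117) (by norm_num) (by norm_num))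
  have h88 : Good 11 25969 := h87.trans (Good.step (q := 25117) (q' := 25969) (by norm_num) (by norm_num))
  have h89 : Good 11 26839 := h88.trans (Good.step (q := 25969) (q' := 26839) (by norm_num) (by norm_num))
  have h90 : Good 11 27733 := h89.trans (Good.step (q := 26839) (q' := 27733) (by norm_num) (by norm_num))
  have h91 : Good 11 28649 := h90.trans (Good.step (q := 27733) (q' := 28649) (by norm_num) (by norm_num))
  have h92 : Good 11 29581 := h91.trans (Good.step (q := 28649) (q' := 29581) (by norm_num) (by norm_num))
  have h93 : Good 11 30529 := h92.trans (Good.step (q := 29581) (q' := 30529) (by norm_num) (by norm_num))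
  have h94 : Good 11 31489 := h93.trans (Good.step (q := 30529) (q' := 31489) (by norm_num) (by norm_num))
  have h95 : Good 11 32479 := h94.trans (Good.step (q := 31489) (q' := 32479) (by norm_num) (by norm_num))
  have h96 : Good 11 33493 := h95.trans (Good.step (q := 32479) (q' := 33493) (by norm_num) (by norm_num))
  exact h96

end Cfsg.Agent.Lib.H29.S3571Chain
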