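import Cfsg.Agent.Lib.H29.S3571ChainDefs

/-! helper29: S3571 SS11 prime chain, chunk 10 (generated): primes from 23949883 to 32832101.
One small declaration per link, so that elaboration stays linear. -/

set_option autoImplicit false

namespace Cfsg.Agent.Lib.H29.S3571Chain

theorem k10_g0 : Good 23949883 24032969 := Good.step (by norm_num) (by norm_num)
theorem k10_c0 : Good 23949883 24032969 := k10_g0
theorem k10_g1 : Good 24032969 24116243 := Good.step (by norm_num) (by norm_num)
theorem k10_c1 : Good 23949883 24116243 := k10_c0.trans k10_g1
theorem k10_g2 : Good 24116243 24199709 := Good.step (by norm_num) (by norm_num)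
theorem k10_c2 : Good 23949883 24199709 := k10_c1.trans k10_g2
theorem k10_g3 : Good 24199709 24283351 := Good.step (by norm_num) (by norm_num)
theorem k10_c3 : Good 23949883 24283351 := k10_c2.trans k10_g3
theorem k10_g4 : Good 24283351 24367199 := Good.step (by norm_num) (by norm_num)
theorem k10_c4 : Good 23949883 24367199 := k10_c3.trans k10_g4
theorem k10_g5 : Good 24367199 24451243 := Good.step (by norm_num) (by norm_num)
theorem k10_c5 : Good 23949883 24451243 := k10_c4.trans k10_g5
theorem k10_g6 : Good 24451243 24535463 := Good.step (by norm_num) (by norm_num)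
theorem k10_c6 : Good 23949883 24535463 := k10_c5.trans k10_g6
theorem k10_g7 : Good 24535463 24619897 := Good.step (by norm_num) (by norm_num)
theorem k10_c7 : Good 23949883 24619897 := k10_c6.trans k10_g7
theorem k10_g8 : Good 24619897 24704501 := Good.step (by norm_num) (by norm_num)
theorem k10_c8 : Good 23949883 24704501 := k10_c7.trans k10_g8
theorem k10_g9 : Good 24704501 24789311 := Good.step (by norm_num) (by norm_num)
theorem k10_c9 : Good 23949883 24789311 := k10_c8.trans k10_g9
theorem k10_g10 : Good 24789311 24874313 := Good.step (by norm_num) (by norm_num)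
theorem k10_c10 : Good 23949883 24874313 := k10_c9.trans k10_g10
theorem k10_g11 : Good 24874313 24959509 := Good.step (by norm_num) (by norm_num)
theorem k10_c11 : Good 23949883 24959509 := k10_c10.trans k10_g11
theorem k10_g12 : Good 24959509 25044889 := Good.step (by norm_num) (by norm_num)
theorem k10_c12 : Good 23949883 25044889 := k10_c11.trans k10_g12
theorem k10_g13 : Good 25044889 25130473 := Good.step (by norm_num) (by norm_num)
theorem k10_c13 : Good 23949883 25130473 := k10_c12.trans k10_g13
theorem k10_g14 : Good 25130473 25216229 := Good.step (by norm_num) (by norm_num)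
theorem k10_c14 : Good 23949883 25216229 := k10_c13.trans k10_g14
theorem k10_g15 : Good 25216229 25302203 := Good.step (by norm_num) (by norm_num)
theorem k10_c15 : Good 23949883 25302203 := k10_c14.trans k10_g15
theorem k10_g16 : Good 25302203 25388387 := Good.step (by norm_num) (by norm_num)
theorem k10_c16 : Good 23949883 25388387 := k10_c15.trans k10_g16
theorem k10_g17 : Good 25388387 25474751 := Good.step (by norm_num) (by norm_num)
theorem k10_c17 : Good 23949883 25474751 := k10_c16.trans k10_g17
theorem k10_g18 : Good 25474751 25561321 := Good.step (by norm_num) (by norm_num)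
theorem k10_c18 : Good 23949883 25561321 := k10_c17.trans k10_g18
theorem k10_g19 : Good 25561321 25648057 := Good.step (by norm_num) (by norm_num)
theorem k10_c19 : Good 23949883 25648057 := k10_c18.trans k10_g19
theorem k10_g20 : Good 25648057 25735019 := Good.step (by norm_num) (by norm_num)
theorem k10_c20 : Good 23949883 25735019 := k10_c19.trans k10_g20
theorem k10_g21 : Good 25735019 25822157 := Good.step (by norm_num) (by norm_num)
theorem k10_c21 : Good 23949883 25822157 := k10_c20.trans k10_g21
theorem k10_g22 : Good 25822157 25909519 := Good.step (by norm_num) (by norm_num)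
theorem k10_c22 : Good 23949883 25909519 := k10_c21.trans k10_g22
theorem k10_g23 : Good 25909519 25997047 := Good.step (by norm_num) (by norm_num)
theorem k10_c23 : Good 23949883 25997047 := k10_c22.trans k10_g23
theorem k10_g24 : Good 25997047 26084803 := Good.step (by norm_num) (by norm_num)
theorem k10_c24 : Good 23949883 26084803 := k10_c23.trans k10_g24
theorem k10_g25 : Good 26084803 26172743 := Good.step (by norm_num) (by norm_num)
theorem k10_c25 : Good 23949883 26172743 := k10_c24.trans k10_g25
theorem k10_g26 : Good 26172743 26260891 := Good.step (by norm_num) (by norm_num)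
theorem k10_c26 : Good 23949883 26260891 := k10_c25.trans k10_g26
theorem k10_g27 : Good 26260891 26349229 := Good.step (by norm_num) (by norm_num)
theorem k10_c27 : Good 23949883 26349229 := k10_c26.trans k10_g27
theorem k10_g28 : Good 26349229 26437751 := Good.step (by norm_num) (by norm_num)
theorem k10_c28 : Good 23949883 26437751 := k10_c27.trans k10_g28
theorem k10_g29 : Good 26437751 26526497 := Good.step (by norm_num) (by norm_num)
theorem k10_c29 : Good 23949883 26526497 := k10_c28.trans k10_g29
theorem k10_g30 : Good 26526497 26615441 := Good.step (by norm_num) (by norm_num)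
theorem k10_c30 : Good 23949883 26615441 := k10_c29.trans k10_g30
theorem k10_g31 : Good 26615441 26704567 := Good.step (by norm_num) (by norm_num)
theorem k10_c31 : Good 23949883 26704567 := k10_c30.trans k10_g31
theorem k10_g32 : Good 26704567 26793881 := Good.step (by norm_num) (by norm_num)
theorem k10_c32 : Good 23949883 26793881 := k10_c31.trans k10_g32
theorem k10_g33 : Good 26793881 26883403 := Good.step (by norm_num) (by norm_num)
theorem k10_c33 : Good 23949883 26883403 := k10_c32.trans k10_g33
theorem k10_g34 : Good 26883403 26973139 := Good.step (by norm_num) (by norm_num)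
theorem k10_c34 : Good 23949883 26973139 := k10_c33.trans k10_g34
theorem k10_g35 : Good 26973139 27063079 := Good.step (by norm_num) (by norm_num)
theorem k10_c35 : Good 23949883 27063079 := k10_c34.trans k10_g35
theorem k10_g36 : Good 27063079 27153211 := Good.step (by norm_num) (by norm_num)
theorem k10_c36 : Good 23949883 27153211 := k10_c35.trans k10_g36
theorem k10_g37 : Good 27153211 27243551 := Good.step (by norm_num) (by norm_num)
theorem k10_c37 : Good 23949883 27243551 := k10_c36.trans k10_g37
theorem k10_g38 : Good 27243551 27334091 := Good.step (by norm_num) (by norm_num)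
theorem k10_c38 : Good 23949883 27334091 := k10_c37.trans k10_g38
theorem k10_g39 : Good 27334091 27424759 := Good.step (by norm_num) (by norm_num)
theorem k10_c39 : Good 23949883 27424759 := k10_c38.trans k10_g39
theorem k10_g40 : Good 27424759 27515689 := Good.step (by norm_num) (by norm_num)
theorem k10_c40 : Good 23949883 27515689 := k10_c39.trans k10_g40
theorem k10_g41 : Good 27515689 27606769 := Good.step (by norm_num) (by norm_num)
theorem k10_c41 : Good 23949883 27606769 := k10_c40.trans k10_g41
theorem k10_g42 : Good 27606769 27698071 := Good.step (by norm_num) (by norm_num)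
theorem k10_c42 : Good 23949883 27698071 := k10_c41.trans k10_g42
theorem k10_g43 : Good 27698071 27789599 := Good.step (by norm_num) (by norm_num)
theorem k10_c43 : Good 23949883 27789599 := k10_c42.trans k10_g43
theorem k10_g44 : Good 27789599 27881323 := Good.step (by norm_num) (by norm_num)
theorem k10_c44 : Good 23949883 27881323 := k10_c43.trans k10_g44
theorem k10_g45 : Good 27881323 27973259 := Good.step (by norm_num) (by norm_num)
theorem k10_c45 : Good 23949883 27973259 := k10_c44.trans k10_g45
theorem k10_g46 : Good 27973259 28065407 := Good.step (by norm_num) (by norm_num)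
theorem k10_c46 : Good 23949883 28065407 := k10_c45.trans k10_g46
theorem k10_g47 : Good 28065407 28157741 := Good.step (by norm_num) (by norm_num)
theorem k10_c47 : Good 23949883 28157741 := k10_c46.trans k10_g47
theorem k10_g48 : Good 28157741 28250273 := Good.step (by norm_num) (by norm_num)
theorem k10_c48 : Good 23949883 28250273 := k10_c47.trans k10_g48
theorem k10_g49 : Good 28250273 28343023 := Good.step (by norm_num) (by norm_num)
theorem k10_c49 : Good 23949883 28343023 := k10_c48.trans k10_g49
theorem k10_g50 : Good 28343023 28435969 := Good.step (by norm_num) (by norm_num)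
theorem k10_c50 : Good 23949883 28435969 := k10_c49.trans k10_g50
theorem k10_g51 : Good 28435969 28529113 := Good.step (by norm_num) (by norm_num)
theorem k10_c51 : Good 23949883 28529113 := k10_c50.trans k10_g51
theorem k10_g52 : Good 28529113 28622471 := Good.step (by norm_num) (by norm_num)
theorem k10_c52 : Good 23949883 28622471 := k10_c51.trans k10_g52
theorem k10_g53 : Good 28622471 28716041 := Good.step (by norm_num) (by norm_num)
theorem k10_c53 : Good 23949883 28716041 := k10_c52.trans k10_g53
theorem k10_g54 : Good 28716041 28809779 := Good.step (by norm_num) (by norm_num)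
theorem k10_c54 : Good 23949883 28809779 := k10_c53.trans k10_g54
theorem k10_g55 : Good 28809779 28903753 := Good.step (by norm_num) (by norm_num)
theorem k10_c55 : Good 23949883 28903753 := k10_c54.trans k10_g55
theorem k10_g56 : Good 28903753 28997923 := Good.step (by norm_num) (by norm_num)
theorem k10_c56 : Good 23949883 28997923 := k10_c55.trans k10_g56
theorem k10_g57 : Good 28997923 29092289 := Good.step (by norm_num) (by norm_num)
theorem k10_c57 : Good 23949883 29092289 := k10_c56.trans k10_g57
theorem k10_g58 : Good 29092289 29186873 := Good.step (by norm_num) (by norm_num)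
theorem k10_c58 : Good 23949883 29186873 := k10_c57.trans k10_g58
theorem k10_g59 : Good 29186873 29281663 := Good.step (by norm_num) (by norm_num)
theorem k10_c59 : Good 23949883 29281663 := k10_c58.trans k10_g59
theorem k10_g60 : Good 29281663 29376653 := Good.step (by norm_num) (by norm_num)
theorem k10_c60 : Good 23949883 29376653 := k10_c59.trans k10_g60
theorem k10_g61 : Good 29376653 29471843 := Good.step (by norm_num) (by norm_num)
theorem k10_c61 : Good 23949883 29471843 := k10_c60.trans k10_g61
theorem k10_g62 : Good 29471843 29567227 := Good.step (by norm_num) (by norm_num)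
theorem k10_c62 : Good 23949883 29567227 := k10_c61.trans k10_g62
theorem k10_g63 : Good 29567227 29662799 := Good.step (by norm_num) (by norm_num)
theorem k10_c63 : Good 23949883 29662799 := k10_c62.trans k10_g63
theorem k10_g64 : Good 29662799 29758621 := Good.step (by norm_num) (by norm_num)
theorem k10_c64 : Good 23949883 29758621 := k10_c63.trans k10_g64
theorem k10_g65 : Good 29758621 29854651 := Good.step (by norm_num) (by norm_num)
theorem k10_c65 : Good 23949883 29854651 := k10_c64.trans k10_g65
theorem k10_g66 : Good 29854651 29950861 := Good.step (by norm_num) (by norm_num)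
theorem k10_c66 : Good 23949883 29950861 := k10_c65.trans k10_g66
theorem k10_g67 : Good 29950861 30047287 := Good.step (by norm_num) (by norm_num)
theorem k10_c67 : Good 23949883 30047287 := k10_c66.trans k10_g67
theorem k10_g68 : Good 30047287 30143929 := Good.step (by norm_num) (by norm_num)
theorem k10_c68 : Good 23949883 30143929 := k10_c67.trans k10_g68
theorem k10_g69 : Good 30143929 30240781 := Good.step (by norm_num) (by norm_num)
theorem k10_c69 : Good 23949883 30240781 := k10_c68.trans k10_g69
theorem k10_g70 : Good 30240781 30337841 := Good.step (by norm_num) (by norm_num)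
theorem k10_c70 : Good 23949883 30337841 := k10_c69.trans k10_g70
theorem k10_g71 : Good 30337841 30435113 := Good.step (by norm_num) (by norm_num)
theorem k10_c71 : Good 23949883 30435113 := k10_c70.trans k10_g71
theorem k10_g72 : Good 30435113 30532573 := Good.step (by norm_num) (by norm_num)
theorem k10_c72 : Good 23949883 30532573 := k10_c71.trans k10_g72
theorem k10_g73 : Good 30532573 30630253 := Good.step (by norm_num) (by norm_num)
theorem k10_c73 : Good 23949883 30630253 := k10_c72.trans k10_g73
theorem k10_g74 : Good 30630253 30728123 := Good.step (by norm_num) (by norm_num)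
theorem k10_c74 : Good 23949883 30728123 := k10_c73.trans k10_g74
theorem k10_g75 : Good 30728123 30826223 := Good.step (by norm_num) (by norm_num)
theorem k10_c75 : Good 23949883 30826223 := k10_c74.trans k10_g75
theorem k10_g76 : Good 30826223 30924529 := Good.step (by norm_num) (by norm_num)
theorem k10_c76 : Good 23949883 30924529 := k10_c75.trans k10_g76
theorem k10_g77 : Good 30924529 31023037 := Good.step (by norm_num) (by norm_num)
theorem k10_c77 : Good 23949883 31023037 := k10_c76.trans k10_g77
theorem k10_g78 : Good 31023037 31121749 := Good.step (by norm_num) (by norm_num)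
theorem k10_c78 : Good 23949883 31121749 := k10_c77.trans k10_g78
theorem k10_g79 : Good 31121749 31220681 := Good.step (by norm_num) (by norm_num)
theorem k10_c79 : Good 23949883 31220681 := k10_c78.trans k10_g79
theorem k10_g80 : Good 31220681 31319791 := Good.step (by norm_num) (by norm_num)
theorem k10_c80 : Good 23949883 31319791 := k10_c79.trans k10_g80
theorem k10_g81 : Good 31319791 31419121 := Good.step (by norm_num) (by norm_num)
theorem k10_c81 : Good 23949883 31419121 := k10_c80.trans k10_g81
theorem k10_g82 : Good 31419121 31518691 := Good.step (by norm_num) (by norm_num)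
theorem k10_c82 : Good 23949883 31518691 := k10_c81.trans k10_g82
theorem k10_g83 : Good 31518691 31618463 := Good.step (by norm_num) (by norm_num)
theorem k10_c83 : Good 23949883 31618463 := k10_c82.trans k10_g83
theorem k10_g84 : Good 31618463 31718441 := Good.step (by norm_num) (by norm_num)
theorem k10_c84 : Good 23949883 31718441 := k10_c83.trans k10_g84
theorem k10_g85 : Good 31718441 31818613 := Good.step (by norm_num) (by norm_num)
theorem k10_c85 : Good 23949883 31818613 := k10_c84.trans k10_g85
theorem k10_g86 : Good 31818613 31919023 := Good.step (by norm_num) (by norm_num)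
theorem k10_c86 : Good 23949883 31919023 := k10_c85.trans k10_g86
theorem k10_g87 : Good 31919023 32019641 := Good.step (by norm_num) (by norm_num)
theorem k10_c87 : Good 23949883 32019641 := k10_c86.trans k10_g87
theorem k10_g88 : Good 32019641 32120449 := Good.step (by norm_num) (by norm_num)
theorem k10_c88 : Good 23949883 32120449 := k10_c87.trans k10_g88
theorem k10_g89 : Good 32120449 32221489 := Good.step (by norm_num) (by norm_num)
theorem k10_c89 : Good 23949883 32221489 := k10_c88.trans k10_g89
theorem k10_g90 : Good 32221489 32322709 := Good.step (by norm_num) (by norm_num)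
theorem k10_c90 : Good 23949883 32322709 := k10_c89.trans k10_g90
theorem k10_g91 : Good 32322709 32424169 := Good.step (by norm_num) (by norm_num)
theorem k10_c91 : Good 23949883 32424169 := k10_c90.trans k10_g91
theorem k10_g92 : Good 32424169 32525837 := Good.step (by norm_num) (by norm_num)
theorem k10_c92 : Good 23949883 32525837 := k10_c91.trans k10_g92
theorem k10_g93 : Good 32525837 32627687 := Good.step (by norm_num) (by norm_num)
theorem k10_c93 : Good 23949883 32627687 := k10_c92.trans k10_g93
theorem k10_g94 : Good 32627687 32729791 := Good.step (by norm_num) (by norm_num)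
theorem k10_c94 : Good 23949883 32729791 := k10_c93.trans k10_g94
theorem k10_g95 : Good 32729791 32832101 := Good.step (by norm_num) (by norm_num)
theorem k10_c95 : Good 23949883 32832101 := k10_c94.trans k10_g95

theorem chunk10 : Good 23949883 32832101 := k10_c95

end Cfsg.Agent.Lib.H29.S3571Chain
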