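import Cfsg.Agent.Lib.H29.S3571ChainDefs

/-! helper29: S3571 SS11 prime chain, chunk 11 (generated): primes from 32832101 to 43678361.
One small declaration per link, so that elaboration stays linear. -/

set_option autoImplicit false

namespace Cfsg.Agent.Lib.H29.S3571Chain

theorem k11_g0 : Good 32832101 32934631 := Good.step (by norm_num) (by norm_num)
theorem k11_c0 : Good 32832101 32934631 := k11_g0
theorem k11_g1 : Good 32934631 33037369 := Good.step (by norm_num) (by norm_num)
theorem k11_c1 : Good 32832101 33037369 := k11_c0.trans k11_g1
theorem k11_g2 : Good 33037369 33140299 := Good.step (by norm_num) (by norm_num)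
theorem k11_c2 : Good 32832101 33140299 := k11_c1.trans k11_g2
theorem k11_g3 : Good 33140299 33243451 := Good.step (by norm_num) (by norm_num)
theorem k11_c3 : Good 32832101 33243451 := k11_c2.trans k11_g3
theorem k11_g4 : Good 33243451 33346823 := Good.step (by norm_num) (by norm_num)
theorem k11_c4 : Good 32832101 33346823 := k11_c3.trans k11_g4
theorem k11_g5 : Good 33346823 33450409 := Good.step (by norm_num) (by norm_num)
theorem k11_c5 : Good 32832101 33450409 := k11_c4.trans k11_g5
theorem k11_g6 : Good 33450409 33554221 := Good.step (by norm_num) (by norm_num)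
theorem k11_c6 : Good 32832101 33554221 := k11_c5.trans k11_g6
theorem k11_g7 : Good 33554221 33658201 := Good.step (by norm_num) (by norm_num)
theorem k11_c7 : Good 32832101 33658201 := k11_c6.trans k11_g7
theorem k11_g8 : Good 33658201 33762437 := Good.step (by norm_num) (by norm_num)
theorem k11_c8 : Good 32832101 33762437 := k11_c7.trans k11_g8
theorem k11_g9 : Good 33762437 33866897 := Good.step (by norm_num) (by norm_num)
theorem k11_c9 : Good 32832101 33866897 := k11_c8.trans k11_g9
theorem k11_g10 : Good 33866897 33971549 := Good.step (by norm_num) (by norm_num)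
theorem k11_c10 : Good 32832101 33971549 := k11_c9.trans k11_g10
theorem k11_g11 : Good 33971549 34076423 := Good.step (by norm_num) (by norm_num)
theorem k11_c11 : Good 32832101 34076423 := k11_c10.trans k11_g11
theorem k11_g12 : Good 34076423 34181527 := Good.step (by norm_num) (by norm_num)
theorem k11_c12 : Good 32832101 34181527 := k11_c11.trans k11_g12
theorem k11_g13 : Good 34181527 34286843 := Good.step (by norm_num) (by norm_num)
theorem k11_c13 : Good 32832101 34286843 := k11_c12.trans k11_g13
theorem k11_g14 : Good 34286843 34392331 := Good.step (by norm_num) (by norm_num)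
theorem k11_c14 : Good 32832101 34392331 := k11_c13.trans k11_g14
theorem k11_g15 : Good 34392331 34498073 := Good.step (by norm_num) (by norm_num)
theorem k11_c15 : Good 32832101 34498073 := k11_c14.trans k11_g15
theorem k11_g16 : Good 34498073 34604039 := Good.step (by norm_num) (by norm_num)
theorem k11_c16 : Good 32832101 34604039 := k11_c15.trans k11_g16
theorem k11_g17 : Good 34604039 34710223 := Good.step (by norm_num) (by norm_num)
theorem k11_c17 : Good 32832101 34710223 := k11_c16.trans k11_g17
theorem k11_g18 : Good 34710223 34816609 := Good.step (by norm_num) (by norm_num)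
theorem k11_c18 : Good 32832101 34816609 := k11_c17.trans k11_g18
theorem k11_g19 : Good 34816609 34923193 := Good.step (by norm_num) (by norm_num)
theorem k11_c19 : Good 32832101 34923193 := k11_c18.trans k11_g19
theorem k11_g20 : Good 34923193 35030003 := Good.step (by norm_num) (by norm_num)
theorem k11_c20 : Good 32832101 35030003 := k11_c19.trans k11_g20
theorem k11_g21 : Good 35030003 35137051 := Good.step (by norm_num) (by norm_num)
theorem k11_c21 : Good 32832101 35137051 := k11_c20.trans k11_g21
theorem k11_g22 : Good 35137051 35244323 := Good.step (by norm_num) (by norm_num)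
theorem k11_c22 : Good 32832101 35244323 := k11_c21.trans k11_g22
theorem k11_g23 : Good 35244323 35351803 := Good.step (by norm_num) (by norm_num)
theorem k11_c23 : Good 32832101 35351803 := k11_c22.trans k11_g23
theorem k11_g24 : Good 35351803 35459503 := Good.step (by norm_num) (by norm_num)
theorem k11_c24 : Good 32832101 35459503 := k11_c23.trans k11_g24
theorem k11_g25 : Good 35459503 35567431 := Good.step (by norm_num) (by norm_num)
theorem k11_c25 : Good 32832101 35567431 := k11_c24.trans k11_g25
theorem k11_g26 : Good 35567431 35675551 := Good.step (by norm_num) (by norm_num)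
theorem k11_c26 : Good 32832101 35675551 := k11_c25.trans k11_g26
theorem k11_g27 : Good 35675551 35783899 := Good.step (by norm_num) (by norm_num)
theorem k11_c27 : Good 32832101 35783899 := k11_c26.trans k11_g27
theorem k11_g28 : Good 35783899 35892449 := Good.step (by norm_num) (by norm_num)
theorem k11_c28 : Good 32832101 35892449 := k11_c27.trans k11_g28
theorem k11_g29 : Good 35892449 36001249 := Good.step (by norm_num) (by norm_num)
theorem k11_c29 : Good 32832101 36001249 := k11_c28.trans k11_g29
theorem k11_g30 : Good 36001249 36110273 := Good.step (by norm_num) (by norm_num)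
theorem k11_c30 : Good 32832101 36110273 := k11_c29.trans k11_g30
theorem k11_g31 : Good 36110273 36219499 := Good.step (by norm_num) (by norm_num)
theorem k11_c31 : Good 32832101 36219499 := k11_c30.trans k11_g31
theorem k11_g32 : Good 36219499 36328933 := Good.step (by norm_num) (by norm_num)
theorem k11_c32 : Good 32832101 36328933 := k11_c31.trans k11_g32
theorem k11_g33 : Good 36328933 36438617 := Good.step (by norm_num) (by norm_num)
theorem k11_c33 : Good 32832101 36438617 := k11_c32.trans k11_g33
theorem k11_g34 : Good 36438617 36548513 := Good.step (by norm_num) (by norm_num)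
theorem k11_c34 : Good 32832101 36548513 := k11_c33.trans k11_g34
theorem k11_g35 : Good 36548513 36658631 := Good.step (by norm_num) (by norm_num)
theorem k11_c35 : Good 32832101 36658631 := k11_c34.trans k11_g35
theorem k11_g36 : Good 36658631 36768961 := Good.step (by norm_num) (by norm_num)
theorem k11_c36 : Good 32832101 36768961 := k11_c35.trans k11_g36
theorem k11_g37 : Good 36768961 36879533 := Good.step (by norm_num) (by norm_num)
theorem k11_c37 : Good 32832101 36879533 := k11_c36.trans k11_g37
theorem k11_g38 : Good 36879533 36990313 := Good.step (by norm_num) (by norm_num)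
theorem k11_c38 : Good 32832101 36990313 := k11_c37.trans k11_g38
theorem k11_g39 : Good 36990313 37101329 := Good.step (by norm_num) (by norm_num)
theorem k11_c39 : Good 32832101 37101329 := k11_c38.trans k11_g39
theorem k11_g40 : Good 37101329 37212563 := Good.step (by norm_num) (by norm_num)
theorem k11_c40 : Good 32832101 37212563 := k11_c39.trans k11_g40
theorem k11_g41 : Good 37212563 37323991 := Good.step (by norm_num) (by norm_num)
theorem k11_c41 : Good 32832101 37323991 := k11_c40.trans k11_g41
theorem k11_g42 : Good 37323991 37435667 := Good.step (by norm_num) (by norm_num)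
theorem k11_c42 : Good 32832101 37435667 := k11_c41.trans k11_g42
theorem k11_g43 : Good 37435667 37547561 := Good.step (by norm_num) (by norm_num)
theorem k11_c43 : Good 32832101 37547561 := k11_c42.trans k11_g43
theorem k11_g44 : Good 37547561 37659679 := Good.step (by norm_num) (by norm_num)
theorem k11_c44 : Good 32832101 37659679 := k11_c43.trans k11_g44
theorem k11_g45 : Good 37659679 37772023 := Good.step (by norm_num) (by norm_num)
theorem k11_c45 : Good 32832101 37772023 := k11_c44.trans k11_g45
theorem k11_g46 : Good 37772023 37884593 := Good.step (by norm_num) (by norm_num)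
theorem k11_c46 : Good 32832101 37884593 := k11_c45.trans k11_g46
theorem k11_g47 : Good 37884593 37997389 := Good.step (by norm_num) (by norm_num)
theorem k11_c47 : Good 32832101 37997389 := k11_c46.trans k11_g47
theorem k11_g48 : Good 37997389 38110411 := Good.step (by norm_num) (by norm_num)
theorem k11_c48 : Good 32832101 38110411 := k11_c47.trans k11_g48
theorem k11_g49 : Good 38110411 38223641 := Good.step (by norm_num) (by norm_num)
theorem k11_c49 : Good 32832101 38223641 := k11_c48.trans k11_g49
theorem k11_g50 : Good 38223641 38337107 := Good.step (by norm_num) (by norm_num)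
theorem k11_c50 : Good 32832101 38337107 := k11_c49.trans k11_g50
theorem k11_g51 : Good 38337107 38450777 := Good.step (by norm_num) (by norm_num)
theorem k11_c51 : Good 32832101 38450777 := k11_c50.trans k11_g51
theorem k11_g52 : Good 38450777 38564689 := Good.step (by norm_num) (by norm_num)
theorem k11_c52 : Good 32832101 38564689 := k11_c51.trans k11_g52
theorem k11_g53 : Good 38564689 38678833 := Good.step (by norm_num) (by norm_num)
theorem k11_c53 : Good 32832101 38678833 := k11_c52.trans k11_g53
theorem k11_g54 : Good 38678833 38793197 := Good.step (by norm_num) (by norm_num)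
theorem k11_c54 : Good 32832101 38793197 := k11_c53.trans k11_g54
theorem k11_g55 : Good 38793197 38907779 := Good.step (by norm_num) (by norm_num)
theorem k11_c55 : Good 32832101 38907779 := k11_c54.trans k11_g55
theorem k11_g56 : Good 38907779 39022597 := Good.step (by norm_num) (by norm_num)
theorem k11_c56 : Good 32832101 39022597 := k11_c55.trans k11_g56
theorem k11_g57 : Good 39022597 39137641 := Good.step (by norm_num) (by norm_num)
theorem k11_c57 : Good 32832101 39137641 := k11_c56.trans k11_g57
theorem k11_g58 : Good 39137641 39252907 := Good.step (by norm_num) (by norm_num)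
theorem k11_c58 : Good 32832101 39252907 := k11_c57.trans k11_g58
theorem k11_g59 : Good 39252907 39368393 := Good.step (by norm_num) (by norm_num)
theorem k11_c59 : Good 32832101 39368393 := k11_c58.trans k11_g59
theorem k11_g60 : Good 39368393 39484117 := Good.step (by norm_num) (by norm_num)
theorem k11_c60 : Good 32832101 39484117 := k11_c59.trans k11_g60
theorem k11_g61 : Good 39484117 39600061 := Good.step (by norm_num) (by norm_num)
theorem k11_c61 : Good 32832101 39600061 := k11_c60.trans k11_g61
theorem k11_g62 : Good 39600061 39716231 := Good.step (by norm_num) (by norm_num)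
theorem k11_c62 : Good 32832101 39716231 := k11_c61.trans k11_g62
theorem k11_g63 : Good 39716231 39832603 := Good.step (by norm_num) (by norm_num)
theorem k11_c63 : Good 32832101 39832603 := k11_c62.trans k11_g63
theorem k11_g64 : Good 39832603 39949223 := Good.step (by norm_num) (by norm_num)
theorem k11_c64 : Good 32832101 39949223 := k11_c63.trans k11_g64
theorem k11_g65 : Good 39949223 40066051 := Good.step (by norm_num) (by norm_num)
theorem k11_c65 : Good 32832101 40066051 := k11_c64.trans k11_g65
theorem k11_g66 : Good 40066051 40183109 := Good.step (by norm_num) (by norm_num)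
theorem k11_c66 : Good 32832101 40183109 := k11_c65.trans k11_g66
theorem k11_g67 : Good 40183109 40300411 := Good.step (by norm_num) (by norm_num)
theorem k11_c67 : Good 32832101 40300411 := k11_c66.trans k11_g67
theorem k11_g68 : Good 40300411 40417943 := Good.step (by norm_num) (by norm_num)
theorem k11_c68 : Good 32832101 40417943 := k11_c67.trans k11_g68
theorem k11_g69 : Good 40417943 40535717 := Good.step (by norm_num) (by norm_num)
theorem k11_c69 : Good 32832101 40535717 := k11_c68.trans k11_g69
theorem k11_g70 : Good 40535717 40653709 := Good.step (by norm_num) (by norm_num)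
theorem k11_c70 : Good 32832101 40653709 := k11_c69.trans k11_g70
theorem k11_g71 : Good 40653709 40771937 := Good.step (by norm_num) (by norm_num)
theorem k11_c71 : Good 32832101 40771937 := k11_c70.trans k11_g71
theorem k11_g72 : Good 40771937 40890397 := Good.step (by norm_num) (by norm_num)
theorem k11_c72 : Good 32832101 40890397 := k11_c71.trans k11_g72
theorem k11_g73 : Good 40890397 41009081 := Good.step (by norm_num) (by norm_num)
theorem k11_c73 : Good 32832101 41009081 := k11_c72.trans k11_g73
theorem k11_g74 : Good 41009081 41127973 := Good.step (by norm_num) (by norm_num)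
theorem k11_c74 : Good 32832101 41127973 := k11_c73.trans k11_g74
theorem k11_g75 : Good 41127973 41247113 := Good.step (by norm_num) (by norm_num)
theorem k11_c75 : Good 32832101 41247113 := k11_c74.trans k11_g75
theorem k11_g76 : Good 41247113 41366471 := Good.step (by norm_num) (by norm_num)
theorem k11_c76 : Good 32832101 41366471 := k11_c75.trans k11_g76
theorem k11_g77 : Good 41366471 41486057 := Good.step (by norm_num) (by norm_num)
theorem k11_c77 : Good 32832101 41486057 := k11_c76.trans k11_g77
theorem k11_g78 : Good 41486057 41605859 := Good.step (by norm_num) (by norm_num)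
theorem k11_c78 : Good 32832101 41605859 := k11_c77.trans k11_g78
theorem k11_g79 : Good 41605859 41725913 := Good.step (by norm_num) (by norm_num)
theorem k11_c79 : Good 32832101 41725913 := k11_c78.trans k11_g79
theorem k11_g80 : Good 41725913 41846213 := Good.step (by norm_num) (by norm_num)
theorem k11_c80 : Good 32832101 41846213 := k11_c79.trans k11_g80
theorem k11_g81 : Good 41846213 41966699 := Good.step (by norm_num) (by norm_num)
theorem k11_c81 : Good 32832101 41966699 := k11_c80.trans k11_g81
theorem k11_g82 : Good 41966699 42087449 := Good.step (by norm_num) (by norm_num)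
theorem k11_c82 : Good 32832101 42087449 := k11_c81.trans k11_g82
theorem k11_g83 : Good 42087449 42208421 := Good.step (by norm_num) (by norm_num)
theorem k11_c83 : Good 32832101 42208421 := k11_c82.trans k11_g83
theorem k11_g84 : Good 42208421 42329641 := Good.step (by norm_num) (by norm_num)
theorem k11_c84 : Good 32832101 42329641 := k11_c83.trans k11_g84
theorem k11_g85 : Good 42329641 42451069 := Good.step (by norm_num) (by norm_num)
theorem k11_c85 : Good 32832101 42451069 := k11_c84.trans k11_g85
theorem k11_g86 : Good 42451069 42572753 := Good.step (by norm_num) (by norm_num)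
theorem k11_c86 : Good 32832101 42572753 := k11_c85.trans k11_g86
theorem k11_g87 : Good 42572753 42694637 := Good.step (by norm_num) (by norm_num)
theorem k11_c87 : Good 32832101 42694637 := k11_c86.trans k11_g87
theorem k11_g88 : Good 42694637 42816793 := Good.step (by norm_num) (by norm_num)
theorem k11_c88 : Good 32832101 42816793 := k11_c87.trans k11_g88
theorem k11_g89 : Good 42816793 42939179 := Good.step (by norm_num) (by norm_num)
theorem k11_c89 : Good 32832101 42939179 := k11_c88.trans k11_g89
theorem k11_g90 : Good 42939179 43061801 := Good.step (by norm_num) (by norm_num)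
theorem k11_c90 : Good 32832101 43061801 := k11_c89.trans k11_g90
theorem k11_g91 : Good 43061801 43184653 := Good.step (by norm_num) (by norm_num)
theorem k11_c91 : Good 32832101 43184653 := k11_c90.trans k11_g91
theorem k11_g92 : Good 43184653 43307729 := Good.step (by norm_num) (by norm_num)
theorem k11_c92 : Good 32832101 43307729 := k11_c91.trans k11_g92
theorem k11_g93 : Good 43307729 43431029 := Good.step (by norm_num) (by norm_num)
theorem k11_c93 : Good 32832101 43431029 := k11_c92.trans k11_g93
theorem k11_g94 : Good 43431029 43554583 := Good.step (by norm_num) (by norm_num)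
theorem k11_c94 : Good 32832101 43554583 := k11_c93.trans k11_g94
theorem k11_g95 : Good 43554583 43678361 := Good.step (by norm_num) (by norm_num)
theorem k11_c95 : Good 32832101 43678361 := k11_c94.trans k11_g95

theorem chunk11 : Good 32832101 43678361 := k11_c95

end Cfsg.Agent.Lib.H29.S3571Chain
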