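import Cfsg.Agent.Lib.H29.S3571ChainDefs

/-! helper29: S3571 SS11 prime chain, chunk 12 (generated): primes from 43678361 to 56684911.
One small declaration per link, so that elaboration stays linear. -/

set_option autoImplicit false

namespace Cfsg.Agent.Lib.H29.S3571Chain

theorem k12_g0 : Good 43678361 43802371 := Good.step (by norm_num) (by norm_num)
theorem k12_c0 : Good 43678361 43802371 := k12_g0
theorem k12_g1 : Good 43802371 43926611 := Good.step (by norm_num) (by norm_num)
theorem k12_c1 : Good 43678361 43926611 := k12_c0.trans k12_g1
theorem k12_g2 : Good 43926611 44051099 := Good.step (by norm_num) (by norm_num)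
theorem k12_c2 : Good 43678361 44051099 := k12_c1.trans k12_g2
theorem k12_g3 : Good 44051099 44175829 := Good.step (by norm_num) (by norm_num)
theorem k12_c3 : Good 43678361 44175829 := k12_c2.trans k12_g3
theorem k12_g4 : Good 44175829 44300791 := Good.step (by norm_num) (by norm_num)
theorem k12_c4 : Good 43678361 44300791 := k12_c3.trans k12_g4
theorem k12_g5 : Good 44300791 44425991 := Good.step (by norm_num) (by norm_num)
theorem k12_c5 : Good 43678361 44425991 := k12_c4.trans k12_g5
theorem k12_g6 : Good 44425991 44551427 := Good.step (by norm_num) (by norm_num)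
theorem k12_c6 : Good 43678361 44551427 := k12_c5.trans k12_g6
theorem k12_g7 : Good 44551427 44677099 := Good.step (by norm_num) (by norm_num)
theorem k12_c7 : Good 43678361 44677099 := k12_c6.trans k12_g7
theorem k12_g8 : Good 44677099 44803001 := Good.step (by norm_num) (by norm_num)
theorem k12_c8 : Good 43678361 44803001 := k12_c7.trans k12_g8
theorem k12_g9 : Good 44803001 44929103 := Good.step (by norm_num) (by norm_num)
theorem k12_c9 : Good 43678361 44929103 := k12_c8.trans k12_g9
theorem k12_g10 : Good 44929103 45055481 := Good.step (by norm_num) (by norm_num)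
theorem k12_c10 : Good 43678361 45055481 := k12_c9.trans k12_g10
theorem k12_g11 : Good 45055481 45182077 := Good.step (by norm_num) (by norm_num)
theorem k12_c11 : Good 43678361 45182077 := k12_c10.trans k12_g11
theorem k12_g12 : Good 45182077 45308911 := Good.step (by norm_num) (by norm_num)
theorem k12_c12 : Good 43678361 45308911 := k12_c11.trans k12_g12
theorem k12_g13 : Good 45308911 45435997 := Good.step (by norm_num) (by norm_num)
theorem k12_c13 : Good 43678361 45435997 := k12_c12.trans k12_g13
theorem k12_g14 : Good 45435997 45563269 := Good.step (by norm_num) (by norm_num)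
theorem k12_c14 : Good 43678361 45563269 := k12_c13.trans k12_g14
theorem k12_g15 : Good 45563269 45690833 := Good.step (by norm_num) (by norm_num)
theorem k12_c15 : Good 43678361 45690833 := k12_c14.trans k12_g15
theorem k12_g16 : Good 45690833 45818627 := Good.step (by norm_num) (by norm_num)
theorem k12_c16 : Good 43678361 45818627 := k12_c15.trans k12_g16
theorem k12_g17 : Good 45818627 45946633 := Good.step (by norm_num) (by norm_num)
theorem k12_c17 : Good 43678361 45946633 := k12_c16.trans k12_g17
theorem k12_g18 : Good 45946633 46074907 := Good.step (by norm_num) (by norm_num)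
theorem k12_c18 : Good 43678361 46074907 := k12_c17.trans k12_g18
theorem k12_g19 : Good 46074907 46203407 := Good.step (by norm_num) (by norm_num)
theorem k12_c19 : Good 43678361 46203407 := k12_c18.trans k12_g19
theorem k12_g20 : Good 46203407 46332163 := Good.step (by norm_num) (by norm_num)
theorem k12_c20 : Good 43678361 46332163 := k12_c19.trans k12_g20
theorem k12_g21 : Good 46332163 46461133 := Good.step (by norm_num) (by norm_num)
theorem k12_c21 : Good 43678361 46461133 := k12_c20.trans k12_g21
theorem k12_g22 : Good 46461133 46590359 := Good.step (by norm_num) (by norm_num)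
theorem k12_c22 : Good 43678361 46590359 := k12_c21.trans k12_g22
theorem k12_g23 : Good 46590359 46719811 := Good.step (by norm_num) (by norm_num)
theorem k12_c23 : Good 43678361 46719811 := k12_c22.trans k12_g23
theorem k12_g24 : Good 46719811 46849513 := Good.step (by norm_num) (by norm_num)
theorem k12_c24 : Good 43678361 46849513 := k12_c23.trans k12_g24
theorem k12_g25 : Good 46849513 46979453 := Good.step (by norm_num) (by norm_num)
theorem k12_c25 : Good 43678361 46979453 := k12_c24.trans k12_g25
theorem k12_g26 : Good 46979453 47109637 := Good.step (by norm_num) (by norm_num)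
theorem k12_c26 : Good 43678361 47109637 := k12_c25.trans k12_g26
theorem k12_g27 : Good 47109637 47240071 := Good.step (by norm_num) (by norm_num)
theorem k12_c27 : Good 43678361 47240071 := k12_c26.trans k12_g27
theorem k12_g28 : Good 47240071 47370749 := Good.step (by norm_num) (by norm_num)
theorem k12_c28 : Good 43678361 47370749 := k12_c27.trans k12_g28
theorem k12_g29 : Good 47370749 47501659 := Good.step (by norm_num) (by norm_num)
theorem k12_c29 : Good 43678361 47501659 := k12_c28.trans k12_g29
theorem k12_g30 : Good 47501659 47632807 := Good.step (by norm_num) (by norm_num)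
theorem k12_c30 : Good 43678361 47632807 := k12_c29.trans k12_g30
theorem k12_g31 : Good 47632807 47764207 := Good.step (by norm_num) (by norm_num)
theorem k12_c31 : Good 43678361 47764207 := k12_c30.trans k12_g31
theorem k12_g32 : Good 47764207 47895823 := Good.step (by norm_num) (by norm_num)
theorem k12_c32 : Good 43678361 47895823 := k12_c31.trans k12_g32
theorem k12_g33 : Good 47895823 48027691 := Good.step (by norm_num) (by norm_num)
theorem k12_c33 : Good 43678361 48027691 := k12_c32.trans k12_g33
theorem k12_g34 : Good 48027691 48159803 := Good.step (by norm_num) (by norm_num)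
theorem k12_c34 : Good 43678361 48159803 := k12_c33.trans k12_g34
theorem k12_g35 : Good 48159803 48292151 := Good.step (by norm_num) (by norm_num)
theorem k12_c35 : Good 43678361 48292151 := k12_c34.trans k12_g35
theorem k12_g36 : Good 48292151 48424757 := Good.step (by norm_num) (by norm_num)
theorem k12_c36 : Good 43678361 48424757 := k12_c35.trans k12_g36
theorem k12_g37 : Good 48424757 48557611 := Good.step (by norm_num) (by norm_num)
theorem k12_c37 : Good 43678361 48557611 := k12_c36.trans k12_g37
theorem k12_g38 : Good 48557611 48690661 := Good.step (by norm_num) (by norm_num)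
theorem k12_c38 : Good 43678361 48690661 := k12_c37.trans k12_g38
theorem k12_g39 : Good 48690661 48823997 := Good.step (by norm_num) (by norm_num)
theorem k12_c39 : Good 43678361 48823997 := k12_c38.trans k12_g39
theorem k12_g40 : Good 48823997 48957577 := Good.step (by norm_num) (by norm_num)
theorem k12_c40 : Good 43678361 48957577 := k12_c39.trans k12_g40
theorem k12_g41 : Good 48957577 49091401 := Good.step (by norm_num) (by norm_num)
theorem k12_c41 : Good 43678361 49091401 := k12_c40.trans k12_g41
theorem k12_g42 : Good 49091401 49225471 := Good.step (by norm_num) (by norm_num)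
theorem k12_c42 : Good 43678361 49225471 := k12_c41.trans k12_g42
theorem k12_g43 : Good 49225471 49359749 := Good.step (by norm_num) (by norm_num)
theorem k12_c43 : Good 43678361 49359749 := k12_c42.trans k12_g43
theorem k12_g44 : Good 49359749 49494301 := Good.step (by norm_num) (by norm_num)
theorem k12_c44 : Good 43678361 49494301 := k12_c43.trans k12_g44
theorem k12_g45 : Good 49494301 49629091 := Good.step (by norm_num) (by norm_num)
theorem k12_c45 : Good 43678361 49629091 := k12_c44.trans k12_g45
theorem k12_g46 : Good 49629091 49764137 := Good.step (by norm_num) (by norm_num)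
theorem k12_c46 : Good 43678361 49764137 := k12_c45.trans k12_g46
theorem k12_g47 : Good 49764137 49899407 := Good.step (by norm_num) (by norm_num)
theorem k12_c47 : Good 43678361 49899407 := k12_c46.trans k12_g47
theorem k12_g48 : Good 49899407 50034917 := Good.step (by norm_num) (by norm_num)
theorem k12_c48 : Good 43678361 50034917 := k12_c47.trans k12_g48
theorem k12_g49 : Good 50034917 50170693 := Good.step (by norm_num) (by norm_num)
theorem k12_c49 : Good 43678361 50170693 := k12_c48.trans k12_g49
theorem k12_g50 : Good 50170693 50306719 := Good.step (by norm_num) (by norm_num)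
theorem k12_c50 : Good 43678361 50306719 := k12_c49.trans k12_g50
theorem k12_g51 : Good 50306719 50442971 := Good.step (by norm_num) (by norm_num)
theorem k12_c51 : Good 43678361 50442971 := k12_c50.trans k12_g51
theorem k12_g52 : Good 50442971 50579483 := Good.step (by norm_num) (by norm_num)
theorem k12_c52 : Good 43678361 50579483 := k12_c51.trans k12_g52
theorem k12_g53 : Good 50579483 50716231 := Good.step (by norm_num) (by norm_num)
theorem k12_c53 : Good 43678361 50716231 := k12_c52.trans k12_g53
theorem k12_g54 : Good 50716231 50853241 := Good.step (by norm_num) (by norm_num)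
theorem k12_c54 : Good 43678361 50853241 := k12_c53.trans k12_g54
theorem k12_g55 : Good 50853241 50990483 := Good.step (by norm_num) (by norm_num)
theorem k12_c55 : Good 43678361 50990483 := k12_c54.trans k12_g55
theorem k12_g56 : Good 50990483 51127927 := Good.step (by norm_num) (by norm_num)
theorem k12_c56 : Good 43678361 51127927 := k12_c55.trans k12_g56
theorem k12_g57 : Good 51127927 51265651 := Good.step (by norm_num) (by norm_num)
theorem k12_c57 : Good 43678361 51265651 := k12_c56.trans k12_g57
theorem k12_g58 : Good 51265651 51403591 := Good.step (by norm_num) (by norm_num)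
theorem k12_c58 : Good 43678361 51403591 := k12_c57.trans k12_g58
theorem k12_g59 : Good 51403591 51541829 := Good.step (by norm_num) (by norm_num)
theorem k12_c59 : Good 43678361 51541829 := k12_c58.trans k12_g59
theorem k12_g60 : Good 51541829 51680309 := Good.step (by norm_num) (by norm_num)
theorem k12_c60 : Good 43678361 51680309 := k12_c59.trans k12_g60
theorem k12_g61 : Good 51680309 51819037 := Good.step (by norm_num) (by norm_num)
theorem k12_c61 : Good 43678361 51819037 := k12_c60.trans k12_g61
theorem k12_g62 : Good 51819037 51958021 := Good.step (by norm_num) (by norm_num)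
theorem k12_c62 : Good 43678361 51958021 := k12_c61.trans k12_g62
theorem k12_g63 : Good 51958021 52097249 := Good.step (by norm_num) (by norm_num)
theorem k12_c63 : Good 43678361 52097249 := k12_c62.trans k12_g63
theorem k12_g64 : Good 52097249 52236739 := Good.step (by norm_num) (by norm_num)
theorem k12_c64 : Good 43678361 52236739 := k12_c63.trans k12_g64
theorem k12_g65 : Good 52236739 52376461 := Good.step (by norm_num) (by norm_num)
theorem k12_c65 : Good 43678361 52376461 := k12_c64.trans k12_g65
theorem k12_g66 : Good 52376461 52516447 := Good.step (by norm_num) (by norm_num)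
theorem k12_c66 : Good 43678361 52516447 := k12_c65.trans k12_g66
theorem k12_g67 : Good 52516447 52656679 := Good.step (by norm_num) (by norm_num)
theorem k12_c67 : Good 43678361 52656679 := k12_c66.trans k12_g67
theorem k12_g68 : Good 52656679 52797149 := Good.step (by norm_num) (by norm_num)
theorem k12_c68 : Good 43678361 52797149 := k12_c67.trans k12_g68
theorem k12_g69 : Good 52797149 52937869 := Good.step (by norm_num) (by norm_num)
theorem k12_c69 : Good 43678361 52937869 := k12_c68.trans k12_g69
theorem k12_g70 : Good 52937869 53078849 := Good.step (by norm_num) (by norm_num)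
theorem k12_c70 : Good 43678361 53078849 := k12_c69.trans k12_g70
theorem k12_g71 : Good 53078849 53220077 := Good.step (by norm_num) (by norm_num)
theorem k12_c71 : Good 43678361 53220077 := k12_c70.trans k12_g71
theorem k12_g72 : Good 53220077 53361559 := Good.step (by norm_num) (by norm_num)
theorem k12_c72 : Good 43678361 53361559 := k12_c71.trans k12_g72
theorem k12_g73 : Good 53361559 53503217 := Good.step (by norm_num) (by norm_num)
theorem k12_c73 : Good 43678361 53503217 := k12_c72.trans k12_g73
theorem k12_g74 : Good 53503217 53645203 := Good.step (by norm_num) (by norm_num)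
theorem k12_c74 : Good 43678361 53645203 := k12_c73.trans k12_g74
theorem k12_g75 : Good 53645203 53787427 := Good.step (by norm_num) (by norm_num)
theorem k12_c75 : Good 43678361 53787427 := k12_c74.trans k12_g75
theorem k12_g76 : Good 53787427 53929907 := Good.step (by norm_num) (by norm_num)
theorem k12_c76 : Good 43678361 53929907 := k12_c75.trans k12_g76
theorem k12_g77 : Good 53929907 54072643 := Good.step (by norm_num) (by norm_num)
theorem k12_c77 : Good 43678361 54072643 := k12_c76.trans k12_g77
theorem k12_g78 : Good 54072643 54215617 := Good.step (by norm_num) (by norm_num)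
theorem k12_c78 : Good 43678361 54215617 := k12_c77.trans k12_g78
theorem k12_g79 : Good 54215617 54358861 := Good.step (by norm_num) (by norm_num)
theorem k12_c79 : Good 43678361 54358861 := k12_c78.trans k12_g79
theorem k12_g80 : Good 54358861 54502351 := Good.step (by norm_num) (by norm_num)
theorem k12_c80 : Good 43678361 54502351 := k12_c79.trans k12_g80
theorem k12_g81 : Good 54502351 54646099 := Good.step (by norm_num) (by norm_num)
theorem k12_c81 : Good 43678361 54646099 := k12_c80.trans k12_g81
theorem k12_g82 : Good 54646099 54790079 := Good.step (by norm_num) (by norm_num)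
theorem k12_c82 : Good 43678361 54790079 := k12_c81.trans k12_g82
theorem k12_g83 : Good 54790079 54934331 := Good.step (by norm_num) (by norm_num)
theorem k12_c83 : Good 43678361 54934331 := k12_c82.trans k12_g83
theorem k12_g84 : Good 54934331 55078823 := Good.step (by norm_num) (by norm_num)
theorem k12_c84 : Good 43678361 55078823 := k12_c83.trans k12_g84
theorem k12_g85 : Good 55078823 55223561 := Good.step (by norm_num) (by norm_num)
theorem k12_c85 : Good 43678361 55223561 := k12_c84.trans k12_g85
theorem k12_g86 : Good 55223561 55368559 := Good.step (by norm_num) (by norm_num)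
theorem k12_c86 : Good 43678361 55368559 := k12_c85.trans k12_g86
theorem k12_g87 : Good 55368559 55513793 := Good.step (by norm_num) (by norm_num)
theorem k12_c87 : Good 43678361 55513793 := k12_c86.trans k12_g87
theorem k12_g88 : Good 55513793 55659299 := Good.step (by norm_num) (by norm_num)
theorem k12_c88 : Good 43678361 55659299 := k12_c87.trans k12_g88
theorem k12_g89 : Good 55659299 55805063 := Good.step (by norm_num) (by norm_num)
theorem k12_c89 : Good 43678361 55805063 := k12_c88.trans k12_g89
theorem k12_g90 : Good 55805063 55951061 := Good.step (by norm_num) (by norm_num)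
theorem k12_c90 : Good 43678361 55951061 := k12_c89.trans k12_g90
theorem k12_g91 : Good 55951061 56097343 := Good.step (by norm_num) (by norm_num)
theorem k12_c91 : Good 43678361 56097343 := k12_c90.trans k12_g91
theorem k12_g92 : Good 56097343 56243881 := Good.step (by norm_num) (by norm_num)
theorem k12_c92 : Good 43678361 56243881 := k12_c91.trans k12_g92
theorem k12_g93 : Good 56243881 56390639 := Good.step (by norm_num) (by norm_num)
theorem k12_c93 : Good 43678361 56390639 := k12_c92.trans k12_g93
theorem k12_g94 : Good 56390639 56537681 := Good.step (by norm_num) (by norm_num)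
theorem k12_c94 : Good 43678361 56537681 := k12_c93.trans k12_g94
theorem k12_g95 : Good 56537681 56684911 := Good.step (by norm_num) (by norm_num)
theorem k12_c95 : Good 43678361 56684911 := k12_c94.trans k12_g95

theorem chunk12 : Good 43678361 56684911 := k12_c95

end Cfsg.Agent.Lib.H29.S3571Chain
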