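import Cfsg.Agent.Lib.H29.S3571ChainDefs

/-! helper29: S3571 SS11 prime chain, chunk 13 (generated): primes from 56684911 to 72048377.
One small declaration per link, so that elaboration stays linear. -/

set_option autoImplicit false

namespace Cfsg.Agent.Lib.H29.S3571Chain

theorem k13_g0 : Good 56684911 56832473 := Good.step (by norm_num) (by norm_num)
theorem k13_c0 : Good 56684911 56832473 := k13_g0
theorem k13_g1 : Good 56832473 56980279 := Good.step (by norm_num) (by norm_num)
theorem k13_c1 : Good 56684911 56980279 := k13_c0.trans k13_g1
theorem k13_g2 : Good 56980279 57128339 := Good.step (by norm_num) (by norm_num)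
theorem k13_c2 : Good 56684911 57128339 := k13_c1.trans k13_g2
theorem k13_g3 : Good 57128339 57276617 := Good.step (by norm_num) (by norm_num)
theorem k13_c3 : Good 56684911 57276617 := k13_c2.trans k13_g3
theorem k13_g4 : Good 57276617 57425197 := Good.step (by norm_num) (by norm_num)
theorem k13_c4 : Good 56684911 57425197 := k13_c3.trans k13_g4
theorem k13_g5 : Good 57425197 57574039 := Good.step (by norm_num) (by norm_num)
theorem k13_c5 : Good 56684911 57574039 := k13_c4.trans k13_g5
theorem k13_g6 : Good 57574039 57723139 := Good.step (by norm_num) (by norm_num)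
theorem k13_c6 : Good 56684911 57723139 := k13_c5.trans k13_g6
theorem k13_g7 : Good 57723139 57872491 := Good.step (by norm_num) (by norm_num)
theorem k13_c7 : Good 56684911 57872491 := k13_c6.trans k13_g7
theorem k13_g8 : Good 57872491 58022101 := Good.step (by norm_num) (by norm_num)
theorem k13_c8 : Good 56684911 58022101 := k13_c7.trans k13_g8
theorem k13_g9 : Good 58022101 58171973 := Good.step (by norm_num) (by norm_num)
theorem k13_c9 : Good 56684911 58171973 := k13_c8.trans k13_g9
theorem k13_g10 : Good 58171973 58322081 := Good.step (by norm_num) (by norm_num)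
theorem k13_c10 : Good 56684911 58322081 := k13_c9.trans k13_g10
theorem k13_g11 : Good 58322081 58472471 := Good.step (by norm_num) (by norm_num)
theorem k13_c11 : Good 56684911 58472471 := k13_c10.trans k13_g11
theorem k13_g12 : Good 58472471 58623119 := Good.step (by norm_num) (by norm_num)
theorem k13_c12 : Good 56684911 58623119 := k13_c11.trans k13_g12
theorem k13_g13 : Good 58623119 58774007 := Good.step (by norm_num) (by norm_num)
theorem k13_c13 : Good 56684911 58774007 := k13_c12.trans k13_g13
theorem k13_g14 : Good 58774007 58925173 := Good.step (by norm_num) (by norm_num)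
theorem k13_c14 : Good 56684911 58925173 := k13_c13.trans k13_g14
theorem k13_g15 : Good 58925173 59076599 := Good.step (by norm_num) (by norm_num)
theorem k13_c15 : Good 56684911 59076599 := k13_c14.trans k13_g15
theorem k13_g16 : Good 59076599 59228249 := Good.step (by norm_num) (by norm_num)
theorem k13_c16 : Good 56684911 59228249 := k13_c15.trans k13_g16
theorem k13_g17 : Good 59228249 59380147 := Good.step (by norm_num) (by norm_num)
theorem k13_c17 : Good 56684911 59380147 := k13_c16.trans k13_g17
theorem k13_g18 : Good 59380147 59532337 := Good.step (by norm_num) (by norm_num)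
theorem k13_c18 : Good 56684911 59532337 := k13_c17.trans k13_g18
theorem k13_g19 : Good 59532337 59684797 := Good.step (by norm_num) (by norm_num)
theorem k13_c19 : Good 56684911 59684797 := k13_c18.trans k13_g19
theorem k13_g20 : Good 59684797 59837521 := Good.step (by norm_num) (by norm_num)
theorem k13_c20 : Good 56684911 59837521 := k13_c19.trans k13_g20
theorem k13_g21 : Good 59837521 59990477 := Good.step (by norm_num) (by norm_num)
theorem k13_c21 : Good 56684911 59990477 := k13_c20.trans k13_g21
theorem k13_g22 : Good 59990477 60143669 := Good.step (by norm_num) (by norm_num)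
theorem k13_c22 : Good 56684911 60143669 := k13_c21.trans k13_g22
theorem k13_g23 : Good 60143669 60297143 := Good.step (by norm_num) (by norm_num)
theorem k13_c23 : Good 56684911 60297143 := k13_c22.trans k13_g23
theorem k13_g24 : Good 60297143 60450889 := Good.step (by norm_num) (by norm_num)
theorem k13_c24 : Good 56684911 60450889 := k13_c23.trans k13_g24
theorem k13_g25 : Good 60450889 60604909 := Good.step (by norm_num) (by norm_num)
theorem k13_c25 : Good 56684911 60604909 := k13_c24.trans k13_g25
theorem k13_g26 : Good 60604909 60759199 := Good.step (by norm_num) (by norm_num)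
theorem k13_c26 : Good 56684911 60759199 := k13_c25.trans k13_g26
theorem k13_g27 : Good 60759199 60913747 := Good.step (by norm_num) (by norm_num)
theorem k13_c27 : Good 56684911 60913747 := k13_c26.trans k13_g27
theorem k13_g28 : Good 60913747 61068559 := Good.step (by norm_num) (by norm_num)
theorem k13_c28 : Good 56684911 61068559 := k13_c27.trans k13_g28
theorem k13_g29 : Good 61068559 61223627 := Good.step (by norm_num) (by norm_num)
theorem k13_c29 : Good 56684911 61223627 := k13_c28.trans k13_g29
theorem k13_g30 : Good 61223627 61378951 := Good.step (by norm_num) (by norm_num)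
theorem k13_c30 : Good 56684911 61378951 := k13_c29.trans k13_g30
theorem k13_g31 : Good 61378951 61534541 := Good.step (by norm_num) (by norm_num)
theorem k13_c31 : Good 56684911 61534541 := k13_c30.trans k13_g31
theorem k13_g32 : Good 61534541 61690379 := Good.step (by norm_num) (by norm_num)
theorem k13_c32 : Good 56684911 61690379 := k13_c31.trans k13_g32
theorem k13_g33 : Good 61690379 61846489 := Good.step (by norm_num) (by norm_num)
theorem k13_c33 : Good 56684911 61846489 := k13_c32.trans k13_g33
theorem k13_g34 : Good 61846489 62002879 := Good.step (by norm_num) (by norm_num)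
theorem k13_c34 : Good 56684911 62002879 := k13_c33.trans k13_g34
theorem k13_g35 : Good 62002879 62159527 := Good.step (by norm_num) (by norm_num)
theorem k13_c35 : Good 56684911 62159527 := k13_c34.trans k13_g35
theorem k13_g36 : Good 62159527 62316439 := Good.step (by norm_num) (by norm_num)
theorem k13_c36 : Good 56684911 62316439 := k13_c35.trans k13_g36
theorem k13_g37 : Good 62316439 62473603 := Good.step (by norm_num) (by norm_num)
theorem k13_c37 : Good 56684911 62473603 := k13_c36.trans k13_g37
theorem k13_g38 : Good 62473603 62631031 := Good.step (by norm_num) (by norm_num)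
theorem k13_c38 : Good 56684911 62631031 := k13_c37.trans k13_g38
theorem k13_g39 : Good 62631031 62788717 := Good.step (by norm_num) (by norm_num)
theorem k13_c39 : Good 56684911 62788717 := k13_c38.trans k13_g39
theorem k13_g40 : Good 62788717 62946649 := Good.step (by norm_num) (by norm_num)
theorem k13_c40 : Good 56684911 62946649 := k13_c39.trans k13_g40
theorem k13_g41 : Good 62946649 63104887 := Good.step (by norm_num) (by norm_num)
theorem k13_c41 : Good 56684911 63104887 := k13_c40.trans k13_g41
theorem k13_g42 : Good 63104887 63263383 := Good.step (by norm_num) (by norm_num)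
theorem k13_c42 : Good 56684911 63263383 := k13_c41.trans k13_g42
theorem k13_g43 : Good 63263383 63422141 := Good.step (by norm_num) (by norm_num)
theorem k13_c43 : Good 56684911 63422141 := k13_c42.trans k13_g43
theorem k13_g44 : Good 63422141 63581149 := Good.step (by norm_num) (by norm_num)
theorem k13_c44 : Good 56684911 63581149 := k13_c43.trans k13_g44
theorem k13_g45 : Good 63581149 63740449 := Good.step (by norm_num) (by norm_num)
theorem k13_c45 : Good 56684911 63740449 := k13_c44.trans k13_g45
theorem k13_g46 : Good 63740449 63900013 := Good.step (by norm_num) (by norm_num)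
theorem k13_c46 : Good 56684911 63900013 := k13_c45.trans k13_g46
theorem k13_g47 : Good 63900013 64059833 := Good.step (by norm_num) (by norm_num)
theorem k13_c47 : Good 56684911 64059833 := k13_c46.trans k13_g47
theorem k13_g48 : Good 64059833 64219927 := Good.step (by norm_num) (by norm_num)
theorem k13_c48 : Good 56684911 64219927 := k13_c47.trans k13_g48
theorem k13_g49 : Good 64219927 64380293 := Good.step (by norm_num) (by norm_num)
theorem k13_c49 : Good 56684911 64380293 := k13_c48.trans k13_g49
theorem k13_g50 : Good 64380293 64540907 := Good.step (by norm_num) (by norm_num)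
theorem k13_c50 : Good 56684911 64540907 := k13_c49.trans k13_g50
theorem k13_g51 : Good 64540907 64701797 := Good.step (by norm_num) (by norm_num)
theorem k13_c51 : Good 56684911 64701797 := k13_c50.trans k13_g51
theorem k13_g52 : Good 64701797 64862951 := Good.step (by norm_num) (by norm_num)
theorem k13_c52 : Good 56684911 64862951 := k13_c51.trans k13_g52
theorem k13_g53 : Good 64862951 65024369 := Good.step (by norm_num) (by norm_num)
theorem k13_c53 : Good 56684911 65024369 := k13_c52.trans k13_g53
theorem k13_g54 : Good 65024369 65186063 := Good.step (by norm_num) (by norm_num)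
theorem k13_c54 : Good 56684911 65186063 := k13_c53.trans k13_g54
theorem k13_g55 : Good 65186063 65348009 := Good.step (by norm_num) (by norm_num)
theorem k13_c55 : Good 56684911 65348009 := k13_c54.trans k13_g55
theorem k13_g56 : Good 65348009 65510243 := Good.step (by norm_num) (by norm_num)
theorem k13_c56 : Good 56684911 65510243 := k13_c55.trans k13_g56
theorem k13_g57 : Good 65510243 65672729 := Good.step (by norm_num) (by norm_num)
theorem k13_c57 : Good 56684911 65672729 := k13_c56.trans k13_g57
theorem k13_g58 : Good 65672729 65835479 := Good.step (by norm_num) (by norm_num)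
theorem k13_c58 : Good 56684911 65835479 := k13_c57.trans k13_g58
theorem k13_g59 : Good 65835479 65998511 := Good.step (by norm_num) (by norm_num)
theorem k13_c59 : Good 56684911 65998511 := k13_c58.trans k13_g59
theorem k13_g60 : Good 65998511 66161813 := Good.step (by norm_num) (by norm_num)
theorem k13_c60 : Good 56684911 66161813 := k13_c59.trans k13_g60
theorem k13_g61 : Good 66161813 66325373 := Good.step (by norm_num) (by norm_num)
theorem k13_c61 : Good 56684911 66325373 := k13_c60.trans k13_g61
theorem k13_g62 : Good 66325373 66489217 := Good.step (by norm_num) (by norm_num)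
theorem k13_c62 : Good 56684911 66489217 := k13_c61.trans k13_g62
theorem k13_g63 : Good 66489217 66653299 := Good.step (by norm_num) (by norm_num)
theorem k13_c63 : Good 56684911 66653299 := k13_c62.trans k13_g63
theorem k13_g64 : Good 66653299 66817669 := Good.step (by norm_num) (by norm_num)
theorem k13_c64 : Good 56684911 66817669 := k13_c63.trans k13_g64
theorem k13_g65 : Good 66817669 66982327 := Good.step (by norm_num) (by norm_num)
theorem k13_c65 : Good 56684911 66982327 := k13_c64.trans k13_g65
theorem k13_g66 : Good 66982327 67147247 := Good.step (by norm_num) (by norm_num)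
theorem k13_c66 : Good 56684911 67147247 := k13_c65.trans k13_g66
theorem k13_g67 : Good 67147247 67312429 := Good.step (by norm_num) (by norm_num)
theorem k13_c67 : Good 56684911 67312429 := k13_c66.trans k13_g67
theorem k13_g68 : Good 67312429 67477889 := Good.step (by norm_num) (by norm_num)
theorem k13_c68 : Good 56684911 67477889 := k13_c67.trans k13_g68
theorem k13_g69 : Good 67477889 67643633 := Good.step (by norm_num) (by norm_num)
theorem k13_c69 : Good 56684911 67643633 := k13_c68.trans k13_g69
theorem k13_g70 : Good 67643633 67809649 := Good.step (by norm_num) (by norm_num)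
theorem k13_c70 : Good 56684911 67809649 := k13_c69.trans k13_g70
theorem k13_g71 : Good 67809649 67975931 := Good.step (by norm_num) (by norm_num)
theorem k13_c71 : Good 56684911 67975931 := k13_c70.trans k13_g71
theorem k13_g72 : Good 67975931 68142479 := Good.step (by norm_num) (by norm_num)
theorem k13_c72 : Good 56684911 68142479 := k13_c71.trans k13_g72
theorem k13_g73 : Good 68142479 68309303 := Good.step (by norm_num) (by norm_num)
theorem k13_c73 : Good 56684911 68309303 := k13_c72.trans k13_g73
theorem k13_g74 : Good 68309303 68476393 := Good.step (by norm_num) (by norm_num)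
theorem k13_c74 : Good 56684911 68476393 := k13_c73.trans k13_g74
theorem k13_g75 : Good 68476393 68643737 := Good.step (by norm_num) (by norm_num)
theorem k13_c75 : Good 56684911 68643737 := k13_c74.trans k13_g75
theorem k13_g76 : Good 68643737 68811317 := Good.step (by norm_num) (by norm_num)
theorem k13_c76 : Good 56684911 68811317 := k13_c75.trans k13_g76
theorem k13_g77 : Good 68811317 68979223 := Good.step (by norm_num) (by norm_num)
theorem k13_c77 : Good 56684911 68979223 := k13_c76.trans k13_g77
theorem k13_g78 : Good 68979223 69147401 := Good.step (by norm_num) (by norm_num)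
theorem k13_c78 : Good 56684911 69147401 := k13_c77.trans k13_g78
theorem k13_g79 : Good 69147401 69315863 := Good.step (by norm_num) (by norm_num)
theorem k13_c79 : Good 56684911 69315863 := k13_c78.trans k13_g79
theorem k13_g80 : Good 69315863 69484579 := Good.step (by norm_num) (by norm_num)
theorem k13_c80 : Good 56684911 69484579 := k13_c79.trans k13_g80
theorem k13_g81 : Good 69484579 69653587 := Good.step (by norm_num) (by norm_num)
theorem k13_c81 : Good 56684911 69653587 := k13_c80.trans k13_g81
theorem k13_g82 : Good 69653587 69822839 := Good.step (by norm_num) (by norm_num)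
theorem k13_c82 : Good 56684911 69822839 := k13_c81.trans k13_g82
theorem k13_g83 : Good 69822839 69992393 := Good.step (by norm_num) (by norm_num)
theorem k13_c83 : Good 56684911 69992393 := k13_c82.trans k13_g83
theorem k13_g84 : Good 69992393 70162217 := Good.step (by norm_num) (by norm_num)
theorem k13_c84 : Good 56684911 70162217 := k13_c83.trans k13_g84
theorem k13_g85 : Good 70162217 70332323 := Good.step (by norm_num) (by norm_num)
theorem k13_c85 : Good 56684911 70332323 := k13_c84.trans k13_g85
theorem k13_g86 : Good 70332323 70502687 := Good.step (by norm_num) (by norm_num)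
theorem k13_c86 : Good 56684911 70502687 := k13_c85.trans k13_g86
theorem k13_g87 : Good 70502687 70673297 := Good.step (by norm_num) (by norm_num)
theorem k13_c87 : Good 56684911 70673297 := k13_c86.trans k13_g87
theorem k13_g88 : Good 70673297 70844183 := Good.step (by norm_num) (by norm_num)
theorem k13_c88 : Good 56684911 70844183 := k13_c87.trans k13_g88
theorem k13_g89 : Good 70844183 71015387 := Good.step (by norm_num) (by norm_num)
theorem k13_c89 : Good 56684911 71015387 := k13_c88.trans k13_g89
theorem k13_g90 : Good 71015387 71186861 := Good.step (by norm_num) (by norm_num)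
theorem k13_c90 : Good 56684911 71186861 := k13_c89.trans k13_g90
theorem k13_g91 : Good 71186861 71358613 := Good.step (by norm_num) (by norm_num)
theorem k13_c91 : Good 56684911 71358613 := k13_c90.trans k13_g91
theorem k13_g92 : Good 71358613 71530637 := Good.step (by norm_num) (by norm_num)
theorem k13_c92 : Good 56684911 71530637 := k13_c91.trans k13_g92
theorem k13_g93 : Good 71530637 71702927 := Good.step (by norm_num) (by norm_num)
theorem k13_c93 : Good 56684911 71702927 := k13_c92.trans k13_g93
theorem k13_g94 : Good 71702927 71875513 := Good.step (by norm_num) (by norm_num)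
theorem k13_c94 : Good 56684911 71875513 := k13_c93.trans k13_g94
theorem k13_g95 : Good 71875513 72048377 := Good.step (by norm_num) (by norm_num)
theorem k13_c95 : Good 56684911 72048377 := k13_c94.trans k13_g95

theorem chunk13 : Good 56684911 72048377 := k13_c95

end Cfsg.Agent.Lib.H29.S3571Chain
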