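import Cfsg.Agent.Lib.H29.S3571ChainDefs

/-! helper29: S3571 SS11 prime chain, chunk 14 (generated): primes from 72048377 to 89965217.
One small declaration per link, so that elaboration stays linear. -/

set_option autoImplicit false

namespace Cfsg.Agent.Lib.H29.S3571Chain

theorem k14_g0 : Good 72048377 72221507 := Good.step (by norm_num) (by norm_num)
theorem k14_c0 : Good 72048377 72221507 := k14_g0
theorem k14_g1 : Good 72221507 72394913 := Good.step (by norm_num) (by norm_num)
theorem k14_c1 : Good 72048377 72394913 := k14_c0.trans k14_g1
theorem k14_g2 : Good 72394913 72568609 := Good.step (by norm_num) (by norm_num)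
theorem k14_c2 : Good 72048377 72568609 := k14_c1.trans k14_g2
theorem k14_g3 : Good 72568609 72742577 := Good.step (by norm_num) (by norm_num)
theorem k14_c3 : Good 72048377 72742577 := k14_c2.trans k14_g3
theorem k14_g4 : Good 72742577 72916799 := Good.step (by norm_num) (by norm_num)
theorem k14_c4 : Good 72048377 72916799 := k14_c3.trans k14_g4
theorem k14_g5 : Good 72916799 73091327 := Good.step (by norm_num) (by norm_num)
theorem k14_c5 : Good 72048377 73091327 := k14_c4.trans k14_g5
theorem k14_g6 : Good 73091327 73266133 := Good.step (by norm_num) (by norm_num)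
theorem k14_c6 : Good 72048377 73266133 := k14_c5.trans k14_g6
theorem k14_g7 : Good 73266133 73441217 := Good.step (by norm_num) (by norm_num)
theorem k14_c7 : Good 72048377 73441217 := k14_c6.trans k14_g7
theorem k14_g8 : Good 73441217 73616567 := Good.step (by norm_num) (by norm_num)
theorem k14_c8 : Good 72048377 73616567 := k14_c7.trans k14_g8
theorem k14_g9 : Good 73616567 73792193 := Good.step (by norm_num) (by norm_num)
theorem k14_c9 : Good 72048377 73792193 := k14_c8.trans k14_g9
theorem k14_g10 : Good 73792193 73968119 := Good.step (by norm_num) (by norm_num)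
theorem k14_c10 : Good 72048377 73968119 := k14_c9.trans k14_g10
theorem k14_g11 : Good 73968119 74144321 := Good.step (by norm_num) (by norm_num)
theorem k14_c11 : Good 72048377 74144321 := k14_c10.trans k14_g11
theorem k14_g12 : Good 74144321 74320801 := Good.step (by norm_num) (by norm_num)
theorem k14_c12 : Good 72048377 74320801 := k14_c11.trans k14_g12
theorem k14_g13 : Good 74320801 74497567 := Good.step (by norm_num) (by norm_num)
theorem k14_c13 : Good 72048377 74497567 := k14_c12.trans k14_g13
theorem k14_g14 : Good 74497567 74674609 := Good.step (by norm_num) (by norm_num)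
theorem k14_c14 : Good 72048377 74674609 := k14_c13.trans k14_g14
theorem k14_g15 : Good 74674609 74851927 := Good.step (by norm_num) (by norm_num)
theorem k14_c15 : Good 72048377 74851927 := k14_c14.trans k14_g15
theorem k14_g16 : Good 74851927 75029491 := Good.step (by norm_num) (by norm_num)
theorem k14_c16 : Good 72048377 75029491 := k14_c15.trans k14_g16
theorem k14_g17 : Good 75029491 75207373 := Good.step (by norm_num) (by norm_num)
theorem k14_c17 : Good 72048377 75207373 := k14_c16.trans k14_g17
theorem k14_g18 : Good 75207373 75385537 := Good.step (by norm_num) (by norm_num)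
theorem k14_c18 : Good 72048377 75385537 := k14_c17.trans k14_g18
theorem k14_g19 : Good 75385537 75563989 := Good.step (by norm_num) (by norm_num)
theorem k14_c19 : Good 72048377 75563989 := k14_c18.trans k14_g19
theorem k14_g20 : Good 75563989 75742717 := Good.step (by norm_num) (by norm_num)
theorem k14_c20 : Good 72048377 75742717 := k14_c19.trans k14_g20
theorem k14_g21 : Good 75742717 75921733 := Good.step (by norm_num) (by norm_num)
theorem k14_c21 : Good 72048377 75921733 := k14_c20.trans k14_g21
theorem k14_g22 : Good 75921733 76101031 := Good.step (by norm_num) (by norm_num)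
theorem k14_c22 : Good 72048377 76101031 := k14_c21.trans k14_g22
theorem k14_g23 : Good 76101031 76280609 := Good.step (by norm_num) (by norm_num)
theorem k14_c23 : Good 72048377 76280609 := k14_c22.trans k14_g23
theorem k14_g24 : Good 76280609 76460437 := Good.step (by norm_num) (by norm_num)
theorem k14_c24 : Good 72048377 76460437 := k14_c23.trans k14_g24
theorem k14_g25 : Good 76460437 76640581 := Good.step (by norm_num) (by norm_num)
theorem k14_c25 : Good 72048377 76640581 := k14_c24.trans k14_g25
theorem k14_g26 : Good 76640581 76821001 := Good.step (by norm_num) (by norm_num)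
theorem k14_c26 : Good 72048377 76821001 := k14_c25.trans k14_g26
theorem k14_g27 : Good 76821001 77001709 := Good.step (by norm_num) (by norm_num)
theorem k14_c27 : Good 72048377 77001709 := k14_c26.trans k14_g27
theorem k14_g28 : Good 77001709 77182577 := Good.step (by norm_num) (by norm_num)
theorem k14_c28 : Good 72048377 77182577 := k14_c27.trans k14_g28
theorem k14_g29 : Good 77182577 77363849 := Good.step (by norm_num) (by norm_num)
theorem k14_c29 : Good 72048377 77363849 := k14_c28.trans k14_g29
theorem k14_g30 : Good 77363849 77545409 := Good.step (by norm_num) (by norm_num)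
theorem k14_c30 : Good 72048377 77545409 := k14_c29.trans k14_g30
theorem k14_g31 : Good 77545409 77727253 := Good.step (by norm_num) (by norm_num)
theorem k14_c31 : Good 72048377 77727253 := k14_c30.trans k14_g31
theorem k14_g32 : Good 77727253 77909357 := Good.step (by norm_num) (by norm_num)
theorem k14_c32 : Good 72048377 77909357 := k14_c31.trans k14_g32
theorem k14_g33 : Good 77909357 78091771 := Good.step (by norm_num) (by norm_num)
theorem k14_c33 : Good 72048377 78091771 := k14_c32.trans k14_g33
theorem k14_g34 : Good 78091771 78274463 := Good.step (by norm_num) (by norm_num)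
theorem k14_c34 : Good 72048377 78274463 := k14_c33.trans k14_g34
theorem k14_g35 : Good 78274463 78457447 := Good.step (by norm_num) (by norm_num)
theorem k14_c35 : Good 72048377 78457447 := k14_c34.trans k14_g35
theorem k14_g36 : Good 78457447 78640697 := Good.step (by norm_num) (by norm_num)
theorem k14_c36 : Good 72048377 78640697 := k14_c35.trans k14_g36
theorem k14_g37 : Good 78640697 78824219 := Good.step (by norm_num) (by norm_num)
theorem k14_c37 : Good 72048377 78824219 := k14_c36.trans k14_g37
theorem k14_g38 : Good 78824219 79008047 := Good.step (by norm_num) (by norm_num)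
theorem k14_c38 : Good 72048377 79008047 := k14_c37.trans k14_g38
theorem k14_g39 : Good 79008047 79192163 := Good.step (by norm_num) (by norm_num)
theorem k14_c39 : Good 72048377 79192163 := k14_c38.trans k14_g39
theorem k14_g40 : Good 79192163 79376573 := Good.step (by norm_num) (by norm_num)
theorem k14_c40 : Good 72048377 79376573 := k14_c39.trans k14_g40
theorem k14_g41 : Good 79376573 79561267 := Good.step (by norm_num) (by norm_num)
theorem k14_c41 : Good 72048377 79561267 := k14_c40.trans k14_g41
theorem k14_g42 : Good 79561267 79746239 := Good.step (by norm_num) (by norm_num)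
theorem k14_c42 : Good 72048377 79746239 := k14_c41.trans k14_g42
theorem k14_g43 : Good 79746239 79931503 := Good.step (by norm_num) (by norm_num)
theorem k14_c43 : Good 72048377 79931503 := k14_c42.trans k14_g43
theorem k14_g44 : Good 79931503 80117033 := Good.step (by norm_num) (by norm_num)
theorem k14_c44 : Good 72048377 80117033 := k14_c43.trans k14_g44
theorem k14_g45 : Good 80117033 80302877 := Good.step (by norm_num) (by norm_num)
theorem k14_c45 : Good 72048377 80302877 := k14_c44.trans k14_g45
theorem k14_g46 : Good 80302877 80488987 := Good.step (by norm_num) (by norm_num)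
theorem k14_c46 : Good 72048377 80488987 := k14_c45.trans k14_g46
theorem k14_g47 : Good 80488987 80675393 := Good.step (by norm_num) (by norm_num)
theorem k14_c47 : Good 72048377 80675393 := k14_c46.trans k14_g47
theorem k14_g48 : Good 80675393 80862091 := Good.step (by norm_num) (by norm_num)
theorem k14_c48 : Good 72048377 80862091 := k14_c47.trans k14_g48
theorem k14_g49 : Good 80862091 81049051 := Good.step (by norm_num) (by norm_num)
theorem k14_c49 : Good 72048377 81049051 := k14_c48.trans k14_g49
theorem k14_g50 : Good 81049051 81236329 := Good.step (by norm_num) (by norm_num)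
theorem k14_c50 : Good 72048377 81236329 := k14_c49.trans k14_g50
theorem k14_g51 : Good 81236329 81423871 := Good.step (by norm_num) (by norm_num)
theorem k14_c51 : Good 72048377 81423871 := k14_c50.trans k14_g51
theorem k14_g52 : Good 81423871 81611729 := Good.step (by norm_num) (by norm_num)
theorem k14_c52 : Good 72048377 81611729 := k14_c51.trans k14_g52
theorem k14_g53 : Good 81611729 81799877 := Good.step (by norm_num) (by norm_num)
theorem k14_c53 : Good 72048377 81799877 := k14_c52.trans k14_g53
theorem k14_g54 : Good 81799877 81988303 := Good.step (by norm_num) (by norm_num)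
theorem k14_c54 : Good 72048377 81988303 := k14_c53.trans k14_g54
theorem k14_g55 : Good 81988303 82177027 := Good.step (by norm_num) (by norm_num)
theorem k14_c55 : Good 72048377 82177027 := k14_c54.trans k14_g55
theorem k14_g56 : Good 82177027 82366021 := Good.step (by norm_num) (by norm_num)
theorem k14_c56 : Good 72048377 82366021 := k14_c55.trans k14_g56
theorem k14_g57 : Good 82366021 82555327 := Good.step (by norm_num) (by norm_num)
theorem k14_c57 : Good 72048377 82555327 := k14_c56.trans k14_g57
theorem k14_g58 : Good 82555327 82744897 := Good.step (by norm_num) (by norm_num)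
theorem k14_c58 : Good 72048377 82744897 := k14_c57.trans k14_g58
theorem k14_g59 : Good 82744897 82934777 := Good.step (by norm_num) (by norm_num)
theorem k14_c59 : Good 72048377 82934777 := k14_c58.trans k14_g59
theorem k14_g60 : Good 82934777 83124953 := Good.step (by norm_num) (by norm_num)
theorem k14_c60 : Good 72048377 83124953 := k14_c59.trans k14_g60
theorem k14_g61 : Good 83124953 83315377 := Good.step (by norm_num) (by norm_num)
theorem k14_c61 : Good 72048377 83315377 := k14_c60.trans k14_g61
theorem k14_g62 : Good 83315377 83506127 := Good.step (by norm_num) (by norm_num)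
theorem k14_c62 : Good 72048377 83506127 := k14_c61.trans k14_g62
theorem k14_g63 : Good 83506127 83697169 := Good.step (by norm_num) (by norm_num)
theorem k14_c63 : Good 72048377 83697169 := k14_c62.trans k14_g63
theorem k14_g64 : Good 83697169 83888507 := Good.step (by norm_num) (by norm_num)
theorem k14_c64 : Good 72048377 83888507 := k14_c63.trans k14_g64
theorem k14_g65 : Good 83888507 84080131 := Good.step (by norm_num) (by norm_num)
theorem k14_c65 : Good 72048377 84080131 := k14_c64.trans k14_g65
theorem k14_g66 : Good 84080131 84272021 := Good.step (by norm_num) (by norm_num)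
theorem k14_c66 : Good 72048377 84272021 := k14_c65.trans k14_g66
theorem k14_g67 : Good 84272021 84464221 := Good.step (by norm_num) (by norm_num)
theorem k14_c67 : Good 72048377 84464221 := k14_c66.trans k14_g67
theorem k14_g68 : Good 84464221 84656717 := Good.step (by norm_num) (by norm_num)
theorem k14_c68 : Good 72048377 84656717 := k14_c67.trans k14_g68
theorem k14_g69 : Good 84656717 84849517 := Good.step (by norm_num) (by norm_num)
theorem k14_c69 : Good 72048377 84849517 := k14_c68.trans k14_g69
theorem k14_g70 : Good 84849517 85042603 := Good.step (by norm_num) (by norm_num)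
theorem k14_c70 : Good 72048377 85042603 := k14_c69.trans k14_g70
theorem k14_g71 : Good 85042603 85235951 := Good.step (by norm_num) (by norm_num)
theorem k14_c71 : Good 72048377 85235951 := k14_c70.trans k14_g71
theorem k14_g72 : Good 85235951 85429579 := Good.step (by norm_num) (by norm_num)
theorem k14_c72 : Good 72048377 85429579 := k14_c71.trans k14_g72
theorem k14_g73 : Good 85429579 85623541 := Good.step (by norm_num) (by norm_num)
theorem k14_c73 : Good 72048377 85623541 := k14_c72.trans k14_g73
theorem k14_g74 : Good 85623541 85817803 := Good.step (by norm_num) (by norm_num)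
theorem k14_c74 : Good 72048377 85817803 := k14_c73.trans k14_g74
theorem k14_g75 : Good 85817803 86012357 := Good.step (by norm_num) (by norm_num)
theorem k14_c75 : Good 72048377 86012357 := k14_c74.trans k14_g75
theorem k14_g76 : Good 86012357 86207183 := Good.step (by norm_num) (by norm_num)
theorem k14_c76 : Good 72048377 86207183 := k14_c75.trans k14_g76
theorem k14_g77 : Good 86207183 86402311 := Good.step (by norm_num) (by norm_num)
theorem k14_c77 : Good 72048377 86402311 := k14_c76.trans k14_g77
theorem k14_g78 : Good 86402311 86597729 := Good.step (by norm_num) (by norm_num)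
theorem k14_c78 : Good 72048377 86597729 := k14_c77.trans k14_g78
theorem k14_g79 : Good 86597729 86793461 := Good.step (by norm_num) (by norm_num)
theorem k14_c79 : Good 72048377 86793461 := k14_c78.trans k14_g79
theorem k14_g80 : Good 86793461 86989421 := Good.step (by norm_num) (by norm_num)
theorem k14_c80 : Good 72048377 86989421 := k14_c79.trans k14_g80
theorem k14_g81 : Good 86989421 87185729 := Good.step (by norm_num) (by norm_num)
theorem k14_c81 : Good 72048377 87185729 := k14_c80.trans k14_g81
theorem k14_g82 : Good 87185729 87382343 := Good.step (by norm_num) (by norm_num)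
theorem k14_c82 : Good 72048377 87382343 := k14_c81.trans k14_g82
theorem k14_g83 : Good 87382343 87579253 := Good.step (by norm_num) (by norm_num)
theorem k14_c83 : Good 72048377 87579253 := k14_c82.trans k14_g83
theorem k14_g84 : Good 87579253 87776443 := Good.step (by norm_num) (by norm_num)
theorem k14_c84 : Good 72048377 87776443 := k14_c83.trans k14_g84
theorem k14_g85 : Good 87776443 87973913 := Good.step (by norm_num) (by norm_num)
theorem k14_c85 : Good 72048377 87973913 := k14_c84.trans k14_g85
theorem k14_g86 : Good 87973913 88171717 := Good.step (by norm_num) (by norm_num)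
theorem k14_c86 : Good 72048377 88171717 := k14_c85.trans k14_g86
theorem k14_g87 : Good 88171717 88369807 := Good.step (by norm_num) (by norm_num)
theorem k14_c87 : Good 72048377 88369807 := k14_c86.trans k14_g87
theorem k14_g88 : Good 88369807 88568203 := Good.step (by norm_num) (by norm_num)
theorem k14_c88 : Good 72048377 88568203 := k14_c87.trans k14_g88
theorem k14_g89 : Good 88568203 88766869 := Good.step (by norm_num) (by norm_num)
theorem k14_c89 : Good 72048377 88766869 := k14_c88.trans k14_g89
theorem k14_g90 : Good 88766869 88965857 := Good.step (by norm_num) (by norm_num)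
theorem k14_c90 : Good 72048377 88965857 := k14_c89.trans k14_g90
theorem k14_g91 : Good 88965857 89165113 := Good.step (by norm_num) (by norm_num)
theorem k14_c91 : Good 72048377 89165113 := k14_c90.trans k14_g91
theorem k14_g92 : Good 89165113 89364697 := Good.step (by norm_num) (by norm_num)
theorem k14_c92 : Good 72048377 89364697 := k14_c91.trans k14_g92
theorem k14_g93 : Good 89364697 89564567 := Good.step (by norm_num) (by norm_num)
theorem k14_c93 : Good 72048377 89564567 := k14_c92.trans k14_g93
theorem k14_g94 : Good 89564567 89764739 := Good.step (by norm_num) (by norm_num)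
theorem k14_c94 : Good 72048377 89764739 := k14_c93.trans k14_g94
theorem k14_g95 : Good 89764739 89965217 := Good.step (by norm_num) (by norm_num)
theorem k14_c95 : Good 72048377 89965217 := k14_c94.trans k14_g95

theorem chunk14 : Good 72048377 89965217 := k14_c95

end Cfsg.Agent.Lib.H29.S3571Chain
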