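import Cfsg.Agent.Lib.H29.S3571ChainDefs

/-! helper29: S3571 SS11 prime chain, chunk 15 (generated): primes from 89965217 to 110631709.
One small declaration per link, so that elaboration stays linear. -/

set_option autoImplicit false

namespace Cfsg.Agent.Lib.H29.S3571Chain

theorem k15_g0 : Good 89965217 90165979 := Good.step (by norm_num) (by norm_num)
theorem k15_c0 : Good 89965217 90165979 := k15_g0
theorem k15_g1 : Good 90165979 90367051 := Good.step (by norm_num) (by norm_num)
theorem k15_c1 : Good 89965217 90367051 := k15_c0.trans k15_g1
theorem k15_g2 : Good 90367051 90568409 := Good.step (by norm_num) (by norm_num)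
theorem k15_c2 : Good 89965217 90568409 := k15_c1.trans k15_g2
theorem k15_g3 : Good 90568409 90770083 := Good.step (by norm_num) (by norm_num)
theorem k15_c3 : Good 89965217 90770083 := k15_c2.trans k15_g3
theorem k15_g4 : Good 90770083 90972053 := Good.step (by norm_num) (by norm_num)
theorem k15_c4 : Good 89965217 90972053 := k15_c3.trans k15_g4
theorem k15_g5 : Good 90972053 91174309 := Good.step (by norm_num) (by norm_num)
theorem k15_c5 : Good 89965217 91174309 := k15_c4.trans k15_g5
theorem k15_g6 : Good 91174309 91376869 := Good.step (by norm_num) (by norm_num)
theorem k15_c6 : Good 89965217 91376869 := k15_c5.trans k15_g6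
theorem k15_g7 : Good 91376869 91579739 := Good.step (by norm_num) (by norm_num)
theorem k15_c7 : Good 89965217 91579739 := k15_c6.trans k15_g7
theorem k15_g8 : Good 91579739 91782893 := Good.step (by norm_num) (by norm_num)
theorem k15_c8 : Good 89965217 91782893 := k15_c7.trans k15_g8
theorem k15_g9 : Good 91782893 91986341 := Good.step (by norm_num) (by norm_num)
theorem k15_c9 : Good 89965217 91986341 := k15_c8.trans k15_g9
theorem k15_g10 : Good 91986341 92190113 := Good.step (by norm_num) (by norm_num)
theorem k15_c10 : Good 89965217 92190113 := k15_c9.trans k15_g10
theorem k15_g11 : Good 92190113 92394187 := Good.step (by norm_num) (by norm_num)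
theorem k15_c11 : Good 89965217 92394187 := k15_c10.trans k15_g11
theorem k15_g12 : Good 92394187 92598557 := Good.step (by norm_num) (by norm_num)
theorem k15_c12 : Good 89965217 92598557 := k15_c11.trans k15_g12
theorem k15_g13 : Good 92598557 92803223 := Good.step (by norm_num) (by norm_num)
theorem k15_c13 : Good 89965217 92803223 := k15_c12.trans k15_g13
theorem k15_g14 : Good 92803223 93008197 := Good.step (by norm_num) (by norm_num)
theorem k15_c14 : Good 89965217 93008197 := k15_c13.trans k15_g14
theorem k15_g15 : Good 93008197 93213469 := Good.step (by norm_num) (by norm_num)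
theorem k15_c15 : Good 89965217 93213469 := k15_c14.trans k15_g15
theorem k15_g16 : Good 93213469 93419009 := Good.step (by norm_num) (by norm_num)
theorem k15_c16 : Good 89965217 93419009 := k15_c15.trans k15_g16
theorem k15_g17 : Good 93419009 93624887 := Good.step (by norm_num) (by norm_num)
theorem k15_c17 : Good 89965217 93624887 := k15_c16.trans k15_g17
theorem k15_g18 : Good 93624887 93831071 := Good.step (by norm_num) (by norm_num)
theorem k15_c18 : Good 89965217 93831071 := k15_c17.trans k15_g18
theorem k15_g19 : Good 93831071 94037549 := Good.step (by norm_num) (by norm_num)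
theorem k15_c19 : Good 89965217 94037549 := k15_c18.trans k15_g19
theorem k15_g20 : Good 94037549 94244333 := Good.step (by norm_num) (by norm_num)
theorem k15_c20 : Good 89965217 94244333 := k15_c19.trans k15_g20
theorem k15_g21 : Good 94244333 94451419 := Good.step (by norm_num) (by norm_num)
theorem k15_c21 : Good 89965217 94451419 := k15_c20.trans k15_g21
theorem k15_g22 : Good 94451419 94658807 := Good.step (by norm_num) (by norm_num)
theorem k15_c22 : Good 89965217 94658807 := k15_c21.trans k15_g22
theorem k15_g23 : Good 94658807 94866503 := Good.step (by norm_num) (by norm_num)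
theorem k15_c23 : Good 89965217 94866503 := k15_c22.trans k15_g23
theorem k15_g24 : Good 94866503 95074501 := Good.step (by norm_num) (by norm_num)
theorem k15_c24 : Good 89965217 95074501 := k15_c23.trans k15_g24
theorem k15_g25 : Good 95074501 95282753 := Good.step (by norm_num) (by norm_num)
theorem k15_c25 : Good 89965217 95282753 := k15_c24.trans k15_g25
theorem k15_g26 : Good 95282753 95491351 := Good.step (by norm_num) (by norm_num)
theorem k15_c26 : Good 89965217 95491351 := k15_c25.trans k15_g26
theorem k15_g27 : Good 95491351 95700257 := Good.step (by norm_num) (by norm_num)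
theorem k15_c27 : Good 89965217 95700257 := k15_c26.trans k15_g27
theorem k15_g28 : Good 95700257 95909477 := Good.step (by norm_num) (by norm_num)
theorem k15_c28 : Good 89965217 95909477 := k15_c27.trans k15_g28
theorem k15_g29 : Good 95909477 96118999 := Good.step (by norm_num) (by norm_num)
theorem k15_c29 : Good 89965217 96118999 := k15_c28.trans k15_g29
theorem k15_g30 : Good 96118999 96328823 := Good.step (by norm_num) (by norm_num)
theorem k15_c30 : Good 89965217 96328823 := k15_c29.trans k15_g30
theorem k15_g31 : Good 96328823 96538933 := Good.step (by norm_num) (by norm_num)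
theorem k15_c31 : Good 89965217 96538933 := k15_c30.trans k15_g31
theorem k15_g32 : Good 96538933 96749371 := Good.step (by norm_num) (by norm_num)
theorem k15_c32 : Good 89965217 96749371 := k15_c31.trans k15_g32
theorem k15_g33 : Good 96749371 96960113 := Good.step (by norm_num) (by norm_num)
theorem k15_c33 : Good 89965217 96960113 := k15_c32.trans k15_g33
theorem k15_g34 : Good 96960113 97171157 := Good.step (by norm_num) (by norm_num)
theorem k15_c34 : Good 89965217 97171157 := k15_c33.trans k15_g34
theorem k15_g35 : Good 97171157 97382513 := Good.step (by norm_num) (by norm_num)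
theorem k15_c35 : Good 89965217 97382513 := k15_c34.trans k15_g35
theorem k15_g36 : Good 97382513 97594171 := Good.step (by norm_num) (by norm_num)
theorem k15_c36 : Good 89965217 97594171 := k15_c35.trans k15_g36
theorem k15_g37 : Good 97594171 97806113 := Good.step (by norm_num) (by norm_num)
theorem k15_c37 : Good 89965217 97806113 := k15_c36.trans k15_g37
theorem k15_g38 : Good 97806113 98018383 := Good.step (by norm_num) (by norm_num)
theorem k15_c38 : Good 89965217 98018383 := k15_c37.trans k15_g38
theorem k15_g39 : Good 98018383 98230961 := Good.step (by norm_num) (by norm_num)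
theorem k15_c39 : Good 89965217 98230961 := k15_c38.trans k15_g39
theorem k15_g40 : Good 98230961 98443847 := Good.step (by norm_num) (by norm_num)
theorem k15_c40 : Good 89965217 98443847 := k15_c39.trans k15_g40
theorem k15_g41 : Good 98443847 98657047 := Good.step (by norm_num) (by norm_num)
theorem k15_c41 : Good 89965217 98657047 := k15_c40.trans k15_g41
theorem k15_g42 : Good 98657047 98870507 := Good.step (by norm_num) (by norm_num)
theorem k15_c42 : Good 89965217 98870507 := k15_c41.trans k15_g42
theorem k15_g43 : Good 98870507 99084317 := Good.step (by norm_num) (by norm_num)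
theorem k15_c43 : Good 89965217 99084317 := k15_c42.trans k15_g43
theorem k15_g44 : Good 99084317 99298439 := Good.step (by norm_num) (by norm_num)
theorem k15_c44 : Good 89965217 99298439 := k15_c43.trans k15_g44
theorem k15_g45 : Good 99298439 99512867 := Good.step (by norm_num) (by norm_num)
theorem k15_c45 : Good 89965217 99512867 := k15_c44.trans k15_g45
theorem k15_g46 : Good 99512867 99727603 := Good.step (by norm_num) (by norm_num)
theorem k15_c46 : Good 89965217 99727603 := k15_c45.trans k15_g46
theorem k15_g47 : Good 99727603 99942629 := Good.step (by norm_num) (by norm_num)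
theorem k15_c47 : Good 89965217 99942629 := k15_c46.trans k15_g47
theorem k15_g48 : Good 99942629 100157977 := Good.step (by norm_num) (by norm_num)
theorem k15_c48 : Good 89965217 100157977 := k15_c47.trans k15_g48
theorem k15_g49 : Good 100157977 100373621 := Good.step (by norm_num) (by norm_num)
theorem k15_c49 : Good 89965217 100373621 := k15_c48.trans k15_g49
theorem k15_g50 : Good 100373621 100589597 := Good.step (by norm_num) (by norm_num)
theorem k15_c50 : Good 89965217 100589597 := k15_c49.trans k15_g50
theorem k15_g51 : Good 100589597 100805863 := Good.step (by norm_num) (by norm_num)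
theorem k15_c51 : Good 89965217 100805863 := k15_c50.trans k15_g51
theorem k15_g52 : Good 100805863 101022461 := Good.step (by norm_num) (by norm_num)
theorem k15_c52 : Good 89965217 101022461 := k15_c51.trans k15_g52
theorem k15_g53 : Good 101022461 101239351 := Good.step (by norm_num) (by norm_num)
theorem k15_c53 : Good 89965217 101239351 := k15_c52.trans k15_g53
theorem k15_g54 : Good 101239351 101456569 := Good.step (by norm_num) (by norm_num)
theorem k15_c54 : Good 89965217 101456569 := k15_c53.trans k15_g54
theorem k15_g55 : Good 101456569 101674091 := Good.step (by norm_num) (by norm_num)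
theorem k15_c55 : Good 89965217 101674091 := k15_c54.trans k15_g55
theorem k15_g56 : Good 101674091 101891921 := Good.step (by norm_num) (by norm_num)
theorem k15_c56 : Good 89965217 101891921 := k15_c55.trans k15_g56
theorem k15_g57 : Good 101891921 102110069 := Good.step (by norm_num) (by norm_num)
theorem k15_c57 : Good 89965217 102110069 := k15_c56.trans k15_g57
theorem k15_g58 : Good 102110069 102328517 := Good.step (by norm_num) (by norm_num)
theorem k15_c58 : Good 89965217 102328517 := k15_c57.trans k15_g58
theorem k15_g59 : Good 102328517 102547259 := Good.step (by norm_num) (by norm_num)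
theorem k15_c59 : Good 89965217 102547259 := k15_c58.trans k15_g59
theorem k15_g60 : Good 102547259 102766337 := Good.step (by norm_num) (by norm_num)
theorem k15_c60 : Good 89965217 102766337 := k15_c59.trans k15_g60
theorem k15_g61 : Good 102766337 102985733 := Good.step (by norm_num) (by norm_num)
theorem k15_c61 : Good 89965217 102985733 := k15_c60.trans k15_g61
theorem k15_g62 : Good 102985733 103205413 := Good.step (by norm_num) (by norm_num)
theorem k15_c62 : Good 89965217 103205413 := k15_c61.trans k15_g62
theorem k15_g63 : Good 103205413 103425409 := Good.step (by norm_num) (by norm_num)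
theorem k15_c63 : Good 89965217 103425409 := k15_c62.trans k15_g63
theorem k15_g64 : Good 103425409 103645721 := Good.step (by norm_num) (by norm_num)
theorem k15_c64 : Good 89965217 103645721 := k15_c63.trans k15_g64
theorem k15_g65 : Good 103645721 103866359 := Good.step (by norm_num) (by norm_num)
theorem k15_c65 : Good 89965217 103866359 := k15_c64.trans k15_g65
theorem k15_g66 : Good 103866359 104087309 := Good.step (by norm_num) (by norm_num)
theorem k15_c66 : Good 89965217 104087309 := k15_c65.trans k15_g66
theorem k15_g67 : Good 104087309 104308579 := Good.step (by norm_num) (by norm_num)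
theorem k15_c67 : Good 89965217 104308579 := k15_c66.trans k15_g67
theorem k15_g68 : Good 104308579 104530163 := Good.step (by norm_num) (by norm_num)
theorem k15_c68 : Good 89965217 104530163 := k15_c67.trans k15_g68
theorem k15_g69 : Good 104530163 104752033 := Good.step (by norm_num) (by norm_num)
theorem k15_c69 : Good 89965217 104752033 := k15_c68.trans k15_g69
theorem k15_g70 : Good 104752033 104974159 := Good.step (by norm_num) (by norm_num)
theorem k15_c70 : Good 89965217 104974159 := k15_c69.trans k15_g70
theorem k15_g71 : Good 104974159 105196667 := Good.step (by norm_num) (by norm_num)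
theorem k15_c71 : Good 89965217 105196667 := k15_c70.trans k15_g71
theorem k15_g72 : Good 105196667 105419477 := Good.step (by norm_num) (by norm_num)
theorem k15_c72 : Good 89965217 105419477 := k15_c71.trans k15_g72
theorem k15_g73 : Good 105419477 105642617 := Good.step (by norm_num) (by norm_num)
theorem k15_c73 : Good 89965217 105642617 := k15_c72.trans k15_g73
theorem k15_g74 : Good 105642617 105866087 := Good.step (by norm_num) (by norm_num)
theorem k15_c74 : Good 89965217 105866087 := k15_c73.trans k15_g74
theorem k15_g75 : Good 105866087 106089829 := Good.step (by norm_num) (by norm_num)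
theorem k15_c75 : Good 89965217 106089829 := k15_c74.trans k15_g75
theorem k15_g76 : Good 106089829 106313899 := Good.step (by norm_num) (by norm_num)
theorem k15_c76 : Good 89965217 106313899 := k15_c75.trans k15_g76
theorem k15_g77 : Good 106313899 106538297 := Good.step (by norm_num) (by norm_num)
theorem k15_c77 : Good 89965217 106538297 := k15_c76.trans k15_g77
theorem k15_g78 : Good 106538297 106763029 := Good.step (by norm_num) (by norm_num)
theorem k15_c78 : Good 89965217 106763029 := k15_c77.trans k15_g78
theorem k15_g79 : Good 106763029 106988039 := Good.step (by norm_num) (by norm_num)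
theorem k15_c79 : Good 89965217 106988039 := k15_c78.trans k15_g79
theorem k15_g80 : Good 106988039 107213399 := Good.step (by norm_num) (by norm_num)
theorem k15_c80 : Good 89965217 107213399 := k15_c79.trans k15_g80
theorem k15_g81 : Good 107213399 107439071 := Good.step (by norm_num) (by norm_num)
theorem k15_c81 : Good 89965217 107439071 := k15_c80.trans k15_g81
theorem k15_g82 : Good 107439071 107665043 := Good.step (by norm_num) (by norm_num)
theorem k15_c82 : Good 89965217 107665043 := k15_c81.trans k15_g82
theorem k15_g83 : Good 107665043 107891359 := Good.step (by norm_num) (by norm_num)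
theorem k15_c83 : Good 89965217 107891359 := k15_c82.trans k15_g83
theorem k15_g84 : Good 107891359 108117991 := Good.step (by norm_num) (by norm_num)
theorem k15_c84 : Good 89965217 108117991 := k15_c83.trans k15_g84
theorem k15_g85 : Good 108117991 108344939 := Good.step (by norm_num) (by norm_num)
theorem k15_c85 : Good 89965217 108344939 := k15_c84.trans k15_g85
theorem k15_g86 : Good 108344939 108572161 := Good.step (by norm_num) (by norm_num)
theorem k15_c86 : Good 89965217 108572161 := k15_c85.trans k15_g86
theorem k15_g87 : Good 108572161 108799709 := Good.step (by norm_num) (by norm_num)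
theorem k15_c87 : Good 89965217 108799709 := k15_c86.trans k15_g87
theorem k15_g88 : Good 108799709 109027601 := Good.step (by norm_num) (by norm_num)
theorem k15_c88 : Good 89965217 109027601 := k15_c87.trans k15_g88
theorem k15_g89 : Good 109027601 109255813 := Good.step (by norm_num) (by norm_num)
theorem k15_c89 : Good 89965217 109255813 := k15_c88.trans k15_g89
theorem k15_g90 : Good 109255813 109484339 := Good.step (by norm_num) (by norm_num)
theorem k15_c90 : Good 89965217 109484339 := k15_c89.trans k15_g90
theorem k15_g91 : Good 109484339 109713173 := Good.step (by norm_num) (by norm_num)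
theorem k15_c91 : Good 89965217 109713173 := k15_c90.trans k15_g91
theorem k15_g92 : Good 109713173 109942321 := Good.step (by norm_num) (by norm_num)
theorem k15_c92 : Good 89965217 109942321 := k15_c91.trans k15_g92
theorem k15_g93 : Good 109942321 110171813 := Good.step (by norm_num) (by norm_num)
theorem k15_c93 : Good 89965217 110171813 := k15_c92.trans k15_g93
theorem k15_g94 : Good 110171813 110401607 := Good.step (by norm_num) (by norm_num)
theorem k15_c94 : Good 89965217 110401607 := k15_c93.trans k15_g94
theorem k15_g95 : Good 110401607 110631709 := Good.step (by norm_num) (by norm_num)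
theorem k15_c95 : Good 89965217 110631709 := k15_c94.trans k15_g95

theorem chunk15 : Good 89965217 110631709 := k15_c95

end Cfsg.Agent.Lib.H29.S3571Chain
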