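import Cfsg.Agent.Lib.H29.S3571ChainDefs

/-! helper29: S3571 SS11 prime chain, chunk 16 (generated): primes from 110631709 to 134244503.
One small declaration per link, so that elaboration stays linear. -/

set_option autoImplicit false

namespace Cfsg.Agent.Lib.H29.S3571Chain

theorem k16_g0 : Good 110631709 110862149 := Good.step (by norm_num) (by norm_num)
theorem k16_c0 : Good 110631709 110862149 := k16_g0
theorem k16_g1 : Good 110862149 111092911 := Good.step (by norm_num) (by norm_num)
theorem k16_c1 : Good 110631709 111092911 := k16_c0.trans k16_g1
theorem k16_g2 : Good 111092911 111324001 := Good.step (by norm_num) (by norm_num)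
theorem k16_c2 : Good 110631709 111324001 := k16_c1.trans k16_g2
theorem k16_g3 : Good 111324001 111555349 := Good.step (by norm_num) (by norm_num)
theorem k16_c3 : Good 110631709 111555349 := k16_c2.trans k16_g3
theorem k16_g4 : Good 111555349 111787079 := Good.step (by norm_num) (by norm_num)
theorem k16_c4 : Good 110631709 111787079 := k16_c3.trans k16_g4
theorem k16_g5 : Good 111787079 112019123 := Good.step (by norm_num) (by norm_num)
theorem k16_c5 : Good 110631709 112019123 := k16_c4.trans k16_g5
theorem k16_g6 : Good 112019123 112251499 := Good.step (by norm_num) (by norm_num)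
theorem k16_c6 : Good 110631709 112251499 := k16_c5.trans k16_g6
theorem k16_g7 : Good 112251499 112484143 := Good.step (by norm_num) (by norm_num)
theorem k16_c7 : Good 110631709 112484143 := k16_c6.trans k16_g7
theorem k16_g8 : Good 112484143 112717103 := Good.step (by norm_num) (by norm_num)
theorem k16_c8 : Good 110631709 112717103 := k16_c7.trans k16_g8
theorem k16_g9 : Good 112717103 112950443 := Good.step (by norm_num) (by norm_num)
theorem k16_c9 : Good 110631709 112950443 := k16_c8.trans k16_g9
theorem k16_g10 : Good 112950443 113184101 := Good.step (by norm_num) (by norm_num)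
theorem k16_c10 : Good 110631709 113184101 := k16_c9.trans k16_g10
theorem k16_g11 : Good 113184101 113418079 := Good.step (by norm_num) (by norm_num)
theorem k16_c11 : Good 110631709 113418079 := k16_c10.trans k16_g11
theorem k16_g12 : Good 113418079 113652379 := Good.step (by norm_num) (by norm_num)
theorem k16_c12 : Good 110631709 113652379 := k16_c11.trans k16_g12
theorem k16_g13 : Good 113652379 113887003 := Good.step (by norm_num) (by norm_num)
theorem k16_c13 : Good 110631709 113887003 := k16_c12.trans k16_g13
theorem k16_g14 : Good 113887003 114121951 := Good.step (by norm_num) (by norm_num)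
theorem k16_c14 : Good 110631709 114121951 := k16_c13.trans k16_g14
theorem k16_g15 : Good 114121951 114357197 := Good.step (by norm_num) (by norm_num)
theorem k16_c15 : Good 110631709 114357197 := k16_c14.trans k16_g15
theorem k16_g16 : Good 114357197 114592789 := Good.step (by norm_num) (by norm_num)
theorem k16_c16 : Good 110631709 114592789 := k16_c15.trans k16_g16
theorem k16_g17 : Good 114592789 114828709 := Good.step (by norm_num) (by norm_num)
theorem k16_c17 : Good 110631709 114828709 := k16_c16.trans k16_g17
theorem k16_g18 : Good 114828709 115064923 := Good.step (by norm_num) (by norm_num)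
theorem k16_c18 : Good 110631709 115064923 := k16_c17.trans k16_g18
theorem k16_g19 : Good 115064923 115301489 := Good.step (by norm_num) (by norm_num)
theorem k16_c19 : Good 110631709 115301489 := k16_c18.trans k16_g19
theorem k16_g20 : Good 115301489 115538363 := Good.step (by norm_num) (by norm_num)
theorem k16_c20 : Good 110631709 115538363 := k16_c19.trans k16_g20
theorem k16_g21 : Good 115538363 115775581 := Good.step (by norm_num) (by norm_num)
theorem k16_c21 : Good 110631709 115775581 := k16_c20.trans k16_g21
theorem k16_g22 : Good 115775581 116013119 := Good.step (by norm_num) (by norm_num)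
theorem k16_c22 : Good 110631709 116013119 := k16_c21.trans k16_g22
theorem k16_g23 : Good 116013119 116250977 := Good.step (by norm_num) (by norm_num)
theorem k16_c23 : Good 110631709 116250977 := k16_c22.trans k16_g23
theorem k16_g24 : Good 116250977 116489167 := Good.step (by norm_num) (by norm_num)
theorem k16_c24 : Good 110631709 116489167 := k16_c23.trans k16_g24
theorem k16_g25 : Good 116489167 116727647 := Good.step (by norm_num) (by norm_num)
theorem k16_c25 : Good 110631709 116727647 := k16_c24.trans k16_g25
theorem k16_g26 : Good 116727647 116966471 := Good.step (by norm_num) (by norm_num)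
theorem k16_c26 : Good 110631709 116966471 := k16_c25.trans k16_g26
theorem k16_g27 : Good 116966471 117205609 := Good.step (by norm_num) (by norm_num)
theorem k16_c27 : Good 110631709 117205609 := k16_c26.trans k16_g27
theorem k16_g28 : Good 117205609 117445093 := Good.step (by norm_num) (by norm_num)
theorem k16_c28 : Good 110631709 117445093 := k16_c27.trans k16_g28
theorem k16_g29 : Good 117445093 117684911 := Good.step (by norm_num) (by norm_num)
theorem k16_c29 : Good 110631709 117684911 := k16_c28.trans k16_g29
theorem k16_g30 : Good 117684911 117925057 := Good.step (by norm_num) (by norm_num)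
theorem k16_c30 : Good 110631709 117925057 := k16_c29.trans k16_g30
theorem k16_g31 : Good 117925057 118165511 := Good.step (by norm_num) (by norm_num)
theorem k16_c31 : Good 110631709 118165511 := k16_c30.trans k16_g31
theorem k16_g32 : Good 118165511 118406303 := Good.step (by norm_num) (by norm_num)
theorem k16_c32 : Good 110631709 118406303 := k16_c31.trans k16_g32
theorem k16_g33 : Good 118406303 118647383 := Good.step (by norm_num) (by norm_num)
theorem k16_c33 : Good 110631709 118647383 := k16_c32.trans k16_g33
theorem k16_g34 : Good 118647383 118888831 := Good.step (by norm_num) (by norm_num)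
theorem k16_c34 : Good 110631709 118888831 := k16_c33.trans k16_g34
theorem k16_g35 : Good 118888831 119130607 := Good.step (by norm_num) (by norm_num)
theorem k16_c35 : Good 110631709 119130607 := k16_c34.trans k16_g35
theorem k16_g36 : Good 119130607 119372711 := Good.step (by norm_num) (by norm_num)
theorem k16_c36 : Good 110631709 119372711 := k16_c35.trans k16_g36
theorem k16_g37 : Good 119372711 119615149 := Good.step (by norm_num) (by norm_num)
theorem k16_c37 : Good 110631709 119615149 := k16_c36.trans k16_g37
theorem k16_g38 : Good 119615149 119857889 := Good.step (by norm_num) (by norm_num)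
theorem k16_c38 : Good 110631709 119857889 := k16_c37.trans k16_g38
theorem k16_g39 : Good 119857889 120100969 := Good.step (by norm_num) (by norm_num)
theorem k16_c39 : Good 110631709 120100969 := k16_c38.trans k16_g39
theorem k16_g40 : Good 120100969 120344381 := Good.step (by norm_num) (by norm_num)
theorem k16_c40 : Good 110631709 120344381 := k16_c39.trans k16_g40
theorem k16_g41 : Good 120344381 120588121 := Good.step (by norm_num) (by norm_num)
theorem k16_c41 : Good 110631709 120588121 := k16_c40.trans k16_g41
theorem k16_g42 : Good 120588121 120832199 := Good.step (by norm_num) (by norm_num)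
theorem k16_c42 : Good 110631709 120832199 := k16_c41.trans k16_g42
theorem k16_g43 : Good 120832199 121076609 := Good.step (by norm_num) (by norm_num)
theorem k16_c43 : Good 110631709 121076609 := k16_c42.trans k16_g43
theorem k16_g44 : Good 121076609 121321339 := Good.step (by norm_num) (by norm_num)
theorem k16_c44 : Good 110631709 121321339 := k16_c43.trans k16_g44
theorem k16_g45 : Good 121321339 121566409 := Good.step (by norm_num) (by norm_num)
theorem k16_c45 : Good 110631709 121566409 := k16_c44.trans k16_g45
theorem k16_g46 : Good 121566409 121811801 := Good.step (by norm_num) (by norm_num)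
theorem k16_c46 : Good 110631709 121811801 := k16_c45.trans k16_g46
theorem k16_g47 : Good 121811801 122057519 := Good.step (by norm_num) (by norm_num)
theorem k16_c47 : Good 110631709 122057519 := k16_c46.trans k16_g47
theorem k16_g48 : Good 122057519 122303579 := Good.step (by norm_num) (by norm_num)
theorem k16_c48 : Good 110631709 122303579 := k16_c47.trans k16_g48
theorem k16_g49 : Good 122303579 122549953 := Good.step (by norm_num) (by norm_num)
theorem k16_c49 : Good 110631709 122549953 := k16_c48.trans k16_g49
theorem k16_g50 : Good 122549953 122796671 := Good.step (by norm_num) (by norm_num)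
theorem k16_c50 : Good 110631709 122796671 := k16_c49.trans k16_g50
theorem k16_g51 : Good 122796671 123043703 := Good.step (by norm_num) (by norm_num)
theorem k16_c51 : Good 110631709 123043703 := k16_c50.trans k16_g51
theorem k16_g52 : Good 123043703 123291053 := Good.step (by norm_num) (by norm_num)
theorem k16_c52 : Good 110631709 123291053 := k16_c51.trans k16_g52
theorem k16_g53 : Good 123291053 123538757 := Good.step (by norm_num) (by norm_num)
theorem k16_c53 : Good 110631709 123538757 := k16_c52.trans k16_g53
theorem k16_g54 : Good 123538757 123786799 := Good.step (by norm_num) (by norm_num)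
theorem k16_c54 : Good 110631709 123786799 := k16_c53.trans k16_g54
theorem k16_g55 : Good 123786799 124035167 := Good.step (by norm_num) (by norm_num)
theorem k16_c55 : Good 110631709 124035167 := k16_c54.trans k16_g55
theorem k16_g56 : Good 124035167 124283843 := Good.step (by norm_num) (by norm_num)
theorem k16_c56 : Good 110631709 124283843 := k16_c55.trans k16_g56
theorem k16_g57 : Good 124283843 124532869 := Good.step (by norm_num) (by norm_num)
theorem k16_c57 : Good 110631709 124532869 := k16_c56.trans k16_g57
theorem k16_g58 : Good 124532869 124782209 := Good.step (by norm_num) (by norm_num)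
theorem k16_c58 : Good 110631709 124782209 := k16_c57.trans k16_g58
theorem k16_g59 : Good 124782209 125031911 := Good.step (by norm_num) (by norm_num)
theorem k16_c59 : Good 110631709 125031911 := k16_c58.trans k16_g59
theorem k16_g60 : Good 125031911 125281939 := Good.step (by norm_num) (by norm_num)
theorem k16_c60 : Good 110631709 125281939 := k16_c59.trans k16_g60
theorem k16_g61 : Good 125281939 125532311 := Good.step (by norm_num) (by norm_num)
theorem k16_c61 : Good 110631709 125532311 := k16_c60.trans k16_g61
theorem k16_g62 : Good 125532311 125783003 := Good.step (by norm_num) (by norm_num)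
theorem k16_c62 : Good 110631709 125783003 := k16_c61.trans k16_g62
theorem k16_g63 : Good 125783003 126034037 := Good.step (by norm_num) (by norm_num)
theorem k16_c63 : Good 110631709 126034037 := k16_c62.trans k16_g63
theorem k16_g64 : Good 126034037 126285409 := Good.step (by norm_num) (by norm_num)
theorem k16_c64 : Good 110631709 126285409 := k16_c63.trans k16_g64
theorem k16_g65 : Good 126285409 126537107 := Good.step (by norm_num) (by norm_num)
theorem k16_c65 : Good 110631709 126537107 := k16_c64.trans k16_g65
theorem k16_g66 : Good 126537107 126789149 := Good.step (by norm_num) (by norm_num)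
theorem k16_c66 : Good 110631709 126789149 := k16_c65.trans k16_g66
theorem k16_g67 : Good 126789149 127041521 := Good.step (by norm_num) (by norm_num)
theorem k16_c67 : Good 110631709 127041521 := k16_c66.trans k16_g67
theorem k16_g68 : Good 127041521 127294231 := Good.step (by norm_num) (by norm_num)
theorem k16_c68 : Good 110631709 127294231 := k16_c67.trans k16_g68
theorem k16_g69 : Good 127294231 127547267 := Good.step (by norm_num) (by norm_num)
theorem k16_c69 : Good 110631709 127547267 := k16_c68.trans k16_g69
theorem k16_g70 : Good 127547267 127800643 := Good.step (by norm_num) (by norm_num)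
theorem k16_c70 : Good 110631709 127800643 := k16_c69.trans k16_g70
theorem k16_g71 : Good 127800643 128054327 := Good.step (by norm_num) (by norm_num)
theorem k16_c71 : Good 110631709 128054327 := k16_c70.trans k16_g71
theorem k16_g72 : Good 128054327 128308381 := Good.step (by norm_num) (by norm_num)
theorem k16_c72 : Good 110631709 128308381 := k16_c71.trans k16_g72
theorem k16_g73 : Good 128308381 128562769 := Good.step (by norm_num) (by norm_num)
theorem k16_c73 : Good 110631709 128562769 := k16_c72.trans k16_g73
theorem k16_g74 : Good 128562769 128817487 := Good.step (by norm_num) (by norm_num)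
theorem k16_c74 : Good 110631709 128817487 := k16_c73.trans k16_g74
theorem k16_g75 : Good 128817487 129072521 := Good.step (by norm_num) (by norm_num)
theorem k16_c75 : Good 110631709 129072521 := k16_c74.trans k16_g75
theorem k16_g76 : Good 129072521 129327917 := Good.step (by norm_num) (by norm_num)
theorem k16_c76 : Good 110631709 129327917 := k16_c75.trans k16_g76
theorem k16_g77 : Good 129327917 129583637 := Good.step (by norm_num) (by norm_num)
theorem k16_c77 : Good 110631709 129583637 := k16_c76.trans k16_g77
theorem k16_g78 : Good 129583637 129839683 := Good.step (by norm_num) (by norm_num)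
theorem k16_c78 : Good 110631709 129839683 := k16_c77.trans k16_g78
theorem k16_g79 : Good 129839683 130096093 := Good.step (by norm_num) (by norm_num)
theorem k16_c79 : Good 110631709 130096093 := k16_c78.trans k16_g79
theorem k16_g80 : Good 130096093 130352839 := Good.step (by norm_num) (by norm_num)
theorem k16_c80 : Good 110631709 130352839 := k16_c79.trans k16_g80
theorem k16_g81 : Good 130352839 130609907 := Good.step (by norm_num) (by norm_num)
theorem k16_c81 : Good 110631709 130609907 := k16_c80.trans k16_g81
theorem k16_g82 : Good 130609907 130867267 := Good.step (by norm_num) (by norm_num)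
theorem k16_c82 : Good 110631709 130867267 := k16_c81.trans k16_g82
theorem k16_g83 : Good 130867267 131125019 := Good.step (by norm_num) (by norm_num)
theorem k16_c83 : Good 110631709 131125019 := k16_c82.trans k16_g83
theorem k16_g84 : Good 131125019 131383117 := Good.step (by norm_num) (by norm_num)
theorem k16_c84 : Good 110631709 131383117 := k16_c83.trans k16_g84
theorem k16_g85 : Good 131383117 131641537 := Good.step (by norm_num) (by norm_num)
theorem k16_c85 : Good 110631709 131641537 := k16_c84.trans k16_g85
theorem k16_g86 : Good 131641537 131900303 := Good.step (by norm_num) (by norm_num)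
theorem k16_c86 : Good 110631709 131900303 := k16_c85.trans k16_g86
theorem k16_g87 : Good 131900303 132159413 := Good.step (by norm_num) (by norm_num)
theorem k16_c87 : Good 110631709 132159413 := k16_c86.trans k16_g87
theorem k16_g88 : Good 132159413 132418859 := Good.step (by norm_num) (by norm_num)
theorem k16_c88 : Good 110631709 132418859 := k16_c87.trans k16_g88
theorem k16_g89 : Good 132418859 132678641 := Good.step (by norm_num) (by norm_num)
theorem k16_c89 : Good 110631709 132678641 := k16_c88.trans k16_g89
theorem k16_g90 : Good 132678641 132938761 := Good.step (by norm_num) (by norm_num)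
theorem k16_c90 : Good 110631709 132938761 := k16_c89.trans k16_g90
theorem k16_g91 : Good 132938761 133199237 := Good.step (by norm_num) (by norm_num)
theorem k16_c91 : Good 110631709 133199237 := k16_c90.trans k16_g91
theorem k16_g92 : Good 133199237 133460051 := Good.step (by norm_num) (by norm_num)
theorem k16_c92 : Good 110631709 133460051 := k16_c91.trans k16_g92
theorem k16_g93 : Good 133460051 133721207 := Good.step (by norm_num) (by norm_num)
theorem k16_c93 : Good 110631709 133721207 := k16_c92.trans k16_g93
theorem k16_g94 : Good 133721207 133982677 := Good.step (by norm_num) (by norm_num)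
theorem k16_c94 : Good 110631709 133982677 := k16_c93.trans k16_g94
theorem k16_g95 : Good 133982677 134244503 := Good.step (by norm_num) (by norm_num)
theorem k16_c95 : Good 110631709 134244503 := k16_c94.trans k16_g95

theorem chunk16 : Good 110631709 134244503 := k16_c95

end Cfsg.Agent.Lib.H29.S3571Chain
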