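import Cfsg.Agent.Lib.H29.S3571ChainDefs

/-! helper29: S3571 SS11 prime chain, chunk 9 (generated): primes from 16835233 to 23949883.
One small declaration per link, so that elaboration stays linear. -/

set_option autoImplicit false

namespace Cfsg.Agent.Lib.H29.S3571Chain

theorem k9_g0 : Good 16835233 16900909 := Good.step (by norm_num) (by norm_num)
theorem k9_c0 : Good 16835233 16900909 := k9_g0
theorem k9_g1 : Good 16900909 16966717 := Good.step (by norm_num) (by norm_num)
theorem k9_c1 : Good 16835233 16966717 := k9_c0.trans k9_g1
theorem k9_g2 : Good 16966717 17032723 := Good.step (by norm_num) (by norm_num)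
theorem k9_c2 : Good 16835233 17032723 := k9_c1.trans k9_g2
theorem k9_g3 : Good 17032723 17098919 := Good.step (by norm_num) (by norm_num)
theorem k9_c3 : Good 16835233 17098919 := k9_c2.trans k9_g3
theorem k9_g4 : Good 17098919 17165273 := Good.step (by norm_num) (by norm_num)
theorem k9_c4 : Good 16835233 17165273 := k9_c3.trans k9_g4
theorem k9_g5 : Good 17165273 17231813 := Good.step (by norm_num) (by norm_num)
theorem k9_c5 : Good 16835233 17231813 := k9_c4.trans k9_g5
theorem k9_g6 : Good 17231813 17298517 := Good.step (by norm_num) (by norm_num)
theorem k9_c6 : Good 16835233 17298517 := k9_c5.trans k9_g6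
theorem k9_g7 : Good 17298517 17365399 := Good.step (by norm_num) (by norm_num)
theorem k9_c7 : Good 16835233 17365399 := k9_c6.trans k9_g7
theorem k9_g8 : Good 17365399 17432449 := Good.step (by norm_num) (by norm_num)
theorem k9_c8 : Good 16835233 17432449 := k9_c7.trans k9_g8
theorem k9_g9 : Good 17432449 17499649 := Good.step (by norm_num) (by norm_num)
theorem k9_c9 : Good 16835233 17499649 := k9_c8.trans k9_g9
theorem k9_g10 : Good 17499649 17567051 := Good.step (by norm_num) (by norm_num)
theorem k9_c10 : Good 16835233 17567051 := k9_c9.trans k9_g10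
theorem k9_g11 : Good 17567051 17634613 := Good.step (by norm_num) (by norm_num)
theorem k9_c11 : Good 16835233 17634613 := k9_c10.trans k9_g11
theorem k9_g12 : Good 17634613 17702329 := Good.step (by norm_num) (by norm_num)
theorem k9_c12 : Good 16835233 17702329 := k9_c11.trans k9_g12
theorem k9_g13 : Good 17702329 17770231 := Good.step (by norm_num) (by norm_num)
theorem k9_c13 : Good 16835233 17770231 := k9_c12.trans k9_g13
theorem k9_g14 : Good 17770231 17838313 := Good.step (by norm_num) (by norm_num)
theorem k9_c14 : Good 16835233 17838313 := k9_c13.trans k9_g14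
theorem k9_g15 : Good 17838313 17906573 := Good.step (by norm_num) (by norm_num)
theorem k9_c15 : Good 16835233 17906573 := k9_c14.trans k9_g15
theorem k9_g16 : Good 17906573 17975017 := Good.step (by norm_num) (by norm_num)
theorem k9_c16 : Good 16835233 17975017 := k9_c15.trans k9_g16
theorem k9_g17 : Good 17975017 18043633 := Good.step (by norm_num) (by norm_num)
theorem k9_c17 : Good 16835233 18043633 := k9_c16.trans k9_g17
theorem k9_g18 : Good 18043633 18112399 := Good.step (by norm_num) (by norm_num)
theorem k9_c18 : Good 16835233 18112399 := k9_c17.trans k9_g18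
theorem k9_g19 : Good 18112399 18181367 := Good.step (by norm_num) (by norm_num)
theorem k9_c19 : Good 16835233 18181367 := k9_c18.trans k9_g19
theorem k9_g20 : Good 18181367 18250499 := Good.step (by norm_num) (by norm_num)
theorem k9_c20 : Good 16835233 18250499 := k9_c19.trans k9_g20
theorem k9_g21 : Good 18250499 18319817 := Good.step (by norm_num) (by norm_num)
theorem k9_c21 : Good 16835233 18319817 := k9_c20.trans k9_g21
theorem k9_g22 : Good 18319817 18389309 := Good.step (by norm_num) (by norm_num)
theorem k9_c22 : Good 16835233 18389309 := k9_c21.trans k9_g22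
theorem k9_g23 : Good 18389309 18458977 := Good.step (by norm_num) (by norm_num)
theorem k9_c23 : Good 16835233 18458977 := k9_c22.trans k9_g23
theorem k9_g24 : Good 18458977 18528751 := Good.step (by norm_num) (by norm_num)
theorem k9_c24 : Good 16835233 18528751 := k9_c23.trans k9_g24
theorem k9_g25 : Good 18528751 18598771 := Good.step (by norm_num) (by norm_num)
theorem k9_c25 : Good 16835233 18598771 := k9_c24.trans k9_g25
theorem k9_g26 : Good 18598771 18668959 := Good.step (by norm_num) (by norm_num)
theorem k9_c26 : Good 16835233 18668959 := k9_c25.trans k9_g26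
theorem k9_g27 : Good 18668959 18739289 := Good.step (by norm_num) (by norm_num)
theorem k9_c27 : Good 16835233 18739289 := k9_c26.trans k9_g27
theorem k9_g28 : Good 18739289 18809807 := Good.step (by norm_num) (by norm_num)
theorem k9_c28 : Good 16835233 18809807 := k9_c27.trans k9_g28
theorem k9_g29 : Good 18809807 18880529 := Good.step (by norm_num) (by norm_num)
theorem k9_c29 : Good 16835233 18880529 := k9_c28.trans k9_g29
theorem k9_g30 : Good 18880529 18951431 := Good.step (by norm_num) (by norm_num)
theorem k9_c30 : Good 16835233 18951431 := k9_c29.trans k9_g30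
theorem k9_g31 : Good 18951431 19022503 := Good.step (by norm_num) (by norm_num)
theorem k9_c31 : Good 16835233 19022503 := k9_c30.trans k9_g31
theorem k9_g32 : Good 19022503 19093733 := Good.step (by norm_num) (by norm_num)
theorem k9_c32 : Good 16835233 19093733 := k9_c31.trans k9_g32
theorem k9_g33 : Good 19093733 19165151 := Good.step (by norm_num) (by norm_num)
theorem k9_c33 : Good 16835233 19165151 := k9_c32.trans k9_g33
theorem k9_g34 : Good 19165151 19236743 := Good.step (by norm_num) (by norm_num)
theorem k9_c34 : Good 16835233 19236743 := k9_c33.trans k9_g34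
theorem k9_g35 : Good 19236743 19308533 := Good.step (by norm_num) (by norm_num)
theorem k9_c35 : Good 16835233 19308533 := k9_c34.trans k9_g35
theorem k9_g36 : Good 19308533 19380469 := Good.step (by norm_num) (by norm_num)
theorem k9_c36 : Good 16835233 19380469 := k9_c35.trans k9_g36
theorem k9_g37 : Good 19380469 19452619 := Good.step (by norm_num) (by norm_num)
theorem k9_c37 : Good 16835233 19452619 := k9_c36.trans k9_g37
theorem k9_g38 : Good 19452619 19524949 := Good.step (by norm_num) (by norm_num)
theorem k9_c38 : Good 16835233 19524949 := k9_c37.trans k9_g38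
theorem k9_g39 : Good 19524949 19597453 := Good.step (by norm_num) (by norm_num)
theorem k9_c39 : Good 16835233 19597453 := k9_c38.trans k9_g39
theorem k9_g40 : Good 19597453 19670113 := Good.step (by norm_num) (by norm_num)
theorem k9_c40 : Good 16835233 19670113 := k9_c39.trans k9_g40
theorem k9_g41 : Good 19670113 19742963 := Good.step (by norm_num) (by norm_num)
theorem k9_c41 : Good 16835233 19742963 := k9_c40.trans k9_g41
theorem k9_g42 : Good 19742963 19816007 := Good.step (by norm_num) (by norm_num)
theorem k9_c42 : Good 16835233 19816007 := k9_c41.trans k9_g42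
theorem k9_g43 : Good 19816007 19889213 := Good.step (by norm_num) (by norm_num)
theorem k9_c43 : Good 16835233 19889213 := k9_c42.trans k9_g43
theorem k9_g44 : Good 19889213 19962619 := Good.step (by norm_num) (by norm_num)
theorem k9_c44 : Good 16835233 19962619 := k9_c43.trans k9_g44
theorem k9_g45 : Good 19962619 20036207 := Good.step (by norm_num) (by norm_num)
theorem k9_c45 : Good 16835233 20036207 := k9_c44.trans k9_g45
theorem k9_g46 : Good 20036207 20109953 := Good.step (by norm_num) (by norm_num)
theorem k9_c46 : Good 16835233 20109953 := k9_c45.trans k9_g46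
theorem k9_g47 : Good 20109953 20183873 := Good.step (by norm_num) (by norm_num)
theorem k9_c47 : Good 16835233 20183873 := k9_c46.trans k9_g47
theorem k9_g48 : Good 20183873 20257997 := Good.step (by norm_num) (by norm_num)
theorem k9_c48 : Good 16835233 20257997 := k9_c47.trans k9_g48
theorem k9_g49 : Good 20257997 20332297 := Good.step (by norm_num) (by norm_num)
theorem k9_c49 : Good 16835233 20332297 := k9_c48.trans k9_g49
theorem k9_g50 : Good 20332297 20406791 := Good.step (by norm_num) (by norm_num)
theorem k9_c50 : Good 16835233 20406791 := k9_c49.trans k9_g50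
theorem k9_g51 : Good 20406791 20481467 := Good.step (by norm_num) (by norm_num)
theorem k9_c51 : Good 16835233 20481467 := k9_c50.trans k9_g51
theorem k9_g52 : Good 20481467 20556307 := Good.step (by norm_num) (by norm_num)
theorem k9_c52 : Good 16835233 20556307 := k9_c51.trans k9_g52
theorem k9_g53 : Good 20556307 20631343 := Good.step (by norm_num) (by norm_num)
theorem k9_c53 : Good 16835233 20631343 := k9_c52.trans k9_g53
theorem k9_g54 : Good 20631343 20706563 := Good.step (by norm_num) (by norm_num)
theorem k9_c54 : Good 16835233 20706563 := k9_c53.trans k9_g54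
theorem k9_g55 : Good 20706563 20781931 := Good.step (by norm_num) (by norm_num)
theorem k9_c55 : Good 16835233 20781931 := k9_c54.trans k9_g55
theorem k9_g56 : Good 20781931 20857517 := Good.step (by norm_num) (by norm_num)
theorem k9_c56 : Good 16835233 20857517 := k9_c55.trans k9_g56
theorem k9_g57 : Good 20857517 20933287 := Good.step (by norm_num) (by norm_num)
theorem k9_c57 : Good 16835233 20933287 := k9_c56.trans k9_g57
theorem k9_g58 : Good 20933287 21009217 := Good.step (by norm_num) (by norm_num)
theorem k9_c58 : Good 16835233 21009217 := k9_c57.trans k9_g58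
theorem k9_g59 : Good 21009217 21085343 := Good.step (by norm_num) (by norm_num)
theorem k9_c59 : Good 16835233 21085343 := k9_c58.trans k9_g59
theorem k9_g60 : Good 21085343 21161653 := Good.step (by norm_num) (by norm_num)
theorem k9_c60 : Good 16835233 21161653 := k9_c59.trans k9_g60
theorem k9_g61 : Good 21161653 21238157 := Good.step (by norm_num) (by norm_num)
theorem k9_c61 : Good 16835233 21238157 := k9_c60.trans k9_g61
theorem k9_g62 : Good 21238157 21314837 := Good.step (by norm_num) (by norm_num)
theorem k9_c62 : Good 16835233 21314837 := k9_c61.trans k9_g62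
theorem k9_g63 : Good 21314837 21391703 := Good.step (by norm_num) (by norm_num)
theorem k9_c63 : Good 16835233 21391703 := k9_c62.trans k9_g63
theorem k9_g64 : Good 21391703 21468751 := Good.step (by norm_num) (by norm_num)
theorem k9_c64 : Good 16835233 21468751 := k9_c63.trans k9_g64
theorem k9_g65 : Good 21468751 21545989 := Good.step (by norm_num) (by norm_num)
theorem k9_c65 : Good 16835233 21545989 := k9_c64.trans k9_g65
theorem k9_g66 : Good 21545989 21623419 := Good.step (by norm_num) (by norm_num)
theorem k9_c66 : Good 16835233 21623419 := k9_c65.trans k9_g66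
theorem k9_g67 : Good 21623419 21701003 := Good.step (by norm_num) (by norm_num)
theorem k9_c67 : Good 16835233 21701003 := k9_c66.trans k9_g67
theorem k9_g68 : Good 21701003 21778793 := Good.step (by norm_num) (by norm_num)
theorem k9_c68 : Good 16835233 21778793 := k9_c67.trans k9_g68
theorem k9_g69 : Good 21778793 21856763 := Good.step (by norm_num) (by norm_num)
theorem k9_c69 : Good 16835233 21856763 := k9_c68.trans k9_g69
theorem k9_g70 : Good 21856763 21934907 := Good.step (by norm_num) (by norm_num)
theorem k9_c70 : Good 16835233 21934907 := k9_c69.trans k9_g70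
theorem k9_g71 : Good 21934907 22013239 := Good.step (by norm_num) (by norm_num)
theorem k9_c71 : Good 16835233 22013239 := k9_c70.trans k9_g71
theorem k9_g72 : Good 22013239 22091779 := Good.step (by norm_num) (by norm_num)
theorem k9_c72 : Good 16835233 22091779 := k9_c71.trans k9_g72
theorem k9_g73 : Good 22091779 22170497 := Good.step (by norm_num) (by norm_num)
theorem k9_c73 : Good 16835233 22170497 := k9_c72.trans k9_g73
theorem k9_g74 : Good 22170497 22249387 := Good.step (by norm_num) (by norm_num)
theorem k9_c74 : Good 16835233 22249387 := k9_c73.trans k9_g74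
theorem k9_g75 : Good 22249387 22328483 := Good.step (by norm_num) (by norm_num)
theorem k9_c75 : Good 16835233 22328483 := k9_c74.trans k9_g75
theorem k9_g76 : Good 22328483 22407769 := Good.step (by norm_num) (by norm_num)
theorem k9_c76 : Good 16835233 22407769 := k9_c75.trans k9_g76
theorem k9_g77 : Good 22407769 22487249 := Good.step (by norm_num) (by norm_num)
theorem k9_c77 : Good 16835233 22487249 := k9_c76.trans k9_g77
theorem k9_g78 : Good 22487249 22566893 := Good.step (by norm_num) (by norm_num)
theorem k9_c78 : Good 16835233 22566893 := k9_c77.trans k9_g78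
theorem k9_g79 : Good 22566893 22646749 := Good.step (by norm_num) (by norm_num)
theorem k9_c79 : Good 16835233 22646749 := k9_c78.trans k9_g79
theorem k9_g80 : Good 22646749 22726789 := Good.step (by norm_num) (by norm_num)
theorem k9_c80 : Good 16835233 22726789 := k9_c79.trans k9_g80
theorem k9_g81 : Good 22726789 22807019 := Good.step (by norm_num) (by norm_num)
theorem k9_c81 : Good 16835233 22807019 := k9_c80.trans k9_g81
theorem k9_g82 : Good 22807019 22887433 := Good.step (by norm_num) (by norm_num)
theorem k9_c82 : Good 16835233 22887433 := k9_c81.trans k9_g82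
theorem k9_g83 : Good 22887433 22967957 := Good.step (by norm_num) (by norm_num)
theorem k9_c83 : Good 16835233 22967957 := k9_c82.trans k9_g83
theorem k9_g84 : Good 22967957 23048749 := Good.step (by norm_num) (by norm_num)
theorem k9_c84 : Good 16835233 23048749 := k9_c83.trans k9_g84
theorem k9_g85 : Good 23048749 23129723 := Good.step (by norm_num) (by norm_num)
theorem k9_c85 : Good 16835233 23129723 := k9_c84.trans k9_g85
theorem k9_g86 : Good 23129723 23210857 := Good.step (by norm_num) (by norm_num)
theorem k9_c86 : Good 16835233 23210857 := k9_c85.trans k9_g86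
theorem k9_g87 : Good 23210857 23292187 := Good.step (by norm_num) (by norm_num)
theorem k9_c87 : Good 16835233 23292187 := k9_c86.trans k9_g87
theorem k9_g88 : Good 23292187 23373737 := Good.step (by norm_num) (by norm_num)
theorem k9_c88 : Good 16835233 23373737 := k9_c87.trans k9_g88
theorem k9_g89 : Good 23373737 23455463 := Good.step (by norm_num) (by norm_num)
theorem k9_c89 : Good 16835233 23455463 := k9_c88.trans k9_g89
theorem k9_g90 : Good 23455463 23537387 := Good.step (by norm_num) (by norm_num)
theorem k9_c90 : Good 16835233 23537387 := k9_c89.trans k9_g90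
theorem k9_g91 : Good 23537387 23619493 := Good.step (by norm_num) (by norm_num)
theorem k9_c91 : Good 16835233 23619493 := k9_c90.trans k9_g91
theorem k9_g92 : Good 23619493 23701801 := Good.step (by norm_num) (by norm_num)
theorem k9_c92 : Good 16835233 23701801 := k9_c91.trans k9_g92
theorem k9_g93 : Good 23701801 23784311 := Good.step (by norm_num) (by norm_num)
theorem k9_c93 : Good 16835233 23784311 := k9_c92.trans k9_g93
theorem k9_g94 : Good 23784311 23866991 := Good.step (by norm_num) (by norm_num)
theorem k9_c94 : Good 16835233 23866991 := k9_c93.trans k9_g94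
theorem k9_g95 : Good 23866991 23949883 := Good.step (by norm_num) (by norm_num)
theorem k9_c95 : Good 16835233 23949883 := k9_c94.trans k9_g95

theorem chunk9 : Good 16835233 23949883 := k9_c95

end Cfsg.Agent.Lib.H29.S3571Chain
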