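import Cfsg.Agent.Lib.H29.S3571Chain
import Cfsg.Agent.Lib.H8.S3571SSDefs
import Cfsg.Agent.Lib.H29.S3571Chain9
import Cfsg.Agent.Lib.H29.S3571Chain10
import Cfsg.Agent.Lib.H29.S3571Chain11
import Cfsg.Agent.Lib.H29.S3571Chain12
import Cfsg.Agent.Lib.H29.S3571Chain13
import Cfsg.Agent.Lib.H29.S3571Chain14
import Cfsg.Agent.Lib.H29.S3571Chain15
import Cfsg.Agent.Lib.H29.S3571Chain16

/-!
helper29: S3571 SS11 in helper8's EXACT shape: `ss11 : SS11Stmt` = `ChainStmt 74 (2 ^ 27)`
(the chain of the first eight chunks, from 11 to 16835233, extended by eight more chunks to 134244503).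
-/

set_option autoImplicit false

namespace Cfsg.Agent.Lib.H29.S3571Chain

theorem good_all2 : Good 11 134244503 :=
  ((((((((good_all).trans chunk9).trans chunk10).trans chunk11).trans chunk12).trans chunk13).trans chunk14).trans chunk15).trans chunk16

theorem chainStmt_of_good {lo hi : ℕ} (h : Good lo hi) :
    Cfsg.Agent.Lib.H8.S3571SS.ChainStmt lo hi := by
  intro n h1 h2
  obtain ⟨p, hp, hpn, hgap⟩ := h n h1 h2
  refine ⟨p, hp, hpn, lt_of_lt_of_le ?_ hgap⟩
  exact Nat.pow_lt_pow_left (by omega) (by norm_num)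

/-- the chain from `11` (stronger than needed) -/
theorem chain_11 : Cfsg.Agent.Lib.H8.S3571SS.ChainStmt 11 (2 ^ 27) := by
  intro n h1 h2
  exact chainStmt_of_good good_all2 n h1 (lt_of_lt_of_le h2 (by norm_num))

/-- **SS11** in the exact shape of the cut. -/
theorem ss11 : Cfsg.Agent.Lib.H8.S3571SS.SS11Stmt := by
  intro n h1 h2
  exact chain_11 n (by omega) h2

/-- **SS0** in the exact shape of the cut. -/
theorem ss0 : Cfsg.Agent.Lib.H8.S3571SS.SS0Stmt := by
  intro n k p hp hkp _ hmod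
  exact prime_dvd_choose_of_mod_lt hp hkp hmod

end Cfsg.Agent.Lib.H29.S3571Chain
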