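import Mathlib

/-!
helper29: S3571, block NT (Sylvester-Schur), piece SS11 = the prime chain up to `2 ^ 24`.
`Good lo hi`: every `n` with `lo ≤ n < hi` has a prime `p ≤ n` with `(n + 1 - p) ^ 3 ≤ n ^ 2`
(so `n - k < p ≤ n` whenever `n ^ 2 ≤ k ^ 3`).
-/

set_option autoImplicit false

namespace Cfsg.Agent.Lib.H29.S3571Chain

/-- every `n ∈ [lo, hi)` has a prime `p ≤ n` with `(n + 1 - p) ^ 3 ≤ n ^ 2` -/
def Good (lo hi : ℕ) : Prop :=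
  ∀ n, lo ≤ n → n < hi → ∃ p, p.Prime ∧ p ≤ n ∧ (n + 1 - p) ^ 3 ≤ n ^ 2

theorem Good.step {q q' : ℕ} (hq : q.Prime) (hgap : (q' - q) ^ 3 ≤ q ^ 2) : Good q q' := by
  intro n h1 h2
  refine ⟨q, hq, h1, ?_⟩
  calc (n + 1 - q) ^ 3 ≤ (q' - q) ^ 3 := Nat.pow_le_pow_left (by omega) 3
    _ ≤ q ^ 2 := hgap
    _ ≤ n ^ 2 := Nat.pow_le_pow_left h1 2

theorem Good.trans {a b c : ℕ} (h1 : Good a b) (h2 : Good b c) : Good a c := by
  intro n hn1 hn2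
  rcases Nat.lt_or_ge n b with h | h
  · exact h1 n hn1 h
  · exact h2 n h hn2

end Cfsg.Agent.Lib.H29.S3571Chain
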