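import Mathlib
import Cfsg.Agent.Lib.H1.Hall

/-!
# S3776: the Hall reduction brick

A finite group `G`, a solvable group `Y` of automorphisms of `G` that is transitive on the
involutions of `G`.  Then some subgroup `E ≤ Y` of ODD order is still transitive on the involutions.

Proof: a Sylow `2`-subgroup `P` of `Y` fixes an involution `w` (the fixed points of `P` form a subgroup
of even order); `Y = H P` for a Hall `2'`-subgroup `H` of `Y`; so the `Y`-orbit of `w` is its `H`-orbit.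
-/

set_option autoImplicit false

namespace Cfsg.Agent.Lib.H29.S3776Hall

open Cfsg.Agent.Lib.H1

/-- The subgroup of the points fixed by a group of automorphisms. -/
def fixSub {G : Type*} [Group G] (P : Subgroup (MulAut G)) : Subgroup G where
  carrier := {x | ∀ a ∈ P, a x = x}
  one_mem' := fun a _ => map_one a
  mul_mem' := fun {x y} hx hy a ha => by
    show a (x * y) = x * y
    rw [map_mul, hx a ha, hy a ha]
  inv_mem' := fun {x} hx a ha => by
    show a x⁻¹ = x⁻¹
    rw [map_inv, hx a ha]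

theorem mem_fixSub {G : Type*} [Group G] (P : Subgroup (MulAut G)) (x : G) :
    x ∈ fixSub P ↔ ∀ a ∈ P, a x = x := Iff.rfl

/-- A `2`-group of automorphisms of a finite group of even order fixes an involution. -/
theorem exists_fixed_invol {G : Type*} [Group G] [Finite G] (P : Subgroup (MulAut G))
    (hP : IsPGroup 2 P) (heven : 2 ∣ Nat.card G) :
    ∃ w : G, w ≠ 1 ∧ w ^ 2 = 1 ∧ ∀ a ∈ P, a w = w := by
  have : Fact (Nat.Prime 2) := ⟨Nat.prime_two⟩
  have hmod := hP.card_modEq_card_fixedPoints G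
  have hset : MulAction.fixedPoints P G = (fixSub P : Set G) := by
    ext x
    constructor
    · intro hx a ha
      have := hx ⟨a, ha⟩
      simpa using this
    · intro hx a
      have := hx a.1 a.2
      simpa [Subgroup.smul_def] using this
  rw [hset] at hmod
  have h2 : 2 ∣ Nat.card (fixSub P) := by
    have h0 : Nat.card G ≡ 0 [MOD 2] := (Nat.modEq_zero_iff_dvd).2 heven
    exact (Nat.modEq_zero_iff_dvd).1 (hmod.symm.trans h0)
  obtain ⟨x, hx⟩ := exists_prime_orderOf_dvd_card' 2 h2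
  refine ⟨x.1, ?_, ?_, x.2⟩
  · intro h1
    have : x = 1 := Subtype.ext h1
    rw [this, orderOf_one] at hx
    omega
  · have := pow_orderOf_eq_one x
    rw [hx] at this
    have h := congrArg Subtype.val this
    simpa using h

/-- **Hall reduction** (general form, `G` any finite group). -/
theorem odd_hall_transitive' {G : Type*} [Group G] [Finite G]
    (Y : Subgroup (MulAut G)) (hYs : Group.IsSolvable Y)
    (htr : ∀ x y : G, x ≠ 1 → x ^ 2 = 1 → y ≠ 1 → y ^ 2 = 1 → ∃ a ∈ Y, a x = y) :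
    ∃ E : Subgroup (MulAut G), E ≤ Y ∧ Odd (Nat.card E) ∧
      ∀ x y : G, x ≠ 1 → x ^ 2 = 1 → y ≠ 1 → y ^ 2 = 1 → ∃ a ∈ E, a x = y := by
  have : Fact (Nat.Prime 2) := ⟨Nat.prime_two⟩
  by_cases hinv : ∃ w : G, w ≠ 1 ∧ w ^ 2 = 1
  swap
  · refine ⟨⊥, bot_le, ?_, ?_⟩
    · rw [Subgroup.card_bot]; exact odd_one
    · intro x y hx1 hx2 _ _
      exact absurd ⟨x, hx1, hx2⟩ hinv
  obtain ⟨w0, hw01, hw02⟩ := hinv
  have heven : 2 ∣ Nat.card G := by
    have h2 : orderOf w0 = 2 := orderOf_eq_prime hw02 hw01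
    rw [← h2]
    exact orderOf_dvd_natCard w0
  -- Sylow 2-subgroup of Y and Hall 2'-subgroup of Y
  obtain ⟨P⟩ : Nonempty (Sylow 2 Y) := inferInstance
  have hcardP : Nat.card P = 2 ^ (Nat.card Y).factorization 2 := P.card_eq_multiplicity
  have hY0 : Nat.card Y ≠ 0 := Nat.card_pos.ne'
  have hcop : Nat.Coprime 2 (Nat.card Y / 2 ^ (Nat.card Y).factorization 2) :=
    Nat.coprime_ordCompl Nat.prime_two hY0
  have hmul : Nat.card Y =
      (Nat.card Y / 2 ^ (Nat.card Y).factorization 2) * 2 ^ (Nat.card Y).factorization 2 := by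
    rw [mul_comm]
    exact (Nat.ordProj_mul_ordCompl_eq_self (Nat.card Y) 2).symm
  have hcop' : Nat.Coprime (Nat.card Y / 2 ^ (Nat.card Y).factorization 2)
      (2 ^ (Nat.card Y).factorization 2) :=
    Nat.Coprime.pow_right _ hcop.symm
  obtain ⟨H, hH⟩ := hall_exists (G := Y) hmul hcop'
  have hcompl : H.IsComplement' (P : Subgroup Y) := by
    apply Subgroup.isComplement'_of_coprime
    · rw [hH, hcardP]; exact hmul.symm
    · rw [hH, hcardP]; exact hcop'
  -- an involution fixed by P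
  have hP2 : IsPGroup 2 ((P : Subgroup Y).map Y.subtype) := P.isPGroup'.map Y.subtype
  obtain ⟨w, hw1, hw2, hwfix⟩ := exists_fixed_invol _ hP2 heven
  -- every involution is in the H-orbit of w
  have key : ∀ x : G, x ≠ 1 → x ^ 2 = 1 → ∃ h : Y, h ∈ H ∧ (h : MulAut G) w = x := by
    intro x hx1 hx2
    obtain ⟨a, haY, hax⟩ := htr w x hw1 hw2 hx1 hx2
    obtain ⟨⟨h, p⟩, hhp⟩ := hcompl.2 ⟨a, haY⟩
    refine ⟨h.1, h.2, ?_⟩
    have hpw : (p.1 : MulAut G) w = w := by
      apply hwfix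
      exact ⟨p.1, p.2, rfl⟩
    have ha : a = (h.1 : MulAut G) * (p.1 : MulAut G) := by
      have := congrArg Subtype.val hhp
      simpa using this.symm
    rw [← hax, ha, MulAut.mul_apply, hpw]
  refine ⟨H.map Y.subtype, ?_, ?_, ?_⟩
  · rintro _ ⟨h, _, rfl⟩
    exact h.2
  · rw [Subgroup.card_map_of_injective Y.subtype_injective, hH]
    exact hcop.odd_of_left
  · intro x y hx1 hx2 hy1 hy2
    obtain ⟨h1, hh1, hh1x⟩ := key x hx1 hx2
    obtain ⟨h2, hh2, hh2y⟩ := key y hy1 hy2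
    refine ⟨Y.subtype (h2 * h1⁻¹), ⟨h2 * h1⁻¹, H.mul_mem hh2 (H.inv_mem hh1), rfl⟩, ?_⟩
    have : (Y.subtype (h2 * h1⁻¹)) x = (h2 : MulAut G) ((h1 : MulAut G)⁻¹ x) := by
      simp [MulAut.mul_apply]
    rw [this, ← hh1x]
    have : (h1 : MulAut G)⁻¹ ((h1 : MulAut G) w) = w := by
      simp
    rw [this, hh2y]

/-- **Hall reduction** in the shape of S3776. -/
theorem odd_hall_transitive {G : Type*} [Group G] [Finite G] (_hG : IsPGroup 2 G)
    (Y : Subgroup (MulAut G)) (hYs : Group.IsSolvable Y)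
    (htr : ∀ x y : G, x ≠ 1 → x ^ 2 = 1 → y ≠ 1 → y ^ 2 = 1 → ∃ a ∈ Y, a x = y) :
    ∃ E : Subgroup (MulAut G), E ≤ Y ∧ Odd (Nat.card E) ∧
      ∀ x y : G, x ≠ 1 → x ^ 2 = 1 → y ≠ 1 → y ^ 2 = 1 → ∃ a ∈ E, a x = y :=
  odd_hall_transitive' Y hYs htr

end Cfsg.Agent.Lib.H29.S3776Hall
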