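import Mathlib
import Cfsg.Agent.Lib.H9.S3776Defs
import Cfsg.Agent.Lib.H29.S3776Hall

/-!
# S3776, piece (16) FIN: the frozen statement from `(*)` and the Hall reduction

`E :=` the odd-order Hall subgroup of `Y` (as a type), `φ := E.subtype`.
-/

set_option autoImplicit false

namespace Cfsg.Agent.Lib.H29.S3776Fin

open Cfsg.Agent.Lib.H9.S3776

universe u

theorem fin : FinStmt.{u} := by
  intro hstar G _ _ hG hna htwo hY
  obtain ⟨Y, hYs, htr⟩ := hY
  obtain ⟨E, hEY, hodd, hEtr⟩ :=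
    Cfsg.Agent.Lib.H29.S3776Hall.odd_hall_transitive hG Y hYs htr
  have hEs : Group.IsSolvable E :=
    Group.isSolvable_of_isSolvable_injective (Subgroup.inclusion_injective hEY)
  have hyp : Hyp G E E.subtype := by
    refine ⟨hG, hEs, hodd, htwo, ?_⟩
    intro x y hx1 hx2 hy1 hy2
    obtain ⟨a, haE, hax⟩ := hEtr x y hx1 hx2 hy1 hy2
    exact ⟨⟨a, haE⟩, hax⟩
  rcases hstar G E E.subtype hyp with hcomm | hsp
  · exact absurd ⟨⟨hcomm⟩⟩ hna
  · exact hsp

example : FinStmt.{0} := fin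

end Cfsg.Agent.Lib.H29.S3776Fin
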