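import Mathlib
import Cfsg.Agent.Lib.H9.S3776Defs

/-!
# S3776, piece (8) S1C (step 1c), by a route without the quotient `G ⧸ Z(G)`

`G' ≤ V = Ω₁(G) ≤ Z(G)`, every `x` with `x² ∈ V` is central.  Let `2^r` be the exponent of `G ⧸ V`
(`r ≥ 2`, else `G` is commutative).  `π g := g ^ 2 ^ r` is a homomorphism of `G` onto `V` with central
kernel, so `b (t, v) := [h v, h t]` (`h` a section of `π`) is a well defined `E`-equivariant
bimultiplicative map `V × V → V`, not trivial; LEMMA E (with `T := V`) says `b (v, v) ≠ 1`: absurd.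
-/

set_option autoImplicit false

namespace Cfsg.Agent.Lib.H29.S3776S1C

open Cfsg.Agent.Lib.H9.S3776

universe u

section core

variable {G : Type u} [Group G] {V : Subgroup G}

/-- the commutator in the shape of the cut -/
def cm (a b : G) : G := a * b * a⁻¹ * b⁻¹

theorem cm_self (a : G) : cm a a = 1 := by simp [cm]

theorem cm_eq_one_iff (a b : G) : cm a b = 1 ↔ a * b = b * a := by
  unfold cm
  constructor
  · intro h
    have : a * b * a⁻¹ * b⁻¹ * b * a = b * a := by rw [h]; group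
    rw [← this]; group
  · intro h
    rw [h]; group

variable (hmem : ∀ x : G, x ∈ V ↔ x ^ 2 = 1) (hcen : ∀ v ∈ V, ∀ g : G, g * v = v * g)
  (hcomm : ∀ x y : G, x * y * x⁻¹ * y⁻¹ ∈ V)

include hcen hcomm in
theorem sq_mul (g k : G) : (g * k) ^ 2 = cm k g * g ^ 2 * k ^ 2 := by
  have hc : k * g = cm k g * g * k := by unfold cm; group
  have hcg : g * cm k g = cm k g * g := hcen _ (hcomm k g) g
  calc (g * k) ^ 2 = g * (k * g) * k := by rw [pow_two]; group
    _ = g * (cm k g * g * k) * k := by rw [hc]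
    _ = (g * cm k g) * g * k * k := by group
    _ = cm k g * g * g * k * k := by rw [hcg]
    _ = cm k g * g ^ 2 * k ^ 2 := by rw [pow_two, pow_two]; group

include hmem hcen hcomm in
theorem sq_central (g x : G) : x * g ^ 2 = g ^ 2 * x := by
  have hc : x * g * x⁻¹ = cm x g * g := by unfold cm; group
  have hcV : cm x g ∈ V := hcomm x g
  have hcc : Commute (cm x g) g := (hcen _ hcV g).symm
  have h2 : (cm x g) ^ 2 = 1 := (hmem _).1 hcV
  have : x * g ^ 2 * x⁻¹ = g ^ 2 := by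
    rw [← conj_pow, hc, hcc.mul_pow, h2, one_mul]
  calc x * g ^ 2 = x * g ^ 2 * x⁻¹ * x := by group
    _ = g ^ 2 * x := by rw [this]

include hmem hcen hcomm in
theorem pow4_mul (g k : G) : (g * k) ^ 4 = g ^ 4 * k ^ 4 := by
  have hcV : cm k g ∈ V := hcomm k g
  have h2 : (cm k g) ^ 2 = 1 := (hmem _).1 hcV
  have hc1' : Commute (cm k g) (g ^ 2 * k ^ 2) := (hcen _ hcV _).symm
  have hc2 : Commute (g ^ 2) (k ^ 2) := (sq_central hmem hcen hcomm g (k ^ 2)).symm
  calc (g * k) ^ 4 = ((g * k) ^ 2) ^ 2 := by rw [← pow_mul]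
    _ = (cm k g * (g ^ 2 * k ^ 2)) ^ 2 := by rw [sq_mul hcen hcomm, mul_assoc]
    _ = (g ^ 2 * k ^ 2) ^ 2 := by rw [hc1'.mul_pow, h2, one_mul]
    _ = g ^ 4 * k ^ 4 := by rw [hc2.mul_pow, ← pow_mul, ← pow_mul]

include hmem hcen hcomm in
theorem pow2r_mul (r : ℕ) (hr : 2 ≤ r) (g k : G) :
    (g * k) ^ 2 ^ r = g ^ 2 ^ r * k ^ 2 ^ r := by
  obtain ⟨s, rfl⟩ : ∃ s, r = s + 2 := ⟨r - 2, by omega⟩
  have h4 : (2 : ℕ) ^ (s + 2) = 4 * 2 ^ s := by rw [pow_add]; ring
  have hc : Commute (g ^ 4) (k ^ 4) := by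
    have h1 : Commute (g ^ 2) (k ^ 4) := (sq_central hmem hcen hcomm g (k ^ 4)).symm
    have : g ^ 4 = (g ^ 2) ^ 2 := by rw [← pow_mul]
    rw [this]
    exact h1.pow_left 2
  rw [h4, pow_mul, pow_mul, pow_mul, pow4_mul hmem hcen hcomm, hc.mul_pow]


include hcen hcomm in
theorem cm_mul_left (a1 a2 b : G) : cm (a1 * a2) b = cm a1 b * cm a2 b := by
  have h2 : a1 * cm a2 b = cm a2 b * a1 := hcen _ (hcomm a2 b) a1
  have h3 : cm a1 b * cm a2 b = cm a2 b * cm a1 b := hcen _ (hcomm a2 b) _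
  calc cm (a1 * a2) b = a1 * cm a2 b * b * a1⁻¹ * b⁻¹ := by unfold cm; group
    _ = cm a2 b * a1 * b * a1⁻¹ * b⁻¹ := by rw [h2]
    _ = cm a2 b * cm a1 b := by unfold cm; group
    _ = cm a1 b * cm a2 b := h3.symm

include hcen hcomm in
theorem cm_mul_right (a b1 b2 : G) : cm a (b1 * b2) = cm a b1 * cm a b2 := by
  have h2 : a * b1 * a⁻¹ * cm a b2 = cm a b2 * (a * b1 * a⁻¹) := hcen _ (hcomm a b2) _
  have h3 : cm a b1 * cm a b2 = cm a b2 * cm a b1 := hcen _ (hcomm a b2) _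
  calc cm a (b1 * b2) = a * b1 * a⁻¹ * cm a b2 * b1⁻¹ := by unfold cm; group
    _ = cm a b2 * (a * b1 * a⁻¹) * b1⁻¹ := by rw [h2]
    _ = cm a b2 * cm a b1 := by unfold cm; group
    _ = cm a b1 * cm a b2 := h3.symm

/-- changing the first argument by a central factor -/
theorem cm_congr_left {a a' : G} (h : ∀ x : G, x * (a⁻¹ * a') = (a⁻¹ * a') * x) (b : G) :
    cm a' b = cm a b := by
  have ha' : a' = a * (a⁻¹ * a') := by group
  have h1 : b * (a⁻¹ * a')⁻¹ = (a⁻¹ * a')⁻¹ * b := by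
    have := h b
    calc b * (a⁻¹ * a')⁻¹ = (a⁻¹ * a')⁻¹ * ((a⁻¹ * a') * b) * (a⁻¹ * a')⁻¹ := by group
      _ = (a⁻¹ * a')⁻¹ * (b * (a⁻¹ * a')) * (a⁻¹ * a')⁻¹ := by rw [this]
      _ = (a⁻¹ * a')⁻¹ * b := by group
  have h2 := h b
  calc cm a' b = a * ((a⁻¹ * a') * b) * (a⁻¹ * a')⁻¹ * a⁻¹ * b⁻¹ := by unfold cm; group
    _ = a * (b * (a⁻¹ * a')) * (a⁻¹ * a')⁻¹ * a⁻¹ * b⁻¹ := by rw [h2]
    _ = cm a b := by unfold cm; group

/-- changing the second argument by a central factor -/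
theorem cm_congr_right {b b' : G} (h : ∀ x : G, x * (b⁻¹ * b') = (b⁻¹ * b') * x) (a : G) :
    cm a b' = cm a b := by
  have h2 := h a
  calc cm a b' = a * b * (b⁻¹ * b') * a⁻¹ * (b⁻¹ * b')⁻¹ * b⁻¹ := by unfold cm; group
    _ = a * b * ((b⁻¹ * b') * a⁻¹) * (b⁻¹ * b')⁻¹ * b⁻¹ := by group
    _ = a * b * (a⁻¹ * (b⁻¹ * b')) * (b⁻¹ * b')⁻¹ * b⁻¹ := by rw [h a⁻¹]
    _ = cm a b := by unfold cm; group


include hmem hcen hcomm in
/-- the kernel of `g ↦ g ^ 2 ^ r` is central -/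
theorem ker_central (r : ℕ) (hr : 2 ≤ r)
    (hB : ∀ x : G, x ^ 2 ∈ V → x ∈ Subgroup.center G)
    (hsurj : ∀ v ∈ V, ∃ g : G, g ^ 2 ^ r = v)
    (g : G) (hg : g ^ 2 ^ r = 1) : ∀ x : G, x * g = g * x := by
  have : V.Normal := ⟨fun v hv x => by
    have : x * v * x⁻¹ = v := by rw [hcen v hv x]; group
    rw [this]; exact hv⟩
  have hQc : ∀ x y : G ⧸ V, Commute x y := by
    intro x y
    induction x using QuotientGroup.induction_on with | _ a => ?_
    induction y using QuotientGroup.induction_on with | _ b => ?_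
    show (a : G ⧸ V) * b = b * a
    rw [← QuotientGroup.mk_mul, ← QuotientGroup.mk_mul, QuotientGroup.eq]
    have := hcomm b⁻¹ a⁻¹
    simpa [mul_assoc] using this
  have hQ2 : ∀ x : G ⧸ V, x ^ 2 = 1 → ∃ y : G ⧸ V, x = y ^ 2 ^ (r - 1) := by
    intro x hx
    induction x using QuotientGroup.induction_on with | _ a => ?_
    have ha : a ^ 2 ∈ V := by
      rw [← QuotientGroup.mk_pow] at hx
      exact (QuotientGroup.eq_one_iff _).1 hx
    have hac : a ∈ Subgroup.center G := hB a ha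
    obtain ⟨y, hy⟩ := hsurj _ ha
    refine ⟨(y : G ⧸ V), ?_⟩
    rw [← QuotientGroup.mk_pow, QuotientGroup.eq, hmem]
    have hc' : Commute a⁻¹ (y ^ 2 ^ (r - 1)) := by
      have : Commute a (y ^ 2 ^ (r - 1)) := (Subgroup.mem_center_iff.1 hac _).symm
      exact this.inv_left
    rw [hc'.mul_pow, ← pow_mul, inv_pow]
    have : 2 ^ (r - 1) * 2 = 2 ^ r := by
      rw [← pow_succ]; congr 1; omega
    rw [this, hy]; group
  have hP : ∀ s, 1 ≤ s → s ≤ r → ∀ x : G ⧸ V, x ^ 2 ^ s = 1 →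
      ∃ y : G ⧸ V, x = y ^ 2 ^ (r - s) := by
    intro s hs
    induction s, hs using Nat.le_induction with
    | base => intro _ x hx; exact hQ2 x (by simpa using hx)
    | succ s hs1 ih =>
      intro hsr x hx
      have hx2 : (x ^ 2 ^ s) ^ 2 = 1 := by rw [← pow_mul, ← pow_succ]; exact hx
      obtain ⟨y, hy⟩ := hQ2 _ hx2
      have ht : (x * (y ^ 2 ^ (r - s - 1))⁻¹) ^ 2 ^ s = 1 := by
        rw [(hQc _ _).mul_pow, hy, inv_pow, ← pow_mul, ← pow_add]
        have : r - s - 1 + s = r - 1 := by omega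
        rw [this]; exact mul_inv_cancel _
      obtain ⟨y', hy'⟩ := ih (by omega) _ ht
      refine ⟨y' ^ 2 * y, ?_⟩
      have hx' : x = y' ^ 2 ^ (r - s) * y ^ 2 ^ (r - s - 1) := by
        rw [← hy']; group
      have h2 : (2 : ℕ) ^ (r - s) = 2 * 2 ^ (r - s - 1) := by
        rw [← pow_succ']; congr 1; omega
      have h3 : r - (s + 1) = r - s - 1 := by omega
      rw [hx', (hQc _ _).mul_pow, ← pow_mul, h2, h3]
  have hgV : g ^ 2 ^ (r - 1) ∈ V := by
    rw [hmem, ← pow_mul, ← pow_succ]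
    have : r - 1 + 1 = r := by omega
    rw [this]; exact hg
  have hgQ : ((g : G ⧸ V)) ^ 2 ^ (r - 1) = 1 := by
    rw [← QuotientGroup.mk_pow]; exact (QuotientGroup.eq_one_iff _).2 hgV
  obtain ⟨y, hy⟩ := hP (r - 1) (by omega) (by omega) _ hgQ
  induction y using QuotientGroup.induction_on with | _ b => ?_
  have h1 : r - (r - 1) = 1 := by omega
  rw [h1, pow_one, ← QuotientGroup.mk_pow, eq_comm, QuotientGroup.eq] at hy
  obtain ⟨v, hvV, hgv⟩ : ∃ v ∈ V, g = b ^ 2 * v := ⟨(b ^ 2)⁻¹ * g, hy, by group⟩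
  intro x
  rw [hgv]
  have h2 := sq_central hmem hcen hcomm b x
  have h3 := hcen _ hvV x
  calc x * (b ^ 2 * v) = (x * b ^ 2) * v := by group
    _ = b ^ 2 * (x * v) := by rw [h2]; group
    _ = b ^ 2 * v * x := by rw [h3]; group

end core


theorem s1c : S1CStmt.{u} := by
  intro G E _ _ _ _ φ V hLE hyp fr _hA hB hcomm
  by_contra hnc
  push Not at hnc
  obtain ⟨a0, b0, hab⟩ := hnc
  have hmem := fr.mem
  have hcen := fr.cen
  -- the exponent of G ⧸ V
  have hex : ∃ r : ℕ, ∀ g : G, g ^ 2 ^ r ∈ V := by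
    obtain ⟨n, hn⟩ := hyp.pG.exists_card_eq
    refine ⟨n, fun g => ?_⟩
    rw [← hn, pow_card_eq_one']
    exact V.one_mem
  classical
  obtain ⟨r, hr, hmin⟩ : ∃ r : ℕ, (∀ g : G, g ^ 2 ^ r ∈ V) ∧
      ∀ m < r, ¬ (∀ g : G, g ^ 2 ^ m ∈ V) :=
    ⟨Nat.find hex, Nat.find_spec hex, fun m hm => Nat.find_min hex hm⟩
  have hcenter : ∀ g : G, g ^ 2 ∈ V → ∀ x : G, x * g = g * x := fun g hg x =>
    Subgroup.mem_center_iff.1 (hB g hg) x
  have hr2 : 2 ≤ r := by
    by_contra hlt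
    have hsq : ∀ g : G, g ^ 2 ∈ V := by
      intro g
      have hr1 : r = 0 ∨ r = 1 := by omega
      rcases hr1 with h0 | h1
      · have := hr g
        rw [h0, pow_zero, pow_one] at this
        rw [(hmem g).1 this]
        exact V.one_mem
      · have := hr g
        rwa [h1, pow_one] at this
    exact hab ((hcenter b0 (hsq b0) a0))
  obtain ⟨g0, hg0⟩ : ∃ g0 : G, g0 ^ 2 ^ (r - 1) ∉ V := by
    have := hmin (r - 1) (by omega)
    push Not at this
    exact this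
  have hg0' : g0 ^ 2 ^ r ≠ 1 := by
    intro h
    apply hg0
    rw [hmem, ← pow_mul, ← pow_succ]
    have : r - 1 + 1 = r := by omega
    rw [this]; exact h
  -- π is onto V
  let W : Subgroup G :=
    { carrier := {v | ∃ g : G, g ^ 2 ^ r = v}
      mul_mem' := by
        rintro _ _ ⟨g, rfl⟩ ⟨k, rfl⟩
        exact ⟨g * k, pow2r_mul hmem hcen hcomm r hr2 g k⟩
      one_mem' := ⟨1, one_pow _⟩
      inv_mem' := by
        rintro _ ⟨g, rfl⟩
        exact ⟨g⁻¹, inv_pow _ _⟩ }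
  have hWV : W ≤ V := by
    rintro _ ⟨g, rfl⟩
    exact hr g
  have hWinv : Inv φ W := by
    rintro e _ ⟨g, rfl⟩
    exact ⟨φ e g, (map_pow (φ e) g _).symm⟩
  have hWeq : W = V := by
    rcases fr.irr W hWV hWinv with hbot | htop
    · exfalso
      have : g0 ^ 2 ^ r ∈ W := ⟨g0, rfl⟩
      rw [hbot, Subgroup.mem_bot] at this
      exact hg0' this
    · exact htop
  have hsurj : ∀ v ∈ V, ∃ g : G, g ^ 2 ^ r = v := by
    intro v hv
    rw [← hWeq] at hv
    exact hv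
  have hker : ∀ g : G, g ^ 2 ^ r = 1 → ∀ x : G, x * g = g * x :=
    ker_central hmem hcen hcomm r hr2 hB hsurj
  -- elements with the same image differ by a central factor
  have hsame : ∀ a a' : G, a ^ 2 ^ r = a' ^ 2 ^ r → ∀ x : G, x * (a⁻¹ * a') = (a⁻¹ * a') * x := by
    intro a a' h
    apply hker
    rw [pow2r_mul hmem hcen hcomm r hr2, inv_pow, h, inv_mul_cancel]
  -- a section of π
  have hsec : ∀ v : V, ∃ g : G, g ^ 2 ^ r = (v : G) := fun v => hsurj v v.2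
  choose h hh using hsec
  -- the data of LEMMA E
  let aV : E → V → V := fun e v => ⟨φ e v, fr.inv e v v.2⟩
  let b : V → V → V := fun t v => ⟨cm (h v) (h t), hcomm _ _⟩
  have hbval : ∀ t v : V, ((b t v : V) : G) = cm (h v) (h t) := fun _ _ => rfl
  have haVval : ∀ (e : E) (v : V), ((aV e v : V) : G) = φ e v := fun _ _ => rfl
  have hsq1 : ∀ v : V, v * v = 1 := by
    intro v
    apply Subtype.ext
    have := (hmem v).1 v.2
    rw [pow_two] at this
    simpa using this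
  have haVmul : ∀ e (v w : V), aV e (v * w) = aV e v * aV e w := by
    intro e v w
    apply Subtype.ext
    simp [aV]
  have haVcomp : ∀ e f (v : V), aV (e * f) v = aV e (aV f v) := by
    intro e f v
    apply Subtype.ext
    simp [aV, map_mul]
  have haVone : ∀ v : V, aV 1 v = v := by
    intro v
    apply Subtype.ext
    simp [aV]
  have htwo : ∃ v w : V, v ≠ 1 ∧ w ≠ 1 ∧ v ≠ w := by
    obtain ⟨x, y, hx, hy, hxy, hx1, hy1⟩ := fr.two
    refine ⟨⟨x, hx⟩, ⟨y, hy⟩, ?_, ?_, ?_⟩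
    · intro h1; exact hx1 (congrArg Subtype.val h1)
    · intro h1; exact hy1 (congrArg Subtype.val h1)
    · intro h1; exact hxy (congrArg Subtype.val h1)
  have htrans : ∀ v w : V, v ≠ 1 → w ≠ 1 → ∃ e, aV e v = w := by
    intro v w hv hw
    have hv' : (v : G) ≠ 1 := fun h1 => hv (Subtype.ext h1)
    have hw' : (w : G) ≠ 1 := fun h1 => hw (Subtype.ext h1)
    obtain ⟨e, he⟩ := fr.trans v w v.2 w.2 hv' hw'
    exact ⟨e, Subtype.ext he⟩
  have hirr : ∀ S : Subgroup V, (∀ e, ∀ t ∈ S, aV e t ∈ S) → S = ⊥ ∨ S = ⊤ := by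
    intro S hS
    rcases S.bot_or_exists_ne_one with hbot | ⟨s, hsS, hs1⟩
    · exact Or.inl hbot
    · right
      rw [eq_top_iff]
      intro w _
      by_cases hw : w = 1
      · rw [hw]; exact S.one_mem
      · obtain ⟨e, he⟩ := htrans s w hs1 hw
        rw [← he]
        exact hS e s hsS
  have hbl : ∀ t s v : V, b (t * s) v = b t v * b s v := by
    intro t s v
    apply Subtype.ext
    rw [Subgroup.coe_mul, hbval, hbval, hbval]
    have h1 : cm (h v) (h (t * s)) = cm (h v) (h t * h s) := by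
      apply cm_congr_right
      apply hsame
      rw [pow2r_mul hmem hcen hcomm r hr2, hh, hh, hh, Subgroup.coe_mul]
    rw [h1, cm_mul_right hcen hcomm]
  have hbr : ∀ t v w : V, b t (v * w) = b t v * b t w := by
    intro t v w
    apply Subtype.ext
    rw [Subgroup.coe_mul, hbval, hbval, hbval]
    have h1 : cm (h (v * w)) (h t) = cm (h v * h w) (h t) := by
      apply cm_congr_left
      apply hsame
      rw [pow2r_mul hmem hcen hcomm r hr2, hh, hh, hh, Subgroup.coe_mul]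
    rw [h1, cm_mul_left hcen hcomm]
  have hbeq : ∀ e (t v : V), b (aV e t) (aV e v) = aV e (b t v) := by
    intro e t v
    apply Subtype.ext
    rw [hbval, haVval, hbval]
    have h1 : cm (h (aV e v)) (h (aV e t)) = cm (φ e (h v)) (h (aV e t)) := by
      apply cm_congr_left
      apply hsame
      rw [hh, ← map_pow, hh]
    have h2 : cm (φ e (h v)) (h (aV e t)) = cm (φ e (h v)) (φ e (h t)) := by
      apply cm_congr_right
      apply hsame
      rw [hh, ← map_pow, hh]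
    rw [h1, h2]
    simp [cm]
  have hbne : ∃ t v : V, b t v ≠ 1 := by
    refine ⟨⟨b0 ^ 2 ^ r, hr b0⟩, ⟨a0 ^ 2 ^ r, hr a0⟩, ?_⟩
    intro h1
    have h2 : cm (h ⟨a0 ^ 2 ^ r, hr a0⟩) (h ⟨b0 ^ 2 ^ r, hr b0⟩) = 1 := by
      have := congrArg Subtype.val h1
      simpa [hbval] using this
    have h3 : cm (h ⟨a0 ^ 2 ^ r, hr a0⟩) (h ⟨b0 ^ 2 ^ r, hr b0⟩) = cm a0 b0 := by
      have e1 : cm (h ⟨a0 ^ 2 ^ r, hr a0⟩) (h ⟨b0 ^ 2 ^ r, hr b0⟩)
          = cm a0 (h ⟨b0 ^ 2 ^ r, hr b0⟩) := by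
        apply cm_congr_left
        apply hsame
        rw [hh]
      have e2 : cm a0 (h ⟨b0 ^ 2 ^ r, hr b0⟩) = cm a0 b0 := by
        apply cm_congr_right
        apply hsame
        rw [hh]
      rw [e1, e2]
    rw [h3, cm_eq_one_iff] at h2
    exact hab h2
  have htwo' := htwo
  obtain ⟨v0, _, hv01, _, _⟩ := htwo
  have hfin := hLE E V V aV aV b hyp.solv hsq1 hsq1 haVmul haVcomp haVone haVmul haVcomp haVone
    htwo' htrans hirr hbl hbr hbeq hbne v0 v0 hv01 hv01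
  apply hfin
  apply Subtype.ext
  rw [hbval, cm_self]
  rfl

example : S1CStmt.{0} := s1c

end Cfsg.Agent.Lib.H29.S3776S1C
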