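import Cfsg.Agent.Lib.H25.S3797MLDefs
import Cfsg.Agent.Lib.H1.CoprimeAction

/-!
helper29: S3797 (solvable groups with one class of involutions), MAIN LEMMA, piece M0B of helper25's split
interface in its exact shape: `GCoreStmt → MLStmt`.  `D` = the elements acting trivially on `K/V` (a normal
subgroup); if `S ⊄ D` the 2-group `S / (S ⊓ D)` has a central involution `z`; GCORE applied to the preimage `T`
of `Ω₁(Z(S / S ⊓ D))` shows that `E` centralises `z` modulo `S ⊓ D`; coprime action and `C_S(E) = 1` give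
`z ∈ D`, a contradiction.
-/

set_option autoImplicit false

namespace Cfsg.Agent.Lib.H29.S3797M0B

universe u

open Cfsg.Agent.Lib.H19.S3797 Cfsg.Agent.Lib.H25.S3797ML

section
variable {G : Type u} [Group G]

/-- the elements acting trivially on `K/V`, as a subgroup -/
def trivSub (V K : Subgroup G) (hV : V.Normal) (hK : K.Normal) : Subgroup G where
  carrier := {x | TrivOn V K x}
  one_mem' := by
    intro k _
    simp only [one_mul, inv_one, mul_one, mul_inv_cancel]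
    exact V.one_mem
  mul_mem' := by
    intro x y hx hy k hk
    have h1 : y * k * y⁻¹ ∈ K := hK.conj_mem k hk y
    have h2 := hx (y * k * y⁻¹) h1
    have h3 := hy k hk
    have h4 : x * (y * k * y⁻¹ * k⁻¹) * x⁻¹ ∈ V := hV.conj_mem _ h3 x
    have e : x * y * k * (x * y)⁻¹ * k⁻¹ =
        (x * (y * k * y⁻¹) * x⁻¹ * (y * k * y⁻¹)⁻¹) * (y * k * y⁻¹ * k⁻¹) := by group
    rw [e]
    exact V.mul_mem h2 h3
  inv_mem' := by
    intro x hx k hk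
    have h1 : x⁻¹ * k * x⁻¹⁻¹ ∈ K := hK.conj_mem k hk x⁻¹
    have h2 := hx _ h1
    have h3 := V.inv_mem h2
    have e : x⁻¹ * k * x⁻¹⁻¹ * k⁻¹ = (x * (x⁻¹ * k * x⁻¹⁻¹) * x⁻¹ * (x⁻¹ * k * x⁻¹⁻¹)⁻¹)⁻¹ := by group
    rw [e]
    exact h3

theorem mem_trivSub {V K : Subgroup G} (hV : V.Normal) (hK : K.Normal) (x : G) :
    x ∈ trivSub V K hV hK ↔ TrivOn V K x := Iff.rfl

theorem trivSub_normal (V K : Subgroup G) (hV : V.Normal) (hK : K.Normal) :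
    (trivSub V K hV hK).Normal := by
  constructor
  intro x hx g k hk
  have h1 : g⁻¹ * k * g⁻¹⁻¹ ∈ K := hK.conj_mem k hk g⁻¹
  have h2 := hx _ h1
  have h3 : g * (x * (g⁻¹ * k * g⁻¹⁻¹) * x⁻¹ * (g⁻¹ * k * g⁻¹⁻¹)⁻¹) * g⁻¹ ∈ V := hV.conj_mem _ h2 g
  have e : g * x * g⁻¹ * k * (g * x * g⁻¹)⁻¹ * k⁻¹ =
      g * (x * (g⁻¹ * k * g⁻¹⁻¹) * x⁻¹ * (g⁻¹ * k * g⁻¹⁻¹)⁻¹) * g⁻¹ := by group
  rw [e]
  exact h3

/-- if `A` normalises `S` and `D` is normal then `A` normalises `S ⊓ D` -/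
theorem le_normalizer_inf {A S D : Subgroup G} (hD : D.Normal)
    (hA : ∀ a ∈ A, ∀ s ∈ S, a * s * a⁻¹ ∈ S) : A ≤ Subgroup.normalizer ((S ⊓ D : Subgroup G) : Set G) := by
  intro a ha
  rw [Subgroup.mem_normalizer_iff]
  intro x
  constructor
  · rintro ⟨h1, h2⟩
    exact ⟨hA a ha x h1, hD.conj_mem x h2 a⟩
  · rintro ⟨h1, h2⟩
    have h3 := hA a⁻¹ (A.inv_mem ha) _ h1
    have h4 := hD.conj_mem _ h2 a⁻¹
    have e : a⁻¹ * (a * x * a⁻¹) * a⁻¹⁻¹ = x := by group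
    rw [e] at h3 h4
    exact ⟨h3, h4⟩

theorem le_normalizer_of_conj {A S : Subgroup G}
    (hA : ∀ a ∈ A, ∀ s ∈ S, a * s * a⁻¹ ∈ S) : A ≤ Subgroup.normalizer (S : Set G) := by
  intro a ha
  rw [Subgroup.mem_normalizer_iff]
  intro x
  constructor
  · intro h1
    exact hA a ha x h1
  · intro h1
    have h3 := hA a⁻¹ (A.inv_mem ha) _ h1
    have e : a⁻¹ * (a * x * a⁻¹) * a⁻¹⁻¹ = x := by group
    rwa [e] at h3

end

/-- a 2-subgroup `S` not inside the normal subgroup `D` has an element `z ∉ D` with `z² ∈ D` which is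
central modulo `D` -/
theorem exists_central_invol {G : Type u} [Group G] [Finite G] (S D : Subgroup G) (hS : IsPGroup 2 S)
    (hD : D.Normal) (hne : ∃ s ∈ S, s ∉ D) :
    ∃ z ∈ S, z ∉ D ∧ z ^ 2 ∈ D ∧ ∀ t ∈ S, z * t * z⁻¹ * t⁻¹ ∈ D := by
  have : Fact (Nat.Prime 2) := ⟨Nat.prime_two⟩
  have := hD
  have hQ : IsPGroup 2 (↥S ⧸ D.subgroupOf S) := hS.to_quotient _
  obtain ⟨s, hs, hsD⟩ := hne
  have : Nontrivial (↥S ⧸ D.subgroupOf S) := by
    refine ⟨⟨(QuotientGroup.mk ⟨s, hs⟩ : ↥S ⧸ D.subgroupOf S), 1, ?_⟩⟩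
    intro h
    rw [QuotientGroup.eq_one_iff] at h
    exact hsD (Subgroup.mem_subgroupOf.1 h)
  have := hQ.center_nontrivial
  obtain ⟨c, hc⟩ := exists_ne (1 : Subgroup.center (↥S ⧸ D.subgroupOf S))
  have hc1 : (c : ↥S ⧸ D.subgroupOf S) ≠ 1 := fun h => hc (Subtype.ext h)
  -- least power
  have hex : ∃ k : ℕ, (c : ↥S ⧸ D.subgroupOf S) ^ 2 ^ k = 1 := hQ _
  classical
  let k := Nat.find hex
  have hk : (c : ↥S ⧸ D.subgroupOf S) ^ 2 ^ k = 1 := Nat.find_spec hex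
  have hk0 : k ≠ 0 := by
    intro h0
    rw [h0, pow_zero, pow_one] at hk
    exact hc1 hk
  obtain ⟨j, hj⟩ : ∃ j, k = j + 1 := ⟨k - 1, by omega⟩
  have hwne : (c : ↥S ⧸ D.subgroupOf S) ^ 2 ^ j ≠ 1 := by
    intro h
    have := Nat.find_min' hex h
    omega
  have hw2 : ((c : ↥S ⧸ D.subgroupOf S) ^ 2 ^ j) ^ 2 = 1 := by
    rw [← pow_mul, ← pow_succ, ← hj]; exact hk
  have hwc : (c : ↥S ⧸ D.subgroupOf S) ^ 2 ^ j ∈ Subgroup.center (↥S ⧸ D.subgroupOf S) :=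
    Subgroup.pow_mem _ c.2 _
  obtain ⟨w, hw⟩ := QuotientGroup.mk_surjective ((c : ↥S ⧸ D.subgroupOf S) ^ 2 ^ j)
  refine ⟨(w : G), w.2, ?_, ?_, ?_⟩
  · intro h
    apply hwne
    rw [← hw, QuotientGroup.eq_one_iff]
    exact Subgroup.mem_subgroupOf.2 h
  · have h1 : (QuotientGroup.mk (w ^ 2) : ↥S ⧸ D.subgroupOf S) = 1 := by
      rw [QuotientGroup.mk_pow, hw, hw2]
    rw [QuotientGroup.eq_one_iff] at h1
    have := Subgroup.mem_subgroupOf.1 h1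
    simpa using this
  · intro t ht
    have hcomm := Subgroup.mem_center_iff.1 hwc (QuotientGroup.mk ⟨t, ht⟩)
    rw [← hw] at hcomm
    have h1 : (QuotientGroup.mk (w * ⟨t, ht⟩ * w⁻¹ * (⟨t, ht⟩ : ↥S)⁻¹) : ↥S ⧸ D.subgroupOf S) = 1 := by
      rw [QuotientGroup.mk_mul, QuotientGroup.mk_mul, QuotientGroup.mk_mul, QuotientGroup.mk_inv,
        QuotientGroup.mk_inv, ← hcomm]
      group
    rw [QuotientGroup.eq_one_iff] at h1
    have := Subgroup.mem_subgroupOf.1 h1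
    simpa using this

theorem m0b : M0BStmt.{u} := by
  intro hcore G _ _ V K S E hVn hKn hVK hVmem hVcen hKsq hS2 hSV hEodd hES htrans hfix
  have : Fact (Nat.Prime 2) := ⟨Nat.prime_two⟩
  have hDn := trivSub_normal V K hVn hKn
  by_contra hcon
  have hne : ∃ s ∈ S, s ∉ trivSub V K hVn hKn := by
    by_contra h
    push Not at h
    apply hcon
    intro s hs k hk
    exact h s hs k hk
  obtain ⟨z, hzS, hzD, hz2, hzc⟩ := exists_central_invol S (trivSub V K hVn hKn) hS2 hDn hne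
  -- the set T
  have hT := hcore G V K E
    {s | s ∈ S ∧ s ^ 2 ∈ trivSub V K hVn hKn ∧ ∀ t ∈ S, s * t * s⁻¹ * t⁻¹ ∈ trivSub V K hVn hKn}
    hVn hKn hVK hVmem hVcen hKsq
    (fun t ht v hv => hSV t ht.1 v hv)
    (by
      intro e he t ht
      refine ⟨hES e he t ht.1, ?_, ?_⟩
      · have e1 : (e * t * e⁻¹) ^ 2 = e * t ^ 2 * e⁻¹ := conj_pow
        rw [e1]
        exact hDn.conj_mem _ ht.2.1 e
      · intro t' ht'
        have h1 : e⁻¹ * t' * e⁻¹⁻¹ ∈ S := hES e⁻¹ (E.inv_mem he) t' ht'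
        have h2 := ht.2.2 _ h1
        have h3 := hDn.conj_mem _ h2 e
        have e2 : e * t * e⁻¹ * t' * (e * t * e⁻¹)⁻¹ * t'⁻¹ =
            e * (t * (e⁻¹ * t' * e⁻¹⁻¹) * t⁻¹ * (e⁻¹ * t' * e⁻¹⁻¹)⁻¹) * e⁻¹ := by group
        rw [e2]
        exact h3)
    htrans
    (fun t ht => ht.2.1)
    (fun t ht t' ht' => ht.2.2 t' ht'.1)
  have hzT : z ∈ {s | s ∈ S ∧ s ^ 2 ∈ trivSub V K hVn hKn ∧
      ∀ t ∈ S, s * t * s⁻¹ * t⁻¹ ∈ trivSub V K hVn hKn} := ⟨hzS, hz2, hzc⟩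
  -- E centralises z modulo S ⊓ D
  have hfix' : ∀ e ∈ E, e * z * e⁻¹ * z⁻¹ ∈ S ⊓ trivSub V K hVn hKn := by
    intro e he
    have hezS : e * z * e⁻¹ ∈ S := hES e he z hzS
    refine ⟨S.mul_mem hezS (S.inv_mem hzS), ?_⟩
    have hezT : e * z * e⁻¹ ∈ {s | s ∈ S ∧ s ^ 2 ∈ trivSub V K hVn hKn ∧
        ∀ t ∈ S, s * t * s⁻¹ * t⁻¹ ∈ trivSub V K hVn hKn} := by
      refine ⟨hezS, ?_, ?_⟩
      · have e1 : (e * z * e⁻¹) ^ 2 = e * z ^ 2 * e⁻¹ := conj_pow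
        rw [e1]
        exact hDn.conj_mem _ hz2 e
      · intro t' ht'
        have h1 : e⁻¹ * t' * e⁻¹⁻¹ ∈ S := hES e⁻¹ (E.inv_mem he) t' ht'
        have h2 := hzc _ h1
        have h3 := hDn.conj_mem _ h2 e
        have e2 : e * z * e⁻¹ * t' * (e * z * e⁻¹)⁻¹ * t'⁻¹ =
            e * (z * (e⁻¹ * t' * e⁻¹⁻¹) * z⁻¹ * (e⁻¹ * t' * e⁻¹⁻¹)⁻¹) * e⁻¹ := by group
        rw [e2]
        exact h3
    have hezD : ¬ TrivOn V K (e * z * e⁻¹) := by
      intro h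
      apply hzD
      have h4 := hDn.conj_mem _ ((mem_trivSub hVn hKn _).2 h) e⁻¹
      have e3 : e⁻¹ * (e * z * e⁻¹) * e⁻¹⁻¹ = z := by group
      rwa [e3] at h4
    have h5 : TrivOn V K (z⁻¹ * (e * z * e⁻¹)) := hT z hzT _ hezT hzD hezD
    have h6 := hDn.conj_mem _ ((mem_trivSub hVn hKn _).2 h5) z
    have e4 : z * (z⁻¹ * (e * z * e⁻¹)) * z⁻¹ = e * z * e⁻¹ * z⁻¹ := by group
    rwa [e4] at h6
  -- coprime action
  have hco : Cfsg.Agent.Lib.H1.CoprimeAction E S := by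
    refine ⟨le_normalizer_of_conj hES, ?_, Or.inr ?_⟩
    · obtain ⟨k, hk⟩ := (IsPGroup.iff_card).1 hS2
      rw [hk]
      exact (Nat.coprime_two_right.2 hEodd).pow_right k
    · have := hS2.isNilpotent
      infer_instance
  obtain ⟨c, hc, hzc'⟩ := Cfsg.Agent.Lib.H1.coprime_centralizer_quotient hco
    (N := S ⊓ trivSub V K hVn hKn) inf_le_left
    (le_normalizer_inf hDn (fun a ha s hs => S.mul_mem (S.mul_mem ha hs) (S.inv_mem ha)))
    (le_normalizer_inf hDn hES) hzS hfix'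
  have hc1 : c = 1 := by
    apply hfix c hc.1
    intro e he
    have := Subgroup.mem_centralizer_iff.1 hc.2 e he
    rw [this]; group
  rw [hc1, mul_one] at hzc'
  exact hzD (by simpa using (trivSub V K hVn hKn).inv_mem hzc'.2)

example : M0BStmt.{0} := m0b

end Cfsg.Agent.Lib.H29.S3797M0B
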