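import Cfsg.Agent.Lib.H5.S3797MLDefs

/-!
helper29: S3797 (solvable groups with one class of involutions), MAIN LEMMA, piece M3 of helper5's additive
sub-cut, in its exact shape: if `W` acts non-trivially then `κ` maps `M = [U, W]` bijectively onto `V`.
(`M` is invariant under the maps `a i`, `κ` is additive and injective on the isotropic `M`, its image has a
non-zero element and is invariant under the transitive maps `b i`.)
-/

set_option autoImplicit false

namespace Cfsg.Agent.Lib.H29.S3797M3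

universe u

open Cfsg.Agent.Lib.H5.S3797ML

section
variable {U V : Type u} [AddCommGroup U] [AddCommGroup V] {κ : U → V} {β : U → U → V}

theorem beta_zero_left (hQ : Quad κ β) (z : U) : β 0 z = 0 := by
  have h := hQ.add_left 0 0 z
  rw [add_zero] at h
  have h' : β 0 z + 0 = β 0 z + β 0 z := by rw [add_zero]; exact h
  exact (add_left_cancel h').symm

theorem kappa_zero (hQ : Quad κ β) : κ 0 = 0 := by
  have h := hQ.polar 0 0
  rw [add_zero, beta_zero_left hQ, add_zero] at h
  have h' : κ 0 + 0 = κ 0 + κ 0 := by rw [add_zero]; exact h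
  exact (add_left_cancel h').symm

theorem neg_eq_self (hQ : Quad κ β) (x : U) : -x = x :=
  neg_eq_of_add_eq_zero_left (hQ.two_U x)

variable {W : Set (U → U)} {I : Type u} {a : I → U → U} {b : I → V → V}

theorem a_zero (hA : Act κ W a b) (i : I) : a i 0 = 0 := by
  have h := hA.a_add i 0 0
  rw [add_zero] at h
  have h' : a i 0 + 0 = a i 0 + a i 0 := by rw [add_zero]; exact h
  exact (add_left_cancel h').symm

/-- `M` is invariant under the maps `a i` -/
theorem a_mem (hQ : Quad κ β) (hA : Act κ W a b) (i : I) {m : U} (hm : m ∈ Mof W) :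
    a i m ∈ Mof W := by
  unfold Mof at hm
  induction hm using AddSubgroup.closure_induction with
  | mem y hy =>
    obtain ⟨g, hg, x, rfl⟩ := hy
    obtain ⟨h, hh, hx⟩ := hA.Winv i g hg
    rw [hA.a_add, hx]
    exact AddSubgroup.subset_closure ⟨h, hh, a i x, rfl⟩
  | zero => rw [a_zero hA]; exact (Mof W).zero_mem
  | add x y _ _ hx hy => rw [hA.a_add]; exact (Mof W).add_mem hx hy
  | neg x _ hx => rw [neg_eq_self hQ]; exact hx

theorem kappa_add (hQ : Quad κ β) (hiso : ∀ m ∈ Mof W, ∀ m' ∈ Mof W, β m m' = 0)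
    {m m' : U} (hm : m ∈ Mof W) (hm' : m' ∈ Mof W) : κ (m + m') = κ m + κ m' := by
  rw [hQ.polar, hiso m hm m' hm', add_zero]

theorem kappa_inj (hQ : Quad κ β) (hiso : ∀ m ∈ Mof W, ∀ m' ∈ Mof W, β m m' = 0)
    {m m' : U} (hm : m ∈ Mof W) (hm' : m' ∈ Mof W) (h : κ m = κ m') : m = m' := by
  have h1 : κ (m + m') = 0 := by rw [kappa_add hQ hiso hm hm', h, hQ.two_V]
  have h2 := hQ.anis _ h1
  have h3 : m + m' = m' + m' := by rw [h2, hQ.two_U]
  exact add_right_cancel h3

end

theorem m3 : M3Stmt.{u} := by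
  intro U V _ _ _ _ κ β W I a b hQ hW hA hiso hne
  obtain ⟨g, hg, x, hx⟩ := hne
  have hm0M : x + g x ∈ Mof W := AddSubgroup.subset_closure ⟨g, hg, x, rfl⟩
  have hm0 : x + g x ≠ 0 := by
    intro h
    apply hx
    have h2 : x + g x = x + x := by rw [h, hQ.two_U]
    exact add_left_cancel h2
  have hk0 : κ (x + g x) ≠ 0 := fun h => hm0 (hQ.anis _ h)
  have hsurj : ∀ v : V, ∃ m ∈ Mof W, κ m = v := by
    intro v
    by_cases hv : v = 0
    · exact ⟨0, (Mof W).zero_mem, by rw [hv, kappa_zero hQ]⟩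
    · obtain ⟨i, hi⟩ := hA.trans (κ (x + g x)) v hk0 hv
      exact ⟨a i (x + g x), a_mem hQ hA i hm0M, by rw [hA.equiv, hi]⟩
  refine ⟨hsurj, ?_⟩
  apply Nat.card_eq_of_bijective (fun m : Mof W => κ (m : U))
  constructor
  · intro m m' h
    exact Subtype.ext (kappa_inj hQ hiso m.2 m'.2 h)
  · intro v
    obtain ⟨m, hm, hmv⟩ := hsurj v
    exact ⟨⟨m, hm⟩, hmv⟩

example : M3Stmt.{0} := m3

end Cfsg.Agent.Lib.H29.S3797M3
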