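import Cfsg.Agent.Lib.H5.S3797MLDefs

/-!
helper29: S3797 (solvable groups with one class of involutions), MAIN LEMMA, piece M4 (the end game) of
helper5's additive sub-cut, in its exact shape.  Route (shorter than the paper's count): `Θ_g x = x + g x` lies in
`M` and in `F_x = {m ∈ M | β m x = κ m}`; a non-zero `m ∈ M` lies in `F_x` for the `x` of exactly one coset of
`M`; so for `g ≠ id` the kernel of `Θ_g` is `M`, by the first isomorphism theorem `Θ_g` is onto `M`, and two
such maps `Θ_g`, `Θ_h` agree.  Neither the action of `E` nor the surjectivity of `β c` is used.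
-/

set_option autoImplicit false

namespace Cfsg.Agent.Lib.H29.S3797M4

universe u

open Cfsg.Agent.Lib.H5.S3797ML

section
variable {U V : Type u} [AddCommGroup U] [AddCommGroup V] {κ : U → V} {β : U → U → V}

theorem beta_symm (hQ : Quad κ β) (x y : U) : β x y = β y x := by
  have h1 := hQ.polar x y
  have h2 := hQ.polar y x
  rw [add_comm y x] at h2
  have h3 : κ x + κ y + β x y = κ x + κ y + β y x := by
    rw [← h1, h2, add_comm (κ y) (κ x)]
  exact add_left_cancel h3

theorem beta_zero_left (hQ : Quad κ β) (z : U) : β 0 z = 0 := by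
  have h := hQ.add_left 0 0 z
  rw [add_zero] at h
  have h' : β 0 z + 0 = β 0 z + β 0 z := by rw [add_zero]; exact h
  exact (add_left_cancel h').symm

theorem kappa_zero (hQ : Quad κ β) : κ 0 = 0 := by
  have h := hQ.polar 0 0
  rw [add_zero, beta_zero_left hQ, add_zero] at h
  have h' : κ 0 + 0 = κ 0 + κ 0 := by rw [add_zero]; exact h
  exact (add_left_cancel h').symm

theorem beta_self (hQ : Quad κ β) (x : U) : β x x = 0 := by
  have h := hQ.polar x x
  rw [hQ.two_U x, kappa_zero hQ, hQ.two_V (κ x), zero_add] at h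
  exact h.symm

theorem beta_add_right (hQ : Quad κ β) (x y z : U) : β x (y + z) = β x y + β x z := by
  rw [beta_symm hQ x (y + z), hQ.add_left, beta_symm hQ y x, beta_symm hQ z x]

variable {W : Set (U → U)}

theorem theta_mem {g : U → U} (hg : g ∈ W) (x : U) : x + g x ∈ Mof W :=
  AddSubgroup.subset_closure ⟨g, hg, x, rfl⟩

theorem theta_F (hQ : Quad κ β) (hW : Invs κ W) {g : U → U} (hg : g ∈ W) (x : U) :
    β (x + g x) x = κ (x + g x) := by
  rw [hQ.add_left, beta_self hQ, zero_add, hQ.polar, hW.pres g hg x, hQ.two_V, zero_add,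
    beta_symm hQ]

theorem theta_add (hW : Invs κ W) {g : U → U} (hg : g ∈ W) (x y : U) :
    (x + y) + g (x + y) = (x + g x) + (y + g y) := by
  rw [hW.add g hg x y]; abel

theorem uniq (hQ : Quad κ β)
    (h6 : ∀ c ∈ Mof W, c ≠ 0 → ∀ x : U, β c x = 0 → x ∈ Mof W)
    {m : U} (hm : m ∈ Mof W) (hm0 : m ≠ 0) {x x' : U} (h1 : β m x = κ m) (h2 : β m x' = κ m) :
    x + x' ∈ Mof W := by
  apply h6 m hm hm0
  rw [beta_add_right hQ, h1, h2, hQ.two_V]

/-- (a) for `g ≠ id` the kernel of `x ↦ x + g x` is inside `M` -/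
theorem ker_le (hQ : Quad κ β) (hW : Invs κ W)
    (h6 : ∀ c ∈ Mof W, c ≠ 0 → ∀ x : U, β c x = 0 → x ∈ Mof W)
    {g : U → U} (hg : g ∈ W) (hne : ∃ y : U, g y ≠ y) {x : U} (hx : x + g x = 0) :
    x ∈ Mof W := by
  obtain ⟨y, hy⟩ := hne
  have hm0 : y + g y ≠ 0 := by
    intro h
    apply hy
    have h2 : y + g y = y + y := by rw [h, hQ.two_U]
    exact add_left_cancel h2
  have hF1 : β (y + g y) y = κ (y + g y) := theta_F hQ hW hg y
  have hsum : (x + y) + g (x + y) = y + g y := by
    rw [theta_add hW hg, hx, zero_add]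
  have hF2 : β (y + g y) (x + y) = κ (y + g y) := by
    have := theta_F hQ hW hg (x + y)
    rwa [hsum] at this
  have := uniq hQ h6 (theta_mem hg y) hm0 hF1 hF2
  have e : y + (x + y) = x := by
    have : y + (x + y) = x + (y + y) := by abel
    rw [this, hQ.two_U, add_zero]
  rwa [e] at this

end

section
variable {U V : Type u} [AddCommGroup U] [AddCommGroup V] [Finite U] [Finite V]
  {κ : U → V} {β : U → U → V} {W : Set (U → U)}

/-- (b) for `g ≠ id` the map `x ↦ x + g x` is onto `M` -/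
theorem theta_surj (hQ : Quad κ β) (hW : Invs κ W)
    (h1 : ∀ m ∈ Mof W, ∀ g ∈ W, g m = m)
    (hU : Nat.card U = Nat.card V ^ 2) (hM : Nat.card (Mof W) = Nat.card V)
    (h6 : ∀ c ∈ Mof W, c ≠ 0 → ∀ x : U, β c x = 0 → x ∈ Mof W)
    {g : U → U} (hg : g ∈ W) (hne : ∃ y : U, g y ≠ y) {m : U} (hm : m ∈ Mof W) :
    ∃ y : U, y + g y = m := by
  let θ : U →+ U := AddMonoidHom.mk' (fun x => x + g x) (fun x y => theta_add hW hg x y)
  have hker : θ.ker = Mof W := by
    ext x
    rw [AddMonoidHom.mem_ker]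
    constructor
    · intro hx
      exact ker_le hQ hW h6 hg hne hx
    · intro hx
      show x + g x = 0
      rw [h1 x hx g hg, hQ.two_U]
  have hrange : θ.range ≤ Mof W := by
    rintro _ ⟨x, rfl⟩
    exact theta_mem hg x
  have hc1 : Nat.card U = Nat.card (U ⧸ θ.ker) * Nat.card θ.ker :=
    AddSubgroup.card_eq_card_quotient_mul_card_addSubgroup θ.ker
  have hc2 : Nat.card (U ⧸ θ.ker) = Nat.card θ.range :=
    Nat.card_congr (QuotientAddGroup.quotientKerEquivRange θ).toEquiv
  have hVpos : 0 < Nat.card V := Nat.card_pos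
  have hc3 : Nat.card θ.range = Nat.card V := by
    rw [hc2, hker, hM, hU, pow_two] at hc1
    exact (Nat.eq_of_mul_eq_mul_right hVpos hc1).symm
  have heq : θ.range = Mof W := by
    apply AddSubgroup.eq_of_le_of_card_ge hrange
    rw [hM, hc3]
  have : m ∈ θ.range := by rw [heq]; exact hm
  obtain ⟨y, hy⟩ := this
  exact ⟨y, hy⟩

end

theorem m4 : M4Stmt.{u} := by
  intro U V _ _ _ _ κ β W I a b hQ hW _ h1 _ hU hM _ h6 g hg h hh hgne hhne x
  by_cases hx : x ∈ Mof W
  · rw [h1 x hx g hg, h1 x hx h hh]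
  · -- m := x + g x ≠ 0
    have hm0 : x + g x ≠ 0 := fun h0 => hx (ker_le hQ hW h6 hg hgne h0)
    obtain ⟨y, hy⟩ := theta_surj hQ hW h1 hU hM h6 hh hhne (theta_mem hg x)
    have hF1 : β (x + g x) x = κ (x + g x) := theta_F hQ hW hg x
    have hF2 : β (x + g x) y = κ (x + g x) := by
      have := theta_F hQ hW hh y
      rwa [hy] at this
    have hxy : x + y ∈ Mof W := uniq hQ h6 (theta_mem hg x) hm0 hF1 hF2
    -- h fixes x + y
    have h3 : (x + y) + h (x + y) = 0 := by rw [h1 _ hxy h hh, hQ.two_U]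
    rw [theta_add hW hh, hy] at h3
    -- (x + h x) + (x + g x) = 0  ⇒  h x = g x
    have h4 : x + h x = x + g x := by
      have : (x + h x) + (x + g x) = (x + g x) + (x + g x) := by rw [h3, hQ.two_U]
      exact add_right_cancel this
    exact (add_left_cancel h4).symm

example : M4Stmt.{0} := m4

end Cfsg.Agent.Lib.H29.S3797M4
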