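import Cfsg.Agent.Lib.H19.S3797Defs

/-!
helper29: S3797 (solvable groups with one class of involutions), piece RED-C of helper19's cut in its exact
shape: `N` normal of odd order, the Sylow 2-subgroups of `G ⧸ N` normal, one class of involutions.  Then the
group `Y` of automorphisms of the Sylow 2-subgroup `S` induced by `N_G(S)` is solvable and transitive on the
involutions of `S`.  (`S N` is normal, Frattini `G = S N N_G(S)`, and `S ⊓ N = ⊥`.)
-/

set_option autoImplicit false

namespace Cfsg.Agent.Lib.H29.S3797RedC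

universe u

open Cfsg.Agent.Lib.H19.S3797

section
variable {G : Type u} [Group G]

/-- conjugation by the elements of the normaliser, as automorphisms of the subgroup -/
noncomputable def conjHom (S : Subgroup G) : ↥(Subgroup.normalizer (S : Set G)) →* MulAut ↥S :=
  (MulAut.congr (Subgroup.subgroupOfEquivOfLe (Subgroup.le_normalizer (H := S)))).toMonoidHom.comp
    (MulAut.conjNormal (H := S.subgroupOf (Subgroup.normalizer (S : Set G))))

theorem conjHom_apply_coe (S : Subgroup G) (h : ↥(Subgroup.normalizer (S : Set G))) (s : ↥S) :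
    ((conjHom S h s : ↥S) : G) = (h : G) * (s : G) * (h : G)⁻¹ := by
  simp [conjHom, MulAut.congr]

theorem sylow_inf_eq_bot_of_odd [Finite G] (S : Sylow 2 G) (N : Subgroup G) (hN : Odd (Nat.card N)) :
    (S : Subgroup G) ⊓ N = ⊥ := by
  have : Fact (Nat.Prime 2) := ⟨Nat.prime_two⟩
  apply disjoint_iff.1
  apply Subgroup.disjoint_of_coprime_natCard
  obtain ⟨k, hk⟩ := (IsPGroup.iff_card).1 S.isPGroup'
  rw [hk]
  exact Nat.Coprime.pow_left k (Nat.coprime_two_left.2 hN)

end

theorem redc : RedCStmt.{u} := by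
  intro G _ _ N _ hsol hNodd hT hconj S
  have : Fact (Nat.Prime 2) := ⟨Nat.prime_two⟩
  refine ⟨(conjHom (S : Subgroup G)).range, ?_, ?_⟩
  · have := hsol
    exact Group.isSolvable_of_surjective (conjHom (S : Subgroup G)).rangeRestrict_surjective
  · intro x y hx1 hx2 hy1 hy2
    have hsurj := QuotientGroup.mk'_surjective N
    have hTn : ((S.mapSurjective hsurj : Sylow 2 (G ⧸ N)) : Subgroup (G ⧸ N)).Normal := hT _
    have hM : ((S : Subgroup G) ⊔ N).Normal := by
      have h1 : (((S.mapSurjective hsurj : Sylow 2 (G ⧸ N)) : Subgroup (G ⧸ N)).comap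
          (QuotientGroup.mk' N)) = (S : Subgroup G) ⊔ N := by
        rw [Sylow.coe_mapSurjective, Subgroup.comap_map_eq, QuotientGroup.ker_mk']
      rw [← h1]
      exact hTn.comap _
    have := hM
    have hfr : Subgroup.normalizer ((S : Subgroup G) : Set G) ⊔ ((S : Subgroup G) ⊔ N) = ⊤ :=
      Sylow.normalizer_sup_eq_top' S (N := (S : Subgroup G) ⊔ N) le_sup_left
    have hx1' : (x : G) ≠ 1 := fun h => hx1 (Subtype.ext h)
    have hy1' : (y : G) ≠ 1 := fun h => hy1 (Subtype.ext h)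
    have hx2' : (x : G) ^ 2 = 1 := by
      have := congrArg (fun z : ↥(S : Subgroup G) => (z : G)) hx2
      simpa using this
    have hy2' : (y : G) ^ 2 = 1 := by
      have := congrArg (fun z : ↥(S : Subgroup G) => (z : G)) hy2
      simpa using this
    obtain ⟨g, hg⟩ := isConj_iff.1 (hconj (x : G) (y : G) hx1' hx2' hy1' hy2')
    have hgmem : g ∈ ((S : Subgroup G) ⊔ N) ⊔ Subgroup.normalizer ((S : Subgroup G) : Set G) := by
      rw [sup_comm, hfr]; trivial
    rw [← SetLike.mem_coe, Subgroup.normal_mul] at hgmem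
    obtain ⟨m, hm, h, hh, rfl⟩ := Set.mem_mul.1 hgmem
    rw [SetLike.mem_coe, ← SetLike.mem_coe, Subgroup.mul_normal] at hm
    obtain ⟨s, hs, n, hn, rfl⟩ := Set.mem_mul.1 hm
    rw [SetLike.mem_coe] at hs hn hh
    -- x' := h x h⁻¹ ∈ S
    have hx' : h * (x : G) * h⁻¹ ∈ (S : Subgroup G) :=
      (Subgroup.mem_normalizer_iff.1 hh (x : G)).1 x.2
    have hsn : s * h ∈ Subgroup.normalizer ((S : Subgroup G) : Set G) :=
      Subgroup.mul_mem _ (Subgroup.le_normalizer hs) hh
    -- z ∈ S ⊓ N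
    have hzS : s⁻¹ * (y : G) * s * (h * (x : G) * h⁻¹)⁻¹ ∈ (S : Subgroup G) :=
      Subgroup.mul_mem _ (Subgroup.mul_mem _ (Subgroup.mul_mem _ (Subgroup.inv_mem _ hs) y.2) hs)
        (Subgroup.inv_mem _ hx')
    have hzN : s⁻¹ * (y : G) * s * (h * (x : G) * h⁻¹)⁻¹ ∈ N := by
      have e : s⁻¹ * (y : G) * s * (h * (x : G) * h⁻¹)⁻¹ =
          n * ((h * (x : G) * h⁻¹) * n⁻¹ * (h * (x : G) * h⁻¹)⁻¹) := by
        rw [← hg]; group
      rw [e]
      exact Subgroup.mul_mem _ hn (Subgroup.Normal.conj_mem inferInstance _ (Subgroup.inv_mem _ hn) _)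
    have hz1 : s⁻¹ * (y : G) * s * (h * (x : G) * h⁻¹)⁻¹ = 1 := by
      have : s⁻¹ * (y : G) * s * (h * (x : G) * h⁻¹)⁻¹ ∈ (S : Subgroup G) ⊓ N := ⟨hzS, hzN⟩
      rw [sylow_inf_eq_bot_of_odd S N hNodd] at this
      exact Subgroup.mem_bot.1 this
    refine ⟨conjHom (S : Subgroup G) ⟨s * h, hsn⟩, ⟨⟨s * h, hsn⟩, rfl⟩, ?_⟩
    apply Subtype.ext
    rw [conjHom_apply_coe]
    have e2 : (y : G) = s * (h * (x : G) * h⁻¹) * s⁻¹ := by
      have := mul_inv_eq_one.1 hz1
      rw [← this]; group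
    rw [e2]
    show (s * h) * (x : G) * (s * h)⁻¹ = _
    group

end Cfsg.Agent.Lib.H29.S3797RedC
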