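import Mathlib
import Cfsg.Agent.S0058

/-!
# Coprime generation under a pair generating `C_t × C_t` (relative form)

`e₁, e₂` commuting of prime order `t`, `e₂ ∉ ⟨e₁⟩`, both normalising a nontrivial `a`-subgroup `N`, `a ≠ t`:
some element of order `t` of `⟨e₁, e₂⟩` centralises a nonidentity element of `N` (landed S0058).
-/

set_option autoImplicit false

namespace Cfsg.Agent.Lib.H29.S3814Rank2Fix

universe u

theorem exists_fixed_of_pair {G : Type u} [Group G] [Finite G] (N : Subgroup G)
    (hN : N ≠ ⊥) {a t : ℕ} (ha : a.Prime) (ht : t.Prime) (hat : a ≠ t) (hNa : IsPGroup a N)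
    {e1 e2 : G} (ho1 : orderOf e1 = t) (ho2 : orderOf e2 = t) (hc : e1 * e2 = e2 * e1)
    (hnot : e2 ∉ Subgroup.zpowers e1)
    (hn1 : e1 ∈ Subgroup.normalizer (N : Set G)) (hn2 : e2 ∈ Subgroup.normalizer (N : Set G)) :
    ∃ e ∈ Subgroup.closure ({e1, e2} : Set G), ∃ n ∈ N, orderOf e = t ∧ n ≠ 1 ∧ e * n = n * e := by
  have : Fact a.Prime := ⟨ha⟩
  have : Fact t.Prime := ⟨ht⟩
  have hcommS : ∀ x ∈ ({e1, e2} : Set G), ∀ y ∈ ({e1, e2} : Set G), x * y = y * x := by
    intro x hx y hy
    rcases hx with rfl | rfl <;> rcases hy with rfl | rfl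
    · rfl
    · exact hc
    · exact hc.symm
    · rfl
  have hAc : IsMulCommutative (Subgroup.closure ({e1, e2} : Set G)) :=
    Subgroup.isMulCommutative_closure hcommS
  set A : Subgroup G := Subgroup.closure ({e1, e2} : Set G) with hA
  have he1A : e1 ∈ A := Subgroup.subset_closure (by simp)
  have he2A : e2 ∈ A := Subgroup.subset_closure (by simp)
  have hcommA : ∀ x ∈ A, ∀ y ∈ A, x * y = y * x := by
    intro x hx y hy
    have := mul_comm' (⟨x, hx⟩ : A) ⟨y, hy⟩
    exact congrArg Subtype.val this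
  have hexp : ∀ x ∈ A, x ^ t = 1 := by
    intro x hx
    induction hx using Subgroup.closure_induction with
    | mem x hx =>
      rcases hx with rfl | rfl
      · rw [← ho1]; exact pow_orderOf_eq_one _
      · rw [← ho2]; exact pow_orderOf_eq_one _
    | one => exact one_pow t
    | mul x y hx hy ihx ihy =>
      have hxy : Commute x y := hcommA x hx y hy
      rw [hxy.mul_pow, ihx, ihy, one_mul]
    | inv x hx ih => rw [inv_pow, ih, inv_one]
  have hAp : IsPGroup t A := by
    intro g
    refine ⟨1, ?_⟩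
    apply Subtype.ext
    rw [pow_one]
    simpa using hexp g g.2
  have hcop : (Nat.card A).Coprime (Nat.card N) := by
    obtain ⟨k, hk⟩ := hAp.exists_card_eq
    obtain ⟨j, hj⟩ := hNa.exists_card_eq
    rw [hk, hj]
    exact Nat.Coprime.pow k j ((Nat.coprime_primes ht ha).2 hat.symm)
  have hncyc : ¬ IsCyclic A := by
    intro hcyc
    obtain ⟨g, hg⟩ := hcyc.exists_generator
    have hcard : Nat.card A = orderOf g := (orderOf_eq_card_of_forall_mem_zpowers hg).symm
    have hgt : g ^ t = 1 := by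
      apply Subtype.ext
      simpa using hexp g g.2
    have hle : Nat.card A ≤ t := by
      rw [hcard]
      exact Nat.le_of_dvd ht.pos (orderOf_dvd_of_pow_eq_one hgt)
    have hz : Subgroup.zpowers e1 ≤ A := by
      rw [Subgroup.zpowers_le]; exact he1A
    have hzc : Nat.card (Subgroup.zpowers e1) = t := by
      rw [Nat.card_zpowers, ho1]
    have heq : Subgroup.zpowers e1 = A :=
      Subgroup.eq_of_le_of_card_ge hz (by rw [hzc]; exact hle)
    exact hnot (heq ▸ he2A)
  have hAN : A ≤ Subgroup.normalizer (N : Set G) := by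
    rw [hA, Subgroup.closure_le]
    intro x hx
    rcases hx with rfl | rfl
    · exact hn1
    · exact hn2
  have hres := Cfsg.Agent.S0058.result A N hncyc hAN hcop
  have hex : ∃ e, e ∈ A ∧ e ≠ 1 ∧ N ⊓ Subgroup.centralizer {e} ≠ ⊥ := by
    by_contra hno
    push Not at hno
    apply hN
    rw [← hres]
    apply le_antisymm _ bot_le
    apply iSup₂_le
    intro e he
    rw [hno e he.1 he.2]
  obtain ⟨e, heA, he1', hne⟩ := hex
  obtain ⟨n, hn, hn1'⟩ := (Subgroup.bot_or_exists_ne_one _).resolve_left hne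
  refine ⟨e, heA, n, hn.1, ?_, hn1', ?_⟩
  · exact orderOf_eq_prime (hexp e heA) he1'
  · have h2 : n ∈ Subgroup.centralizer ({e} : Set G) := hn.2
    exact Subgroup.mem_centralizer_iff.1 h2 e rfl

end Cfsg.Agent.Lib.H29.S3814Rank2Fix
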