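import Mathlib
import Cfsg.Agent.Lib.H27.S3814C1Defs
import Cfsg.Agent.Lib.H29.S3814Rank2Fix

/-!
# S3814, Case 1, piece (7) F4: a prime-order element commuting with a `C_s × C_s` is bad

`W := C_V(y)` is `⟨e₁, e₂⟩`-invariant; if `W ≠ 1`, coprime generation gives `e` of order `s` and `v ≠ 1` in `W`
fixed by `e`; `y e` has order `q s`, so it is fixed-point-free on `V` by `KFacts.n1`: contradiction.
-/

set_option autoImplicit false

namespace Cfsg.Agent.Lib.H29.S3814C1F4

open Cfsg.Agent.H7.S3814Defs Cfsg.Agent.H27.S3814C1 Cfsg.Agent.Lib.H29.S3814Rank2Fix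

universe u

/-- an element commuting with `y` normalises `C_V(y)` for a normal `V` -/
theorem mem_normalizer_cent {G : Type u} [Group G] (V : Subgroup G) [hVn : V.Normal] (y e : G)
    (he : y * e = e * y) :
    e ∈ Subgroup.normalizer ((V ⊓ Subgroup.centralizer ({y} : Set G) : Subgroup G) : Set G) := by
  have key : ∀ f : G, y * f = f * y → ∀ h ∈ V ⊓ Subgroup.centralizer ({y} : Set G),
      f * h * f⁻¹ ∈ V ⊓ Subgroup.centralizer ({y} : Set G) := by
    intro f hf h hh
    refine Subgroup.mem_inf.2 ⟨hVn.conj_mem h hh.1 f, Subgroup.mem_centralizer_iff.2 ?_⟩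
    intro z hz
    rw [Set.mem_singleton_iff.1 hz]
    have h2 : y * h = h * y := Subgroup.mem_centralizer_iff.1 hh.2 y rfl
    have hf' : y * f⁻¹ = f⁻¹ * y := by
      calc y * f⁻¹ = f⁻¹ * (f * y) * f⁻¹ := by group
        _ = f⁻¹ * (y * f) * f⁻¹ := by rw [hf]
        _ = f⁻¹ * y := by group
    calc y * (f * h * f⁻¹) = (y * f) * h * f⁻¹ := by group
      _ = f * (y * h) * f⁻¹ := by rw [hf]; group
      _ = f * h * (y * f⁻¹) := by rw [h2]; group
      _ = f * h * f⁻¹ * y := by rw [hf']; group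
  rw [Subgroup.mem_normalizer_iff]
  intro h
  constructor
  · exact key e he h
  · intro hh
    have he' : y * e⁻¹ = e⁻¹ * y := by
      calc y * e⁻¹ = e⁻¹ * (e * y) * e⁻¹ := by group
        _ = e⁻¹ * (y * e) * e⁻¹ := by rw [he]
        _ = e⁻¹ * y := by group
    have := key e⁻¹ he' _ hh
    simpa [mul_assoc] using this

theorem f4 : F4Stmt.{u} := by
  intro G _ σ hG p V K hI hKF y hyK e1 he1K e2 he2K hyP he1P ho21 hne hc hnot hy1 hy2
  have := hG.fin
  have hVn : V.Normal := hI.normal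
  have hpP : p.Prime := hG.prime p hI.hp
  by_contra hnf
  unfold Fpf at hnf
  push Not at hnf
  obtain ⟨v0, hv0V, hv0c, hv01⟩ := hnf
  set W : Subgroup G := V ⊓ Subgroup.centralizer ({y} : Set G) with hW
  have hv0W : v0 ∈ W := by
    refine Subgroup.mem_inf.2 ⟨hv0V, Subgroup.mem_centralizer_iff.2 ?_⟩
    intro z hz
    rw [Set.mem_singleton_iff.1 hz]
    exact hv0c
  have hW1 : W ≠ ⊥ := by
    intro h
    rw [h, Subgroup.mem_bot] at hv0W
    exact hv01 hv0W
  have hWp : IsPGroup p W := by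
    intro g
    refine ⟨1, ?_⟩
    apply Subtype.ext
    rw [pow_one]
    simpa using hI.elem.2 g g.2.1
  -- the primes
  have hdvdK : ∀ x ∈ K, orderOf x ∣ Nat.card K := by
    intro x hx
    have : orderOf (⟨x, hx⟩ : K) = orderOf x := Subgroup.orderOf_mk x hx
    rw [← this]
    exact orderOf_dvd_natCard _
  obtain ⟨hqσ, hqp⟩ := hKF.primes _ hyP (hdvdK y hyK)
  obtain ⟨hsσ, hsp⟩ := hKF.primes _ he1P (hdvdK e1 he1K)
  obtain ⟨e, heA, n, hnW, hoe, hn1, hcomm⟩ :=
    exists_fixed_of_pair W hW1 hpP he1P (Ne.symm hsp) hWp rfl ho21 hc hnot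
      (mem_normalizer_cent V y e1 hy1) (mem_normalizer_cent V y e2 hy2)
  -- e ∈ K and commutes with y
  have hleK : Subgroup.closure ({e1, e2} : Set G) ≤ K := by
    rw [Subgroup.closure_le]
    intro x hx
    rcases hx with rfl | rfl
    · exact he1K
    · exact he2K
  have hleC : Subgroup.closure ({e1, e2} : Set G) ≤ Subgroup.centralizer ({y} : Set G) := by
    rw [Subgroup.closure_le]
    intro x hx
    rw [SetLike.mem_coe, Subgroup.mem_centralizer_iff]
    intro z hz
    rw [Set.mem_singleton_iff.1 hz]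
    rcases hx with rfl | rfl
    · exact hy1
    · exact hy2
  have hye : Commute y e := Subgroup.mem_centralizer_iff.1 (hleC heA) y rfl
  have hord : orderOf (y * e) = orderOf y * orderOf e1 := by
    rw [hye.orderOf_mul_eq_mul_orderOf_of_coprime (by
      rw [hoe]; exact (Nat.coprime_primes hyP he1P).2 hne), hoe]
  have hfpf : Fpf (y * e) V :=
    hKF.n1 (y * e) (K.mul_mem hyK (hleK heA)) _ hqσ _ hsσ hqp hsp hne (by rw [hord])
  apply hn1
  apply hfpf n hnW.1
  have hyn : y * n = n * y := Subgroup.mem_centralizer_iff.1 hnW.2 y rfl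
  calc y * e * n = y * (e * n) := by group
    _ = y * (n * e) := by rw [hcomm]
    _ = (y * n) * e := by group
    _ = n * (y * e) := by rw [hyn]; group

example : F4Stmt.{0} := f4

end Cfsg.Agent.Lib.H29.S3814C1F4
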