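import Mathlib
import Cfsg.Agent.Lib.H27.S3814C1Defs
import Cfsg.Agent.Lib.H29.S3814Rank2Fix

/-!
# S3814, Case 1, piece (3) GOOD: `M` contains a good element

Coprime generation (landed S0058, through `S3814Rank2Fix.exists_fixed_of_pair`) of `V ≠ 1` under a
`C_c × C_c ≤ M`.
-/

set_option autoImplicit false

namespace Cfsg.Agent.Lib.H29.S3814C1Good

open Cfsg.Agent.H7.S3814Defs Cfsg.Agent.H27.S3814C1 Cfsg.Agent.Lib.H29.S3814Rank2Fix

universe u

theorem goodInM : GoodInMStmt.{u} := by
  intro G _ σ p V K c M ctx hR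
  have := ctx.cex.fin
  obtain ⟨e1, he1M, e2, he2M, ho1, ho2, hc, hnot⟩ := hR
  have hVn : V.Normal := ctx.shape.normal
  have hpP : p.Prime := ctx.cex.prime p ctx.shape.hp
  have hcp : p ≠ c := by
    rintro rfl
    have h1 : p ∣ Nat.card M := (dvd_pow_self p two_ne_zero).trans ctx.hM2
    have h2 : p ∣ Nat.card K := h1.trans (Subgroup.card_dvd_of_le ctx.hMK)
    have := Nat.dvd_gcd h2 (dvd_refl p)
    rw [ctx.shape.coprime] at this
    exact hpP.one_lt.ne' (Nat.dvd_one.1 this)
  have hVp : IsPGroup p V := by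
    intro g
    refine ⟨1, ?_⟩
    apply Subtype.ext
    rw [pow_one]
    simpa using ctx.shape.elem.2 g g.2
  have hn : ∀ e : G, e ∈ Subgroup.normalizer (V : Set G) := by
    intro e
    rw [Subgroup.normalizer_eq_top]
    exact Subgroup.mem_top e
  obtain ⟨e, heA, n, hnV, hoe, hn1, hcomm⟩ :=
    exists_fixed_of_pair V ctx.shape.ne_bot hpP ctx.hc hcp hVp ho1 ho2 hc hnot (hn e1) (hn e2)
  refine ⟨e, ?_, hoe, ?_⟩
  · have hle : Subgroup.closure ({e1, e2} : Set G) ≤ M := by
      rw [Subgroup.closure_le]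
      intro x hx
      rcases hx with rfl | rfl
      · exact he1M
      · exact he2M
    exact hle heA
  · intro hf
    exact hn1 (hf n hnV hcomm)

example : GoodInMStmt.{0} := goodInM

end Cfsg.Agent.Lib.H29.S3814C1Good
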