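import Mathlib
import Cfsg.Agent.Lib.H19.HallPi

/-!
# S3814, the Hall `σ`-reduction

In a finite solvable group `G` in which every pair of distinct primes of `σ` is the order pattern `p * q` of an
element, a Hall `σ`-subgroup `H` has the same property (and it is a `σ`-group).  The condition "no element of
order `p * q * r`" passes to every subgroup trivially (`Subgroup.orderOf_coe`).
-/

set_option autoImplicit false

namespace Cfsg.Agent.Lib.H29.S3814Hall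

open Cfsg.Agent.Lib.H19

universe u

theorem hall_sigma {G : Type u} [Group G] [Finite G] [Group.IsSolvable G] (σ : Finset ℕ)
    (hprime : ∀ p ∈ σ, p.Prime)
    (h2 : ∀ p ∈ σ, ∀ q ∈ σ, p ≠ q → ∃ g : G, orderOf g = p * q) :
    ∃ H : Subgroup G, (∀ p : ℕ, p.Prime → p ∣ Nat.card H → p ∈ σ) ∧
      ∀ p ∈ σ, ∀ q ∈ σ, p ≠ q → ∃ g : H, orderOf g = p * q := by
  obtain ⟨H, hH⟩ := exists_isPiHallOf (⊤ : Subgroup G) (σ : Set ℕ)
  refine ⟨H, fun p hp hd => by exact_mod_cast hH.2.1 p hp hd, ?_⟩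
  intro p hp q hq hpq
  obtain ⟨g, hg⟩ := h2 p hp q hq hpq
  have hU : IsPiCard (σ : Set ℕ) (Nat.card (Subgroup.zpowers g)) := by
    rw [Nat.card_zpowers, hg]
    intro t ht htd
    rcases (Nat.Prime.dvd_mul ht).1 htd with h | h
    · rw [(Nat.prime_dvd_prime_iff_eq ht (hprime p hp)).1 h]; exact_mod_cast hp
    · rw [(Nat.prime_dvd_prime_iff_eq ht (hprime q hq)).1 h]; exact_mod_cast hq
  obtain ⟨H1, hH1, hUH1⟩ :=
    exists_isPiHallOf_ge (π := (σ : Set ℕ)) (le_top : Subgroup.zpowers g ≤ ⊤) hU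
  obtain ⟨x, -, hx⟩ := isPiHallOf_exists_conj hH1 hH
  have hmem : x * g * x⁻¹ ∈ H := by
    rw [← hx]
    have := Subgroup.smul_mem_pointwise_smul g (MulAut.conj x) H1
      (hUH1 (Subgroup.mem_zpowers g))
    simpa [MulAut.smul_def] using this
  refine ⟨⟨x * g * x⁻¹, hmem⟩, ?_⟩
  rw [← Subgroup.orderOf_coe]
  show orderOf (x * g * x⁻¹) = p * q
  rw [← hg]
  have := MulEquiv.orderOf_eq (MulAut.conj x) g
  rwa [MulAut.conj_apply] at this

/-- the same with the other two hypotheses of S3814 carried along -/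
theorem hall_sigma' {G : Type u} [Group G] [Finite G] [Group.IsSolvable G] (σ : Finset ℕ)
    (hprime : ∀ p ∈ σ, p.Prime)
    (h2 : ∀ p ∈ σ, ∀ q ∈ σ, p ≠ q → ∃ g : G, orderOf g = p * q)
    (h3 : ∀ p ∈ σ, ∀ q ∈ σ, ∀ r ∈ σ, p ≠ q → q ≠ r → p ≠ r → ∀ g : G, orderOf g ≠ p * q * r) :
    ∃ H : Subgroup G, (∀ p : ℕ, p.Prime → p ∣ Nat.card H → p ∈ σ) ∧
      (∀ p ∈ σ, ∀ q ∈ σ, p ≠ q → ∃ g : H, orderOf g = p * q) ∧
      ∀ p ∈ σ, ∀ q ∈ σ, ∀ r ∈ σ, p ≠ q → q ≠ r → p ≠ r → ∀ g : H, orderOf g ≠ p * q * r := by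
  obtain ⟨H, h1, h2'⟩ := hall_sigma σ hprime h2
  refine ⟨H, h1, h2', ?_⟩
  intro p hp q hq r hr hpq hqr hpr g
  rw [← Subgroup.orderOf_coe]
  exact h3 p hp q hq r hr hpq hqr hpr g

end Cfsg.Agent.Lib.H29.S3814Hall
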