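import Mathlib
import Cfsg.Agent.Lib.H8.S3814MPDefs
import Cfsg.Agent.Lib.H26.S3814R2Idx
import Cfsg.Agent.Lib.H19.HallPi

/-!
# S3814, block (MP), piece (15) BRIDGE: shape (II) of the level-1 cut from lemma (MP)

`σ = {p, q, r, s}`; `Hyp r s V W X` is derived from `IsCex G σ` and `ShapeII σ p q V W X`.
-/

set_option autoImplicit false

namespace Cfsg.Agent.Lib.H29.S3814MPBridge

open Cfsg.Agent.H7.S3814Defs Cfsg.Agent.Lib.H8.S3814MP

universe u

/-- a number all of whose prime divisors are `r` or `s` is `r ^ i * s ^ j` -/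
theorem eq_pow_mul_pow {n r s : ℕ} (hn : n ≠ 0) (hr : r.Prime) (hs : s.Prime)
    (h : ∀ t : ℕ, t.Prime → t ∣ n → t = r ∨ t = s) : ∃ i j : ℕ, n = r ^ i * s ^ j := by
  obtain ⟨i, m, hrm, hnm⟩ := Nat.exists_eq_pow_mul_and_not_dvd hn r hr.ne_one
  have hm0 : m ≠ 0 := by
    rintro rfl
    rw [mul_zero] at hnm
    exact hn hnm
  obtain ⟨j, m', hsm', hmm'⟩ := Nat.exists_eq_pow_mul_and_not_dvd hm0 s hs.ne_one
  have hm'1 : m' = 1 := by
    by_contra hne
    obtain ⟨t, ht, htd⟩ := Nat.exists_prime_and_dvd hne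
    have htm : t ∣ m := by rw [hmm']; exact htd.trans (Dvd.intro_left _ rfl)
    have htn : t ∣ n := by rw [hnm]; exact htm.trans (Dvd.intro_left _ rfl)
    rcases h t ht htn with rfl | rfl
    · exact hrm htm
    · exact hsm' htd
  refine ⟨i, j, ?_⟩
  rw [hnm, hmm', hm'1, mul_one]

/-- order of an element of prime exponent -/
theorem orderOf_of_pow {G : Type u} [Group G] {p : ℕ} (hp : p.Prime) {v : G} (hv : v ^ p = 1)
    (hv1 : v ≠ 1) : orderOf v = p := by
  have : Fact p.Prime := ⟨hp⟩
  exact orderOf_eq_prime hv hv1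

theorem bridge : BridgeStmt.{u} := by
  intro hMP hF2 G _ σ hG _hmin p q V W X hII
  have := hG.fin
  have := hG.sol
  have hVn : V.Normal := hII.normalV
  have hWn : W.Normal := hII.normalW
  have hpP : p.Prime := hG.prime p hII.hp
  have hqP : q.Prime := hG.prime q hII.hq
  -- the other two primes
  have hc2 : ((σ.erase p).erase q).card = 2 := by
    rw [Finset.card_erase_of_mem (Finset.mem_erase.2 ⟨hII.hpq.symm, hII.hq⟩),
      Finset.card_erase_of_mem hII.hp, hG.card4]
  obtain ⟨r, s, hrs, hset⟩ := Finset.card_eq_two.1 hc2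
  have hr_mem : r ∈ (σ.erase p).erase q := by rw [hset]; simp
  have hs_mem : s ∈ (σ.erase p).erase q := by rw [hset]; simp
  have hrq : r ≠ q := (Finset.mem_erase.1 hr_mem).1
  have hrp : r ≠ p := (Finset.mem_erase.1 (Finset.mem_erase.1 hr_mem).2).1
  have hrσ : r ∈ σ := (Finset.mem_erase.1 (Finset.mem_erase.1 hr_mem).2).2
  have hsq : s ≠ q := (Finset.mem_erase.1 hs_mem).1
  have hsp : s ≠ p := (Finset.mem_erase.1 (Finset.mem_erase.1 hs_mem).2).1
  have hsσ : s ∈ σ := (Finset.mem_erase.1 (Finset.mem_erase.1 hs_mem).2).2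
  have hrP : r.Prime := hG.prime r hrσ
  have hsP : s.Prime := hG.prime s hsσ
  have hcover : ∀ t ∈ σ, t ≠ p → t ≠ q → t = r ∨ t = s := by
    intro t ht htp htq
    have : t ∈ (σ.erase p).erase q := Finset.mem_erase.2 ⟨htq, Finset.mem_erase.2 ⟨htp, ht⟩⟩
    rw [hset] at this
    simpa using this
  -- primes of |X|
  have hXprime : ∀ t : ℕ, t.Prime → t ∣ Nat.card X → t = r ∨ t = s := by
    intro t ht htd
    have htσ : t ∈ σ := hG.sgrp t ht (htd.trans (Subgroup.card_subgroup_dvd_card X))
    apply hcover t htσ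
    · rintro rfl
      have := Nat.dvd_gcd htd (dvd_refl t)
      rw [hII.coprimeP] at this
      exact ht.one_lt.ne' (Nat.dvd_one.1 this)
    · rintro rfl
      have := Nat.dvd_gcd htd (dvd_refl t)
      rw [hII.coprimeQ] at this
      exact ht.one_lt.ne' (Nat.dvd_one.1 this)
  -- V is a p-group, W a q-group
  have hVp : IsPGroup p V := by
    intro g
    refine ⟨1, ?_⟩
    apply Subtype.ext
    rw [pow_one]
    simpa using hII.elemV.2 g g.2
  have hWq : IsPGroup q W := by
    intro g
    refine ⟨1, ?_⟩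
    apply Subtype.ext
    rw [pow_one]
    simpa using hII.elemW.2 g g.2
  have : Fact p.Prime := ⟨hpP⟩
  have : Fact q.Prime := ⟨hqP⟩
  obtain ⟨kV, hkV⟩ := hVp.exists_card_eq
  obtain ⟨kW, hkW⟩ := hWq.exists_card_eq
  -- V ⊓ W = ⊥ and V, W commute elementwise
  have hVW : ∀ g : G, g ∈ V → g ∈ W → g = 1 := by
    intro g hgV hgW
    have h1 : orderOf g ∣ p := orderOf_dvd_of_pow_eq_one (hII.elemV.2 g hgV)
    have h2 : orderOf g ∣ q := orderOf_dvd_of_pow_eq_one (hII.elemW.2 g hgW)
    have h3 : orderOf g ∣ Nat.gcd p q := Nat.dvd_gcd h1 h2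
    rw [(Nat.coprime_primes hpP hqP).2 hII.hpq] at h3
    exact orderOf_eq_one_iff.1 (Nat.dvd_one.1 h3)
  have hcommVW : ∀ v ∈ V, ∀ w ∈ W, v * w = w * v := by
    intro v hv w hw
    have h1 : v * w * v⁻¹ * w⁻¹ ∈ W :=
      W.mul_mem (hWn.conj_mem w hw v) (W.inv_mem hw)
    have h2 : v * w * v⁻¹ * w⁻¹ ∈ V := by
      have : v * (w * v⁻¹ * w⁻¹) ∈ V := V.mul_mem hv (hVn.conj_mem v⁻¹ (V.inv_mem hv) w)
      simpa [mul_assoc] using this
    have h3 := hVW _ h2 h1
    calc v * w = (v * w * v⁻¹ * w⁻¹) * (w * v) := by group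
      _ = w * v := by rw [h3, one_mul]
  -- index of X
  have hXidx : ∀ t : ℕ, t.Prime → t ≠ p → t ≠ q → ¬ t ∣ X.index := by
    intro t ht htp htq htd
    have hN : (V ⊔ W).Normal := Subgroup.sup_normal V W
    -- X → G ⧸ (V ⊔ W) is onto
    have hsurj : Function.Surjective ((QuotientGroup.mk' (V ⊔ W)).comp X.subtype) := by
      intro y
      obtain ⟨g, rfl⟩ := QuotientGroup.mk'_surjective (V ⊔ W) y
      have hg : g ∈ (V ⊔ W) ⊔ X := by rw [hII.compl_sup]; exact Subgroup.mem_top g
      obtain ⟨n, hn, h, hh, rfl⟩ := Subgroup.mem_sup_of_normal_left.1 hg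
      refine ⟨⟨h, hh⟩, ?_⟩
      show (QuotientGroup.mk' (V ⊔ W)) h = (QuotientGroup.mk' (V ⊔ W)) (n * h)
      rw [map_mul]
      have : (QuotientGroup.mk' (V ⊔ W)) n = 1 := (QuotientGroup.eq_one_iff n).2 hn
      rw [this, one_mul]
    have hd1 : (V ⊔ W).index ∣ Nat.card X := by
      rw [Subgroup.index_eq_card]
      exact Subgroup.card_dvd_of_surjective _ hsurj
    have hd2 : Nat.card G ∣ Nat.card ↥(V ⊔ W) * Nat.card X := by
      rw [← (V ⊔ W).card_mul_index]
      exact Nat.mul_dvd_mul_left _ hd1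
    have hd3 : X.index ∣ Nat.card ↥(V ⊔ W) := by
      rw [← X.card_mul_index, mul_comm (Nat.card ↥(V ⊔ W))] at hd2
      exact Nat.dvd_of_mul_dvd_mul_left Nat.card_pos hd2
    have hd4 : Nat.card ↥(V ⊔ W) ∣ Nat.card V * Nat.card W :=
      Cfsg.Agent.Lib.H19.card_sup_dvd_mul_of_le_normalizer
        (by rw [Subgroup.normalizer_eq_top]; exact le_top)
    have hd5 : t ∣ p ^ kV * q ^ kW := by
      rw [← hkV, ← hkW]
      exact htd.trans (hd3.trans hd4)
    rcases (Nat.Prime.dvd_mul ht).1 hd5 with h | h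
    · exact htp ((Nat.prime_dvd_prime_iff_eq ht hpP).1 (ht.dvd_of_dvd_pow h))
    · exact htq ((Nat.prime_dvd_prime_iff_eq ht hqP).1 (ht.dvd_of_dvd_pow h))
  -- rank 2 inside X
  have hrk : ∀ t ∈ σ, t ≠ p → t ≠ q → ∃ a ∈ X, ∃ b ∈ X, IsRank2Pair t a b := by
    intro t ht htp htq
    have htP := hG.prime t ht
    exact Cfsg.Agent.Lib.H26.S3814R2Idx.r2idx G X t htP (hF2 G σ hG t ht) (hXidx t htP htp htq)
  -- the hypotheses of (MP)
  have hyp : Hyp r s V W X := by
    refine
      { hr := hrP
        hs := hsP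
        hrs := hrs
        solv := inferInstance
        normV := by rw [Subgroup.normalizer_eq_top]; exact le_top
        normW := by rw [Subgroup.normalizer_eq_top]; exact le_top
        commV := hII.elemV.1
        commW := hII.elemW.1
        neV := hII.neV
        neW := hII.neW
        cardX := eq_pow_mul_pow Nat.card_pos.ne' hrP hsP hXprime
        copV := by rw [hkV]; exact Nat.Coprime.pow_left kV (Nat.Coprime.symm hII.coprimeP)
        copW := by rw [hkW]; exact Nat.Coprime.pow_left kW (Nat.Coprime.symm hII.coprimeQ)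
        rk_r := hrk r hrσ hrp hrq
        rk_s := hrk s hsσ hsp hsq
        h1 := ?_
        h2 := ?_ }
    · -- (h1)
      rintro x hxX hx1 ⟨v, hvV, hv1, hxv⟩ ⟨w, hwW, hw1, hxw⟩
      have hox : orderOf x ≠ 1 := fun h => hx1 (orderOf_eq_one_iff.1 h)
      obtain ⟨t, ht, htd⟩ := Nat.exists_prime_and_dvd hox
      have htX : t ∣ Nat.card X := by
        have : orderOf (⟨x, hxX⟩ : X) = orderOf x := Subgroup.orderOf_mk x hxX
        rw [← this] at htd
        exact htd.trans (orderOf_dvd_natCard _)
      have htσ : t ∈ σ := hG.sgrp t ht (htX.trans (Subgroup.card_subgroup_dvd_card X))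
      have htrs := hXprime t ht htX
      have htp : t ≠ p := by rcases htrs with rfl | rfl <;> assumption
      have htq : t ≠ q := by rcases htrs with rfl | rfl <;> assumption
      set x' := x ^ (orderOf x / t) with hx'
      have hox' : orderOf x' = t := by
        rw [hx', orderOf_pow_of_dvd (by
          intro h0
          have := Nat.div_eq_zero_iff.1 h0
          rcases this with h | h
          · exact ht.ne_zero h
          · exact absurd (Nat.le_of_dvd (orderOf_pos x) htd) (not_le.2 h))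
          (Nat.div_dvd_of_dvd htd), Nat.div_div_self htd (orderOf_pos x).ne']
      have hov : orderOf v = p := orderOf_of_pow hpP (hII.elemV.2 v hvV) hv1
      have how : orderOf w = q := orderOf_of_pow hqP (hII.elemW.2 w hwW) hw1
      have hcvw : Commute v w := hcommVW v hvV w hwW
      have hovw : orderOf (v * w) = p * q := by
        rw [hcvw.orderOf_mul_eq_mul_orderOf_of_coprime (by
          rw [hov, how]; exact (Nat.coprime_primes hpP hqP).2 hII.hpq), hov, how]
      have hcx : Commute x' (v * w) := by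
        have h1 : Commute x v := hxv
        have h2 : Commute x w := hxw
        exact ((h1.mul_right h2).pow_left _)
      have hfin : orderOf (x' * (v * w)) = t * (p * q) := by
        rw [hcx.orderOf_mul_eq_mul_orderOf_of_coprime (by
          rw [hox', hovw]
          exact Nat.Coprime.mul_right ((Nat.coprime_primes ht hpP).2 htp)
            ((Nat.coprime_primes ht hqP).2 htq)), hox', hovw]
      have := hG.notriple p hII.hp q hII.hq t htσ hII.hpq (Ne.symm htq) (Ne.symm htp)
        (x' * (v * w))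
      apply this
      rw [hfin]; ring
    · -- (h2)
      intro x _hxX hox
      constructor
      · rintro ⟨v, hvV, hv1, hxv⟩
        have hov : orderOf v = p := orderOf_of_pow hpP (hII.elemV.2 v hvV) hv1
        have hc : Commute x v := hxv
        have hfin : orderOf (x * v) = r * s * p := by
          rw [hc.orderOf_mul_eq_mul_orderOf_of_coprime (by
            rw [hox, hov]
            exact Nat.Coprime.mul_left ((Nat.coprime_primes hrP hpP).2 hrp)
              ((Nat.coprime_primes hsP hpP).2 hsp)), hox, hov]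
        exact hG.notriple r hrσ s hsσ p hII.hp hrs hsp hrp (x * v) hfin
      · rintro ⟨w, hwW, hw1, hxw⟩
        have how : orderOf w = q := orderOf_of_pow hqP (hII.elemW.2 w hwW) hw1
        have hc : Commute x w := hxw
        have hfin : orderOf (x * w) = r * s * q := by
          rw [hc.orderOf_mul_eq_mul_orderOf_of_coprime (by
            rw [hox, how]
            exact Nat.Coprime.mul_left ((Nat.coprime_primes hrP hqP).2 hrq)
              ((Nat.coprime_primes hsP hqP).2 hsq)), hox, how]
        exact hG.notriple r hrσ s hsσ q hII.hq hrs hsq hrq (x * w) hfin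
  exact hMP hyp

example : BridgeStmt.{0} := bridge

end Cfsg.Agent.Lib.H29.S3814MPBridge
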