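import Mathlib
import Cfsg.Agent.Lib.H7.S3814Defs2
import Cfsg.Agent.Lib.H19.HallPi
import Cfsg.Agent.Lib.H20.ThreePrimes
import Cfsg.Agent.S0058

/-!
# S3814, piece NSYL: in a minimal counterexample every nontrivial normal `a`-subgroup is a Sylow `a`-subgroup

`H` a Hall `a'`-subgroup.  `N ⊔ H` has (J): pairs of primes `≠ a` by Hall containment and conjugacy; pairs
`{a, t}` by coprime generation (landed S0058) of `N` under a `C_t × C_t ≤ H` (F2 + R2IDX).  So `N ⊔ H = ⊤` by
`MinSub`, and `N.index` divides `|H|`, which is prime to `a`.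
-/

set_option autoImplicit false

namespace Cfsg.Agent.Lib.H29.S3814NSyl

open Cfsg.Agent.H7.S3814Defs Cfsg.Agent.Lib.H19

universe u

/-- a `C_t × C_t` acting on a nontrivial normal `a`-subgroup, `a ≠ t`: some element of order `t` of it
centralises a nontrivial element of `N`. -/
theorem exists_fixed_of_rank2 {G : Type u} [Group G] [Finite G] (N H : Subgroup G) [hNn : N.Normal]
    (hN : N ≠ ⊥) {a t : ℕ} (ha : a.Prime) (ht : t.Prime) (hat : a ≠ t) (hNa : IsPGroup a N)
    (hR : Rank2 H t) :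
    ∃ e ∈ H, ∃ n ∈ N, orderOf e = t ∧ n ≠ 1 ∧ e * n = n * e := by
  have : Fact a.Prime := ⟨ha⟩
  have : Fact t.Prime := ⟨ht⟩
  obtain ⟨e1, he1, e2, he2, ho1, ho2, hc, hnot⟩ := hR
  have hcommS : ∀ x ∈ ({e1, e2} : Set G), ∀ y ∈ ({e1, e2} : Set G), x * y = y * x := by
    intro x hx y hy
    rcases hx with rfl | rfl <;> rcases hy with rfl | rfl
    · rfl
    · exact hc
    · exact hc.symm
    · rfl
  have hAc : IsMulCommutative (Subgroup.closure ({e1, e2} : Set G)) :=
    Subgroup.isMulCommutative_closure hcommS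
  set A : Subgroup G := Subgroup.closure ({e1, e2} : Set G) with hA
  have he1A : e1 ∈ A := Subgroup.subset_closure (by simp)
  have he2A : e2 ∈ A := Subgroup.subset_closure (by simp)
  have hAH : A ≤ H := by
    rw [hA, Subgroup.closure_le]
    intro x hx
    rcases hx with rfl | rfl
    · exact he1
    · exact he2
  have hcommA : ∀ x ∈ A, ∀ y ∈ A, x * y = y * x := by
    intro x hx y hy
    have := mul_comm' (⟨x, hx⟩ : A) ⟨y, hy⟩
    exact congrArg Subtype.val this
  have hexp : ∀ x ∈ A, x ^ t = 1 := by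
    intro x hx
    induction hx using Subgroup.closure_induction with
    | mem x hx =>
      rcases hx with rfl | rfl
      · rw [← ho1]; exact pow_orderOf_eq_one _
      · rw [← ho2]; exact pow_orderOf_eq_one _
    | one => exact one_pow t
    | mul x y hx hy ihx ihy =>
      have hxy : Commute x y := hcommA x hx y hy
      rw [hxy.mul_pow, ihx, ihy, one_mul]
    | inv x hx ih => rw [inv_pow, ih, inv_one]
  have hAp : IsPGroup t A := by
    intro g
    refine ⟨1, ?_⟩
    apply Subtype.ext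
    rw [pow_one]
    simpa using hexp g g.2
  have hcop : (Nat.card A).Coprime (Nat.card N) := by
    obtain ⟨k, hk⟩ := hAp.exists_card_eq
    obtain ⟨j, hj⟩ := hNa.exists_card_eq
    rw [hk, hj]
    exact Nat.Coprime.pow k j ((Nat.coprime_primes ht ha).2 hat.symm)
  have hncyc : ¬ IsCyclic A := by
    intro hcyc
    obtain ⟨g, hg⟩ := hcyc.exists_generator
    have hcard : Nat.card A = orderOf g := (orderOf_eq_card_of_forall_mem_zpowers hg).symm
    have hgt : g ^ t = 1 := by
      apply Subtype.ext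
      simpa using hexp g g.2
    have hle : Nat.card A ≤ t := by
      rw [hcard]
      exact Nat.le_of_dvd ht.pos (orderOf_dvd_of_pow_eq_one hgt)
    have hz : Subgroup.zpowers e1 ≤ A := by
      rw [Subgroup.zpowers_le]; exact he1A
    have hzc : Nat.card (Subgroup.zpowers e1) = t := by
      rw [Nat.card_zpowers, ho1]
    have heq : Subgroup.zpowers e1 = A :=
      Subgroup.eq_of_le_of_card_ge hz (by rw [hzc]; exact hle)
    exact hnot (heq ▸ he2A)
  have hAN : A ≤ Subgroup.normalizer (N : Set G) := by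
    intro x _
    rw [Subgroup.mem_normalizer_iff]
    intro n
    constructor
    · intro h
      exact hNn.conj_mem n h x
    · intro h
      have := hNn.conj_mem _ h x⁻¹
      simpa [mul_assoc] using this
  have hres := Cfsg.Agent.S0058.result A N hncyc hAN hcop
  have hex : ∃ e, e ∈ A ∧ e ≠ 1 ∧ N ⊓ Subgroup.centralizer {e} ≠ ⊥ := by
    by_contra hno
    push Not at hno
    apply hN
    rw [← hres]
    apply le_antisymm _ bot_le
    apply iSup₂_le
    intro e he
    rw [hno e he.1 he.2]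
  obtain ⟨e, heA, he1', hne⟩ := hex
  obtain ⟨n, hn, hn1⟩ := (Subgroup.bot_or_exists_ne_one _).resolve_left hne
  refine ⟨e, hAH heA, n, hn.1, ?_, hn1, ?_⟩
  · exact orderOf_eq_prime (hexp e heA) he1'
  · have h2 : n ∈ Subgroup.centralizer ({e} : Set G) := hn.2
    exact Subgroup.mem_centralizer_iff.1 h2 e rfl


theorem nsyl : F2Stmt.{u} → Rank2IndexStmt.{u} → NormalSylowStmt.{u} := by
  intro hF2 hR2 G _ σ hG hmin a N ha hNn hN1 hNa
  have := hG.fin
  have := hG.sol
  have : Fact a.Prime := ⟨ha⟩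
  -- the Hall `a'`-subgroup
  obtain ⟨H, hH⟩ := exists_isPiHallOf (⊤ : Subgroup G) ({p | p ≠ a} : Set ℕ)
  have hHa : ∀ p : ℕ, p.Prime → p ∣ Nat.card H → p ≠ a := hH.2.1
  have hHidx : ∀ t : ℕ, t.Prime → t ≠ a → ¬ t ∣ H.index := by
    intro t ht hta
    have := hH.2.2 t ht hta
    rwa [Subgroup.relIndex_top_right] at this
  -- pairs `{a, t}`
  have key : ∀ t ∈ σ, t ≠ a → ∃ g : G, g ∈ N ⊔ H ∧ orderOf g = a * t := by
    intro t ht hta
    have htp : t.Prime := hG.prime t ht
    have hR : Rank2 H t := hR2 G H t htp (hF2 G σ hG t ht) (hHidx t htp hta)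
    obtain ⟨e, heH, n, hnN, hoe, hn1, hcomm⟩ :=
      exists_fixed_of_rank2 N H hN1 ha htp (Ne.symm hta) hNa hR
    have hnpow : ∃ k : ℕ, n ^ (a ^ k) = 1 := by
      obtain ⟨k, hk⟩ := hNa ⟨n, hnN⟩
      exact ⟨k, by simpa using congrArg Subtype.val hk⟩
    obtain ⟨j, hj⟩ := Cfsg.Agent.Lib.H20.exists_pow_orderOf_eq_prime ha hn1 hnpow
    have hc' : Commute (n ^ j) e := ((show Commute e n from hcomm).symm).pow_left j
    refine ⟨n ^ j * e, ?_, ?_⟩
    · exact (N ⊔ H).mul_mem (Subgroup.mem_sup_left (N.pow_mem hnN j)) (Subgroup.mem_sup_right heH)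
    · rw [hc'.orderOf_mul_eq_mul_orderOf_of_coprime
        (by rw [hj, hoe]; exact (Nat.coprime_primes ha htp).2 (Ne.symm hta)), hj, hoe]
  -- (J) for `N ⊔ H`
  have hpairs : Pairs ↥(N ⊔ H) σ := by
    intro p hp q hq hpq
    have mk : ∀ g : G, g ∈ N ⊔ H → orderOf g = p * q → ∃ g' : ↥(N ⊔ H), orderOf g' = p * q := by
      intro g hg ho
      refine ⟨⟨g, hg⟩, ?_⟩
      rw [← Subgroup.orderOf_coe]
      exact ho
    by_cases hpa : p = a
    · have hqa : q ≠ a := fun h => hpq (hpa.trans h.symm)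
      obtain ⟨g, hg, ho⟩ := key q hq hqa
      exact mk g hg (by rw [ho, hpa])
    · by_cases hqa : q = a
      · obtain ⟨g, hg, ho⟩ := key p hp hpa
        exact mk g hg (by rw [ho, hqa, mul_comm])
      · obtain ⟨g, hg⟩ := hG.pairs p hp q hq hpq
        have hU : IsPiCard ({p | p ≠ a} : Set ℕ) (Nat.card (Subgroup.zpowers g)) := by
          rw [Nat.card_zpowers, hg]
          intro t ht htd
          rcases (Nat.Prime.dvd_mul ht).1 htd with h | h
          · rw [(Nat.prime_dvd_prime_iff_eq ht (hG.prime p hp)).1 h]; exact hpa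
          · rw [(Nat.prime_dvd_prime_iff_eq ht (hG.prime q hq)).1 h]; exact hqa
        obtain ⟨H1, hH1, hUH1⟩ :=
          exists_isPiHallOf_ge (π := ({p | p ≠ a} : Set ℕ))
            (le_top : Subgroup.zpowers g ≤ ⊤) hU
        obtain ⟨x, -, hx⟩ := isPiHallOf_exists_conj hH1 hH
        have hmem : x * g * x⁻¹ ∈ H := by
          rw [← hx]
          have := Subgroup.smul_mem_pointwise_smul g (MulAut.conj x) H1
            (hUH1 (Subgroup.mem_zpowers g))
          simpa [MulAut.smul_def] using this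
        refine mk (x * g * x⁻¹) (Subgroup.mem_sup_right hmem) ?_
        rw [← hg]
        have := MulEquiv.orderOf_eq (MulAut.conj x) g
        rwa [MulAut.conj_apply] at this
  have htop : N ⊔ H = ⊤ := hmin _ hpairs
  -- `H → G ⧸ N` is onto
  intro hdvd
  have hsurj : Function.Surjective ((QuotientGroup.mk' N).comp H.subtype) := by
    intro y
    obtain ⟨g, rfl⟩ := QuotientGroup.mk'_surjective N y
    have hg : g ∈ N ⊔ H := by rw [htop]; exact Subgroup.mem_top g
    obtain ⟨n, hn, h, hh, rfl⟩ := Subgroup.mem_sup_of_normal_left.1 hg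
    refine ⟨⟨h, hh⟩, ?_⟩
    show (QuotientGroup.mk' N) h = (QuotientGroup.mk' N) (n * h)
    rw [map_mul]
    have : (QuotientGroup.mk' N) n = 1 := (QuotientGroup.eq_one_iff n).2 hn
    rw [this, one_mul]
  have hcard : Nat.card (G ⧸ N) ∣ Nat.card H := Subgroup.card_dvd_of_surjective _ hsurj
  have hidx : N.index = Nat.card (G ⧸ N) := rfl
  rw [hidx] at hdvd
  exact hHa a ha (hdvd.trans hcard) rfl

example : F2Stmt.{0} → Rank2IndexStmt.{0} → NormalSylowStmt.{0} := nsyl

end Cfsg.Agent.Lib.H29.S3814NSyl
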