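import Cfsg.Agent.Lib.H29.S4415F4

/-!
helper29: S4415, FRONT piece F4 relative to a submodule `W` that is invariant under `Q` AND `b`
(the shape consumed by the FRONT assembly; without `b`-invariance the statement is false).
-/

set_option autoImplicit false

namespace Cfsg.Agent.Lib.H29.S4415F4W

open Cfsg.Agent.Lib.H29.S4415F4

variable {S E : Type*} [Group S] [AddCommGroup E] [Module (ZMod 3) E]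

/-- **F4 inside `W`**: binders = helper26's `F4Stmt` plus `hWb` (`b`-invariance of `W`). -/
theorem front4_W [Finite E] (ρ : Representation (ZMod 3) S E) (b x₁ x₂ x₃ : S) (hb3 : b ^ 3 = 1)
    (hx1 : x₁ * x₁ = 1) (hx2 : x₂ * x₂ = 1) (hx12 : x₁ * x₂ = x₃) (hx21 : x₂ * x₁ = x₃)
    (hbx1 : b * x₁ * b⁻¹ = x₂) (hbx2 : b * x₂ * b⁻¹ = x₃) (hbx3 : b * x₃ * b⁻¹ = x₁)
    (E₀ E₁ : Submodule (ZMod 3) E) (hE01 : E₀ ⊓ E₁ = ⊥) (hE01' : E₀ ⊔ E₁ = ⊤)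
    (hE1 : ∀ v ∈ E₁, ρ b v = v) (hE0inv : ∀ v ∈ E₀, ρ b v ∈ E₀) (hE0 : Nat.card ↥E₀ = 27)
    (hind : ∃ v ∈ E₀, ρ b (ρ b v - v) - (ρ b v - v) ≠ 0)
    (W : Submodule (ZMod 3) E) (hW1 : ∀ w ∈ W, ρ x₁ w ∈ W) (hW2 : ∀ w ∈ W, ρ x₂ w ∈ W)
    (hW3 : ∀ w ∈ W, ρ x₃ w ∈ W) (hWb : ∀ w ∈ W, ρ b w ∈ W) (hW : ∃ w ∈ W, ρ x₁ w ≠ w) :
    ∃ e₁ e₂ e₃ : E, e₁ ∈ W ∧ e₂ ∈ W ∧ e₃ ∈ W ∧ e₁ ≠ 0 ∧
      ρ b e₁ = e₂ ∧ ρ b e₂ = e₃ ∧ ρ b e₃ = e₁ ∧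
      ρ x₁ e₁ = e₁ ∧ ρ x₁ e₂ = -e₂ ∧ ρ x₁ e₃ = -e₃ ∧
      ρ x₂ e₁ = -e₁ ∧ ρ x₂ e₂ = e₂ ∧ ρ x₂ e₃ = -e₃ ∧
      ρ x₃ e₁ = -e₁ ∧ ρ x₃ e₂ = -e₂ ∧ ρ x₃ e₃ = e₃ ∧
      ∀ w ∈ W, ∃ w₀ ∈ W, ∃ c₁ c₂ c₃ : ZMod 3,
        w = w₀ + c₁ • e₁ + c₂ • e₂ + c₃ • e₃ ∧ ρ x₁ w₀ = w₀ ∧ ρ x₂ w₀ = w₀ ∧ ρ x₃ w₀ = w₀ ∧
          ρ b w₀ = w₀ := by
  obtain ⟨w, hwW, hw⟩ := hW
  obtain ⟨e₁, e₂, e₃, hne, hb1, hb2, hb3', h11, h12, h13, h21, h22, h23, h31, h32, h33, hdec,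
      hfix, _⟩ :=
    front4 ρ b x₁ x₂ x₃ hb3 hx1 hx2 hx12 hx21 hbx1 hbx2 hbx3 ⟨w, hw⟩ E₀ E₁ hE01 hE01' hE1
      hE0inv hE0 hind
  -- the components of `w`
  obtain ⟨c₁, c₂, c₃, hwdec⟩ := hdec w
  obtain ⟨hf1, hf2, hf3, _⟩ := hfix w
  set w₀ : E := w + ρ x₁ w + ρ x₂ w + ρ x₃ w with hw₀def
  have hx1w : ρ x₁ w = w₀ + c₁ • e₁ - c₂ • e₂ - c₃ • e₃ := by
    conv_lhs => rw [hwdec]
    rw [map_add, map_add, map_add, map_smul, map_smul, map_smul, hf1, h11, h12, h13, smul_neg,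
      smul_neg]
    abel
  have hx2w : ρ x₂ w = w₀ - c₁ • e₁ + c₂ • e₂ - c₃ • e₃ := by
    conv_lhs => rw [hwdec]
    rw [map_add, map_add, map_add, map_smul, map_smul, map_smul, hf2, h21, h22, h23, smul_neg,
      smul_neg]
    abel
  have hx3w : ρ x₃ w = w₀ - c₁ • e₁ - c₂ • e₂ + c₃ • e₃ := by
    conv_lhs => rw [hwdec]
    rw [map_add, map_add, map_add, map_smul, map_smul, map_smul, hf3, h31, h32, h33, smul_neg,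
      smul_neg]
    abel
  -- `c₂ • e₂ = P2 w` and `c₃ • e₃ = P3 w` lie in `W`
  have hP2 : c₂ • e₂ ∈ W := by
    have hmem : w - ρ x₁ w + ρ x₂ w - ρ x₃ w ∈ W :=
      W.sub_mem (W.add_mem (W.sub_mem hwW (hW1 w hwW)) (hW2 w hwW)) (hW3 w hwW)
    have heq : w - ρ x₁ w + ρ x₂ w - ρ x₃ w = c₂ • e₂ := by
      rw [hx1w, hx2w, hx3w]
      conv_lhs => rw [hwdec]
      linear_combination (norm := module) three_nsmul_zero (c₂ • e₂)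
    rwa [heq] at hmem
  have hP3 : c₃ • e₃ ∈ W := by
    have hmem : w - ρ x₁ w - ρ x₂ w + ρ x₃ w ∈ W :=
      W.add_mem (W.sub_mem (W.sub_mem hwW (hW1 w hwW)) (hW2 w hwW)) (hW3 w hwW)
    have heq : w - ρ x₁ w - ρ x₂ w + ρ x₃ w = c₃ • e₃ := by
      rw [hx1w, hx2w, hx3w]
      conv_lhs => rw [hwdec]
      linear_combination (norm := module) three_nsmul_zero (c₃ • e₃)
    rwa [heq] at hmem
  have hc : c₂ ≠ 0 ∨ c₃ ≠ 0 := by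
    by_contra hcon
    push Not at hcon
    apply hw
    rw [hx1w, hcon.1, hcon.2, zero_smul, zero_smul, sub_zero, sub_zero]
    conv_rhs => rw [hwdec, hcon.1, hcon.2, zero_smul, zero_smul, add_zero, add_zero]
  have hmem : e₁ ∈ W ∧ e₂ ∈ W ∧ e₃ ∈ W := by
    rcases hc with hc | hc
    · have he2 : e₂ ∈ W := by
        have := W.smul_mem c₂⁻¹ hP2
        rwa [smul_smul, inv_mul_cancel₀ hc, one_smul] at this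
      have he3 : e₃ ∈ W := hb2 ▸ hWb e₂ he2
      have he1 : e₁ ∈ W := hb3' ▸ hWb e₃ he3
      exact ⟨he1, he2, he3⟩
    · have he3 : e₃ ∈ W := by
        have := W.smul_mem c₃⁻¹ hP3
        rwa [smul_smul, inv_mul_cancel₀ hc, one_smul] at this
      have he1 : e₁ ∈ W := hb3' ▸ hWb e₃ he3
      have he2 : e₂ ∈ W := hb1 ▸ hWb e₁ he1
      exact ⟨he1, he2, he3⟩
  refine ⟨e₁, e₂, e₃, hmem.1, hmem.2.1, hmem.2.2, hne, hb1, hb2, hb3', h11, h12, h13, h21, h22,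
    h23, h31, h32, h33, ?_⟩
  intro u hu
  obtain ⟨d₁, d₂, d₃, hud⟩ := hdec u
  obtain ⟨g1, g2, g3, g4⟩ := hfix u
  exact ⟨u + ρ x₁ u + ρ x₂ u + ρ x₃ u,
    W.add_mem (W.add_mem (W.add_mem hu (hW1 u hu)) (hW2 u hu)) (hW3 u hu),
    d₁, d₂, d₃, hud, g1, g2, g3, g4⟩

end Cfsg.Agent.Lib.H29.S4415F4W
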