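import Cfsg.Agent.Lib.H26.S4415FA
import Cfsg.Agent.Lib.H29.S4415F4W
import Cfsg.Agent.Lib.H1.S4415F5

/-!
helper29: S4415 FRONT block CLOSED: `front : FrontStmt` with no hypothesis left.
Copy of helper26's assembly `front_of` (`Lib/H26/S4415FA.lean`) with F4 := the landed
`H29.S4415F4W.front4_W` (helper26's input `F4Stmt` lacks the `b`-invariance of `W`) and
F5 := helper1's landed `H1.S4415F5.faithful_of` / `irred_of`.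
Pieces: F0/F3 helper26, F1 helper8, F2 helper21, F4 helper29, F5 helper1.
-/

set_option autoImplicit false

namespace Cfsg.Agent.Lib.H29.S4415FA3

open Cfsg.Agent.Lib.H10.S4415
open Cfsg.Agent.Lib.H26.S4415F3

universe u v

theorem front : FrontStmt.{u, v} := by
  intro S _ _ _ E _ _ _ ρ hfaith _hO3 B hB b hb E₀ E₁ hE01 hE01' hE1 hE0inv hE0 hind Q hQ hQ4 hBQ
    hBQ' P hBZ
  have hbord : orderOf b = 3 := Cfsg.Agent.Lib.H21.S4415F2.b_ord B hB b hb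
  have hb3 : b ^ 3 = 1 := by
    rw [← hbord]
    exact pow_orderOf_eq_one b
  have hbn : ∀ r ∈ ⁅Cfsg.pPrimeCore 3 S, B⁆, b * r * b⁻¹ ∈ ⁅Cfsg.pPrimeCore 3 S, B⁆ :=
    Cfsg.Agent.Lib.H21.S4415F2.b_norm B b hb
  have hRcop : (Nat.card ↥⁅Cfsg.pPrimeCore 3 S, B⁆).Coprime 3 :=
    Cfsg.Agent.Lib.H21.S4415F2.R_coprime B
  have hRcomm : ⁅⁅Cfsg.pPrimeCore 3 S, B⁆, Subgroup.zpowers b⁆ = ⁅Cfsg.pPrimeCore 3 S, B⁆ :=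
    Cfsg.Agent.Lib.H21.S4415F2.R_comm B hB b hb
  have hQR : Q ≤ ⁅Cfsg.pPrimeCore 3 S, B⁆ :=
    Cfsg.Agent.Lib.H8.S4415F1.Q_le_R B hB Q hQ hQ4 hBQ hBQ' P hBZ
  obtain ⟨x₁, x₂, x₃, hx1Q, hx2Q, hx3Q, hx1ne, hx1sq, hx2sq, hx3sq, hx12, hx21, hbx1, hbx2, hbx3⟩ :=
    Cfsg.Agent.Lib.H26.S4415F0.exists_x Q hQ hQ4 b hb3 (by rw [hb]; exact hBQ)
      (by rw [hb]; exact hBQ')
  have hx1R := hQR hx1Q
  have hx2R := hQR hx2Q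
  have hx3R := hQR hx3Q
  have hWC1 := commSub_inf_fixedSub ρ ⁅Cfsg.pPrimeCore 3 S, B⁆ hRcop
  have hWC2 := commSub_sup_fixedSub ρ ⁅Cfsg.pPrimeCore 3 S, B⁆ hRcop
  have hCfix : ∀ r ∈ ⁅Cfsg.pPrimeCore 3 S, B⁆,
      ∀ v ∈ fixedSub ρ ⁅Cfsg.pPrimeCore 3 S, B⁆, ρ r v = v := fun r hr v hv => hv r hr
  have hWinv : InvBy ρ (RB ⁅Cfsg.pPrimeCore 3 S, B⁆ b) (commSub ρ ⁅Cfsg.pPrimeCore 3 S, B⁆) :=
    commSub_inv_sup ρ _ b hbn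
  have hRRB : ⁅Cfsg.pPrimeCore 3 S, B⁆ ≤ RB ⁅Cfsg.pPrimeCore 3 S, B⁆ b := le_sup_left
  have hbRB : b ∈ RB ⁅Cfsg.pPrimeCore 3 S, B⁆ b :=
    (le_sup_right : Subgroup.zpowers b ≤ RB ⁅Cfsg.pPrimeCore 3 S, B⁆ b)
      (Subgroup.mem_zpowers b)
  -- `x₁` is nontrivial on `W`
  have hW : ∃ w ∈ commSub ρ ⁅Cfsg.pPrimeCore 3 S, B⁆, ρ x₁ w ≠ w := by
    by_contra hcon
    push Not at hcon
    apply hx1ne
    apply hfaith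
    rw [map_one]
    apply LinearMap.ext
    intro v
    obtain ⟨w, hw, c, hc, rfl⟩ := exists_decomp ρ ⁅Cfsg.pPrimeCore 3 S, B⁆ hRcop v
    rw [map_add, hcon w hw, hCfix x₁ hx1R c hc]
    rfl
  obtain ⟨e₁, e₂, e₃, he1W, he2W, he3W, he1ne, hbe1, hbe2, hbe3, h11, h12, h13, h21, h22, h23,
      h31, h32, h33, hdec⟩ :=
    Cfsg.Agent.Lib.H29.S4415F4W.front4_W ρ b x₁ x₂ x₃ hb3 hx1sq hx2sq hx12 hx21 hbx1 hbx2 hbx3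
      E₀ E₁ hE01 hE01' hE1 hE0inv hE0 hind
      (commSub ρ ⁅Cfsg.pPrimeCore 3 S, B⁆)
      (hWinv x₁ (hRRB hx1R)) (hWinv x₂ (hRRB hx2R)) (hWinv x₃ (hRRB hx3R))
      (hWinv b (hbRB)) hW
  have hQD : QData ρ ⁅Cfsg.pPrimeCore 3 S, B⁆ b (commSub ρ ⁅Cfsg.pPrimeCore 3 S, B⁆)
      x₁ x₂ x₃ e₁ e₂ e₃ :=
    ⟨hx1R, hx2R, hx3R, hx1sq, hx2sq, hx3sq, hx12, hx21, hbx1, hbx2, hbx3, he1W, he2W, he3W, he1ne,
      hbe1, hbe2, hbe3, h11, h12, h13, h21, h22, h23, h31, h32, h33, hdec⟩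
  have hgen : ∀ g ∈ RB ⁅Cfsg.pPrimeCore 3 S, B⁆ b,
      g ∈ Subgroup.closure {x : S | ∃ y ∈ RB ⁅Cfsg.pPrimeCore 3 S, B⁆ b, x = y * b * y⁻¹} := by
    have h := Cfsg.Agent.Lib.H8.S4415F1.RB_le_closure_conj B hB b hb
    have hRB : RB ⁅Cfsg.pPrimeCore 3 S, B⁆ b = ⁅Cfsg.pPrimeCore 3 S, B⁆ ⊔ B := by
      unfold RB
      rw [hb]
    rw [hRB]
    exact fun g hg => h hg
  have hfa := Cfsg.Agent.Lib.H1.S4415F5.faithful_of hfaith hbord hbn hRcop hWinv hWC2 hCfix hQD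
  have hir := Cfsg.Agent.Lib.H1.S4415F5.irred_of hWinv hgen (le_refl _) hWC2 hCfix
    (fun w hw hfix => eq_zero_of_mem_commSub_of_fixed ρ _ hRcop hw hfix) hQD
  exact ⟨commSub ρ ⁅Cfsg.pPrimeCore 3 S, B⁆, fixedSub ρ ⁅Cfsg.pPrimeCore 3 S, B⁆,
    x₁, x₂, x₃, e₁, e₂, e₃, hWC1, hWC2, hCfix,
    ⟨hbord, hbn, hRcop, hRcomm, Cfsg.Agent.Lib.H21.S4415F2.R_solv B, hWinv, hfa, hir⟩, hQD⟩

end Cfsg.Agent.Lib.H29.S4415FA3
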