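import Mathlib

/-!
helper29: S4415, generic lemma (GL2): a linear map `T` of finite order prime to `6` on a
`ZMod 3`-module that maps `v₁, v₂` into `span {v₁, v₂}` fixes `v₁` and `v₂`.
Route: Cayley-Hamilton by hand, `T² = τ T - δ` on `span {v₁, v₂}`, so `T ^ n = p_n + q_n T` there
with an explicit recursion; `(p₅₀, q₅₀) = (p₂, q₂)` for all nine `(τ, δ)` (`decide`), so `T ^ 48`
fixes `v₁, v₂` (`T` is injective); `48` and `k` are coprime.
-/

set_option autoImplicit false

namespace Cfsg.Agent.Lib.H29.S4415GL2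

/-- coefficients of `T ^ n = p + q T` when `T ^ 2 = τ T - δ` -/
def coef (τ δ : ZMod 3) : ℕ → ZMod 3 × ZMod 3
  | 0 => (1, 0)
  | n + 1 => (-(δ * (coef τ δ n).2), (coef τ δ n).1 + τ * (coef τ δ n).2)

set_option maxRecDepth 100000 in
theorem coef_50 : ∀ τ δ : ZMod 3, coef τ δ 50 = coef τ δ 2 := by decide

variable {V : Type*} [AddCommGroup V] [Module (ZMod 3) V]

theorem fix_of_two_dim (T : Module.End (ZMod 3) V) (k : ℕ) (hk : k.Coprime 6)
    (hT : ∀ v, (T ^ k) v = v) (v₁ v₂ : V)
    (h₁ : ∃ a c : ZMod 3, T v₁ = a • v₁ + c • v₂)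
    (h₂ : ∃ a c : ZMod 3, T v₂ = a • v₁ + c • v₂) : T v₁ = v₁ ∧ T v₂ = v₂ := by
  obtain ⟨a, c, h₁⟩ := h₁
  obtain ⟨a', c', h₂⟩ := h₂
  set τ : ZMod 3 := a + c' with hτ
  set δ : ZMod 3 := a * c' - a' * c with hδ
  -- Cayley-Hamilton on `v₁`, `v₂`
  have hCH1 : T (T v₁) = τ • T v₁ - δ • v₁ := by
    rw [h₁, map_add, map_smul, map_smul, h₁, h₂, hτ, hδ]
    module
  have hCH2 : T (T v₂) = τ • T v₂ - δ • v₂ := by
    rw [h₂, map_add, map_smul, map_smul, h₁, h₂, hτ, hδ]
    module
  -- the set of `u` with `T (T u) = τ • T u - δ • u` and stable under `T`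
  have hU : ∀ x y : ZMod 3, T (T (x • v₁ + y • v₂)) = τ • T (x • v₁ + y • v₂) - δ • (x • v₁ + y • v₂) := by
    intro x y
    simp only [map_add, map_smul, hCH1, hCH2]
    module
  have hTU : ∀ x y : ZMod 3, ∃ x' y' : ZMod 3, T (x • v₁ + y • v₂) = x' • v₁ + y' • v₂ := by
    intro x y
    refine ⟨x * a + y * a', x * c + y * c', ?_⟩
    rw [map_add, map_smul, map_smul, h₁, h₂]
    module
  have hpow : ∀ (n : ℕ) (x y : ZMod 3), (T ^ n) (x • v₁ + y • v₂) =
      (coef τ δ n).1 • (x • v₁ + y • v₂) + (coef τ δ n).2 • T (x • v₁ + y • v₂) := by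
    intro n
    induction n with
    | zero => intro x y; simp [coef]
    | succ n ih =>
      intro x y
      rw [pow_succ', Module.End.mul_apply, ih, map_add, map_smul, map_smul, hU]
      simp only [coef]
      module
  -- `T ^ 2` is injective
  have hinj : Function.Injective ⇑(T ^ 2 : Module.End (ZMod 3) V) := by
    intro x y hxy
    have hk0 : k ≠ 0 := by
      rintro rfl
      simp at hk
    have h1 : ∀ v, (T ^ (2 * k)) v = v := by
      intro v
      rw [mul_comm, pow_mul, sq, Module.End.mul_apply, hT, hT]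
    have hx := h1 x
    have hy := h1 y
    have e : 2 * k = (2 * k - 2) + 2 := by omega
    rw [e, pow_add, Module.End.mul_apply] at hx hy
    rw [← hx, ← hy, hxy]
  have h48 : ∀ x y : ZMod 3, (T ^ 48) (x • v₁ + y • v₂) = x • v₁ + y • v₂ := by
    intro x y
    apply hinj
    rw [← Module.End.mul_apply, ← pow_add, hpow, coef_50, ← hpow]
  -- coprimality
  have hfix : ∀ v : V, (T ^ 48) v = v → T v = v := by
    intro v hv
    by_cases hk1 : k = 1
    · have := hT v
      rwa [hk1, pow_one] at this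
    have hk2 : 1 < k := by
      rcases Nat.lt_or_ge 1 k with h | h
      · exact h
      · interval_cases k
        · simp at hk
        · exact absurd rfl hk1
    have hcop : Nat.Coprime 48 k := by
      have h6 : Nat.Coprime 6 k := hk.symm
      have h2 : Nat.Coprime 2 k := Nat.Coprime.coprime_dvd_left (by norm_num : 2 ∣ 6) h6
      have h3 : Nat.Coprime 3 k := Nat.Coprime.coprime_dvd_left (by norm_num : 3 ∣ 6) h6
      have : (48 : ℕ) = 2 ^ 4 * 3 := by norm_num
      rw [this]
      exact Nat.Coprime.mul_left (Nat.Coprime.pow_left 4 h2) h3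
    obtain ⟨j, -, hj⟩ := Nat.exists_mul_mod_eq_one_of_coprime hcop hk2
    have hdiv := Nat.div_add_mod (48 * j) k
    rw [hj] at hdiv
    have hpk : ∀ (q : ℕ) (u : V), (T ^ (k * q)) u = u := by
      intro q
      induction q with
      | zero => intro u; simp
      | succ q ih => intro u; rw [mul_add, mul_one, pow_add, Module.End.mul_apply, hT, ih]
    have hp48 : ∀ q : ℕ, (T ^ (48 * q)) v = v := by
      intro q
      induction q with
      | zero => simp
      | succ q ih => rw [mul_add, mul_one, pow_add, Module.End.mul_apply, hv, ih]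
    have h1 := hp48 j
    rw [← hdiv, pow_add, pow_one, Module.End.mul_apply, hpk] at h1
    exact h1
  refine ⟨hfix v₁ ?_, hfix v₂ ?_⟩
  · have := h48 1 0
    simpa using this
  · have := h48 0 1
    simpa using this

end Cfsg.Agent.Lib.H29.S4415GL2
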