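import Mathlib
import Cfsg.Prelude.Def_Solvable
import Cfsg.Agent.Lib.L0.SFDefs
import Cfsg.Agent.Lib.H1.Fitting
import Cfsg.Agent.Lib.H26.SFA
import Cfsg.Agent.Lib.H29.SFF1

/-!
# S4130-F2 (lead farm-out; helper29): `F(G)` has class `≤ 2` when all class sizes of `G` are squarefree.

`F` is the product of its Sylow subgroups, each of class `≤ 2` by F1 (they inherit `SFClass` by A2).
-/

set_option autoImplicit false

namespace Cfsg.Agent.Lib.H29.SF

open Cfsg.Agent.Lib.L0.SF

/-- A finite nilpotent group all of whose Sylow subgroups have class `≤ 2` has class `≤ 2`. -/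
theorem upperCentralSeries_two_eq_top_of_sylow {N : Type*} [Group N] [Finite N]
    (hN : Group.IsNilpotent N)
    (hS : ∀ (p : ℕ) [Fact p.Prime] (P : Sylow p N),
      commutator ↥(P : Subgroup N) ≤ Subgroup.center ↥(P : Subgroup N)) :
    Subgroup.upperCentralSeries N 2 = ⊤ := by
  obtain ⟨e⟩ := ((Group.isNilpotent_of_finite_tfae (G := N)).out 0 4).mp hN
  have key : ∀ x y z : N, (x * y * x⁻¹ * y⁻¹) * z = z * (x * y * x⁻¹ * y⁻¹) := by
    intro x y z
    apply e.symm.injective
    simp only [map_mul, map_inv]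
    funext p P
    simp only [Pi.mul_apply, Pi.inv_apply]
    have hp : Fact (p : ℕ).Prime := ⟨Nat.prime_of_mem_primeFactors p.2⟩
    have hmem : (e.symm x p P) * (e.symm y p P) * (e.symm x p P)⁻¹ * (e.symm y p P)⁻¹ ∈
        commutator ↥(P : Subgroup N) := by
      rw [commutator_def, ← commutatorElement_def]
      exact Subgroup.commutator_mem_commutator (Subgroup.mem_top _) (Subgroup.mem_top _)
    have := Subgroup.mem_center_iff.mp (hS p P hmem) (e.symm z p P)
    exact this.symm
  rw [eq_top_iff]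
  intro x _
  change x ∈ Subgroup.upperCentralSeries N (1 + 1)
  rw [Subgroup.mem_upperCentralSeries_succ_iff]
  intro y
  rw [Subgroup.upperCentralSeries_one, Subgroup.mem_center_iff]
  intro z
  exact (key x y z).symm

/-- **S4130-F2** (uses A2, F1).  `F(G)` has class `≤ 2`. -/
theorem SFClass.upperCentralSeries_fittingSubgroup {G : Type*} [Group G] [Finite G] (h : SFClass G) :
    Subgroup.upperCentralSeries ↥(Cfsg.fittingSubgroup G) 2 = ⊤ := by
  have hFn := Cfsg.Agent.Lib.H1.fittingSubgroup_normal G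
  have hF : SFClass ↥(Cfsg.fittingSubgroup G) := Cfsg.Agent.Lib.H26.SF.SFClass.of_normal h _
  have hnil := Cfsg.Agent.Lib.H1.fittingSubgroup_isNilpotent (G := G)
  apply upperCentralSeries_two_eq_top_of_sylow hnil
  intro p _ P
  have hall : ∀ (q : ℕ) (_hq : Fact q.Prime) (Q : Sylow q ↥(Cfsg.fittingSubgroup G)),
      (Q : Subgroup ↥(Cfsg.fittingSubgroup G)).Normal :=
    ((Group.isNilpotent_of_finite_tfae (G := ↥(Cfsg.fittingSubgroup G))).out 0 3).mp hnil
  have hPn : (P : Subgroup ↥(Cfsg.fittingSubgroup G)).Normal := hall p inferInstance P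
  exact SFClass.commutator_le_center_of_isPGroup P.2 (Cfsg.Agent.Lib.H26.SF.SFClass.of_normal hF _)

end Cfsg.Agent.Lib.H29.SF
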