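import Cfsg.Agent.S1324

/-!
# S2924, step (6) (GEN core)

Let `Y` be an elementary abelian 2-subgroup of the finite group `X` with `8 ≤ |Y|`, and
`θ` a family of `Y`-invariant commutative subgroups of odd order indexed by the nontrivial
elements of `Y`, balanced in the sense `θ y ⊓ C_X(u) ≤ θ u`.  Then `⨆ y, θ y` is commutative
of odd order.
-/

set_option autoImplicit false
open Cfsg

namespace Cfsg.Agent.Lib.H29.SFGEN

variable {X : Type*} [Group X] [Finite X]

omit [Finite X] in
/-- Two subgroups of index at most 2 of a group `Y` with `8 ≤ |Y|` share a nontrivial element. -/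
theorem exists_common_ne_one (Y B B' : Subgroup X) (h8 : 8 ≤ Nat.card ↥Y)
    (hBi : B.relIndex Y ≤ 2) (hBi' : B'.relIndex Y ≤ 2) :
    ∃ b, b ∈ B ∧ b ∈ B' ∧ b ≠ 1 := by
  by_contra hcon
  push Not at hcon
  have hbot : B ⊓ B' = ⊥ := by
    rw [eq_bot_iff]
    intro b hb
    rw [Subgroup.mem_bot]
    exact hcon b hb.1 hb.2
  have h1 : (B ⊓ B').relIndex Y ≤ B.relIndex Y * B'.relIndex Y := Subgroup.relIndex_inf_le
  rw [hbot, Subgroup.relIndex_bot_left] at h1
  have h2 : B.relIndex Y * B'.relIndex Y ≤ 2 * 2 := Nat.mul_le_mul hBi hBi'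
  omega

omit [Finite X] in
/-- In a group, a set of pairwise commuting elements of odd order generates a commutative
subgroup all of whose elements have odd order. -/
theorem closure_comm_odd (S : Set X) (hc : ∀ a ∈ S, ∀ b ∈ S, a * b = b * a)
    (ho : ∀ a ∈ S, Odd (orderOf a)) :
    (∀ a ∈ Subgroup.closure S, ∀ b ∈ Subgroup.closure S, a * b = b * a) ∧
      ∀ a ∈ Subgroup.closure S, Odd (orderOf a) := by
  have h1 : Subgroup.closure S ≤ Subgroup.centralizer S := by
    rw [Subgroup.closure_le]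
    intro a ha
    rw [SetLike.mem_coe, Subgroup.mem_centralizer_iff]
    intro b hb
    exact hc b hb a ha
  have h2 : Subgroup.closure S ≤ Subgroup.centralizer (Subgroup.closure S : Set X) := by
    rw [Subgroup.closure_le]
    intro a ha
    rw [SetLike.mem_coe, Subgroup.mem_centralizer_iff]
    intro b hb
    have := h1 hb
    rw [Subgroup.mem_centralizer_iff] at this
    exact (this a ha).symm
  have hcomm : ∀ a ∈ Subgroup.closure S, ∀ b ∈ Subgroup.closure S, a * b = b * a := by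
    intro a ha b hb
    have := h2 ha
    rw [Subgroup.mem_centralizer_iff] at this
    exact (this b hb).symm
  refine ⟨hcomm, ?_⟩
  intro a ha
  induction ha using Subgroup.closure_induction with
  | mem x hx => exact ho x hx
  | one => simp
  | mul x y hx hy ihx ihy =>
    have hxy : Commute x y := hcomm x hx y hy
    have hd := hxy.orderOf_mul_dvd_lcm
    have hl : Odd (Nat.lcm (orderOf x) (orderOf y)) := by
      rw [Nat.odd_iff, ← Nat.two_dvd_ne_zero] at *
      intro h2
      have := (Nat.Prime.dvd_mul Nat.prime_two).1 (dvd_trans h2 (Nat.lcm_dvd_mul _ _))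
      tauto
    exact Odd.of_dvd_nat hl hd
  | inv x hx ihx => rwa [orderOf_inv]

/-- A subgroup all of whose elements have odd order has odd order. -/
theorem odd_card_of_forall_odd_orderOf (W : Subgroup X) (h : ∀ a ∈ W, Odd (orderOf a)) :
    Odd (Nat.card ↥W) := by
  by_contra hcon
  rw [Nat.not_odd_iff_even, even_iff_two_dvd] at hcon
  have : Fact (Nat.Prime 2) := ⟨Nat.prime_two⟩
  obtain ⟨w, hw⟩ := exists_prime_orderOf_dvd_card' 2 hcon
  have h2 := h (w : X) w.2
  rw [Subgroup.orderOf_coe, hw] at h2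
  exact absurd h2 (by decide)

/-- **GEN core** (step (6) of S2924). -/
theorem odd_card_iSup (Y : Subgroup X) (hY : Cfsg.IsElementaryAbelian 2 Y)
    (h8 : 8 ≤ Nat.card ↥Y) (θ : {y : X // y ∈ Y ∧ y ≠ 1} → Subgroup X)
    (hodd : ∀ y, Odd (Nat.card ↥(θ y)))
    (hnorm : ∀ y, Y ≤ Subgroup.normalizer ((θ y : Subgroup X) : Set X))
    (hbal : ∀ y u : {y : X // y ∈ Y ∧ y ≠ 1},
      θ y ⊓ Subgroup.centralizer ({(u : X)} : Set X) ≤ θ u)
    (hab : ∀ y, ∀ a ∈ θ y, ∀ b ∈ θ y, a * b = b * a) :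
    Odd (Nat.card ↥(⨆ y, θ y)) ∧ ∀ a ∈ ⨆ y, θ y, ∀ b ∈ ⨆ y, θ y, a * b = b * a := by
  have : Fact (Nat.Prime 2) := ⟨Nat.prime_two⟩
  set S : Set X := {g | ∃ (y : {y : X // y ∈ Y ∧ y ≠ 1}) (B : Subgroup X),
    B ≤ Y ∧ B.relIndex Y ≤ 2 ∧ g ∈ θ y ⊓ Subgroup.centralizer ((B : Subgroup X) : Set X)} with hS
  have hgen : (⨆ y, θ y) = Subgroup.closure S := by
    apply le_antisymm
    · apply iSup_le
      intro y
      have h2 : ¬ 2 ∣ Nat.card ↥(θ y) := by
        have := hodd y
        rw [Nat.odd_iff] at this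
        omega
      have h4 : 2 ^ 2 ≤ Nat.card ↥Y := by omega
      have := Cfsg.Agent.S1324.result 2 Y (θ y) hY h4 h2 (hnorm y)
      rw [this]
      apply iSup_le
      intro B
      intro g hg
      exact Subgroup.subset_closure ⟨y, B.1, B.2.1, B.2.2, hg⟩
    · rw [Subgroup.closure_le]
      rintro g ⟨y, B, -, -, hg⟩
      exact (le_iSup θ y) hg.1
  have hc : ∀ a ∈ S, ∀ b ∈ S, a * b = b * a := by
    rintro a ⟨y, B, hBY, hBi, ha⟩ b ⟨y', B', hBY', hBi', hb⟩
    obtain ⟨c, hcB, hcB', hc1⟩ := exists_common_ne_one Y B B' h8 hBi hBi'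
    let u : {y : X // y ∈ Y ∧ y ≠ 1} := ⟨c, hBY hcB, hc1⟩
    have hau : a ∈ θ u := by
      apply hbal y u
      refine Subgroup.mem_inf.2 ⟨ha.1, ?_⟩
      rw [Subgroup.mem_centralizer_iff]
      intro x hx
      rw [Set.mem_singleton_iff] at hx
      subst hx
      have := (Subgroup.mem_inf.1 ha).2
      rw [Subgroup.mem_centralizer_iff] at this
      exact this _ hcB
    have hbu : b ∈ θ u := by
      apply hbal y' u
      refine Subgroup.mem_inf.2 ⟨hb.1, ?_⟩
      rw [Subgroup.mem_centralizer_iff]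
      intro x hx
      rw [Set.mem_singleton_iff] at hx
      subst hx
      have := (Subgroup.mem_inf.1 hb).2
      rw [Subgroup.mem_centralizer_iff] at this
      exact this _ hcB'
    exact hab u a hau b hbu
  have ho : ∀ a ∈ S, Odd (orderOf a) := by
    rintro a ⟨y, B, -, -, ha⟩
    have hd : orderOf a ∣ Nat.card ↥(θ y) := by
      have := orderOf_dvd_natCard (⟨a, ha.1⟩ : θ y)
      rwa [← Subgroup.orderOf_coe] at this
    exact Odd.of_dvd_nat (hodd y) hd
  obtain ⟨h1, h2⟩ := closure_comm_odd S hc ho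
  rw [hgen]
  exact ⟨odd_card_of_forall_odd_orderOf _ h2, h1⟩

end Cfsg.Agent.Lib.H29.SFGEN
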