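import Cfsg.Agent.Lib.H29.SFGEN

/-!
# S2924, piece GEN (exact signature of tools/blueprints/S2924_sigs.lean)
-/

set_option autoImplicit false
open Cfsg

namespace Cfsg.Agent.Lib.H29.SG

/-- GEN (abstract in `θ`; on landed `Cfsg.Agent.S1324.result`), step (6) of S2924. -/
theorem gen_odd {X : Type*} [Group X] [Finite X] (Y : Subgroup X) (hY : Cfsg.IsElementaryAbelian 2 Y)
    (h8 : 8 ≤ Nat.card ↥Y) (θ : X → Subgroup X)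
    (hodd : ∀ y ∈ Y, y ≠ 1 → Odd (Nat.card ↥(θ y)))
    (hnorm : ∀ y ∈ Y, y ≠ 1 → Y ≤ Subgroup.normalizer ((θ y : Subgroup X) : Set X))
    (hcomm : ∀ y ∈ Y, y ≠ 1 → ∀ a ∈ θ y, ∀ b ∈ θ y, a * b = b * a)
    (hbal : ∀ y ∈ Y, ∀ u ∈ Y, y ≠ 1 → u ≠ 1 → θ y ⊓ Subgroup.centralizer ({u} : Set X) ≤ θ u)
    (z : X) (hzY : z ∈ Y) (hz1 : z ≠ 1) (hθz : θ z = ⊥) :
    Odd (Nat.card ↥(⨆ y : {y : X // y ∈ Y ∧ y ≠ 1}, θ (y : X))) :=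
  (Cfsg.Agent.Lib.H29.SFGEN.odd_card_iSup Y hY h8 (fun y => θ (y : X))
    (fun y => hodd y.1 y.2.1 y.2.2) (fun y => hnorm y.1 y.2.1 y.2.2)
    (fun y u => hbal y.1 y.2.1 u.1 u.2.1 y.2.2 u.2.2)
    (fun y => hcomm y.1 y.2.1 y.2.2)).1

end Cfsg.Agent.Lib.H29.SG
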