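import Mathlib

/-!
# S3017, piece ENDB (pure arithmetic core of CASE B: `N_G(H)` transitive on `H#`)

`d i = χ_i(a)` (an integer, constant on `H#`), `f i = χ_i(1)`, `R i` = the average of `χ_i(a · g a g⁻¹)` over the
`g` with `a · g a g⁻¹` of odd order.  Class sum: `(q-1) d² = f ((q-2) d + R)`; eigenvalue bound: `R ≥ 2 d - f`;
block orthogonality: `∑ d R = 0`; restriction to `H`: `q ∣ f - d`.  These are contradictory for `q ≥ 4`.
-/

set_option autoImplicit false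

namespace Cfsg.Agent.Lib.H29.SH

open Finset

/-- Step 1: `(q - 1) d ≤ f` for the nontrivial characters. -/
theorem endB_step1 {Q D F R : ℝ} (hF : 0 < F) (hDF : D < F)
    (hCS : (Q - 1) * D ^ 2 = F * ((Q - 2) * D + R)) (hEV : 2 * D - F ≤ R) :
    (Q - 1) * D ≤ F := by
  have h1 : F * ((Q - 2) * D + (2 * D - F)) ≤ F * ((Q - 2) * D + R) := by
    apply mul_le_mul_of_nonneg_left _ hF.le
    linarith
  have h2 : 0 ≤ (F - D) * (F - (Q - 1) * D) := by nlinarith
  have h3 : 0 < F - D := by linarith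
  have h4 : 0 ≤ F - (Q - 1) * D := by
    by_contra hneg
    push Not at hneg
    have := mul_neg_of_pos_of_neg h3 hneg
    linarith
  linarith

/-- Step 2: `d R ≤ -(q - 3) d²` for the nontrivial characters. -/
theorem endB_step2 {Q D F R : ℝ} (hF : 0 < F) (hDF : D < F)
    (hCS : (Q - 1) * D ^ 2 = F * ((Q - 2) * D + R)) (hEV : 2 * D - F ≤ R) :
    D * R ≤ -(Q - 3) * D ^ 2 := by
  have h1 := endB_step1 hF hDF hCS hEV
  have h2 : F * (D * R) = D ^ 2 * ((Q - 1) * D - (Q - 2) * F) := by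
    have : F * R = (Q - 1) * D ^ 2 - F * ((Q - 2) * D) := by linarith
    calc F * (D * R) = D * (F * R) := by ring
      _ = D * ((Q - 1) * D ^ 2 - F * ((Q - 2) * D)) := by rw [this]
      _ = D ^ 2 * ((Q - 1) * D - (Q - 2) * F) := by ring
  have h3 : D ^ 2 * ((Q - 1) * D - (Q - 2) * F) ≤ D ^ 2 * (F - (Q - 2) * F) := by
    apply mul_le_mul_of_nonneg_left _ (sq_nonneg D)
    linarith
  have h4 : F * (D * R) ≤ F * (-(Q - 3) * D ^ 2) := by
    rw [h2]
    calc D ^ 2 * ((Q - 1) * D - (Q - 2) * F) ≤ D ^ 2 * (F - (Q - 2) * F) := h3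
      _ = F * (-(Q - 3) * D ^ 2) := by ring
  exact le_of_mul_le_mul_left h4 hF

/-- **ENDB**: the arithmetic contradiction of CASE B of S3017. -/
theorem endB {ι : Type*} [Fintype ι] [DecidableEq ι] (q : ℕ) (hq : 4 ≤ q) (d : ι → ℤ) (f : ι → ℕ)
    (R : ι → ℝ) (i0 : ι) (hd0 : d i0 = 1) (hf0 : f i0 = 1) (hfpos : ∀ i, 0 < f i)
    (hlt : ∀ i, i ≠ i0 → d i < (f i : ℤ))
    (hCS : ∀ i, ((q : ℝ) - 1) * (d i : ℝ) ^ 2 = (f i : ℝ) * (((q : ℝ) - 2) * (d i : ℝ) + R i))
    (hEV : ∀ i, 2 * (d i : ℝ) - (f i : ℝ) ≤ R i)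
    (hsum : ∑ i, (d i : ℝ) * R i = 0)
    (hint : ∀ i, (q : ℤ) ∣ (f i : ℤ) - d i) : False := by
  have hQ4 : (4 : ℝ) ≤ (q : ℝ) := by exact_mod_cast hq
  -- the trivial character
  have hR0 : R i0 = 1 := by
    have := hCS i0
    rw [hd0, hf0] at this
    push_cast at this
    linarith
  -- the other terms
  have hterm : ∀ i, i ≠ i0 → (d i : ℝ) * R i ≤ -((q : ℝ) - 3) * (d i : ℝ) ^ 2 := by
    intro i hi
    have hF : (0 : ℝ) < (f i : ℝ) := by exact_mod_cast hfpos i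
    have hDF : (d i : ℝ) < (f i : ℝ) := by exact_mod_cast hlt i hi
    exact endB_step2 hF hDF (hCS i) (hEV i)
  have hnonpos : ∀ i, i ≠ i0 → (d i : ℝ) * R i ≤ 0 := by
    intro i hi
    have h1 := hterm i hi
    have h2 : 0 ≤ ((q : ℝ) - 3) * (d i : ℝ) ^ 2 := mul_nonneg (by linarith) (sq_nonneg _)
    linarith
  -- split off the trivial character
  have hsplit : (d i0 : ℝ) * R i0 + ∑ i ∈ Finset.univ.erase i0, (d i : ℝ) * R i = 0 := by
    have := Finset.add_sum_erase Finset.univ (fun i => (d i : ℝ) * R i) (Finset.mem_univ i0)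
    rw [hsum] at this
    exact this
  rw [hd0, hR0] at hsplit
  push_cast at hsplit
  have hrest : ∑ i ∈ Finset.univ.erase i0, (d i : ℝ) * R i = -1 := by linarith
  -- every other term is at least `-1`
  have hge : ∀ i, i ≠ i0 → -1 ≤ (d i : ℝ) * R i := by
    intro i hi
    have hmem : i ∈ Finset.univ.erase i0 := Finset.mem_erase.2 ⟨hi, Finset.mem_univ i⟩
    have h1 : (d i : ℝ) * R i + ∑ j ∈ (Finset.univ.erase i0).erase i, (d j : ℝ) * R j = -1 := by
      have := Finset.add_sum_erase (Finset.univ.erase i0) (fun i => (d i : ℝ) * R i) hmem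
      rw [hrest] at this
      exact this
    have h2 : ∑ j ∈ (Finset.univ.erase i0).erase i, (d j : ℝ) * R j ≤ 0 := by
      apply Finset.sum_nonpos
      intro j hj
      exact hnonpos j (Finset.ne_of_mem_erase (Finset.mem_of_mem_erase hj))
    linarith
  -- some other character does not vanish
  obtain ⟨i1, hi1, hd1⟩ : ∃ i, i ≠ i0 ∧ d i ≠ 0 := by
    by_contra hcon
    push Not at hcon
    have : ∑ i ∈ Finset.univ.erase i0, (d i : ℝ) * R i = 0 := by
      apply Finset.sum_eq_zero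
      intro i hi
      rw [hcon i (Finset.ne_of_mem_erase hi)]
      simp
    rw [this] at hrest
    norm_num at hrest
  have hF : (0 : ℝ) < (f i1 : ℝ) := by exact_mod_cast hfpos i1
  have hDF : (d i1 : ℝ) < (f i1 : ℝ) := by exact_mod_cast hlt i1 hi1
  have h1 := hterm i1 hi1
  have h2 := hge i1 hi1
  -- `(q - 3) d² ≤ 1`
  have h3 : ((q : ℝ) - 3) * (d i1 : ℝ) ^ 2 ≤ 1 := by linarith
  have hdsq : (1 : ℝ) ≤ (d i1 : ℝ) ^ 2 := by
    have : (1 : ℤ) ≤ (d i1) ^ 2 := by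
      have := sq_nonneg (d i1)
      have h0 : (d i1) ^ 2 ≠ 0 := pow_ne_zero 2 hd1
      omega
    exact_mod_cast this
  -- hence `q = 4` and `d² = 1`
  have hq4 : (q : ℝ) = 4 := by nlinarith
  have hd2 : (d i1 : ℝ) ^ 2 = 1 := by
    rw [hq4] at h3
    nlinarith
  have hqn : q = 4 := by exact_mod_cast hq4
  -- `d R = -1`
  have hdR : (d i1 : ℝ) * R i1 = -1 := by
    rw [hq4, hd2] at h1
    linarith
  -- `f = 3 d`
  have hCS1 := hCS i1
  rw [hq4, hd2] at hCS1
  have hf3 : (f i1 : ℝ) = 3 * (d i1 : ℝ) := by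
    -- `3 = f (2 d + R)`, multiply by `d`: `3 d = f (2 d² + d R) = f (2 - 1) = f`
    have : 3 * (d i1 : ℝ) = (f i1 : ℝ) * (2 * (d i1 : ℝ) ^ 2 + (d i1 : ℝ) * R i1) := by
      have h5 : (3 : ℝ) = (f i1 : ℝ) * (2 * (d i1 : ℝ) + R i1) := by linarith
      calc 3 * (d i1 : ℝ) = ((f i1 : ℝ) * (2 * (d i1 : ℝ) + R i1)) * (d i1 : ℝ) := by rw [← h5]
        _ = (f i1 : ℝ) * (2 * (d i1 : ℝ) ^ 2 + (d i1 : ℝ) * R i1) := by ring
    rw [hd2, hdR] at this
    linarith
  have hf3z : (f i1 : ℤ) = 3 * d i1 := by exact_mod_cast hf3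
  have hd2z : (d i1) ^ 2 = 1 := by exact_mod_cast hd2
  have hfz : (0 : ℤ) < (f i1 : ℤ) := by exact_mod_cast hfpos i1
  have hd1' : d i1 = 1 := by
    have hprod : (d i1 - 1) * (d i1 + 1) = 0 := by
      have : (d i1 - 1) * (d i1 + 1) = (d i1) ^ 2 - 1 := by ring
      rw [this, hd2z]; norm_num
    rcases mul_eq_zero.1 hprod with h | h
    · omega
    · have h' : d i1 = -1 := by omega
      rw [h'] at hf3z; omega
  have := hint i1
  rw [hf3z, hd1', hqn] at this
  norm_num at this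

end Cfsg.Agent.Lib.H29.SH
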