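import Mathlib
import Cfsg.Prelude.Def_Characters
import Cfsg.Agent.Lib.H22.DLSingA
import Cfsg.Agent.Lib.H24.CharDefl

/-!
# S4931 piece CH0 (architect helper20): separating `p'`-degree characters trivial on a normal
Sylow subgroup `Q` (resp. on `Q'`).
-/

set_option autoImplicit false

namespace Cfsg.Agent.Lib.H29.SNC

open Cfsg

/-- CH0 -/
theorem exists_irr_sep_sylow {H : Type*} [Group H] [Finite H] (p : ℕ) [Fact p.Prime]
    (Q : Subgroup H) [Q.Normal] (hidx : ¬ p ∣ Q.index) (x : H) (hx : x ∉ Q) :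
    ∃ θ : IrrCharacter H, ¬ p ∣ charDegree (θ : H → ℂ) ∧
      (∀ m ∈ Q, (θ : H → ℂ) m = (θ : H → ℂ) 1) ∧ (θ : H → ℂ) x ≠ (θ : H → ℂ) 1 := by
  classical
  have hxb : (x : H ⧸ Q) ≠ 1 := fun h => hx ((QuotientGroup.eq_one_iff x).1 h)
  have : Fintype (H ⧸ Q) := Fintype.ofFinite _
  obtain ⟨ψ, hψ⟩ := Cfsg.Agent.Lib.H22.DLSing.exists_irr_ne_one hxb
  have htriv : ∀ m ∈ Q, (Cfsg.Agent.Lib.H24.inflIrr Q ψ : H → ℂ) m =
      (Cfsg.Agent.Lib.H24.inflIrr Q ψ : H → ℂ) 1 := by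
    intro m hm
    rw [Cfsg.Agent.Lib.H24.inflIrr_apply, Cfsg.Agent.Lib.H24.inflIrr_apply,
      (QuotientGroup.eq_one_iff m).2 hm, QuotientGroup.mk_one]
  refine ⟨Cfsg.Agent.Lib.H24.inflIrr Q ψ, ?_, htriv, ?_⟩
  · intro hp
    exact hidx (hp.trans (Cfsg.Agent.Lib.H24.charDegree_dvd_index _ Q htriv))
  · rw [Cfsg.Agent.Lib.H24.inflIrr_apply, Cfsg.Agent.Lib.H24.inflIrr_apply, QuotientGroup.mk_one]
    exact hψ

end Cfsg.Agent.Lib.H29.SNC
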