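import Mathlib
import Cfsg.Prelude.Def_Characters
import Cfsg.Agent.Lib.H22.DLSingA
import Cfsg.Agent.Lib.H24.CharDefl
import Cfsg.Agent.Lib.H23.Ito

/-!
# S4931 piece CH1 (architect helper20): separating `p'`-degree characters trivial on a normal
Sylow subgroup `Q` (resp. on `Q'`).
-/

set_option autoImplicit false

namespace Cfsg.Agent.Lib.H29.SNC

open Cfsg

/-- CH1 -/
theorem exists_irr_sep_derived {H : Type*} [Group H] [Finite H] (p : ℕ) [Fact p.Prime]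
    (Q : Subgroup H) [Q.Normal] (hidx : ¬ p ∣ Q.index) (x : H) (hx : x ∉ ⁅Q, Q⁆) :
    ∃ θ : IrrCharacter H, ¬ p ∣ charDegree (θ : H → ℂ) ∧
      (∀ m ∈ ⁅Q, Q⁆, (θ : H → ℂ) m = (θ : H → ℂ) 1) ∧ (θ : H → ℂ) x ≠ (θ : H → ℂ) 1 := by
  classical
  have hDn : (⁅Q, Q⁆ : Subgroup H).Normal := Subgroup.commutator_normal Q Q
  set D : Subgroup H := ⁅Q, Q⁆ with hD
  have hDQ : D ≤ Q := Subgroup.commutator_le_right Q Q
  have hxb : (x : H ⧸ D) ≠ 1 := fun h => hx ((QuotientGroup.eq_one_iff x).1 h)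
  have : Fintype (H ⧸ D) := Fintype.ofFinite _
  obtain ⟨ψ, hψ⟩ := Cfsg.Agent.Lib.H22.DLSing.exists_irr_ne_one hxb
  have htriv : ∀ m ∈ D, (Cfsg.Agent.Lib.H24.inflIrr D ψ : H → ℂ) m =
      (Cfsg.Agent.Lib.H24.inflIrr D ψ : H → ℂ) 1 := by
    intro m hm
    rw [Cfsg.Agent.Lib.H24.inflIrr_apply, Cfsg.Agent.Lib.H24.inflIrr_apply,
      (QuotientGroup.eq_one_iff m).2 hm, QuotientGroup.mk_one]
  refine ⟨Cfsg.Agent.Lib.H24.inflIrr D ψ, ?_, htriv, ?_⟩
  · -- Itô in `H ⧸ D` for the abelian normal subgroup `Q D / D`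
    set f := QuotientGroup.mk' D with hf
    have hfs : Function.Surjective f := QuotientGroup.mk'_surjective D
    have hQn : (Q.map f).Normal := Subgroup.Normal.map inferInstance f hfs
    have hab : ∀ a ∈ Q.map f, ∀ b ∈ Q.map f, a * b = b * a := by
      rintro _ ⟨a, ha, rfl⟩ _ ⟨b, hb, rfl⟩
      have hc : a * b * a⁻¹ * b⁻¹ ∈ D := Subgroup.commutator_mem_commutator ha hb
      have h1 : f (a * b * a⁻¹ * b⁻¹) = 1 := by
        rw [hf, QuotientGroup.mk'_apply]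
        exact (QuotientGroup.eq_one_iff _).2 hc
      rw [map_mul, map_mul, map_mul, map_inv, map_inv] at h1
      calc f a * f b = (f a * f b * (f a)⁻¹ * (f b)⁻¹) * (f b * f a) := by group
        _ = f b * f a := by rw [h1, one_mul]
    obtain ⟨d, hd1, hd2⟩ := Cfsg.Agent.Lib.H23.ito_char (Q.map f) hab ψ.2
    have hidx' : (Q.map f).index = Q.index := by
      apply Subgroup.index_map_eq Q hfs
      rw [hf, QuotientGroup.ker_mk']
      exact hDQ
    have hdeg : charDegree (ψ : H ⧸ D → ℂ) = d := by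
      have h2 := Cfsg.Agent.Lib.H23.apply_one_eq_charDegree (ψ : H ⧸ D → ℂ) ψ.2
      rw [hd1] at h2
      exact (Nat.cast_injective h2).symm
    intro hp
    rw [Cfsg.Agent.Lib.H24.charDegree_inflIrr, hdeg] at hp
    rw [hidx'] at hd2
    exact hidx (hp.trans hd2)
  · rw [Cfsg.Agent.Lib.H24.inflIrr_apply, Cfsg.Agent.Lib.H24.inflIrr_apply, QuotientGroup.mk_one]
    exact hψ

end Cfsg.Agent.Lib.H29.SNC
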