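import Cfsg.Agent.Lib.H9.Sp4SubDefs
import Cfsg.Agent.Lib.H15.SpSubA

/-!
# S5789-FIN (helper29): from the torus elements `k_μ` to `u₁ ∈ Scl H` (characteristic two)
-/

set_option autoImplicit false
set_option linter.unusedSimpArgs false
set_option linter.unusedSectionVars false
set_option linter.unusedVariables false

namespace Cfsg.Agent.Lib.H29.Sp4Sub

open Matrix
open Cfsg.Agent.Lib.H11.SubspMax Cfsg.Agent.Lib.H15.SpSub Cfsg.Agent.Lib.H9.Sp4Sub
open Cfsg.Agent.Lib.H4 (sympForm_self sympForm_add_left sympForm_add_right sympForm_smul_left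
  sympForm_smul_right sympForm_swap)

variable {F : Type*} [Field F] {m : ℕ} {F₀ : Subfield F}
variable {H : Subgroup (GL (Fin m ⊕ Fin m) F)}

local notation "VV" => (Fin m ⊕ Fin m → F)
local notation "GG" => GL (Fin m ⊕ Fin m) F
local notation "MM" => Matrix (Fin m ⊕ Fin m) (Fin m ⊕ Fin m) F
local notation "BB" => Cfsg.sympForm m F

/-- in characteristic two `x + x = 0` for vectors -/
theorem fin_two_smul (h2 : (2 : F) = 0) (c : F) (x : VV) : c • x + c • x = 0 := by
  rw [← add_smul, ← two_mul, h2, zero_mul, zero_smul]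

/-- char 2: `sr u (a • u + b • w) t = sr u w (b * t)` for `B u w = 0` -/
theorem fin_sr_right (h2 : (2 : F) = 0) {u w : VV} (h : BB u w = 0) (a b t : F) :
    sr u (a • u + b • w) t = sr u w (b * t) := by
  have h' : BB u (a • u + b • w) = 0 := by
    rw [sympForm_add_right, sympForm_smul_right, sympForm_smul_right, sympForm_self, h]; ring
  apply gl_ext
  intro x
  rw [sr_mulVec h', sr_mulVec h, sympForm_add_right, sympForm_smul_right, sympForm_smul_right]
  have e : (t * a * BB x u) • u + (t * a * BB x u) • u = 0 := fin_two_smul h2 _ _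
  have : x + t • (BB x u • (a • u + b • w) + (a * BB x u + b * BB x w) • u) =
      x + (b * t) • (BB x u • w + BB x w • u) + ((t * a * BB x u) • u + (t * a * BB x u) • u) := by
    module
  rw [this, e, add_zero]

/-- char 2: `sr (μ • u + a • w) w t = sr u w (μ * t)` for `B u w = 0` -/
theorem fin_sr_left (h2 : (2 : F) = 0) {u w : VV} (h : BB u w = 0) (μ a t : F) :
    sr (μ • u + a • w) w t = sr u w (μ * t) := by
  have h' : BB (μ • u + a • w) w = 0 := by
    rw [sympForm_add_left, sympForm_smul_left, sympForm_smul_left, sympForm_self, h]; ring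
  apply gl_ext
  intro x
  rw [sr_mulVec h', sr_mulVec h, sympForm_add_right, sympForm_smul_right, sympForm_smul_right]
  have e : (t * a * BB x w) • w + (t * a * BB x w) • w = 0 := fin_two_smul h2 _ _
  have : x + t • ((μ * BB x u + a * BB x w) • w + BB x w • (μ • u + a • w)) =
      x + (μ * t) • (BB x u • w + BB x w • u) + ((t * a * BB x w) • w + (t * a * BB x w) • w) := by
    module
  rw [this, e, add_zero]

/-- **S5789-FIN.** -/
theorem rat_mem_Scl_of_torus [Fintype F] (h2 : (2 : F) = 0) (hM : M0 m F₀ ≤ H) (hH : H ≤ Cfsg.spGL m F)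
    {y u₁ u₂ v : VV} (hu₁ : IsRat F₀ u₁) (hu₂ : IsRat F₀ u₂) (hv : IsRat F₀ v)
    (h12 : BB u₁ u₂ = 0) (hv1 : BB v u₁ = 0) (hv2 : BB v u₂ = 1) (hβ₁ : BB y u₁ ≠ 0)
    (hk : ∀ μ : F, μ ≠ 0 → ∃ k ∈ H, ∃ a : F,
      (k : MM) *ᵥ (BB y u₂ • u₁ + BB y u₁ • u₂) = BB y u₂ • u₁ + BB y u₁ • u₂ ∧
      (k : MM) *ᵥ u₁ = μ • u₁ + a • (BB y u₂ • u₁ + BB y u₁ • u₂)) :
    u₁ ∈ Scl H := by
  set β₁ : F := BB y u₁ with hβ₁def
  set β₂ : F := BB y u₂ with hβ₂def
  set n : VV := β₂ • u₁ + β₁ • u₂ with hn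
  have hneg : ∀ c : F, -c = c := by
    intro c
    have : c + c = 0 := by rw [← two_mul, h2, zero_mul]
    exact neg_eq_of_add_eq_zero_left this
  have h1n : BB u₁ n = 0 := by
    rw [hn, sympForm_add_right, sympForm_smul_right, sympForm_smul_right, sympForm_self, h12]; ring
  have h1v : BB u₁ v = 0 := sympForm_eq_swap hv1
  have h2v : BB u₂ v = 1 := by
    rw [sympForm_swap, hv2, hneg]
  -- (a) `sr u₁ u₂ μ ∈ H` for all `μ`
  have hA : ∀ μ : F, sr u₁ u₂ μ ∈ H := by
    intro μ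
    by_cases hμ : μ = 0
    · rw [hμ, sr_zero]; exact H.one_mem
    obtain ⟨k, hkH, a, hkn, hk1⟩ := hk μ hμ
    have e1 : sr u₁ n (1 / β₁) = sr u₁ u₂ 1 := by
      rw [hn, fin_sr_right h2 h12, mul_one_div_cancel hβ₁]
    have e2 : sr u₁ u₂ (1 : F) ∈ H := hM (sr_mem_M0 hu₁ hu₂ F₀.one_mem)
    have e3 : sr ((k : MM) *ᵥ u₁) ((k : MM) *ᵥ n) (1 / β₁) ∈ H := by
      rw [sr_conj k (hH hkH), e1]
      exact H.mul_mem (H.mul_mem hkH e2) (H.inv_mem hkH)
    rw [hkn, hk1, fin_sr_left h2 h1n, hn, fin_sr_right h2 h12] at e3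
    have : β₁ * (μ * (1 / β₁)) = μ := by field_simp
    rwa [this] at e3
  -- (b) `sr u₁ v μ ∈ H`
  have hB : ∀ μ : F, sr u₁ v μ ∈ H := by
    intro μ
    set g : GG := stv (u₂ + v) 1 with hg
    have hgH : g ∈ H := hM (stv_mem_M0 (hu₂.add hv) F₀.one_mem)
    have hg1 : (g : MM) *ᵥ u₁ = u₁ := by
      rw [hg, stv_mulVec, sympForm_add_right, h12, h1v]; module
    have hg2 : (g : MM) *ᵥ u₂ = v := by
      rw [hg, stv_mulVec, sympForm_add_right, sympForm_self, h2v]
      have : u₂ + u₂ = 0 := by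
        have := fin_two_smul h2 1 u₂
        rwa [one_smul] at this
      calc u₂ + ((1 : F) * (0 + 1)) • (u₂ + v) = (u₂ + u₂) + v := by module
        _ = v := by rw [this, zero_add]
    have := sr_conj g (hH hgH) u₁ u₂ μ
    rw [hg1, hg2] at this
    rw [this]
    exact H.mul_mem (H.mul_mem hgH (hA μ)) (H.inv_mem hgH)
  -- (c)
  have hC : ∀ t : F, stv u₁ (t * t) ∈ H := by
    intro t
    have hvt : BB v (t • u₁) = 0 := by rw [sympForm_smul_right, hv1, mul_zero]
    have e1 : (sr u₁ u₂ t : MM) *ᵥ v = v + t • u₁ := by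
      rw [sr_mulVec h12, hv1, hv2]; module
    have e2 : stv (v + t • u₁) (1 : F) ∈ H := by
      rw [← e1, conj_stv _ (sr_mem_spGL _ _ _)]
      exact H.mul_mem (H.mul_mem (hA t) (hM (stv_mem_M0 hv F₀.one_mem))) (H.inv_mem (hA t))
    rw [stv_add_vec hvt] at e2
    have e3 : sr v (t • u₁) (1 : F) = sr u₁ v t := by
      rw [sr_smul_right hv1, mul_one, sr_comm hv1]
    rw [e3] at e2
    have e4 : stv v (1 : F) ∈ H := hM (stv_mem_M0 hv F₀.one_mem)
    have e5 : stv (t • u₁) (1 : F) ∈ H := by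
      have := H.mul_mem (H.mul_mem (H.inv_mem e4) e2) (H.inv_mem (hB t))
      have e6 : (stv v (1 : F))⁻¹ * (stv v 1 * stv (t • u₁) 1 * sr u₁ v t) * (sr u₁ v t)⁻¹ =
          stv (t • u₁) 1 := by group
      rwa [e6] at this
    rw [stv_smul, mul_one] at e5
    exact e5
  intro c
  have hchar : ringChar F = 2 := CharP.ringChar_of_prime_eq_zero Nat.prime_two (by exact_mod_cast h2)
  obtain ⟨t, ht⟩ := FiniteField.isSquare_of_char_two hchar c
  rw [ht]
  exact hC t

end Cfsg.Agent.Lib.H29.Sp4Sub
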