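import Mathlib
import Cfsg.Prelude.Def_LieExceptional
import Cfsg.Agent.Lib.H29.BNSub
import Cfsg.Agent.Lib.H2.BN5

set_option autoImplicit false

namespace Cfsg.Agent.Lib.H29.StCount

open Subgroup Cfsg.Agent.Lib.H2

variable {G : Type*} [Group G] (P : Cfsg.BNPair G)

/-- the group `N_K = ⟨K⟩ T` -/
def NK (K : Set G) : Subgroup G := Subgroup.closure K ⊔ (P.B ⊓ P.N)

theorem NK_le_N {K : Set G} (hK : K ⊆ P.S) : NK P K ≤ P.N :=
  sup_le (BN.closure_le_N hK) inf_le_right

theorem NK_le_parabolic (K : Set G) : NK P K ≤ P.parabolic K :=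
  sup_le le_sup_right (le_trans inf_le_left le_sup_left)

theorem T_le_NK (K : Set G) : P.B ⊓ P.N ≤ NK P K := le_sup_right

theorem closure_le_NK (K : Set G) : Subgroup.closure K ≤ NK P K := le_sup_left

/-- the (B,N)-pair `(B, ⟨K⟩T, K)` of the standard parabolic subgroup `P_K` -/
def subBN (K : Set G) (hK : K ⊆ P.S) : Cfsg.BNPair ↥(P.parabolic K) :=
  Cfsg.Agent.Lib.H29.bnOfSubgroup (P.parabolic K) P.B (NK P K) K
    le_sup_left (NK_le_parabolic P K)
    (by
      unfold NK Cfsg.BNPair.parabolic
      apply le_antisymm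
      · exact sup_le le_sup_left (sup_le le_sup_right (le_trans inf_le_left le_sup_left))
      · exact sup_le le_sup_left (le_trans le_sup_left le_sup_right))
    (fun n hn t ht => P.conj_mem n (NK_le_N P hK hn) t ⟨ht.1, NK_le_N P hK ht.2⟩)
    (fun s hs => closure_le_NK P K (Subgroup.subset_closure hs))
    (fun s hs => P.sq_mem s (hK hs))
    (fun s hs s' hs' h => P.inj s (hK hs) s' (hK hs') h)
    (by
      apply le_antisymm
      · exact sup_le (closure_le_NK P K) inf_le_right
      · exact sup_le le_sup_left (le_trans (le_inf inf_le_left (T_le_NK P K)) le_sup_right))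
    (fun s hs n hn b hb => P.mul_mem_union s (hK hs) n (NK_le_N P hK hn) b hb)
    (fun s hs => P.conj_ne s (hK hs))

theorem subBN_B (K : Set G) (hK : K ⊆ P.S) : (subBN P K hK).B = P.B.subgroupOf (P.parabolic K) := rfl

theorem subBN_N (K : Set G) (hK : K ⊆ P.S) :
    (subBN P K hK).N = (NK P K).subgroupOf (P.parabolic K) := rfl

theorem subBN_S (K : Set G) (hK : K ⊆ P.S) :
    (subBN P K hK).S = {g : ↥(P.parabolic K) | (g : G) ∈ K} := rfl

theorem mem_subBN_B {K : Set G} (hK : K ⊆ P.S) (g : ↥(P.parabolic K)) :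
    g ∈ (subBN P K hK).B ↔ (g : G) ∈ P.B := Iff.rfl

theorem mem_subBN_N {K : Set G} (hK : K ⊆ P.S) (g : ↥(P.parabolic K)) :
    g ∈ (subBN P K hK).N ↔ (g : G) ∈ NK P K := Iff.rfl

theorem mem_subBN_S {K : Set G} (hK : K ⊆ P.S) (g : ↥(P.parabolic K)) :
    g ∈ (subBN P K hK).S ↔ (g : G) ∈ K := Iff.rfl

theorem eqv_subBN {K : Set G} (hK : K ⊆ P.S) (x y : ↥(P.parabolic K)) :
    BN.Eqv (subBN P K hK) x y ↔ BN.Eqv P (x : G) (y : G) := Iff.rfl

/-- the standard parabolic subgroups of `P_K` -/
theorem subBN_parabolic {K J : Set G} (hK : K ⊆ P.S) (hJ : J ⊆ K) :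
    (subBN P K hK).parabolic {g : ↥(P.parabolic K) | (g : G) ∈ J} =
      (P.parabolic J).subgroupOf (P.parabolic K) := by
  have hJK : Subgroup.closure J ≤ P.parabolic K :=
    le_trans (Subgroup.closure_mono hJ) le_sup_right
  have h1 : Subgroup.closure {g : ↥(P.parabolic K) | (g : G) ∈ J} =
      (Subgroup.closure J).subgroupOf (P.parabolic K) := by
    apply Subgroup.map_injective (Subgroup.subtype_injective (P.parabolic K))
    rw [MonoidHom.map_closure, Subgroup.map_subgroupOf_eq_of_le hJK]
    congr 1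
    ext x
    constructor
    · rintro ⟨g, hg, rfl⟩
      exact hg
    · intro hx
      exact ⟨⟨x, hJK (Subgroup.subset_closure hx)⟩, hx, rfl⟩
  change P.B.subgroupOf (P.parabolic K) ⊔ Subgroup.closure {g : ↥(P.parabolic K) | (g : G) ∈ J} = _
  rw [h1]
  unfold Cfsg.BNPair.parabolic
  rw [Subgroup.subgroupOf_sup le_sup_left hJK]

/-- the length functions of `P_K` and of `G` agree on `N_K` -/
theorem len_subBN {K : Set G} (hK : K ⊆ P.S) (n : ↥(P.parabolic K))
    (hn : n ∈ (subBN P K hK).N) : BN.len (subBN P K hK) n = BN.len P (n : G) := by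
  apply le_antisymm
  · -- a reduced `K`-word
    have hn' : (n : G) ∈ Subgroup.closure (K ∪ ((P.B ⊓ P.N : Subgroup G) : Set G)) := by
      rw [Subgroup.closure_union, Subgroup.closure_eq]
      exact hn
    obtain ⟨-, l, hl, hle⟩ := BN.exists_word_of_mem_closure hK hn'
    obtain ⟨l', hl', he, hlen⟩ := BN.exists_reduced_word hK l hl
    have hmem : ∀ x ∈ l', x ∈ P.parabolic K := fun x hx =>
      (le_sup_right : Subgroup.closure K ≤ P.parabolic K) (Subgroup.subset_closure (hl' x hx))
    let L : List ↥(P.parabolic K) := l'.pmap (fun x hx => ⟨x, hx⟩) hmem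
    have hLmap : L.map Subtype.val = l' := by
      simp only [L, List.map_pmap]
      rw [List.pmap_eq_map, List.map_id']
    have hLprod : ((L.prod : ↥(P.parabolic K)) : G) = l'.prod := by
      rw [← hLmap]
      exact map_list_prod (P.parabolic K).subtype L
    have hLw : BN.IsWord (subBN P K hK).S L := by
      intro x hx
      simp only [L, List.mem_pmap] at hx
      obtain ⟨y, hy, rfl⟩ := hx
      exact hl' y hy
    have hLe : BN.Eqv (subBN P K hK) L.prod n := by
      rw [eqv_subBN, hLprod]
      exact he.trans hle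
    have := BN.len_le hLw hLe
    have hLlen : L.length = l'.length := by simp [L]
    rw [hLlen, hlen, BN.len_congr hle] at this
    exact this
  · obtain ⟨L, hLw, hLlen, hLe⟩ := BN.exists_reduced (P := subBN P K hK) hn
    have hw : BN.IsWord P.S (L.map Subtype.val) := by
      intro x hx
      rw [List.mem_map] at hx
      obtain ⟨y, hy, rfl⟩ := hx
      exact hK (hLw y hy)
    have hprod : (L.map Subtype.val).prod = ((L.prod : ↥(P.parabolic K)) : G) :=
      (map_list_prod (P.parabolic K).subtype L).symm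
    have he : BN.Eqv P (L.map Subtype.val).prod (n : G) := by
      rw [hprod]
      exact hLe
    have := BN.len_le hw he
    rw [List.length_map, hLlen] at this
    exact this

end Cfsg.Agent.Lib.H29.StCount
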