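import Mathlib
import Cfsg.Agent.Lib.H12.BNStE
import Cfsg.Agent.Lib.H29.StCountB
import Cfsg.Agent.Lib.H2.StCntMOB
import Cfsg.Agent.Lib.H2.StCntDCNT
import Cfsg.Agent.Lib.H16.StCntIND
import Cfsg.Agent.Lib.H22.StCntSYL
import Cfsg.Agent.Lib.H22.StCntIDX

/-!
# The number of elements of `p`-power order of a finite group with a split (B,N)-pair (Steinberg)

`pcount_top`: `#{x | x has p-power order} = |U| * St(1)`, by induction over the standard parabolic subgroups with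
the relative Steinberg characters.
-/

set_option autoImplicit false
set_option linter.unusedSectionVars false



namespace Cfsg.Agent.Lib.H29.StCount

open Cfsg.Agent.Lib.H2 Cfsg.Agent.Lib.H2.CoxExch Cfsg.Agent Cfsg.Agent.Lib.H12 Cfsg.Agent.Lib.H12.BNSt

/-- the number of elements of `p`-power order of a subgroup -/
noncomputable def pcount {G : Type*} [Group G] (p : ℕ) (H : Subgroup G) : ℕ :=
  Nat.card {x : G // x ∈ H ∧ ∃ k : ℕ, orderOf x = p ^ k}

theorem fixedPointCharacter_conj {G : Type*} [Group G] (H : Subgroup G) (g x : G) :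
    Cfsg.fixedPointCharacter H (g * x * g⁻¹) = Cfsg.fixedPointCharacter H x := by
  unfold Cfsg.fixedPointCharacter
  congr 1
  rw [← MulAction.smul_fixedBy]
  exact Nat.card_congr (Equiv.Set.image _ _ (MulAction.injective g)).symm

variable {G : Type*} [Group G] (P : Cfsg.BNPair G) {ι : Type*} [DecidableEq ι]
  {s : Finset ι} {e : ι → G}

theorem St_conj (g x : G) : St P s e (g * x * g⁻¹) = St P s e x := by
  unfold St
  apply Finset.sum_congr rfl
  intro J _
  rw [fixedPointCharacter_conj]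

theorem orderOf_conj' (g x : G) : orderOf (g * x * g⁻¹) = orderOf x := by
  have := orderOf_injective (MulAut.conj g).toMonoidHom (MulAut.conj g).injective x
  simpa [MulAut.conj_apply] using this

section main

variable [Finite G] (hS : e '' (s : Set ι) = P.S) (p : ℕ) [Fact p.Prime]
    (U V : Subgroup G) (hUB : U ≤ P.B) (hUn : ∀ b ∈ P.B, ∀ u ∈ U, b * u * b⁻¹ ∈ U)
    (hBTU : ∀ b ∈ P.B, ∃ u ∈ U, ∃ t ∈ P.B ⊓ P.N, b = u * t)
    (hUp : IsPGroup p U) (hidx : ¬ p ∣ U.index) (hVU : V ≤ U) [hVn : V.Normal]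
    (n₀ : G) (hn₀ : n₀ ∈ P.N) (hfull : CoxD.Full (S0320.sg P) (mkW P n₀ hn₀))
    (hQ : ∀ u ∈ U, n₀⁻¹ * u * n₀ ∈ P.B → u ∈ V)

include hUn in
theorem normal_UB : (U.subgroupOf P.B).Normal := by
  constructor
  intro u hu b
  rw [Subgroup.mem_subgroupOf] at hu ⊢
  simp only [Subgroup.coe_mul, Subgroup.coe_inv]
  exact hUn _ b.2 _ hu

omit [Finite G] in
theorem normal_VB : (V.subgroupOf P.B).Normal := by
  constructor
  intro v hv b
  rw [Subgroup.mem_subgroupOf] at hv ⊢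
  simp only [Subgroup.coe_mul, Subgroup.coe_inv]
  exact hVn.conj_mem _ hv _

include hUB hVU hQ in
omit [Finite G] in
theorem Bn_inf_UB : Bn P n₀ ⊓ U.subgroupOf P.B = V.subgroupOf P.B := by
  ext b
  rw [Subgroup.mem_inf, mem_Bn, Subgroup.mem_subgroupOf, Subgroup.mem_subgroupOf]
  constructor
  · rintro ⟨h1, h2⟩
    exact hQ _ h2 h1
  · intro h
    refine ⟨?_, hVU h⟩
    have := hVn.conj_mem _ h n₀⁻¹
    rw [inv_inv] at this
    exact hUB (hVU this)

include hBTU hn₀ in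
omit [Finite G] in
theorem Bn_sup_UB : Bn P n₀ ⊔ U.subgroupOf P.B = ⊤ := by
  rw [eq_top_iff]
  intro b _
  obtain ⟨u, hu, t, ht, e1⟩ := hBTU b b.2
  have hub : u ∈ P.B := by
    have : u = b * t⁻¹ := by rw [e1]; group
    rw [this]
    exact P.B.mul_mem b.2 (P.B.inv_mem ht.1)
  have e2 : b = (⟨u, hub⟩ : ↥P.B) * ⟨t, ht.1⟩ := Subtype.ext e1
  rw [e2]
  apply Subgroup.mul_mem
  · exact (le_sup_right : U.subgroupOf P.B ≤ _) (Subgroup.mem_subgroupOf.mpr hu)
  · apply (le_sup_left : Bn P n₀ ≤ _)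
    rw [mem_Bn]
    exact BN.T_conj' hn₀ ht.1 ht.2

include hS hUB hUn hUp hidx hVU hfull hQ in
open Classical in
/-- the value of the alternating sum on the elements of `p`-power order -/
theorem St_of_pelt (x : G) (hx : ∃ k : ℕ, orderOf x = p ^ k) :
    St P s e x = if x ∈ V then ((Bn P n₀).index : ℂ) else 0 := by
  haveI : Fintype G := Fintype.ofFinite G
  obtain ⟨g, hy⟩ := Cfsg.Agent.Lib.H22.StCnt.exists_conj_mem_of_orderOf_eq_pow p U hUp hidx x hx
  rw [← St_conj P g x, St_restrict P hS hn₀ hfull ⟨g * x * g⁻¹, hUB hy⟩]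
  have := normal_UB P U hUn
  have := normal_VB P V
  have h1 := Cfsg.Agent.Lib.H16.StCnt.fixedPointCharacter_of_normal (Bn P n₀) (U.subgroupOf P.B) (V.subgroupOf P.B)
    (Bn_inf_UB P U V hUB hVU n₀ hQ) ⟨g * x * g⁻¹, hUB hy⟩ (Subgroup.mem_subgroupOf.mpr hy)
  have h2 : (⟨g * x * g⁻¹, hUB hy⟩ : ↥P.B) ∈ V.subgroupOf P.B ↔ x ∈ V := by
    rw [Subgroup.mem_subgroupOf]
    constructor
    · intro h
      have := hVn.conj_mem _ h g⁻¹
      have e1 : g⁻¹ * (g * x * g⁻¹) * g⁻¹⁻¹ = x := by group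
      rwa [e1] at this
    · intro h
      exact hVn.conj_mem _ h g
  by_cases hxV : x ∈ V
  · rw [if_pos hxV]
    exact h1.1 (h2.mpr hxV)
  · rw [if_neg hxV]
    exact h1.2 (fun h => hxV (h2.mp h))

include hS hUB hUn hBTU hUp hidx hVU hfull hQ in
open Classical in
theorem sum_index_pcount :
    ∑ J ∈ s.powerset, (-1 : ℤ) ^ J.card * ((P.parabolic (e '' (J : Set ι))).index : ℤ) *
      (pcount p (P.parabolic (e '' (J : Set ι))) : ℤ) = (Nat.card U : ℤ) := by
  haveI : Fintype G := Fintype.ofFinite G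
  have hXc : ∀ g x : G, (∃ k : ℕ, orderOf x = p ^ k) → ∃ k : ℕ, orderOf (g * x * g⁻¹) = p ^ k := by
    intro g x hx
    rw [orderOf_conj']
    exact hx
  -- step 1: double counting
  have step1 : ∑ x : G with (∃ k : ℕ, orderOf x = p ^ k), St P s e x =
      ∑ J ∈ s.powerset, (-1 : ℂ) ^ J.card * ((P.parabolic (e '' (J : Set ι))).index : ℂ) *
        (pcount p (P.parabolic (e '' (J : Set ι))) : ℂ) := by
    unfold St
    rw [Finset.sum_comm]
    apply Finset.sum_congr rfl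
    intro J _
    rw [← Finset.mul_sum, Cfsg.Agent.Lib.H2.StCnt.sum_fixedPointCharacter _ _ hXc, mul_assoc]
    rfl
  -- step 2: evaluation
  have step2 : ∑ x : G with (∃ k : ℕ, orderOf x = p ^ k), St P s e x =
      (Nat.card V : ℂ) * ((Bn P n₀).index : ℂ) := by
    rw [Finset.sum_congr rfl (fun x hx => St_of_pelt P hS p U V hUB hUn hUp hidx hVU n₀ hn₀ hfull hQ x
      (Finset.mem_filter.mp hx).2), Finset.sum_ite, Finset.sum_const_zero, add_zero, Finset.sum_const,
      nsmul_eq_mul]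
    congr 2
    rw [Finset.filter_filter, Nat.card_eq_fintype_card, Fintype.card_subtype]
    congr 1
    ext x
    simp only [Finset.mem_filter, Finset.mem_univ, true_and]
    constructor
    · exact fun h => h.2
    · intro h
      refine ⟨?_, h⟩
      obtain ⟨k, hk⟩ := (IsPGroup.iff_orderOf.mp hUp) ⟨x, hVU h⟩
      exact ⟨k, by rw [← hk, Subgroup.orderOf_mk]⟩
  -- step 3: indices
  have := normal_UB P U hUn
  have step3 := Cfsg.Agent.Lib.H22.StCnt.index_mul_card_of_sup_eq_top (Bn P n₀) (U.subgroupOf P.B) (V.subgroupOf P.B)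
    (Bn_inf_UB P U V hUB hVU n₀ hQ) (Bn_sup_UB P U hBTU n₀ hn₀)
  rw [Nat.card_congr (Subgroup.subgroupOfEquivOfLe (le_trans hVU hUB)).toEquiv,
    Nat.card_congr (Subgroup.subgroupOfEquivOfLe hUB).toEquiv] at step3
  have h4 : (∑ J ∈ s.powerset, (-1 : ℤ) ^ J.card * ((P.parabolic (e '' (J : Set ι))).index : ℤ) *
      (pcount p (P.parabolic (e '' (J : Set ι))) : ℤ) : ℂ) = ((Nat.card U : ℤ) : ℂ) := by
    push_cast
    rw [← step1, step2, ← step3]
    push_cast
    ring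
  exact_mod_cast h4

end main

section relative

variable [Finite G] (hS : e '' (s : Set ι) = P.S) (p : ℕ) [Fact p.Prime]
    (U : Subgroup G) (hUB : U ≤ P.B) (hUn : ∀ b ∈ P.B, ∀ u ∈ U, b * u * b⁻¹ ∈ U)
    (hBTU : ∀ b ∈ P.B, ∃ u ∈ U, ∃ t ∈ P.B ⊓ P.N, b = u * t)
    (hUp : IsPGroup p U) (hidx : ¬ p ∣ U.index)

open Classical in
/-- the lifted labelling of the generators of `P_K` -/
noncomputable def eK (P : Cfsg.BNPair G) (e : ι → G) (K : Set G) (i : ι) : ↥(P.parabolic K) :=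
  if h : e i ∈ P.parabolic K then ⟨e i, h⟩ else 1

omit [DecidableEq ι] [Finite G] in
theorem eK_val {K : Set G} {i : ι} (h : e i ∈ K) : ((eK P e K i : ↥(P.parabolic K)) : G) = e i := by
  have h' : e i ∈ P.parabolic K :=
    (le_sup_right : Subgroup.closure K ≤ P.parabolic K) (Subgroup.subset_closure h)
  unfold eK
  rw [dif_pos h']

omit [DecidableEq ι] [Finite G] in
theorem image_eK {J K : Finset ι} (hJK : J ⊆ K) :
    eK P e (e '' (K : Set ι)) '' (J : Set ι) =
      {g : ↥(P.parabolic (e '' (K : Set ι))) | (g : G) ∈ e '' (J : Set ι)} := by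
  ext g
  constructor
  · rintro ⟨i, hi, rfl⟩
    have : e i ∈ e '' (K : Set ι) := ⟨i, hJK hi, rfl⟩
    change ((eK P e (e '' (K : Set ι)) i : ↥(P.parabolic (e '' (K : Set ι)))) : G) ∈ e '' (J : Set ι)
    rw [eK_val P this]
    exact ⟨i, hi, rfl⟩
  · rintro ⟨i, hi, hgi⟩
    have : e i ∈ e '' (K : Set ι) := ⟨i, hJK hi, rfl⟩
    refine ⟨i, hi, ?_⟩
    apply Subtype.ext
    rw [eK_val P this, hgi]

omit [DecidableEq ι] [Finite G] in
theorem pcount_subgroupOf {H L : Subgroup G} (hHL : H ≤ L) :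
    pcount p (H.subgroupOf L) = pcount p H := by
  unfold pcount
  apply Nat.card_congr
  refine ⟨fun x => ⟨(x.1 : G), Subgroup.mem_subgroupOf.mp x.2.1, ?_⟩,
    fun x => ⟨⟨x.1, hHL x.2.1⟩, Subgroup.mem_subgroupOf.mpr x.2.1, ?_⟩, ?_, ?_⟩
  · obtain ⟨k, hk⟩ := x.2.2
    exact ⟨k, by rw [← hk, Subgroup.orderOf_coe]⟩
  · obtain ⟨k, hk⟩ := x.2.2
    exact ⟨k, by rw [← hk, Subgroup.orderOf_mk]⟩
  · intro x; rfl
  · intro x; rfl

include hS hUB hUn hBTU hUp hidx in
/-- the relative identity for the standard parabolic subgroup `P_K` -/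
theorem sum_relIndex_pcount (K : Finset ι) (hK : K ⊆ s) (VK : Subgroup G) (hVU : VK ≤ U)
    (hVn : ∀ g ∈ P.parabolic (e '' (K : Set ι)), ∀ v ∈ VK, g * v * g⁻¹ ∈ VK)
    (hQ : ∀ n ∈ NK P (e '' (K : Set ι)), (∀ i ∈ K, BN.len P (e i * n) < BN.len P n) →
      ∀ u ∈ U, n⁻¹ * u * n ∈ P.B → u ∈ VK) :
    ∑ J ∈ K.powerset, (-1 : ℤ) ^ J.card *
      ((P.parabolic (e '' (J : Set ι))).relIndex (P.parabolic (e '' (K : Set ι))) : ℤ) *
      (pcount p (P.parabolic (e '' (J : Set ι))) : ℤ) = (Nat.card U : ℤ) := by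
  classical
  have hK' : e '' (K : Set ι) ⊆ P.S := by
    rw [← hS]
    exact Set.image_mono (by exact_mod_cast hK)
  set PK := P.parabolic (e '' (K : Set ι)) with hPK
  set P' := subBN P (e '' (K : Set ι)) hK' with hP'
  have hBK : P.B ≤ PK := le_sup_left
  have hUK : U ≤ PK := le_trans hUB hBK
  haveI : Fintype ↥PK := Fintype.ofFinite _
  have hS' : eK P e (e '' (K : Set ι)) '' (K : Set ι) = P'.S := image_eK P (le_refl K)
  haveI hVn' : (VK.subgroupOf PK).Normal := by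
    constructor
    intro v hv g
    rw [Subgroup.mem_subgroupOf] at hv ⊢
    simp only [Subgroup.coe_mul, Subgroup.coe_inv]
    exact hVn _ g.2 _ hv
  obtain ⟨w₀, hw1, hw2, -, -⟩ := exists_w0 P'
  have hfull : CoxD.Full (S0320.sg P') (mkW P' (lift P' w₀) (lift_mem P' w₀)) := by
    rw [mkW_lift]; exact hw1
  have hdesc : ∀ i ∈ K, BN.len P (e i * ((lift P' w₀ : ↥PK) : G)) < BN.len P ((lift P' w₀ : ↥PK) : G) := by
    intro i hi
    have hei : e i ∈ e '' (K : Set ι) := ⟨i, hi, rfl⟩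
    have htS : eK P e (e '' (K : Set ι)) i ∈ P'.S := by
      rw [← hS']; exact ⟨i, hi, rfl⟩
    have h1 := hw2 ⟨_, htS⟩
    rw [← mkW_lift P' w₀, sg_eq, ← mkW_mul P' _ _ (P'.subset htS) (lift_mem P' w₀), len_mkW, len_mkW,
      len_subBN P hK' _ (P'.N.mul_mem (P'.subset htS) (lift_mem P' w₀)),
      len_subBN P hK' _ (lift_mem P' w₀)] at h1
    rw [Subgroup.coe_mul, eK_val P hei] at h1
    exact h1
  have key := sum_index_pcount P' hS' p (U.subgroupOf PK) (VK.subgroupOf PK)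
    (by
      intro u hu
      exact hUB (Subgroup.mem_subgroupOf.mp hu))
    (by
      intro b hb u hu
      rw [Subgroup.mem_subgroupOf] at hu ⊢
      simp only [Subgroup.coe_mul, Subgroup.coe_inv]
      exact hUn _ hb _ hu)
    (by
      intro b hb
      obtain ⟨u, hu, t, ht, e1⟩ := hBTU (b : G) hb
      refine ⟨⟨u, hUK hu⟩, Subgroup.mem_subgroupOf.mpr hu, ⟨t, hBK ht.1⟩, ⟨ht.1, T_le_NK P _ ht⟩, ?_⟩
      exact Subtype.ext e1)
    hUp.comap_subtype
    (by
      intro h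
      exact hidx (h.trans (Subgroup.relIndex_dvd_index_of_le hUK)))
    (by
      intro v hv
      exact hVU (Subgroup.mem_subgroupOf.mp hv))
    (lift P' w₀) (lift_mem P' w₀) hfull
    (by
      intro u hu hb
      rw [Subgroup.mem_subgroupOf] at hu ⊢
      apply hQ _ (lift_mem P' w₀) hdesc _ hu
      have := (mem_subBN_B P hK' _).mp hb
      simpa using this)
  rw [Nat.card_congr (Subgroup.subgroupOfEquivOfLe hUK).toEquiv] at key
  rw [← key]
  apply Finset.sum_congr rfl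
  intro J hJ
  rw [Finset.mem_powerset] at hJ
  have hJK : e '' (J : Set ι) ⊆ e '' (K : Set ι) := Set.image_mono (by exact_mod_cast hJ)
  rw [image_eK P hJ, subBN_parabolic P hK' hJK, pcount_subgroupOf p (BN.parabolic_mono hJK)]
  rfl

include hS hUB hUn hBTU hUp hidx in
/-- **the number of elements of `p`-power order** of a finite group with a split (B,N)-pair whose parabolic
subgroups have normal unipotent radicals -/
theorem pcount_top (V : Finset ι → Subgroup G) (hVU : ∀ K, K ⊆ s → V K ≤ U)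
    (hVn : ∀ K, K ⊆ s → ∀ g ∈ P.parabolic (e '' (K : Set ι)), ∀ v ∈ V K, g * v * g⁻¹ ∈ V K)
    (hQ : ∀ K, K ⊆ s → ∀ n ∈ NK P (e '' (K : Set ι)), (∀ i ∈ K, BN.len P (e i * n) < BN.len P n) →
      ∀ u ∈ U, n⁻¹ * u * n ∈ P.B → u ∈ V K) :
    (Nat.card {x : G // ∃ k : ℕ, orderOf x = p ^ k} : ℂ) = (Nat.card U : ℂ) * St P s e 1 := by
  have key := Cfsg.Agent.Lib.H2.StCnt.mobius_solve s
    (fun K J => ((P.parabolic (e '' (J : Set ι))).relIndex (P.parabolic (e '' (K : Set ι))) : ℤ))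
    (fun J => (pcount p (P.parabolic (e '' (J : Set ι))) : ℤ))
    (fun K => ∑ J ∈ K.powerset, (-1 : ℤ) ^ J.card *
      ((P.parabolic (e '' (J : Set ι))).relIndex (P.parabolic (e '' (K : Set ι))) : ℤ))
    (Nat.card U : ℤ)
    (by
      intro K _
      simp only [Subgroup.relIndex_self, Nat.cast_one])
    (by
      intro K J J' _ hJ hJ'
      have h1 : e '' (J' : Set ι) ⊆ e '' (J : Set ι) := Set.image_mono (by exact_mod_cast hJ')
      have h2 : e '' (J : Set ι) ⊆ e '' (K : Set ι) := Set.image_mono (by exact_mod_cast hJ)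
      have := Subgroup.relIndex_mul_relIndex _ _ _ (BN.parabolic_mono (P := P) h1)
        (BN.parabolic_mono (P := P) h2)
      rw [mul_comm]
      exact_mod_cast this)
    (fun K _ => rfl)
    (fun K hK => sum_relIndex_pcount P hS p U hUB hUn hBTU hUp hidx K hK (V K) (hVU K hK) (hVn K hK)
      (hQ K hK))
    s (le_refl s)
  have htop : P.parabolic (e '' (s : Set ι)) = ⊤ := by rw [hS]; exact BN.parabolic_S
  have h1 : pcount p (P.parabolic (e '' (s : Set ι))) = Nat.card {x : G // ∃ k : ℕ, orderOf x = p ^ k} := by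
    unfold pcount
    rw [htop]
    apply Nat.card_congr
    exact ⟨fun x => ⟨x.1, x.2.2⟩, fun x => ⟨x.1, Subgroup.mem_top _, x.2⟩, fun _ => rfl, fun _ => rfl⟩
  have h2 : St P s e 1 = ((∑ J ∈ s.powerset, (-1 : ℤ) ^ J.card *
      ((P.parabolic (e '' (J : Set ι))).relIndex (P.parabolic (e '' (s : Set ι))) : ℤ) : ℤ) : ℂ) := by
    unfold St
    push_cast
    apply Finset.sum_congr rfl
    intro J _
    rw [htop, Subgroup.relIndex_top_right]
    congr 1
    unfold Cfsg.fixedPointCharacter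
    congr 1
    have : MulAction.fixedBy (G ⧸ P.parabolic (e '' (J : Set ι))) (1 : G) = Set.univ := by
      ext x
      simp
    rw [this]
    exact Nat.card_congr (Equiv.Set.univ _)
  rw [h2, ← h1]
  have : ((pcount p (P.parabolic (e '' (s : Set ι))) : ℤ) : ℂ) = ((Nat.card U : ℤ) : ℂ) *
      ((∑ J ∈ s.powerset, (-1 : ℤ) ^ J.card *
      ((P.parabolic (e '' (J : Set ι))).relIndex (P.parabolic (e '' (s : Set ι))) : ℤ) : ℤ) : ℂ) := by
    rw [key]
    push_cast
    rfl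
  exact_mod_cast this

include hS hUB hUn hBTU hUp hidx in
/-- the same with the degree evaluated: `#{x | x has p-power order} * |V_S| = |U|²` -/
theorem pcount_top_mul (V : Finset ι → Subgroup G) (hVU : ∀ K, K ⊆ s → V K ≤ U)
    (hVn : ∀ K, K ⊆ s → ∀ g ∈ P.parabolic (e '' (K : Set ι)), ∀ v ∈ V K, g * v * g⁻¹ ∈ V K)
    (hQ : ∀ K, K ⊆ s → ∀ n ∈ NK P (e '' (K : Set ι)), (∀ i ∈ K, BN.len P (e i * n) < BN.len P n) →
      ∀ u ∈ U, n⁻¹ * u * n ∈ P.B → u ∈ V K) :
    Nat.card {x : G // ∃ k : ℕ, orderOf x = p ^ k} * Nat.card (V s) = Nat.card U ^ 2 := by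
  classical
  haveI : Fintype G := Fintype.ofFinite G
  have h1 := pcount_top P hS p U hUB hUn hBTU hUp hidx V hVU hVn hQ
  obtain ⟨w₀, hw1, hw2, -, -⟩ := exists_w0 P
  have hfull : CoxD.Full (S0320.sg P) (mkW P (lift P w₀) (lift_mem P w₀)) := by
    rw [mkW_lift]; exact hw1
  have htop : P.parabolic (e '' (s : Set ι)) = ⊤ := by rw [hS]; exact BN.parabolic_S
  haveI hVn' : (V s).Normal := by
    constructor
    intro v hv g
    exact hVn s (le_refl s) g (by rw [htop]; exact Subgroup.mem_top g) v hv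
  have hN : lift P w₀ ∈ NK P (e '' (s : Set ι)) := by
    unfold NK
    rw [hS, P.closure_sup]
    exact lift_mem P w₀
  have hdesc : ∀ i ∈ s, BN.len P (e i * lift P w₀) < BN.len P (lift P w₀) := by
    intro i hi
    have hiS : e i ∈ P.S := by rw [← hS]; exact ⟨i, hi, rfl⟩
    have := hw2 ⟨e i, hiS⟩
    rw [← mkW_lift P w₀, sg_eq, ← mkW_mul P _ _ (P.subset hiS) (lift_mem P w₀), len_mkW, len_mkW] at this
    exact this
  have hQ' := hQ s (le_refl s) _ hN hdesc
  have h2 := St_restrict P hS (lift_mem P w₀) hfull (1 : ↥P.B)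
  have hone : Cfsg.fixedPointCharacter (Bn P (lift P w₀)) (1 : ↥P.B) = ((Bn P (lift P w₀)).index : ℂ) := by
    unfold Cfsg.fixedPointCharacter
    congr 1
    have : MulAction.fixedBy (↥P.B ⧸ Bn P (lift P w₀)) (1 : ↥P.B) = Set.univ := by
      ext x
      simp
    rw [this]
    exact Nat.card_congr (Equiv.Set.univ _)
  rw [OneMemClass.coe_one, hone] at h2
  have := normal_UB P U hUn
  have h3 := Cfsg.Agent.Lib.H22.StCnt.index_mul_card_of_sup_eq_top (Bn P (lift P w₀)) (U.subgroupOf P.B)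
    ((V s).subgroupOf P.B) (Bn_inf_UB P U (V s) hUB (hVU s (le_refl s)) _ hQ')
    (Bn_sup_UB P U hBTU _ (lift_mem P w₀))
  rw [Nat.card_congr (Subgroup.subgroupOfEquivOfLe (le_trans (hVU s (le_refl s)) hUB)).toEquiv,
    Nat.card_congr (Subgroup.subgroupOfEquivOfLe hUB).toEquiv] at h3
  rw [h2] at h1
  have h4 : ((Nat.card {x : G // ∃ k : ℕ, orderOf x = p ^ k} * Nat.card (V s) : ℕ) : ℂ) =
      ((Nat.card U ^ 2 : ℕ) : ℂ) := by
    push_cast
    rw [h1, ← h3]
    push_cast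
    ring
  exact_mod_cast h4

include hS hUB hUn hBTU hUp hidx in
/-- **Steinberg**: the number of elements of `p`-power order is `|U|²` -/
theorem pcount_top_sq (V : Finset ι → Subgroup G) (hVU : ∀ K, K ⊆ s → V K ≤ U)
    (hVn : ∀ K, K ⊆ s → ∀ g ∈ P.parabolic (e '' (K : Set ι)), ∀ v ∈ V K, g * v * g⁻¹ ∈ V K)
    (hQ : ∀ K, K ⊆ s → ∀ n ∈ NK P (e '' (K : Set ι)), (∀ i ∈ K, BN.len P (e i * n) < BN.len P n) →
      ∀ u ∈ U, n⁻¹ * u * n ∈ P.B → u ∈ V K) (hV1 : V s = ⊥) :
    Nat.card {x : G // ∃ k : ℕ, orderOf x = p ^ k} = Nat.card U ^ 2 := by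
  have := pcount_top_mul P hS p U hUB hUn hBTU hUp hidx V hVU hVn hQ
  rw [hV1, Subgroup.card_bot, mul_one] at this
  exact this

end relative

end Cfsg.Agent.Lib.H29.StCount
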