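import Mathlib
import Cfsg.Prelude.Def_ChevStructure
import Cfsg.Agent.Lib.H29.ChevGen50
import Cfsg.Agent.Lib.H29.ChevGen28

set_option autoImplicit false
set_option linter.unusedSectionVars false
set_option linter.unusedSimpArgs false
set_option linter.unusedVariables false

namespace Cfsg.Agent.Lib.H29.Chev

open Cfsg.Lie Matrix

variable {D : ChevalleyDatum} {fd : FD} {fx : FX} {fc : FC} {fz : FZ} {F : Type*} [Field F]

/-- the subgroup generated by the positive root subgroups of `Φ_K` -/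
def posLevi (D : ChevalleyDatum) (F : Type*) [Field F] (K : Set ℕ) : Subgroup (GL D.Idx F) :=
  Subgroup.closure {g | ∃ (r : ℕ) (t : F), D.IsPosRoot r ∧ D.InRootSub K r ∧
    (g : Matrix D.Idx D.Idx F) = D.x F r t}

theorem posLevi_le_pos (K : Set ℕ) : posLevi D F K ≤ D.posUnipotent F := by
  unfold posLevi ChevalleyDatum.posUnipotent
  apply Subgroup.closure_mono
  rintro g ⟨r, t, h1, _, h3⟩
  exact ⟨r, t, h1, h3⟩

namespace Cert12

variable (C : Cert12 D fd fx fc fz)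
include C

/-- a linear permutation of the roots making the fundamental roots `p_i`, `i ∈ K`, negative makes every positive
root of `Φ_K` negative -/
theorem neg_of_simple_neg (K : Set ℕ) (π : ℕ → ℕ) (hl : fd.LinP fx π) (hlt : ∀ s < fd.n, π s < fd.n)
    (hK : ∀ i ∈ K, i < fd.l → π (fd.simples.getD i 0) < fd.n / 2)
    (r : ℕ) (hr : r < fd.n) (hpos : fd.n / 2 ≤ r) (hJ : D.InRootSub K r) : π r < fd.n / 2 := by
  apply C.neg_of_nonpos (π r) (hlt r hr)
  intro j hj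
  obtain ⟨M, hM⟩ := hl
  rw [hM r hr j hj]
  apply Finset.sum_nonpos
  intro k hk
  rw [Finset.mem_range] at hk
  have hp := C.c6.c2.simple_lt k hk
  have hMk : M j k = fd.rcZ fx (π (fd.simples.getD k 0)) j := by
    rw [hM _ hp j hj, Finset.sum_eq_single k]
    · rw [C.rcZ_simple k k hk hk, if_pos rfl, mul_one]
    · intro k' hk' hne
      rw [C.rcZ_simple k k' hk (Finset.mem_range.mp hk'), if_neg (Ne.symm hne), mul_zero]
    · intro h; exact absurd (Finset.mem_range.mpr hk) h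
  by_cases hkK : k ∈ K
  · apply mul_nonpos_of_nonpos_of_nonneg
    · rw [hMk]
      exact C.rcZ_nonpos _ (hlt _ hp) (hK k hkK hk) j hj
    · exact C.rcZ_nonneg r hr hpos k hk
  · have h0 : fd.rcZ fx r k = 0 := by
      rw [C.rcZ_eq_zero_iff r k hr hk]
      exact ((C.c6.c5.c3.inRootSub_iff K r).mp hJ).2 k hk hkK
    rw [h0, mul_zero]

open Cfsg.Agent.Lib.H2.BN in
/-- a right descent of `n₁` makes the fundamental root negative -/
theorem neg_of_desc (i : ℕ) (hi : i < fd.l) (n₁ s : ↥(D.group F)) (hn₁ : n₁ ∈ (C.c6.bnPair F).N)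
    (hs : (s : GL D.Idx F) = C.c6.c2.nG (fd.simples.getD i 0) (C.c6.c2.simple_lt i hi))
    (hlen : len (C.c6.bnPair F) (n₁ * s) < len (C.c6.bnPair F) n₁) (π : ℕ → ℕ)
    (hπ : C.c6.c2.Perm (n₁ : GL D.Idx F) π) : π (fd.simples.getD i 0) < fd.n / 2 := by
  have hp := C.c6.c2.simple_lt i hi
  have hsS : s ∈ (C.c6.bnPair F).S := by
    show (s : GL D.Idx F) ∈ SSet D F
    rw [hs]; exact C.c6.nG_mem_SSet i hi
  have hsN : s ∈ (C.c6.bnPair F).N := (C.c6.bnPair F).subset hsS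
  have hn' : n₁ * s ∈ (C.c6.bnPair F).N := (C.c6.bnPair F).N.mul_mem hn₁ hsN
  have h1 : len (C.c6.bnPair F) n₁ ≤ len (C.c6.bnPair F) (n₁ * s) + 1 := len_le_mul_S hsS hn₁
  have h2 : Eqv (C.c6.bnPair F) (n₁ * s * s) n₁ := by
    unfold Eqv
    have : (n₁ * s * s)⁻¹ * n₁ = (s * s)⁻¹ := by group
    rw [this]
    exact (C.c6.bnPair F).B.inv_mem (S_sq hsS)
  have h3 : len (C.c6.bnPair F) (n₁ * s * s) = len (C.c6.bnPair F) (n₁ * s) + 1 := by
    rw [len_congr h2]; omega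
  have hπ' : C.c6.c2.Perm ((n₁ * s : ↥(D.group F)) : GL D.Idx F)
      (π ∘ fd.nw fx (fd.simples.getD i 0)) := by
    rw [Subgroup.coe_mul, hs]
    exact C.c6.perm_mul hπ (C.c6.perm_nG i hi).1
  have h4 := C.c6.pos_of_len i hi (n₁ * s) s hn' hs h3 _ hπ'
  simp only [Function.comp] at h4
  rw [(fd.neg_spec C.c6.c2.neg _ hp).1, (hπ _ hp).2.1] at h4
  have h5 := (hπ _ hp).1
  have hev := C.c6.c2.heven
  omega

open Cfsg.Agent.Lib.H2.BN in
/-- a left descent of `n` makes the fundamental root negative under `n⁻¹` -/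
theorem neg_of_desc_left (i : ℕ) (hi : i < fd.l) (n s : ↥(D.group F)) (hn : n ∈ (C.c6.bnPair F).N)
    (hs : (s : GL D.Idx F) = C.c6.c2.nG (fd.simples.getD i 0) (C.c6.c2.simple_lt i hi))
    (hlen : len (C.c6.bnPair F) (s * n) < len (C.c6.bnPair F) n) (π : ℕ → ℕ)
    (hπ : C.c6.c2.Perm (n : GL D.Idx F)⁻¹ π) : π (fd.simples.getD i 0) < fd.n / 2 := by
  have hsS : s ∈ (C.c6.bnPair F).S := by
    show (s : GL D.Idx F) ∈ SSet D F
    rw [hs]; exact C.c6.nG_mem_SSet i hi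
  have hsN : s ∈ (C.c6.bnPair F).N := (C.c6.bnPair F).subset hsS
  have hn' : n⁻¹ ∈ (C.c6.bnPair F).N := (C.c6.bnPair F).N.inv_mem hn
  have h1 : len (C.c6.bnPair F) (n⁻¹ * s) = len (C.c6.bnPair F) (s * n) := by
    have e1 : Eqv (C.c6.bnPair F) (n⁻¹ * s⁻¹) (n⁻¹ * s) := (S_inv_eqv hsS).mul_left n⁻¹
    have e2 : n⁻¹ * s⁻¹ = (s * n)⁻¹ := by group
    rw [← len_congr e1, e2, len_inv ((C.c6.bnPair F).N.mul_mem hsN hn)]
  apply C.neg_of_desc i hi n⁻¹ s hn' hs _ π (by rw [Subgroup.coe_inv]; exact hπ)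
  rw [h1, len_inv hn]
  exact hlen

theorem posLevi_le_normalizer (K : Set ℕ) :
    posLevi D F K ≤ Subgroup.normalizer (D.unipotentRadical F K : Set (GL D.Idx F)) :=
  le_trans (posLevi_le_pos K) (le_trans (le_sup_left : D.posUnipotent F ≤ D.borelSubgroup F)
    (le_trans (le_sup_left : D.borelSubgroup F ≤ D.parabolicSubgroup F K) (C.parabolic_le_normalizer K)))

/-- `U = U_K⁺ U_K` -/
theorem pos_eq_mul (K : Set ℕ) (u : GL D.Idx F) (hu : u ∈ D.posUnipotent F) :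
    ∃ l ∈ posLevi D F K, ∃ v ∈ D.unipotentRadical F K, u = l * v := by
  unfold ChevalleyDatum.posUnipotent at hu
  induction hu using Subgroup.closure_induction_left with
  | one => exact ⟨1, one_mem _, 1, one_mem _, by simp⟩
  | mul_left x hx y _ ih =>
    obtain ⟨l, hl, v, hv, rfl⟩ := ih
    obtain ⟨r, t, hr, hg⟩ := hx
    by_cases hK : D.InRootSub K r
    · exact ⟨x * l, mul_mem (Subgroup.subset_closure ⟨r, t, hr, hK, hg⟩) hl, v, hv, by group⟩
    · have hxU : x ∈ D.unipotentRadical F K := Subgroup.subset_closure ⟨r, t, hr, hK, hg⟩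
      have hln := C.posLevi_le_normalizer K (inv_mem hl)
      have h1 := (Subgroup.mem_normalizer_iff.mp hln x).mp hxU
      rw [inv_inv] at h1
      exact ⟨l, hl, l⁻¹ * x * l * v, mul_mem h1 hv, by group⟩
  | inv_mul_cancel x hx y _ ih =>
    obtain ⟨l, hl, v, hv, rfl⟩ := ih
    obtain ⟨r, t, hr, hg⟩ := hx
    by_cases hK : D.InRootSub K r
    · exact ⟨x⁻¹ * l, mul_mem (inv_mem (Subgroup.subset_closure ⟨r, t, hr, hK, hg⟩)) hl, v, hv,
        by group⟩
    · have hxU : x⁻¹ ∈ D.unipotentRadical F K :=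
        inv_mem (Subgroup.subset_closure ⟨r, t, hr, hK, hg⟩)
      have hln := C.posLevi_le_normalizer K (inv_mem hl)
      have h1 := (Subgroup.mem_normalizer_iff.mp hln x⁻¹).mp hxU
      rw [inv_inv] at h1
      exact ⟨l, hl, l⁻¹ * x⁻¹ * l * v, mul_mem h1 hv, by group⟩

/-- an element of `N` making the positive roots of `Φ_K` negative conjugates `U_K⁺` into `V` -/
theorem conj_posLevi_mem_neg (K : Set ℕ) (m : GL D.Idx F) (π : ℕ → ℕ) (hπ : C.c6.c2.Perm m π)
    (hneg : ∀ r < fd.n, fd.n / 2 ≤ r → D.InRootSub K r → π r < fd.n / 2)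
    (l : GL D.Idx F) (hl : l ∈ posLevi D F K) : m * l * m⁻¹ ∈ D.negUnipotent F := by
  unfold posLevi at hl
  induction hl using Subgroup.closure_induction with
  | mem x hx =>
    obtain ⟨s, t, hs, hK, hg⟩ := hx
    obtain ⟨hs1, hs2⟩ := (C.c6.isPos_iff s).mp hs
    have hgx : x = C.c6.c2.xA s t := gl_ext (by rw [hg, C.c6.c2.xA_val])
    obtain ⟨h1, _, c, h3⟩ := hπ s hs1
    rw [hgx, h3]
    exact C.c6.xA_neg_mem_neg _ h1 (hneg s hs1 hs2 hK) _
  | one => simp
  | mul x y _ _ hx hy =>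
    have : m * (x * y) * m⁻¹ = (m * x * m⁻¹) * (m * y * m⁻¹) := by group
    rw [this]; exact mul_mem hx hy
  | inv x _ hx =>
    have : m * x⁻¹ * m⁻¹ = (m * x * m⁻¹)⁻¹ := by group
    rw [this]; exact inv_mem hx

/-- `U ∩ m⁻¹ B m ≤ U_K` for such an element `m` of `P_K` -/
theorem mem_radical_of_conj (K : Set ℕ) (m : GL D.Idx F) (hmP : m ∈ D.parabolicSubgroup F K) (π : ℕ → ℕ)
    (hπ : C.c6.c2.Perm m π)
    (hneg : ∀ r < fd.n, fd.n / 2 ≤ r → D.InRootSub K r → π r < fd.n / 2)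
    (u : GL D.Idx F) (hu : u ∈ D.posUnipotent F) (hb : m * u * m⁻¹ ∈ D.borelSubgroup F) :
    u ∈ D.unipotentRadical F K := by
  obtain ⟨l, hl, v, hv, rfl⟩ := C.pos_eq_mul K u hu
  have h1 := C.conj_posLevi_mem_neg K m π hπ hneg l hl
  have h2 : m * v * m⁻¹ ∈ D.unipotentRadical F K :=
    (Subgroup.mem_normalizer_iff.mp (C.parabolic_le_normalizer K hmP) v).mp hv
  have h3 : m * l * m⁻¹ ∈ D.borelSubgroup F := by
    have e : m * l * m⁻¹ = (m * (l * v) * m⁻¹) * (m * v * m⁻¹)⁻¹ := by group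
    rw [e]
    exact mul_mem hb (inv_mem ((le_sup_left : D.posUnipotent F ≤ D.borelSubgroup F)
      (C.radical_le_pos K h2)))
  have h4 : m * l * m⁻¹ ∈ D.borelSubgroup F ⊓ D.negUnipotent F := Subgroup.mem_inf.mpr ⟨h3, h1⟩
  rw [C.c6.c2.borel_inf_neg, Subgroup.mem_bot] at h4
  have h5 : l = 1 := by
    have e : l = m⁻¹ * (m * l * m⁻¹) * m := by group
    rw [e, h4]; group
  rw [h5, one_mul]
  exact hv

end Cert12

end Cfsg.Agent.Lib.H29.Chev
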