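import Mathlib
import Cfsg.Agent.Lib.H29.StCountC
import Cfsg.Agent.Lib.H29.StCountE
import Cfsg.Agent.Lib.H12.ChevStC

/-!
# Steinberg's count of the unipotent elements of a Chevalley group
-/

set_option autoImplicit false
set_option linter.unusedSectionVars false
set_option linter.unusedSimpArgs false
set_option linter.unusedVariables false

namespace Cfsg.Agent.Lib.H29.Chev

open Cfsg.Lie Matrix Cfsg.Agent.Lib.H12.ChevSt Cfsg.Agent.Lib.H29.StCount Cfsg.Agent.Lib.H2

variable {D : ChevalleyDatum} {fd : FD} {fx : FX} {fc : FC} {fz : FZ} {F : Type*} [Field F]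

namespace Cert12

variable (C : Cert12 D fd fx fc fz)
include C

theorem eS_coe (i : ℕ) (hi : i < fd.l) :
    ((eS D F i : ↥(D.group F)) : GL D.Idx F) =
      C.c6.c2.nG (fd.simples.getD i 0) (C.c6.c2.simple_lt i hi) := by
  have h : ((C.c6.c2.nG (F := F) (fd.simples.getD i 0) (C.c6.c2.simple_lt i hi) : GL D.Idx F) :
      Matrix D.Idx D.Idx F) = D.nMat F (D.simple i) 1 := by
    rw [C.c6.c2.nG_val', C.c6.c2.agrees.simple_eq]
  have := eq_eS (⟨C.c6.c2.nG (fd.simples.getD i 0) (C.c6.c2.simple_lt i hi),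
    C.c6.c2.monomial_le_group (C.c6.c2.nG_mem_monomial _ _)⟩ : ↥(D.group F)) h
  rw [this]

theorem radical_full : D.unipotentRadical F ((Finset.range D.rank : Finset ℕ) : Set ℕ) = ⊥ := by
  unfold ChevalleyDatum.unipotentRadical
  rw [Subgroup.closure_eq_bot_iff]
  rintro g ⟨r, t, hr, hK, _⟩
  exfalso
  apply hK
  refine ⟨hr.1, fun i hi hiJ => absurd ?_ hiJ⟩
  rw [Finset.coe_range, Set.mem_Iio]
  exact hi

/-- `U ∩ n B n⁻¹ ≤ U_K` for an element `n` of `N_K` all of whose left descents contain `K` -/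
theorem mem_radical_of_desc (K : Finset ℕ) (hK : K ⊆ Finset.range D.rank) (n : ↥(D.group F))
    (hn : n ∈ NK (C.c6.bnPair F) (eS D F '' (K : Set ℕ)))
    (hdesc : ∀ i ∈ K, BN.len (C.c6.bnPair F) (eS D F i * n) < BN.len (C.c6.bnPair F) n)
    (u : ↥(D.group F)) (hu : u ∈ (D.posUnipotent F).subgroupOf (D.group F))
    (hb : n⁻¹ * u * n ∈ (C.c6.bnPair F).B) :
    u ∈ (D.unipotentRadical F (K : Set ℕ)).subgroupOf (D.group F) := by
  have hKS : eS D F '' (K : Set ℕ) ⊆ (C.c6.bnPair F).S := by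
    rw [← image_eS C.c6]
    exact Set.image_mono (by exact_mod_cast hK)
  have hnN : n ∈ (C.c6.bnPair F).N := NK_le_N _ hKS hn
  have hnM : (n : GL D.Idx F) ∈ D.monomialSubgroup F := Subgroup.mem_subgroupOf.mp hnN
  have hnP : (n : GL D.Idx F) ∈ D.parabolicSubgroup F (K : Set ℕ) := by
    have h1 := NK_le_parabolic (C.c6.bnPair F) _ hn
    rw [← parabolicIn_eq C.c6 hK] at h1
    exact Subgroup.mem_subgroupOf.mp h1
  obtain ⟨-, π, hπ, hl⟩ := C.perm_lin (n : GL D.Idx F) hnM
  have hneg : ∀ r < fd.n, fd.n / 2 ≤ r → D.InRootSub (K : Set ℕ) r → π r < fd.n / 2 := by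
    intro r hr hpos hJ
    apply C.neg_of_simple_neg (K : Set ℕ) π hl (fun s hs => (hπ s hs).1) _ r hr hpos hJ
    intro i hiK hi
    exact C.neg_of_desc_left i hi n (eS D F i) hnN (C.eS_coe i hi) (hdesc i hiK) π hπ
  rw [Subgroup.mem_subgroupOf] at hu ⊢
  apply C.mem_radical_of_conj (K : Set ℕ) (n : GL D.Idx F)⁻¹ (inv_mem hnP) π hπ hneg _ hu
  rw [inv_inv]
  have := Subgroup.mem_subgroupOf.mp hb
  simpa using this

/-- **Steinberg**: the number of elements of `p`-power order of a Chevalley group is `q^(2N)` -/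
theorem card_pelt [Fintype F] (p : ℕ) [Fact p.Prime] [CharP F p] :
    Nat.card {g : ↥(D.group F) // ∃ k : ℕ, orderOf g = p ^ k} = Fintype.card F ^ (2 * (D.nroots / 2)) := by
  have hpg : IsPGroup p ((D.posUnipotent F).subgroupOf (D.group F)) := by
    obtain ⟨f, _, hf⟩ := exists_card_F C (F := F) p
    apply IsPGroup.of_card (n := f * (D.nroots / 2))
    rw [card_posIn C, hf, pow_mul]
  have key := pcount_top_sq (C.c6.bnPair F) (image_eS C.c6) p
    ((D.posUnipotent F).subgroupOf (D.group F))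
    (by
      intro u hu
      exact Subgroup.mem_subgroupOf.mpr
        ((le_sup_left : D.posUnipotent F ≤ D.borelSubgroup F) (Subgroup.mem_subgroupOf.mp hu)))
    (by
      intro b hb u hu
      rw [Subgroup.mem_subgroupOf] at hu ⊢
      have hb' : (b : GL D.Idx F) ∈ D.borelSubgroup F := Subgroup.mem_subgroupOf.mp hb
      have hN : D.borelSubgroup F ≤ Subgroup.normalizer (D.posUnipotent F : Set (GL D.Idx F)) :=
        sup_le Subgroup.le_normalizer C.c6.c2.diag_le_normalizer_pos
      have := (Subgroup.mem_normalizer_iff.mp (hN hb') _).mp hu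
      simpa using this)
    (by
      intro b hb
      have hb' : (b : GL D.Idx F) ∈ D.borelSubgroup F := Subgroup.mem_subgroupOf.mp hb
      obtain ⟨u, hu, h, hh, e1⟩ := C.c6.c2.borel_mem _ hb'
      have hhB : h ∈ D.borelSubgroup F := C.c6.diag_le_borel hh
      have hhN : h ∈ D.monomialSubgroup F := by
        have : h ∈ D.borelSubgroup F ⊓ D.monomialSubgroup F := by
          rw [C.c6.c2.borel_inf_monomial]; exact hh
        exact this.2
      refine ⟨⟨u, C.c6.c2.borel_le_group ((le_sup_left : D.posUnipotent F ≤ D.borelSubgroup F) hu)⟩,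
        Subgroup.mem_subgroupOf.mpr hu, ⟨h, C.c6.c2.borel_le_group hhB⟩,
        ⟨Subgroup.mem_subgroupOf.mpr hhB, Subgroup.mem_subgroupOf.mpr hhN⟩, ?_⟩
      apply Subtype.ext
      rw [Subgroup.coe_mul]
      exact e1.symm)
    hpg
    (not_dvd_index C p)
    (fun K => (D.unipotentRadical F (K : Set ℕ)).subgroupOf (D.group F))
    (by
      intro K _ v hv
      exact Subgroup.mem_subgroupOf.mpr (C.radical_le_pos _ (Subgroup.mem_subgroupOf.mp hv)))
    (by
      intro K hK g hg v hv
      rw [← parabolicIn_eq C.c6 hK] at hg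
      have hg' : (g : GL D.Idx F) ∈ D.parabolicSubgroup F (K : Set ℕ) := Subgroup.mem_subgroupOf.mp hg
      rw [Subgroup.mem_subgroupOf] at hv ⊢
      have := (Subgroup.mem_normalizer_iff.mp (C.parabolic_le_normalizer _ hg') _).mp hv
      simpa using this)
    (by
      intro K hK n hn hdesc u hu hb
      exact C.mem_radical_of_desc K hK n hn hdesc u hu hb)
    (by
      rw [C.radical_full]
      exact Subgroup.bot_subgroupOf _)
  rw [key, card_posIn C, Nat.card_eq_fintype_card, ← pow_mul, mul_comm]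

end Cert12

end Cfsg.Agent.Lib.H29.Chev
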