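import Cfsg.Agent.S5911

/-!
# Index-6 subgroups of `S₆`

* `exists_coset_iso`: coset action isomorphism for index-`n` subgroups of `S_n`, `n ≥ 5`.
* `pointStab_or_exotic`, `conj_of_not_pointStab`: index-6 subgroups of `S₆` are point stabilizers or
  pairwise conjugate "exotic" subgroups.
* `exists_transitive_index_six`: a transitive subgroup of index 6, isomorphic to `S₅`.
-/

set_option autoImplicit false

namespace Cfsg.Agent.Lib.H29

open Equiv Cfsg.Agent.S5911

universe u

/-- The coset action of `Perm Ω` on an index-`n` subgroup (`n = |Ω| ≥ 5`), packaged. -/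
theorem exists_coset_iso {Ω : Type u} [Fintype Ω] [DecidableEq Ω] (h5 : 5 ≤ Fintype.card Ω)
    (H : Subgroup (Perm Ω)) (hH : H.index = Fintype.card Ω) :
    ∃ (X : Type u) (_ : Fintype X) (_ : DecidableEq X) (f : Perm Ω ≃* Perm X) (pt : X),
      Fintype.card X = Fintype.card Ω ∧ (∀ g, g ∈ H ↔ f g pt = pt) ∧ (∀ c : X, ∃ g, f g pt = c) := by
  classical
  have hnt : Nontrivial Ω := Fintype.one_lt_card_iff_nontrivial.mp (by omega)
  have hcore : H.normalCore = ⊥ := by
    by_contra hne
    have hnt' : Nontrivial H.normalCore := (Subgroup.nontrivial_iff_ne_bot _).mpr hne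
    have hA := Equiv.Perm.alternatingGroup_le_of_normal (by rwa [Nat.card_eq_fintype_card]) hnt'
    have hle : alternatingGroup Ω ≤ H := hA.trans H.normalCore_le
    have hdvd := Subgroup.index_dvd_of_le hle
    rw [alternatingGroup.index_eq_two, hH] at hdvd
    have := Nat.le_of_dvd two_pos hdvd
    omega
  let X := Perm Ω ⧸ H
  have hXf : Fintype X := Fintype.ofFinite X
  have hX : Fintype.card X = Fintype.card Ω := by
    rw [← Nat.card_eq_fintype_card]; exact hH
  let f₀ : Perm Ω →* Perm X := MulAction.toPermHom (Perm Ω) X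
  have hinj : Function.Injective f₀ := by
    rw [← MonoidHom.ker_eq_bot_iff, ← Subgroup.normalCore_eq_ker, hcore]
  have hbij : Function.Bijective f₀ := by
    rw [Fintype.bijective_iff_injective_and_card]
    exact ⟨hinj, by rw [Fintype.card_perm, Fintype.card_perm, hX]⟩
  let f : Perm Ω ≃* Perm X := MulEquiv.ofBijective f₀ hbij
  let pt : X := ((1 : Perm Ω) : X)
  refine ⟨X, hXf, inferInstance, f, pt, hX, ?_, ?_⟩
  · intro g
    change g ∈ H ↔ g • ((1 : Perm Ω) : X) = ((1 : Perm Ω) : X)
    rw [MulAction.Quotient.smul_mk, eq_comm, QuotientGroup.eq]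
    simp
  · intro c
    induction c using QuotientGroup.induction_on with
    | H g =>
      refine ⟨g, ?_⟩
      change g • ((1 : Perm Ω) : X) = (g : X)
      rw [MulAction.Quotient.smul_mk]
      simp

theorem card_centralizer_replicate {α : Type*} [Fintype α] [DecidableEq α] (g : Perm α) (j : ℕ)
    (hj : 1 ≤ j) (hg : g.cycleType = Multiset.replicate j 2) :
    Nat.card (Subgroup.centralizer {g}) =
      (Fintype.card α - j * 2).factorial * 2 ^ j * j.factorial := by
  rw [Perm.nat_card_centralizer, hg]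
  have h2 : (Multiset.replicate j 2).toFinset = {2} := by
    ext x
    rw [Multiset.mem_toFinset, Multiset.mem_replicate, Finset.mem_singleton]
    constructor
    · rintro ⟨-, h⟩; exact h
    · intro h; exact ⟨by omega, h⟩
  rw [h2]
  simp

/-- In `S₆`, an isomorphism maps involutions of type `2¹` or `2³` to involutions of type `2¹` or `2³`. -/
theorem cycleType_image_involution {α β : Type*} [Fintype α] [DecidableEq α] [Fintype β]
    [DecidableEq β] (hα : Fintype.card α = 6) (hβ : Fintype.card β = 6)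
    (e : Perm α ≃* Perm β) (g : Perm α)
    (hg : g.cycleType = {2} ∨ g.cycleType = Multiset.replicate 3 2) :
    (e g).cycleType = {2} ∨ (e g).cycleType = Multiset.replicate 3 2 := by
  have hcg : Nat.card (Subgroup.centralizer {g}) = 48 := by
    rcases hg with h | h
    · rw [card_centralizer_replicate g 1 le_rfl (by rw [h]; rfl), hα]; rfl
    · rw [card_centralizer_replicate g 3 (by norm_num) h, hα]; rfl
  have hog : orderOf g = 2 := by
    rw [← Perm.lcm_cycleType]
    rcases hg with h | h <;> rw [h] <;> rfl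
  have ho : orderOf (e g) = 2 := by rw [MulEquiv.orderOf_eq, hog]
  obtain ⟨k, hk⟩ := Perm.cycleType_prime_order (σ := e g) (by rw [ho]; exact Nat.prime_two)
  rw [ho] at hk
  have hc := card_centralizer_mulEquiv e g
  rw [hcg, card_centralizer_replicate (e g) (k + 1) (by omega) hk, hβ] at hc
  have hle := Perm.sum_cycleType_le (e g)
  rw [hk, hβ, Multiset.sum_replicate, smul_eq_mul] at hle
  have hk3 : k ≤ 2 := by omega
  interval_cases k
  · left; rw [hk]; rfl
  · exfalso; revert hc; decide
  · right; exact hk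

section
variable {α β : Type*} [Fintype α] [DecidableEq α] [Fintype β] [DecidableEq β]

/-- An isomorphism `Perm α ≃* Perm β` is exotic if it maps transpositions to products of three
disjoint transpositions. -/
def IsExotic (e : Perm α ≃* Perm β) : Prop :=
  ∀ s : Perm α, s.IsSwap → (e s).cycleType = Multiset.replicate 3 2

theorem replicate_three_ne : (Multiset.replicate 3 2 : Multiset ℕ) ≠ {2} := by decide

theorem swap_or_exotic (hα : Fintype.card α = 6) (hβ : Fintype.card β = 6)
    (e : Perm α ≃* Perm β) : (∀ s : Perm α, s.IsSwap → (e s).IsSwap) ∨ IsExotic e := by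
  by_cases h : ∃ s₀ : Perm α, s₀.IsSwap ∧ (e s₀).IsSwap
  · left
    obtain ⟨s₀, hs₀, hes₀⟩ := h
    intro s hs
    obtain ⟨a, b, hab, rfl⟩ := hs
    obtain ⟨c, d, hcd, rfl⟩ := hs₀
    have hc : IsConj (swap a b) (swap c d) := Perm.isConj_swap hab hcd
    have hc' : IsConj (e (swap a b)) (e (swap c d)) := (e : Perm α →* Perm β).map_isConj hc
    rw [Perm.isConj_iff_cycleType_eq] at hc'
    rw [Perm.isSwap_iff_cycleType, hc', ← Perm.isSwap_iff_cycleType]
    exact hes₀
  · right
    push Not at h
    intro s hs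
    rcases cycleType_image_involution hα hβ e s (Or.inl (Perm.isSwap_iff_cycleType.mp hs)) with h1 | h1
    · exact absurd (Perm.isSwap_iff_cycleType.mpr h1) (h s hs)
    · exact h1

theorem exotic_maps_t3_to_swap (hα : Fintype.card α = 6) (hβ : Fintype.card β = 6)
    (e : Perm α ≃* Perm β) (he : IsExotic e) (t : Perm α)
    (ht : t.cycleType = Multiset.replicate 3 2) : (e t).IsSwap := by
  rcases cycleType_image_involution hα hβ e t (Or.inr ht) with h1 | h1
  · exact Perm.isSwap_iff_cycleType.mpr h1
  · exfalso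
    have hnt : Nontrivial α := Fintype.one_lt_card_iff_nontrivial.mp (by omega)
    obtain ⟨a, b, hab⟩ := exists_pair_ne α
    have hs : (swap a b).IsSwap := ⟨a, b, hab, rfl⟩
    have h2 := he _ hs
    have hc : IsConj (e t) (e (swap a b)) := by rw [Perm.isConj_iff_cycleType_eq, h1, h2]
    have hc' := (e.symm : Perm β →* Perm α).map_isConj hc
    change IsConj (e.symm (e t)) (e.symm (e (swap a b))) at hc'
    rw [MulEquiv.symm_apply_apply, MulEquiv.symm_apply_apply] at hc'
    rw [Perm.isConj_iff_cycleType_eq, ht, Perm.isSwap_iff_cycleType.mp hs] at hc'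
    exact replicate_three_ne hc'

theorem exotic_symm (hα : Fintype.card α = 6) (hβ : Fintype.card β = 6)
    (e : Perm α ≃* Perm β) (he : IsExotic e) : IsExotic e.symm := by
  intro s' hs'
  rcases cycleType_image_involution hβ hα e.symm s' (Or.inl (Perm.isSwap_iff_cycleType.mp hs')) with h1 | h1
  · exfalso
    have := he _ (Perm.isSwap_iff_cycleType.mpr h1)
    rw [MulEquiv.apply_symm_apply, Perm.isSwap_iff_cycleType.mp hs'] at this
    exact replicate_three_ne this.symm
  · exact h1

theorem not_exotic_of_swaps (hα : 2 ≤ Fintype.card α)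
    (e : Perm α ≃* Perm β) (h : ∀ s : Perm α, s.IsSwap → (e s).IsSwap) : ¬ IsExotic e := by
  intro he
  have hnt : Nontrivial α := Fintype.one_lt_card_iff_nontrivial.mp (by omega)
  obtain ⟨a, b, hab⟩ := exists_pair_ne α
  have hs : (swap a b).IsSwap := ⟨a, b, hab, rfl⟩
  have h1 := he _ hs
  rw [Perm.isSwap_iff_cycleType.mp (h _ hs)] at h1
  exact replicate_three_ne h1.symm

end

/-- Structure of index-6 subgroups of `S₆`: point stabilizers, or exotic. -/
theorem pointStab_or_exotic {Ω : Type u} [Fintype Ω] [DecidableEq Ω] (h6 : Fintype.card Ω = 6)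
    (H : Subgroup (Perm Ω)) (hH : H.index = 6) :
    (∃ x : Ω, H = MulAction.stabilizer (Perm Ω) x) ∨
    ∃ (X : Type u) (_ : Fintype X) (_ : DecidableEq X) (f : Perm Ω ≃* Perm X) (pt : X),
      Fintype.card X = 6 ∧ (∀ g, g ∈ H ↔ f g pt = pt) ∧ (∀ c : X, ∃ g, f g pt = c) ∧ IsExotic f := by
  obtain ⟨X, hXf, hXd, f, pt, hX, hmem, htr⟩ := exists_coset_iso (by omega) H (by rw [hH, h6])
  rw [h6] at hX
  rcases swap_or_exotic h6 hX f with hsw | hex
  · left
    have hsw' : ∀ s : Perm X, s.IsSwap → (f.symm s).IsSwap := by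
      rcases swap_or_exotic hX h6 f.symm with h | h
      · exact h
      · exfalso
        have := exotic_symm hX h6 f.symm h
        rw [MulEquiv.symm_symm] at this
        exact not_exotic_of_swaps (by omega) f hsw this
    have hiff : ∀ s : Perm Ω, s.IsSwap ↔ (f s).IsSwap :=
      fun s => ⟨hsw s, fun h => by simpa using hsw' _ h⟩
    have hcount : Nat.card {s : Perm Ω // s.IsSwap ∧ s ∉ H} = Fintype.card Ω - 1 := by
      rw [h6, ← hX, ← card_swaps_moving pt]
      apply Nat.card_congr
      exact f.toEquiv.subtypeEquiv (fun s => by rw [hiff, hmem]; rfl)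
    obtain ⟨y₀, hy₀⟩ := exists_stabilizer_le H (by rw [hcount]; omega)
    exact ⟨y₀, eq_stabilizer_of_ge H (by rw [hH, h6]) y₀ hy₀⟩
  · right
    exact ⟨X, hXf, hXd, f, pt, hX, hmem, htr, hex⟩

/-- Two index-6 subgroups of `S₆` that are not point stabilizers are conjugate. -/
theorem conj_of_not_pointStab {Ω : Type u} [Fintype Ω] [DecidableEq Ω] (h6 : Fintype.card Ω = 6)
    (H H' : Subgroup (Perm Ω)) (hH : H.index = 6) (hH' : H'.index = 6)
    (hx : ¬ ∃ x : Ω, H = MulAction.stabilizer (Perm Ω) x)
    (hx' : ¬ ∃ x : Ω, H' = MulAction.stabilizer (Perm Ω) x) :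
    ∃ g : Perm Ω, H.map (MulAut.conj g).toMonoidHom = H' := by
  obtain ⟨X, hXf, hXd, f, pt, hX, hmem, htr, hex⟩ := (pointStab_or_exotic h6 H hH).resolve_left hx
  obtain ⟨X', hXf', hXd', f', pt', hX', hmem', -, hex'⟩ :=
    (pointStab_or_exotic h6 H' hH').resolve_left hx'
  let K : Subgroup (Perm X) := H'.map (f : Perm Ω →* Perm X)
  have hK : ∀ s : Perm X, s ∈ K ↔ f.symm s ∈ H' := by
    intro s
    constructor
    · rintro ⟨k, hk, rfl⟩
      simpa using hk
    · intro h
      exact ⟨f.symm s, h, by simp⟩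
  let θ : Perm X ≃* Perm X' := f.symm.trans f'
  have hθ : ∀ s : Perm X, s.IsSwap ↔ (θ s).IsSwap := by
    intro s
    constructor
    · intro hs
      exact exotic_maps_t3_to_swap h6 hX' f' hex' _ (exotic_symm h6 hX f hex s hs)
    · intro hs
      have h1 := exotic_symm h6 hX' f' hex' _ hs
      have h2 := exotic_maps_t3_to_swap h6 hX f hex _ h1
      simpa [θ] using h2
  have hcount : Nat.card {s : Perm X // s.IsSwap ∧ s ∉ K} = Fintype.card X - 1 := by
    rw [hX, ← hX', ← card_swaps_moving pt']
    apply Nat.card_congr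
    exact θ.toEquiv.subtypeEquiv (fun s => by rw [hθ, hK, hmem']; rfl)
  obtain ⟨c, hc⟩ := exists_stabilizer_le K (by rw [hcount]; omega)
  obtain ⟨g, hg⟩ := htr c
  refine ⟨g, ?_⟩
  have hle : H.map (MulAut.conj g).toMonoidHom ≤ H' := by
    rintro _ ⟨k, hk, rfl⟩
    have h1 : f (g * k * g⁻¹) ∈ K := by
      apply hc
      rw [MulAction.mem_stabilizer_iff, Perm.smul_def, ← hg, map_mul, map_mul, map_inv]
      simp only [Perm.mul_apply]
      rw [show (f g)⁻¹ ((f g) pt) = pt from Equiv.symm_apply_apply (f g) pt, (hmem k).mp hk]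
    rw [hK] at h1
    simpa using h1
  by_contra hne
  have hlt := lt_of_le_of_ne hle hne
  have := Subgroup.index_strictAnti hlt
  have h2 : (H.map (MulAut.conj g).toMonoidHom).index = H.index :=
    Subgroup.index_map_equiv H (MulAut.conj g)
  rw [h2, hH, hH'] at this
  omega

theorem card_sylow5 : Nat.card (Sylow 5 (Perm (Fin 5))) = 6 := by
  have : Fact (Nat.Prime 5) := ⟨by norm_num⟩
  let P : Sylow 5 (Perm (Fin 5)) := default
  have hG : Nat.card (Perm (Fin 5)) = 120 := by
    rw [Nat.card_eq_fintype_card, Fintype.card_perm, Fintype.card_fin]; rfl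
  have hP : Nat.card P = 5 := by
    rw [Sylow.card_eq_multiplicity, hG]
    have : (120 : ℕ).factorization 5 = 1 := by
      have : (120 : ℕ) = 5 ^ 1 * 24 := by norm_num
      rw [this, Nat.factorization_mul (by norm_num) (by norm_num), Nat.Prime.factorization_pow (by norm_num)]
      simp
      rw [Nat.factorization_eq_zero_of_not_dvd (by norm_num)]
    rw [this]; norm_num
  have hidx : (P : Subgroup (Perm (Fin 5))).index = 24 := by
    have := (P : Subgroup (Perm (Fin 5))).card_mul_index
    rw [hG] at this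
    have h5 : Nat.card (P : Subgroup (Perm (Fin 5))) = 5 := hP
    rw [h5] at this
    omega
  have h1 := card_sylow_modEq_one 5 (Perm (Fin 5))
  have h2 := Sylow.card_dvd_index P
  rw [hidx] at h2
  have hle : Nat.card (Sylow 5 (Perm (Fin 5))) ≤ 24 := Nat.le_of_dvd (by norm_num) h2
  have hne1 : Nat.card (Sylow 5 (Perm (Fin 5))) ≠ 1 := by
    intro h
    have hsub : Subsingleton (Sylow 5 (Perm (Fin 5))) := (Nat.card_eq_one_iff_unique.mp h).1
    have hn : (P : Subgroup (Perm (Fin 5))).Normal := Sylow.normal_of_subsingleton P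
    have hnt : Nontrivial (P : Subgroup (Perm (Fin 5))) := by
      rw [← Finite.one_lt_card_iff_nontrivial]
      have h5 : Nat.card (P : Subgroup (Perm (Fin 5))) = 5 := hP
      omega
    have hA := Equiv.Perm.alternatingGroup_le_of_normal (α := Fin 5) (by simp) hnt
    have := Subgroup.card_le_of_le hA
    have h5 : Nat.card (P : Subgroup (Perm (Fin 5))) = 5 := hP
    rw [h5] at this
    have hA5 : Nat.card (alternatingGroup (Fin 5)) = 60 := by
      have := (alternatingGroup (Fin 5)).card_mul_index
      rw [alternatingGroup.index_eq_two, hG] at this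
      omega
    omega
  -- n ∣ 24, n ≡ 1 mod 5, n ≠ 1
  generalize Nat.card (Sylow 5 (Perm (Fin 5))) = n at *
  unfold Nat.ModEq at h1
  interval_cases n <;> simp_all

theorem exists_transitive_index_six {Ω : Type*} [Fintype Ω] [DecidableEq Ω] (h6 : Fintype.card Ω = 6) :
    ∃ H : Subgroup (Perm Ω), H.index = 6 ∧ (∀ x y : Ω, ∃ h ∈ H, h x = y) ∧
      Nonempty (Perm (Fin 5) ≃* H) := by
  classical
  have : Fact (Nat.Prime 5) := ⟨by norm_num⟩
  let Y := Sylow 5 (Perm (Fin 5))
  have hYfin : Finite Y := inferInstance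
  have hY : Nat.card Y = 6 := card_sylow5
  have hG : Nat.card (Perm (Fin 5)) = 120 := by
    rw [Nat.card_eq_fintype_card, Fintype.card_perm, Fintype.card_fin]; rfl
  let ψ : Perm (Fin 5) →* Perm Y := MulAction.toPermHom (Perm (Fin 5)) Y
  have hψ : Function.Injective ψ := by
    rw [← MonoidHom.ker_eq_bot_iff]
    by_contra hne
    have hnt : Nontrivial ψ.ker := (Subgroup.nontrivial_iff_ne_bot _).mpr hne
    have hA := Equiv.Perm.alternatingGroup_le_of_normal (α := Fin 5) (by simp) hnt
    let P : Y := default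
    have hle : ψ.ker ≤ MulAction.stabilizer (Perm (Fin 5)) P := by
      intro g hg
      rw [MulAction.mem_stabilizer_iff]
      have : ψ g = 1 := hg
      have h2 : ψ g P = P := by rw [this]; rfl
      exact h2
    have h1 : (MulAction.stabilizer (Perm (Fin 5)) P).index = 6 := by
      rw [MulAction.index_stabilizer_of_transitive, hY]
    have h2 := Subgroup.index_dvd_of_le (hA.trans hle)
    rw [h1, alternatingGroup.index_eq_two] at h2
    omega
  have hYft : Fintype Y := Fintype.ofFinite Y
  have hcard : Fintype.card Y = Fintype.card Ω := by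
    rw [← Nat.card_eq_fintype_card, hY, h6]
  obtain ⟨e⟩ := Fintype.card_eq.mp hcard
  let ψ' : Perm (Fin 5) →* Perm Ω := (e.permCongrHom : Perm Y →* Perm Ω).comp ψ
  have hψ' : Function.Injective ψ' := e.permCongrHom.injective.comp hψ
  refine ⟨ψ'.range, ?_, ?_, ⟨MonoidHom.ofInjective hψ'⟩⟩
  · have h1 := ψ'.range.card_mul_index
    have h2 : Nat.card ψ'.range = 120 := by
      rw [← hG]
      exact (Nat.card_congr (MonoidHom.ofInjective hψ').toEquiv).symm
    rw [h2, Nat.card_eq_fintype_card (α := Perm Ω), Fintype.card_perm, h6] at h1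
    have : (6 : ℕ).factorial = 720 := rfl
    omega
  · intro x y
    obtain ⟨g, hg⟩ := MulAction.exists_smul_eq (Perm (Fin 5)) (e.symm x) (e.symm y)
    refine ⟨ψ' g, ⟨g, rfl⟩, ?_⟩
    change e (ψ g (e.symm x)) = y
    have : ψ g (e.symm x) = g • (e.symm x) := rfl
    rw [this, hg, e.apply_symm_apply]

end Cfsg.Agent.Lib.H29
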