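import Cfsg.Agent.Lib.H29.Sym6

/-!
# More on index-6 subgroups of `S₆`: images under exotic isomorphisms, isomorphism type
-/

set_option autoImplicit false

namespace Cfsg.Agent.Lib.H29

open Equiv Cfsg.Agent.S5911

universe u v

/-- An exotic isomorphism maps an index-6 subgroup that is not a point stabilizer onto a point
stabilizer. -/
theorem map_exotic_eq_stabilizer {Ω : Type u} {X : Type v} [Fintype Ω] [DecidableEq Ω] [Fintype X]
    [DecidableEq X] (h6 : Fintype.card Ω = 6) (hX : Fintype.card X = 6) (f : Perm Ω ≃* Perm X)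
    (hex : IsExotic f) (H' : Subgroup (Perm Ω)) (hH' : H'.index = 6)
    (hx' : ¬ ∃ x : Ω, H' = MulAction.stabilizer (Perm Ω) x) :
    ∃ c : X, H'.map (f : Perm Ω →* Perm X) = MulAction.stabilizer (Perm X) c := by
  obtain ⟨X', hXf', hXd', f', pt', hX', hmem', -, hex'⟩ :=
    (pointStab_or_exotic h6 H' hH').resolve_left hx'
  let K : Subgroup (Perm X) := H'.map (f : Perm Ω →* Perm X)
  have hK : ∀ s : Perm X, s ∈ K ↔ f.symm s ∈ H' := by
    intro s
    constructor
    · rintro ⟨k, hk, rfl⟩
      simpa using hk
    · intro h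
      exact ⟨f.symm s, h, by simp⟩
  let θ : Perm X ≃* Perm X' := f.symm.trans f'
  have hθ : ∀ s : Perm X, s.IsSwap ↔ (θ s).IsSwap := by
    intro s
    constructor
    · intro hs
      exact exotic_maps_t3_to_swap h6 hX' f' hex' _ (exotic_symm h6 hX f hex s hs)
    · intro hs
      have h1 := exotic_symm h6 hX' f' hex' _ hs
      have h2 := exotic_maps_t3_to_swap h6 hX f hex _ h1
      simpa [θ] using h2
  have hcount : Nat.card {s : Perm X // s.IsSwap ∧ s ∉ K} = Fintype.card X - 1 := by
    rw [hX, ← hX', ← card_swaps_moving pt']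
    apply Nat.card_congr
    exact θ.toEquiv.subtypeEquiv (fun s => by rw [hθ, hK, hmem']; rfl)
  obtain ⟨c, hc⟩ := exists_stabilizer_le K (by rw [hcount]; omega)
  refine ⟨c, eq_stabilizer_of_ge K ?_ c hc⟩
  rw [hX]
  have : K.index = H'.index := Subgroup.index_map_equiv H' f
  rw [this, hH']

/-- The image of a point stabilizer under an exotic isomorphism is not a point stabilizer. -/
theorem map_exotic_stabilizer_ne {Ω : Type u} {X : Type v} [Fintype Ω] [DecidableEq Ω] [Fintype X]
    [DecidableEq X] (h6 : Fintype.card Ω = 6) (hX : Fintype.card X = 6) (f : Perm Ω ≃* Perm X)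
    (hex : IsExotic f) (x : Ω) (c : X) :
    (MulAction.stabilizer (Perm Ω) x).map (f : Perm Ω →* Perm X) ≠
      MulAction.stabilizer (Perm X) c := by
  intro heq
  -- a swap fixing x
  have hcard : 2 < Fintype.card Ω := by omega
  obtain ⟨y, hy⟩ : ∃ y, y ≠ x := by
    have hnt : Nontrivial Ω := Fintype.one_lt_card_iff_nontrivial.mp (by omega)
    exact exists_ne x
  obtain ⟨z, hzx, hzy⟩ : ∃ z, z ≠ x ∧ z ≠ y := by
    by_contra hcon
    push Not at hcon
    have : (Finset.univ : Finset Ω) ⊆ {x, y} := by
      intro z _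
      by_cases hzx : z = x
      · simp [hzx]
      · simp [hcon z hzx]
    have := Finset.card_le_card this
    rw [Finset.card_univ] at this
    have := (Finset.card_le_two (a := x) (b := y))
    omega
  have hs : (swap y z).IsSwap := ⟨y, z, hzy.symm, rfl⟩
  have hmem : swap y z ∈ MulAction.stabilizer (Perm Ω) x := by
    rw [MulAction.mem_stabilizer_iff, Perm.smul_def]
    exact swap_apply_of_ne_of_ne hy.symm hzx.symm
  have h1 : f (swap y z) ∈ MulAction.stabilizer (Perm X) c := by
    rw [← heq]; exact ⟨_, hmem, rfl⟩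
  rw [MulAction.mem_stabilizer_iff, Perm.smul_def] at h1
  have h2 := hex _ hs
  have h3 : (f (swap y z)).support.card = 6 := by
    rw [← Perm.sum_cycleType, h2]; rfl
  have h4 : (f (swap y z)).support = Finset.univ := by
    apply Finset.eq_univ_of_card
    rw [h3, hX]
  have : c ∈ (f (swap y z)).support := by rw [h4]; exact Finset.mem_univ c
  rw [Perm.mem_support] at this
  exact this h1

/-- The stabilizer of a point in `Perm β` is isomorphic to the symmetric group of the rest. -/
theorem nonempty_stabilizer_mulEquiv {β : Type*} [Fintype β] [DecidableEq β] (pt : β) :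
    Nonempty (MulAction.stabilizer (Perm β) pt ≃* Perm {c : β // c ≠ pt}) := by
  let j : Perm {c : β // c ≠ pt} →* Perm β := Perm.ofSubtype
  have hj : Function.Injective j := Perm.ofSubtype_injective
  have hrange : j.range = MulAction.stabilizer (Perm β) pt := by
    ext g
    constructor
    · rintro ⟨g', rfl⟩
      rw [MulAction.mem_stabilizer_iff, Perm.smul_def]
      exact Perm.ofSubtype_apply_of_not_mem g' (by simp)
    · intro hg
      have hg' : g pt = pt := hg
      have h₁ : ∀ x, g x ≠ pt ↔ x ≠ pt := by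
        intro x
        constructor
        · intro h hx; exact h (by rw [hx, hg'])
        · intro h hx; exact h (g.injective (by rw [hx, hg']))
      refine ⟨g.subtypePerm h₁, ?_⟩
      apply Perm.ofSubtype_subtypePerm
      intro x hx h
      exact hx (by rw [h, hg'])
  exact ⟨((MonoidHom.ofInjective hj).trans (MulEquiv.subgroupCongr hrange)).symm⟩

/-- Every index-6 subgroup of `S₆` is isomorphic to `S₅`. -/
theorem nonempty_mulEquiv_of_index_six {Ω : Type u} [Fintype Ω] [DecidableEq Ω]
    (h6 : Fintype.card Ω = 6) (H : Subgroup (Perm Ω)) (hH : H.index = 6) :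
    Nonempty (H ≃* Perm (Fin 5)) := by
  obtain ⟨X, hXf, hXd, f, pt, hX, hmem, -⟩ := exists_coset_iso (by omega) H (by rw [hH, h6])
  have hmap : H.map (f : Perm Ω →* Perm X) = MulAction.stabilizer (Perm X) pt := by
    ext s
    constructor
    · rintro ⟨k, hk, rfl⟩
      exact (hmem k).mp hk
    · intro hs
      refine ⟨f.symm s, ?_, by simp⟩
      apply (hmem _).mpr
      simpa using hs
  obtain ⟨e₁⟩ := nonempty_stabilizer_mulEquiv pt
  have hc : Fintype.card {c : X // c ≠ pt} = Fintype.card (Fin 5) := by
    rw [Fintype.card_subtype_compl, Fintype.card_subtype_eq, hX, h6, Fintype.card_fin]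
  obtain ⟨e₂⟩ := Fintype.card_eq.mp hc
  exact ⟨((f.subgroupMap H).trans (MulEquiv.subgroupCongr hmap)).trans (e₁.trans e₂.permCongrHom)⟩

end Cfsg.Agent.Lib.H29
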