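import Mathlib
import Cfsg.Agent.Lib.H26.TMXDefs

/-!
# S4383 piece SYLR (helper29 for helper26)

If `p ∣ |G : M₁|` and `G` is not a `p`-group then `p ∤ |G : M₂|`.
-/

set_option autoImplicit false
open Pointwise

namespace Cfsg.Agent.Lib.H29.TMX

open Cfsg.Agent.Lib.H26.TMX

universe u
variable {G : Type u} [Group G] [Finite G]

omit [Finite G] in
/-- index of a conjugate -/
theorem index_conj_smul (g : G) (M : Subgroup G) : (MulAut.conj g • M).index = M.index :=
  Subgroup.index_map_equiv (H := M) (MulAut.conj g)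

omit [Finite G] in
/-- a Sylow `p`-subgroup of a non-`p`-group is proper -/
theorem sylow_ne_top (p : ℕ) [Fact p.Prime] (hnp : ¬ IsPGroup p G) (P : Sylow p G) :
    (P : Subgroup G) ≠ ⊤ := by
  intro h
  apply hnp
  have h1 : IsPGroup p (P : Subgroup G) := P.isPGroup'
  rw [h] at h1
  exact h1.of_equiv Subgroup.topEquiv

/-- SYLR -/
theorem not_dvd_index_right (p : ℕ) [Fact p.Prime] (M₁ M₂ : Subgroup G) (hcov : Cover M₁ M₂)
    (hnp : ¬ IsPGroup p G) (hp1 : p ∣ M₁.index) : ¬ p ∣ M₂.index := by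
  classical
  obtain ⟨P⟩ : Nonempty (Sylow p G) := inferInstance
  have hPtop : (P : Subgroup G) ≠ ⊤ := sylow_ne_top p hnp P
  have hP : ¬ p ∣ (P : Subgroup G).index := P.not_dvd_index
  obtain ⟨g, hg | hg⟩ := hcov P hPtop
  · exfalso
    apply hP
    have h1 : (MulAut.conj g • M₁).index ∣ (P : Subgroup G).index := Subgroup.index_dvd_of_le hg
    rw [index_conj_smul] at h1
    exact hp1.trans h1
  · intro hp2
    apply hP
    have h1 : (MulAut.conj g • M₂).index ∣ (P : Subgroup G).index := Subgroup.index_dvd_of_le hg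
    rw [index_conj_smul] at h1
    exact hp2.trans h1

end Cfsg.Agent.Lib.H29.TMX
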