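import Mathlib
import Cfsg.Agent.Lib.H26.TMXDefs
import Cfsg.Agent.Lib.H29.TMXSYLR

/-!
# S4383 piece MOD, part A (helper29 for helper26)

`index_modEq_one_of_uniq`: MOD with the statement of UNIQ as a hypothesis.
-/

set_option autoImplicit false
open Pointwise

namespace Cfsg.Agent.Lib.H29.TMX

open Cfsg.Agent.Lib.H26.TMX

universe u v
variable {G : Type u} [Group G] [Finite G]

/-- counting lemma: a group of order `p^(m+k)` acting on a finite set with one fixed point `x₀`
such that all other points have stabilizers of order `≤ p^m`. -/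
theorem card_sub_one_of_stabilizer_small {P : Type u} [Group P] [Finite P] {X : Type v}
    [MulAction P X] [Finite X]
    (p m k : ℕ) [Fact p.Prime] (hP : Nat.card P = p ^ (m + k)) (x₀ : X)
    (hfix : ∀ g : P, g • x₀ = x₀)
    (hsmall : ∀ x : X, x ≠ x₀ → Nat.card (MulAction.stabilizer P x) ≤ p ^ m) :
    p ^ k ∣ Nat.card X - 1 := by
  classical
  have hp : p.Prime := Fact.out
  -- orbit sizes
  have horb : ∀ x : X, x ≠ x₀ → p ^ k ∣ Nat.card (MulAction.orbit P x) := by
    intro x hx
    have h1 : Nat.card (MulAction.stabilizer P x) * (MulAction.stabilizer P x).index = Nat.card P :=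
      Subgroup.card_mul_index _
    rw [MulAction.index_stabilizer, hP] at h1
    have h2 : Nat.card (MulAction.stabilizer P x) ∣ p ^ (m + k) := Dvd.intro _ h1
    obtain ⟨j, hj, hjc⟩ := (Nat.dvd_prime_pow hp).1 h2
    have h3 := hsmall x hx
    rw [hjc] at h3 h1
    have hjm : j ≤ m := (Nat.pow_le_pow_iff_right hp.one_lt).1 h3
    rw [Nat.card_coe_set_eq]
    have h4 : (MulAction.orbit P x).ncard = p ^ (m + k - j) := by
      have h5 : p ^ j * (MulAction.orbit P x).ncard = p ^ j * p ^ (m + k - j) := by
        rw [h1, ← pow_add]; congr 1; omega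
      exact Nat.eq_of_mul_eq_mul_left (pow_pos hp.pos j) h5
    rw [h4]
    exact pow_dvd_pow p (by omega)
  -- decomposition
  have hfin : Fintype (MulAction.orbitRel.Quotient P X) := Fintype.ofFinite _
  have hcard : Nat.card X =
      ∑ ω : MulAction.orbitRel.Quotient P X, Nat.card (MulAction.orbit P ω.out) := by
    rw [Nat.card_congr (MulAction.selfEquivSigmaOrbits P X), Nat.card_sigma]
  have horb0 : MulAction.orbit P x₀ = {x₀} := by
    ext y
    simp only [MulAction.mem_orbit_iff, hfix, Set.mem_singleton_iff]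
    constructor
    · rintro ⟨_, h⟩; exact h.symm
    · intro h; exact ⟨1, h.symm⟩
  set ω₀ : MulAction.orbitRel.Quotient P X := Quotient.mk'' x₀ with hω₀
  have hout0 : ω₀.out = x₀ := by
    have h1 : ω₀.out ∈ MulAction.orbit P x₀ := by
      have h2 : (Quotient.mk'' ω₀.out : MulAction.orbitRel.Quotient P X) = Quotient.mk'' x₀ :=
        Quotient.out_eq' ω₀
      exact (MulAction.orbitRel_apply).1 (Quotient.exact' h2)
    rw [horb0] at h1
    exact h1
  have hne : ∀ ω : MulAction.orbitRel.Quotient P X, ω ≠ ω₀ → ω.out ≠ x₀ := by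
    intro ω hω h
    apply hω
    rw [hω₀, ← h]
    exact (Quotient.out_eq' ω).symm
  rw [hcard, ← Finset.add_sum_erase Finset.univ _ (Finset.mem_univ ω₀), hout0, horb0]
  have h1 : Nat.card ({x₀} : Set X) = 1 := by
    rw [Nat.card_coe_set_eq, Set.ncard_singleton]
  rw [h1, Nat.add_sub_cancel_left]
  apply Finset.dvd_sum
  intro ω hω
  exact horb _ (hne ω (Finset.ne_of_mem_erase hω))

omit [Finite G] in
theorem mem_conj_smul_iff (y a : G) (M : Subgroup G) :
    a ∈ MulAut.conj y • M ↔ y⁻¹ * a * y ∈ M := by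
  rw [Subgroup.mem_pointwise_smul_iff_inv_smul_mem, MulAut.smul_def, MulAut.conj_inv_apply]

omit [Finite G] in
theorem smul_mk_eq_iff (M : Subgroup G) (a y : G) :
    a • ((y : G) : G ⧸ M) = ((y : G) : G ⧸ M) ↔ a ∈ MulAut.conj y • M := by
  rw [mem_conj_smul_iff, MulAction.Quotient.smul_mk, QuotientGroup.eq, smul_eq_mul, mul_inv_rev]
  constructor
  · intro h
    have := M.inv_mem h
    simpa [mul_assoc] using this
  · intro h
    have := M.inv_mem h
    simpa [mul_assoc] using this

omit [Finite G] in
/-- stabilizer of a coset in a subgroup -/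
theorem stab_map_le (P M : Subgroup G) (y : G) :
    (MulAction.stabilizer P ((y : G) : G ⧸ M)).map P.subtype ≤ MulAut.conj y • M := by
  rintro _ ⟨a, ha, rfl⟩
  rw [SetLike.mem_coe, MulAction.mem_stabilizer_iff] at ha
  exact (smul_mk_eq_iff M (a : G) y).1 ha

omit [Finite G] in
/-- equal conjugates of a self-normalizing subgroup give equal cosets -/
theorem mk_eq_of_conj_eq (M : Subgroup G) (hself : Subgroup.normalizer (M : Set G) = M) (x y : G)
    (h : MulAut.conj x • M = MulAut.conj y • M) : ((x : G) : G ⧸ M) = ((y : G) : G ⧸ M) := by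
  rw [QuotientGroup.eq]
  have h1 : x⁻¹ * y ∈ Subgroup.normalizer (M : Set G) := by
    rw [Subgroup.mem_normalizer_iff_map_conj_eq]
    have h2 : MulAut.conj (x⁻¹ * y) • M = M := by
      rw [map_mul, mul_smul, ← h, ← mul_smul, ← map_mul, inv_mul_cancel, map_one, one_smul]
    exact h2
  rw [hself] at h1
  exact h1

/-- MOD, with UNIQ as a hypothesis. -/
theorem index_modEq_one_of_uniq (p : ℕ) [Fact p.Prime] (M₁ M₂ : Subgroup G) (hcov : Cover M₁ M₂)
    (huniq : ∀ A : Subgroup G, IsPGroup p A →
      p ^ ((Nat.card M₁).factorization p) < Nat.card A → ∀ x y : G,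
      A ≤ MulAut.conj x • M₂ → A ≤ MulAut.conj y • M₂ →
      MulAut.conj x • M₂ = MulAut.conj y • M₂)
    (hself : Subgroup.normalizer (M₂ : Set G) = M₂)
    (hnp : ¬ IsPGroup p G) (hp1 : p ∣ M₁.index) :
    p ^ (M₁.index.factorization p) ∣ M₂.index - 1 := by
  classical
  have hp : p.Prime := Fact.out
  obtain ⟨P⟩ : Nonempty (Sylow p G) := inferInstance
  have hPtop : (P : Subgroup G) ≠ ⊤ := sylow_ne_top p hnp P
  have hPi : ¬ p ∣ (P : Subgroup G).index := P.not_dvd_index
  set m := (Nat.card M₁).factorization p with hm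
  set k := M₁.index.factorization p with hk
  have hidx_ne : M₁.index ≠ 0 := Subgroup.index_ne_zero_of_finite
  have hcardP : Nat.card (P : Subgroup G) = p ^ (m + k) := by
    rw [Sylow.card_eq_multiplicity, ← Subgroup.card_mul_index M₁,
      Nat.factorization_mul Nat.card_pos.ne' hidx_ne]
    rfl
  -- P lies in a conjugate of M₂
  obtain ⟨x, hx⟩ : ∃ x : G, (P : Subgroup G) ≤ MulAut.conj x • M₂ := by
    obtain ⟨g, hg | hg⟩ := hcov P hPtop
    · exfalso
      apply hPi
      have h1 : (MulAut.conj g • M₁).index ∣ (P : Subgroup G).index :=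
        Subgroup.index_dvd_of_le hg
      rw [index_conj_smul] at h1
      exact hp1.trans h1
    · exact ⟨g, hg⟩
  have hmain := card_sub_one_of_stabilizer_small (P := (P : Subgroup G)) (X := G ⧸ M₂) p m k hcardP
    ((x : G) : G ⧸ M₂) ?_ ?_
  · rwa [← Subgroup.index_eq_card] at hmain
  · intro g
    exact (smul_mk_eq_iff M₂ (g : G) x).2 (hx g.2)
  · intro q
    induction q using QuotientGroup.induction_on with
    | H y =>
      intro hne
      by_contra hlt
      rw [not_le] at hlt
      apply hne
      symm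
      apply mk_eq_of_conj_eq M₂ hself
      set A : Subgroup G := (MulAction.stabilizer (P : Subgroup G) ((y : G) : G ⧸ M₂)).map
        (P : Subgroup G).subtype with hA
      have hAP : A ≤ (P : Subgroup G) := Subgroup.map_subtype_le _
      have hAp : IsPGroup p A := P.isPGroup'.to_le hAP
      have hAc : Nat.card A = Nat.card (MulAction.stabilizer (P : Subgroup G) ((y : G) : G ⧸ M₂)) :=
        Subgroup.card_subtype _ _
      exact huniq A hAp (by rw [hAc]; exact hlt) x y (hAP.trans hx) (stab_map_le _ _ _)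

end Cfsg.Agent.Lib.H29.TMX
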