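import Mathlib
import Cfsg.Agent.Lib.H26.TMXDefs
import Cfsg.Agent.Lib.H26.TMXUNIQ
import Cfsg.Agent.Lib.H29.TMXSYLR
import Cfsg.Agent.Lib.H29.TMXMODA

/-!
# S4383 piece MOD (helper29 for helper26)

`index_modEq_one`: `|G : M₂| ≡ 1` modulo the full power of `p` dividing `|G : M₁|`.
-/

set_option autoImplicit false
open Pointwise

namespace Cfsg.Agent.Lib.H29.TMX

open Cfsg.Agent.Lib.H26.TMX

universe u
variable {G : Type u} [Group G] [Finite G]

/-- MOD: `|G : M₂| ≡ 1` modulo the full power of `p` dividing `|G : M₁|`. -/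
theorem index_modEq_one (p : ℕ) [Fact p.Prime] (M₁ M₂ : Subgroup G) (hcov : Cover M₁ M₂)
    (hloc : ∀ A : Subgroup G, IsPGroup p A → A ≠ ⊥ → Subgroup.normalizer (A : Set G) ≠ ⊤)
    (hself : Subgroup.normalizer (M₂ : Set G) = M₂)
    (hnp : ¬ IsPGroup p G) (hp1 : p ∣ M₁.index) :
    p ^ (M₁.index.factorization p) ∣ M₂.index - 1 :=
  index_modEq_one_of_uniq p M₁ M₂ hcov
    (fun A hA hcard x y hx hy =>
      Cfsg.Agent.Lib.H26.TMX.unique_conj p M₁ M₂ hcov hloc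
        (not_dvd_index_right p M₁ M₂ hcov hnp hp1) A hA hcard x y hx hy)
    hself hnp hp1

end Cfsg.Agent.Lib.H29.TMX
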