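import Mathlib

/-!
# Classes of involutions in a subgroup of index two
-/

set_option autoImplicit false
set_option linter.unusedSectionVars false
set_option linter.unusedVariables false

namespace Cfsg.Agent.Lib.H29.Chev

/-- If a subgroup `T` of index two contains all the involutions of `G`, these form two classes of `G`, and each of
the two representatives commutes with an element outside `T`, then the involutions form two classes of `T`. -/
theorem two_classes_of_index_two {G : Type*} [Group G] (T : Subgroup G) (hidx : T.index = 2)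
    (hinv : ∀ g : G, orderOf g = 2 → g ∈ T)
    (t₁ t₂ c₁ c₂ : G) (o₁ : orderOf t₁ = 2) (o₂ : orderOf t₂ = 2)
    (hall : ∀ g : G, orderOf g = 2 → (∃ x : G, x * g * x⁻¹ = t₁) ∨ (∃ x : G, x * g * x⁻¹ = t₂))
    (hne : ¬ ∃ x : G, x * t₁ * x⁻¹ = t₂)
    (hc₁ : c₁ ∉ T) (hc₁' : c₁ * t₁ * c₁⁻¹ = t₁) (hc₂ : c₂ ∉ T) (hc₂' : c₂ * t₂ * c₂⁻¹ = t₂) :
    (ConjClasses.mk '' {g : ↥T | orderOf g = 2}).ncard = 2 := by
  have m₁ : t₁ ∈ T := hinv t₁ o₁
  have m₂ : t₂ ∈ T := hinv t₂ o₂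
  have oo₁ : orderOf (⟨t₁, m₁⟩ : ↥T) = 2 := by rw [← o₁, ← Subgroup.orderOf_coe]
  have oo₂ : orderOf (⟨t₂, m₂⟩ : ↥T) = 2 := by rw [← o₂, ← Subgroup.orderOf_coe]
  -- conjugacy in `G` to a representative gives conjugacy in `T`
  have step : ∀ (t c : G) (hcT : c ∉ T) (hct : c * t * c⁻¹ = t) (mt : t ∈ T) (g : ↥T) (x : G)
      (hx : x * g.1 * x⁻¹ = t), ∃ y : ↥T, y * g * y⁻¹ = ⟨t, mt⟩ := by
    intro t c hcT hct mt g x hx
    by_cases hxT : x ∈ T
    · exact ⟨⟨x, hxT⟩, Subtype.ext hx⟩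
    · have hcx : c * x ∈ T := (Subgroup.mul_mem_iff_of_index_two hidx).mpr (iff_of_false hcT hxT)
      refine ⟨⟨c * x, hcx⟩, Subtype.ext ?_⟩
      show c * x * g.1 * (c * x)⁻¹ = t
      have : c * x * g.1 * (c * x)⁻¹ = c * (x * g.1 * x⁻¹) * c⁻¹ := by group
      rw [this, hx, hct]
  have hne' : ConjClasses.mk (⟨t₁, m₁⟩ : ↥T) ≠ ConjClasses.mk (⟨t₂, m₂⟩ : ↥T) := by
    intro h
    rw [ConjClasses.mk_eq_mk_iff_isConj, isConj_iff] at h
    obtain ⟨c, hc⟩ := h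
    exact hne ⟨c.1, congrArg Subtype.val hc⟩
  have key : ConjClasses.mk '' {g : ↥T | orderOf g = 2} =
      {ConjClasses.mk (⟨t₁, m₁⟩ : ↥T), ConjClasses.mk (⟨t₂, m₂⟩ : ↥T)} := by
    apply Set.eq_of_subset_of_subset
    · rintro _ ⟨g, hg, rfl⟩
      have hg' : orderOf g.1 = 2 := by rw [Subgroup.orderOf_coe]; exact hg
      rcases hall g.1 hg' with ⟨x, hx⟩ | ⟨x, hx⟩
      · left
        rw [ConjClasses.mk_eq_mk_iff_isConj, isConj_iff]
        exact step t₁ c₁ hc₁ hc₁' m₁ g x hx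
      · right
        rw [Set.mem_singleton_iff, ConjClasses.mk_eq_mk_iff_isConj, isConj_iff]
        exact step t₂ c₂ hc₂ hc₂' m₂ g x hx
    · rintro _ (rfl | rfl)
      · exact ⟨_, oo₁, rfl⟩
      · exact ⟨_, oo₂, rfl⟩
  rw [key, Set.ncard_pair hne']

end Cfsg.Agent.Lib.H29.Chev
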