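import Mathlib
import Cfsg.Prelude.Def_LieTwisted
import Cfsg.Agent.Lib.H29.F4Inv16
import Cfsg.Agent.Lib.H29.TitsInv1
import Cfsg.Agent.Lib.H3.Tits.USyl

/-!
# The Tits group has two classes of involutions
-/

set_option autoImplicit false
set_option linter.unusedSectionVars false
set_option linter.unusedVariables false

namespace Cfsg.Agent.Lib.H29.Chev

open Cfsg.Lie Matrix Cfsg.Agent.Lib.H3.Tits

/-- the Tits group has two classes of involutions -/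
theorem tits_two_classes :
    (ConjClasses.mk '' {g : ↥(commutator ↥(twistedF4 (ZMod 2) (2 ^ 0))) | orderOf g = 2}).ncard = 2 := by
  have hθ := f4_theta_theta_sq (K := ZMod 2) 0 card_K2
  have hN : (T : Subgroup Γ).Normal := inferInstance
  refine two_classes_of_index_two T T_index invol_mem_T
    (⟨cU 0 (0 : ZMod 2) 1, cU_mem_tw 0 0 1⟩ : Γ) (⟨pU 0 (1 : ZMod 2), pU_mem_tw 0 1⟩ : Γ) (wΓ [2])
    ((⟨fN1 (ZMod 2), fN1_mem_tw 0⟩ : Γ) * wΓ [2] * (⟨fN1 (ZMod 2), fN1_mem_tw 0⟩ : Γ)⁻¹)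
    (f4_orderOf_cU 0) (f4_orderOf_pU 0)
    (fun g hg => f4_involution_conj_sub 0 card_K2 g hg) (f4_classes_ne_sub 0 card_K2) g2_not_mem_T ?_ ?_ ?_
  · have e : (⟨cU 0 (0 : ZMod 2) 1, cU_mem_tw 0 0 1⟩ : Γ) = wΓ [2] * wΓ [2] := by
      apply Subtype.ext
      show cU 0 (0 : ZMod 2) 1 = wordG [2] * wordG [2]
      rw [cU01_eq, ← wordG_append]
      rfl
    rw [e]
    group
  · intro h
    apply g2_not_mem_T
    have h' := hN.conj_mem _ h (⟨fN1 (ZMod 2), fN1_mem_tw 0⟩ : Γ)⁻¹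
    have e : (⟨fN1 (ZMod 2), fN1_mem_tw 0⟩ : Γ)⁻¹ *
        ((⟨fN1 (ZMod 2), fN1_mem_tw 0⟩ : Γ) * wΓ [2] * (⟨fN1 (ZMod 2), fN1_mem_tw 0⟩ : Γ)⁻¹) *
        (⟨fN1 (ZMod 2), fN1_mem_tw 0⟩ : Γ)⁻¹⁻¹ = wΓ [2] := by group
    rw [e] at h'
    exact h'
  · apply Subtype.ext
    show (fN1 (ZMod 2) * wordG [2] * (fN1 (ZMod 2))⁻¹) * pU 0 (1 : ZMod 2) *
      (fN1 (ZMod 2) * wordG [2] * (fN1 (ZMod 2))⁻¹)⁻¹ = pU 0 (1 : ZMod 2)
    have e : fN1 (ZMod 2) * wordG [2] * (fN1 (ZMod 2))⁻¹ = f4y2 0 (1 : ZMod 2) 0 := by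
      rw [wordG_single]
      exact f4_n1_y8 0 1 0
    rw [e]
    exact f4_y2_x1_comm 0 hθ 1 1 0

end Cfsg.Agent.Lib.H29.Chev
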