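import Cfsg.Agent.Lib.H11.TpT5

/-!
# A "star" version of the fundamental theorem T5 of S5637 (helper29)

`y ∈ GL(A ⊗ B)` is a Kronecker product as soon as it maps the `B`-lines `A ⊗ f_j` of ONE basis
`f_j` of `B`, and the `B`-lines `A ⊗ (f_{j₀} + c_j f_j)` (`c_j ≠ 0`, `j ≠ j₀`), into `B`-lines.
This is the form needed for the FORM versions of the tensor rows, where only the isotropic / singular
`B`-lines are available.
-/

set_option autoImplicit false

namespace Cfsg.Agent.Lib.H29.Tp

open Matrix Kronecker Module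
open Cfsg.Geo
open Cfsg.Agent.Lib.H29.Tensor (pt kron_pt pt_smul_right)
open Cfsg.Agent.Lib.H25.Tp
open Cfsg.Agent.Lib.H11.Tp (t5_entry)

variable {F : Type*} [Field F] {a b : ℕ}

/-- standard-basis star version of T5 -/
theorem mem_kron_of_star_std (ha : 1 ≤ a) (hb : 1 ≤ b) (y : GL (Fin a × Fin b) F) (j₀ : Fin b)
    (h1 : ∀ j : Fin b, ∃ w : Fin b → F, ∀ u : Fin a → F,
      y.val *ᵥ pt u (Pi.single j 1) ∈ Lv w)
    (h2 : ∀ j : Fin b, j ≠ j₀ → ∃ w : Fin b → F, ∀ u : Fin a → F,
      y.val *ᵥ pt u (Pi.single j₀ 1 + Pi.single j 1) ∈ Lv w) :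
    y ∈ kroneckerSubgroup a b F := by
  have : NeZero a := ⟨by omega⟩
  have : NeZero b := ⟨by omega⟩
  set M : Matrix (Fin a × Fin b) (Fin a × Fin b) F := y.val with hM
  set N : Matrix (Fin a × Fin b) (Fin a × Fin b) F := y⁻¹.val with hN
  have hMN : M * N = 1 := by rw [hM, hN, ← Units.val_mul, mul_inv_cancel, Units.val_one]
  have hNM : N * M = 1 := by rw [hM, hN, ← Units.val_mul, inv_mul_cancel, Units.val_one]
  -- columns
  choose w hw using h1
  have hw' : ∀ j : Fin b, ∀ k : Fin a, ∃ s : Fin a → F,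
      ∀ p q, s p * w j q = ∑ j', M (p, q) (k, j') * (Pi.single j (1 : F) : Fin b → F) j' :=
    fun j k => t5_entry M _ _ (hw j) k
  choose A hA using hw'
  have hMe : ∀ p q k j, M (p, q) (k, j) = A j k p * w j q := by
    intro p q k j
    rw [hA j k p q, Finset.sum_eq_single j]
    · simp
    · intro j' _ hj'; simp [hj']
    · intro hj; exact absurd (Finset.mem_univ j) hj
  -- the matrix `W` of the `w j` is invertible
  set W : Matrix (Fin b) (Fin b) F := Matrix.of fun q j => w j q with hW
  set B : Matrix (Fin b) (Fin b) F :=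
    Matrix.of fun j q' => ∑ k, A j k 0 * N (k, j) (0, q') with hB
  have hWB : W * B = 1 := by
    ext q q'
    have h1 := congrFun (congrFun hMN ((0 : Fin a), q)) ((0 : Fin a), q')
    rw [Matrix.mul_apply, Fintype.sum_prod_type, Finset.sum_comm] at h1
    rw [Matrix.mul_apply]
    have h2 : (1 : Matrix (Fin a × Fin b) (Fin a × Fin b) F) ((0 : Fin a), q) ((0 : Fin a), q') =
        (1 : Matrix (Fin b) (Fin b) F) q q' := by
      simp [Matrix.one_apply]
    rw [← h2, ← h1]
    refine Finset.sum_congr rfl fun j _ => ?_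
    simp only [hW, hB, Matrix.of_apply, Finset.mul_sum]
    refine Finset.sum_congr rfl fun k _ => ?_
    rw [hMe]; ring
  have hBW : B * W = 1 := mul_eq_one_comm.mp hWB
  have hBWe : ∀ j' j, ∑ q, B j' q * w j q = if j' = j then 1 else 0 := by
    intro j' j
    have := congrFun (congrFun hBW j') j
    rw [Matrix.mul_apply] at this
    simpa [hW, Matrix.one_apply] using this
  -- some entry of `A j₀` is non-zero (else `M` has a zero column)
  have hA0 : ∃ k p, A j₀ k p ≠ 0 := by
    by_contra hcon
    push Not at hcon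
    have hcol : ∀ p q k, M (p, q) (k, j₀) = 0 := by
      intro p q k; rw [hMe, hcon, zero_mul]
    have h1 := congrFun (congrFun hNM ((0 : Fin a), j₀)) ((0 : Fin a), j₀)
    rw [Matrix.mul_apply] at h1
    have h2 : ∑ x, N ((0 : Fin a), j₀) x * M x ((0 : Fin a), j₀) = 0 :=
      Finset.sum_eq_zero fun x _ => by
        obtain ⟨p, q⟩ := x
        rw [hcol, mul_zero]
    rw [h2] at h1
    simp at h1
  obtain ⟨k₀, p₀, hk₀⟩ := hA0
  -- the star
  have hstar : ∀ j : Fin b, j ≠ j₀ → ∃ lam : F, ∀ k p, A j k p = lam * A j₀ k p := by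
    intro j hj
    obtain ⟨w', hw'⟩ := h2 j hj
    have hS : ∀ k : Fin a, ∃ s : Fin a → F, ∀ p q, s p * w' q =
        ∑ j', M (p, q) (k, j') * ((Pi.single j₀ (1 : F) + Pi.single j (1 : F) : Fin b → F)) j' :=
      fun k => t5_entry M _ _ hw' k
    choose S hS using hS
    have hS' : ∀ k p q, S k p * w' q = A j₀ k p * w j₀ q + A j k p * w j q := by
      intro k p q
      rw [hS k p q]
      simp only [Pi.add_apply, mul_add, Finset.sum_add_distrib]
      congr 1
      · rw [Finset.sum_eq_single j₀]
        · rw [hMe]; simp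
        · intro j' _ hj'; simp [hj']
        · intro h; exact absurd (Finset.mem_univ j₀) h
      · rw [Finset.sum_eq_single j]
        · rw [hMe]; simp
        · intro j' _ hj'; simp [hj']
        · intro h; exact absurd (Finset.mem_univ j) h
    set x : F := ∑ q, B j₀ q * w' q with hx
    set x' : F := ∑ q, B j q * w' q with hx'
    have e1 : ∀ k p, S k p * x = A j₀ k p := by
      intro k p
      calc S k p * x = ∑ q, B j₀ q * (S k p * w' q) := by
            rw [hx, Finset.mul_sum]
            refine Finset.sum_congr rfl fun q _ => ?_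
            ring
        _ = ∑ q, B j₀ q * (A j₀ k p * w j₀ q + A j k p * w j q) := by
            refine Finset.sum_congr rfl fun q _ => ?_
            rw [hS']
        _ = A j₀ k p * ∑ q, B j₀ q * w j₀ q + A j k p * ∑ q, B j₀ q * w j q := by
            simp only [mul_add, Finset.sum_add_distrib, Finset.mul_sum]
            congr 1 <;> exact Finset.sum_congr rfl fun q _ => by ring
        _ = A j₀ k p := by
            rw [hBWe, hBWe, if_pos rfl, if_neg (Ne.symm hj)]; ring
    have e2 : ∀ k p, S k p * x' = A j k p := by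
      intro k p
      calc S k p * x' = ∑ q, B j q * (S k p * w' q) := by
            rw [hx', Finset.mul_sum]
            refine Finset.sum_congr rfl fun q _ => ?_
            ring
        _ = ∑ q, B j q * (A j₀ k p * w j₀ q + A j k p * w j q) := by
            refine Finset.sum_congr rfl fun q _ => ?_
            rw [hS']
        _ = A j₀ k p * ∑ q, B j q * w j₀ q + A j k p * ∑ q, B j q * w j q := by
            simp only [mul_add, Finset.sum_add_distrib, Finset.mul_sum]
            congr 1 <;> exact Finset.sum_congr rfl fun q _ => by ring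
        _ = A j k p := by
            rw [hBWe, hBWe, if_pos rfl, if_neg hj]; ring
    have hx0 : x ≠ 0 := by
      intro h0
      apply hk₀
      rw [← e1 k₀ p₀, h0, mul_zero]
    refine ⟨x' / x, fun k p => ?_⟩
    rw [← e2 k p, ← e1 k p]
    field_simp
  choose lam hlam using hstar
  set β : Fin b → F := fun j => if h : j = j₀ then 1 else lam j h with hβ
  have hAS : ∀ j k p, A j k p = A j₀ k p * β j := by
    intro j k p
    by_cases hj : j = j₀
    · subst hj; simp [hβ]
    · simp only [hβ, dif_neg hj]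
      rw [hlam j hj k p]; ring
  set A' : Matrix (Fin a) (Fin a) F := Matrix.of fun p k => A j₀ k p with hA'
  set G : Matrix (Fin b) (Fin b) F := Matrix.of fun q j => β j * w j q with hG
  have hMK : M = A' ⊗ₖ G := by
    ext ⟨p, q⟩ ⟨k, j⟩
    rw [hMe, hAS, Matrix.kroneckerMap_apply]
    simp only [hA', hG, Matrix.of_apply]
    ring
  have hdet : IsUnit M.det := by
    rw [← Matrix.isUnit_iff_isUnit_det]
    exact y.isUnit
  rw [hMK, Matrix.det_kronecker, Fintype.card_fin, Fintype.card_fin, isUnit_iff_ne_zero] at hdet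
  have hA'u : IsUnit A'.det := by
    rw [isUnit_iff_ne_zero]
    intro h0
    apply hdet
    rw [h0, zero_pow (by omega), zero_mul]
  have hGu : IsUnit G.det := by
    rw [isUnit_iff_ne_zero]
    intro h0
    apply hdet
    rw [h0, zero_pow (by omega), mul_zero]
  exact ⟨Matrix.GeneralLinearGroup.mk'' A' hA'u, Matrix.GeneralLinearGroup.mk'' G hGu, hMK⟩

/-- **Star version of T5.**  `f` a basis of `B` (an independent family indexed by `Fin b`), `j₀` an index: if `y` maps
each `A ⊗ f_j` into a `B`-line, and for each `j ≠ j₀` some `A ⊗ (f_{j₀} + c f_j)` (`c ≠ 0`) into a `B`-line,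
then `y` is a Kronecker product. -/
theorem mem_kron_of_star (ha : 1 ≤ a) (hb : 1 ≤ b) (y : GL (Fin a × Fin b) F)
    (f : Fin b → Fin b → F) (hf : LinearIndependent F f) (j₀ : Fin b)
    (h1 : ∀ j : Fin b, ∃ w : Fin b → F, ∀ u : Fin a → F, y.val *ᵥ pt u (f j) ∈ Lv w)
    (h2 : ∀ j : Fin b, j ≠ j₀ → ∃ (c : F) (w : Fin b → F), c ≠ 0 ∧ ∀ u : Fin a → F,
      y.val *ᵥ pt u (f j₀ + c • f j) ∈ Lv w) :
    y ∈ kroneckerSubgroup a b F := by
  choose c w' hc hw' using h2
  set c' : Fin b → F := fun j => if h : j = j₀ then 1 else c j h with hc'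
  have hc'0 : ∀ j, c' j ≠ 0 := by
    intro j
    by_cases hj : j = j₀
    · simp [hc', hj]
    · simp only [hc', dif_neg hj]; exact hc j hj
  -- the matrix with columns `c' j • f j`
  set G₂ : Matrix (Fin b) (Fin b) F := Matrix.of fun q j => c' j * f j q with hG₂
  have hG₂col : ∀ j, G₂ *ᵥ (Pi.single j (1 : F)) = c' j • f j := by
    intro j
    funext q
    simp [hG₂, Matrix.mulVec, dotProduct, Pi.single_apply]
  have hG₂u : IsUnit G₂ := by
    rw [← Matrix.linearIndependent_cols_iff_isUnit]
    have h3 : G₂.col = fun j => c' j • f j := by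
      funext j q
      simp [hG₂, Matrix.col]
    rw [h3]
    exact hf.units_smul (w := fun j => Units.mk0 (c' j) (hc'0 j))
  have hG₂d : IsUnit G₂.det := (Matrix.isUnit_iff_isUnit_det _).mp hG₂u
  set g₂ : GL (Fin b) F := Matrix.GeneralLinearGroup.mk'' G₂ hG₂d with hg₂
  have hg₂v : (g₂ : Matrix (Fin b) (Fin b) F) = G₂ := rfl
  set k : GL (Fin a × Fin b) F := krGL (1 : GL (Fin a) F) g₂ with hk
  have hkv : ∀ (u : Fin a → F) (z : Fin b → F), k.val *ᵥ pt u z = pt u (G₂ *ᵥ z) := by
    intro u z
    rw [hk, krGL_val, kron_pt, hg₂v, Units.val_one, Matrix.one_mulVec]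
  have hyk : ∀ (u : Fin a → F) (z : Fin b → F),
      (y * k).val *ᵥ pt u z = y.val *ᵥ pt u (G₂ *ᵥ z) := by
    intro u z
    rw [Units.val_mul, ← Matrix.mulVec_mulVec, hkv]
  have hmem : y * k ∈ kroneckerSubgroup a b F := by
    refine mem_kron_of_star_std ha hb (y * k) j₀ ?_ ?_
    · intro j
      obtain ⟨w, hw⟩ := h1 j
      refine ⟨w, fun u => ?_⟩
      rw [hyk, hG₂col, pt_smul_right, Matrix.mulVec_smul]
      exact Submodule.smul_mem _ _ (hw u)
    · intro j hj
      refine ⟨w' j hj, fun u => ?_⟩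
      rw [hyk, Matrix.mulVec_add, hG₂col, hG₂col]
      have e1 : c' j₀ = 1 := by simp [hc']
      have e2 : c' j = c j hj := by simp [hc', hj]
      rw [e1, e2, one_smul]
      exact hw' j hj u
  have hkm : k ∈ kroneckerSubgroup a b F := krGL_mem_kron _ _
  have : y = (y * k) * k⁻¹ := by group
  rw [this]
  exact (kroneckerSubgroup a b F).mul_mem hmem ((kroneckerSubgroup a b F).inv_mem hkm)

end Cfsg.Agent.Lib.H29.Tp
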