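import Cfsg.Agent.Lib.H29.U62GChk
import Cfsg.Agent.Lib.H27.U62B

set_option autoImplicit false
set_option maxRecDepth 100000

/-!
# The `U6(2)` data in helper27's permutation model of `PSU₆(2)` on 693 points (helper29)

Piece (G) of helper16's plan for the Schur multiplier of `U6(2)`: three elements `am bm cm` of helper27's
permutation group `pd.G` with `Base am bm cm`.  All relators are checked in `Lib/H29/U62GChk.lean` by tracing the
693 points through the tables of `Lib/H29/U62GData.lean`; the stage 1 relators (alphabet `a a⁻¹ t t⁻¹ b b⁻¹`) are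
checked with the letter `t` of the table.  The template is helper6's `Lib/H6/U43M/GSide.lean`.
-/

namespace Cfsg.Agent.Lib.H29.U62G

open Equiv Cfsg.Agent.Lib.H27.LatW Cfsg.Agent.Lib.H27.PermK
open Cfsg.Agent.Lib.H27.U62 (pd card_G)
open Cfsg.Agent.Lib.H16.U62M
open Cfsg.Agent.Lib.H12.J3M (gl3 wv3 map_wv3)

/-- the seventh power of the word `dW` -/
def d7W : List ℕ := dW ++ (dW ++ (dW ++ (dW ++ (dW ++ (dW ++ dW)))))

theorem chk_d7 : chkE trA none d7W = true := by
  decide +kernel

theorem chk_t : chkE trA (some 12) tW = true := by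
  decide +kernel

/-- the words of `g₀ g₁ g₂` in `a b c` -/
def g0L : List ℕ := [0, 0, 0, 0, 3, 1, 3, 5, 5, 5, 5, 0, 2, 0, 2]
def g1L : List ℕ := [4, 0, 2, 0, 5, 2, 5, 0, 5, 2, 0, 5, 0, 4]
def g2L : List ℕ := [4, 2, 4, 3, 5, 0, 3, 4, 1, 1, 4, 1, 5]

theorem chk_g0 : chkE trA (some 0) g0L = true := by
  decide +kernel

theorem chk_g1 : chkE trA (some 1) g1L = true := by
  decide +kernel

theorem chk_g2 : chkE trA (some 2) g2L = true := by
  decide +kernel

theorem tP_eq : tP = wv3 aP bP cP tW := bp_eq_wvA 12 (by norm_num) tW chk_t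

/-! ## the elements of the group -/

theorem bp_mem_G (d : ℕ) : pd2.bp d ∈ pd.G := pd2_G_eq ▸ pd2.bp_mem d

/-- the generators in helper27's group -/
def aG : ↥pd.G := ⟨aP, bp_mem_G 6⟩
def bG : ↥pd.G := ⟨bP, bp_mem_G 8⟩
def cG : ↥pd.G := ⟨cP, bp_mem_G 10⟩

theorem coe_wv3 (w : List ℕ) : ((wv3 aG bG cG w : ↥pd.G) : Perm (Fin 693)) = wv3 aP bP cP w :=
  map_wv3 pd.G.subtype aG bG cG w

theorem wv3_mem_closure {K : Type*} [Group K] (x y z : K) (w : List ℕ) :
    wv3 x y z w ∈ Subgroup.closure ({x, y, z} : Set K) := by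
  unfold wv3
  apply Subgroup.list_prod_mem
  intro g hg
  obtain ⟨i, -, rfl⟩ := List.mem_map.1 hg
  have hx : x ∈ Subgroup.closure ({x, y, z} : Set K) := Subgroup.subset_closure (by simp)
  have hy : y ∈ Subgroup.closure ({x, y, z} : Set K) := Subgroup.subset_closure (by simp)
  have hz : z ∈ Subgroup.closure ({x, y, z} : Set K) := Subgroup.subset_closure (by simp)
  unfold gl3
  split
  · exact hx
  · exact inv_mem hx
  · exact hy
  · exact inv_mem hy
  · exact hz
  · exact inv_mem hz
  · exact one_mem _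

theorem G_le_closure : pd.G ≤ Subgroup.closure ({aP, bP, cP} : Set (Perm (Fin 693))) := by
  have h0 : pd2.bp 0 ∈ Subgroup.closure ({aP, bP, cP} : Set (Perm (Fin 693))) := by
    rw [bp_eq_wvA 0 (by norm_num) g0L chk_g0]
    exact wv3_mem_closure aP bP cP g0L
  have h1 : pd2.bp 1 ∈ Subgroup.closure ({aP, bP, cP} : Set (Perm (Fin 693))) := by
    rw [bp_eq_wvA 1 (by norm_num) g1L chk_g1]
    exact wv3_mem_closure aP bP cP g1L
  have h2 : pd2.bp 2 ∈ Subgroup.closure ({aP, bP, cP} : Set (Perm (Fin 693))) := by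
    rw [bp_eq_wvA 2 (by norm_num) g2L chk_g2]
    exact wv3_mem_closure aP bP cP g2L
  rw [← pd2_G_eq]
  unfold PD.G
  rw [Subgroup.closure_le]
  rintro σ ⟨d, hd, rfl⟩
  have h6 : d = 0 ∨ d = 1 ∨ d = 2 ∨ d = 3 ∨ d = 4 ∨ d = 5 := by omega
  rcases h6 with rfl | rfl | rfl | rfl | rfl | rfl
  · exact h0
  · exact h1
  · exact h2
  · have := pd2.bp_linv (by norm_num : 0 < 14)
    change pd2.bp 3 = (pd2.bp 0)⁻¹ at this
    rw [this]
    exact inv_mem h0
  · have := pd2.bp_linv (by norm_num : 1 < 14)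
    change pd2.bp 4 = (pd2.bp 1)⁻¹ at this
    rw [this]
    exact inv_mem h1
  · have := pd2.bp_linv (by norm_num : 2 < 14)
    change pd2.bp 5 = (pd2.bp 2)⁻¹ at this
    rw [this]
    exact inv_mem h2

theorem gen_G : Subgroup.closure ({aG, bG, cG} : Set ↥pd.G) = ⊤ := by
  rw [eq_top_iff]
  intro x _
  have hx : (x : Perm (Fin 693)) ∈ Subgroup.closure ({aP, bP, cP} : Set (Perm (Fin 693))) :=
    G_le_closure x.2
  have himg : (Subgroup.closure ({aG, bG, cG} : Set ↥pd.G)).map pd.G.subtype =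
      Subgroup.closure ({aP, bP, cP} : Set (Perm (Fin 693))) := by
    rw [MonoidHom.map_closure, Set.image_insert_eq, Set.image_insert_eq, Set.image_singleton]
    rfl
  rw [← himg] at hx
  obtain ⟨y, hy, hyx⟩ := hx
  have : y = x := Subtype.ext hyx
  rw [← this]
  exact hy

theorem aP_ne : aP ≠ 1 := by
  intro h
  have h1 := congrArg (fun σ : Perm (Fin 693) => ((σ 0 : Fin 693) : ℕ)) h
  simp only [aP] at h1
  rw [pd2.bp_apply (by norm_num : 6 < 14)] at h1
  revert h1
  decide +kernel

theorem tP_ne : tP ≠ 1 := by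
  intro h
  have h1 := congrArg (fun σ : Perm (Fin 693) => ((σ 0 : Fin 693) : ℕ)) h
  simp only [tP] at h1
  rw [pd2.bp_apply (by norm_num : 12 < 14)] at h1
  revert h1
  decide +kernel

theorem dP_ne : wv3 aP bP cP dW ≠ 1 := by
  intro h
  rw [wvA_perm dW (by decide) (by decide)] at h
  have h1 : ((pd2.ev (enc trA dW) 0 : Fin 693) : ℕ) = ((0 : Fin 693) : ℕ) := by
    rw [h]
    rfl
  rw [pd2.ev_apply (by decide +kernel) 0] at h1
  revert h1
  decide +kernel

theorem d7_eq : wv3 aP bP cP dW ^ 7 = 1 := by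
  have h := wvA_eq_one_of_chk d7W chk_d7
  unfold d7W at h
  simp only [wv3_append] at h
  rw [← h]
  simp only [pow_succ, pow_zero, one_mul, mul_assoc]

/-- the `U6(2)` data for helper27's permutation group -/
theorem base_G : Base aG bG cG where
  rel := by
    intro w hw
    apply Subtype.ext
    rw [coe_wv3]
    unfold RL at hw
    rcases List.mem_append.1 hw with h | h
    · exact wvA_eq_one_of_chk w (List.all_eq_true.1 chk_exC w h)
    · rcases List.mem_append.1 h with h | h
      · exact wvA_eq_one_of_chk w (List.all_eq_true.1 chk_symC w (List.mem_append_left _ h))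
      · rcases List.mem_append.1 h with h | h
        · obtain ⟨u, hu, rfl⟩ := List.mem_map.1 h
          rw [wv3_subW, ← tP_eq]
          exact wvB_eq_one_of_chk u (List.all_eq_true.1 chk_s1C u hu)
        · exact wvA_eq_one_of_chk w (List.all_eq_true.1 chk_symC w (List.mem_append_right _ h))
  gen := gen_G
  card := card_G
  a_ne := fun h => aP_ne (congrArg Subtype.val h)
  t_ne := by
    intro h
    have h1 := congrArg Subtype.val h
    rw [coe_wv3, ← tP_eq] at h1
    exact tP_ne h1
  d7 := by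
    apply Subtype.ext
    rw [Subgroup.coe_pow, coe_wv3]
    exact d7_eq
  d_ne := by
    intro h
    have h1 := congrArg Subtype.val h
    rw [coe_wv3] at h1
    exact dP_ne h1

/-- (G) the data in helper27's permutation model (693 points) -/
theorem exists_base_G : ∃ am bm cm : ↥Cfsg.Agent.Lib.H27.U62.pd.G, Base am bm cm :=
  ⟨aG, bG, cG, base_G⟩

end Cfsg.Agent.Lib.H29.U62G
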