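import Cfsg.Agent.Lib.H29.U62GDefs
import Cfsg.Agent.Lib.H16.U62M.Base

set_option autoImplicit false
set_option maxRecDepth 100000
set_option Elab.async false

/-!
# The relators of helper16's `U6(2)` data hold in helper27's permutation model (helper29)

The lists of relators are cut into chunks of at most 250 letters; every chunk is checked on its own by tracing the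
693 points (the kernel keeps all intermediate values of one declaration, so one check of everything needs 13 GB).
Generated by `tools/u62_h29/gen_gside.py` and `tools/u62_h29/emit_gside.py`.
-/

namespace Cfsg.Agent.Lib.H29.U62G

open Cfsg.Agent.Lib.H16.U62M

/-- chunk 0 of the exact relators of stage 2 -/
def exC0 : List (List ℕ) := [[0, 0, 0, 0, 0, 0, 0, 0, 0, 0, 0], [2, 2, 2, 2, 2, 2, 2, 2, 2, 2, 2], [4, 4, 4, 4, 4, 4, 4, 4, 4, 4, 4], [0, 2, 0, 2, 0, 2, 0, 2], [0, 3, 0, 3, 0, 3, 0, 3, 0, 3], [0, 2, 1, 3, 0, 2, 1, 3, 0, 2, 1, 3], [0, 0, 0, 0, 2, 2, 1, 1, 3, 3, 3, 3, 0, 3], [0, 0, 0, 0, 3, 0, 3, 3, 3, 3, 1, 1, 2, 2], [0, 0, 0, 2, 1, 2, 1, 2, 1, 3, 3, 3, 1, 1, 2, 2], [0, 0, 0, 2, 2, 1, 1,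 3, 3, 3, 1, 2, 1, 2, 1, 2], [0, 0, 2, 0, 2, 0, 2, 0, 0, 3, 0, 3, 0, 3, 0, 3], [0, 0, 2, 0, 2, 0, 2, 2, 0, 3, 1, 2, 0, 3, 1, 2], [0, 0, 2, 1, 3, 0, 2, 1, 3, 0, 2, 2, 0, 2, 0, 2], [0, 0, 2, 1, 3, 3, 1, 1, 3, 3, 1, 2, 0, 0, 2, 2], [0, 0, 3, 1, 2, 1, 2, 0, 3, 3, 0, 2, 1, 2, 1, 3], [0, 2, 0, 2, 0, 2, 2, 1, 2, 1, 2, 1, 2, 1, 2, 2], [0, 0, 0, 0, 0, 0, 0, 0, 0, 0, 3, 1, 3, 1, 3, 1, 3]]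

theorem chk_exC0 : exC0.all (chkE trA none) = true := by
  decide +kernel

/-- chunk 1 of the exact relators of stage 2 -/
def exC1 : List (List ℕ) := [[0, 0, 0, 0, 0, 0, 0, 2, 1, 2, 2, 2, 2, 0, 0, 3, 3], [0, 0, 0, 0, 0, 0, 0, 3, 3, 0, 0, 2, 2, 2, 2, 1, 2], [0, 0, 0, 0, 2, 2, 1, 1, 2, 2, 2, 2, 2, 2, 2, 0, 3], [0, 0, 0, 0, 3, 0, 2, 2, 2, 2, 2, 2, 2, 1, 1, 2, 2], [0, 2, 0, 2, 0, 2, 0, 3, 3, 3, 3, 3, 3, 3, 3, 3, 3], [0, 0, 0, 0, 0, 2, 1, 3, 1, 2, 0, 2, 1, 3, 3, 3, 3, 3], [0, 0, 0, 0, 0, 3, 3, 3, 3, 3, 1, 2, 0, 2, 1, 3, 1, 2], [0, 0, 0, 0, 2, 2, 1, 2, 0, 2, 0, 2, 0, 3, 3, 3, 0, 3], [0, 0, 0, 0, 3, 0, 3, 3, 3, 0, 2, 0, 2, 0, 2, 1, 2, 2], [0, 0, 0, 2, 0, 2, 1, 1, 2, 1, 1, 1, 3, 1, 3, 0, 0, 3],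 [0, 0, 0, 2, 0, 2, 1, 1, 2, 1, 1, 2, 0, 2, 0, 0, 0, 3], [0, 0, 0, 3, 0, 3, 3, 3, 3, 1, 1, 2, 1, 3, 1, 3, 1, 3], [0, 0, 0, 3, 1, 3, 1, 3, 1, 2, 1, 1, 3, 3, 3, 3, 0, 3], [0, 0, 2, 1, 3, 1, 2, 1, 2, 1, 3, 1, 2, 0, 0, 3, 0, 3]]

theorem chk_exC1 : exC1.all (chkE trA none) = true := by
  decide +kernel

/-- chunk 2 of the exact relators of stage 2 -/
def exC2 : List (List ℕ) := [[0, 0, 2, 1, 3, 3, 0, 3, 0, 3, 3, 1, 2, 0, 0, 3, 0, 3], [0, 0, 3, 0, 0, 3, 0, 0, 3, 0, 0, 3, 0, 0, 3, 0, 0, 3], [0, 0, 3, 0, 3, 0, 3, 0, 3, 3, 0, 2, 1, 3, 0, 2, 1, 3], [0, 0, 3, 0, 3, 0, 3, 3, 0, 0, 3, 1, 2, 1, 2, 0, 3, 3], [0, 0, 3, 1, 2, 0, 3, 1, 2, 0, 3, 3, 0, 3, 0, 3, 0, 3], [0, 0, 3, 3, 0, 2, 1, 2, 1, 3, 0, 0, 3,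 3, 0, 3, 0, 3], [0, 2, 0, 2, 2, 2, 1, 2, 2, 1, 3, 1, 3, 3, 3, 0, 3, 3], [0, 2, 0, 2, 2, 2, 1, 2, 2, 2, 0, 2, 0, 3, 3, 0, 3, 3], [0, 2, 0, 3, 0, 3, 0, 2, 0, 3, 1, 3, 0, 3, 0, 3, 1, 3], [0, 2, 1, 2, 1, 2, 0, 2, 1, 3, 3, 0, 3, 0, 3, 3, 1, 2], [0, 3, 3, 0, 3, 3, 0, 3, 3, 0, 3, 3, 0, 3, 3, 0, 3, 3], [0, 0, 0, 0, 0, 0, 0, 0, 0, 0, 2, 1, 2, 1, 2, 1, 2, 1, 2], [0, 0, 0, 0, 0, 0, 2, 2, 2, 2, 2, 0, 3, 1, 3, 0, 2, 0, 3]]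

theorem chk_exC2 : exC2.all (chkE trA none) = true := by
  decide +kernel

/-- chunk 3 of the exact relators of stage 2 -/
def exC3 : List (List ℕ) := [[0, 0, 0, 0, 0, 0, 3, 0, 2, 0, 3, 1, 3, 0, 2, 2, 2, 2, 2], [0, 0, 0, 0, 0, 2, 1, 3, 1, 2, 0, 2, 1, 2, 2, 2, 2, 2, 2], [0, 0, 0, 0, 0, 2, 2, 2, 2, 2, 2, 1, 2, 0, 2, 1, 3, 1, 2], [0, 2, 2, 2, 2, 2, 2, 2, 2, 2, 2, 0, 3, 0, 3, 0, 3, 0, 3], [0, 0, 0, 0, 0, 0, 0, 2, 1, 3, 3, 3, 3, 3, 3, 3, 0, 0, 3, 3], [0, 0, 0, 0, 0, 0, 0, 3, 3, 0, 0, 3, 3, 3, 3, 3, 3, 3, 1, 2], [0, 0, 0, 0, 0, 2, 0, 2, 0, 2, 0, 0, 3, 3, 3, 3, 1, 1, 2, 2], [0, 0, 0, 0, 0, 2, 1, 3, 1, 1, 3, 1, 3, 1, 1, 3, 3, 3, 3, 3], [0, 0, 0, 0, 0, 2, 2, 0, 2, 0, 2, 2, 0, 2, 1, 3, 3, 3, 3, 3],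 [0, 0, 0, 0, 0, 2, 2, 1, 1, 3, 3, 3, 3, 0, 0, 2, 0, 2, 0, 2], [0, 0, 0, 0, 0, 3, 3, 3, 3, 3, 1, 1, 3, 1, 3, 1, 1, 3, 1, 2], [0, 0, 0, 0, 0, 3, 3, 3, 3, 3, 1, 2, 0, 2, 2, 0, 2, 0, 2, 2]]

theorem chk_exC3 : exC3.all (chkE trA none) = true := by
  decide +kernel

/-- chunk 4 of the exact relators of stage 2 -/
def exC4 : List (List ℕ) := [[0, 0, 0, 0, 2, 0, 3, 0, 3, 0, 3, 0, 3, 1, 3, 3, 3, 3, 0, 3], [0, 0, 0, 0, 2, 1, 3, 1, 3, 1, 3, 1, 1, 1, 3, 3, 3, 3, 0, 3], [0, 0, 0, 0, 2, 2, 0, 0, 3, 0, 3, 3, 3, 3, 1, 1, 3, 3, 0, 3], [0, 0, 0, 0, 2, 2, 1, 1, 1, 2, 1, 1, 1, 1, 3, 3, 0, 0, 0, 3], [0, 0, 0, 0, 2, 2, 1, 1, 3, 0, 2, 0, 2, 0, 2, 0, 3, 3, 0, 3], [0, 0, 0, 0, 2, 2, 1, 1, 3, 3, 0, 2, 0, 2, 0, 2,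 0, 3, 0, 3], [0, 0, 0, 0, 2, 2, 1, 1, 3, 3, 3, 3, 3, 1, 3, 1, 3, 1, 3, 3], [0, 0, 0, 0, 2, 2, 2, 0, 2, 0, 2, 0, 2, 1, 3, 3, 3, 3, 0, 3], [0, 0, 0, 0, 3, 0, 0, 2, 0, 2, 0, 2, 0, 3, 3, 3, 1, 1, 2, 2], [0, 0, 0, 0, 3, 0, 3, 0, 2, 0, 2, 0, 2, 0, 3, 3, 1, 1, 2, 2], [0, 0, 0, 0, 3, 0, 3, 3, 0, 2, 0, 2, 0, 2, 0, 3, 1, 1, 2, 2], [0, 0, 0, 0, 3, 0, 3, 3, 1, 1, 3, 3, 3, 3, 0, 3, 0, 0, 2, 2]]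

theorem chk_exC4 : exC4.all (chkE trA none) = true := by
  decide +kernel

/-- chunk 5 of the exact relators of stage 2 -/
def exC5 : List (List ℕ) := [[0, 0, 0, 0, 3, 0, 3, 3, 3, 3, 1, 1, 1, 3, 1, 3, 1, 3, 1, 2], [0, 0, 0, 0, 3, 0, 3, 3, 3, 3, 1, 2, 0, 2, 0, 2, 0, 2, 2, 2], [0, 0, 0, 0, 3, 0, 3, 3, 3, 3, 1, 3, 0, 3, 0, 3, 0, 3, 0, 2], [0, 0, 0, 0, 3, 3, 1, 3, 1, 3, 1, 3, 3, 3, 3, 3, 1, 1, 2, 2], [0, 0, 0, 2, 0, 2, 0, 2, 2, 1, 2, 0, 3, 3, 0, 2, 1, 2, 1, 3], [0, 0, 0, 2, 1, 2, 1, 2, 1, 3, 3, 0, 2, 0, 2, 0, 2, 1, 2, 2], [0, 0, 0, 2, 2, 1, 1, 3, 3, 3, 3, 0, 3, 3, 1, 3, 1, 3, 1, 3], [0, 0, 0, 2, 2, 1, 2, 0, 2, 0, 2, 0, 3, 3, 1, 2, 1, 2, 1, 2], [0, 0, 0, 3, 1, 2, 1, 2, 0, 3, 3, 0, 2, 1, 2, 2,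 0, 2, 0, 2], [0, 0, 0, 3, 1, 3, 1, 3, 1, 3, 3, 0, 3, 3, 3, 3, 1, 1, 2, 2], [0, 0, 2, 0, 2, 0, 0, 2, 0, 3, 0, 3, 0, 2, 0, 3, 1, 3, 0, 3], [0, 0, 2, 0, 2, 0, 0, 3, 0, 3, 1, 3, 0, 2, 0, 3, 0, 3, 0, 2]]

theorem chk_exC5 : exC5.all (chkE trA none) = true := by
  decide +kernel

/-- chunk 6 of the exact relators of stage 2 -/
def exC6 : List (List ℕ) := [[0, 0, 2, 0, 2, 0, 2, 1, 1, 3, 3, 0, 0, 2, 2, 2, 0, 3, 0, 3], [0, 0, 2, 0, 2, 0, 2, 2, 2, 1, 3, 0, 3, 0, 2, 1, 1, 2, 0, 3], [0, 0, 2, 0, 2, 1, 3, 0, 2, 0, 2, 1, 3, 1, 3, 0, 2, 2, 0, 2], [0, 0, 2, 0, 2, 1, 3, 0, 2, 0, 2, 2, 0, 2, 0, 0, 2, 2, 0, 2], [0, 0, 2, 0, 2, 1, 3, 0, 2, 2, 0, 2, 0, 3, 1, 1, 3, 0, 2, 2], [0, 0, 2, 0, 2, 1, 3, 1, 3, 3, 1, 1,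 3, 1, 3, 3, 1, 3, 1, 2], [0, 0, 2, 0, 2, 1, 3, 1, 3, 3, 1, 2, 0, 2, 0, 0, 2, 0, 2, 2], [0, 0, 2, 0, 2, 1, 3, 1, 3, 3, 1, 2, 0, 2, 0, 3, 1, 3, 1, 2], [0, 0, 2, 0, 2, 1, 3, 3, 1, 1, 3, 0, 2, 0, 2, 2, 0, 0, 2, 2], [0, 0, 2, 0, 2, 1, 3, 3, 1, 1, 3, 3, 1, 3, 1, 2, 0, 0, 2, 2], [0, 0, 2, 0, 2, 1, 3, 3, 1, 2, 0, 0, 2, 1, 3, 1, 3, 3, 1, 2], [0, 0, 2, 0, 2, 1, 3, 3, 1, 2, 0, 0, 2, 2, 0, 2, 0, 3, 1, 2]]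

theorem chk_exC6 : exC6.all (chkE trA none) = true := by
  decide +kernel

/-- chunk 7 of the exact relators of stage 2 -/
def exC7 : List (List ℕ) := [[0, 0, 2, 0, 2, 1, 3, 3, 1, 3, 1, 2, 0, 2, 0, 0, 2, 2, 0, 2], [0, 0, 2, 0, 2, 2, 0, 0, 2, 0, 2, 2, 0, 0, 2, 1, 3, 0, 2, 2], [0, 0, 2, 0, 2, 2, 0, 0, 2, 0, 2, 2, 0, 2, 0, 3, 1, 2, 0, 2], [0, 0, 2, 0, 2, 2, 0, 0, 2, 1, 3, 0, 2, 2, 0, 3, 1, 3, 1, 2], [0, 0, 2, 0, 2, 2, 0, 2, 0, 3, 1, 1, 3, 1, 3, 0, 2, 0, 2, 2], [0, 0, 2, 0, 2, 2, 0, 2, 0, 3, 1, 2, 0, 2, 0, 3, 1, 3, 1, 2], [0, 0, 2, 0, 2, 2, 0, 3, 1, 3, 1, 2, 0, 0, 2, 1, 3, 0, 2, 2], [0, 0, 2, 0, 2, 2, 0, 3, 1, 3, 1, 2, 0, 2, 0, 3, 1, 2, 0, 2], [0, 0, 2, 1, 2, 1, 2, 1, 3, 3, 3, 1, 1, 2, 1, 3,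 1, 3, 1, 3], [0, 0, 2, 1, 3, 0, 2, 0, 2, 2, 0, 0, 2, 1, 3, 3, 1, 2, 0, 2], [0, 0, 2, 1, 3, 0, 2, 2, 0, 3, 1, 1, 3, 0, 2, 1, 3, 3, 1, 2], [0, 0, 2, 1, 3, 0, 2, 2, 0, 3, 1, 3, 1, 2, 0, 3, 1, 3, 1, 2]]

theorem chk_exC7 : exC7.all (chkE trA none) = true := by
  decide +kernel

/-- chunk 8 of the exact relators of stage 2 -/
def exC8 : List (List ℕ) := [[0, 0, 2, 1, 3, 1, 2, 1, 2, 2, 0, 2, 0, 2, 2, 0, 0, 3, 0, 3], [0, 0, 2, 1, 3, 1, 3, 0, 2, 0, 2, 1, 3, 0, 2, 0, 2, 2, 0, 2], [0, 0, 2, 1, 3, 1, 3, 0, 2, 1, 3, 1, 3, 0, 2, 2, 0, 3, 1, 2], [0, 0, 2, 1, 3, 1, 3, 0, 2, 2, 0, 2, 0, 0, 2, 2, 0, 3, 1, 2], [0, 0, 2, 1, 3, 1, 3, 0, 2, 2, 0, 3, 1, 2, 0, 0, 2, 2, 0, 2], [0, 0, 2, 1, 3, 1, 3, 1, 3, 0, 2, 1,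 3, 3, 1, 1, 3, 3, 1, 2], [0, 0, 2, 1, 3, 1, 3, 1, 3, 3, 1, 1, 3, 3, 1, 1, 3, 0, 2, 2], [0, 0, 2, 1, 3, 1, 3, 3, 1, 1, 3, 3, 1, 2, 0, 2, 0, 0, 2, 2], [0, 0, 2, 1, 3, 3, 1, 1, 3, 1, 3, 0, 2, 1, 3, 3, 1, 3, 1, 2], [0, 0, 2, 1, 3, 3, 1, 1, 3, 3, 1, 2, 0, 3, 1, 3, 1, 3, 1, 2], [0, 0, 2, 1, 3, 3, 1, 2, 0, 2, 0, 0, 2, 1, 3, 3, 1, 3, 1, 2], [0, 0, 2, 2, 0, 2, 0, 0, 2, 2, 0, 2, 0, 0, 2, 2, 0, 3, 1, 2]]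

theorem chk_exC8 : exC8.all (chkE trA none) = true := by
  decide +kernel

/-- chunk 9 of the exact relators of stage 2 -/
def exC9 : List (List ℕ) := [[0, 0, 2, 2, 0, 2, 0, 2, 2, 1, 2, 1, 3, 1, 2, 0, 0, 3, 0, 3], [0, 0, 2, 2, 1, 1, 3, 3, 3, 1, 2, 1, 2, 1, 1, 3, 1, 3, 1, 3], [0, 0, 2, 2, 2, 2, 1, 2, 1, 1, 2, 0, 2, 0, 2, 0, 2, 1, 3, 3], [0, 0, 2, 2, 2, 2, 1, 2, 2, 2, 1, 1, 3, 3, 3, 3, 0, 3, 3, 3], [0, 0, 3, 0, 2, 0, 2, 0, 2, 1, 1, 3, 0, 3, 0, 3, 0, 2, 2, 2], [0, 0, 3, 0, 2, 1, 1, 2, 0, 3, 0, 3, 1, 2, 2, 2, 0, 2, 0, 2], [0, 0, 3, 0, 3, 0, 3, 3, 0, 0, 3, 3, 0, 3, 0, 3, 0, 0, 3, 3], [0, 0, 3, 0, 3, 3, 0, 0, 3, 0, 3, 3, 0, 3, 0, 0, 3, 3, 0, 3], [0, 0, 3, 1, 2, 0, 3, 1, 2, 1, 2, 0, 3, 0, 3, 1,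 2, 2, 1, 3], [0, 0, 3, 1, 2, 1, 2, 0, 3, 0, 3, 1, 2, 0, 3, 1, 2, 2, 1, 3], [0, 0, 3, 1, 2, 2, 1, 3, 0, 2, 1, 3, 0, 3, 0, 2, 1, 2, 1, 3], [0, 0, 3, 1, 3, 1, 3, 1, 3, 0, 2, 2, 1, 1, 3, 3, 3, 3, 0, 3]]

theorem chk_exC9 : exC9.all (chkE trA none) = true := by
  decide +kernel

/-- chunk 10 of the exact relators of stage 2 -/
def exC10 : List (List ℕ) := [[0, 0, 3, 3, 0, 0, 3, 3, 0, 0, 3, 3, 0, 0, 3, 3, 0, 0, 3, 3], [0, 2, 0, 2, 2, 0, 2, 1, 2, 1, 2, 0, 2, 1, 3, 1, 2, 1, 2, 2], [0, 2, 0, 2, 2, 1, 2, 1, 3, 1, 2, 0, 2, 1, 2, 1, 2, 0, 2, 2], [0, 2, 0, 3, 0, 3, 1, 3, 0, 3, 0, 2, 0, 3, 0, 3, 1, 3, 0, 3]]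

theorem chk_exC10 : exC10.all (chkE trA none) = true := by
  decide +kernel

theorem exC_split : C2.exactL = exC0 ++ (exC1 ++ (exC2 ++ (exC3 ++ (exC4 ++ (exC5 ++ (exC6 ++ (exC7 ++ (exC8 ++ (exC9 ++ (exC10)))))))))) := by
  decide +kernel

theorem chk_exC : (C2.exactL).all (chkE trA none) = true := by
  rw [exC_split]
  simp only [List.all_append, chk_exC0, chk_exC1, chk_exC2, chk_exC3, chk_exC4, chk_exC5, chk_exC6, chk_exC7, chk_exC8, chk_exC9, chk_exC10, Bool.and_self]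

/-- chunk 0 of the symbol relators of stage 2 and the two additional relators -/
def symC0 : List (List ℕ) := [[0, 4, 0, 4], [4, 3, 0, 2, 0, 2, 2, 5, 1, 3, 3, 1, 3, 1, 2, 0], [0, 0, 0, 5, 3, 0, 0, 3, 0, 0, 0, 5, 3, 0, 0, 3], [4, 1, 2, 1, 3, 1, 3, 3, 0, 5, 1, 1, 2, 2, 0, 2, 0, 3, 0, 0], [4, 3, 1, 1, 3, 1, 3, 0, 2, 5, 1, 3, 1, 2, 0, 2, 0, 0, 2, 0], [0, 2, 0, 2, 2, 1, 2, 5, 0, 2, 1, 3, 4, 3, 3, 1, 3, 3], [4, 0, 2, 0, 3, 1, 2, 1, 3, 5, 3, 0, 3, 3, 1, 3, 0, 2, 2, 1, 1], [4, 1, 2, 2, 2, 1, 1, 2, 0, 0, 3, 5, 0, 3, 0, 2, 1, 2, 2, 2, 1, 1], [4, 2, 0, 3, 3, 0, 0, 0, 3, 1, 2, 5, 3, 3, 0, 0, 0, 2, 0, 3, 0, 2], [0, 2, 0, 2, 5, 3, 1, 2, 0, 4, 3, 1, 3, 4, 3, 0, 2, 4], [0, 2, 0, 3, 3, 5, 0, 3, 5, 2, 1,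 3, 5, 2, 5, 2, 5, 2], [0, 3, 1, 3, 0, 3, 1, 3, 0, 2, 1, 1, 1, 3, 0, 2, 0, 0, 0, 3, 1, 2, 0, 2, 1, 2, 0, 2, 1, 3, 3, 3, 3]]

theorem chk_symC0 : symC0.all (chkE trA none) = true := by
  decide +kernel

/-- chunk 1 of the symbol relators of stage 2 and the two additional relators -/
def symC1 : List (List ℕ) := [[0, 0, 5, 2, 1, 4, 2, 5, 3, 5, 5, 0, 4, 4, 2, 4, 3, 5, 0, 3, 4, 1, 1, 5]]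

theorem chk_symC1 : symC1.all (chkE trA none) = true := by
  decide +kernel

theorem symC_split : (C2.symL ++ C2.cenL) ++ xL = symC0 ++ (symC1) := by
  decide +kernel

theorem chk_symC : ((C2.symL ++ C2.cenL) ++ xL).all (chkE trA none) = true := by
  rw [symC_split]
  simp only [List.all_append, chk_symC0, chk_symC1, Bool.and_self]

/-- chunk 0 of the relators of stage 1 -/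
def s1C0 : List (List ℕ) := [[0, 0, 0, 0, 0, 0, 0, 0, 0, 0, 0], [2, 2, 2, 2, 2], [2, 0, 3, 1, 1, 1], [4, 4, 4, 4, 4, 4, 4, 4, 4, 4, 4], [0, 4, 0, 4, 0, 4, 0, 4], [0, 5, 0, 5, 0, 5, 0, 5, 0, 5], [0, 4, 1, 5, 0, 4, 1, 5, 0, 4, 1, 5], [0, 0, 4, 4, 4, 4, 1, 4, 3, 1, 2, 5, 5], [0, 3, 4, 3, 4, 2, 5, 3, 4, 1, 4, 4, 2], [0, 0, 5, 5, 3, 1, 2, 4, 1, 4, 4, 4, 4], [0, 0, 2, 5, 5, 5, 0, 4, 3, 0, 4, 4, 0, 4], [0, 0, 4, 1, 4, 3, 3, 4, 0, 3, 3, 4, 2, 4], [0, 0, 4, 2, 2, 4, 4, 2, 0, 2, 5, 1, 1, 5], [0, 3, 0, 4, 0, 4, 4, 1, 2, 4, 0, 5, 5, 5], [0, 0, 4, 1, 1, 5, 2, 0, 2, 5, 5, 2, 2, 4], [0, 2, 1, 5, 5, 0, 4, 0, 5, 5, 1, 3, 3, 4, 2], [0, 0, 3, 3, 4, 4, 1, 4, 2, 0, 5, 5, 1, 1, 5], [0, 3, 3, 5, 5, 0, 5, 1, 2,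 2, 5, 5, 3, 4, 4], [0, 0, 3, 4, 2, 5, 2, 5, 0, 5, 3, 1, 4, 4, 3], [0, 0, 4, 3, 3, 0, 5, 5, 0, 5, 2, 0, 0, 4, 4]]

theorem chk_s1C0 : s1C0.all (chkE trB none) = true := by
  decide +kernel

/-- chunk 1 of the relators of stage 1 -/
def s1C1 : List (List ℕ) := [[0, 0, 5, 2, 4, 2, 0, 3, 4, 0, 5, 2, 4, 3, 5], [0, 0, 5, 3, 4, 1, 4, 1, 2, 1, 5, 1, 2, 5, 2], [0, 2, 5, 5, 2, 2, 4, 1, 4, 0, 5, 0, 5, 5, 5], [0, 2, 5, 1, 4, 4, 2, 1, 2, 4, 3, 4, 4, 1, 4], [0, 3, 4, 3, 4, 2, 1, 5, 3, 3, 4, 4, 4, 4, 4], [0, 0, 5, 3, 4, 2, 4, 1, 3, 4, 1, 5, 0, 2, 5], [0, 0, 5, 3, 5, 0, 2, 5, 5, 0, 2, 2, 5, 1, 4], [0, 2, 5, 5, 0, 5, 5, 3, 4, 0, 4, 2, 5, 5, 2], [0, 5, 5, 2, 4, 4, 2, 5, 5, 3, 5, 3, 3, 4, 4], [0, 4, 4, 1, 2,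 4, 3, 5, 5, 1, 4, 4, 2, 5, 2], [0, 0, 4, 4, 1, 3, 3, 4, 3, 4, 2, 5, 5, 0, 4, 4], [0, 2, 4, 3, 0, 2, 4, 3, 0, 5, 1, 5, 1, 2, 4, 3], [0, 2, 4, 2, 5, 0, 2, 4, 2, 5, 0, 2, 4, 2, 5], [0, 0, 2, 4, 1, 2, 4, 2, 0, 4, 3, 0, 0, 5, 0, 5], [0, 3, 0, 4, 0, 4, 2, 1, 4, 2, 0, 4, 0, 4, 3, 5], [0, 2, 4, 3, 4, 3, 4, 2, 1, 3, 4, 0, 4, 4, 4, 3]]

theorem chk_s1C1 : s1C1.all (chkE trB none) = true := by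
  decide +kernel

/-- chunk 2 of the relators of stage 1 -/
def s1C2 : List (List ℕ) := [[0, 0, 4, 4, 1, 5, 5, 1, 4, 4, 1, 3, 4, 1, 4, 2], [0, 2, 4, 4, 1, 5, 0, 5, 2, 2, 0, 4, 0, 3, 3, 5], [0, 3, 0, 5, 5, 3, 0, 5, 5, 3, 3, 4, 4, 4, 3, 4], [0, 0, 3, 5, 2, 0, 0, 5, 5, 1, 3, 5, 0, 2, 0, 5], [0, 0, 0, 5, 2, 0, 4, 4, 1, 1, 5, 1, 4, 3, 5, 5], [0, 3, 5, 3, 4, 3, 4, 0, 5, 1, 3, 0, 5, 5, 0, 5], [0, 0, 5, 0, 5, 3, 5, 5, 2, 5, 0, 5, 3, 3, 0, 4], [0, 0, 0, 0, 3, 1, 2], [0, 0, 2, 2, 0, 3, 3], [0, 2, 1, 2, 1, 3, 3], [0, 2, 0, 3, 3, 1, 2], [0, 0, 0, 3, 0, 0, 2], [0, 0, 3, 3, 0, 2, 0, 2], [0, 0, 3, 0, 3, 0, 2, 2], [0, 0, 3, 3, 3, 0, 3, 3], [0, 0, 2, 2, 0, 2, 2, 2], [0, 2, 0, 2, 2, 2, 1, 2], [0, 2, 1, 2,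 1, 2, 2, 2], [0, 0, 4, 4, 4, 4, 1, 4, 2, 1, 3, 1, 5, 5], [0, 2, 0, 3, 5, 0, 5, 5, 5, 5, 2, 1, 3, 0, 4, 4], [0, 0, 0, 0, 5, 0, 5, 5, 5, 5, 1, 1, 4, 4]]

theorem chk_s1C2 : s1C2.all (chkE trB none) = true := by
  decide +kernel

/-- chunk 3 of the relators of stage 1 -/
def s1C3 : List (List ℕ) := [[0, 0, 4, 4, 4, 4, 1, 4, 1, 2, 1, 3, 5, 5], [0, 0, 0, 4, 3, 4, 2, 5, 3, 4, 1, 4, 4], [0, 0, 0, 4, 3, 4, 2, 5, 2, 2, 2, 2, 4, 1, 4, 4], [0, 0, 0, 4, 3, 4, 3, 3, 3, 3, 5, 3, 4, 1, 4, 4], [0, 0, 0, 4, 2, 2, 2, 2, 4, 2, 5, 3, 4, 1, 4, 4], [0, 3, 4, 2, 5, 3, 4, 0, 4, 4, 4, 0, 5, 0, 5], [0, 4, 4, 4, 4, 1, 4, 1, 4, 3, 4, 2, 5, 3, 4], [0, 0, 0, 4, 1, 4, 1, 4, 1, 5, 5, 5, 1, 1, 4, 4], [0, 2, 0, 3, 1, 2, 1,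 3], [0, 0, 0, 0, 4, 4, 1, 1, 5, 5, 5, 5, 0, 5], [0, 0, 5, 5, 1, 2, 1, 3, 4, 1, 4, 4, 4, 4], [0, 0, 5, 5, 2, 1, 3, 1, 4, 1, 4, 4, 4, 4], [0, 0, 0, 0, 4, 4, 0, 2, 1, 3, 5, 5, 5, 5, 0, 5], [0, 0, 3, 0, 4, 1, 4, 4, 4, 4, 0, 0, 5, 5, 2], [0, 2, 4, 4, 2, 1, 3, 0, 5, 5, 5, 5, 0, 5, 3], [0, 0, 5, 5, 5, 5, 5, 5, 5, 1, 4, 3, 1, 2, 5, 5], [0, 4, 1, 2, 0, 5, 5, 5, 0, 4, 3, 0, 4, 4]]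

theorem chk_s1C3 : s1C3.all (chkE trB none) = true := by
  decide +kernel

/-- chunk 4 of the relators of stage 1 -/
def s1C4 : List (List ℕ) := [[0, 0, 2, 1, 5, 1, 4, 4, 4, 1, 3, 0, 5, 1, 5, 5], [0, 2, 5, 5, 5, 0, 4, 3, 0, 4, 1, 5, 1, 5], [0, 0, 2, 1, 5, 1, 4, 4, 4, 3, 1, 4, 0, 4, 0, 5], [0, 0, 0, 3, 5, 1, 5, 5, 1, 2, 5, 1, 4, 4, 4], [0, 0, 4, 1, 4, 2, 2, 2, 4, 0, 3, 3, 4, 2, 4], [0, 0, 4, 1, 4, 3, 3, 4, 0, 2, 2, 2, 4, 2, 4], [0, 0, 4, 0, 3, 3, 1, 5, 5, 3, 3, 5, 1, 1, 4], [0, 0, 4, 2, 2, 4, 4, 2, 0, 2, 5, 0, 2, 1, 3, 5], [0, 3, 5, 1, 5, 1, 4, 1, 2, 4, 0, 5, 5, 5], [0, 0, 2, 1, 4, 0, 5, 5, 5, 0, 3, 5, 1, 5, 1, 4], [0, 0, 0, 5, 1, 5, 1, 4, 1, 2, 4, 0, 5, 5, 5, 3], [0, 2, 4, 0, 4, 4, 1, 2,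 4, 0, 5, 5, 5, 3, 3], [0, 2, 5, 5, 2, 5, 2, 2, 1, 5, 2, 2, 5, 1, 5, 2], [0, 0, 4, 1, 1, 5, 0, 2, 2, 1, 5, 5, 2, 2, 4], [0, 0, 3, 3, 0, 4, 0, 0, 5, 1, 1, 5, 3, 3, 4, 4], [0, 0, 2, 2, 5, 2, 2, 5, 0, 5, 1, 1, 5, 3, 5]]

theorem chk_s1C4 : s1C4.all (chkE trB none) = true := by
  decide +kernel

/-- chunk 5 of the relators of stage 1 -/
def s1C5 : List (List ℕ) := [[0, 0, 3, 4, 0, 0, 5, 1, 1, 5, 3, 3, 4, 4, 1, 3], [0, 0, 4, 1, 1, 5, 3, 3, 0, 3, 0, 5, 5, 2, 2, 4], [0, 3, 5, 5, 0, 4, 0, 5, 5, 1, 3, 3, 4, 3, 3], [0, 2, 5, 2, 2, 0, 4, 4, 1, 5, 1, 4, 4, 1, 2, 2], [0, 0, 3, 5, 2, 2, 0, 4, 4, 1, 5, 1, 4, 4, 3], [0, 0, 4, 2, 0, 2, 1, 5, 5, 0, 4, 0, 5, 5, 3, 3], [0, 0, 4, 4, 1, 3, 5, 0, 5, 5, 0, 2, 0,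 2, 4], [0, 0, 4, 4, 1, 3, 5, 0, 5, 5, 3, 0, 2, 2, 2, 4], [0, 0, 4, 4, 1, 3, 5, 0, 5, 5, 3, 0, 3, 3, 4], [0, 0, 4, 4, 1, 3, 5, 0, 5, 5, 3, 3, 1, 3, 0, 4], [0, 3, 0, 4, 3, 5, 2, 5, 1, 2, 2, 5, 5, 2, 4, 4], [0, 3, 0, 3, 4, 1, 4, 4, 2, 2, 1, 5, 5, 2, 4, 4], [0, 2, 2, 0, 5, 5, 3, 4, 4, 0, 3, 3, 5, 5, 0, 5], [0, 3, 3, 5, 5, 0, 5, 1, 3, 3, 3, 5, 5, 3, 4, 4], [0, 2, 5, 5, 2, 4, 4, 3, 3, 0, 4, 1, 4, 4, 1, 2]]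

theorem chk_s1C5 : s1C5.all (chkE trB none) = true := by
  decide +kernel

/-- chunk 6 of the relators of stage 1 -/
def s1C6 : List (List ℕ) := [[0, 2, 4, 1, 4, 3, 4, 3, 5, 3, 3, 0, 3, 5, 5], [0, 4, 4, 1, 5, 2, 4, 1, 4, 3, 4, 3, 5, 5, 2, 2], [0, 2, 4, 1, 4, 3, 4, 3, 5, 3, 1, 3, 3, 0, 5, 5], [0, 0, 3, 3, 1, 4, 2, 5, 2, 5, 0, 5, 3, 1, 4, 4], [0, 2, 4, 1, 4, 3, 4, 3, 5, 1, 2, 1, 2, 0, 5, 5], [0, 2, 4, 2, 2, 4, 4, 3, 4, 4, 4, 4, 1, 5, 0, 5], [0, 0, 3, 4, 4, 0, 0, 4, 3, 0, 2, 5, 5, 2, 4, 4], [0, 0, 4, 2, 2, 0, 2, 4, 3, 4, 2, 5, 0, 0, 4, 4], [0, 0, 4, 3, 0, 3, 0, 4, 3, 4, 2, 5, 0, 0, 4, 4], [0, 0, 0, 5, 5, 0, 2, 4, 1, 4, 3, 4, 3, 5, 2, 2], [0, 0, 4, 0, 3, 0, 3, 5, 5, 0, 5, 2, 0, 0, 4, 4], [0,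 0, 4, 1, 3, 3, 1, 5, 5, 0, 5, 2, 0, 0, 4, 4], [0, 0, 4, 1, 4, 4, 1, 2, 2, 5, 1, 1, 5, 5, 0, 3], [0, 0, 4, 2, 1, 3, 0, 5, 2, 0, 2, 5, 5, 2, 2, 4], [0, 0, 0, 4, 4, 4, 2, 0, 3, 4, 0, 3, 1, 5, 2, 4]]

theorem chk_s1C6 : s1C6.all (chkE trB none) = true := by
  decide +kernel

/-- chunk 7 of the relators of stage 1 -/
def s1C7 : List (List ℕ) := [[0, 0, 0, 4, 0, 3, 1, 5, 2, 4, 0, 0, 0, 4, 4, 4], [0, 0, 0, 4, 3, 0, 0, 5, 2, 4, 0, 0, 0, 4, 4, 4], [0, 0, 0, 4, 0, 3, 1, 5, 2, 4, 2, 0, 3, 4, 4, 4], [0, 0, 3, 1, 4, 3, 0, 4, 0, 3, 0, 5, 0, 5, 2, 4], [0, 0, 5, 3, 4, 1, 4, 3, 1, 2, 2, 5, 1, 2, 5, 2], [0, 0, 5, 1, 2, 5, 2, 0, 0, 5, 3, 4, 1, 4, 0, 2], [0, 2, 5, 0, 5, 1, 4, 1, 4, 4, 4, 2, 1, 4, 4, 2], [0,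 0, 5, 2, 1, 3, 4, 0, 5, 0, 5, 5, 5, 3, 4], [0, 0, 0, 4, 1, 1, 5, 2, 4, 4, 4, 1, 4, 1, 5], [0, 0, 4, 3, 4, 4, 1, 3, 3, 5, 0, 4, 4, 2, 5, 2], [0, 2, 5, 0, 5, 5, 5, 5, 2, 1, 3, 0, 4, 4, 3], [0, 0, 0, 0, 5, 0, 5, 5, 5, 5, 2, 1, 3, 0, 4, 4], [0, 2, 0, 5, 5, 1, 3, 3, 4, 3, 4, 3, 4, 4, 1, 4], [0, 2, 5, 1, 4, 4, 1, 2, 2, 0, 4, 3, 4, 4, 1, 4], [0, 5, 2, 4, 1, 5, 3, 3, 4, 4, 4, 4, 4, 3, 5, 5]]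

theorem chk_s1C7 : s1C7.all (chkE trB none) = true := by
  decide +kernel

/-- chunk 8 of the relators of stage 1 -/
def s1C8 : List (List ℕ) := [[0, 3, 4, 3, 4, 2, 1, 5, 3, 3, 5, 5, 5, 5, 5, 5], [0, 2, 2, 1, 5, 5, 0, 5, 5, 3, 4, 0, 4, 2, 5, 5], [0, 0, 4, 3, 4, 4, 2, 5, 5, 1, 1, 3, 3, 5, 3, 5], [0, 0, 4, 3, 4, 4, 2, 5, 5, 3, 0, 3, 0, 5, 3, 5], [0, 0, 4, 3, 4, 4, 2, 5, 5, 2, 2, 0, 2, 5, 3, 5], [0, 0, 5, 0, 2, 1, 3, 5, 3, 3, 4, 4, 3, 1, 3, 4], [0, 2, 1, 5, 0, 5, 0, 4, 0, 4, 1, 4, 2, 5, 5, 2], [0, 0, 3, 4, 4, 3, 5, 0, 5, 1, 5, 1, 4, 1, 4, 3], [0, 3, 5, 0, 5, 0, 4, 0, 4, 1, 4, 2, 5, 5, 3, 3], [0, 0, 4, 0, 4, 4, 1, 4, 0, 3, 1, 3, 4, 4, 3, 5], [0, 4, 2, 5, 5, 3, 5, 2, 4, 1, 4, 1, 4, 2, 2, 5],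 [0, 3, 4, 0, 4, 1, 2, 4, 4, 2, 2, 4, 4, 1, 4, 4], [0, 2, 2, 5, 0, 4, 2, 5, 5, 3, 5, 2, 0, 5, 0, 5], [0, 0, 5, 1, 4, 1, 4, 0, 5, 5, 0, 4, 1, 4, 1, 5], [0, 2, 4, 0, 4, 1, 2, 4, 4, 2, 4, 0, 4, 2, 5, 5]]

theorem chk_s1C8 : s1C8.all (chkE trB none) = true := by
  decide +kernel

/-- chunk 9 of the relators of stage 1 -/
def s1C9 : List (List ℕ) := [[0, 0, 4, 4, 4, 1, 5, 3, 0, 5, 5, 1, 5, 0, 2], [0, 0, 5, 5, 3, 1, 2, 4, 1, 5, 5, 5, 5, 5, 5, 5], [0, 3, 0, 5, 2, 2, 0, 4, 4, 1, 5, 1, 4, 4, 1, 3], [0, 0, 5, 0, 3, 0, 4, 3, 4, 1, 2, 2, 5, 0, 3, 4], [0, 0, 2, 4, 1, 4, 4, 4, 4, 0, 0, 5, 5, 1, 3], [0, 0, 3, 5, 5, 0, 0, 4, 4, 4, 4, 1, 4, 0, 2], [0, 0, 5, 5, 1, 3, 1, 2, 0, 4, 1, 4, 4, 4, 4], [0, 0, 4, 3,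 0, 4, 0, 3, 0, 5, 0, 5, 2, 4, 0, 3], [0, 0, 4, 1, 5, 5, 1, 1, 5, 5, 1, 4, 0, 0, 4, 4], [0, 0, 4, 4, 3, 3, 1, 5, 5, 0, 5, 2, 5, 0, 4, 4], [0, 2, 1, 2, 4, 4, 1, 5, 1, 4, 4, 0, 3, 1, 3, 5], [0, 0, 4, 1, 5, 0, 4, 1, 5, 0, 4, 4, 0, 4, 0, 4], [0, 2, 1, 5, 3, 5, 1, 5, 1, 2, 4, 3, 0, 5, 1, 5], [0, 0, 4, 0, 4, 1, 2, 5, 3, 0, 4, 0, 4, 2, 4, 3], [0, 0, 4, 0, 4, 1, 2, 5, 3, 5, 1, 5, 1, 2, 4, 3]]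

theorem chk_s1C9 : s1C9.all (chkE trB none) = true := by
  decide +kernel

/-- chunk 10 of the relators of stage 1 -/
def s1C10 : List (List ℕ) := [[0, 2, 1, 5, 3, 0, 4, 0, 4, 2, 4, 3, 0, 5, 1, 5], [0, 0, 4, 0, 4, 2, 4, 3, 0, 2, 4, 3, 0, 2, 4, 3], [0, 2, 1, 5, 3, 1, 2, 5, 3, 1, 2, 5, 3, 5, 1, 5], [0, 2, 4, 1, 2, 4, 2, 0, 4, 3, 0, 4, 1, 4, 1, 4], [0, 0, 2, 4, 0, 5, 0, 5, 5, 5, 3, 4, 0, 0, 5, 3], [0, 3, 4, 1, 2, 4, 0, 5, 5, 2, 0, 4, 0, 4, 3, 5], [0, 3, 4, 1, 2, 4, 0, 5, 5, 2, 5, 1, 5, 1, 3, 5], [0, 0, 2, 4, 1, 2, 4, 2, 0, 4, 0, 3, 1, 5, 0, 5], [0, 2, 1, 5, 1, 3, 5, 3, 0, 5, 1, 3, 0, 4, 1, 4], [0, 0, 0, 5, 2, 5, 2, 5, 3, 1, 2, 5, 5, 5, 1, 5], [0, 0, 0, 4, 4, 1, 1, 5, 5, 5, 1, 4, 1, 4, 1, 4],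 [0, 0, 2, 0, 2, 5, 5, 0, 2, 4, 1, 4, 3, 4, 3, 5], [0, 0, 4, 1, 1, 3, 3, 4, 3, 4, 2, 5, 0, 0, 4, 4], [0, 2, 0, 4, 3, 5, 3, 0, 4, 1, 5, 5, 3, 0, 2, 5], [0, 0, 4, 4, 1, 3, 5, 0, 5, 5, 1, 3, 3, 0, 3, 4]]

theorem chk_s1C10 : s1C10.all (chkE trB none) = true := by
  decide +kernel

/-- chunk 11 of the relators of stage 1 -/
def s1C11 : List (List ℕ) := [[0, 0, 5, 2, 4, 2, 2, 0, 4, 1, 4, 3, 4, 3, 1, 4], [0, 0, 2, 5, 5, 0, 5, 2, 4, 3, 5, 2, 5, 3], [0, 2, 4, 3, 4, 2, 5, 3, 4, 1, 4, 4, 1, 3], [0, 0, 5, 3, 5, 0, 2, 5, 5, 1, 2, 2, 1, 5, 1, 4], [0, 0, 2, 4, 2, 0, 4, 3, 4, 0, 5, 5, 0, 0, 3, 4], [0, 0, 3, 4, 1, 2, 0, 4, 2, 0, 4, 3, 4, 0, 5, 5], [0, 4, 0, 5, 5, 5, 2, 0, 5, 1, 5, 5, 3, 0, 4, 3], [0, 0, 5,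 5, 5, 5, 0, 5, 3, 0, 2, 4, 4, 3, 1, 2], [0, 2, 5, 3, 5, 1, 5, 0, 3, 0, 4, 1, 4, 2, 4, 4], [0, 0, 5, 5, 1, 3, 4, 2, 1, 3, 4, 4, 2, 5, 0, 4], [0, 0, 0, 4, 0, 5, 2, 4, 3, 5, 0, 0, 5, 2, 4], [0, 0, 4, 1, 1, 5, 2, 0, 2, 5, 5, 3, 3, 3, 4], [0, 4, 4, 3, 4, 3, 5, 3, 4, 2, 2, 0, 5, 5, 5, 2], [0, 5, 2, 5, 5, 2, 4, 4, 1, 2, 2, 5, 3, 4, 3, 4], [0, 0, 3, 1, 4, 1, 4, 4, 1, 2, 2, 5, 1, 1, 5, 5], [0, 0, 2, 4, 1, 5, 2, 5, 2, 4, 2, 1, 4, 1, 4, 4]]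

theorem chk_s1C11 : s1C11.all (chkE trB none) = true := by
  decide +kernel

/-- chunk 12 of the relators of stage 1 -/
def s1C12 : List (List ℕ) := [[0, 0, 3, 4, 1, 4, 2, 5, 3, 1, 3, 5, 2, 4, 2, 5], [0, 2, 4, 3, 5, 3, 4, 3, 0, 5, 5, 5, 5, 3, 0, 4], [0, 0, 5, 3, 1, 5, 2, 5, 3, 4, 3, 1, 4, 0, 5, 3], [0, 2, 1, 4, 1, 5, 0, 2, 5, 2, 4, 3, 4, 0, 2, 4], [0, 0, 4, 3, 5, 2, 4, 4, 2, 2, 0, 4, 4, 0, 3, 4], [0, 4, 4, 4, 1, 3, 4, 3, 4, 4, 1, 2, 2, 4, 2, 5], [0, 0, 5, 1, 4, 3, 3, 5, 1, 2, 4, 1, 4, 3, 5, 5], [0, 2, 2, 0, 4, 2, 5, 2, 5, 0, 5, 3, 1, 4, 4, 2], [0, 0, 4, 2, 1, 4, 1, 4, 2, 0, 4, 4, 2, 0, 0, 5], [0, 0, 4, 2, 2, 2, 0, 5, 5, 0, 5, 2, 0, 0, 4, 4], [0, 0, 5, 2, 1, 3, 0, 5, 3, 3, 4, 4, 3, 1, 3,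 4], [0, 2, 1, 4, 2, 1, 4, 4, 0, 5, 3, 5, 0, 5, 2, 4], [0, 0, 5, 3, 4, 1, 4, 2, 4, 1, 5, 5, 0, 3, 5, 3], [0, 0, 4, 2, 4, 0, 4, 1, 1, 4, 4, 2, 4, 2, 0, 5], [0, 0, 4, 3, 1, 3, 5, 5, 2, 2, 2, 5, 1, 1, 4]]

theorem chk_s1C12 : s1C12.all (chkE trB none) = true := by
  decide +kernel

/-- chunk 13 of the relators of stage 1 -/
def s1C13 : List (List ℕ) := [[0, 4, 1, 4, 2, 4, 2, 5, 5, 0, 4, 1, 5, 5, 3, 3], [0, 0, 2, 4, 3, 4, 3, 3, 4, 1, 4, 3, 0, 5, 0, 4], [0, 4, 1, 2, 0, 4, 3, 4, 3, 3, 4, 1, 4, 3, 0, 5], [0, 3, 4, 1, 2, 5, 5, 2, 1, 4, 2, 1, 2, 4, 4, 3], [0, 0, 5, 1, 3, 4, 4, 1, 1, 3, 4, 1, 4, 3, 1, 4], [0, 2, 1, 4, 3, 5, 3, 1, 5, 3, 5, 5, 5, 2, 5, 5], [0, 4, 3, 4, 1, 3, 4, 3, 4, 3, 0, 4, 4, 0, 5,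 3], [0, 0, 4, 4, 3, 4, 4, 4, 2, 4, 0, 2, 4, 2, 5, 3], [0, 4, 0, 4, 3, 4, 3, 4, 1, 5, 1, 5, 5, 2, 5, 2], [0, 4, 0, 4, 3, 4, 3, 4, 4, 0, 4, 0, 5, 2, 5, 2], [0, 3, 4, 0, 5, 5, 2, 2, 5, 5, 3, 5, 2, 4, 0, 5], [0, 0, 2, 0, 3, 1, 3, 1, 2], [0, 0, 0, 0, 0, 0, 0, 0, 0, 0, 0]]

theorem chk_s1C13 : s1C13.all (chkE trB none) = true := by
  decide +kernel

theorem s1C_split : s1L = s1C0 ++ (s1C1 ++ (s1C2 ++ (s1C3 ++ (s1C4 ++ (s1C5 ++ (s1C6 ++ (s1C7 ++ (s1C8 ++ (s1C9 ++ (s1C10 ++ (s1C11 ++ (s1C12 ++ (s1C13))))))))))))) := by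
  decide +kernel

theorem chk_s1C : (s1L).all (chkE trB none) = true := by
  rw [s1C_split]
  simp only [List.all_append, chk_s1C0, chk_s1C1, chk_s1C2, chk_s1C3, chk_s1C4, chk_s1C5, chk_s1C6, chk_s1C7, chk_s1C8, chk_s1C9, chk_s1C10, chk_s1C11, chk_s1C12, chk_s1C13, Bool.and_self]

end Cfsg.Agent.Lib.H29.U62G
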