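import Cfsg.Agent.Lib.H29.U62GData
import Cfsg.Agent.Lib.H12.J3M.GlueBase

set_option autoImplicit false
set_option maxRecDepth 100000

/-!
# Words in helper27's permutation model of `PSU₆(2)` on 693 points (helper29)

The encoding of words in the letters `a a⁻¹ b b⁻¹ c c⁻¹` (stage 2) and `a a⁻¹ t t⁻¹ b b⁻¹` (stage 1) of helper16's
`U6(2)` data as words of the table `pd2`, and the check `chkE` of a word by tracing the 693 points through the
tables of the single letters.  The template is helper6's `Lib/H6/U43M/GSide.lean`.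
-/

namespace Cfsg.Agent.Lib.H29.U62G

open Equiv Cfsg.Agent.Lib.H27.LatW Cfsg.Agent.Lib.H27.PermK
open Cfsg.Agent.Lib.H12.J3M (gl3 wv3)

/-- the letters of `pd2` for the letters `a a⁻¹ b b⁻¹ c c⁻¹` -/
def trA (x : ℕ) : ℕ :=
  match x with
  | 0 => 6 | 1 => 7 | 2 => 8 | 3 => 9 | 4 => 10 | 5 => 11 | _ => 0

/-- the letters of `pd2` for the letters `a a⁻¹ t t⁻¹ b b⁻¹` -/
def trB (x : ℕ) : ℕ :=
  match x with
  | 0 => 6 | 1 => 7 | 2 => 12 | 3 => 13 | 4 => 8 | 5 => 9 | _ => 0

theorem trA_lt (x : ℕ) : trA x < 14 := by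
  unfold trA
  split <;> norm_num

theorem trB_lt (x : ℕ) : trB x < 14 := by
  unfold trB
  split <;> norm_num

/-- the code of a word -/
def enc (tr : ℕ → ℕ) (w : List ℕ) : ℕ :=
  w.foldl (fun acc x => Nat.add (Nat.mul acc 64) (Nat.succ (tr x))) 0

theorem evW_enc (tr : ℕ → ℕ) (htr : ∀ x, tr x < 14) (w : List ℕ) : ∀ f : ℕ, w.length ≤ f →
    pd2.evW f (enc tr w) = (w.map fun x => pd2.bp (tr x)).prod := by
  induction w using List.reverseRecOn with
  | nil =>
    intro f _
    cases f with
    | zero => rfl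
    | succ f => rfl
  | append_singleton u x ih =>
    intro f hf
    rw [List.length_append, List.length_singleton] at hf
    obtain ⟨f', rfl⟩ : ∃ f', f = f' + 1 := ⟨f - 1, by omega⟩
    have henc : enc tr (u ++ [x]) = enc tr u * 64 + (tr x + 1) := by
      unfold enc
      rw [List.foldl_append]
      rfl
    have hlt := htr x
    have hmod : Nat.mod (enc tr (u ++ [x])) 64 = tr x + 1 := by
      rw [henc]
      change (enc tr u * 64 + (tr x + 1)) % 64 = tr x + 1
      omega
    have hdiv : Nat.div (enc tr (u ++ [x])) 64 = enc tr u := by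
      rw [henc]
      change (enc tr u * 64 + (tr x + 1)) / 64 = enc tr u
      omega
    rw [pd2.evW_succ, hmod, hdiv]
    change pd2.evW f' (enc tr u) * pd2.bp (tr x) = _
    rw [ih f' (by omega), List.map_append, List.prod_append, List.map_singleton, List.prod_singleton]

/-- the generators and the element `t` as permutations -/
def aP : Perm (Fin 693) := pd2.bp 6
def bP : Perm (Fin 693) := pd2.bp 8
def cP : Perm (Fin 693) := pd2.bp 10
def tP : Perm (Fin 693) := pd2.bp 12

theorem glA_perm (x : ℕ) (hx : x < 6) : gl3 aP bP cP x = pd2.bp (trA x) := by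
  have h6 := pd2.bp_linv (by norm_num : 6 < 14)
  have h8 := pd2.bp_linv (by norm_num : 8 < 14)
  have h10 := pd2.bp_linv (by norm_num : 10 < 14)
  interval_cases x
  · rfl
  · exact h6.symm
  · rfl
  · exact h8.symm
  · rfl
  · exact h10.symm

theorem glB_perm (x : ℕ) (hx : x < 6) : gl3 aP tP bP x = pd2.bp (trB x) := by
  have h6 := pd2.bp_linv (by norm_num : 6 < 14)
  have h8 := pd2.bp_linv (by norm_num : 8 < 14)
  have h12 := pd2.bp_linv (by norm_num : 12 < 14)
  interval_cases x
  · rfl
  · exact h6.symm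
  · rfl
  · exact h12.symm
  · rfl
  · exact h8.symm

theorem wvA_perm (w : List ℕ) (hw : ∀ x ∈ w, x < 6) (hl : w.length ≤ 64) :
    wv3 aP bP cP w = pd2.ev (enc trA w) := by
  unfold PD.ev
  rw [evW_enc trA trA_lt w FUEL hl]
  unfold wv3
  congr 1
  apply List.map_congr_left
  intro x hx
  exact glA_perm x (hw x hx)

theorem wvB_perm (w : List ℕ) (hw : ∀ x ∈ w, x < 6) (hl : w.length ≤ 64) :
    wv3 aP tP bP w = pd2.ev (enc trB w) := by
  unfold PD.ev
  rw [evW_enc trB trB_lt w FUEL hl]
  unfold wv3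
  congr 1
  apply List.map_congr_left
  intro x hx
  exact glB_perm x (hw x hx)

/-! ## tracing a point through the tables of the single letters -/

theorem lkS_eq {d p : ℕ} (hd : d < 14) (hp : p < 693) : lkS (tab d) p = lk GT2 d p :=
  Nat.eq_of_beq_eq_true (allLt_spec (allLt_spec tab_ok d hd) p hp)

/-- trace of a point through a word, with the tables of the single letters -/
def trS (fuel : ℕ) : ℕ → ℕ → ℕ :=
  Nat.rec (motive := fun _ => ℕ → ℕ → ℕ) (fun _ p => p)
    (fun _ ih w p => Nat.rec (motive := fun _ => ℕ) p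
      (fun d _ => ih (Nat.div w 64) (lkS (tab d) p)) (Nat.mod w 64)) fuel

theorem trS_succ (f w p : ℕ) :
    trS (f + 1) w p = Nat.rec (motive := fun _ => ℕ) p
      (fun d _ => trS f (Nat.div w 64) (lkS (tab d) p)) (Nat.mod w 64) := rfl

theorem trS_eq (fuel : ℕ) : ∀ w p : ℕ, digitsLt 14 fuel w = true → p < 693 →
    trS fuel w p = trW GT2 fuel w p := by
  induction fuel with
  | zero => intro w p _ _; rfl
  | succ f ih =>
    intro w p hw hp
    rw [trS_succ, trW_succ]
    rw [digitsLt_succ] at hw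
    rcases hm : Nat.mod w 64 with _ | d
    · rfl
    · rw [hm] at hw
      simp only [Bool.and_eq_true] at hw
      have hd : d < 14 := Nat.le_of_ble_eq_true hw.1
      show trS f (Nat.div w 64) (lkS (tab d) p) = trW GT2 f (Nat.div w 64) (lk GT2 d p)
      rw [lkS_eq hd hp]
      exact ih _ _ hw.2 (pd2.lk_lt hd hp)

/-- the image of the point `p` under the letter `d` of the table (`none`: the identity) -/
def tgt (d : Option ℕ) (p : ℕ) : ℕ :=
  match d with
  | none => p
  | some k => lk GT2 k p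

/-- the check of a word with the translation `tr` against the letter `d` of the table (`none`: the identity):
it has at most 64 letters, all `< 6`, and it maps all points as the letter does -/
def chkE (tr : ℕ → ℕ) (d : Option ℕ) (w : List ℕ) : Bool :=
  Nat.ble w.length 64 && w.all (fun x => Nat.blt x 6) && digitsLt 14 FUEL (enc tr w) &&
    allLt 693 fun p => Nat.beq (trS FUEL (enc tr w) p) (tgt d p)

theorem chkE_spec (tr : ℕ → ℕ) (d : Option ℕ) (w : List ℕ) (h : chkE tr d w = true) :
    w.length ≤ 64 ∧ (∀ x ∈ w, x < 6) ∧ digitsLt 14 FUEL (enc tr w) = true ∧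
      ∀ p < 693, trW GT2 FUEL (enc tr w) p = tgt d p := by
  unfold chkE at h
  simp only [Bool.and_eq_true] at h
  obtain ⟨⟨⟨h1, h2⟩, h3⟩, h4⟩ := h
  refine ⟨Nat.le_of_ble_eq_true h1, fun x hx => Nat.le_of_ble_eq_true (List.all_eq_true.1 h2 x hx), h3, ?_⟩
  intro p hp
  rw [← trS_eq FUEL _ p h3 hp]
  exact Nat.eq_of_beq_eq_true (allLt_spec h4 p hp)

theorem wvA_eq_one_of_chk (w : List ℕ) (h : chkE trA none w = true) : wv3 aP bP cP w = 1 := by
  obtain ⟨hl, hw, h3, h4⟩ := chkE_spec trA none w h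
  rw [wvA_perm w hw hl]
  ext p
  rw [pd2.ev_apply h3 p]
  exact h4 p p.2

theorem wvB_eq_one_of_chk (w : List ℕ) (h : chkE trB none w = true) : wv3 aP tP bP w = 1 := by
  obtain ⟨hl, hw, h3, h4⟩ := chkE_spec trB none w h
  rw [wvB_perm w hw hl]
  ext p
  rw [pd2.ev_apply h3 p]
  exact h4 p p.2

theorem bp_eq_wvA (d : ℕ) (hd : d < 14) (w : List ℕ) (h : chkE trA (some d) w = true) :
    pd2.bp d = wv3 aP bP cP w := by
  obtain ⟨hl, hw, h3, h4⟩ := chkE_spec trA (some d) w h
  rw [wvA_perm w hw hl]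
  ext p
  rw [pd2.ev_apply h3 p, pd2.bp_apply hd]
  exact (h4 p p.2).symm

end Cfsg.Agent.Lib.H29.U62G
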