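import Cfsg.Agent.Lib.H29.UP3K3
import Cfsg.Agent.Lib.H15.UP3Defs
import Cfsg.Agent.Lib.H2.Unitary4
import Cfsg.Agent.Lib.H3.F4a

/-!
# UP3-E6c-B (helper29, for helper15's unitary phase 3): `std_rational`

`|F| = 4`, `t = tstd ω` (two companion blocks of `x³ - ω`).  An element `g` of `SU_6(2)` with `g t = ω^j t g` becomes,
after conjugation by `pstd ω` and multiplication by a scalar, a matrix over the prime field.

Route: `g N gᵀ = d N` for the symplectic Gram matrix `N = n6 ω` (block computation in the commutative ring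
`K3 F ω = F[x]/(x³ - ω)`, `δ = ad + bc` is a scalar because `δ δ' = 1` and `det δ = 1`), and
`pstd = N * (pstd)̄`.
-/

set_option autoImplicit false

namespace Cfsg.Agent.Lib.H29.UP3

open Matrix Cfsg Cfsg.Geo Cfsg.Agent.Lib.H15.UP3 Cfsg.Agent.Lib.H3.F4
open scoped MatrixGroups

variable {F : Type*} [Field F]

/-! ### the field with four elements -/

section card

variable [Fintype F]

theorem two_eq_zero_of_card (hcard : Fintype.card F = 4) : (2 : F) = 0 := by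
  have h := FiniteField.pow_card (-1 : F)
  rw [hcard] at h
  have h1 : ((-1 : F)) ^ 4 = 1 := by ring
  rw [h1] at h
  linear_combination h

theorem f4_scalar : ∀ t d0 d1 d2 : F4, t ^ 2 + t + 1 = 0 →
    d0 * d0 ^ 2 + t * (d1 * (t ^ 2 * d1 ^ 2) + d2 * (t ^ 2 * d2 ^ 2)) = 1 →
    d0 * (t ^ 2 * d2 ^ 2) + d1 * d0 ^ 2 + t * (d2 * (t ^ 2 * d1 ^ 2)) = 0 →
    d0 ^ 3 + t * d1 ^ 3 + t ^ 2 * d2 ^ 3 + t * d0 * d1 * d2 = 1 → d1 = 0 ∧ d2 = 0 := by
  decide +kernel

/-- an element of `F₆₄ = K3 F ω` of norm one over `F₈` and over `F₄` is a scalar -/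
theorem scalar_of_unit (hcard : Fintype.card F = 4) {ω : F} (hω : ω ^ 2 + ω + 1 = 0) (δ : K3 F ω)
    (h1 : δ * K3.sig δ = 1) (hdet : (K3.toMat δ).det = 1) : δ.x1 = 0 ∧ δ.x2 = 0 := by
  have h2 := two_eq_zero_of_card hcard
  let ψ : F ≃+* F4 := FiniteField.ringEquivOfCardEq (hcard.trans F4.card_eq.symm)
  have e0 : δ.x0 * δ.x0 ^ 2 + ω * (δ.x1 * (ω ^ 2 * δ.x1 ^ 2) + δ.x2 * (ω ^ 2 * δ.x2 ^ 2)) = 1 :=
    congrArg K3.x0 h1
  have e1 : δ.x0 * (ω ^ 2 * δ.x2 ^ 2) + δ.x1 * δ.x0 ^ 2 + ω * (δ.x2 * (ω ^ 2 * δ.x1 ^ 2)) = 0 :=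
    congrArg K3.x1 h1
  rw [K3.det_toMat] at hdet
  have e3 : δ.x0 ^ 3 + ω * δ.x1 ^ 3 + ω ^ 2 * δ.x2 ^ 3 + ω * δ.x0 * δ.x1 * δ.x2 = 1 := by
    linear_combination hdet + (2 * ω * δ.x0 * δ.x1 * δ.x2) * h2
  have f0 := congrArg ψ e0
  have f1 := congrArg ψ e1
  have f3 := congrArg ψ e3
  have fω := congrArg ψ hω
  simp only [map_add, map_mul, map_pow, map_one, map_zero] at f0 f1 f3 fω
  obtain ⟨g1, g2⟩ := f4_scalar _ _ _ _ fω f0 f1 f3
  exact ⟨(map_eq_zero_iff ψ ψ.injective).1 g1, (map_eq_zero_iff ψ ψ.injective).1 g2⟩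

end card

/-! ### block form -/

/-- the Gram matrix of the symplectic form -/
def n6 (ω : F) : Matrix (Fin 6) (Fin 6) F :=
  !![0, 0, 0, 1, 0, 0; 0, 0, 0, 0, 0, ω ^ 2; 0, 0, 0, 0, ω ^ 2, 0; 1, 0, 0, 0, 0, 0; 0, 0, ω ^ 2, 0, 0, 0;
     0, ω ^ 2, 0, 0, 0, 0]

/-- the reindexing `Fin 3 ⊕ Fin 3 ≃ Fin 6` -/
abbrev e33 : Fin 3 ⊕ Fin 3 ≃ Fin 6 := finSumFinEquiv

theorem tstd_sub (ω : F) :
    (tstd ω).submatrix e33 e33 = fromBlocks (K3.cmat ω) 0 0 (K3.cmat ω) := by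
  ext (i | i) (j | j) <;> fin_cases i <;> fin_cases j <;> rfl

theorem n6_sub (ω : F) :
    (n6 ω).submatrix e33 e33 = fromBlocks 0 (K3.n0 ω) (K3.n0 ω) 0 := by
  ext (i | i) (j | j) <;> fin_cases i <;> fin_cases j <;> rfl

/-- block form of a matrix commuting with `tstd ω` -/
theorem exists_blocks {ω : F} (g : Matrix (Fin 6) (Fin 6) F) (hcomm : g * tstd ω = tstd ω * g) :
    ∃ a b c d : K3 F ω, g.submatrix e33 e33 =
      fromBlocks (K3.toMat a) (K3.toMat b) (K3.toMat c) (K3.toMat d) := by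
  set gs := g.submatrix e33 e33 with hgs
  have h1 : gs * (tstd ω).submatrix e33 e33 =
      (tstd ω).submatrix e33 e33 * gs := by
    rw [hgs, submatrix_mul_equiv, submatrix_mul_equiv, hcomm]
  rw [tstd_sub, ← fromBlocks_toBlocks gs, fromBlocks_multiply, fromBlocks_multiply] at h1
  simp only [Matrix.mul_zero, Matrix.zero_mul, add_zero, zero_add, fromBlocks_inj] at h1
  obtain ⟨hA, hB, hC, hD⟩ := h1
  refine ⟨⟨gs.toBlocks₁₁ 0 0, gs.toBlocks₁₁ 1 0, gs.toBlocks₁₁ 2 0⟩,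
    ⟨gs.toBlocks₁₂ 0 0, gs.toBlocks₁₂ 1 0, gs.toBlocks₁₂ 2 0⟩,
    ⟨gs.toBlocks₂₁ 0 0, gs.toBlocks₂₁ 1 0, gs.toBlocks₂₁ 2 0⟩,
    ⟨gs.toBlocks₂₂ 0 0, gs.toBlocks₂₂ 1 0, gs.toBlocks₂₂ 2 0⟩, ?_⟩
  rw [← K3.eq_toMat_of_comm _ hA, ← K3.eq_toMat_of_comm _ hB,
    ← K3.eq_toMat_of_comm _ hC, ← K3.eq_toMat_of_comm _ hD, fromBlocks_toBlocks]

/-- the relations of a unitary block matrix -/
theorem unitary_rel {ω : F} (hω : ω ^ 3 = 1) (a b c d : K3 F ω) (gs : Matrix (Fin 3 ⊕ Fin 3) (Fin 3 ⊕ Fin 3) F)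
    (hgs : gs = fromBlocks (K3.toMat a) (K3.toMat b) (K3.toMat c) (K3.toMat d))
    (hU : gsᵀ * gs.map (fun x => x ^ 2) = 1) :
    a * K3.sig a + b * K3.sig b = 1 ∧ a * K3.sig c + b * K3.sig d = 0 ∧ c * K3.sig a + d * K3.sig b = 0 ∧
      c * K3.sig c + d * K3.sig d = 1 ∧ K3.sig b * b + K3.sig d * d = 1 := by
  have h1 : (gs.map (fun x => x ^ 2))ᵀ * gs = 1 := by
    have := congrArg Matrix.transpose hU
    rwa [Matrix.transpose_mul, Matrix.transpose_transpose, Matrix.transpose_one] at this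
  have h2 : gs * (gs.map (fun x => x ^ 2))ᵀ = 1 := mul_eq_one_comm.1 h1
  have h3 : (gs.map (fun x => x ^ 2))ᵀ =
      fromBlocks (K3.toMat (K3.sig a)) (K3.toMat (K3.sig c)) (K3.toMat (K3.sig b)) (K3.toMat (K3.sig d)) := by
    rw [hgs, fromBlocks_map, fromBlocks_transpose, K3.toMat_sig hω, K3.toMat_sig hω, K3.toMat_sig hω,
      K3.toMat_sig hω]
  rw [h3, hgs, fromBlocks_multiply, ← fromBlocks_one] at h1 h2
  simp only [← K3.toMat_mul, ← K3.toMat_add, fromBlocks_inj] at h1 h2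
  obtain ⟨-, -, -, c4⟩ := h1
  obtain ⟨r1, r2, r3, r4⟩ := h2
  exact ⟨K3.toMat_injective (r1.trans K3.toMat_one.symm), K3.toMat_injective (r2.trans K3.toMat_zero.symm),
    K3.toMat_injective (r3.trans K3.toMat_zero.symm), K3.toMat_injective (r4.trans K3.toMat_one.symm),
    K3.toMat_injective (c4.trans K3.toMat_one.symm)⟩

theorem two_K3 {ω : F} (h2 : (2 : F) = 0) : (2 : K3 F ω) = 0 := by
  rw [← one_add_one_eq_two]
  ext <;> simp
  linear_combination h2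

/-- `δ σ(δ) = 1` for `δ = ad + bc` -/
theorem delta_rel {ω : F} (h2 : (2 : F) = 0) (hω : ω ^ 3 = 1) (a b c d : K3 F ω)
    (r1 : a * K3.sig a + b * K3.sig b = 1) (r2 : a * K3.sig c + b * K3.sig d = 0)
    (r3 : c * K3.sig a + d * K3.sig b = 0) (r4 : c * K3.sig c + d * K3.sig d = 1)
    (c4 : K3.sig b * b + K3.sig d * d = 1) :
    (a * d + b * c) * K3.sig (a * d + b * c) = 1 := by
  have h2' : (2 : K3 F ω) = 0 := two_K3 h2
  rw [K3.sig_add h2, K3.sig_mul h2 hω, K3.sig_mul h2 hω]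
  linear_combination (d * K3.sig d) * r1 + (d * K3.sig b) * r2 + (b * K3.sig d) * r3 + (b * K3.sig b) * r4 + c4 -
    (2 * b * K3.sig b * d * K3.sig d) * h2'

theorem conj_blocks {ω : F} (h2 : (2 : F) = 0) (hω : ω ^ 3 = 1) (a b c d : K3 F ω) :
    fromBlocks (K3.toMat a) (K3.toMat b) (K3.toMat c) (K3.toMat d) * fromBlocks 0 (K3.n0 ω) (K3.n0 ω) 0 *
      (fromBlocks (K3.toMat a) (K3.toMat b) (K3.toMat c) (K3.toMat d))ᵀ =
    fromBlocks (K3.toMat (a * d + b * c)) 0 0 (K3.toMat (a * d + b * c)) *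
      fromBlocks 0 (K3.n0 ω) (K3.n0 ω) 0 := by
  have h2' : (2 : K3 F ω) = 0 := two_K3 h2
  rw [fromBlocks_transpose, fromBlocks_multiply, fromBlocks_multiply, fromBlocks_multiply]
  simp only [Matrix.mul_zero, Matrix.zero_mul, zero_add, add_zero]
  have key : ∀ x y z w : K3 F ω, K3.toMat x * K3.n0 ω * (K3.toMat y)ᵀ + K3.toMat z * K3.n0 ω * (K3.toMat w)ᵀ =
      K3.toMat (x * y + z * w) * K3.n0 ω := by
    intro x y z w
    rw [Matrix.mul_assoc, Matrix.mul_assoc, K3.n0_mul_transpose hω, K3.n0_mul_transpose hω, ← Matrix.mul_assoc,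
      ← Matrix.mul_assoc, ← Matrix.add_mul, K3.toMat_add, K3.toMat_mul, K3.toMat_mul]
  rw [key, key, key, key]
  have e1 : b * a + a * b = 0 := by linear_combination (a * b) * h2'
  have e2 : b * c + a * d = a * d + b * c := by ring
  have e3 : d * a + c * b = a * d + b * c := by ring
  have e4 : d * c + c * d = 0 := by linear_combination (c * d) * h2'
  rw [e1, e2, e3, e4, K3.toMat_zero, Matrix.zero_mul]

theorem n0_det_ne {ω : F} (hω : ω ^ 3 = 1) :
    (fromBlocks 0 (K3.n0 ω) (K3.n0 ω) 0 : Matrix (Fin 3 ⊕ Fin 3) (Fin 3 ⊕ Fin 3) F).det ≠ 0 := by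
  have h : (fromBlocks 0 (K3.n0 ω) (K3.n0 ω) 0 : Matrix (Fin 3 ⊕ Fin 3) (Fin 3 ⊕ Fin 3) F) *
      fromBlocks 0 (K3.n0 (ω ^ 2)) (K3.n0 (ω ^ 2)) 0 = 1 := by
    rw [fromBlocks_multiply, ← fromBlocks_one]
    simp only [Matrix.mul_zero, Matrix.zero_mul, zero_add, add_zero]
    have : K3.n0 ω * K3.n0 (ω ^ 2) = 1 := by
      ext i j
      fin_cases i <;> fin_cases j <;> simp [K3.n0, Matrix.mul_apply, Fin.sum_univ_succ] <;>
        linear_combination (ω ^ 3 + 1) * hω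
    rw [this]
  intro h0
  have := congrArg Matrix.det h
  rw [Matrix.det_mul, h0, zero_mul, Matrix.det_one] at this
  exact zero_ne_one this

/-- the determinant of `δ` -/
theorem det_delta {ω : F} (h2 : (2 : F) = 0) (hω : ω ^ 3 = 1) (a b c d : K3 F ω)
    (hdet : (fromBlocks (K3.toMat a) (K3.toMat b) (K3.toMat c) (K3.toMat d)).det = 1) :
    (K3.toMat (a * d + b * c)).det = 1 := by
  have h := congrArg Matrix.det (conj_blocks h2 hω a b c d)
  rw [Matrix.det_mul, Matrix.det_mul, Matrix.det_mul, Matrix.det_transpose, hdet, Matrix.det_fromBlocks_zero₂₁,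
    one_mul, mul_one] at h
  have h3 : (K3.toMat (a * d + b * c)).det * (K3.toMat (a * d + b * c)).det = 1 :=
    mul_right_cancel₀ (n0_det_ne hω) (by rw [one_mul]; exact h.symm)
  have h4 : ((K3.toMat (a * d + b * c)).det - 1) ^ 2 = 0 := by
    linear_combination h3 - ((K3.toMat (a * d + b * c)).det - 1) * h2
  have := pow_eq_zero_iff (two_ne_zero) |>.1 h4
  linear_combination this

/-- the main step: an element of `SU_6(2)` commuting with `tstd ω` is a similitude of the symplectic form `n6 ω` -/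
theorem conj_n6_of_comm [Fintype F] (hcard : Fintype.card F = 4) {ω : F} (hω : ω ^ 2 + ω + 1 = 0)
    (g : Matrix (Fin 6) (Fin 6) F) (hU : gᵀ * g.map (fun x => x ^ 2) = 1) (hdet : g.det = 1)
    (hcomm : g * tstd ω = tstd ω * g) : ∃ d : F, d ≠ 0 ∧ g * n6 ω * gᵀ = d • n6 ω := by
  have h2 := two_eq_zero_of_card hcard
  have hω3 : ω ^ 3 = 1 := by linear_combination (ω - 1) * hω
  obtain ⟨a, b, c, d, hgs⟩ := exists_blocks g hcomm
  have hUs : (g.submatrix e33 e33)ᵀ * (g.submatrix e33 e33).map (fun x => x ^ 2) = 1 := by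
    rw [transpose_submatrix, ← submatrix_map, submatrix_mul_equiv, hU, submatrix_one_equiv]
  obtain ⟨r1, r2, r3, r4, c4⟩ := unitary_rel hω3 a b c d _ hgs hUs
  have hδ := delta_rel h2 hω3 a b c d r1 r2 r3 r4 c4
  have hdets : (fromBlocks (K3.toMat a) (K3.toMat b) (K3.toMat c) (K3.toMat d)).det = 1 := by
    rw [← hgs, det_submatrix_equiv_self, hdet]
  have hdδ := det_delta h2 hω3 a b c d hdets
  obtain ⟨k1, k2⟩ := scalar_of_unit hcard hω _ hδ hdδ
  have hc := conj_blocks h2 hω3 a b c d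
  generalize a * d + b * c = δ at hδ hdδ k1 k2 hc
  have hδ0 : δ = ⟨δ.x0, 0, 0⟩ := by ext <;> simp [k1, k2]
  refine ⟨δ.x0, ?_, ?_⟩
  · intro h0
    have hz : δ = 0 := by rw [hδ0, h0]; rfl
    rw [hz, zero_mul] at hδ
    have := congrArg K3.x0 hδ
    simp at this
  · have hsc : fromBlocks (δ.x0 • (1 : Matrix (Fin 3) (Fin 3) F)) 0 0 (δ.x0 • (1 : Matrix (Fin 3) (Fin 3) F)) =
        δ.x0 • (1 : Matrix (Fin 3 ⊕ Fin 3) (Fin 3 ⊕ Fin 3) F) := by
      rw [← fromBlocks_one, fromBlocks_smul, smul_zero]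
    rw [hδ0, K3.toMat_scalar, hsc, Matrix.smul_mul, Matrix.one_mul,
      ← hgs, ← n6_sub, transpose_submatrix, submatrix_mul_equiv, submatrix_mul_equiv] at hc
    ext i j
    have := congrFun (congrFun hc (e33.symm i)) (e33.symm j)
    simpa using this

/-! ### from the symplectic similitude to the rational structure -/

/-- squaring as a ring endomorphism in characteristic 2 -/
def sq2 (h2 : (2 : F) = 0) : F →+* F where
  toFun x := x ^ 2
  map_one' := one_pow 2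
  map_mul' x y := mul_pow x y 2
  map_zero' := zero_pow two_ne_zero
  map_add' x y := by linear_combination (x * y) * h2

theorem sq2_apply (h2 : (2 : F) = 0) (x : F) : sq2 h2 x = x ^ 2 := rfl

theorem n6_mul_map {ω : F} (hω : ω ^ 3 = 1) : n6 ω * (n6 ω).map (fun x => x ^ 2) = 1 := by
  ext i j
  fin_cases i <;> fin_cases j <;> simp [n6, Matrix.mul_apply, Fin.sum_univ_succ] <;>
    linear_combination (ω ^ 3 + 1) * hω

theorem pstd_map {ω : F} (hω : ω ^ 3 = 1) :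
    (pstd ω).map (fun x => x ^ 2) = (n6 ω).map (fun x => x ^ 2) * pstd ω := by
  have h4 : ω ^ 4 = ω := by linear_combination ω * hω
  have h5 : ω ^ 5 = ω ^ 2 := by linear_combination ω ^ 2 * hω
  have h6 : ω ^ 6 = 1 := by linear_combination (ω ^ 3 + 1) * hω
  ext i j
  fin_cases i <;> fin_cases j <;> simp [n6, pstd, Matrix.mul_apply, Fin.sum_univ_succ] <;>
    first | ring1 | (ring_nf; simp only [h4, h5, h6])

theorem pstdInv_map {ω : F} (hω : ω ^ 3 = 1) :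
    (pstdInv ω).map (fun x => x ^ 2) = pstdInv ω * n6 ω := by
  have h4 : ω ^ 4 = ω := by linear_combination ω * hω
  ext i j
  fin_cases i <;> fin_cases j <;> simp [n6, pstdInv, Matrix.mul_apply, Fin.sum_univ_succ] <;>
    first | ring1 | (ring_nf; simp only [hω, h4])

/-- the rational structure from the similitude -/
theorem rational_of_conj {ω : F} (h2 : (2 : F) = 0) (hω : ω ^ 3 = 1) (g : Matrix (Fin 6) (Fin 6) F)
    (hU : gᵀ * g.map (fun x => x ^ 2) = 1) (d : F) (hd : d ≠ 0) (hN : g * n6 ω * gᵀ = d • n6 ω) (a b : Fin 6) :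
    (d * (pstdInv ω * g * pstd ω) a b) ^ 2 = d * (pstdInv ω * g * pstd ω) a b := by
  have hmap : ∀ X Y : Matrix (Fin 6) (Fin 6) F, (X * Y).map (fun x => x ^ 2) =
      X.map (fun x => x ^ 2) * Y.map (fun x => x ^ 2) := fun X Y => Matrix.map_mul (f := sq2 h2)
  have h1 : n6 ω * g.map (fun x => x ^ 2) = d⁻¹ • (g * n6 ω) := by
    have : g * n6 ω = d • (n6 ω * g.map (fun x => x ^ 2)) := by
      calc g * n6 ω = g * n6 ω * (gᵀ * g.map (fun x => x ^ 2)) := by rw [hU, Matrix.mul_one]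
        _ = (g * n6 ω * gᵀ) * g.map (fun x => x ^ 2) := by rw [Matrix.mul_assoc (g * n6 ω)]
        _ = d • (n6 ω * g.map (fun x => x ^ 2)) := by rw [hN, Matrix.smul_mul]
    rw [this, smul_smul, inv_mul_cancel₀ hd, one_smul]
  have h3 : (pstdInv ω * g * pstd ω).map (fun x => x ^ 2) = d⁻¹ • (pstdInv ω * g * pstd ω) := by
    rw [hmap, hmap, pstd_map hω, pstdInv_map hω]
    calc pstdInv ω * n6 ω * g.map (fun x => x ^ 2) * ((n6 ω).map (fun x => x ^ 2) * pstd ω)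
        = pstdInv ω * (n6 ω * g.map (fun x => x ^ 2)) * ((n6 ω).map (fun x => x ^ 2) * pstd ω) := by
          rw [Matrix.mul_assoc (pstdInv ω)]
      _ = d⁻¹ • (pstdInv ω * g * (n6 ω * (n6 ω).map (fun x => x ^ 2)) * pstd ω) := by
          rw [h1]
          simp only [Matrix.mul_smul, Matrix.smul_mul, Matrix.mul_assoc]
      _ = d⁻¹ • (pstdInv ω * g * pstd ω) := by rw [n6_mul_map hω, Matrix.mul_one]
  have h4 := congrFun (congrFun h3 a) b
  simp only [Matrix.map_apply, Matrix.smul_apply, smul_eq_mul] at h4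
  rw [mul_pow, h4]
  field_simp

/-! ### reduction to the commuting case -/

/-- the diagonal of `φ` -/
def dvec (ω : F) : Fin 6 → F := ![1, ω, ω ^ 2, 1, ω, ω ^ 2]

/-- the diagonal element `φ` with `φ t φ⁻¹ = ω t` -/
def phi (ω : F) : Matrix (Fin 6) (Fin 6) F := Matrix.diagonal (dvec ω)

theorem phi_tstd {ω : F} (hω : ω ^ 3 = 1) : phi ω * tstd ω = ω • (tstd ω * phi ω) := by
  have h4 : ω ^ 4 = ω := by linear_combination ω * hω
  ext i j
  rw [phi, Matrix.diagonal_mul, Matrix.smul_apply, Matrix.mul_diagonal]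
  fin_cases i <;> fin_cases j <;> simp [tstd, dvec] <;>
    first | ring1 | (ring_nf; simp only [h4])

theorem phi_pow_tstd {ω : F} (hω : ω ^ 3 = 1) (k : ℕ) :
    phi ω ^ k * tstd ω = ω ^ k • (tstd ω * phi ω ^ k) := by
  induction k with
  | zero => simp
  | succ k ih =>
    rw [pow_succ, Matrix.mul_assoc, phi_tstd hω, Matrix.mul_smul, ← Matrix.mul_assoc, ih, Matrix.smul_mul,
      smul_smul, Matrix.mul_assoc, pow_succ, mul_comm]

theorem phi_unitary {ω : F} (hω : ω ^ 3 = 1) : (phi ω)ᵀ * (phi ω).map (fun x => x ^ 2) = 1 := by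
  have h6 : ω ^ 6 = 1 := by linear_combination (ω ^ 3 + 1) * hω
  rw [phi, Matrix.diagonal_transpose, Matrix.diagonal_map (by simp), Matrix.diagonal_mul_diagonal,
    ← Matrix.diagonal_one]
  congr 1
  ext i
  fin_cases i <;> simp [dvec] <;> first | ring1 | (ring_nf; simp only [hω, h6])

theorem phi_det {ω : F} (hω : ω ^ 3 = 1) : (phi ω).det = 1 := by
  rw [phi, Matrix.det_diagonal]
  simp [Fin.prod_univ_succ, dvec]
  linear_combination (ω ^ 3 + 1) * hω

theorem phi_n6 {ω : F} (hω : ω ^ 3 = 1) : phi ω * n6 ω * (phi ω)ᵀ = n6 ω := by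
  have h5 : ω ^ 5 = ω ^ 2 := by linear_combination ω ^ 2 * hω
  ext i j
  rw [phi, Matrix.diagonal_transpose, Matrix.mul_diagonal, Matrix.diagonal_mul]
  fin_cases i <;> fin_cases j <;> simp [n6, dvec] <;>
    first | ring1 | (ring_nf; simp only [h5])

theorem phi_pow_three {ω : F} (hω : ω ^ 3 = 1) : phi ω ^ 3 = 1 := by
  have h6 : ω ^ 6 = 1 := by linear_combination (ω ^ 3 + 1) * hω
  rw [phi, Matrix.diagonal_pow, ← Matrix.diagonal_one]
  congr 1
  ext i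
  fin_cases i <;> simp [hω, ← pow_mul, h6, dvec]

theorem phi_pow_n6 {ω : F} (hω : ω ^ 3 = 1) (k : ℕ) : phi ω ^ k * n6 ω * (phi ω ^ k)ᵀ = n6 ω := by
  induction k with
  | zero => simp
  | succ k ih =>
    rw [pow_succ', Matrix.transpose_mul]
    calc phi ω * phi ω ^ k * n6 ω * ((phi ω ^ k)ᵀ * (phi ω)ᵀ)
        = phi ω * (phi ω ^ k * n6 ω * (phi ω ^ k)ᵀ) * (phi ω)ᵀ := by simp only [Matrix.mul_assoc]
      _ = n6 ω := by rw [ih, phi_n6 hω]

theorem unitary_mul (h2 : (2 : F) = 0) (X Y : Matrix (Fin 6) (Fin 6) F)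
    (hX : Xᵀ * X.map (fun x => x ^ 2) = 1) (hY : Yᵀ * Y.map (fun x => x ^ 2) = 1) :
    (X * Y)ᵀ * (X * Y).map (fun x => x ^ 2) = 1 := by
  have hmap : (X * Y).map (fun x => x ^ 2) = X.map (fun x => x ^ 2) * Y.map (fun x => x ^ 2) :=
    Matrix.map_mul (f := sq2 h2)
  rw [hmap, Matrix.transpose_mul]
  calc Yᵀ * Xᵀ * (X.map (fun x => x ^ 2) * Y.map (fun x => x ^ 2))
      = Yᵀ * (Xᵀ * X.map (fun x => x ^ 2)) * Y.map (fun x => x ^ 2) := by simp only [Matrix.mul_assoc]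
    _ = 1 := by rw [hX, Matrix.mul_one, hY]

theorem phi_pow_unitary (h2 : (2 : F) = 0) {ω : F} (hω : ω ^ 3 = 1) (k : ℕ) :
    (phi ω ^ k)ᵀ * (phi ω ^ k).map (fun x => x ^ 2) = 1 := by
  induction k with
  | zero => 
    rw [pow_zero, Matrix.transpose_one, Matrix.one_mul]
    ext i j
    by_cases h : i = j <;> simp [h, Matrix.one_apply]
  | succ k ih =>
    rw [pow_succ]
    exact unitary_mul h2 _ _ ih (phi_unitary hω)

/-- the similitude property for `g t = ω^j t g` -/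
theorem conj_n6_of_twist [Fintype F] (hcard : Fintype.card F = 4) {ω : F} (hω : ω ^ 2 + ω + 1 = 0)
    (g : Matrix (Fin 6) (Fin 6) F) (hU : gᵀ * g.map (fun x => x ^ 2) = 1) (hdet : g.det = 1) (j : ℕ)
    (hj : g * tstd ω = ω ^ j • (tstd ω * g)) : ∃ d : F, d ≠ 0 ∧ g * n6 ω * gᵀ = d • n6 ω := by
  have h2 := two_eq_zero_of_card hcard
  have hω3 : ω ^ 3 = 1 := by linear_combination (ω - 1) * hω
  have h3j : ω ^ (3 * j) = 1 := by rw [pow_mul, hω3, one_pow]
  set g' := phi ω ^ (2 * j) * g with hg'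
  have hcomm : g' * tstd ω = tstd ω * g' := by
    rw [hg', Matrix.mul_assoc, hj, Matrix.mul_smul, ← Matrix.mul_assoc, phi_pow_tstd hω3, Matrix.smul_mul,
      smul_smul, ← pow_add, Matrix.mul_assoc]
    have : j + 2 * j = 3 * j := by ring
    rw [this, h3j, one_smul]
  have hU' : g'ᵀ * g'.map (fun x => x ^ 2) = 1 := unitary_mul h2 _ _ (phi_pow_unitary h2 hω3 _) hU
  have hdet' : g'.det = 1 := by rw [hg', Matrix.det_mul, Matrix.det_pow, phi_det hω3, one_pow, one_mul, hdet]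
  obtain ⟨d, hd, hN⟩ := conj_n6_of_comm hcard hω g' hU' hdet' hcomm
  refine ⟨d, hd, ?_⟩
  have hg : g = phi ω ^ j * g' := by
    rw [hg', ← Matrix.mul_assoc, ← pow_add]
    have : j + 2 * j = 3 * j := by ring
    rw [this, pow_mul, phi_pow_three hω3, one_pow, Matrix.one_mul]
  calc g * n6 ω * gᵀ = phi ω ^ j * (g' * n6 ω * g'ᵀ) * (phi ω ^ j)ᵀ := by
        rw [hg, Matrix.transpose_mul]; simp only [Matrix.mul_assoc]
    _ = d • (phi ω ^ j * n6 ω * (phi ω ^ j)ᵀ) := by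
        rw [hN]; simp only [Matrix.mul_smul, Matrix.smul_mul]
    _ = d • n6 ω := by rw [phi_pow_n6 hω3]

/-- **UP3-E6c-B**. -/
theorem std_rational [Fintype F] {q : ℕ} (hF : Fintype.card F = q ^ 2) (hq : q = 2) (ω : F) (hω : ω ^ 2 + ω + 1 = 0)
    (g : GL (Fin 6) F)
    (hg : g ∈ GU 6 F q ⊓ specialLinear (Fin 6) F) (j : ℕ)
    (hj : (g : Matrix (Fin 6) (Fin 6) F) * tstd ω = (ω ^ j) • (tstd ω * (g : Matrix (Fin 6) (Fin 6) F))) :
    ∃ l : F, l ≠ 0 ∧ ∀ a b, (l * (pstdInv ω * (g : Matrix (Fin 6) (Fin 6) F) * pstd ω) a b) ^ 2 =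
      l * (pstdInv ω * (g : Matrix (Fin 6) (Fin 6) F) * pstd ω) a b := by
  subst hq
  have hcard : Fintype.card F = 4 := by rw [hF]; norm_num
  have h2 := two_eq_zero_of_card hcard
  have hω3 : ω ^ 3 = 1 := by linear_combination (ω - 1) * hω
  have hU := Cfsg.Agent.Lib.H2.Unitary.transpose_mul_map hF g hg.1
  have hdet : (g : Matrix (Fin 6) (Fin 6) F).det = 1 := by
    have h3 : Matrix.GeneralLinearGroup.det g = 1 := hg.2
    have h := congrArg Units.val h3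
    simpa using h
  obtain ⟨d, hd, hN⟩ := conj_n6_of_twist hcard hω _ hU hdet j hj
  exact ⟨d, hd, fun a b => rational_of_conj h2 hω3 _ hU d hd hN a b⟩

end Cfsg.Agent.Lib.H29.UP3
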