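import Mathlib

/-!
# The cubic algebra `R[x]/(x³ - ω)` in coordinates (helper29, for UP3-E6c-B)

`K3 R ω` is the commutative ring `R ⊕ R c ⊕ R c²`, `c³ = ω`, with its regular representation `K3.toMat`
by `3 × 3` matrices (`c ↦` the companion matrix of `x³ - ω`).
-/

set_option autoImplicit false

namespace Cfsg.Agent.Lib.H29.UP3

open Matrix

/-- `R[x]/(x³ - ω)` in coordinates -/
@[ext] structure K3 (R : Type*) (ω : R) where
  /-- coefficient of `1` -/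
  x0 : R
  /-- coefficient of `c` -/
  x1 : R
  /-- coefficient of `c²` -/
  x2 : R

namespace K3

variable {R : Type*} [CommRing R] {ω : R}

instance : Zero (K3 R ω) := ⟨⟨0, 0, 0⟩⟩
instance : One (K3 R ω) := ⟨⟨1, 0, 0⟩⟩
instance : Add (K3 R ω) := ⟨fun x y => ⟨x.x0 + y.x0, x.x1 + y.x1, x.x2 + y.x2⟩⟩
instance : Neg (K3 R ω) := ⟨fun x => ⟨-x.x0, -x.x1, -x.x2⟩⟩
instance : Sub (K3 R ω) := ⟨fun x y => ⟨x.x0 - y.x0, x.x1 - y.x1, x.x2 - y.x2⟩⟩
instance : Mul (K3 R ω) := ⟨fun x y =>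
  ⟨x.x0 * y.x0 + ω * (x.x1 * y.x2 + x.x2 * y.x1), x.x0 * y.x1 + x.x1 * y.x0 + ω * (x.x2 * y.x2),
    x.x0 * y.x2 + x.x1 * y.x1 + x.x2 * y.x0⟩⟩
instance : NatCast (K3 R ω) := ⟨fun n => ⟨n, 0, 0⟩⟩
instance : IntCast (K3 R ω) := ⟨fun n => ⟨n, 0, 0⟩⟩

@[simp] theorem zero_x0 : (0 : K3 R ω).x0 = 0 := rfl
@[simp] theorem zero_x1 : (0 : K3 R ω).x1 = 0 := rfl
@[simp] theorem zero_x2 : (0 : K3 R ω).x2 = 0 := rfl
@[simp] theorem one_x0 : (1 : K3 R ω).x0 = 1 := rfl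
@[simp] theorem one_x1 : (1 : K3 R ω).x1 = 0 := rfl
@[simp] theorem one_x2 : (1 : K3 R ω).x2 = 0 := rfl
@[simp] theorem add_x0 (x y : K3 R ω) : (x + y).x0 = x.x0 + y.x0 := rfl
@[simp] theorem add_x1 (x y : K3 R ω) : (x + y).x1 = x.x1 + y.x1 := rfl
@[simp] theorem add_x2 (x y : K3 R ω) : (x + y).x2 = x.x2 + y.x2 := rfl
@[simp] theorem neg_x0 (x : K3 R ω) : (-x).x0 = -x.x0 := rfl
@[simp] theorem neg_x1 (x : K3 R ω) : (-x).x1 = -x.x1 := rfl
@[simp] theorem neg_x2 (x : K3 R ω) : (-x).x2 = -x.x2 := rfl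
@[simp] theorem sub_x0 (x y : K3 R ω) : (x - y).x0 = x.x0 - y.x0 := rfl
@[simp] theorem sub_x1 (x y : K3 R ω) : (x - y).x1 = x.x1 - y.x1 := rfl
@[simp] theorem sub_x2 (x y : K3 R ω) : (x - y).x2 = x.x2 - y.x2 := rfl
@[simp] theorem mul_x0 (x y : K3 R ω) :
    (x * y).x0 = x.x0 * y.x0 + ω * (x.x1 * y.x2 + x.x2 * y.x1) := rfl
@[simp] theorem mul_x1 (x y : K3 R ω) :
    (x * y).x1 = x.x0 * y.x1 + x.x1 * y.x0 + ω * (x.x2 * y.x2) := rfl
@[simp] theorem mul_x2 (x y : K3 R ω) : (x * y).x2 = x.x0 * y.x2 + x.x1 * y.x1 + x.x2 * y.x0 := rfl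
@[simp] theorem natCast_x0 (n : ℕ) : (n : K3 R ω).x0 = n := rfl
@[simp] theorem natCast_x1 (n : ℕ) : (n : K3 R ω).x1 = 0 := rfl
@[simp] theorem natCast_x2 (n : ℕ) : (n : K3 R ω).x2 = 0 := rfl
@[simp] theorem intCast_x0 (n : ℤ) : (n : K3 R ω).x0 = n := rfl
@[simp] theorem intCast_x1 (n : ℤ) : (n : K3 R ω).x1 = 0 := rfl
@[simp] theorem intCast_x2 (n : ℤ) : (n : K3 R ω).x2 = 0 := rfl

instance : CommRing (K3 R ω) where
  add_assoc x y z := by ext <;> simp [add_assoc]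
  zero_add x := by ext <;> simp
  add_zero x := by ext <;> simp
  add_comm x y := by ext <;> simp [add_comm]
  neg_add_cancel x := by ext <;> simp
  sub_eq_add_neg x y := by ext <;> simp [sub_eq_add_neg]
  nsmul := nsmulRec
  zsmul := zsmulRec
  left_distrib x y z := by ext <;> simp <;> ring
  right_distrib x y z := by ext <;> simp <;> ring
  zero_mul x := by ext <;> simp
  mul_zero x := by ext <;> simp
  mul_assoc x y z := by ext <;> simp <;> ring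
  one_mul x := by ext <;> simp
  mul_one x := by ext <;> simp
  mul_comm x y := by ext <;> simp <;> ring
  natCast_zero := by ext <;> simp
  natCast_succ n := by ext <;> simp
  intCast_ofNat n := by ext <;> simp
  intCast_negSucc n := by ext <;> simp

@[simp] theorem ofNat_x0 (n : ℕ) [n.AtLeastTwo] : (OfNat.ofNat n : K3 R ω).x0 = OfNat.ofNat n := rfl
@[simp] theorem ofNat_x1 (n : ℕ) [n.AtLeastTwo] : (OfNat.ofNat n : K3 R ω).x1 = 0 := rfl
@[simp] theorem ofNat_x2 (n : ℕ) [n.AtLeastTwo] : (OfNat.ofNat n : K3 R ω).x2 = 0 := rfl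

/-- the regular representation -/
def toMat (x : K3 R ω) : Matrix (Fin 3) (Fin 3) R :=
  !![x.x0, ω * x.x2, ω * x.x1; x.x1, x.x0, ω * x.x2; x.x2, x.x1, x.x0]

theorem toMat_zero : toMat (0 : K3 R ω) = 0 := by
  ext i j; fin_cases i <;> fin_cases j <;> simp [toMat]

theorem toMat_one : toMat (1 : K3 R ω) = 1 := by
  ext i j; fin_cases i <;> fin_cases j <;> simp [toMat]

theorem toMat_add (x y : K3 R ω) : toMat (x + y) = toMat x + toMat y := by
  ext i j; fin_cases i <;> fin_cases j <;> simp [toMat] <;> ring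

theorem toMat_mul (x y : K3 R ω) : toMat (x * y) = toMat x * toMat y := by
  ext i j
  fin_cases i <;> fin_cases j <;> simp [toMat, Matrix.mul_apply, Fin.sum_univ_succ] <;> ring

theorem toMat_injective : Function.Injective (toMat : K3 R ω → Matrix (Fin 3) (Fin 3) R) := by
  intro x y h
  have h0 := congrFun (congrFun h 0) 0
  have h1 := congrFun (congrFun h 1) 0
  have h2 := congrFun (congrFun h 2) 0
  simp [toMat] at h0 h1 h2
  exact K3.ext h0 h1 h2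

/-- the companion matrix of `x³ - ω` -/
def cmat (ω : R) : Matrix (Fin 3) (Fin 3) R := !![0, 0, ω; 1, 0, 0; 0, 1, 0]

/-- a matrix commuting with the companion matrix is in the image of `toMat` -/
theorem eq_toMat_of_comm (M : Matrix (Fin 3) (Fin 3) R) (h : M * cmat ω = cmat ω * M) :
    M = toMat (⟨M 0 0, M 1 0, M 2 0⟩ : K3 R ω) := by
  have e := fun i j => congrFun (congrFun h i) j
  have e00 := e 0 0; have e01 := e 0 1; have e02 := e 0 2
  have e10 := e 1 0; have e11 := e 1 1; have e12 := e 1 2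
  have e20 := e 2 0; have e21 := e 2 1; have e22 := e 2 2
  simp [cmat, Matrix.mul_apply, Fin.sum_univ_succ] at e00 e01 e02 e10 e11 e12 e20 e21 e22
  ext i j
  fin_cases i <;> fin_cases j <;> simp [toMat] <;> simp only [e00, e01, e10, e11, e20, e21]

/-- the Gram matrix `N₀` of the symmetric `K`-bilinear trace form -/
def n0 (ω : R) : Matrix (Fin 3) (Fin 3) R := !![1, 0, 0; 0, 0, ω ^ 2; 0, ω ^ 2, 0]

theorem n0_mul_transpose (hω : ω ^ 3 = 1) (x : K3 R ω) : n0 ω * (toMat x)ᵀ = toMat x * n0 ω := by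
  ext i j
  fin_cases i <;> fin_cases j <;> simp [toMat, n0, Matrix.mul_apply, Fin.sum_univ_succ] <;>
    first | ring1 | (ring_nf; simp only [hω]; ring1)

theorem det_toMat (x : K3 R ω) :
    (toMat x).det = x.x0 ^ 3 + ω * x.x1 ^ 3 + ω ^ 2 * x.x2 ^ 3 - 3 * ω * x.x0 * x.x1 * x.x2 := by
  rw [Matrix.det_fin_three]
  simp [toMat]
  ring

theorem toMat_scalar (c : R) : toMat (⟨c, 0, 0⟩ : K3 R ω) = c • (1 : Matrix (Fin 3) (Fin 3) R) := by
  ext i j; fin_cases i <;> fin_cases j <;> simp [toMat]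

/-- the semilinear involution `c ↦ c⁻¹`, `a ↦ a²` (for `R` of characteristic 2 with `a⁴ = a`) -/
def sig (x : K3 R ω) : K3 R ω := ⟨x.x0 ^ 2, ω ^ 2 * x.x2 ^ 2, ω ^ 2 * x.x1 ^ 2⟩

theorem sig_add (h2 : (2 : R) = 0) (x y : K3 R ω) : sig (x + y) = sig x + sig y := by
  ext <;> simp [sig]
  · linear_combination (x.x0 * y.x0) * h2
  · linear_combination (ω ^ 2 * x.x2 * y.x2) * h2
  · linear_combination (ω ^ 2 * x.x1 * y.x1) * h2

theorem sig_mul (h2 : (2 : R) = 0) (hω : ω ^ 3 = 1) (x y : K3 R ω) : sig (x * y) = sig x * sig y := by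
  ext <;> simp [sig]
  · linear_combination ((1)*ω*x.x0*x.x1*y.x0*y.x2 + (1)*ω*x.x0*x.x2*y.x0*y.x1 + (1)*ω^2*x.x1*x.x2*y.x1*y.x2) * h2 + ((-1)*ω^2*x.x1^2*y.x2^2 + (-1)*ω^2*x.x2^2*y.x1^2) * hω
  · linear_combination ((1)*ω^2*x.x0*x.x1*y.x1*y.x2 + (1)*ω^2*x.x0*x.x2*y.x0*y.x2 + (1)*ω^2*x.x1*x.x2*y.x0*y.x1) * h2 + ((-1)*ω^2*x.x1^2*y.x1^2) * hω
  · linear_combination ((1)*ω^2*x.x0*x.x1*y.x0*y.x1 + (1)*x.x0*x.x2*y.x1*y.x2 + (1)*x.x1*x.x2*y.x0*y.x2) * h2 + ((2)*x.x0*x.x2*y.x1*y.x2 + (2)*x.x1*x.x2*y.x0*y.x2) * hω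

theorem toMat_sig (hω : ω ^ 3 = 1) (x : K3 R ω) :
    ((toMat x).map (fun a => a ^ 2))ᵀ = toMat (sig x) := by
  ext i j
  fin_cases i <;> fin_cases j <;> simp [toMat, sig, mul_pow] <;>
    first | ring1 | (ring_nf; simp only [hω]; ring1)

end K3

end Cfsg.Agent.Lib.H29.UP3
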