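import Mathlib
import Cfsg.Agent.Lib.H29.ChevGen50
import Cfsg.Agent.Lib.H29.ChevF4b
import Cfsg.Agent.Lib.H29.ChevTw4
import Cfsg.Agent.Lib.H29.ChevAut1
import Cfsg.Agent.Lib.H24.WcCOMM1
import Cfsg.Agent.Lib.H24.WcCOMMGEN
import Cfsg.Agent.Lib.H25.WcBAD21
import Cfsg.Agent.Lib.H27.WcBAD31
import Cfsg.Agent.Lib.H18.WcTSEP

/-!
# Weakly closed subgroups of `U`: the height filtration of a unipotent radical
-/

set_option autoImplicit false
set_option linter.unusedSectionVars false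
set_option linter.unusedSimpArgs false
set_option linter.unusedVariables false

namespace Cfsg.Agent.Lib.H29.Chev

open Cfsg.Lie Matrix

variable {D : ChevalleyDatum} {fd : FD} {fx : FX} {fc : FC} {fz : FZ} {F : Type*} [Field F]

/-- the roots outside `Φ_J` of height at least `k` -/
def PsiJ (fd : FD) (fx : FX) (J : Set ℕ) (k : ℤ) (s : ℕ) : Prop :=
  0 < fd.omr fx (aJ J) s ∧ k ≤ fd.ht fx s

/-- the subgroup of `U_J` generated by the root subgroups of height at least `k` -/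
def NJ (D : ChevalleyDatum) (fd : FD) (fx : FX) (F : Type*) [Field F] (J : Set ℕ) (k : ℤ) :
    Subgroup (GL D.Idx F) :=
  Vm D F (PsiJ fd fx J k) (fd.n / 2)

theorem aJ_empty : aJ ∅ = hwt := by
  funext j
  simp [aJ, hwt]

theorem NJ_anti (J : Set ℕ) (k k' : ℤ) (h : k ≤ k') : NJ D fd fx F J k' ≤ NJ D fd fx F J k :=
  Vm_mono _ _ _ fun s hs => ⟨hs.1, le_trans h hs.2⟩

namespace Cert12

variable (C : Cert12 D fd fx fc fz)
include C

theorem ht_pos (r : ℕ) (hr : r < fd.n) (hpos : fd.n / 2 ≤ r) : 0 < fd.ht fx r := by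
  have h1 := C.omr_aJ_nonneg ∅ r hr hpos
  have h2 := C.not_inRootSub_empty r hr
  rw [C.inRootSub_iff_omr ∅ r hr] at h2
  rw [aJ_empty] at h1 h2
  unfold FD.ht
  omega

theorem ht_term (r s : ℕ) (hr : r < fd.n) (hs : s < fd.n) (c : ℕ × ℤ × ℕ × ℕ) (hc : c ∈ fd.commT r s) :
    fd.ht fx c.1 = (c.2.2.1 : ℤ) * fd.ht fx r + (c.2.2.2 : ℤ) * fd.ht fx s :=
  C.omr_term hwt r s hr hs c hc

theorem xA_mem_NJ (J : Set ℕ) (k : ℤ) (s : ℕ) (hs : s < fd.n) (h1 : 0 < fd.omr fx (aJ J) s)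
    (h2 : k ≤ fd.ht fx s) (t : F) : C.c6.c2.xA s t ∈ NJ D fd fx F J k :=
  C.xA_mem_Vm _ _ s hs (C.pos_of_omr_pos J s hs h1) ⟨h1, h2⟩ (C.pos_of_omr_pos J s hs h1) t

theorem NJ_le_of_gen (J : Set ℕ) (k : ℤ) (Y : Subgroup (GL D.Idx F))
    (h : ∀ s, s < fd.n → fd.n / 2 ≤ s → 0 < fd.omr fx (aJ J) s → k ≤ fd.ht fx s → ∀ t : F, C.c6.c2.xA s t ∈ Y) :
    NJ D fd fx F J k ≤ Y := by
  unfold NJ Vm
  rw [Subgroup.closure_le]
  intro g hg
  obtain ⟨s, t, hs, hps, hΨ, _, rfl⟩ := C.eq_xA_of_VmSet _ _ g hg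
  exact h s hs hps hΨ.1 hΨ.2 t

theorem NJ_one (J : Set ℕ) : NJ D fd fx F J 1 = D.unipotentRadical F J := by
  apply le_antisymm
  · apply C.NJ_le_of_gen
    intro s hs hps h1 _ t
    exact C.xA_mem_radical J s hs h1 t
  · unfold ChevalleyDatum.unipotentRadical
    rw [Subgroup.closure_le]
    intro g hg
    obtain ⟨s, u, hs, h1, rfl⟩ := C.eq_xA_of_radical_gen J g hg
    have := C.ht_pos s hs (C.pos_of_omr_pos J s hs h1)
    exact C.xA_mem_NJ J 1 s hs h1 (by omega) u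

theorem NJ_le_pos (J : Set ℕ) (k : ℤ) : NJ D fd fx F J k ≤ D.posUnipotent F := by
  rw [C.posUnipotent_eq]
  exact Vm_mono _ _ _ fun _ _ => trivial

theorem rcZ_le (r j : ℕ) : fd.rcZ fx r j ≤ 7 := by
  unfold FD.rcZ
  have : (fx.rc >>> (4 * (r * fd.l + j))) &&& 15 ≤ 15 := Nat.and_le_right
  omega

theorem ht_le (r : ℕ) : fd.ht fx r ≤ 7 * fd.l := by
  unfold FD.ht FD.omr
  rw [listsum_eq]
  calc ∑ i ∈ Finset.range fd.l, hwt i * fd.rcZ fx r i ≤ ∑ i ∈ Finset.range fd.l, (7 : ℤ) := by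
        apply Finset.sum_le_sum
        intro i _
        have := C.rcZ_le r i
        simp only [hwt, one_mul]
        exact this
    _ = 7 * fd.l := by simp [mul_comm]

theorem NJ_top (J : Set ℕ) (k : ℤ) (hk : 7 * (fd.l : ℤ) < k) : NJ D fd fx F J k = ⊥ := by
  rw [eq_bot_iff]
  apply C.NJ_le_of_gen
  intro s _ _ _ h2 t
  have := C.ht_le s
  omega

/-- conjugating a generator of `N_k` by a positive root element -/
theorem conj_gen_NJ (J : Set ℕ) (k : ℤ) (r : ℕ) (hr : r < fd.n) (hpr : fd.n / 2 ≤ r) (s : ℕ) (hs : s < fd.n)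
    (h1 : 0 < fd.omr fx (aJ J) s) (h2 : k ≤ fd.ht fx s) (t u : F) :
    ∃ m ∈ NJ D fd fx F J (k + 1),
      C.c6.c2.xA r t * C.c6.c2.xA s u * (C.c6.c2.xA r t)⁻¹ = C.c6.c2.xA s u * m := by
  have hev := C.c6.c2.heven
  have hps := C.pos_of_omr_pos J s hs h1
  by_cases hrs : s = r
  · subst hrs
    refine ⟨1, one_mem _, ?_⟩
    rw [C.c6.c2.xA_inv, C.c6.c2.xA_mul, C.c6.c2.xA_mul, mul_one]
    congr 1; ring
  have hcf := C.c6.cfg (F := F) r s hr hs hrs (by omega) (-t) u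
  refine ⟨C.c6.c2.ctG (fd.commT r s) (-t) u, ?_, ?_⟩
  · apply C.ctG_mem_Vm
    intro c hc
    obtain ⟨hc1, _, hc3⟩ := fd.linc_spec C.linc r s hr hs c hc
    have hc4 := hc3 hpr hps (fun h => hrs h.symm)
    obtain ⟨hi, hj⟩ := fd.commT_ij r s c hc
    have hi' : (1 : ℤ) ≤ (c.2.2.1 : ℤ) := by exact_mod_cast hi
    have hj' : (1 : ℤ) ≤ (c.2.2.2 : ℤ) := by exact_mod_cast hj
    have hΓ := C.omr_aJ_nonneg J r hr hpr
    have hhr := C.ht_pos r hr hpr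
    have hhs := C.ht_pos s hs hps
    refine ⟨hc1, by omega, ⟨?_, ?_⟩, by omega⟩
    · rw [C.omr_term _ r s hr hs c hc]
      nlinarith [mul_nonneg (le_trans zero_le_one hi') hΓ]
    · rw [C.ht_term r s hr hs c hc]
      nlinarith
  · rw [C.c6.c2.xA_inv, mul_assoc, hcf, ← mul_assoc, ← mul_assoc, C.c6.c2.xA_mul, add_neg_cancel, C.c6.c2.xA_zero,
      one_mul]

/-- `U` normalises `N_k` -/
theorem pos_conj_NJ (J : Set ℕ) (k : ℤ) (g : GL D.Idx F) (hg : g ∈ D.posUnipotent F)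
    (y : GL D.Idx F) (hy : y ∈ NJ D fd fx F J k) :
    g * y * g⁻¹ ∈ NJ D fd fx F J k ∧ g⁻¹ * y * g ∈ NJ D fd fx F J k := by
  have hle : D.posUnipotent F ≤ conjStab (NJ D fd fx F J k) := by
    rw [C.posUnipotent_eq]
    unfold Vm
    rw [Subgroup.closure_le]
    intro x hx
    obtain ⟨r, t, hr, hpr, _, _, rfl⟩ := C.eq_xA_of_VmSet _ _ x hx
    have key : ∀ (t : F) (y : GL D.Idx F), y ∈ NJ D fd fx F J k →
        C.c6.c2.xA r t * y * (C.c6.c2.xA r t)⁻¹ ∈ NJ D fd fx F J k := by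
      intro t y hy
      apply conj_closure_mem _ _ _ _ y hy
      intro g hg
      obtain ⟨s, u, hs, hps, hΨ, _, rfl⟩ := C.eq_xA_of_VmSet _ _ g hg
      obtain ⟨m, hm, e⟩ := C.conj_gen_NJ J k r hr hpr s hs hΨ.1 hΨ.2 t u
      rw [e]
      exact mul_mem (C.xA_mem_NJ J k s hs hΨ.1 hΨ.2 u) (NJ_anti J k (k + 1) (by omega) hm)
    intro y hy
    refine ⟨key t y hy, ?_⟩
    have := key (-t) y hy
    rwa [← C.c6.c2.xA_inv, inv_inv] at this
  exact hle hg y hy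

/-- `[U, N_k] ≤ N_{k+1}` -/
theorem comm_NJ (J : Set ℕ) (k : ℤ) (g : GL D.Idx F) (hg : g ∈ D.posUnipotent F)
    (y : GL D.Idx F) (hy : y ∈ NJ D fd fx F J k) :
    g * y * g⁻¹ * y⁻¹ ∈ NJ D fd fx F J (k + 1) := by
  rw [C.posUnipotent_eq] at hg
  have hgenU : ∀ x ∈ VmSet D F (fun _ => True) (fd.n / 2), x ∈ D.posUnipotent F := by
    intro x hx
    rw [C.posUnipotent_eq]
    exact Subgroup.subset_closure hx
  have hgenN : ∀ x ∈ VmSet D F (PsiJ fd fx J k) (fd.n / 2), x ∈ D.posUnipotent F := by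
    intro x hx
    exact C.NJ_le_pos J k (Subgroup.subset_closure hx)
  apply Cfsg.Agent.Lib.H24.Wc.comm_closure (VmSet D F (fun _ => True) (fd.n / 2)) (VmSet D F (PsiJ fd fx J k) (fd.n / 2))
    (NJ D fd fx F J (k + 1)) _ _ _ g hg y hy
  · intro s hs x hx
    exact C.pos_conj_NJ J (k + 1) s (hgenU s hs) x hx
  · intro s hs x hx
    exact C.pos_conj_NJ J (k + 1) s (hgenN s hs) x hx
  · intro a ha b hb
    obtain ⟨r, t, hr, hpr, _, _, rfl⟩ := C.eq_xA_of_VmSet _ _ a ha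
    obtain ⟨s, u, hs, hps, hΨ, _, rfl⟩ := C.eq_xA_of_VmSet _ _ b hb
    obtain ⟨m, hm, e⟩ := C.conj_gen_NJ J k r hr hpr s hs hΨ.1 hΨ.2 t u
    rw [e]
    exact (C.pos_conj_NJ J (k + 1) _ (hgenN _ hb) m hm).1

end Cert12

end Cfsg.Agent.Lib.H29.Chev
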