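import Mathlib
import Cfsg.Agent.Lib.H29.WcA

/-!
# Weakly closed subgroups of `U`: the inductive steps
-/

set_option autoImplicit false
set_option linter.unusedSectionVars false
set_option linter.unusedSimpArgs false
set_option linter.unusedVariables false

namespace Cfsg.Agent.Lib.H29.Chev

open Cfsg.Lie Matrix

variable {D : ChevalleyDatum} {fd : FD} {fx : FX} {fc : FC} {fz : FZ} {F : Type*} [Field F]

namespace Cert12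

variable (C : Cert12 D fd fx fc fz)
include C

/-- the right-hand side of the commutator formula lies in `X N_{h+1}` -/
theorem ctG_mem_sup (J : Set ℕ) (h : ℤ) (X : Subgroup (GL D.Idx F)) (hXU : X ≤ D.posUnipotent F)
    (hXn : ∀ g ∈ D.posUnipotent F, ∀ x ∈ X, g * x * g⁻¹ ∈ X)
    (hP : NJ D fd fx F J 1 ≤ X ⊔ NJ D fd fx F J h)
    (δ γ : ℕ) (hδ : δ < fd.n) (hγ : γ < fd.n) (hpδ : fd.n / 2 ≤ δ) (hpγ : fd.n / 2 ≤ γ) (hne : γ ≠ δ)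
    (hJ : 0 < fd.omr fx (aJ J) δ ∨ 0 < fd.omr fx (aJ J) γ) (t u : F) :
    C.c6.c2.ctG (fd.commT δ γ) t u ∈ X ⊔ NJ D fd fx F J (h + 1) := by
  have hev := C.c6.c2.heven
  have hrel := C.c6.cfg (F := F) δ γ hδ hγ hne (by omega) t u
  have hmemU : ∀ s, s < fd.n → fd.n / 2 ≤ s → ∀ v : F, C.c6.c2.xA s v ∈ D.posUnipotent F := by
    intro s hs hps v
    rw [C.posUnipotent_eq]
    exact C.xA_mem_Vm _ _ s hs hps trivial hps v
  apply Cfsg.Agent.Lib.H24.Wc.comm_step (D.posUnipotent F) X (NJ D fd fx F J h) (NJ D fd fx F J (h + 1)) hXU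
    (C.NJ_le_pos J h) (NJ_anti J h (h + 1) (by omega)) hXn
    (fun g hg x hx => (C.pos_conj_NJ J h g hg x hx).1)
    (fun g hg x hx => (C.pos_conj_NJ J (h + 1) g hg x hx).1)
    (fun g hg n hn => C.comm_NJ J h g hg n hn)
    (C.c6.c2.xA γ u) (C.c6.c2.xA δ t) _ (hmemU γ hγ hpγ u) (hmemU δ hδ hpδ t) hrel
  rcases hJ with hJ | hJ
  · right
    exact hP (C.xA_mem_NJ J 1 δ hδ hJ (by have := C.ht_pos δ hδ hpδ; omega) t)
  · left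
    exact hP (C.xA_mem_NJ J 1 γ hγ hJ (by have := C.ht_pos γ hγ hpγ; omega) u)

/-- the tail of the commutator formula lies in `N_{h+1}` -/
theorem ctG_tail_mem (J : Set ℕ) (h : ℤ)
    (δ γ : ℕ) (hδ : δ < fd.n) (hγ : γ < fd.n) (hpδ : fd.n / 2 ≤ δ) (hpγ : fd.n / 2 ≤ γ) (hne : γ ≠ δ)
    (hJ : 0 < fd.omr fx (aJ J) δ ∨ 0 < fd.omr fx (aJ J) γ)
    (L : List (ℕ × ℤ × ℕ × ℕ)) (hsub : ∀ c ∈ L, c ∈ fd.commT δ γ) (hL : ∀ c ∈ L, h < fd.ht fx c.1) (t u : F) :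
    C.c6.c2.ctG L t u ∈ NJ D fd fx F J (h + 1) := by
  apply C.ctG_mem_Vm
  intro c hc
  have hc' := hsub c hc
  obtain ⟨hc1, _, hc3⟩ := fd.linc_spec C.linc δ γ hδ hγ c hc'
  have hc4 := hc3 hpδ hpγ (fun e => hne e.symm)
  obtain ⟨hi, hj⟩ := fd.commT_ij δ γ c hc'
  have hi' : (1 : ℤ) ≤ (c.2.2.1 : ℤ) := by exact_mod_cast hi
  have hj' : (1 : ℤ) ≤ (c.2.2.2 : ℤ) := by exact_mod_cast hj
  have h1 := C.omr_aJ_nonneg J δ hδ hpδ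
  have h2 := C.omr_aJ_nonneg J γ hγ hpγ
  refine ⟨hc1, by omega, ⟨?_, ?_⟩, by omega⟩
  · rw [C.omr_term _ δ γ hδ hγ c hc']
    rcases hJ with hJ | hJ
    · nlinarith [mul_nonneg (le_trans zero_le_one hj') h2]
    · nlinarith [mul_nonneg (le_trans zero_le_one hi') h1]
  · have := hL c hc
    omega

/-- **good step**: `β = δ + γ` with structure constant invertible in `F` -/
theorem good_step (J : Set ℕ) (h : ℤ) (X : Subgroup (GL D.Idx F)) (hXU : X ≤ D.posUnipotent F)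
    (hXn : ∀ g ∈ D.posUnipotent F, ∀ x ∈ X, g * x * g⁻¹ ∈ X)
    (hP : NJ D fd fx F J 1 ≤ X ⊔ NJ D fd fx F J h)
    (β δ γ : ℕ) (hδ : δ < fd.n) (hγ : γ < fd.n) (hpδ : fd.n / 2 ≤ δ) (hpγ : fd.n / 2 ≤ γ) (hne : γ ≠ δ)
    (Cc : ℤ) (L : List (ℕ × ℤ × ℕ × ℕ)) (hcomm : fd.commT δ γ = (β, Cc, 1, 1) :: L)
    (hC : ((Cc : ℤ) : F) ≠ 0) (hL : ∀ c ∈ L, h < fd.ht fx c.1)
    (hβ : 0 < fd.omr fx (aJ J) β) (z : F) :
    C.c6.c2.xA β z ∈ X ⊔ NJ D fd fx F J (h + 1) := by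
  have hmem : ((β, Cc, 1, 1) : ℕ × ℤ × ℕ × ℕ) ∈ fd.commT δ γ := by rw [hcomm]; exact List.mem_cons_self
  have hJ : 0 < fd.omr fx (aJ J) δ ∨ 0 < fd.omr fx (aJ J) γ := by
    have := C.omr_term (aJ J) δ γ hδ hγ _ hmem
    simp only [Nat.cast_one, one_mul] at this
    by_contra hcon
    rw [not_or] at hcon
    omega
  have h1 := C.ctG_mem_sup J h X hXU hXn hP δ γ hδ hγ hpδ hpγ hne hJ (-1) (z / ((Cc : ℤ) : F))
  have h2 := C.ctG_tail_mem (F := F) J h δ γ hδ hγ hpδ hpγ hne hJ L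
    (fun c hc => by rw [hcomm]; exact List.mem_cons_of_mem _ hc) hL (-1) (z / ((Cc : ℤ) : F))
  rw [hcomm] at h1
  unfold Cert2.ctG at h1
  rw [List.map_cons, List.prod_cons] at h1
  have e : ((Cc : ℤ) : F) * (-(-1 : F)) ^ 1 * (z / ((Cc : ℤ) : F)) ^ 1 = z := by
    field_simp
  simp only [e] at h1
  have h3 := mul_mem h1 (inv_mem ((le_sup_right : NJ D fd fx F J (h + 1) ≤ X ⊔ NJ D fd fx F J (h + 1)) h2))
  unfold Cert2.ctG at h3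
  rwa [mul_inv_cancel_right] at h3

/-- a root element of height `h` outside `Φ_J` is central in `U` modulo `N_{h+1}` -/
theorem xA_central_mod (J : Set ℕ) (h : ℤ) (β : ℕ) (hβn : β < fd.n) (hβ : 0 < fd.omr fx (aJ J) β)
    (hhβ : h ≤ fd.ht fx β) (g : GL D.Idx F) (hg : g ∈ D.posUnipotent F) (w : F) :
    g * C.c6.c2.xA β w * g⁻¹ * (C.c6.c2.xA β w)⁻¹ ∈ NJ D fd fx F J (h + 1) :=
  C.comm_NJ J h g hg _ (C.xA_mem_NJ J h β hβn hβ hhβ w)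

/-- **special step (2,1)**: `β = 2δ + γ` -/
theorem sp21_step [Fintype F] (hq : 3 ≤ Fintype.card F)
    (J : Set ℕ) (h : ℤ) (X : Subgroup (GL D.Idx F)) (hXU : X ≤ D.posUnipotent F)
    (hXn : ∀ g ∈ D.posUnipotent F, ∀ x ∈ X, g * x * g⁻¹ ∈ X)
    (hP : NJ D fd fx F J 1 ≤ X ⊔ NJ D fd fx F J h)
    (β δ γ μ : ℕ) (hδ : δ < fd.n) (hγ : γ < fd.n) (hpδ : fd.n / 2 ≤ δ) (hpγ : fd.n / 2 ≤ γ) (hne : γ ≠ δ)
    (C11 C21 : ℤ) (L : List (ℕ × ℤ × ℕ × ℕ))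
    (hcomm : fd.commT δ γ = (μ, C11, 1, 1) :: (β, C21, 2, 1) :: L)
    (hC : ((C21 : ℤ) : F) ≠ 0) (hL : ∀ c ∈ L, h < fd.ht fx c.1)
    (hβ : 0 < fd.omr fx (aJ J) β) (hhβ : h ≤ fd.ht fx β) (z : F) :
    C.c6.c2.xA β z ∈ X ⊔ NJ D fd fx F J (h + 1) := by
  have hmem1 : ((μ, C11, 1, 1) : ℕ × ℤ × ℕ × ℕ) ∈ fd.commT δ γ := by rw [hcomm]; exact List.mem_cons_self
  have hmem2 : ((β, C21, 2, 1) : ℕ × ℤ × ℕ × ℕ) ∈ fd.commT δ γ := by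
    rw [hcomm]; exact List.mem_cons_of_mem _ List.mem_cons_self
  have h1 := C.omr_aJ_nonneg J δ hδ hpδ
  have h2 := C.omr_aJ_nonneg J γ hγ hpγ
  have hJ : 0 < fd.omr fx (aJ J) δ ∨ 0 < fd.omr fx (aJ J) γ := by
    have := C.omr_term (aJ J) δ γ hδ hγ _ hmem2
    simp only [Nat.cast_one, one_mul, Nat.cast_ofNat] at this
    by_contra hcon
    rw [not_or] at hcon
    omega
  obtain ⟨hμn, _, hμ3⟩ := fd.linc_spec C.linc δ γ hδ hγ _ hmem1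
  obtain ⟨hβn, _, hβ3⟩ := fd.linc_spec C.linc δ γ hδ hγ _ hmem2
  have hμp := hμ3 hpδ hpγ (fun e => hne e.symm)
  have hβp := hβ3 hpδ hpγ (fun e => hne e.symm)
  simp only at hμn hβn hμp hβp
  apply Cfsg.Agent.Lib.H25.Wc.bad21 hq (D.posUnipotent F) (X ⊔ NJ D fd fx F J (h + 1)) (NJ D fd fx F J (h + 1)) le_sup_right
    (fun g hg x hx => (C.pos_conj_NJ J (h + 1) g hg x hx).1)
    (fun t => C.c6.c2.xA μ t) (fun t => C.c6.c2.xA β t)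
    (fun t => C.xA_pos_mem μ hμn (by omega) t) (fun t => C.xA_pos_mem β hβn (by omega) t)
    (fun s t => (C.c6.c2.xA_mul μ s t).symm) (fun s t => (C.c6.c2.xA_mul β s t).symm)
    (fun g hg w => C.xA_central_mod J h β hβn hβ hhβ g hg w)
    (-((C11 : ℤ) : F)) ((C21 : ℤ) : F) hC
  intro t u
  have k1 := C.ctG_mem_sup J h X hXU hXn hP δ γ hδ hγ hpδ hpγ hne hJ t u
  have k2 := C.ctG_tail_mem (F := F) J h δ γ hδ hγ hpδ hpγ hne hJ L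
    (fun c hc => by rw [hcomm]; exact List.mem_cons_of_mem _ (List.mem_cons_of_mem _ hc)) hL t u
  refine ⟨C.c6.c2.ctG L t u, k2, ?_⟩
  rw [hcomm] at k1
  unfold Cert2.ctG at k1 ⊢
  rw [List.map_cons, List.prod_cons, List.map_cons, List.prod_cons, ← mul_assoc] at k1
  have e1 : ((C11 : ℤ) : F) * (-t) ^ 1 * u ^ 1 = -((C11 : ℤ) : F) * (t * u) := by ring
  have e2 : ((C21 : ℤ) : F) * (-t) ^ 2 * u ^ 1 = ((C21 : ℤ) : F) * (t ^ 2 * u) := by ring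
  simp only [e1, e2] at k1
  exact k1

/-- **special step (3,1)**: `β = 3δ + γ` -/
theorem sp31_step [Fintype F] (hq : 4 ≤ Fintype.card F)
    (J : Set ℕ) (h : ℤ) (X : Subgroup (GL D.Idx F)) (hXU : X ≤ D.posUnipotent F)
    (hXn : ∀ g ∈ D.posUnipotent F, ∀ x ∈ X, g * x * g⁻¹ ∈ X)
    (hP : NJ D fd fx F J 1 ≤ X ⊔ NJ D fd fx F J h)
    (β δ γ μ₁ μ₂ : ℕ) (hδ : δ < fd.n) (hγ : γ < fd.n) (hpδ : fd.n / 2 ≤ δ) (hpγ : fd.n / 2 ≤ γ) (hne : γ ≠ δ)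
    (C11 C21 C31 : ℤ) (L : List (ℕ × ℤ × ℕ × ℕ))
    (hcomm : fd.commT δ γ = (μ₁, C11, 1, 1) :: (μ₂, C21, 2, 1) :: (β, C31, 3, 1) :: L)
    (hC : ((C31 : ℤ) : F) ≠ 0) (hL : ∀ c ∈ L, h < fd.ht fx c.1)
    (hμ : μ₂ ≠ μ₁) (hLμ : ∀ c ∈ fd.commT μ₁ μ₂, h < fd.ht fx c.1)
    (hβ : 0 < fd.omr fx (aJ J) β) (hhβ : h ≤ fd.ht fx β) (z : F) :
    C.c6.c2.xA β z ∈ X ⊔ NJ D fd fx F J (h + 1) := by
  have hev := C.c6.c2.heven
  have hmem1 : ((μ₁, C11, 1, 1) : ℕ × ℤ × ℕ × ℕ) ∈ fd.commT δ γ := by rw [hcomm]; exact List.mem_cons_self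
  have hmem2 : ((μ₂, C21, 2, 1) : ℕ × ℤ × ℕ × ℕ) ∈ fd.commT δ γ := by
    rw [hcomm]; exact List.mem_cons_of_mem _ List.mem_cons_self
  have hmem3 : ((β, C31, 3, 1) : ℕ × ℤ × ℕ × ℕ) ∈ fd.commT δ γ := by
    rw [hcomm]; exact List.mem_cons_of_mem _ (List.mem_cons_of_mem _ List.mem_cons_self)
  have h1 := C.omr_aJ_nonneg J δ hδ hpδ
  have h2 := C.omr_aJ_nonneg J γ hγ hpγ
  have hJ : 0 < fd.omr fx (aJ J) δ ∨ 0 < fd.omr fx (aJ J) γ := by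
    have := C.omr_term (aJ J) δ γ hδ hγ _ hmem3
    simp only [Nat.cast_one, one_mul, Nat.cast_ofNat] at this
    by_contra hcon
    rw [not_or] at hcon
    omega
  obtain ⟨hμ1n, _, hμ13⟩ := fd.linc_spec C.linc δ γ hδ hγ _ hmem1
  obtain ⟨hμ2n, _, hμ23⟩ := fd.linc_spec C.linc δ γ hδ hγ _ hmem2
  obtain ⟨hβn, _, hβ3⟩ := fd.linc_spec C.linc δ γ hδ hγ _ hmem3
  have hμ1p := hμ13 hpδ hpγ (fun e => hne e.symm)
  have hμ2p := hμ23 hpδ hpγ (fun e => hne e.symm)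
  have hβp := hβ3 hpδ hpγ (fun e => hne e.symm)
  simp only at hμ1n hμ2n hβn hμ1p hμ2p hβp
  have hJμ : 0 < fd.omr fx (aJ J) μ₁ := by
    have := C.omr_term (aJ J) δ γ hδ hγ _ hmem1
    simp only [Nat.cast_one, one_mul] at this
    omega
  apply Cfsg.Agent.Lib.H27.Wc.bad31 hq (D.posUnipotent F) (X ⊔ NJ D fd fx F J (h + 1)) (NJ D fd fx F J (h + 1)) le_sup_right
    (fun g hg x hx => (C.pos_conj_NJ J (h + 1) g hg x hx).1)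
    (fun t => C.c6.c2.xA μ₁ t) (fun t => C.c6.c2.xA μ₂ t) (fun t => C.c6.c2.xA β t)
    (fun t => C.xA_pos_mem μ₁ hμ1n (by omega) t) (fun t => C.xA_pos_mem μ₂ hμ2n (by omega) t)
    (fun t => C.xA_pos_mem β hβn (by omega) t)
    (fun s t => (C.c6.c2.xA_mul μ₁ s t).symm) (fun s t => (C.c6.c2.xA_mul μ₂ s t).symm)
    (fun s t => (C.c6.c2.xA_mul β s t).symm)
    (fun g hg w => C.xA_central_mod J h β hβn hβ hhβ g hg w)
    ?_ (-((C11 : ℤ) : F)) ((C21 : ℤ) : F) (-((C31 : ℤ) : F)) (neg_ne_zero.mpr hC)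
  · intro t u
    have k1 := C.ctG_mem_sup J h X hXU hXn hP δ γ hδ hγ hpδ hpγ hne hJ t u
    have k2 := C.ctG_tail_mem (F := F) J h δ γ hδ hγ hpδ hpγ hne hJ L
      (fun c hc => by
        rw [hcomm]; exact List.mem_cons_of_mem _ (List.mem_cons_of_mem _ (List.mem_cons_of_mem _ hc))) hL t u
    refine ⟨C.c6.c2.ctG L t u, k2, ?_⟩
    rw [hcomm] at k1
    unfold Cert2.ctG at k1 ⊢
    rw [List.map_cons, List.prod_cons, List.map_cons, List.prod_cons, List.map_cons, List.prod_cons,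
      ← mul_assoc, ← mul_assoc] at k1
    have e1 : ((C11 : ℤ) : F) * (-t) ^ 1 * u ^ 1 = -((C11 : ℤ) : F) * (t * u) := by ring
    have e2 : ((C21 : ℤ) : F) * (-t) ^ 2 * u ^ 1 = ((C21 : ℤ) : F) * (t ^ 2 * u) := by ring
    have e3 : ((C31 : ℤ) : F) * (-t) ^ 3 * u ^ 1 = -((C31 : ℤ) : F) * (t ^ 3 * u) := by ring
    simp only [e1, e2, e3] at k1
    exact k1
  · intro v w
    have hcf := C.c6.cfg (F := F) μ₁ μ₂ hμ1n hμ2n hμ (by omega) (-v) w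
    have e : C.c6.c2.xA μ₁ v * C.c6.c2.xA μ₂ w * (C.c6.c2.xA μ₁ v)⁻¹ =
        C.c6.c2.xA μ₂ w * C.c6.c2.ctG (fd.commT μ₁ μ₂) (-v) w := by
      rw [C.c6.c2.xA_inv, mul_assoc, hcf, ← mul_assoc, ← mul_assoc, C.c6.c2.xA_mul, add_neg_cancel,
        C.c6.c2.xA_zero, one_mul]
    rw [e]
    have k3 := C.ctG_tail_mem (F := F) J h μ₁ μ₂ hμ1n hμ2n (by omega) (by omega) hμ (Or.inl hJμ)
      (fd.commT μ₁ μ₂) (fun c hc => hc) hLμ (-v) w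
    exact (C.pos_conj_NJ J (h + 1) _ (C.xA_pos_mem μ₂ hμ2n (by omega) w) _ k3).1

end Cert12

end Cfsg.Agent.Lib.H29.Chev
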