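import Mathlib
import Cfsg.Agent.Lib.H29.StCountC

/-!
# The longest element of a parabolic subgroup of the Weyl group, lifted to `N_K`
-/

set_option autoImplicit false
set_option linter.unusedSectionVars false

namespace Cfsg.Agent.Lib.H29.StCount

open Cfsg.Agent.Lib.H2 Cfsg.Agent.Lib.H2.CoxExch Cfsg.Agent Cfsg.Agent.Lib.H12 Cfsg.Agent.Lib.H12.BNSt

theorem exists_long {G : Type*} [Group G] [Finite G] (P : Cfsg.BNPair G) {ι : Type*} [DecidableEq ι]
    (e : ι → G) (s : Finset ι) (hS : e '' (s : Set ι) = P.S) (K : Finset ι) (hK : K ⊆ s) :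
    ∃ n ∈ NK P (e '' (K : Set ι)), ∀ i ∈ K, BN.len P (e i * n) < BN.len P n := by
  classical
  have hK' : e '' (K : Set ι) ⊆ P.S := by
    rw [← hS]
    exact Set.image_mono (by exact_mod_cast hK)
  set PK := P.parabolic (e '' (K : Set ι)) with hPK
  set P' := subBN P (e '' (K : Set ι)) hK' with hP'
  haveI : Fintype ↥PK := Fintype.ofFinite _
  have hS' : eK P e (e '' (K : Set ι)) '' (K : Set ι) = P'.S := image_eK P (le_refl K)
  obtain ⟨w₀, hw1, hw2, -, -⟩ := exists_w0 P'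
  have hdesc : ∀ i ∈ K, BN.len P (e i * ((lift P' w₀ : ↥PK) : G)) < BN.len P ((lift P' w₀ : ↥PK) : G) := by
    intro i hi
    have hei : e i ∈ e '' (K : Set ι) := ⟨i, hi, rfl⟩
    have htS : eK P e (e '' (K : Set ι)) i ∈ P'.S := by
      rw [← hS']; exact ⟨i, hi, rfl⟩
    have h1 := hw2 ⟨_, htS⟩
    rw [← mkW_lift P' w₀, sg_eq, ← mkW_mul P' _ _ (P'.subset htS) (lift_mem P' w₀), len_mkW, len_mkW,
      len_subBN P hK' _ (P'.N.mul_mem (P'.subset htS) (lift_mem P' w₀)),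
      len_subBN P hK' _ (lift_mem P' w₀)] at h1
    rw [Subgroup.coe_mul, eK_val P hei] at h1
    exact h1
  refine ⟨((lift P' w₀ : ↥PK) : G), ?_, hdesc⟩
  exact (mem_subBN_N P hK' _).mp (lift_mem P' w₀)

end Cfsg.Agent.Lib.H29.StCount
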