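import Mathlib
import Cfsg.Agent.Lib.H29.WcB
import Cfsg.Agent.Lib.H29.WcLong
import Cfsg.Agent.Lib.H29.StCountF

/-!
# Weakly closed subgroups of `U`: containment in the unipotent radical
-/

set_option autoImplicit false
set_option linter.unusedSectionVars false
set_option linter.unusedSimpArgs false
set_option linter.unusedVariables false

namespace Cfsg.Agent.Lib.H29.Chev

open Cfsg.Lie Matrix Cfsg.Agent.Lib.H12.ChevSt Cfsg.Agent.Lib.H29.StCount Cfsg.Agent.Lib.H2

variable {D : ChevalleyDatum} {fd : FD} {fx : FX} {fc : FC} {fz : FZ} {F : Type*} [Field F]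

namespace Cert12

variable (C : Cert12 D fd fx fc fz)
include C

/-- a subgroup of `U` normalised by `H` and by the `n_i`, `i ∈ K`, lies in `U_K` -/
theorem le_radical [Finite F] (K : Finset ℕ) (hK : K ⊆ Finset.range D.rank) (X : Subgroup (GL D.Idx F))
    (hXU : X ≤ D.posUnipotent F)
    (hT : ∀ k ∈ D.diagonalSubgroup F, ∀ x ∈ X, k * x * k⁻¹ ∈ X)
    (hn : ∀ i ∈ K, ∀ x ∈ X, ((eS D F i : ↥(D.group F)) : GL D.Idx F) * x * ((eS D F i : ↥(D.group F)) : GL D.Idx F)⁻¹ ∈ X ∧
      ((eS D F i : ↥(D.group F)) : GL D.Idx F)⁻¹ * x * ((eS D F i : ↥(D.group F)) : GL D.Idx F) ∈ X) :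
    X ≤ D.unipotentRadical F (K : Set ℕ) := by
  obtain ⟨n, hnN, hdesc⟩ := exists_long (C.c6.bnPair F) (eS D F) (Finset.range D.rank) (image_eS C.c6) K hK
  have hstab : NK (C.c6.bnPair F) (eS D F '' (K : Set ℕ)) ≤ (conjStab X).comap (D.group F).subtype := by
    unfold NK
    apply sup_le
    · rw [Subgroup.closure_le]
      rintro g ⟨i, hi, rfl⟩
      intro x hx
      exact hn i hi x hx
    · intro g hg
      have hg1 : (g : GL D.Idx F) ∈ D.borelSubgroup F := Subgroup.mem_subgroupOf.mp hg.1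
      have hg2 : (g : GL D.Idx F) ∈ D.monomialSubgroup F := Subgroup.mem_subgroupOf.mp hg.2
      have hd : (g : GL D.Idx F) ∈ D.diagonalSubgroup F := by
        rw [← C.c6.c2.borel_inf_monomial]
        exact ⟨hg1, hg2⟩
      intro x hx
      refine ⟨hT _ hd x hx, ?_⟩
      have := hT _ (inv_mem hd) x hx
      simpa using this
  intro x hx
  have hxG : x ∈ D.group F := C.c6.c2.pos_le_group (hXU hx)
  have key := C.mem_radical_of_desc K hK n hnN hdesc ⟨x, hxG⟩
    (Subgroup.mem_subgroupOf.mpr (hXU hx))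
    (by
      rw [Cert6.bnPair_B, Subgroup.mem_subgroupOf]
      have h1 := (hstab hnN x hx).2
      simp only [Subgroup.coe_mul, Subgroup.coe_inv]
      exact (le_sup_left : D.posUnipotent F ≤ D.borelSubgroup F) (hXU h1))
  exact Subgroup.mem_subgroupOf.mp key

end Cert12

end Cfsg.Agent.Lib.H29.Chev
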