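import Mathlib
import Cfsg.Agent.Lib.H29.WcB
import Cfsg.Agent.Lib.H29.ChevGen45

/-!
# Weakly closed subgroups of `U`: the coordinates of height one and the action of the torus
-/

set_option autoImplicit false
set_option linter.unusedSectionVars false
set_option linter.unusedSimpArgs false
set_option linter.unusedVariables false

namespace Cfsg.Agent.Lib.H29.Chev

open Cfsg.Lie Matrix

variable {D : ChevalleyDatum} {fd : FD} {fx : FX} {fc : FC} {fz : FZ} {F : Type*} [Field F]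

namespace Cert12

variable (C : Cert12 D fd fx fc fz)
include C

theorem pos_mem_GF (g : GL D.Idx F) (hg : g ∈ D.posUnipotent F) :
    ((g : GL D.Idx F) : Matrix D.Idx D.Idx F) ∈ GF D F (fd.wtA fx D hwt) 1 := by
  rw [C.posUnipotent_eq] at hg
  unfold Vm at hg
  induction hg using Subgroup.closure_induction_left with
  | one => simp only [Units.val_one]; exact GF_one _ _
  | mul_left x hx y _ ih =>
    obtain ⟨s, t, hs, hps, _, _, rfl⟩ := C.eq_xA_of_VmSet _ _ x hx
    rw [Units.val_mul]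
    exact GF_mul _ 1 one_pos _ _ (C.xA_mem_GF s hs 1 one_pos (by have := C.ht_pos s hs hps; omega) t) ih
  | inv_mul_cancel x hx y _ ih =>
    obtain ⟨s, t, hs, hps, _, _, rfl⟩ := C.eq_xA_of_VmSet _ _ x hx
    rw [C.c6.c2.xA_inv, Units.val_mul]
    exact GF_mul _ 1 one_pos _ _ (C.xA_mem_GF s hs 1 one_pos (by have := C.ht_pos s hs hps; omega) (-t)) ih

theorem coord_mul (r : ℕ) (hr : r < fd.n) (hht : fd.ht fx r = 1) (g g' : GL D.Idx F)
    (hg : g ∈ D.posUnipotent F) (hg' : g' ∈ D.posUnipotent F) :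
    coordM D fd fz F r ((g * g' : GL D.Idx F) : Matrix D.Idx D.Idx F) =
      coordM D fd fz F r (g : Matrix D.Idx D.Idx F) + coordM D fd fz F r (g' : Matrix D.Idx D.Idx F) := by
  rw [Units.val_mul]
  exact C.coordM_mul 1 one_pos r hr hht _ _ (C.pos_mem_GF g hg) (C.pos_mem_GF g' hg')

theorem coord_one (r : ℕ) (hr : r < fd.n) :
    coordM D fd fz F r ((1 : GL D.Idx F) : Matrix D.Idx D.Idx F) = 0 := by
  rw [Units.val_one]
  exact coordM_one r (by rw [C.c6.c2.nroots_eq]; exact hr)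

theorem coord_inv (r : ℕ) (hr : r < fd.n) (hht : fd.ht fx r = 1) (g : GL D.Idx F)
    (hg : g ∈ D.posUnipotent F) :
    coordM D fd fz F r ((g⁻¹ : GL D.Idx F) : Matrix D.Idx D.Idx F) =
      - coordM D fd fz F r (g : Matrix D.Idx D.Idx F) := by
  have h := C.coord_mul r hr hht g g⁻¹ hg (inv_mem hg)
  rw [mul_inv_cancel, C.coord_one r hr] at h
  linear_combination -h

theorem ht_simple (i : ℕ) (hi : i < fd.l) : fd.ht fx (fd.simples.getD i 0) = 1 := by
  unfold FD.ht
  rw [← aJ_empty, C.omr_aJ_simple ∅ i hi]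
  simp [aJ]

/-- the coordinates of height one of a conjugate by an element of `H` -/
theorem coord_conj_diag (k : GL D.Idx F) (hk : k ∈ D.diagonalSubgroup F) (r : Fin D.nroots)
    (hht : fd.ht fx r.val = 1) (g : GL D.Idx F) (hg : g ∈ D.posUnipotent F) :
    coordM D fd fz F r.val ((k * g * k⁻¹ : GL D.Idx F) : Matrix D.Idx D.Idx F) =
      (k : Matrix D.Idx D.Idx F) (Sum.inr r) (Sum.inr r) * coordM D fd fz F r.val (g : Matrix D.Idx D.Idx F) := by
  have hr : r.val < fd.n := by rw [← C.c6.c2.nroots_eq]; exact r.isLt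
  have hconj := (C.c6.c2.diag_conj_x k hk).2
  have hnorm : ∀ y ∈ D.posUnipotent F, k * y * k⁻¹ ∈ D.posUnipotent F := by
    intro y hy
    exact (Subgroup.mem_normalizer_iff.mp (C.c6.c2.diag_le_normalizer_pos hk) y).mp hy
  have hgen : ∀ (s : ℕ) (t : F), s < fd.n → fd.n / 2 ≤ s → ∀ y ∈ D.posUnipotent F,
      coordM D fd fz F r.val ((k * y * k⁻¹ : GL D.Idx F) : Matrix D.Idx D.Idx F) =
        (k : Matrix D.Idx D.Idx F) (Sum.inr r) (Sum.inr r) * coordM D fd fz F r.val (y : Matrix D.Idx D.Idx F) →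
      coordM D fd fz F r.val ((k * (C.c6.c2.xA s t * y) * k⁻¹ : GL D.Idx F) : Matrix D.Idx D.Idx F) =
        (k : Matrix D.Idx D.Idx F) (Sum.inr r) (Sum.inr r) *
          coordM D fd fz F r.val ((C.c6.c2.xA s t * y : GL D.Idx F) : Matrix D.Idx D.Idx F) := by
    intro s t hs hps y hy ih
    have e : k * (C.c6.c2.xA s t * y) * k⁻¹ = (k * C.c6.c2.xA s t * k⁻¹) * (k * y * k⁻¹) := by group
    have hs' : s < D.nroots := by rw [C.c6.c2.nroots_eq]; exact hs
    have e2 := hconj ⟨s, hs'⟩ t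
    simp only at e2
    rw [e, e2, C.coord_mul r.val hr hht _ _ (C.xA_pos_mem s hs hps _) (hnorm y hy), ih,
      C.coord_mul r.val hr hht _ _ (C.xA_pos_mem s hs hps _) hy, C.coordM_xA s r.val hs hr, C.coordM_xA s r.val hs hr]
    by_cases hsr : s = r.val
    · rw [if_pos hsr, if_pos hsr]
      have : (⟨s, hs'⟩ : Fin D.nroots) = r := Fin.ext hsr
      rw [this]
      ring
    · rw [if_neg hsr, if_neg hsr]
      ring
  rw [C.posUnipotent_eq] at hg
  unfold Vm at hg
  induction hg using Subgroup.closure_induction_left with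
  | one =>
    have : k * 1 * k⁻¹ = (1 : GL D.Idx F) := by group
    rw [this, C.coord_one r.val hr, mul_zero]
  | mul_left x hx y hy ih =>
    obtain ⟨s, t, hs, hps, _, _, rfl⟩ := C.eq_xA_of_VmSet _ _ x hx
    have hy' : y ∈ D.posUnipotent F := by rw [C.posUnipotent_eq]; exact hy
    exact hgen s t hs hps y hy' ih
  | inv_mul_cancel x hx y hy ih =>
    obtain ⟨s, t, hs, hps, _, _, rfl⟩ := C.eq_xA_of_VmSet _ _ x hx
    have hy' : y ∈ D.posUnipotent F := by rw [C.posUnipotent_eq]; exact hy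
    rw [C.c6.c2.xA_inv]
    exact hgen s (-t) hs hps y hy' ih

/-- `PsiJ` is closed under the commutator formula -/
theorem closed_PsiJ (J : Set ℕ) (k : ℤ) : fd.Closed (PsiJ fd fx J k) := by
  intro r s hr hs hpr hps hne hΨr hΨs c hc
  obtain ⟨hi, hj⟩ := fd.commT_ij r s c hc
  have hi' : (1 : ℤ) ≤ (c.2.2.1 : ℤ) := by exact_mod_cast hi
  have hj' : (1 : ℤ) ≤ (c.2.2.2 : ℤ) := by exact_mod_cast hj
  have hhr := C.ht_pos r hr hpr
  have hhs := C.ht_pos s hs hps
  constructor
  · rw [C.omr_term _ r s hr hs c hc]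
    nlinarith [hΨr.1, hΨs.1]
  · rw [C.ht_term r s hr hs c hc]
    nlinarith [hΨs.2]

/-- a positive root of height one is fundamental -/
theorem ht_one_simple (r : ℕ) (hr : r < fd.n) (hpos : fd.n / 2 ≤ r) (hht : fd.ht fx r = 1) :
    ∃ j < fd.l, r = fd.simples.getD j 0 := by
  have hnn := C.rcZ_nonneg r hr hpos
  have hsum : ∑ i ∈ Finset.range fd.l, fd.rcZ fx r i = 1 := by
    have : fd.ht fx r = ∑ i ∈ Finset.range fd.l, fd.rcZ fx r i := by
      unfold FD.ht FD.omr
      rw [listsum_eq]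
      apply Finset.sum_congr rfl
      intro i _
      simp [hwt]
    rw [← this, hht]
  have hex : ∃ j ∈ Finset.range fd.l, 0 < fd.rcZ fx r j := by
    by_contra hcon
    have : ∑ i ∈ Finset.range fd.l, fd.rcZ fx r i = 0 := by
      apply Finset.sum_eq_zero
      intro i hi
      have h1 := hnn i (Finset.mem_range.mp hi)
      have h2 : ¬ 0 < fd.rcZ fx r i := fun h => hcon ⟨i, hi, h⟩
      omega
    omega
  obtain ⟨j, hj, hjpos⟩ := hex
  have hjl := Finset.mem_range.mp hj
  have hsplit := Finset.add_sum_erase (Finset.range fd.l) (fun i => fd.rcZ fx r i) hj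
  have hrest : ∀ i ∈ (Finset.range fd.l).erase j, 0 ≤ fd.rcZ fx r i := by
    intro i hi
    exact hnn i (Finset.mem_range.mp (Finset.mem_of_mem_erase hi))
  have hrest0 : ∑ i ∈ (Finset.range fd.l).erase j, fd.rcZ fx r i = 0 := by
    have := Finset.sum_nonneg hrest
    omega
  have hj1 : fd.rcZ fx r j = 1 := by
    omega
  have hzero : ∀ i < fd.l, i ≠ j → fd.rcZ fx r i = 0 := by
    intro i hi hij
    have := (Finset.sum_eq_zero_iff_of_nonneg hrest).mp hrest0 i
      (Finset.mem_erase.mpr ⟨hij, Finset.mem_range.mpr hi⟩)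
    exact this
  refine ⟨j, hjl, ?_⟩
  apply C.fL_inj r _ hr (C.c6.c2.simple_lt j hjl)
  unfold FD.fL
  apply congrArg
  apply List.map_congr_left
  intro i hi
  rw [List.mem_range] at hi
  rw [C.rcZ_simple j i hjl hi]
  by_cases hij : i = j
  · subst hij; rw [hj1, if_pos rfl]
  · rw [hzero i hi hij, if_neg (fun h => hij h.symm)]

/-- an element of `U_J` all of whose coordinates of height one vanish lies in `N_2` -/
theorem mem_NJ_two (J : Set ℕ) (y : GL D.Idx F) (hy : y ∈ NJ D fd fx F J 1)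
    (h0 : ∀ j < fd.l, coordM D fd fz F (fd.simples.getD j 0) (y : Matrix D.Idx D.Idx F) = 0) :
    y ∈ NJ D fd fx F J 2 := by
  have hev := C.c6.c2.heven
  obtain ⟨τ, hτ, rfl⟩ := C.Vm_oprod (PsiJ fd fx J 1) (C.closed_PsiJ J 1) (fd.n - fd.n / 2) (fd.n / 2)
    (by omega) (le_refl _) y hy
  apply C.oprod_mem _ _ _ _ (by omega) (le_refl _)
  intro r hr1 hr2 hΨ
  by_contra hne
  have hΨ1 : PsiJ fd fx J 1 r := by
    by_contra hcon
    exact hne (hτ r (fun h => hcon h.1))
  have hht : fd.ht fx r = 1 := by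
    have h1 := hΨ1.2
    have h2 : ¬ (2 : ℤ) ≤ fd.ht fx r := fun h => hΨ ⟨hΨ1.1, h⟩
    omega
  obtain ⟨j, hj, rfl⟩ := C.ht_one_simple r hr2 hr1 hht
  have := C.coord_oprod (1 : ℤ) one_pos τ (by
    intro s hs1 hs2 hs0
    have := C.ht_pos s hs2 hs1
    omega) _ hr2 hr1 hht
  rw [h0 j hj] at this
  exact hne this.symm

end Cert12

end Cfsg.Agent.Lib.H29.Chev
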