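import Mathlib
import Cfsg.Agent.Lib.H29.WcD

/-!
# Weakly closed subgroups of `U`: the step of height one (separation by the torus)
-/

set_option autoImplicit false
set_option linter.unusedSectionVars false
set_option linter.unusedSimpArgs false
set_option linter.unusedVariables false

namespace Cfsg.Agent.Lib.H29.Chev

open Cfsg.Lie Matrix

variable {D : ChevalleyDatum} {fd : FD} {fx : FX} {fc : FC} {fz : FZ} {F : Type*} [Field F]

/-- the character of the torus at the root `s` -/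
def chiAt (D : ChevalleyDatum) (fd : FD) (F : Type*) [Field F] (s : Fin D.nroots) : (Fin fd.l → Fˣ) →* Fˣ :=
  (Pi.evalMonoidHom (fun _ : D.Idx => Fˣ) (Sum.inr s)).comp (entryHom D fd F)

theorem chiAt_apply (s : Fin D.nroots) (θ : Fin fd.l → Fˣ) :
    chiAt D fd F s θ = ∏ i, θ i ^ fd.carZ i.val s.val := rfl

theorem chiAt_mulSingle (s : Fin D.nroots) (m : Fin fd.l) (g : Fˣ) :
    chiAt D fd F s (Pi.mulSingle m g) = g ^ fd.carZ m.val s.val := by
  rw [chiAt_apply, Finset.prod_eq_single m]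
  · rw [Pi.mulSingle_eq_same]
  · intro j _ hjm
    rw [Pi.mulSingle_eq_of_ne hjm, _root_.one_zpow]
  · intro h; exact absurd (Finset.mem_univ m) h

theorem card_torus_ne_zero [Fintype F] (l : ℕ) [inst : Fintype (Fin l → Fˣ)] :
    ((@Fintype.card (Fin l → Fˣ) inst : ℕ) : F) ≠ 0 := by
  classical
  rw [Fintype.card_eq_nat_card, Nat.card_fun, Nat.card_units, Nat.card_eq_fintype_card,
    Nat.cast_pow, Nat.cast_sub Fintype.card_pos, FiniteField.cast_card_eq_zero]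
  simp

namespace Cert12

variable (C : Cert12 D fd fx fc fz)
include C

/-- the index of the `j`-th fundamental root -/
def sidx (j : Fin fd.l) : Fin D.nroots :=
  ⟨fd.simples.getD j.val 0, by rw [C.c6.c2.nroots_eq]; exact C.c6.c2.simple_lt j.val j.isLt⟩

theorem carZ_self (i : ℕ) (hi : i < fd.l) : fd.carZ i (fd.simples.getD i 0) = 2 := by
  rw [← C.c6.c2.pr_simple i _ hi]
  exact C.c6.c2.pr_self _ (C.c6.c2.simple_lt i hi)

/-- **the step of height one** -/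
theorem base_step [Fintype F] (J : Set ℕ) (X : Subgroup (GL D.Idx F)) (hXJ : X ≤ NJ D fd fx F J 1)
    (hT : ∀ k ∈ D.diagonalSubgroup F, ∀ x ∈ X, k * x * k⁻¹ ∈ X)
    (hsep : ∀ i j, i < fd.l → j < fd.l → i ≠ j → ∀ k : ℕ, ∃ m < fd.l, ∃ g : Fˣ,
      g ^ (fd.carZ m (fd.simples.getD j 0)) ≠ (g ^ (fd.carZ m (fd.simples.getD i 0))) ^ (ringChar F ^ k))
    (i : ℕ) (hi : i < fd.l) (hiJ : i ∉ J)
    (hne : ∃ x ∈ X, coordM D fd fz F (fd.simples.getD i 0) (x : Matrix D.Idx D.Idx F) ≠ 0) (c : F) :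
    C.c6.c2.xA (fd.simples.getD i 0) c ∈ X ⊔ NJ D fd fx F J 2 := by
  classical
  have hXU : X ≤ D.posUnipotent F := le_trans hXJ (C.NJ_le_pos J 1)
  have hsl : ∀ j : Fin fd.l, fd.simples.getD j.val 0 < fd.n := fun j => C.c6.c2.simple_lt j.val j.isLt
  have hht : ∀ j : Fin fd.l, fd.ht fx (fd.simples.getD j.val 0) = 1 := fun j => C.ht_simple j.val j.isLt
  let κ : GL D.Idx F → Fin fd.l → F := fun g j =>
    coordM D fd fz F (fd.simples.getD j.val 0) (g : Matrix D.Idx D.Idx F)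
  have κmul : ∀ g g', g ∈ D.posUnipotent F → g' ∈ D.posUnipotent F → κ (g * g') = κ g + κ g' := by
    intro g g' hg hg'
    funext j
    exact C.coord_mul _ (hsl j) (hht j) g g' hg hg'
  have κone : κ 1 = 0 := by
    funext j
    exact C.coord_one _ (hsl j)
  have κinv : ∀ g, g ∈ D.posUnipotent F → κ g⁻¹ = - κ g := by
    intro g hg
    funext j
    exact C.coord_inv _ (hsl j) (hht j) g hg
  let A : AddSubgroup (Fin fd.l → F) :=
    { carrier := {v | ∃ x ∈ X, κ x = v}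
      zero_mem' := ⟨1, one_mem _, κone⟩
      add_mem' := by
        rintro _ _ ⟨x, hx, rfl⟩ ⟨y, hy, rfl⟩
        exact ⟨x * y, mul_mem hx hy, κmul x y (hXU hx) (hXU hy)⟩
      neg_mem' := by
        rintro _ ⟨x, hx, rfl⟩
        exact ⟨x⁻¹, inv_mem hx, κinv x (hXU hx)⟩ }
  let χ : Fin fd.l → (Fin fd.l → Fˣ) →* Fˣ := fun j => chiAt D fd F (C.sidx j)
  have hA : ∀ (θ : Fin fd.l → Fˣ) (v : Fin fd.l → F), v ∈ A → (fun j => ((χ j θ : Fˣ) : F) * v j) ∈ A := by
    rintro θ _ ⟨x, hx, rfl⟩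
    have hk : chiHom D fd F θ ∈ D.diagonalSubgroup F := by
      rw [C.diag_eq_range]
      exact ⟨θ, rfl⟩
    refine ⟨chiHom D fd F θ * x * (chiHom D fd F θ)⁻¹, hT _ hk x hx, ?_⟩
    funext j
    have := C.coord_conj_diag _ hk (C.sidx j) (hht j) x (hXU hx)
    simp only [κ]
    rw [show (C.sidx j).val = fd.simples.getD j.val 0 from rfl] at this
    rw [this, chiHom_val, Matrix.diagonal_apply_eq]
    rfl
  obtain ⟨x₀, hx₀, hx₀ne⟩ := hne
  have key := Cfsg.Agent.Lib.H18.Wc.tsep (card_torus_ne_zero (F := F) fd.l) χ A hA ⟨i, hi⟩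
    (by
      intro ρ hρ k
      have hρi : (⟨i, hi⟩ : Fin fd.l).val ≠ ρ.val := fun h => hρ (Fin.ext h.symm)
      obtain ⟨m, hm, g, hg⟩ := hsep i ρ.val hi ρ.isLt hρi k
      refine ⟨Pi.mulSingle ⟨m, hm⟩ g, ?_⟩
      simp only [χ]
      rw [chiAt_mulSingle, chiAt_mulSingle]
      exact hg)
    (by
      intro y
      refine ⟨Pi.mulSingle ⟨i, hi⟩ y, ?_⟩
      simp only [χ]
      rw [chiAt_mulSingle]
      show y ^ fd.carZ i (fd.simples.getD i 0) = y ^ 2
      rw [C.carZ_self i hi]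
      norm_cast)
    (κ x₀) ⟨x₀, hx₀, rfl⟩ (c / κ x₀ ⟨i, hi⟩)
  have hcx : c / κ x₀ ⟨i, hi⟩ * κ x₀ ⟨i, hi⟩ = c := div_mul_cancel₀ c hx₀ne
  rw [hcx] at key
  obtain ⟨x, hx, hκx⟩ := key
  -- `x⁻¹ x_{α_i}(c)` has vanishing coordinates of height one
  have hiJ' : 0 < fd.omr fx (aJ J) (fd.simples.getD i 0) := by
    rw [C.omr_aJ_simple J i hi]
    simp [aJ, hiJ]
  have hxa : C.c6.c2.xA (fd.simples.getD i 0) c ∈ NJ D fd fx F J 1 :=
    C.xA_mem_NJ J 1 _ (C.c6.c2.simple_lt i hi) hiJ' (by rw [C.ht_simple i hi]) c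
  have hy : x⁻¹ * C.c6.c2.xA (fd.simples.getD i 0) c ∈ NJ D fd fx F J 2 := by
    apply C.mem_NJ_two J _ (mul_mem (inv_mem (hXJ hx)) hxa)
    intro j hj
    have h1 := κmul x⁻¹ (C.c6.c2.xA (fd.simples.getD i 0) c) (inv_mem (hXU hx))
      (C.NJ_le_pos J 1 hxa)
    rw [κinv x (hXU hx), hκx] at h1
    have h2 := congrFun h1 ⟨j, hj⟩
    simp only [κ, Pi.add_apply, Pi.neg_apply] at h2
    rw [h2, C.coordM_xA _ _ (C.c6.c2.simple_lt i hi) (C.c6.c2.simple_lt j hj)]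
    by_cases hij : i = j
    · subst hij
      simp
    · have hne' : fd.simples.getD i 0 ≠ fd.simples.getD j 0 := by
        intro h
        have h3 := C.rcZ_simple i i hi hi
        rw [h, C.rcZ_simple j i hj hi, if_pos rfl, if_neg (fun e => hij e.symm)] at h3
        omega
      have hji : (⟨j, hj⟩ : Fin fd.l) ≠ ⟨i, hi⟩ := fun h => hij (Fin.mk.inj h).symm
      rw [if_neg hne', Pi.single_eq_of_ne hji]
      simp
  have : C.c6.c2.xA (fd.simples.getD i 0) c = x * (x⁻¹ * C.c6.c2.xA (fd.simples.getD i 0) c) := by group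
  rw [this]
  exact mul_mem ((le_sup_left : X ≤ X ⊔ NJ D fd fx F J 2) hx)
    ((le_sup_right : NJ D fd fx F J 2 ≤ X ⊔ NJ D fd fx F J 2) hy)

end Cert12

end Cfsg.Agent.Lib.H29.Chev
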