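import Mathlib
import Cfsg.Agent.Lib.H29.WcC
import Cfsg.Agent.Lib.H29.WcE

/-!
# Weakly closed subgroups of `U` are unipotent radicals: the general argument
-/

set_option autoImplicit false
set_option linter.unusedSectionVars false
set_option linter.unusedSimpArgs false
set_option linter.unusedVariables false

namespace Cfsg.Agent.Lib.H29.Chev

open Cfsg.Lie Matrix Cfsg.Agent.Lib.H12.ChevSt Cfsg.Agent.Lib.H29.StCount Cfsg.Agent.Lib.H2

variable {D : ChevalleyDatum} {fd : FD} {fx : FX} {fc : FC} {fz : FZ} {F : Type*} [Field F]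

/-- the root `β` can be reached by the commutator formula from two positive roots -/
def FD.Der (fd : FD) (fx : FX) (F : Type*) [Field F] [Fintype F] (β : ℕ) : Prop :=
  ∃ δ γ, δ < fd.n ∧ γ < fd.n ∧ fd.n / 2 ≤ δ ∧ fd.n / 2 ≤ γ ∧ γ ≠ δ ∧
    ((∃ (Cc : ℤ) (L : List (ℕ × ℤ × ℕ × ℕ)), fd.commT δ γ = (β, Cc, 1, 1) :: L ∧ ((Cc : ℤ) : F) ≠ 0 ∧
        ∀ c ∈ L, fd.ht fx β < fd.ht fx c.1) ∨
     (∃ (μ : ℕ) (C11 C21 : ℤ) (L : List (ℕ × ℤ × ℕ × ℕ)),
        fd.commT δ γ = (μ, C11, 1, 1) :: (β, C21, 2, 1) :: L ∧ ((C21 : ℤ) : F) ≠ 0 ∧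
        ∀ c ∈ L, fd.ht fx β < fd.ht fx c.1) ∨
     (4 ≤ Fintype.card F ∧ ∃ (μ₁ μ₂ : ℕ) (C11 C21 C31 : ℤ) (L : List (ℕ × ℤ × ℕ × ℕ)),
        fd.commT δ γ = (μ₁, C11, 1, 1) :: (μ₂, C21, 2, 1) :: (β, C31, 3, 1) :: L ∧ ((C31 : ℤ) : F) ≠ 0 ∧
        (∀ c ∈ L, fd.ht fx β < fd.ht fx c.1) ∧ μ₂ ≠ μ₁ ∧ ∀ c ∈ fd.commT μ₁ μ₂, fd.ht fx β < fd.ht fx c.1))

namespace Cert12

variable (C : Cert12 D fd fx fc fz)
include C

theorem coord_Up_zero (i : ℕ) (hi : i < fd.l) (v : GL D.Idx F) (hv : v ∈ Up D F (fd.simples.getD i 0)) :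
    coordM D fd fz F (fd.simples.getD i 0) (v : Matrix D.Idx D.Idx F) = 0 := by
  have hp := C.c6.c2.simple_lt i hi
  unfold Up at hv
  induction hv using Subgroup.closure_induction_left with
  | one => exact C.coord_one _ hp
  | mul_left x hx y hy ih =>
    obtain ⟨s, t, hs, rfl⟩ := C.c6.eq_xA_of_UpSet _ x hx
    have hy' : y ∈ D.posUnipotent F := C.c6.Up_le_pos _ hy
    rw [C.coord_mul _ hp (C.ht_simple i hi) _ _ (C.xA_pos_mem s hs.1 hs.2.1 t) hy', ih,
      C.coordM_xA s _ hs.1 hp, if_neg hs.2.2, add_zero]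
  | inv_mul_cancel x hx y hy ih =>
    obtain ⟨s, t, hs, rfl⟩ := C.c6.eq_xA_of_UpSet _ x hx
    have hy' : y ∈ D.posUnipotent F := C.c6.Up_le_pos _ hy
    rw [C.c6.c2.xA_inv, C.coord_mul _ hp (C.ht_simple i hi) _ _ (C.xA_pos_mem s hs.1 hs.2.1 (-t)) hy', ih,
      C.coordM_xA s _ hs.1 hp, if_neg hs.2.2, add_zero]

theorem le_Up_of_coord_zero (i : ℕ) (hi : i < fd.l) (X : Subgroup (GL D.Idx F)) (hXU : X ≤ D.posUnipotent F)
    (h0 : ∀ x ∈ X, coordM D fd fz F (fd.simples.getD i 0) (x : Matrix D.Idx D.Idx F) = 0) :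
    X ≤ Up D F (fd.simples.getD i 0) := by
  intro x hx
  have hp := C.c6.c2.simple_lt i hi
  obtain ⟨v, hv, t, rfl⟩ := C.c6.pos_mem_Up_mul i hi x (hXU hx)
  have h1 := h0 _ hx
  rw [C.coord_mul _ hp (C.ht_simple i hi) _ _ (C.c6.Up_le_pos _ hv) (C.xA_pos_mem _ hp (C.c6.simple_pos i hi) t),
    C.coord_Up_zero i hi v hv, C.coordM_xA _ _ hp hp, if_pos rfl, zero_add] at h1
  rw [h1, C.c6.c2.xA_zero, mul_one]
  exact hv

/-- **weakly closed subgroups of `U` are unipotent radicals** (given the root-table facts) -/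
theorem weakly_closed_eq_radical [Fintype F] (hq : 3 ≤ Fintype.card F)
    (hsep : ∀ i j, i < fd.l → j < fd.l → i ≠ j → ∀ k : ℕ, ∃ m < fd.l, ∃ g : Fˣ,
      g ^ (fd.carZ m (fd.simples.getD j 0)) ≠ (g ^ (fd.carZ m (fd.simples.getD i 0))) ^ (ringChar F ^ k))
    (hder : ∀ β, fd.n / 2 ≤ β → β < fd.n → 2 ≤ fd.ht fx β → fd.Der fx F β)
    (X : Subgroup (GL D.Idx F)) (hXU : X ≤ D.posUnipotent F)
    (hwc : ∀ g ∈ D.group F, X.map (MulAut.conj g).toMonoidHom ≤ D.posUnipotent F →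
      X.map (MulAut.conj g).toMonoidHom = X) :
    ∃ J : Set ℕ, (∀ j ∈ J, j < D.rank) ∧ X = D.unipotentRadical F J := by
  classical
  have hev := C.c6.c2.heven
  have hrank := C.c6.c2.rank_eq
  -- `X` is normal in `B`
  have hBn : D.borelSubgroup F ≤ Subgroup.normalizer (D.posUnipotent F : Set (GL D.Idx F)) :=
    sup_le Subgroup.le_normalizer C.c6.c2.diag_le_normalizer_pos
  have hmapmem : ∀ g : GL D.Idx F, X.map (MulAut.conj g).toMonoidHom = X →
      ∀ x ∈ X, g * x * g⁻¹ ∈ X ∧ g⁻¹ * x * g ∈ X := by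
    intro g hg x hx
    constructor
    · rw [← hg]
      exact ⟨x, hx, by simp [MulAut.conj_apply]⟩
    · have hx' := hx
      rw [← hg] at hx'
      obtain ⟨y, hy, e⟩ := hx'
      simp only [MulEquiv.coe_toMonoidHom, MulAut.conj_apply] at e
      rw [← e]
      have : g⁻¹ * (g * y * g⁻¹) * g = y := by group
      rw [this]
      exact hy
  have hB : ∀ b ∈ D.borelSubgroup F, ∀ x ∈ X, b * x * b⁻¹ ∈ X := by
    intro b hb x hx
    have h1 : X.map (MulAut.conj b).toMonoidHom ≤ D.posUnipotent F := by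
      rintro _ ⟨y, hy, rfl⟩
      simp only [MulEquiv.coe_toMonoidHom, MulAut.conj_apply]
      exact (Subgroup.mem_normalizer_iff.mp (hBn hb) y).mp (hXU hy)
    exact (hmapmem b (hwc b (C.c6.c2.borel_le_group hb) h1) x hx).1
  have hXn : ∀ g ∈ D.posUnipotent F, ∀ x ∈ X, g * x * g⁻¹ ∈ X := fun g hg =>
    hB g ((le_sup_left : D.posUnipotent F ≤ D.borelSubgroup F) hg)
  have hT : ∀ k ∈ D.diagonalSubgroup F, ∀ x ∈ X, k * x * k⁻¹ ∈ X := fun k hk =>
    hB k (C.c6.diag_le_borel hk)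
  -- the set `J`
  let K : Finset ℕ := (Finset.range D.rank).filter fun i =>
    X.map (MulAut.conj ((eS D F i : ↥(D.group F)) : GL D.Idx F)).toMonoidHom = X
  have hK : K ⊆ Finset.range D.rank := Finset.filter_subset _ _
  refine ⟨(K : Set ℕ), fun j hj => Finset.mem_range.mp (hK hj), ?_⟩
  have hXJ : X ≤ D.unipotentRadical F (K : Set ℕ) := by
    apply C.le_radical K hK X hXU hT
    intro i hi x hx
    exact hmapmem _ (Finset.mem_filter.mp hi).2 x hx
  rw [← C.NJ_one] at hXJ ⊢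
  apply le_antisymm hXJ
  -- the coordinates of height one
  have hcoord : ∀ i, i < fd.l → i ∉ (K : Set ℕ) →
      ∃ x ∈ X, coordM D fd fz F (fd.simples.getD i 0) (x : Matrix D.Idx D.Idx F) ≠ 0 := by
    intro i hi hiK
    by_contra hcon
    push Not at hcon
    have hle := C.le_Up_of_coord_zero i hi X hXU hcon
    apply hiK
    rw [Finset.mem_coe, Finset.mem_filter, Finset.mem_range]
    refine ⟨by omega, ?_⟩
    apply hwc _ (eS D F i).2
    rintro _ ⟨y, hy, rfl⟩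
    simp only [MulEquiv.coe_toMonoidHom, MulAut.conj_apply]
    apply C.c6.Up_le_pos (fd.simples.getD i 0)
    rw [C.eS_coe i hi]
    exact (Subgroup.mem_normalizer_iff.mp (C.c6.nG_mem_normalizer_Up i hi) y).mp (hle hy)
  -- the induction over the height
  have hstep : ∀ h : ℕ, 1 ≤ h →
      NJ D fd fx F (K : Set ℕ) 1 ≤ X ⊔ NJ D fd fx F (K : Set ℕ) (h : ℤ) := by
    intro h hh
    induction h, hh using Nat.le_induction with
    | base => exact le_sup_right
    | succ h hh ih =>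
      have hh' : (1 : ℤ) ≤ (h : ℤ) := by exact_mod_cast hh
      have key : NJ D fd fx F (K : Set ℕ) (h : ℤ) ≤ X ⊔ NJ D fd fx F (K : Set ℕ) ((h : ℤ) + 1) := by
        apply C.NJ_le_of_gen
        intro s hs hps h1 h2 t
        by_cases hlt : (h : ℤ) < fd.ht fx s
        · exact (le_sup_right : NJ D fd fx F (K : Set ℕ) ((h : ℤ) + 1) ≤ _)
            (C.xA_mem_NJ _ _ s hs h1 (by omega) t)
        have hht : fd.ht fx s = (h : ℤ) := by omega
        by_cases h1' : h = 1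
        · subst h1'
          obtain ⟨i, hi, rfl⟩ := C.ht_one_simple s hs hps (by rw [hht]; rfl)
          have hiK : i ∉ (K : Set ℕ) := by
            intro hiK
            rw [C.omr_aJ_simple _ i hi] at h1
            simp [aJ, hiK] at h1
          have := C.base_step (K : Set ℕ) X hXJ hT hsep i hi hiK (hcoord i hi hiK) t
          exact this
        · have h2' : 2 ≤ fd.ht fx s := by omega
          obtain ⟨δ, γ, hδ, hγ, hpδ, hpγ, hne, hcase⟩ := hder s hps hs h2'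
          rw [hht] at hcase
          rcases hcase with ⟨Cc, L, hcomm, hC, hL⟩ | ⟨μ, C11, C21, L, hcomm, hC, hL⟩ |
            ⟨hq4, μ₁, μ₂, C11, C21, C31, L, hcomm, hC, hL, hμ, hLμ⟩
          · exact C.good_step _ (h : ℤ) X hXU hXn ih s δ γ hδ hγ hpδ hpγ hne Cc L hcomm hC hL h1 t
          · exact C.sp21_step hq _ (h : ℤ) X hXU hXn ih s δ γ μ hδ hγ hpδ hpγ hne C11 C21 L hcomm hC hL h1
              (by omega) t
          · exact C.sp31_step hq4 _ (h : ℤ) X hXU hXn ih s δ γ μ₁ μ₂ hδ hγ hpδ hpγ hne C11 C21 C31 L hcomm hC hL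
              hμ hLμ h1 (by omega) t
      calc NJ D fd fx F (K : Set ℕ) 1 ≤ X ⊔ NJ D fd fx F (K : Set ℕ) (h : ℤ) := ih
        _ ≤ X ⊔ NJ D fd fx F (K : Set ℕ) (((h + 1 : ℕ) : ℤ)) := by
          apply sup_le le_sup_left
          rw [Nat.cast_add, Nat.cast_one]
          exact key
  have hfin := hstep (7 * fd.l + 1) (by omega)
  rw [C.NJ_top (F := F) (K : Set ℕ) ((7 * fd.l + 1 : ℕ) : ℤ) (by push_cast; omega), sup_bot_eq] at hfin
  exact hfin

end Cert12

end Cfsg.Agent.Lib.H29.Chev
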