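import Mathlib
import Cfsg.Agent.Lib.H29.WcF

/-!
# Weakly closed subgroups of `U`: the checks on the root tables
-/

set_option autoImplicit false
set_option linter.unusedSectionVars false
set_option linter.unusedSimpArgs false
set_option linter.unusedVariables false

namespace Cfsg.Agent.Lib.H29.Chev

open Cfsg.Lie Matrix

variable {D : ChevalleyDatum} {fd : FD} {fx : FX} {fc : FC} {fz : FZ} {F : Type*} [Field F]

/-- all the terms of `L` are higher than `β` -/
def FD.tailOK (fd : FD) (fx : FX) (β : ℕ) (L : List (ℕ × ℤ × ℕ × ℕ)) : Bool :=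
  L.all fun c => decide (fd.ht fx β < fd.ht fx c.1)

theorem FD.tailOK_spec {β : ℕ} {L : List (ℕ × ℤ × ℕ × ℕ)} (h : fd.tailOK fx β L = true) :
    ∀ c ∈ L, fd.ht fx β < fd.ht fx c.1 := by
  intro c hc
  unfold FD.tailOK at h
  rw [List.all_eq_true] at h
  exact of_decide_eq_true (h c hc)

/-- the integer is `±1` -/
def pm1 (c : ℤ) : Bool := intBeq c 1 || intBeq c (-1)

theorem pm1_spec {c : ℤ} (h : pm1 c = true) (F : Type*) [Field F] : ((c : ℤ) : F) ≠ 0 := by
  unfold pm1 at h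
  rw [Bool.or_eq_true, intBeq_iff, intBeq_iff] at h
  rcases h with rfl | rfl <;> simp

/-- `β = δ + γ` with structure constant `±1` -/
def FD.chkA (fd : FD) (fx : FX) (β δ γ : ℕ) : Bool :=
  match fd.commT δ γ with
  | c0 :: L => Nat.beq c0.1 β && pm1 c0.2.1 && Nat.beq c0.2.2.1 1 && Nat.beq c0.2.2.2 1 && fd.tailOK fx β L
  | _ => false

/-- `β = 2δ + γ` with coefficient `±1` -/
def FD.chkB (fd : FD) (fx : FX) (β δ γ : ℕ) : Bool :=
  match fd.commT δ γ with
  | c0 :: c1 :: L => Nat.beq c0.2.2.1 1 && Nat.beq c0.2.2.2 1 && Nat.beq c1.1 β && pm1 c1.2.1 &&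
      Nat.beq c1.2.2.1 2 && Nat.beq c1.2.2.2 1 && fd.tailOK fx β L
  | _ => false

/-- `β = 3δ + γ` with coefficient `±1` -/
def FD.chkC (fd : FD) (fx : FX) (β δ γ : ℕ) : Bool :=
  match fd.commT δ γ with
  | c0 :: c1 :: c2 :: L => Nat.beq c0.2.2.1 1 && Nat.beq c0.2.2.2 1 && Nat.beq c1.2.2.1 2 && Nat.beq c1.2.2.2 1 &&
      Nat.beq c2.1 β && pm1 c2.2.1 && Nat.beq c2.2.2.1 3 && Nat.beq c2.2.2.2 1 && fd.tailOK fx β L &&
      !(Nat.beq c1.1 c0.1) && fd.tailOK fx β (fd.commT c0.1 c1.1)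
  | _ => false

/-- the check of the witness `(kind, δ, γ)` for the root `β` -/
def FD.chkDerR (fd : FD) (fx : FX) (four : Bool) (wit : List (ℕ × ℕ × ℕ)) (β : ℕ) : Bool :=
  decide (fd.ht fx β < 2) ||
    (Nat.blt (wit.getD (β - fd.n / 2) (0, 0, 0)).2.1 fd.n && Nat.blt (wit.getD (β - fd.n / 2) (0, 0, 0)).2.2 fd.n &&
      Nat.ble (fd.n / 2) (wit.getD (β - fd.n / 2) (0, 0, 0)).2.1 &&
      Nat.ble (fd.n / 2) (wit.getD (β - fd.n / 2) (0, 0, 0)).2.2 &&
      !(Nat.beq (wit.getD (β - fd.n / 2) (0, 0, 0)).2.2 (wit.getD (β - fd.n / 2) (0, 0, 0)).2.1) &&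
      (bif Nat.beq (wit.getD (β - fd.n / 2) (0, 0, 0)).1 0 then
        fd.chkA fx β (wit.getD (β - fd.n / 2) (0, 0, 0)).2.1 (wit.getD (β - fd.n / 2) (0, 0, 0)).2.2
      else bif Nat.beq (wit.getD (β - fd.n / 2) (0, 0, 0)).1 1 then
        fd.chkB fx β (wit.getD (β - fd.n / 2) (0, 0, 0)).2.1 (wit.getD (β - fd.n / 2) (0, 0, 0)).2.2
      else four && fd.chkC fx β (wit.getD (β - fd.n / 2) (0, 0, 0)).2.1 (wit.getD (β - fd.n / 2) (0, 0, 0)).2.2))

theorem FD.chkDerR_spec [Fintype F] (four : Bool) (h4 : four = true → 4 ≤ Fintype.card F)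
    (wit : List (ℕ × ℕ × ℕ)) (β : ℕ) (h : fd.chkDerR fx four wit β = true) (h2 : 2 ≤ fd.ht fx β) :
    fd.Der fx F β := by
  unfold FD.chkDerR at h
  rw [Bool.or_eq_true] at h
  rcases h with h | h
  · have := of_decide_eq_true h
    omega
  generalize wit.getD (β - fd.n / 2) (0, 0, 0) = w at h
  obtain ⟨k, δ, γ⟩ := w
  simp only [Bool.and_eq_true, natBlt_iff, Nat.ble_eq, Bool.not_eq_true'] at h
  obtain ⟨⟨⟨⟨⟨hδ, hγ⟩, hpδ⟩, hpγ⟩, hne⟩, hcase⟩ := h
  have hne' : γ ≠ δ := by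
    intro e
    rw [e, Nat.beq_refl] at hne
    exact Bool.noConfusion hne
  refine ⟨δ, γ, hδ, hγ, hpδ, hpγ, hne', ?_⟩
  by_cases hk0 : Nat.beq k 0 = true
  · left
    simp only [hk0, cond_true] at hcase
    unfold FD.chkA at hcase
    split at hcase
    · rename_i c0 L heq
      simp only [Bool.and_eq_true, natBeq_iff] at hcase
      obtain ⟨⟨⟨⟨e1, e2⟩, e3⟩, e4⟩, e5⟩ := hcase
      obtain ⟨a, b, i, j⟩ := c0
      simp only at e1 e2 e3 e4
      subst e1 e3 e4
      exact ⟨b, L, heq, pm1_spec e2 F, FD.tailOK_spec e5⟩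
    · exact absurd hcase (by simp)
  · rw [Bool.not_eq_true] at hk0
    simp only [hk0, cond_false] at hcase
    by_cases hk1 : Nat.beq k 1 = true
    · right; left
      simp only [hk1, cond_true] at hcase
      unfold FD.chkB at hcase
      split at hcase
      · rename_i c0 c1 L heq
        simp only [Bool.and_eq_true, natBeq_iff] at hcase
        obtain ⟨⟨⟨⟨⟨⟨e1, e2⟩, e3⟩, e4⟩, e5⟩, e6⟩, e7⟩ := hcase
        obtain ⟨a, b, i, j⟩ := c0
        obtain ⟨a', b', i', j'⟩ := c1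
        simp only at e1 e2 e3 e4 e5 e6
        subst e1 e2 e3 e5 e6
        exact ⟨a, b, b', L, heq, pm1_spec e4 F, FD.tailOK_spec e7⟩
      · exact absurd hcase (by simp)
    · rw [Bool.not_eq_true] at hk1
      simp only [hk1, cond_false, Bool.and_eq_true] at hcase
      right; right
      obtain ⟨hfour, hcase⟩ := hcase
      refine ⟨h4 hfour, ?_⟩
      unfold FD.chkC at hcase
      split at hcase
      · rename_i c0 c1 c2 L heq
        simp only [Bool.and_eq_true, natBeq_iff, Bool.not_eq_true'] at hcase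
        obtain ⟨⟨⟨⟨⟨⟨⟨⟨⟨⟨e1, e2⟩, e3⟩, e4⟩, e5⟩, e6⟩, e7⟩, e8⟩, e9⟩, e10⟩, e11⟩ := hcase
        obtain ⟨a, b, i, j⟩ := c0
        obtain ⟨a', b', i', j'⟩ := c1
        obtain ⟨a'', b'', i'', j''⟩ := c2
        simp only at e1 e2 e3 e4 e5 e6 e7 e8 e10 e11
        subst e1 e2 e3 e4 e5 e7 e8
        have hμ : a' ≠ a := by
          intro e
          rw [e, Nat.beq_refl] at e10
          exact Bool.noConfusion e10
        exact ⟨a, a', b, b', b'', L, heq, pm1_spec e6 F, FD.tailOK_spec e9, hμ, FD.tailOK_spec e11⟩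
      · exact absurd hcase (by simp)

/-- the entries of the Cartan matrix -/
def FD.cartA (fd : FD) (m j : ℕ) : ℤ := fd.carZ m (fd.simples.getD j 0)

/-- the products `A_ij A_ji` lie between `0` and `3` -/
def FD.chkProd (fd : FD) : Bool :=
  (List.range fd.l).all fun i => (List.range fd.l).all fun j =>
    Nat.beq i j || (decide (0 ≤ fd.cartA i j * fd.cartA j i) && decide (fd.cartA i j * fd.cartA j i ≤ 3))

/-- the columns of the Cartan matrix are not proportional modulo `2`, `3`, `4` -/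
def FD.chkSmall (fd : FD) (e6 : Bool) : Bool :=
  [2, 3, 4].all fun n => (Nat.beq n 2 && !e6) ||
    (List.range n).all fun P => (List.range fd.l).all fun i => (List.range fd.l).all fun j =>
      Nat.beq i j || (List.range fd.l).any fun m =>
        !(intBeq ((fd.cartA m j - (P : ℤ) * fd.cartA m i) % (n : ℤ)) 0)

end Cfsg.Agent.Lib.H29.Chev
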