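import Mathlib
import Cfsg.Agent.Lib.H29.WcG
import Cfsg.Agent.Lib.H18.WcSEPAR

/-!
# Weakly closed subgroups of `U` are unipotent radicals: from the checks on the root tables
-/

set_option autoImplicit false
set_option linter.unusedSectionVars false
set_option linter.unusedSimpArgs false
set_option linter.unusedVariables false

namespace Cfsg.Agent.Lib.H29.Chev

open Cfsg.Lie Matrix

variable {D : ChevalleyDatum} {fd : FD} {fx : FX} {fc : FC} {fz : FZ} {F : Type*} [Field F]

theorem Cert12.wc_of_tab (C : Cert12 D fd fx fc fz) [Fintype F] (four e6 : Bool) (wit : List (ℕ × ℕ × ℕ))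
    (hder : ∀ β, fd.n / 2 ≤ β → β < fd.n → fd.chkDerR fx four wit β = true)
    (hprod : fd.chkProd = true) (hsmall : fd.chkSmall e6 = true)
    (hq2 : Fintype.card F ≠ 2) (hq3 : Fintype.card F = 3 → e6 = true) (h4 : four = true → 4 ≤ Fintype.card F)
    (X : Subgroup (GL D.Idx F)) (hXU : X ≤ D.posUnipotent F)
    (hwc : ∀ g ∈ D.group F, X.map (MulAut.conj g).toMonoidHom ≤ D.posUnipotent F →
      X.map (MulAut.conj g).toMonoidHom = X) :
    ∃ J : Set ℕ, (∀ j ∈ J, j < D.rank) ∧ X = D.unipotentRadical F J := by
  have hq : 3 ≤ Fintype.card F := by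
    have := Fintype.one_lt_card (α := F)
    omega
  apply C.weakly_closed_eq_radical hq _ _ X hXU hwc
  · intro i j hi hj hij k
    apply Cfsg.Agent.Lib.H18.Wc.separ fd.l fd.cartA e6 _ _ _ hq2 hq3 i j hi hj hij k
    · intro i hi
      exact C.carZ_self i hi
    · intro i hi j hj hij
      unfold FD.chkProd at hprod
      simp only [List.all_eq_true, List.mem_range, Bool.or_eq_true, natBeq_iff, Bool.and_eq_true,
        decide_eq_true_eq] at hprod
      rcases hprod i hi j hj with h | h
      · exact absurd h hij
      · exact h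
    · intro n hn2 hn4 hne6 P hP i hi j hj hij
      unfold FD.chkSmall at hsmall
      simp only [List.all_eq_true, List.mem_cons, List.not_mem_nil, or_false, List.mem_range, Bool.or_eq_true,
        Bool.and_eq_true, natBeq_iff, Bool.not_eq_true', List.any_eq_true] at hsmall
      have hn : n = 2 ∨ n = 3 ∨ n = 4 := by omega
      rcases hsmall n hn with ⟨h1, h2⟩ | h
      · rw [hne6 h1] at h2
        exact absurd h2 (by simp)
      · rcases h P hP i hi j hj with h | ⟨m, hm, hmod⟩
        · exact absurd h hij
        · refine ⟨m, hm, ?_⟩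
          intro hdvd
          rw [Int.dvd_iff_emod_eq_zero] at hdvd
          rw [hdvd] at hmod
          simp [intBeq] at hmod
  · intro β hβ1 hβ2 h2
    exact FD.chkDerR_spec four h4 wit β (hder β hβ1 hβ2) h2

end Cfsg.Agent.Lib.H29.Chev
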