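import Mathlib
import Cfsg.Agent.Lib.H29.ChevDataB2
import Cfsg.Agent.Lib.H29.ChevDataXB2
import Cfsg.Agent.Lib.H29.WcG

/-!
# Weakly closed subgroups of `U`: the root-table checks for type B2
-/

set_option autoImplicit false

namespace Cfsg.Agent.Lib.H29.Chev

/-- for each positive root `β` of height at least two, a pair `(δ, γ)` of positive roots producing `β` in the
commutator formula, with the kind of the term (0: `δ + γ`, 1: `2δ + γ`, 2: `3δ + γ`) -/
def wcWitB2 : List (ℕ × ℕ × ℕ) :=
  [(0, (0, 0)), (0, (0, 0)), (0, (4, 5)), (1, (5, 4))]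

set_option maxRecDepth 1000000 in
set_option maxHeartbeats 0 in
theorem wcDerB2_c : allR 4 8 (fdB2.chkDerR fxB2 false wcWitB2) = true := by decide +kernel

theorem wcDerB2 : ∀ β, fdB2.n / 2 ≤ β → β < fdB2.n → fdB2.chkDerR fxB2 false wcWitB2 β = true := by
  intro β h1 h2
  have h1' : 4 ≤ β := h1
  have h2' : β < 8 := h2
  exact allR_spec wcDerB2_c β h1' h2'

set_option maxRecDepth 1000000 in
set_option maxHeartbeats 0 in
theorem wcProdB2 : fdB2.chkProd = true := by decide +kernel

set_option maxRecDepth 1000000 in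
set_option maxHeartbeats 0 in
theorem wcSmallB2 : fdB2.chkSmall false = true := by decide +kernel

end Cfsg.Agent.Lib.H29.Chev
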