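import Mathlib
import Cfsg.Agent.Lib.H29.ChevDataD4
import Cfsg.Agent.Lib.H29.ChevDataXD4
import Cfsg.Agent.Lib.H29.WcG

/-!
# Weakly closed subgroups of `U`: the root-table checks for type D4
-/

set_option autoImplicit false

namespace Cfsg.Agent.Lib.H29.Chev

/-- for each positive root `β` of height at least two, a pair `(δ, γ)` of positive roots producing `β` in the
commutator formula, with the kind of the term (0: `δ + γ`, 1: `2δ + γ`, 2: `3δ + γ`) -/
def wcWitD4 : List (ℕ × ℕ × ℕ) :=
  [(0, (0, 0)), (0, (0, 0)), (0, (0, 0)), (0, (12, 14)), (0, (13, 14)), (0, (12, 16)), (0, (0, 0)),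
   (0, (14, 18)), (0, (12, 19)), (0, (13, 19)), (0, (12, 21)), (0, (14, 22))]

set_option maxRecDepth 1000000 in
set_option maxHeartbeats 0 in
theorem wcDerD4_c : allR 12 24 (fdD4.chkDerR fxD4 false wcWitD4) = true := by decide +kernel

theorem wcDerD4 : ∀ β, fdD4.n / 2 ≤ β → β < fdD4.n → fdD4.chkDerR fxD4 false wcWitD4 β = true := by
  intro β h1 h2
  have h1' : 12 ≤ β := h1
  have h2' : β < 24 := h2
  exact allR_spec wcDerD4_c β h1' h2'

set_option maxRecDepth 1000000 in
set_option maxHeartbeats 0 in
theorem wcProdD4 : fdD4.chkProd = true := by decide +kernel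

set_option maxRecDepth 1000000 in
set_option maxHeartbeats 0 in
theorem wcSmallD4 : fdD4.chkSmall false = true := by decide +kernel

end Cfsg.Agent.Lib.H29.Chev
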