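import Mathlib
import Cfsg.Agent.Lib.H29.ChevDataE6
import Cfsg.Agent.Lib.H29.ChevDataXE6
import Cfsg.Agent.Lib.H29.WcG

/-!
# Weakly closed subgroups of `U`: the root-table checks for type E6
-/

set_option autoImplicit false

namespace Cfsg.Agent.Lib.H29.Chev

/-- for each positive root `β` of height at least two, a pair `(δ, γ)` of positive roots producing `β` in the
commutator formula, with the kind of the term (0: `δ + γ`, 1: `2δ + γ`, 2: `3δ + γ`) -/
def wcWitE6 : List (ℕ × ℕ × ℕ) :=
  [(0, (0, 0)), (0, (0, 0)), (0, (36, 37)), (0, (0, 0)), (0, (37, 39)), (0, (36, 40)), (0, (0, 0)),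
   (0, (39, 42)), (0, (37, 43)), (0, (36, 44)), (0, (0, 0)), (0, (39, 46)), (0, (37, 47)), (0, (36, 48)),
   (0, (42, 47)), (0, (37, 50)), (0, (36, 51)), (0, (39, 51)), (0, (36, 53)), (0, (37, 54)), (0, (0, 0)),
   (0, (42, 56)), (0, (39, 57)), (0, (37, 58)), (0, (36, 59)), (0, (46, 58)), (0, (37, 61)), (0, (36, 62)),
   (0, (39, 62)), (0, (36, 64)), (0, (37, 65)), (0, (42, 64)), (0, (36, 67)), (0, (37, 68)), (0, (39, 69)),
   (0, (46, 70))]

set_option maxRecDepth 1000000 in
set_option maxHeartbeats 0 in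
theorem wcDerE6_c : allR 36 72 (fdE6.chkDerR fxE6 false wcWitE6) = true := by decide +kernel

theorem wcDerE6 : ∀ β, fdE6.n / 2 ≤ β → β < fdE6.n → fdE6.chkDerR fxE6 false wcWitE6 β = true := by
  intro β h1 h2
  have h1' : 36 ≤ β := h1
  have h2' : β < 72 := h2
  exact allR_spec wcDerE6_c β h1' h2'

set_option maxRecDepth 1000000 in
set_option maxHeartbeats 0 in
theorem wcProdE6 : fdE6.chkProd = true := by decide +kernel

set_option maxRecDepth 1000000 in
set_option maxHeartbeats 0 in
theorem wcSmallE6 : fdE6.chkSmall true = true := by decide +kernel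

end Cfsg.Agent.Lib.H29.Chev
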