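import Mathlib
import Cfsg.Agent.Lib.H29.ChevDataE7
import Cfsg.Agent.Lib.H29.ChevDataXE7
import Cfsg.Agent.Lib.H29.WcG

/-!
# Weakly closed subgroups of `U`: the root-table checks for type E7
-/

set_option autoImplicit false

namespace Cfsg.Agent.Lib.H29.Chev

/-- for each positive root `β` of height at least two, a pair `(δ, γ)` of positive roots producing `β` in the
commutator formula, with the kind of the term (0: `δ + γ`, 1: `2δ + γ`, 2: `3δ + γ`) -/
def wcWitE7 : List (ℕ × ℕ × ℕ) :=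
  [(0, (0, 0)), (0, (0, 0)), (0, (63, 64)), (0, (0, 0)), (0, (64, 66)), (0, (63, 67)), (0, (0, 0)),
   (0, (66, 69)), (0, (64, 70)), (0, (63, 71)), (0, (0, 0)), (0, (69, 73)), (0, (66, 74)), (0, (64, 75)),
   (0, (63, 76)), (0, (0, 0)), (0, (69, 78)), (0, (66, 79)), (0, (64, 80)), (0, (63, 81)), (0, (73, 79)),
   (0, (66, 83)), (0, (64, 84)), (0, (63, 85)), (0, (69, 84)), (0, (64, 87)), (0, (63, 88)), (0, (66, 88)),
   (0, (63, 90)), (0, (64, 91)), (0, (0, 0)), (0, (73, 93)), (0, (69, 94)), (0, (66, 95)), (0, (64, 96)),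
   (0, (63, 97)), (0, (78, 95)), (0, (66, 99)), (0, (64, 100)), (0, (63, 101)), (0, (69, 100)),
   (0, (64, 103)), (0, (63, 104)), (0, (66, 104)), (0, (63, 106)), (0, (64, 107)), (0, (73, 103)),
   (0, (64, 109)), (0, (63, 110)), (0, (66, 110)), (0, (63, 112)), (0, (64, 113)), (0, (69, 112)),
   (0, (63, 115)), (0, (64, 116)), (0, (66, 117)), (0, (78, 115)), (0, (63, 119)), (0, (64, 120)),
   (0, (66, 121)), (0, (69, 122)), (0, (73, 123)), (0, (93, 124))]

set_option maxRecDepth 1000000 in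
set_option maxHeartbeats 0 in
theorem wcDerE7_c : allR 63 126 (fdE7.chkDerR fxE7 false wcWitE7) = true := by decide +kernel

theorem wcDerE7 : ∀ β, fdE7.n / 2 ≤ β → β < fdE7.n → fdE7.chkDerR fxE7 false wcWitE7 β = true := by
  intro β h1 h2
  have h1' : 63 ≤ β := h1
  have h2' : β < 126 := h2
  exact allR_spec wcDerE7_c β h1' h2'

set_option maxRecDepth 1000000 in
set_option maxHeartbeats 0 in
theorem wcProdE7 : fdE7.chkProd = true := by decide +kernel

set_option maxRecDepth 1000000 in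
set_option maxHeartbeats 0 in
theorem wcSmallE7 : fdE7.chkSmall true = true := by decide +kernel

end Cfsg.Agent.Lib.H29.Chev
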