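import Mathlib
import Cfsg.Agent.Lib.H29.ChevDataE8
import Cfsg.Agent.Lib.H29.ChevDataXE8
import Cfsg.Agent.Lib.H29.WcG

/-!
# Weakly closed subgroups of `U`: the root-table checks for type E8
-/

set_option autoImplicit false

namespace Cfsg.Agent.Lib.H29.Chev

/-- for each positive root `β` of height at least two, a pair `(δ, γ)` of positive roots producing `β` in the
commutator formula, with the kind of the term (0: `δ + γ`, 1: `2δ + γ`, 2: `3δ + γ`) -/
def wcWitE8 : List (ℕ × ℕ × ℕ) :=
  [(0, (0, 0)), (0, (0, 0)), (0, (120, 121)), (0, (0, 0)), (0, (121, 123)), (0, (120, 124)), (0, (0, 0)),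
   (0, (123, 126)), (0, (121, 127)), (0, (120, 128)), (0, (0, 0)), (0, (126, 130)), (0, (123, 131)),
   (0, (121, 132)), (0, (120, 133)), (0, (0, 0)), (0, (130, 135)), (0, (126, 136)), (0, (123, 137)),
   (0, (121, 138)), (0, (120, 139)), (0, (0, 0)), (0, (130, 141)), (0, (126, 142)), (0, (123, 143)),
   (0, (121, 144)), (0, (120, 145)), (0, (135, 142)), (0, (126, 147)), (0, (123, 148)), (0, (121, 149)),
   (0, (120, 150)), (0, (130, 148)), (0, (123, 152)), (0, (121, 153)), (0, (120, 154)), (0, (126, 153)),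
   (0, (121, 156)), (0, (120, 157)), (0, (123, 157)), (0, (120, 159)), (0, (121, 160)), (0, (0, 0)),
   (0, (135, 162)), (0, (130, 163)), (0, (126, 164)), (0, (123, 165)), (0, (121, 166)), (0, (120, 167)),
   (0, (141, 164)), (0, (126, 169)), (0, (123, 170)), (0, (121, 171)), (0, (120, 172)), (0, (130, 170)),
   (0, (123, 174)), (0, (121, 175)), (0, (120, 176)), (0, (126, 175)), (0, (121, 178)), (0, (120, 179)),
   (0, (123, 179)), (0, (120, 181)), (0, (121, 182)), (0, (135, 174)), (0, (123, 184)), (0, (121, 185)),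
   (0, (120, 186)), (0, (126, 185)), (0, (121, 188)), (0, (120, 189)), (0, (123, 189)), (0, (120, 191)),
   (0, (121, 192)), (0, (130, 188)), (0, (121, 194)), (0, (120, 195)), (0, (123, 195)), (0, (120, 197)),
   (0, (121, 198)), (0, (126, 197)), (0, (120, 200)), (0, (121, 201)), (0, (123, 202)), (0, (141, 194)),
   (0, (121, 204)), (0, (120, 205)), (0, (123, 205)), (0, (120, 207)), (0, (121, 208)), (0, (126, 207)),
   (0, (120, 210)), (0, (121, 211)), (0, (123, 212)), (0, (130, 210)), (0, (120, 214)), (0, (121, 215)),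
   (0, (123, 216)), (0, (126, 217)), (0, (135, 214)), (0, (120, 219)), (0, (121, 220)), (0, (123, 221)),
   (0, (126, 222)), (0, (130, 223)), (0, (141, 224)), (0, (162, 219)), (0, (120, 226)), (0, (121, 227)),
   (0, (123, 228)), (0, (126, 229)), (0, (130, 230)), (0, (135, 231)), (0, (141, 231)), (0, (135, 233)),
   (0, (130, 234)), (0, (126, 235)), (0, (123, 236)), (0, (121, 237)), (0, (120, 238))]

set_option maxRecDepth 1000000 in
set_option maxHeartbeats 0 in
theorem wcDerE8_c : allR 120 240 (fdE8.chkDerR fxE8 false wcWitE8) = true := by decide +kernel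

theorem wcDerE8 : ∀ β, fdE8.n / 2 ≤ β → β < fdE8.n → fdE8.chkDerR fxE8 false wcWitE8 β = true := by
  intro β h1 h2
  have h1' : 120 ≤ β := h1
  have h2' : β < 240 := h2
  exact allR_spec wcDerE8_c β h1' h2'

set_option maxRecDepth 1000000 in
set_option maxHeartbeats 0 in
theorem wcProdE8 : fdE8.chkProd = true := by decide +kernel

set_option maxRecDepth 1000000 in
set_option maxHeartbeats 0 in
theorem wcSmallE8 : fdE8.chkSmall true = true := by decide +kernel

end Cfsg.Agent.Lib.H29.Chev
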