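import Mathlib
import Cfsg.Agent.Lib.H29.ChevDataF4
import Cfsg.Agent.Lib.H29.ChevDataXF4
import Cfsg.Agent.Lib.H29.WcG

/-!
# Weakly closed subgroups of `U`: the root-table checks for type F4
-/

set_option autoImplicit false

namespace Cfsg.Agent.Lib.H29.Chev

/-- for each positive root `β` of height at least two, a pair `(δ, γ)` of positive roots producing `β` in the
commutator formula, with the kind of the term (0: `δ + γ`, 1: `2δ + γ`, 2: `3δ + γ`) -/
def wcWitF4 : List (ℕ × ℕ × ℕ) :=
  [(0, (0, 0)), (0, (0, 0)), (0, (24, 25)), (0, (0, 0)), (0, (25, 27)), (0, (24, 28)), (1, (27, 25)),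
   (0, (24, 30)), (0, (25, 31)), (0, (0, 0)), (0, (27, 33)), (0, (25, 34)), (0, (24, 35)), (0, (27, 35)),
   (0, (24, 37)), (0, (25, 38)), (0, (27, 39)), (1, (33, 30)), (0, (24, 41)), (0, (25, 42)), (0, (27, 43)),
   (0, (30, 42)), (0, (25, 45)), (0, (24, 46))]

set_option maxRecDepth 1000000 in
set_option maxHeartbeats 0 in
theorem wcDerF4_c : allR 24 48 (fdF4.chkDerR fxF4 false wcWitF4) = true := by decide +kernel

theorem wcDerF4 : ∀ β, fdF4.n / 2 ≤ β → β < fdF4.n → fdF4.chkDerR fxF4 false wcWitF4 β = true := by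
  intro β h1 h2
  have h1' : 24 ≤ β := h1
  have h2' : β < 48 := h2
  exact allR_spec wcDerF4_c β h1' h2'

set_option maxRecDepth 1000000 in
set_option maxHeartbeats 0 in
theorem wcProdF4 : fdF4.chkProd = true := by decide +kernel

set_option maxRecDepth 1000000 in
set_option maxHeartbeats 0 in
theorem wcSmallF4 : fdF4.chkSmall false = true := by decide +kernel

end Cfsg.Agent.Lib.H29.Chev
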