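import Mathlib
import Cfsg.Agent.Lib.H29.ChevDataG2
import Cfsg.Agent.Lib.H29.ChevDataXG2
import Cfsg.Agent.Lib.H29.WcG

/-!
# Weakly closed subgroups of `U`: the root-table checks for type G2
-/

set_option autoImplicit false

namespace Cfsg.Agent.Lib.H29.Chev

/-- for each positive root `β` of height at least two, a pair `(δ, γ)` of positive roots producing `β` in the
commutator formula, with the kind of the term (0: `δ + γ`, 1: `2δ + γ`, 2: `3δ + γ`) -/
def wcWitG2 : List (ℕ × ℕ × ℕ) :=
  [(0, (0, 0)), (0, (0, 0)), (0, (6, 7)), (1, (7, 6)), (2, (7, 6)), (0, (6, 10))]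

set_option maxRecDepth 1000000 in
set_option maxHeartbeats 0 in
theorem wcDerG2_c : allR 6 12 (fdG2.chkDerR fxG2 true wcWitG2) = true := by decide +kernel

theorem wcDerG2 : ∀ β, fdG2.n / 2 ≤ β → β < fdG2.n → fdG2.chkDerR fxG2 true wcWitG2 β = true := by
  intro β h1 h2
  have h1' : 6 ≤ β := h1
  have h2' : β < 12 := h2
  exact allR_spec wcDerG2_c β h1' h2'

set_option maxRecDepth 1000000 in
set_option maxHeartbeats 0 in
theorem wcProdG2 : fdG2.chkProd = true := by decide +kernel

set_option maxRecDepth 1000000 in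
set_option maxHeartbeats 0 in
theorem wcSmallG2 : fdG2.chkSmall false = true := by decide +kernel

end Cfsg.Agent.Lib.H29.Chev
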