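import Mathlib

/-!
# Derived length of regular wreath products

* `isSolvable_pi`, `isSolvable_wreath`: solvability of powers and of `D ≀ᵣ Q`.
* `derivedSeries_ne_bot_of_wreath`: a group `K ≤ D ≀ᵣ Q` containing `P ∩ base`, where `P` contains all
  commutators `[x, w]` (`x` in the base group, `w` fixed with nontrivial top part), has derived length
  at least that of `D`.
* `derivedSeries_succ_wreath_ne_bot`: `dl (D ≀ᵣ Q) ≥ dl D + 1` for nontrivial `Q`.
* `exists_solvable_derivedSeries_ne_bot`: finite solvable groups of arbitrarily large derived length.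
-/

set_option autoImplicit false

namespace Cfsg.Agent.Lib.H29

open RegularWreathProduct

theorem derivedSeries_pi_le {ι D : Type*} [Group D] (n : ℕ) :
    derivedSeries (ι → D) n ≤ Subgroup.pi Set.univ (fun _ => derivedSeries D n) := by
  induction n with
  | zero =>
    intro x _
    rw [Subgroup.mem_pi]
    intro i _
    rw [derivedSeries_zero]; trivial
  | succ n ih =>
    rw [derivedSeries_succ, derivedSeries_succ]
    exact (Subgroup.commutator_mono ih ih).trans (Subgroup.commutator_pi_pi_le _ _)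

theorem isSolvable_pi {ι D : Type*} [Group D] [hD : Group.IsSolvable D] : Group.IsSolvable (ι → D) := by
  obtain ⟨n, hn⟩ := hD
  refine ⟨n, ?_⟩
  rw [eq_bot_iff]
  intro x hx
  have := derivedSeries_pi_le (ι := ι) (D := D) n hx
  rw [Subgroup.mem_pi] at this
  rw [Subgroup.mem_bot]
  funext i
  have h := this i trivial
  rw [hn, Subgroup.mem_bot] at h
  exact h

variable {D Q : Type*} [Group D] [Group Q]

/-- The base group embedding `(Q → D) →* D ≀ᵣ Q`. -/
def baseHom : (Q → D) →* D ≀ᵣ Q where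
  toFun f := ⟨f, 1⟩
  map_one' := rfl
  map_mul' a b := by ext <;> simp

theorem ker_rightHom_le_range_baseHom :
    (rightHom : D ≀ᵣ Q →* Q).ker ≤ (baseHom : (Q → D) →* D ≀ᵣ Q).range := by
  intro x hx
  refine ⟨x.left, ?_⟩
  ext
  · rfl
  · exact hx.symm

theorem isSolvable_wreath [Group.IsSolvable D] [Group.IsSolvable Q] : Group.IsSolvable (D ≀ᵣ Q) := by
  have : Group.IsSolvable (Q → D) := isSolvable_pi
  exact Group.isSolvable_of_ker_le_range (baseHom : (Q → D) →* D ≀ᵣ Q) rightHom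
    ker_rightHom_le_range_baseHom

/-- The preimage of a solvable subgroup of `Q` in `D ≀ᵣ Q` is solvable. -/
theorem isSolvable_comap_rightHom [Group.IsSolvable D] (T₁ : Subgroup Q) [Group.IsSolvable T₁] :
    Group.IsSolvable (T₁.comap (rightHom : D ≀ᵣ Q →* Q)) := by
  have : Group.IsSolvable (Q → D) := isSolvable_pi
  let f : (Q → D) →* T₁.comap (rightHom : D ≀ᵣ Q →* Q) :=
    (baseHom : (Q → D) →* D ≀ᵣ Q).codRestrict _ (fun x => by
      rw [Subgroup.mem_comap]
      exact T₁.one_mem)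
  let g : T₁.comap (rightHom : D ≀ᵣ Q →* Q) →* T₁ :=
    ((rightHom : D ≀ᵣ Q →* Q).comp (Subgroup.subtype _)).codRestrict _ (fun x => x.2)
  refine Group.isSolvable_of_ker_le_range f g ?_
  intro x hx
  have hx' : x.1.right = 1 := by
    have := congrArg Subtype.val (MonoidHom.mem_ker.mp hx)
    exact this
  refine ⟨x.1.left, ?_⟩
  apply Subtype.ext
  change (⟨x.1.left, 1⟩ : D ≀ᵣ Q) = x.1
  ext
  · rfl
  · exact hx'.symm

/-- Evaluation at `1` on the base group, a homomorphism. -/
def evOne : (rightHom : D ≀ᵣ Q →* Q).ker →* D where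
  toFun a := a.1.left 1
  map_one' := rfl
  map_mul' a b := by
    have ha : a.1.right = 1 := a.2
    simp [ha]

theorem exists_evOne_eq (P : Subgroup (D ≀ᵣ Q)) (w : D ≀ᵣ Q) (hw : w.right ≠ 1)
    (hP : ∀ x : D ≀ᵣ Q, x.right = 1 → x * w * x⁻¹ * w⁻¹ ∈ P) (s : D) :
    ∃ y : D ≀ᵣ Q, y ∈ P ∧ y.right = 1 ∧ y.left 1 = s := by
  classical
  let x : D ≀ᵣ Q := ⟨Pi.mulSingle 1 s, 1⟩
  refine ⟨x * w * x⁻¹ * w⁻¹, hP x rfl, ?_, ?_⟩
  · simp [x]
  · have h1 : w.right⁻¹ ≠ 1 := by simpa using hw
    simp [x, Pi.mulSingle_eq_of_ne h1]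

/-- A group `K` embedded in `D ≀ᵣ Q` and containing `P ∩ base` has derived length at least that of
`D`. -/
theorem derivedSeries_ne_bot_of_wreath {K : Type*} [Group K] (ι : K →* D ≀ᵣ Q)
    (P : Subgroup (D ≀ᵣ Q)) (w : D ≀ᵣ Q) (hw : w.right ≠ 1)
    (hP : ∀ x : D ≀ᵣ Q, x.right = 1 → x * w * x⁻¹ * w⁻¹ ∈ P)
    (hK : ∀ y ∈ P, y.right = 1 → y ∈ ι.range) (k : ℕ) (hD : derivedSeries D k ≠ ⊥) :
    derivedSeries K k ≠ ⊥ := by
  let C : Subgroup K := (rightHom : D ≀ᵣ Q →* Q).ker.comap ι
  let θ₀ : C →* (rightHom : D ≀ᵣ Q →* Q).ker :=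
    (ι.comp C.subtype).codRestrict _ (fun c => c.2)
  let θ : C →* D := evOne.comp θ₀
  have hθ : Function.Surjective θ := by
    intro s
    obtain ⟨y, hyP, hy1, hys⟩ := exists_evOne_eq P w hw hP s
    obtain ⟨c, hc⟩ := hK y hyP hy1
    refine ⟨⟨c, ?_⟩, ?_⟩
    · change ι c ∈ (rightHom : D ≀ᵣ Q →* Q).ker
      rw [hc]; exact hy1
    · change (ι c).left 1 = s
      rw [hc]; exact hys
  have h1 := map_derivedSeries_eq hθ k
  intro hbot
  have h2 := map_derivedSeries_le_derivedSeries C.subtype k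
  rw [hbot, le_bot_iff, (Subgroup.map_eq_bot_iff_of_injective _ C.subtype_injective)] at h2
  rw [h2, Subgroup.map_bot] at h1
  exact hD h1.symm

theorem derivedSeries_succ_eq_map (B : Type*) [Group B] (k : ℕ) :
    derivedSeries B (k + 1) = (derivedSeries (commutator B) k).map (commutator B).subtype := by
  induction k with
  | zero =>
    rw [derivedSeries_one, derivedSeries_zero, ← MonoidHom.range_eq_map, Subgroup.range_subtype]
  | succ k ih =>
    rw [derivedSeries_succ, ih, derivedSeries_succ, Subgroup.map_commutator]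

/-- `dl (D ≀ᵣ Q) ≥ dl D + 1` for nontrivial `Q`. -/
theorem derivedSeries_succ_wreath_ne_bot [Nontrivial Q] (k : ℕ) (hD : derivedSeries D k ≠ ⊥) :
    derivedSeries (D ≀ᵣ Q) (k + 1) ≠ ⊥ := by
  obtain ⟨q, hq⟩ := exists_ne (1 : Q)
  have h := derivedSeries_ne_bot_of_wreath (K := commutator (D ≀ᵣ Q)) (Subgroup.subtype _)
    (commutator (D ≀ᵣ Q)) (inl q) hq
    (fun x _ => by
      rw [commutator_def]
      exact Subgroup.commutator_mem_commutator (Subgroup.mem_top x) (Subgroup.mem_top (inl q)))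
    (fun y hy _ => by rw [Subgroup.range_subtype]; exact hy) k hD
  rw [derivedSeries_succ_eq_map]
  intro hbot
  rw [Subgroup.map_eq_bot_iff_of_injective _ (Subgroup.subtype_injective _)] at hbot
  exact h hbot

/-- Finite solvable groups of arbitrarily large derived length. -/
theorem exists_solvable_derivedSeries_ne_bot (k : ℕ) :
    ∃ (S : Type) (_ : Group S) (_ : Finite S), Group.IsSolvable S ∧ derivedSeries S k ≠ ⊥ := by
  induction k with
  | zero =>
    refine ⟨Multiplicative (ZMod 2), inferInstance, inferInstance, inferInstance, ?_⟩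
    rw [derivedSeries_zero]
    exact top_ne_bot
  | succ k ih =>
    obtain ⟨S, hG, hF, hS, hk⟩ := ih
    refine ⟨S ≀ᵣ Multiplicative (ZMod 2), inferInstance, inferInstance, isSolvable_wreath, ?_⟩
    exact derivedSeries_succ_wreath_ne_bot k hk

end Cfsg.Agent.Lib.H29
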